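import Mathlib
import Cfsg.Agent.S2261
import Cfsg.Agent.Lib.H13.AutPSLField

/-!
T5 for S2262 (requested by helper11): a Singer-cycle automorphism of `PSL_d(F)`.
-/

set_option autoImplicit false

namespace Cfsg.Agent.Lib.H1.APM

open Matrix

theorem exists_singer {F : Type*} [Field F] [Fintype F] (d : ℕ) (hd : 2 ≤ d) :
    ∃ φ : MulAut (Matrix.ProjectiveSpecialLinearGroup (Fin d) F),
      (Fintype.card F - 1) * orderOf φ = Fintype.card F ^ d - 1 := by
  obtain ⟨g, hg⟩ := Cfsg.Agent.S2261.part2 (F := F) d (by omega)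
  obtain ⟨A, rfl⟩ := QuotientGroup.mk_surjective g
  refine ⟨Cfsg.Agent.Lib.H13.AutPSL.cGL A, ?_⟩
  have hker := Cfsg.Agent.Lib.H13.AutPSL.cGL_ker (F := F) hd
    (Cfsg.Agent.Lib.H13.AutPSL.hasParPA_of hd)
  have hord : orderOf (Cfsg.Agent.Lib.H13.AutPSL.cGL A) =
      orderOf (QuotientGroup.mk A : GL (Fin d) F ⧸ Subgroup.center (GL (Fin d) F)) := by
    apply orderOf_eq_orderOf_iff.mpr
    intro n
    rw [← map_pow, ← QuotientGroup.mk_pow, QuotientGroup.eq_one_iff, ← hker, MonoidHom.mem_ker]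
  rw [hord]
  exact hg

end Cfsg.Agent.Lib.H1.APM
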