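import Mathlib
import Cfsg.Prelude.Def_Blocks
import Cfsg.Prelude.Def_CharExt
import Cfsg.Agent.Lib.H21.AD.Defs
import Cfsg.Agent.Lib.H28.NT.Defs
import Cfsg.Agent.Lib.H21.AP.Defs
import Cfsg.Agent.Lib.H23.ADBR
import Cfsg.Agent.Lib.H23.CliffordCorr

/-!
# S4551 piece (OVER) (helper1)

`N ≤ J` subgroups of a finite group, `θ` irreducible on `N` with nonzero `p`-regular sum:
some irreducible `f` of `J` over `θ` has nonzero `p`-regular sum.
(Frobenius reciprocity against the indicator of the `p`-regular elements.)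
-/

set_option autoImplicit false

open Cfsg.Agent.Lib.H21.AD Cfsg.Agent.Lib.H28.NT Cfsg.Agent.Lib.H21.AP
open scoped ComplexConjugate

namespace Cfsg.Agent.Lib.H1.AP

open Cfsg.Agent.Lib.L0

/-- the indicator of the `p`-regular elements -/
noncomputable def regInd (p : ℕ) (X : Type*) [Group X] : X → ℂ :=
  fun x => if p ∣ orderOf x then 0 else 1

theorem regInd_isClassFunction (p : ℕ) (X : Type*) [Group X] :
    Cfsg.IsClassFunction X (regInd p X) := by
  intro g k
  unfold regInd
  have h : orderOf (k * g * k⁻¹) = orderOf g := by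
    have := orderOf_injective (MulAut.conj k).toMonoidHom (MulAut.conj k).injective g
    simpa using this
  rw [h]

theorem classInner_regInd_eq (p : ℕ) {X : Type*} [Group X] [Fintype X] (χ : X → ℂ) :
    Cfsg.classInner χ (regInd p X) =
      (Nat.card X : ℂ)⁻¹ * ∑ x : X, if p ∣ orderOf x then 0 else χ x := by
  unfold Cfsg.classInner regInd
  congr 1
  refine Finset.sum_congr rfl fun x _ => ?_
  by_cases h : p ∣ orderOf x
  · simp [h]
  · simp [h]

variable {G : Type*} [Group G] [Finite G]

theorem exists_over (p : ℕ) (N J : Subgroup G) (hNJ : N ≤ J) (θ : G → ℂ)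
    (hirr : Cfsg.IsIrrCharacter N (fun n : N => θ n)) (hB : sSum p N θ ≠ 0) :
    ∃ f : G → ℂ, Cfsg.IsIrrCharacter J (fun y : J => f y) ∧ sSum p J f ≠ 0 ∧ iSum N f θ ≠ 0 := by
  classical
  let _ : Fintype G := Fintype.ofFinite G
  let _ : Fintype J := Fintype.ofFinite J
  let _ : Fintype N := Fintype.ofFinite N
  let _ : Fintype (N.subgroupOf J) := Fintype.ofFinite _
  let e : N.subgroupOf J ≃* N := Subgroup.subgroupOfEquivOfLe hNJ
  have he : ∀ h : N.subgroupOf J, ((e h : N) : G) = ((h : J) : G) := fun h => rfl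
  set θ' : N.subgroupOf J → ℂ := (fun n : N => θ n) ∘ e with hθ'def
  have hθ' : Cfsg.IsIrrCharacter (N.subgroupOf J) θ' :=
    isIrrCharacter_comp_of_surjective e.toMonoidHom e.surjective hirr
  -- the induced character and its decomposition
  have hΘ : Cfsg.IsCharacter J (Cfsg.indFun (N.subgroupOf J) θ') :=
    isCharacter_indFun _ (isCharacter_of_irr hθ')
  obtain ⟨l, hl, hΘl⟩ := isCharacter_exists_irr_decomp hΘ
  -- Frobenius against the indicator
  have hF1 : Cfsg.classInner (Cfsg.indFun (N.subgroupOf J) θ') (regInd p J) =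
      Cfsg.classInner θ' (fun h : N.subgroupOf J => regInd p J h) :=
    frobenius_reciprocity _ θ' _ (regInd_isClassFunction p J)
  have hF2 : Cfsg.classInner θ' (fun h : N.subgroupOf J => regInd p J h) =
      Cfsg.classInner (fun n : N => θ n) (regInd p N) := by
    have h1 : (fun h : N.subgroupOf J => regInd p J (h : J)) = regInd p N ∘ e := by
      funext h
      simp only [regInd, Function.comp]
      have : orderOf (e h) = orderOf (h : J) := by
        rw [← Subgroup.orderOf_coe (e h), ← Subgroup.orderOf_coe (h : J), he]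
      rw [this]
    rw [h1, hθ'def]
    exact Cfsg.Agent.Lib.H23.classInner_comp_equiv e _ _
  have hF3 : Cfsg.classInner (fun n : N => θ n) (regInd p N) ≠ 0 := by
    rw [classInner_regInd_eq]
    have hN : (Nat.card N : ℂ) ≠ 0 := by exact_mod_cast (Nat.card_pos (α := N)).ne'
    refine mul_ne_zero (inv_ne_zero hN) ?_
    rw [Cfsg.Agent.Lib.H23.AD.sSum_eq_finsum_subtype, finsum_eq_sum_of_fintype] at hB
    exact hB
  -- some constituent has nonzero inner product with the indicator
  have hex : ∃ χ ∈ l, Cfsg.classInner χ (regInd p J) ≠ 0 := by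
    by_contra hcon
    push Not at hcon
    apply hF3
    rw [← hF2, ← hF1, hΘl, classInner_list_sum_left]
    apply List.sum_eq_zero
    intro x hx
    rw [List.mem_map] at hx
    obtain ⟨χ, hχ, rfl⟩ := hx
    exact hcon χ hχ
  obtain ⟨χ, hχl, hχr⟩ := hex
  have hχirr := hl χ hχl
  have hcount : Cfsg.classInner (Cfsg.indFun (N.subgroupOf J) θ') χ ≠ 0 := by
    rw [hΘl, classInner_irr_list_sum hl hχirr]
    have : 0 < l.count χ := List.count_pos_iff.mpr hχl
    exact_mod_cast this.ne'
  rw [frobenius_reciprocity _ θ' _ (isClassFunction_of_isCharacter (isCharacter_of_irr hχirr))]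
    at hcount
  refine ⟨Cfsg.extendByZero J χ, ?_, ?_, ?_⟩
  · have : (fun y : J => Cfsg.extendByZero J χ y) = χ := by
      funext y; exact extendByZero_apply_mem J χ y
    rw [this]; exact hχirr
  · rw [Cfsg.Agent.Lib.H23.AD.sSum_eq_finsum_subtype, finsum_eq_sum_of_fintype]
    rw [classInner_regInd_eq] at hχr
    intro h0
    apply hχr
    have : (∑ x : J, if p ∣ orderOf x then 0 else χ x) =
        ∑ x : J, if p ∣ orderOf x then 0 else Cfsg.extendByZero J χ x := by
      refine Finset.sum_congr rfl fun y _ => ?_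
      rw [extendByZero_apply_mem]
    rw [this, h0, mul_zero]
  · rw [iSum_eq]
    have hN : (Nat.card N : ℂ) ≠ 0 := by exact_mod_cast (Nat.card_pos (α := N)).ne'
    refine mul_ne_zero hN ?_
    intro h0
    apply hcount
    have h2 : Cfsg.classInner θ' (fun h : N.subgroupOf J => χ h) =
        Cfsg.classInner (fun n : N => θ n) (fun n : N => Cfsg.extendByZero J χ n) := by
      have h1 : (fun h : N.subgroupOf J => χ (h : J)) =
          (fun n : N => Cfsg.extendByZero J χ n) ∘ e := by
        funext h
        simp only [Function.comp]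
        rw [he, extendByZero_apply_mem]
      rw [h1, hθ'def]
      exact Cfsg.Agent.Lib.H23.classInner_comp_equiv e _ _
    rw [h2, ← classInner_conj_symm, h0, map_zero]

end Cfsg.Agent.Lib.H1.AP
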