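import Mathlib

set_option autoImplicit false
open Pointwise

namespace Cfsg.Agent.Lib.H1

/-- If all stabilizers of an action on a finite set have the same index `d`, then `d` divides the
size of the set. -/
theorem dvd_card_of_forall_index_stabilizer {G X : Type*} [Group G] [Finite G] [MulAction G X]
    [Finite X] (d : ℕ) (h : ∀ x : X, (MulAction.stabilizer G x).index = d) : d ∣ Nat.card X := by
  classical
  haveI : Fintype (Quotient (MulAction.orbitRel G X)) := Fintype.ofFinite _
  have e := MulAction.selfEquivSigmaOrbitsQuotientStabilizer G X
  rw [Nat.card_congr e, Nat.card_sigma]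
  have : ∀ ω : Quotient (MulAction.orbitRel G X),
      Nat.card (G ⧸ MulAction.stabilizer G ω.out) = d := by
    intro ω
    rw [← Subgroup.index_eq_card]
    exact h _
  simp only [this, Finset.sum_const, smul_eq_mul]
  exact dvd_mul_left _ _

end Cfsg.Agent.Lib.H1
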