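import Mathlib

set_option autoImplicit false

/-!
# Graded Lie rings: basic calculus of additive subgroups

Additive subgroups of a Lie ring, brackets of subgroups, derived and lower central series of
an additive subgroup, `ZMod p`-gradings with projections, graded subgroups, generated subrings.
-/

namespace Cfsg.Agent.Lib.H1.KK

open scoped BigOperators

variable {L : Type*} [LieRing L]

/-- additive subgroup generated by the brackets `⁅u, v⁆`, `u ∈ U`, `v ∈ V` -/
def br (U V : AddSubgroup L) : AddSubgroup L :=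
  AddSubgroup.closure {z | ∃ u ∈ U, ∃ v ∈ V, ⁅u, v⁆ = z}

theorem lie_mem_br {U V : AddSubgroup L} {u v : L} (hu : u ∈ U) (hv : v ∈ V) :
    ⁅u, v⁆ ∈ br U V :=
  AddSubgroup.subset_closure ⟨u, hu, v, hv, rfl⟩

theorem br_le {U V W : AddSubgroup L} : br U V ≤ W ↔ ∀ u ∈ U, ∀ v ∈ V, ⁅u, v⁆ ∈ W := by
  constructor
  · intro h u hu v hv
    exact h (lie_mem_br hu hv)
  · intro h
    rw [br, AddSubgroup.closure_le]
    rintro z ⟨u, hu, v, hv, rfl⟩
    exact h u hu v hv

theorem br_mono {U U' V V' : AddSubgroup L} (h1 : U ≤ U') (h2 : V ≤ V') :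
    br U V ≤ br U' V' :=
  br_le.2 fun _ hu _ hv => lie_mem_br (h1 hu) (h2 hv)

/-- `U` is closed under the bracket -/
def IsSub (U : AddSubgroup L) : Prop := ∀ x ∈ U, ∀ y ∈ U, ⁅x, y⁆ ∈ U

theorem IsSub.br_le {U : AddSubgroup L} (h : IsSub U) : br U U ≤ U :=
  KK.br_le.2 h

theorem IsSub.br {U : AddSubgroup L} (h : IsSub U) : IsSub (br U U) :=
  fun _ hx _ hy => lie_mem_br (h.br_le hx) (h.br_le hy)

theorem isSub_top : IsSub (⊤ : AddSubgroup L) := fun _ _ _ _ => AddSubgroup.mem_top _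

/-- derived series of an additive subgroup -/
def D (k : ℕ) (U : AddSubgroup L) : AddSubgroup L := (fun V => br V V)^[k] U

@[simp] theorem D_zero (U : AddSubgroup L) : D 0 U = U := rfl

theorem D_succ (k : ℕ) (U : AddSubgroup L) : D (k + 1) U = br (D k U) (D k U) := by
  simp only [D, Function.iterate_succ_apply']

theorem D_add (a b : ℕ) (U : AddSubgroup L) : D (a + b) U = D a (D b U) := by
  simp only [D, Function.iterate_add_apply]

theorem D_mono (k : ℕ) {U V : AddSubgroup L} (h : U ≤ V) : D k U ≤ D k V := by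
  induction k with
  | zero => exact h
  | succ k ih => rw [D_succ, D_succ]; exact br_mono ih ih

theorem IsSub.der {U : AddSubgroup L} (h : IsSub U) (k : ℕ) : IsSub (D k U) := by
  induction k with
  | zero => exact h
  | succ k ih => rw [D_succ]; exact ih.br

theorem IsSub.der_le {U : AddSubgroup L} (h : IsSub U) (k : ℕ) : D k U ≤ U := by
  induction k with
  | zero => exact le_rfl
  | succ k ih => rw [D_succ]; exact ((h.der k).br_le).trans ih

theorem D_bot (k : ℕ) : D k (⊥ : AddSubgroup L) = ⊥ := by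
  induction k with
  | zero => rfl
  | succ k ih =>
    rw [D_succ, ih, eq_bot_iff, br_le]
    intro u hu v _
    rw [AddSubgroup.mem_bot] at hu
    rw [hu, zero_lie]
    exact AddSubgroup.zero_mem _

/-- iterated bracket with `X` on the right -/
def Bk (r : ℕ) (M X : AddSubgroup L) : AddSubgroup L := (fun V => br V X)^[r] M

@[simp] theorem Bk_zero (M X : AddSubgroup L) : Bk 0 M X = M := rfl

theorem Bk_succ (r : ℕ) (M X : AddSubgroup L) : Bk (r + 1) M X = br (Bk r M X) X := by
  simp only [Bk, Function.iterate_succ_apply']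

theorem Bk_add (a b : ℕ) (M X : AddSubgroup L) : Bk (a + b) M X = Bk a (Bk b M X) X := by
  simp only [Bk, Function.iterate_add_apply]

theorem Bk_mono (r : ℕ) {M M' X : AddSubgroup L} (h : M ≤ M') : Bk r M X ≤ Bk r M' X := by
  induction r with
  | zero => exact h
  | succ r ih => rw [Bk_succ, Bk_succ]; exact br_mono ih le_rfl

theorem Bk_bot (r : ℕ) (X : AddSubgroup L) : Bk r (⊥ : AddSubgroup L) X = ⊥ := by
  induction r with
  | zero => rfl
  | succ r ih =>
    rw [Bk_succ, ih, eq_bot_iff, br_le]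
    intro u hu v _
    rw [AddSubgroup.mem_bot] at hu
    rw [hu, zero_lie]
    exact AddSubgroup.zero_mem _

/-- lower central series: `Gam n U = γ_{n+1}(U)` -/
def Gam (n : ℕ) (U : AddSubgroup L) : AddSubgroup L := Bk n U U

@[simp] theorem Gam_zero (U : AddSubgroup L) : Gam 0 U = U := rfl

theorem Gam_succ (n : ℕ) (U : AddSubgroup L) : Gam (n + 1) U = br (Gam n U) U :=
  Bk_succ n U U

/-- a `ZMod p`-grading of a Lie ring, given by projections, with trivial zero component -/
structure Grading (p : ℕ) [NeZero p] (L : Type*) [LieRing L] where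
  Lc : ZMod p → AddSubgroup L
  e : ZMod p → L →+ L
  lie_mem : ∀ {i j : ZMod p} {x y : L}, x ∈ Lc i → y ∈ Lc j → ⁅x, y⁆ ∈ Lc (i + j)
  zero : Lc 0 = ⊥
  e_mem : ∀ (k : ZMod p) (x : L), e k x ∈ Lc k
  sum_e : ∀ x : L, ∑ k : ZMod p, e k x = x
  e_of_mem : ∀ {i : ZMod p} (k : ZMod p) {x : L}, x ∈ Lc i → e k x = if i = k then x else 0

namespace Grading

variable {p : ℕ} [NeZero p] (gr : Grading p L)

theorem e_zero (x : L) : gr.e 0 x = 0 := by
  have := gr.e_mem 0 x
  rwa [gr.zero, AddSubgroup.mem_bot] at this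

theorem e_lie (k : ZMod p) (x y : L) :
    gr.e k ⁅x, y⁆ = ∑ i : ZMod p, ⁅gr.e i x, gr.e (k - i) y⁆ := by
  conv_lhs => rw [← gr.sum_e x, ← gr.sum_e y]
  rw [sum_lie, map_sum]
  refine Finset.sum_congr rfl fun i _ => ?_
  rw [lie_sum, map_sum]
  rw [Finset.sum_eq_single (k - i)]
  · rw [gr.e_of_mem k (gr.lie_mem (gr.e_mem i x) (gr.e_mem (k - i) y))]
    rw [if_pos (by ring)]
  · intro j _ hj
    rw [gr.e_of_mem k (gr.lie_mem (gr.e_mem i x) (gr.e_mem j y))]
    rw [if_neg]
    intro h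
    apply hj
    rw [← h]
    ring
  · intro h
    exact absurd (Finset.mem_univ _) h

/-- graded additive subgroup: stable under all projections -/
def IsGr (U : AddSubgroup L) : Prop := ∀ (k : ZMod p), ∀ x ∈ U, gr.e k x ∈ U

theorem isGr_top : gr.IsGr (⊤ : AddSubgroup L) := fun _ _ _ => AddSubgroup.mem_top _

theorem isGr_bot : gr.IsGr (⊥ : AddSubgroup L) := by
  intro k x hx
  rw [AddSubgroup.mem_bot] at hx
  rw [hx, map_zero]
  exact AddSubgroup.zero_mem _

theorem IsGr.br {U V : AddSubgroup L} (hU : gr.IsGr U) (hV : gr.IsGr V) : gr.IsGr (br U V) := by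
  intro k x hx
  induction hx using AddSubgroup.closure_induction with
  | mem z hz =>
    obtain ⟨u, hu, v, hv, rfl⟩ := hz
    rw [gr.e_lie]
    exact AddSubgroup.sum_mem _ fun i _ => lie_mem_br (hU i u hu) (hV (k - i) v hv)
  | zero => rw [map_zero]; exact AddSubgroup.zero_mem _
  | add a b _ _ ha hb => rw [map_add]; exact AddSubgroup.add_mem _ ha hb
  | neg a _ ha => rw [map_neg]; exact AddSubgroup.neg_mem _ ha

theorem IsGr.der {U : AddSubgroup L} (hU : gr.IsGr U) (k : ℕ) : gr.IsGr (D k U) := by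
  induction k with
  | zero => exact hU
  | succ k ih => rw [D_succ]; exact ih.br gr ih

theorem IsGr.bk {M X : AddSubgroup L} (hM : gr.IsGr M) (hX : gr.IsGr X) (r : ℕ) :
    gr.IsGr (Bk r M X) := by
  induction r with
  | zero => exact hM
  | succ r ih => rw [Bk_succ]; exact ih.br gr hX

end Grading

/-- the subring generated by a set -/
def gen (S : Set L) : AddSubgroup L := sInf {U | S ⊆ U ∧ IsSub U}

theorem subset_gen (S : Set L) : S ⊆ gen S := by
  intro s hs
  rw [gen, SetLike.mem_coe, AddSubgroup.mem_sInf]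
  rintro U ⟨hU, -⟩
  exact hU hs

theorem gen_isSub (S : Set L) : IsSub (gen S) := by
  intro x hx y hy
  rw [gen, AddSubgroup.mem_sInf] at hx hy ⊢
  rintro U ⟨hU, hU'⟩
  exact hU' x (hx U ⟨hU, hU'⟩) y (hy U ⟨hU, hU'⟩)

theorem gen_le {S : Set L} {U : AddSubgroup L} (h : S ⊆ U) (hU : IsSub U) : gen S ≤ U :=
  sInf_le ⟨h, hU⟩

theorem gen_mono {S T : Set L} (h : S ⊆ T) : gen S ≤ gen T :=
  gen_le (h.trans (subset_gen T)) (gen_isSub T)

theorem gen_induction {S : Set L} {P : L → Prop} (h0 : P 0) (hS : ∀ s ∈ S, P s)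
    (hadd : ∀ x y, P x → P y → P (x + y)) (hneg : ∀ x, P x → P (-x))
    (hlie : ∀ x y, x ∈ gen S → y ∈ gen S → P x → P y → P ⁅x, y⁆) :
    ∀ x ∈ gen S, P x := by
  let V : AddSubgroup L :=
    { carrier := {x | x ∈ gen S ∧ P x}
      zero_mem' := ⟨AddSubgroup.zero_mem _, h0⟩
      add_mem' := fun ha hb => ⟨AddSubgroup.add_mem _ ha.1 hb.1, hadd _ _ ha.2 hb.2⟩
      neg_mem' := fun ha => ⟨AddSubgroup.neg_mem _ ha.1, hneg _ ha.2⟩ }
  have hV : gen S ≤ V := by
    refine gen_le ?_ ?_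
    · intro s hs
      exact ⟨subset_gen S hs, hS s hs⟩
    · intro x hx y hy
      exact ⟨gen_isSub S x hx.1 y hy.1, hlie x y hx.1 hy.1 hx.2 hy.2⟩
  intro x hx
  exact (hV hx).2

theorem gen_empty : gen (∅ : Set L) = ⊥ := by
  rw [eq_bot_iff]
  refine gen_le (Set.empty_subset _) ?_
  intro x hx y _
  rw [AddSubgroup.mem_bot] at hx
  rw [hx, zero_lie]
  exact AddSubgroup.zero_mem _

theorem Grading.isGr_gen {p : ℕ} [NeZero p] (gr : Grading p L) {S : Set L}
    (hS : ∀ s ∈ S, ∃ i, s ∈ gr.Lc i) : gr.IsGr (gen S) := by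
  intro k x hx
  revert k
  refine gen_induction (P := fun x => ∀ k, gr.e k x ∈ gen S) ?_ ?_ ?_ ?_ ?_ x hx
  · intro k
    rw [map_zero]
    exact AddSubgroup.zero_mem _
  · intro s hs k
    obtain ⟨i, hi⟩ := hS s hs
    rw [gr.e_of_mem k hi]
    split_ifs
    · exact subset_gen S hs
    · exact AddSubgroup.zero_mem _
  · intro a b ha hb k
    rw [map_add]
    exact AddSubgroup.add_mem _ (ha k) (hb k)
  · intro a ha k
    rw [map_neg]
    exact AddSubgroup.neg_mem _ (ha k)
  · intro a b _ _ ha hb k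
    rw [gr.e_lie]
    exact AddSubgroup.sum_mem _ fun i _ => gen_isSub S _ (ha i) _ (hb (k - i))

end Cfsg.Agent.Lib.H1.KK
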