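import Mathlib
import Cfsg.Agent.Lib.H1.KKa

set_option autoImplicit false

/-!
# Kreknin's theorem for `ZMod p`-graded Lie rings with trivial zero component

The derived series of such a Lie ring reaches zero after `2 ^ (p - 1) - 1` steps.
-/

namespace Cfsg.Agent.Lib.H1.KK

open scoped BigOperators

variable {L : Type*} [LieRing L] {p : ℕ} [NeZero p]

theorem val_sub_of_lt {a b : ZMod p} (h : a.val < b.val) :
    (a - b).val = a.val + p - b.val := by
  have hb : b.val < p := ZMod.val_lt b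
  have h1 : a - b = ((a.val + p - b.val : ℕ) : ZMod p) := by
    rw [Nat.cast_sub (by omega), Nat.cast_add, ZMod.natCast_self, add_zero,
      ZMod.natCast_zmod_val, ZMod.natCast_zmod_val]
  rw [h1, ZMod.val_natCast_of_lt (by omega)]

variable (gr : Grading p L)

/-- the subring generated by the homogeneous elements of `X` of degree at least `kk` -/
def W (kk : ℕ) (X : AddSubgroup L) : AddSubgroup L :=
  gen {x | x ∈ X ∧ ∃ i : ZMod p, kk ≤ i.val ∧ x ∈ gr.Lc i}

theorem W_isSub (kk : ℕ) (X : AddSubgroup L) : IsSub (W gr kk X) := gen_isSub _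

theorem W_isGr (kk : ℕ) (X : AddSubgroup L) : gr.IsGr (W gr kk X) :=
  gr.isGr_gen fun _ hs => ⟨hs.2.choose, hs.2.choose_spec.2⟩

theorem W_le {kk : ℕ} {X : AddSubgroup L} (hX : IsSub X) : W gr kk X ≤ X :=
  gen_le (fun _ hs => hs.1) hX

theorem mem_W {kk : ℕ} {X : AddSubgroup L} {x : L} (hx : x ∈ X) {i : ZMod p}
    (hi : kk ≤ i.val) (hxi : x ∈ gr.Lc i) : x ∈ W gr kk X :=
  subset_gen _ ⟨hx, i, hi, hxi⟩

theorem W_eq_bot {kk : ℕ} (hk : p ≤ kk) (X : AddSubgroup L) : W gr kk X = ⊥ := by
  have : {x | x ∈ X ∧ ∃ i : ZMod p, kk ≤ i.val ∧ x ∈ gr.Lc i} = ∅ := by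
    ext x
    simp only [Set.mem_ofPred_eq, Set.mem_empty_iff_false, iff_false, not_and, not_exists]
    intro _ i hi
    have := ZMod.val_lt i
    omega
  rw [W, this, gen_empty]

/-- every element of a graded subring lies in `W 1` -/
theorem le_W_one {X : AddSubgroup L} (hG : gr.IsGr X) : X ≤ W gr 1 X := by
  intro x hx
  rw [← gr.sum_e x]
  refine AddSubgroup.sum_mem _ fun k _ => ?_
  by_cases hk : k = 0
  · rw [hk, gr.e_zero]
    exact AddSubgroup.zero_mem _
  · refine mem_W gr (hG k x hx) (i := k) ?_ (gr.e_mem k x)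
    have : k.val ≠ 0 := by rwa [Ne, ZMod.val_eq_zero]
    omega

/-- `[U, U]` is spanned by the brackets `⁅u, g⁆` with `g` a generator -/
theorem br_gen_le (S : Set L) :
    br (gen S) (gen S) ≤ AddSubgroup.closure {z | ∃ u ∈ gen S, ∃ g ∈ S, ⁅u, g⁆ = z} := by
  set T := AddSubgroup.closure {z | ∃ u ∈ gen S, ∃ g ∈ S, ⁅u, g⁆ = z} with hT
  rw [br_le]
  intro u hu v hv
  revert u
  refine gen_induction (P := fun v => ∀ u ∈ gen S, ⁅u, v⁆ ∈ T) ?_ ?_ ?_ ?_ ?_ v hv
  · intro u _
    rw [lie_zero]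
    exact AddSubgroup.zero_mem _
  · intro s hs u hu
    exact AddSubgroup.subset_closure ⟨u, hu, s, hs, rfl⟩
  · intro a b ha hb u hu
    rw [lie_add]
    exact AddSubgroup.add_mem _ (ha u hu) (hb u hu)
  · intro a ha u hu
    rw [lie_neg]
    exact AddSubgroup.neg_mem _ (ha u hu)
  · intro a b ha' hb' ha hb u hu
    have e : ⁅u, ⁅a, b⁆⁆ = ⁅⁅u, a⁆, b⁆ - ⁅⁅u, b⁆, a⁆ := by
      rw [leibniz_lie u a b, ← lie_skew ⁅u, b⁆ a]
      abel
    rw [e]
    exact AddSubgroup.sub_mem _ (hb _ (gen_isSub S u hu a ha')) (ha _ (gen_isSub S u hu b hb'))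

/-- the key step: the degree `kk` part of `[U, U]`, `U = W kk X`, lies in `W (kk + 1) X` -/
theorem key_step {kk : ℕ} (hkk : kk < p) {X : AddSubgroup L} (hX : IsSub X)
    {z : L} (hz : z ∈ br (W gr kk X) (W gr kk X)) :
    gr.e (kk : ZMod p) z ∈ W gr (kk + 1) X := by
  have hk : ((kk : ℕ) : ZMod p).val = kk := ZMod.val_natCast_of_lt hkk
  have hz' := br_gen_le _ hz
  clear hz
  induction hz' using AddSubgroup.closure_induction with
  | mem y hy =>
    obtain ⟨u, hu, g, ⟨hgX, b, hb, hgb⟩, rfl⟩ := hy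
    rw [gr.e_lie]
    rw [Finset.sum_eq_single ((kk : ZMod p) - b)]
    · rw [sub_sub_cancel, gr.e_of_mem b hgb, if_pos rfl]
      by_cases hbk : b = (kk : ZMod p)
      · rw [hbk, sub_self, gr.e_zero, zero_lie]
        exact AddSubgroup.zero_mem _
      · have hlt : kk < b.val := by
          rcases Nat.lt_or_ge kk b.val with h | h
          · exact h
          · exfalso
            apply hbk
            have : b.val = kk := le_antisymm h hb
            rw [← this, ZMod.natCast_zmod_val]
        have hb' : b.val < p := ZMod.val_lt b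
        have hval : ((kk : ZMod p) - b).val = kk + p - b.val := by
          rw [val_sub_of_lt (by rw [hk]; exact hlt), hk]
        have huX : u ∈ X := W_le gr hX hu
        have huG : gr.e ((kk : ZMod p) - b) u ∈ W gr kk X := W_isGr gr kk X _ u hu
        refine W_isSub gr (kk + 1) X _ ?_ _ ?_
        · refine mem_W gr (W_le gr hX huG) (i := (kk : ZMod p) - b) ?_ (gr.e_mem _ _)
          rw [hval]
          omega
        · exact mem_W gr hgX (i := b) (by omega) hgb
    · intro i _ hi
      rw [gr.e_of_mem ((kk : ZMod p) - i) hgb, if_neg, lie_zero]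
      intro h
      apply hi
      rw [h]
      ring
    · intro h
      exact absurd (Finset.mem_univ _) h
  | zero => rw [map_zero]; exact AddSubgroup.zero_mem _
  | add a b _ _ ha hb => rw [map_add]; exact AddSubgroup.add_mem _ ha hb
  | neg a _ ha => rw [map_neg]; exact AddSubgroup.neg_mem _ ha

theorem kreknin_aux (j : ℕ) (hj : j + 1 ≤ p) :
    ∀ X : AddSubgroup L, IsSub X → gr.IsGr X → D (2 ^ j - 1) X ≤ W gr (j + 1) X := by
  induction j with
  | zero =>
    intro X _ hG
    simpa using le_W_one gr hG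
  | succ j ih =>
    intro X hX hG
    have ih' := ih (by omega)
    set U := W gr (j + 1) X with hU
    have hUs : IsSub U := W_isSub gr _ X
    have hUg : gr.IsGr U := W_isGr gr _ X
    have hUX : U ≤ X := W_le gr hX
    have e1 : 2 ^ (j + 1) - 1 = 2 ^ j + (2 ^ j - 1) := by
      have : 0 < 2 ^ j := Nat.two_pow_pos j
      rw [pow_succ]
      omega
    have e2 : 2 ^ j = (2 ^ j - 1) + 1 := by
      have : 0 < 2 ^ j := Nat.two_pow_pos j
      omega
    rw [e1, D_add]
    refine (D_mono _ (ih' X hX hG)).trans ?_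
    rw [e2, D_add]
    have h1 : D 1 U = br U U := by rw [D_succ, D_zero]
    rw [h1]
    refine (ih' (br U U) hUs.br (hUg.br gr hUg)).trans ?_
    -- `W (j+1) (br U U) ≤ W (j+2) X`
    refine gen_le ?_ (W_isSub gr _ X)
    rintro z ⟨hz, i, hi, hzi⟩
    have hzX : z ∈ X := hUX (hUs.br_le hz)
    rcases Nat.lt_or_ge (j + 1) i.val with h | h
    · exact mem_W gr hzX (i := i) (by omega) hzi
    · have hiv : i.val = j + 1 := le_antisymm h hi
      have hi' : i = ((j + 1 : ℕ) : ZMod p) := by
        rw [← hiv, ZMod.natCast_zmod_val]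
      have := key_step gr (kk := j + 1) (by omega) hX hz
      rw [← hi', gr.e_of_mem i hzi, if_pos rfl] at this
      exact this

/-- **Kreknin**: the derived series of a graded subring vanishes after `2^(p-1) - 1` steps -/
theorem kreknin {X : AddSubgroup L} (hX : IsSub X) (hG : gr.IsGr X) :
    D (2 ^ (p - 1) - 1) X = ⊥ := by
  have hp : 1 ≤ p := Nat.one_le_iff_ne_zero.2 (NeZero.ne p)
  have := kreknin_aux gr (p - 1) (by omega) X hX hG
  rw [W_eq_bot gr (by omega)] at this
  exact eq_bot_iff.2 this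

end Cfsg.Agent.Lib.H1.KK
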