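import Mathlib
import Cfsg.Agent.Lib.H1.KKb

set_option autoImplicit false

/-!
# From solvable to nilpotent in `ZMod p`-graded Lie rings (`p` prime) with trivial zero component
-/

namespace Cfsg.Agent.Lib.H1.KK

open scoped BigOperators

variable {L : Type*} [LieRing L]

/-- iterated right bracket with the elements of a list -/
def adl : List L → L → L
  | [], u => u
  | y :: l, u => adl l ⁅u, y⁆

@[simp] theorem adl_nil (u : L) : adl [] u = u := rfl
@[simp] theorem adl_cons (y : L) (l : List L) (u : L) : adl (y :: l) u = adl l ⁅u, y⁆ := rfl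

theorem adl_zero (l : List L) : adl l (0 : L) = 0 := by
  induction l with
  | nil => rfl
  | cons y l ih => rw [adl_cons, zero_lie, ih]

theorem adl_add (l : List L) (u v : L) : adl l (u + v) = adl l u + adl l v := by
  induction l generalizing u v with
  | nil => rfl
  | cons y l ih => rw [adl_cons, adl_cons, adl_cons, add_lie, ih]

theorem adl_neg (l : List L) (u : L) : adl l (-u) = -adl l u := by
  induction l generalizing u with
  | nil => rfl
  | cons y l ih => rw [adl_cons, adl_cons, neg_lie, ih]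

theorem adl_sub (l : List L) (u v : L) : adl l (u - v) = adl l u - adl l v := by
  rw [sub_eq_add_neg, adl_add, adl_neg, ← sub_eq_add_neg]

theorem adl_append (l : List L) (y : L) (u : L) : adl (l ++ [y]) u = ⁅adl l u, y⁆ := by
  induction l generalizing u with
  | nil => rfl
  | cons z l ih => rw [List.cons_append, adl_cons, adl_cons, ih]

theorem adl_mem {M X : AddSubgroup L} (hM : ∀ m ∈ M, ∀ x ∈ X, ⁅m, x⁆ ∈ M) (l : List L)
    (hl : ∀ y ∈ l, y ∈ X) {u : L} (hu : u ∈ M) : adl l u ∈ M := by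
  induction l generalizing u with
  | nil => exact hu
  | cons y l ih =>
    rw [adl_cons]
    exact ih (fun z hz => hl z (List.mem_cons_of_mem _ hz)) (hM u hu y (hl y List.mem_cons_self))

/-- commutation of `adl` with a bracket modulo `Mp` -/
theorem adl_comm {M Mp X : AddSubgroup L} (hM : ∀ m ∈ M, ∀ x ∈ X, ⁅m, x⁆ ∈ M)
    (hMp : ∀ m ∈ Mp, ∀ x ∈ X, ⁅m, x⁆ ∈ Mp)
    (hMN : ∀ m ∈ M, ∀ x ∈ X, ∀ y ∈ X, ⁅m, ⁅x, y⁆⁆ ∈ Mp)
    (l : List L) (hl : ∀ y ∈ l, y ∈ X) {u z : L} (hu : u ∈ M) (hz : z ∈ X) :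
    adl l ⁅u, z⁆ - ⁅adl l u, z⁆ ∈ Mp := by
  induction l generalizing u with
  | nil => simp
  | cons y l ih =>
    have hy : y ∈ X := hl y List.mem_cons_self
    have hl' : ∀ w ∈ l, w ∈ X := fun w hw => hl w (List.mem_cons_of_mem _ hw)
    rw [adl_cons, adl_cons]
    have e : ⁅⁅u, z⁆, y⁆ = ⁅⁅u, y⁆, z⁆ + ⁅u, ⁅z, y⁆⁆ := by
      have h1 := leibniz_lie y u z
      have h2 := lie_skew ⁅u, z⁆ y
      have h3 := lie_skew u y
      have h4 := lie_skew z y
      rw [← h2, h1, ← h3, ← h4, neg_lie, lie_neg]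
      abel
    rw [e, adl_add]
    have h1 := ih hl' (hM u hu y hy)
    have h2 : adl l ⁅u, ⁅z, y⁆⁆ ∈ Mp := adl_mem hMp l hl' (hMN u hu z hz y hy)
    have e2 : adl l ⁅⁅u, y⁆, z⁆ + adl l ⁅u, ⁅z, y⁆⁆ - ⁅adl l ⁅u, y⁆, z⁆ =
        (adl l ⁅⁅u, y⁆, z⁆ - ⁅adl l ⁅u, y⁆, z⁆) + adl l ⁅u, ⁅z, y⁆⁆ := by abel
    rw [e2]
    exact AddSubgroup.add_mem _ h1 h2

variable {p : ℕ} [hp : Fact p.Prime]

/-- subset sums of a list in `ZMod p` -/
def SS : List (ZMod p) → Finset (ZMod p)
  | [] => {0}
  | j :: l => SS l ∪ (SS l).image (fun s => j + s)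

theorem zero_mem_SS (l : List (ZMod p)) : (0 : ZMod p) ∈ SS l := by
  induction l with
  | nil => simp [SS]
  | cons j l ih => simp only [SS, Finset.mem_union]; exact Or.inl ih

theorem SS_card (l : List (ZMod p)) (hl : ∀ j ∈ l, j ≠ 0) :
    min p (l.length + 1) ≤ (SS l).card := by
  induction l with
  | nil => simp [SS]
  | cons j l ih =>
    have hj : j ≠ 0 := hl j List.mem_cons_self
    have ih' := ih fun i hi => hl i (List.mem_cons_of_mem _ hi)
    by_cases hall : ∀ s ∈ SS l, j + s ∈ SS l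
    · -- then `SS l = univ`
      have hmul : ∀ n : ℕ, (n : ZMod p) * j ∈ SS l := by
        intro n
        induction n with
        | zero => simpa using zero_mem_SS l
        | succ n ihn =>
          have := hall _ ihn
          have e : ((n + 1 : ℕ) : ZMod p) * j = j + (n : ZMod p) * j := by push_cast; ring
          rw [e]
          exact this
      have huniv : SS l = Finset.univ := by
        rw [Finset.eq_univ_iff_forall]
        intro x
        have := hmul (x * j⁻¹).val
        rwa [ZMod.natCast_zmod_val, inv_mul_cancel_right₀ hj] at this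
      have : (SS (j :: l)) = Finset.univ := by
        rw [Finset.eq_univ_iff_forall]
        intro x
        simp only [SS, Finset.mem_union]
        left
        rw [huniv]
        exact Finset.mem_univ _
      rw [this, Finset.card_univ, ZMod.card]
      exact min_le_left _ _
    · push Not at hall
      obtain ⟨s, hs, hjs⟩ := hall
      have hsub : insert (j + s) (SS l) ⊆ SS (j :: l) := by
        intro x hx
        rw [Finset.mem_insert] at hx
        simp only [SS, Finset.mem_union, Finset.mem_image]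
        rcases hx with rfl | hx
        · exact Or.inr ⟨s, hs, rfl⟩
        · exact Or.inl hx
      have hc := Finset.card_le_card hsub
      rw [Finset.card_insert_of_notMem hjs] at hc
      have : min p (l.length + 1) + 1 ≤ (SS (j :: l)).card := by omega
      refine le_trans ?_ this
      simp only [List.length_cons]
      omega

theorem SS_univ (l : List (ZMod p)) (hl : ∀ j ∈ l, j ≠ 0) (hlen : p - 1 ≤ l.length) :
    SS l = Finset.univ := by
  have h1 := SS_card l hl
  have hp1 : 1 ≤ p := hp.out.one_lt.le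
  have h2 : min p (l.length + 1) = p := by
    rw [min_eq_left]
    omega
  rw [h2] at h1
  apply Finset.eq_univ_of_card
  rw [ZMod.card]
  refine le_antisymm ?_ h1
  calc (SS l).card ≤ (Finset.univ : Finset (ZMod p)).card := Finset.card_le_univ _
    _ = p := by rw [Finset.card_univ, ZMod.card]

variable (gr : Grading p L)

/-- main combinatorial step: an iterated bracket whose degrees can sum to zero lies in `Mp` -/
theorem adl_mem_of_SS {M Mp X : AddSubgroup L} (hM : ∀ m ∈ M, ∀ x ∈ X, ⁅m, x⁆ ∈ M)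
    (hMp : ∀ m ∈ Mp, ∀ x ∈ X, ⁅m, x⁆ ∈ Mp)
    (hMN : ∀ m ∈ M, ∀ x ∈ X, ∀ y ∈ X, ⁅m, ⁅x, y⁆⁆ ∈ Mp)
    (l : List (ZMod p × L)) (hl : ∀ q ∈ l, q.2 ∈ X ∧ q.2 ∈ gr.Lc q.1) :
    ∀ (t : ZMod p) (u : L), u ∈ M → u ∈ gr.Lc t → -t ∈ SS (l.map Prod.fst) →
      adl (l.map Prod.snd) u ∈ Mp := by
  induction l with
  | nil =>
    intro t u _ hut ht
    simp only [List.map_nil, SS, Finset.mem_singleton, neg_eq_zero] at ht
    rw [ht, gr.zero, AddSubgroup.mem_bot] at hut
    rw [hut]
    simpa using AddSubgroup.zero_mem Mp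
  | cons q l ih =>
    intro t u hu hut ht
    have hq := hl q List.mem_cons_self
    have hl' : ∀ r ∈ l, r.2 ∈ X ∧ r.2 ∈ gr.Lc r.1 :=
      fun r hr => hl r (List.mem_cons_of_mem _ hr)
    have hlX : ∀ y ∈ l.map Prod.snd, y ∈ X := by
      intro y hy
      rw [List.mem_map] at hy
      obtain ⟨r, hr, rfl⟩ := hy
      exact (hl' r hr).1
    simp only [List.map_cons, SS, Finset.mem_union, Finset.mem_image] at ht
    rw [List.map_cons, adl_cons]
    rcases ht with ht | ⟨s, hs, hst⟩
    · have h1 := ih hl' t u hu hut ht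
      have h2 := adl_comm hM hMp hMN (l.map Prod.snd) hlX hu hq.1
      have h3 : ⁅adl (l.map Prod.snd) u, q.2⁆ ∈ Mp := hMp _ h1 _ hq.1
      have := AddSubgroup.add_mem _ h2 h3
      rwa [sub_add_cancel] at this
    · refine ih hl' (t + q.1) ⁅u, q.2⁆ (hM u hu _ hq.1) (gr.lie_mem hut hq.2) ?_
      have : -(t + q.1) = s := by
        rw [neg_add, ← hst]
        ring
      rw [this]
      exact hs

/-- elements of `Bk r M X` are sums of iterated brackets of homogeneous elements -/
theorem Bk_le_closure {M X : AddSubgroup L} (hMg : gr.IsGr M) (hXg : gr.IsGr X) (r : ℕ) :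
    Bk r M X ≤ AddSubgroup.closure {y | ∃ (l : List (ZMod p × L)) (t : ZMod p) (u : L),
      l.length = r ∧ (∀ q ∈ l, q.1 ≠ 0 ∧ q.2 ∈ X ∧ q.2 ∈ gr.Lc q.1) ∧ u ∈ M ∧ u ∈ gr.Lc t ∧
      adl (l.map Prod.snd) u = y} := by
  induction r with
  | zero =>
    intro u hu
    rw [Bk_zero] at hu
    rw [← gr.sum_e u]
    refine AddSubgroup.sum_mem _ fun t _ => ?_
    refine AddSubgroup.subset_closure ⟨[], t, gr.e t u, rfl, ?_, hMg t u hu, gr.e_mem t u, rfl⟩
    intro q hq
    exact absurd hq List.not_mem_nil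
  | succ r ih =>
    rw [Bk_succ, br_le]
    intro y hy x hx
    have hy' := ih hy
    clear hy
    induction hy' using AddSubgroup.closure_induction with
    | mem y hy =>
      obtain ⟨l, t, u, hlen, hl, hu, hut, rfl⟩ := hy
      rw [← gr.sum_e x, lie_sum]
      refine AddSubgroup.sum_mem _ fun k _ => ?_
      by_cases hk : k = 0
      · rw [hk, gr.e_zero, lie_zero]
        exact AddSubgroup.zero_mem _
      · refine AddSubgroup.subset_closure
          ⟨l ++ [(k, gr.e k x)], t, u, by simp [hlen], ?_, hu, hut, ?_⟩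
        · intro q hq
          rw [List.mem_append, List.mem_singleton] at hq
          rcases hq with hq | rfl
          · exact hl q hq
          · exact ⟨hk, hXg k x hx, gr.e_mem k x⟩
        · rw [List.map_append, List.map_cons, List.map_nil, adl_append]
    | zero => rw [zero_lie]; exact AddSubgroup.zero_mem _
    | add a b _ _ ha hb => rw [add_lie]; exact AddSubgroup.add_mem _ ha hb
    | neg a _ ha => rw [neg_lie]; exact AddSubgroup.neg_mem _ ha

/-- `p - 1` brackets with `X` push `M` into `Mp` -/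
theorem Bk_le_of_ideal {M Mp X : AddSubgroup L} (hMg : gr.IsGr M) (hXg : gr.IsGr X)
    (hM : ∀ m ∈ M, ∀ x ∈ X, ⁅m, x⁆ ∈ M)
    (hMp : ∀ m ∈ Mp, ∀ x ∈ X, ⁅m, x⁆ ∈ Mp)
    (hMN : ∀ m ∈ M, ∀ x ∈ X, ∀ y ∈ X, ⁅m, ⁅x, y⁆⁆ ∈ Mp) :
    Bk (p - 1) M X ≤ Mp := by
  refine (Bk_le_closure gr hMg hXg (p - 1)).trans ?_
  rw [AddSubgroup.closure_le]
  rintro y ⟨l, t, u, hlen, hl, hu, hut, rfl⟩
  refine adl_mem_of_SS gr hM hMp hMN l (fun q hq => (hl q hq).2) t u hu hut ?_
  rw [SS_univ (l.map Prod.fst) ?_ (by simp [hlen])]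
  · exact Finset.mem_univ _
  · intro j hj
    rw [List.mem_map] at hj
    obtain ⟨q, hq, rfl⟩ := hj
    exact (hl q hq).1

end Cfsg.Agent.Lib.H1.KK
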