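import Mathlib
import Cfsg.Agent.Lib.H1.KKc

set_option autoImplicit false

/-!
# The Higman–Kreknin–Kostrikin theorem for graded Lie rings
-/

namespace Cfsg.Agent.Lib.H1.KK

open scoped BigOperators

variable {L : Type*} [LieRing L]

theorem ideal_br_self {X : AddSubgroup L} (hX : IsSub X) :
    ∀ m ∈ br X X, ∀ x ∈ X, ⁅m, x⁆ ∈ br X X :=
  fun _ hm _ hx => lie_mem_br (hX.br_le hm) hx

theorem ideal_br {M N X : AddSubgroup L} (hM : ∀ m ∈ M, ∀ x ∈ X, ⁅m, x⁆ ∈ M)
    (hN : ∀ m ∈ N, ∀ x ∈ X, ⁅m, x⁆ ∈ N) :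
    ∀ m ∈ br M N, ∀ x ∈ X, ⁅m, x⁆ ∈ br M N := by
  intro m hm x hx
  induction hm using AddSubgroup.closure_induction with
  | mem z hz =>
    obtain ⟨a, ha, n, hn, rfl⟩ := hz
    have e : ⁅⁅a, n⁆, x⁆ = ⁅⁅a, x⁆, n⁆ + ⁅a, ⁅n, x⁆⁆ := by
      have h1 := leibniz_lie x a n
      have h2 := lie_skew ⁅a, n⁆ x
      have h3 := lie_skew a x
      have h4 := lie_skew n x
      rw [← h2, h1, ← h3, ← h4, neg_lie, lie_neg]
      abel
    rw [e]
    exact AddSubgroup.add_mem _ (lie_mem_br (hM a ha x hx) hn) (lie_mem_br ha (hN n hn x hx))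
  | zero => rw [zero_lie]; exact AddSubgroup.zero_mem _
  | add a b _ _ ha hb => rw [add_lie]; exact AddSubgroup.add_mem _ ha hb
  | neg a _ ha => rw [neg_lie]; exact AddSubgroup.neg_mem _ ha

theorem ideal_Gam {X : AddSubgroup L} (hX : IsSub X) (i : ℕ) :
    ∀ m ∈ Gam i (br X X), ∀ x ∈ X, ⁅m, x⁆ ∈ Gam i (br X X) := by
  induction i with
  | zero => exact ideal_br_self hX
  | succ i ih =>
    rw [Gam_succ]
    exact ideal_br ih (ideal_br_self hX)

theorem Grading.lie_eq_zero {p : ℕ} [NeZero p] (gr : Grading p L) {i j : ZMod p} {x y : L}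
    (hx : x ∈ gr.Lc i) (hy : y ∈ gr.Lc j) (h : i + j = 0) : ⁅x, y⁆ = 0 := by
  have := gr.lie_mem hx hy
  rwa [h, gr.zero, AddSubgroup.mem_bot] at this

theorem Grading.eq_zero_of_mem_zero {p : ℕ} [NeZero p] (gr : Grading p L) {x : L} (hx : x ∈ gr.Lc 0) :
    x = 0 := by
  rwa [gr.zero, AddSubgroup.mem_bot] at hx

variable {p : ℕ} [hp : Fact p.Prime] (gr : Grading p L)

omit hp in
theorem geom_succ (s : ℕ) :
    ∑ i ∈ Finset.range (s + 1), (p - 1) ^ i = (p - 1) * ∑ i ∈ Finset.range s, (p - 1) ^ i + 1 := by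
  rw [Finset.sum_range_succ', Finset.mul_sum]
  congr 1
  refine Finset.sum_congr rfl fun i _ => ?_
  rw [pow_succ, mul_comm]

/-- **Kostrikin's step**: solvable of derived length `s` implies nilpotent of class at most
`1 + (p-1) + ⋯ + (p-1)^(s-1)` -/
theorem kostrikin (s : ℕ) : ∀ X : AddSubgroup L, IsSub X → gr.IsGr X → D s X = ⊥ →
    Gam (∑ i ∈ Finset.range s, (p - 1) ^ i) X = ⊥ := by
  induction s with
  | zero =>
    intro X _ _ h
    simpa using h
  | succ s ih =>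
    intro X hX hG h
    set N := br X X with hN
    have hNs : IsSub N := hX.br
    have hNg : gr.IsGr N := hG.br gr hG
    have hDN : D s N = ⊥ := by
      have : D (s + 1) X = D s (D 1 X) := D_add s 1 X
      rw [this] at h
      have h1 : D 1 X = br X X := by rw [D_succ, D_zero]
      rwa [h1] at h
    have hc := ih N hNs hNg hDN
    set c := ∑ i ∈ Finset.range s, (p - 1) ^ i with hcdef
    have step : ∀ i, Bk (p - 1) (Gam i N) X ≤ Gam (i + 1) N := by
      intro i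
      rw [Gam_succ]
      refine Bk_le_of_ideal gr (hNg.bk gr hNg i) hG (ideal_Gam hX i) ?_ ?_
      · exact ideal_br (ideal_Gam hX i) (ideal_br_self hX)
      · intro m hm x hx y hy
        exact lie_mem_br hm (lie_mem_br hx hy)
    have iter : ∀ i, Bk ((p - 1) * i) N X ≤ Gam i N := by
      intro i
      induction i with
      | zero => simp
      | succ i ihi =>
        have e : (p - 1) * (i + 1) = (p - 1) + (p - 1) * i := by ring
        rw [e, Bk_add]
        exact (Bk_mono _ ihi).trans (step i)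
    rw [geom_succ, ← hcdef]
    have e : Gam ((p - 1) * c + 1) X = Bk ((p - 1) * c) N X := by
      rw [Gam, Bk_add]
      rfl
    rw [e, eq_bot_iff, ← hc]
    exact iter c

/-- **Higman–Kreknin–Kostrikin** for graded Lie rings -/
theorem kk_main (gr : Grading p L) :
    Gam (∑ i ∈ Finset.range (2 ^ (p - 1) - 1), (p - 1) ^ i) (⊤ : AddSubgroup L) = ⊥ :=
  kostrikin gr _ ⊤ isSub_top gr.isGr_top (kreknin gr isSub_top gr.isGr_top)

/-- `p = 2`: the Lie ring is abelian -/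
theorem kk_two (gr : Grading 2 L) : Gam 1 (⊤ : AddSubgroup L) = ⊥ := by
  rw [Gam_succ, Gam_zero, eq_bot_iff, br_le]
  intro x _ y _
  rw [AddSubgroup.mem_bot, ← gr.sum_e x, ← gr.sum_e y, sum_lie]
  refine Finset.sum_eq_zero fun i _ => ?_
  rw [lie_sum]
  refine Finset.sum_eq_zero fun j _ => ?_
  have key : ∀ i j : ZMod 2, i = 0 ∨ j = 0 ∨ i + j = 0 := by decide
  rcases key i j with h | h | h
  · rw [h, gr.e_zero, zero_lie]
  · rw [h, gr.e_zero, lie_zero]
  · exact gr.lie_eq_zero (gr.e_mem i x) (gr.e_mem j y) h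

/-- `p = 3`: the Lie ring is nilpotent of class at most two -/
theorem kk_three (gr : Grading 3 L) : Gam 2 (⊤ : AddSubgroup L) = ⊥ := by
  have hom : ∀ (i j k : ZMod 3) (a b c : L), a ∈ gr.Lc i → b ∈ gr.Lc j → c ∈ gr.Lc k →
      ⁅⁅a, b⁆, c⁆ = 0 := by
    intro i j k a b c ha hb hc
    have key : ∀ i j k : ZMod 3, i = 0 ∨ j = 0 ∨ k = 0 ∨ i + j = 0 ∨ i + j + k = 0 ∨
        (i + k = 0 ∧ j + k = 0) := by decide
    rcases key i j k with h | h | h | h | h | ⟨h1, h2⟩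
    · subst h
      rw [gr.eq_zero_of_mem_zero ha, zero_lie, zero_lie]
    · subst h
      rw [gr.eq_zero_of_mem_zero hb, lie_zero, zero_lie]
    · subst h
      rw [gr.eq_zero_of_mem_zero hc, lie_zero]
    · rw [gr.lie_eq_zero ha hb h, zero_lie]
    · exact gr.lie_eq_zero (gr.lie_mem ha hb) hc h
    · have e : ⁅⁅a, b⁆, c⁆ = ⁅⁅a, c⁆, b⁆ + ⁅a, ⁅b, c⁆⁆ := by
        have h1 := leibniz_lie c a b
        have h2 := lie_skew ⁅a, b⁆ c
        have h3 := lie_skew a c
        have h4 := lie_skew b c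
        rw [← h2, h1, ← h3, ← h4, neg_lie, lie_neg]
        abel
      rw [e, gr.lie_eq_zero ha hc h1, gr.lie_eq_zero hb hc h2, zero_lie, lie_zero, add_zero]
  have all1 : ∀ (i j : ZMod 3) (a b z : L), a ∈ gr.Lc i → b ∈ gr.Lc j → ⁅⁅a, b⁆, z⁆ = 0 := by
    intro i j a b z ha hb
    rw [← gr.sum_e z, lie_sum]
    exact Finset.sum_eq_zero fun k _ => hom i j k _ _ _ ha hb (gr.e_mem k z)
  have all2 : ∀ (i : ZMod 3) (a y z : L), a ∈ gr.Lc i → ⁅⁅a, y⁆, z⁆ = 0 := by
    intro i a y z ha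
    rw [← gr.sum_e y, lie_sum, sum_lie]
    exact Finset.sum_eq_zero fun j _ => all1 i j _ _ _ ha (gr.e_mem j y)
  have all : ∀ x y z : L, ⁅⁅x, y⁆, z⁆ = 0 := by
    intro x y z
    rw [← gr.sum_e x, sum_lie, sum_lie]
    exact Finset.sum_eq_zero fun i _ => all2 i _ _ _ (gr.e_mem i x)
  rw [Gam_succ, Gam_succ, Gam_zero, eq_bot_iff, br_le]
  intro w hw z _
  rw [AddSubgroup.mem_bot]
  induction hw using AddSubgroup.closure_induction with
  | mem w hw =>
    obtain ⟨x, _, y, _, rfl⟩ := hw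
    exact all x y z
  | zero => rw [zero_lie]
  | add a b _ _ ha hb => rw [add_lie, ha, hb, add_zero]
  | neg a _ ha => rw [neg_lie, ha, neg_zero]

end Cfsg.Agent.Lib.H1.KK
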