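import Mathlib
import Cfsg.Agent.Lib.H19.AlpDefs
import Cfsg.Agent.Lib.H1.KKd

set_option autoImplicit false

/-!
# S3782 (Alperin), piece HULL: the graded hull of a family of additive subgroups of a Lie ring

A family `Mc k`, `k : ZMod p`, of additive subgroups of a Lie ring with
`⁅Mc i, Mc j⁆ ⊆ Mc (i + j)` and `Mc 0 = ⊥`: the external direct sum `⨁ k, Mc k` with the graded
bracket is a Lie ring with a `KK.Grading`, so it is nilpotent of class at most `hkk p`
(Higman–Kreknin–Kostrikin); the sum map is an additive Lie homomorphism onto `⨆ k, Mc k`.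
-/

namespace Cfsg.Agent.Lib.H1.ALP

open Cfsg.Agent.Lib.H19.ALP
open Cfsg.Agent.Lib.H1

universe u

/-- a `ZMod p`-indexed family of additive subgroups, multiplicative for the bracket -/
structure GFam (p : ℕ) (𝔏 : Type u) [LieRing 𝔏] where
  Mc : ZMod p → AddSubgroup 𝔏
  hbr : ∀ {i j : ZMod p} {x y : 𝔏}, x ∈ Mc i → y ∈ Mc j → ⁅x, y⁆ ∈ Mc (i + j)

namespace GFam

variable {p : ℕ} {𝔏 : Type u} [LieRing 𝔏] (F : GFam p 𝔏)

/-- the `k`-th component as a type -/
def C (k : ZMod p) : Type u := ↥(F.Mc k)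

instance C_addCommGroup (k : ZMod p) : AddCommGroup (F.C k) :=
  inferInstanceAs (AddCommGroup ↥(F.Mc k))

/-- inclusion of a component -/
def inc (k : ZMod p) : F.C k →+ 𝔏 := (F.Mc k).subtype

/-- an element of a component -/
def mkC (k : ZMod p) (x : 𝔏) (hx : x ∈ F.Mc k) : F.C k := (⟨x, hx⟩ : ↥(F.Mc k))

@[simp] theorem inc_mkC (k : ZMod p) (x : 𝔏) (hx : x ∈ F.Mc k) : F.inc k (F.mkC k x hx) = x := rfl

theorem inc_mem {k : ZMod p} (a : F.C k) : F.inc k a ∈ F.Mc k := (a : ↥(F.Mc k)).2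

theorem inc_injective (k : ZMod p) : Function.Injective (F.inc k) := Subtype.val_injective

theorem mkC_inc {k : ZMod p} (a : F.C k) : F.mkC k (F.inc k a) (F.inc_mem a) = a := rfl

/-- component bracket -/
def brC {i j : ZMod p} (a : F.C i) (b : F.C j) : F.C (i + j) :=
  F.mkC (i + j) ⁅F.inc i a, F.inc j b⁆ (F.hbr (F.inc_mem a) (F.inc_mem b))

instance C_gmul : DirectSum.GNonUnitalNonAssocSemiring F.C where
  mul := fun a b => F.brC a b
  mul_zero := fun a => by
    apply F.inc_injective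
    show ⁅F.inc _ a, F.inc _ 0⁆ = F.inc _ 0
    rw [map_zero, map_zero, lie_zero]
  zero_mul := fun b => by
    apply F.inc_injective
    show ⁅F.inc _ 0, F.inc _ b⁆ = F.inc _ 0
    rw [map_zero, map_zero, zero_lie]
  mul_add := fun a b c => by
    apply F.inc_injective
    show ⁅F.inc _ a, F.inc _ (b + c)⁆ = F.inc _ (F.brC a b + F.brC a c)
    rw [map_add, map_add, lie_add]
    rfl
  add_mul := fun a b c => by
    apply F.inc_injective
    show ⁅F.inc _ (a + b), F.inc _ c⁆ = F.inc _ (F.brC a c + F.brC b c)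
    rw [map_add, map_add, add_lie]
    rfl

/-- the graded hull, as an additive group -/
def MH : Type u := DirectSum (ZMod p) F.C

noncomputable instance MH_addCommGroup : AddCommGroup F.MH :=
  inferInstanceAs (AddCommGroup (DirectSum (ZMod p) F.C))

/-- a homogeneous element of the hull -/
noncomputable def ofM (k : ZMod p) (x : 𝔏) (hx : x ∈ F.Mc k) : F.MH :=
  DirectSum.of F.C k (F.mkC k x hx)

theorem ofM_congr {i j : ZMod p} {x y : 𝔏} (hij : i = j) (hxy : x = y) (hx : x ∈ F.Mc i)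
    (hy : y ∈ F.Mc j) : F.ofM i x hx = F.ofM j y hy := by
  subst hij; subst hxy; rfl

theorem ofM_add (k : ZMod p) {x y : 𝔏} (hx : x ∈ F.Mc k) (hy : y ∈ F.Mc k) :
    F.ofM k (x + y) (AddSubgroup.add_mem _ hx hy) = F.ofM k x hx + F.ofM k y hy :=
  map_add (DirectSum.of F.C k) (F.mkC k x hx) (F.mkC k y hy)

theorem ofM_zero (k : ZMod p) : F.ofM k 0 (AddSubgroup.zero_mem _) = 0 :=
  map_zero (DirectSum.of F.C k)

theorem ofM_neg (k : ZMod p) {x : 𝔏} (hx : x ∈ F.Mc k) :
    F.ofM k (-x) (AddSubgroup.neg_mem _ hx) = - F.ofM k x hx :=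
  map_neg (DirectSum.of F.C k) (F.mkC k x hx)

/-- the bracket as a biadditive map -/
noncomputable def lieH : F.MH →+ F.MH →+ F.MH := DirectSum.mulHom F.C

theorem lieH_ofM {i j : ZMod p} {x y : 𝔏} (hx : x ∈ F.Mc i) (hy : y ∈ F.Mc j) :
    F.lieH (F.ofM i x hx) (F.ofM j y hy) = F.ofM (i + j) ⁅x, y⁆ (F.hbr hx hy) :=
  DirectSum.mulHom_of_of (A := F.C) (F.mkC i x hx) (F.mkC j y hy)

theorem MH_induction {P : F.MH → Prop} (h0 : P 0)
    (hgen : ∀ (k : ZMod p) (x : 𝔏) (hx : x ∈ F.Mc k), P (F.ofM k x hx))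
    (hadd : ∀ a b, P a → P b → P (a + b)) : ∀ y, P y := by
  intro y
  refine DirectSum.induction_on (motive := P) y h0 ?_ hadd
  intro k a
  exact hgen k (F.inc k a) (F.inc_mem a)

theorem lieH_skew_gen {i j : ZMod p} {x y : 𝔏} (hx : x ∈ F.Mc i) (hy : y ∈ F.Mc j) :
    F.lieH (F.ofM i x hx) (F.ofM j y hy) = - F.lieH (F.ofM j y hy) (F.ofM i x hx) := by
  rw [lieH_ofM, lieH_ofM, ← ofM_neg]
  exact F.ofM_congr (add_comm i j) (lie_skew x y).symm _ _

theorem lieH_skew (a b : F.MH) : F.lieH a b = - F.lieH b a := by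
  revert b
  refine F.MH_induction (P := fun a => ∀ b, F.lieH a b = - F.lieH b a) ?_ ?_ ?_ a
  · intro b
    simp
  · intro i x hx b
    refine F.MH_induction (P := fun b => F.lieH (F.ofM i x hx) b = - F.lieH b (F.ofM i x hx))
      ?_ ?_ ?_ b
    · simp
    · intro j y hy
      exact F.lieH_skew_gen hx hy
    · intro b b' h h'
      rw [map_add, map_add, AddMonoidHom.add_apply, h, h', neg_add]
  · intro a a' h h' b
    rw [map_add, map_add, AddMonoidHom.add_apply, h, h', neg_add]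

theorem lieH_self (a : F.MH) : F.lieH a a = 0 := by
  refine F.MH_induction (P := fun a => F.lieH a a = 0) ?_ ?_ ?_ a
  · simp
  · intro i x hx
    rw [lieH_ofM, ← F.ofM_zero (i + i)]
    exact F.ofM_congr rfl (lie_self x) _ _
  · intro a b ha hb
    rw [map_add, map_add, AddMonoidHom.add_apply, AddMonoidHom.add_apply, ha, hb,
      F.lieH_skew b a]
    abel

theorem jacobi_gen {i j k : ZMod p} {a b c : 𝔏} (ha : a ∈ F.Mc i) (hb : b ∈ F.Mc j)
    (hc : c ∈ F.Mc k) :
    F.lieH (F.lieH (F.ofM i a ha) (F.ofM j b hb)) (F.ofM k c hc)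
      + F.lieH (F.lieH (F.ofM j b hb) (F.ofM k c hc)) (F.ofM i a ha)
      + F.lieH (F.lieH (F.ofM k c hc) (F.ofM i a ha)) (F.ofM j b hb) = 0 := by
  rw [lieH_ofM, lieH_ofM, lieH_ofM, lieH_ofM, lieH_ofM, lieH_ofM]
  have e2 : F.ofM (j + k + i) ⁅⁅b, c⁆, a⁆ (F.hbr (F.hbr hb hc) ha) =
      F.ofM (i + j + k) ⁅⁅b, c⁆, a⁆ (by
        have := F.hbr (F.hbr hb hc) ha
        rwa [show j + k + i = i + j + k by ring] at this) :=
    F.ofM_congr (by ring) rfl _ _
  have e3 : F.ofM (k + i + j) ⁅⁅c, a⁆, b⁆ (F.hbr (F.hbr hc ha) hb) =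
      F.ofM (i + j + k) ⁅⁅c, a⁆, b⁆ (by
        have := F.hbr (F.hbr hc ha) hb
        rwa [show k + i + j = i + j + k by ring] at this) :=
    F.ofM_congr (by ring) rfl _ _
  rw [e2, e3, ← ofM_add, ← ofM_add, ← F.ofM_zero (i + j + k)]
  refine F.ofM_congr rfl ?_ _ _
  rw [← lie_skew ⁅a, b⁆ c, ← lie_skew ⁅b, c⁆ a, ← lie_skew ⁅c, a⁆ b]
  have h := lie_jacobi a b c
  rw [← neg_add, ← neg_add, neg_eq_zero, ← h]
  abel

/-- the Jacobiator -/
noncomputable def jac (x y z : F.MH) : F.MH :=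
  F.lieH (F.lieH x y) z + F.lieH (F.lieH y z) x + F.lieH (F.lieH z x) y

theorem jac_add_left (x x' y z : F.MH) : F.jac (x + x') y z = F.jac x y z + F.jac x' y z := by
  unfold jac
  simp only [map_add, AddMonoidHom.add_apply]
  abel

theorem jac_add_mid (x y y' z : F.MH) : F.jac x (y + y') z = F.jac x y z + F.jac x y' z := by
  unfold jac
  simp only [map_add, AddMonoidHom.add_apply]
  abel

theorem jac_add_right (x y z z' : F.MH) : F.jac x y (z + z') = F.jac x y z + F.jac x y z' := by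
  unfold jac
  simp only [map_add, AddMonoidHom.add_apply]
  abel

theorem jac_eq_zero (x y z : F.MH) : F.jac x y z = 0 := by
  revert y z
  refine F.MH_induction (P := fun x => ∀ y z, F.jac x y z = 0) ?_ ?_ ?_ x
  · intro y z
    simp [jac]
  · intro i a ha y
    refine F.MH_induction (P := fun y => ∀ z, F.jac (F.ofM i a ha) y z = 0) ?_ ?_ ?_ y
    · intro z
      simp [jac]
    · intro j b hb z
      refine F.MH_induction (P := fun z => F.jac (F.ofM i a ha) (F.ofM j b hb) z = 0) ?_ ?_ ?_ z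
      · simp [jac]
      · intro k c hc
        exact F.jacobi_gen ha hb hc
      · intro z z' h h'
        rw [jac_add_right, h, h', add_zero]
    · intro y y' h h' z
      rw [jac_add_mid, h, h', add_zero]
  · intro x x' h h' y z
    rw [jac_add_left, h, h', add_zero]

noncomputable instance MH_lieRing : LieRing F.MH :=
  { (inferInstance : AddCommGroup F.MH) with
    bracket := fun x y => F.lieH x y
    add_lie := fun x y z => by
      show F.lieH (x + y) z = F.lieH x z + F.lieH y z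
      rw [map_add, AddMonoidHom.add_apply]
    lie_add := fun x y z => by
      show F.lieH x (y + z) = F.lieH x y + F.lieH x z
      rw [map_add]
    lie_self := F.lieH_self
    leibniz_lie := fun x y z => by
      show F.lieH x (F.lieH y z) = F.lieH (F.lieH x y) z + F.lieH y (F.lieH x z)
      have h := F.jac_eq_zero x y z
      unfold jac at h
      rw [F.lieH_skew x (F.lieH y z), F.lieH_skew y (F.lieH x z), F.lieH_skew x z]
      simp only [map_neg, AddMonoidHom.neg_apply, neg_neg]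
      rw [eq_comm, eq_neg_iff_add_eq_zero, ← h]
      abel }

theorem lie_def (x y : F.MH) : ⁅x, y⁆ = F.lieH x y := rfl

theorem lie_ofM {i j : ZMod p} {x y : 𝔏} (hx : x ∈ F.Mc i) (hy : y ∈ F.Mc j) :
    ⁅F.ofM i x hx, F.ofM j y hy⁆ = F.ofM (i + j) ⁅x, y⁆ (F.hbr hx hy) :=
  F.lieH_ofM hx hy

/-- the sum map of the hull into the Lie ring -/
noncomputable def sumH : F.MH →+ 𝔏 := DirectSum.toAddMonoid (fun k => F.inc k)

theorem sumH_ofM (k : ZMod p) (x : 𝔏) (hx : x ∈ F.Mc k) : F.sumH (F.ofM k x hx) = x :=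
  DirectSum.toAddMonoid_of (fun k => F.inc k) k (F.mkC k x hx)

theorem sumH_lie (a b : F.MH) : F.sumH ⁅a, b⁆ = ⁅F.sumH a, F.sumH b⁆ := by
  revert b
  refine F.MH_induction (P := fun a => ∀ b, F.sumH ⁅a, b⁆ = ⁅F.sumH a, F.sumH b⁆) ?_ ?_ ?_ a
  · intro b
    rw [zero_lie, map_zero, zero_lie]
  · intro i x hx b
    refine F.MH_induction
      (P := fun b => F.sumH ⁅F.ofM i x hx, b⁆ = ⁅F.sumH (F.ofM i x hx), F.sumH b⁆) ?_ ?_ ?_ b
    · rw [lie_zero, map_zero, lie_zero]
    · intro j y hy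
      rw [lie_ofM, sumH_ofM, sumH_ofM, sumH_ofM]
    · intro b b' h h'
      rw [lie_add, map_add, map_add, lie_add, h, h']
  · intro a a' h h' b
    rw [add_lie, map_add, map_add, add_lie, h, h']

theorem sumH_mem (a : F.MH) : F.sumH a ∈ ⨆ k, F.Mc k := by
  refine F.MH_induction (P := fun a => F.sumH a ∈ ⨆ k, F.Mc k) ?_ ?_ ?_ a
  · rw [map_zero]; exact AddSubgroup.zero_mem _
  · intro k x hx
    rw [sumH_ofM]
    exact (le_iSup F.Mc k) hx
  · intro a b ha hb
    rw [map_add]; exact AddSubgroup.add_mem _ ha hb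

theorem map_sumH_top : AddSubgroup.map F.sumH ⊤ = ⨆ k, F.Mc k := by
  apply le_antisymm
  · rintro _ ⟨a, _, rfl⟩
    exact F.sumH_mem a
  · refine iSup_le fun k x hx => ?_
    exact ⟨F.ofM k x hx, AddSubgroup.mem_top _, F.sumH_ofM k x hx⟩

theorem br_map_le (U V : AddSubgroup F.MH) :
    KK.br (AddSubgroup.map F.sumH U) (AddSubgroup.map F.sumH V) ≤
      AddSubgroup.map F.sumH (KK.br U V) := by
  rw [KK.br_le]
  rintro _ ⟨u, hu, rfl⟩ _ ⟨v, hv, rfl⟩
  exact ⟨⁅u, v⁆, KK.lie_mem_br hu hv, F.sumH_lie u v⟩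

theorem Gam_map_le (n : ℕ) :
    KK.Gam n (AddSubgroup.map F.sumH ⊤) ≤ AddSubgroup.map F.sumH (KK.Gam n ⊤) := by
  induction n with
  | zero => exact le_rfl
  | succ n ih =>
    rw [KK.Gam_succ, KK.Gam_succ]
    exact (KK.br_mono ih le_rfl).trans (F.br_map_le _ _)

/-- inclusion of a component into the hull -/
noncomputable def ofH (k : ZMod p) : F.C k →+ F.MH := DirectSum.of F.C k

/-- projection of the hull onto a component -/
noncomputable def compH (k : ZMod p) : F.MH →+ F.C k :=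
  (DFinsupp.evalAddMonoidHom k : (Π₀ i : ZMod p, F.C i) →+ F.C k)

theorem ofH_eq (k : ZMod p) (a : F.C k) : F.ofH k a = F.ofM k (F.inc k a) (F.inc_mem a) := rfl

theorem compH_ofH_same (k : ZMod p) (a : F.C k) : F.compH k (F.ofH k a) = a :=
  DirectSum.of_eq_same k a

theorem compH_ofH_ne {i k : ZMod p} (h : i ≠ k) (a : F.C i) : F.compH k (F.ofH i a) = 0 :=
  DirectSum.of_eq_of_ne i k a (Ne.symm h)

theorem sum_ofH_compH [NeZero p] (x : F.MH) : ∑ k : ZMod p, F.ofH k (F.compH k x) = x :=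
  DirectSum.sum_univ_of (β := F.C) x

theorem lie_ofH {i j : ZMod p} (a : F.C i) (b : F.C j) :
    ⁅F.ofH i a, F.ofH j b⁆ = F.ofH (i + j) (F.brC a b) :=
  DirectSum.mulHom_of_of (A := F.C) a b

/-- the grading of the hull -/
noncomputable def grading [NeZero p] (h0 : F.Mc 0 = ⊥) : KK.Grading p F.MH where
  Lc := fun k => (F.ofH k).range
  e := fun k => (F.ofH k).comp (F.compH k)
  lie_mem := by
    rintro i j _ _ ⟨a, rfl⟩ ⟨b, rfl⟩
    exact ⟨F.brC a b, (F.lie_ofH a b).symm⟩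
  zero := by
    rw [eq_bot_iff]
    rintro _ ⟨a, rfl⟩
    have h1 : F.inc 0 a ∈ F.Mc 0 := F.inc_mem a
    rw [h0, AddSubgroup.mem_bot] at h1
    have h2 : a = 0 := F.inc_injective 0 (by rw [h1, map_zero])
    rw [h2, map_zero]
    exact AddSubgroup.zero_mem _
  e_mem := fun k x => ⟨F.compH k x, rfl⟩
  sum_e := fun x => F.sum_ofH_compH x
  e_of_mem := by
    rintro i k _ ⟨a, rfl⟩
    show F.ofH k (F.compH k (F.ofH i a)) = _
    by_cases h : i = k
    · subst h
      rw [if_pos rfl, compH_ofH_same]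
    · rw [if_neg h, F.compH_ofH_ne h, map_zero]

end GFam

variable {p : ℕ} [hp : Fact p.Prime]

/-- **HULL** (graded hull). A family of additive subgroups `Mc k`, `k : ZMod p`, of a Lie ring
with `⁅Mc i, Mc j⁆ ⊆ Mc (i+j)` and `Mc 0 = ⊥` generates a subring which is nilpotent of class
at most `hkk p`. -/
theorem hull_gam_eq_bot {𝔏 : Type u} [LieRing 𝔏] (Mc : ZMod p → AddSubgroup 𝔏)
    (hbr : ∀ {i j : ZMod p} {x y : 𝔏}, x ∈ Mc i → y ∈ Mc j → ⁅x, y⁆ ∈ Mc (i + j))
    (h0 : Mc 0 = ⊥) :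
    KK.Gam (hkk p) (⨆ k, Mc k) = ⊥ := by
  let F : GFam p 𝔏 := ⟨Mc, hbr⟩
  have hmain : KK.Gam (hkk p) (⊤ : AddSubgroup F.MH) = ⊥ := KK.kk_main (F.grading h0)
  have h1 := F.Gam_map_le (hkk p)
  rw [hmain, F.map_sumH_top] at h1
  rw [eq_bot_iff]
  refine h1.trans ?_
  rw [AddSubgroup.map_bot]



end Cfsg.Agent.Lib.H1.ALP
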