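import Mathlib

set_option autoImplicit false

/-!
# Eigen-decomposition for an endomorphism of order `p` over a ring with a `p`-th root of unity
-/

namespace Cfsg.Agent.Lib.H1.Eig

open Finset

variable {p : ℕ} [hp : Fact p.Prime]

theorem pow_val_add {M : Type*} [Monoid M] {x : M} (hx : x ^ p = 1) (i j : ZMod p) :
    x ^ (i + j).val = x ^ i.val * x ^ j.val := by
  rw [ZMod.val_add, ← pow_eq_pow_mod _ hx, pow_add]

theorem pow_val_mul {M : Type*} [Monoid M] {x : M} (hx : x ^ p = 1) (i j : ZMod p) :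
    x ^ (i * j).val = (x ^ i.val) ^ j.val := by
  rw [ZMod.val_mul, ← pow_eq_pow_mod _ hx, pow_mul]

theorem val_one_eq : (1 : ZMod p).val = 1 := by
  have : Fact (1 < p) := ⟨hp.out.one_lt⟩
  exact ZMod.val_one p

theorem sum_zmod_eq_sum_range {N : Type*} [AddCommMonoid N] (f : ℕ → N) :
    ∑ j : ZMod p, f j.val = ∑ k ∈ range p, f k := by
  refine Finset.sum_bij (fun j _ => j.val) ?_ ?_ ?_ ?_
  · intro j _
    exact Finset.mem_range.2 (ZMod.val_lt j)
  · intro a _ b _ h
    exact ZMod.val_injective p h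
  · intro k hk
    refine ⟨(k : ZMod p), Finset.mem_univ _, ?_⟩
    exact ZMod.val_natCast_of_lt (Finset.mem_range.1 hk)
  · intro j _
    rfl

variable {A : Type*} [CommRing A] {M : Type*} [AddCommGroup M] [Module A M]
variable (ω : A) (T : Module.End A M) (c : A)

/-- `ω ^ j` for `j : ZMod p` -/
def wz (j : ZMod p) : A := ω ^ j.val

/-- `T ^ j` for `j : ZMod p` -/
def Tz (j : ZMod p) : Module.End A M := T ^ j.val

variable {ω T}

theorem wz_add (hω : ω ^ p = 1) (i j : ZMod p) : wz ω (i + j) = wz ω i * wz ω j :=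
  pow_val_add hω i j

theorem wz_zero : wz ω (0 : ZMod p) = 1 := by
  simp [wz]

theorem wz_mul (hω : ω ^ p = 1) (i j : ZMod p) : wz ω (i * j) = wz ω i ^ j.val :=
  pow_val_mul hω i j

theorem Tz_add (hT : T ^ p = 1) (i j : ZMod p) : Tz T (i + j) = Tz T i * Tz T j :=
  pow_val_add hT i j

theorem Tz_zero : Tz T (0 : ZMod p) = 1 := by
  simp [Tz]

theorem Tz_one : Tz T (1 : ZMod p) = T := by
  simp [Tz, val_one_eq]

theorem Tz_succ (hT : T ^ p = 1) (j : ZMod p) : Tz T (j + 1) = T * Tz T j := by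
  rw [add_comm, Tz_add hT, Tz_one]

theorem sum_wz (hs : ∑ k ∈ range p, ω ^ k = 0) : ∑ j : ZMod p, wz ω j = 0 := by
  rw [← hs]
  exact sum_zmod_eq_sum_range (fun k => ω ^ k)

theorem sum_wz_mul (hs : ∑ k ∈ range p, ω ^ k = 0) {d : ZMod p} (hd : d ≠ 0) :
    ∑ j : ZMod p, wz ω (d * j) = 0 := by
  rw [← sum_wz hs]
  exact Equiv.sum_comp (Equiv.mulLeft₀ d hd) (fun j => wz ω j)

theorem sum_wz_mul' (hs : ∑ k ∈ range p, ω ^ k = 0) (d : ZMod p) :
    ∑ j : ZMod p, wz ω (d * j) = if d = 0 then (p : A) else 0 := by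
  split_ifs with h
  · subst h
    simp [wz_zero, ZMod.card]
  · exact sum_wz_mul hs h

variable (ω T)

/-- eigen-subgroups -/
def E (k : ZMod p) : AddSubgroup M where
  carrier := {x | T x = wz ω k • x}
  zero_mem' := by simp
  add_mem' := by
    intro a b ha hb
    simp only [Set.mem_ofPred_eq] at *
    rw [map_add, ha, hb, smul_add]
  neg_mem' := by
    intro a ha
    simp only [Set.mem_ofPred_eq] at *
    rw [map_neg, ha, smul_neg]

/-- projections -/
def eE (k : ZMod p) : Module.End A M := c • ∑ j : ZMod p, wz ω (-(j * k)) • Tz T j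

variable {ω T c}

omit hp in
theorem mem_E {k : ZMod p} {x : M} : x ∈ E ω T k ↔ T x = wz ω k • x := Iff.rfl

theorem eE_apply (k : ZMod p) (x : M) :
    eE ω T c k x = c • ∑ j : ZMod p, wz ω (-(j * k)) • Tz T j x := by
  simp [eE, LinearMap.smul_apply, LinearMap.sum_apply]

theorem eE_mem (hω : ω ^ p = 1) (hT : T ^ p = 1) (k : ZMod p) (x : M) :
    eE ω T c k x ∈ E ω T k := by
  rw [mem_E, eE_apply, map_smul, map_sum]
  have h1 : ∀ j : ZMod p, T (wz ω (-(j * k)) • Tz T j x) = wz ω (-(j * k)) • Tz T (j + 1) x := by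
    intro j
    rw [map_smul, Tz_succ hT, Module.End.mul_apply]
  simp only [h1]
  rw [smul_comm (wz ω k) c]
  congr 1
  rw [Finset.smul_sum]
  have h2 : ∀ j : ZMod p, wz ω k • wz ω (-(j * k)) • Tz T j x =
      wz ω (-((j - 1) * k)) • Tz T j x := by
    intro j
    rw [smul_smul, ← wz_add hω]
    congr 2
    ring
  simp only [h2]
  have h3 := Equiv.sum_comp (Equiv.addRight (1 : ZMod p))
    (fun j => wz ω (-((j - 1) * k)) • Tz T j x)
  rw [← h3]
  refine Finset.sum_congr rfl fun j _ => ?_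
  show wz ω (-(j * k)) • Tz T (j + 1) x = wz ω (-((j + 1 - 1) * k)) • Tz T (j + 1) x
  rw [add_sub_cancel_right]

theorem sum_eE (hs : ∑ k ∈ range p, ω ^ k = 0) (hc : ∀ x : M, (c * (p : A)) • x = x) (x : M) :
    ∑ k : ZMod p, eE ω T c k x = x := by
  simp only [eE_apply]
  rw [← Finset.smul_sum, Finset.sum_comm]
  have h1 : ∀ j : ZMod p, ∑ k : ZMod p, wz ω (-(j * k)) • Tz T j x =
      (if j = 0 then (p : A) else 0) • Tz T j x := by
    intro j
    rw [← Finset.sum_smul]
    congr 1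
    have h := sum_wz_mul' hs (-j)
    simp only [neg_eq_zero] at h
    rw [← h]
    refine Finset.sum_congr rfl fun k _ => ?_
    congr 1
    ring
  simp only [h1]
  rw [Finset.sum_eq_single (0 : ZMod p)]
  · rw [if_pos rfl, Tz_zero, Module.End.one_apply, smul_smul]
    exact hc x
  · intro j _ hj
    rw [if_neg hj, zero_smul]
  · intro h
    exact absurd (Finset.mem_univ _) h

theorem Tz_apply_of_mem (hω : ω ^ p = 1) {i : ZMod p} {x : M} (hx : x ∈ E ω T i) (j : ZMod p) :
    Tz T j x = wz ω (i * j) • x := by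
  rw [wz_mul hω]
  unfold Tz
  generalize j.val = n
  induction n with
  | zero => simp
  | succ n ih =>
    rw [pow_succ', Module.End.mul_apply, ih, map_smul, mem_E.1 hx, smul_smul, pow_succ]

theorem eE_of_mem (hω : ω ^ p = 1) (hs : ∑ k ∈ range p, ω ^ k = 0)
    (hc : ∀ x : M, (c * (p : A)) • x = x) {i : ZMod p} (k : ZMod p) {x : M}
    (hx : x ∈ E ω T i) : eE ω T c k x = if i = k then x else 0 := by
  rw [eE_apply]
  have h1 : ∀ j : ZMod p, wz ω (-(j * k)) • Tz T j x = wz ω ((i - k) * j) • x := by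
    intro j
    rw [Tz_apply_of_mem hω hx, smul_smul, ← wz_add hω]
    congr 2
    ring
  simp only [h1]
  rw [← Finset.sum_smul, sum_wz_mul' hs]
  by_cases h : i = k
  · subst h
    rw [sub_self, if_pos rfl, if_pos rfl, smul_smul]
    exact hc x
  · rw [if_neg (sub_ne_zero.2 h), if_neg h, zero_smul, smul_zero]

theorem E_zero (hTs : ∑ k ∈ range p, T ^ k = 0) (hc : ∀ x : M, (c * (p : A)) • x = x) :
    E ω T (0 : ZMod p) = ⊥ := by
  rw [eq_bot_iff]
  intro x hx
  rw [AddSubgroup.mem_bot]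
  rw [mem_E, wz_zero, one_smul] at hx
  have h1 : ∀ n : ℕ, (T ^ n) x = x := by
    intro n
    induction n with
    | zero => simp
    | succ n ih => rw [pow_succ', Module.End.mul_apply, ih, hx]
  have h2 : (∑ k ∈ range p, T ^ k) x = (p : A) • x := by
    rw [LinearMap.sum_apply]
    simp only [h1]
    rw [Finset.sum_const, Finset.card_range, ← Nat.cast_smul_eq_nsmul A]
  rw [hTs, LinearMap.zero_apply] at h2
  rw [← hc x, mul_smul, ← h2, smul_zero]

end Cfsg.Agent.Lib.H1.Eig
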