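import Mathlib
import Cfsg.Agent.Lib.H1.LieGe
import Cfsg.Agent.Lib.H1.KKa

set_option autoImplicit false

/-!
# Scalar extension of a Lie ring with an automorphism of prime order, and its grading
-/

namespace Cfsg.Agent.Lib.H1.LieT

open scoped TensorProduct
open Finset

universe u

variable {p : ℕ} [hp : Fact p.Prime] {A : Type} [CommRing A] {L : Type u} [LieRing L]

/-- `x ↦ 1 ⊗ x` -/
noncomputable def iota : L →+ A ⊗[ℤ] L := (TensorProduct.mk ℤ A L 1).toAddMonoidHom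

theorem iota_apply (x : L) : iota (A := A) x = (1 : A) ⊗ₜ[ℤ] x := rfl

theorem iota_lie (x y : L) : iota (A := A) ⁅x, y⁆ = ⁅iota (A := A) x, iota y⁆ := by
  rw [iota_apply, iota_apply, iota_apply, LieAlgebra.ExtendScalars.bracket_tmul, mul_one]

theorem iota_injective (r : A →ₗ[ℤ] ℤ) (hr : r 1 = 1) :
    Function.Injective (iota (A := A) (L := L)) := by
  let g : A ⊗[ℤ] L →ₗ[ℤ] L := (TensorProduct.lid ℤ L).toLinearMap ∘ₗ (LinearMap.rTensor L r)
  have hg : ∀ x : L, g (iota x) = x := by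
    intro x
    show (TensorProduct.lid ℤ L) ((r 1) ⊗ₜ[ℤ] x) = x
    rw [hr, TensorProduct.lid_tmul, one_smul]
  intro x y hxy
  rw [← hg x, ← hg y, hxy]

theorem iota_Gam (n : ℕ) : ∀ x ∈ KK.Gam n (⊤ : AddSubgroup L),
    iota (A := A) x ∈ KK.Gam n (⊤ : AddSubgroup (A ⊗[ℤ] L)) := by
  induction n with
  | zero =>
    intro x _
    rw [KK.Gam_zero]
    exact AddSubgroup.mem_top _
  | succ n ih =>
    intro x hx
    rw [KK.Gam_succ] at hx ⊢
    unfold KK.br at hx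
    induction hx using AddSubgroup.closure_induction with
    | mem z hz =>
      obtain ⟨u, hu, v, _, rfl⟩ := hz
      rw [iota_lie]
      exact KK.lie_mem_br (ih u hu) (AddSubgroup.mem_top _)
    | zero =>
      rw [map_zero]
      exact zero_mem _
    | add a b _ _ ha hb =>
      rw [map_add]
      exact add_mem ha hb
    | neg a _ ha =>
      rw [map_neg]
      exact neg_mem ha

variable (A)

/-- the base-changed endomorphism -/
noncomputable def Tt (φ : Module.End ℤ L) : Module.End A (A ⊗[ℤ] L) := φ.baseChange A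

variable {A}

theorem Tt_tmul (φ : Module.End ℤ L) (a : A) (x : L) : Tt A φ (a ⊗ₜ[ℤ] x) = a ⊗ₜ[ℤ] φ x := rfl

theorem Tt_lie {φ : Module.End ℤ L} (hlie : ∀ x y, φ ⁅x, y⁆ = ⁅φ x, φ y⁆) (x y : A ⊗[ℤ] L) :
    Tt A φ ⁅x, y⁆ = ⁅Tt A φ x, Tt A φ y⁆ := by
  induction x using TensorProduct.induction_on with
  | zero =>
    have h1 := zero_lie (L := A ⊗[ℤ] L) y
    have h2 := zero_lie (L := A ⊗[ℤ] L) (Tt A φ y)
    rw [h1, map_zero, h2]
  | tmul a u =>
    induction y using TensorProduct.induction_on with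
    | zero =>
      have h1 := lie_zero (M := A ⊗[ℤ] L) (a ⊗ₜ[ℤ] u : A ⊗[ℤ] L)
      have h2 := lie_zero (M := A ⊗[ℤ] L) (Tt A φ (a ⊗ₜ[ℤ] u))
      rw [h1, map_zero, h2]
    | tmul b v =>
      rw [LieAlgebra.ExtendScalars.bracket_tmul, Tt_tmul, Tt_tmul, Tt_tmul,
        LieAlgebra.ExtendScalars.bracket_tmul, hlie]
    | add y y' h h' =>
      have h1 := lie_add (a ⊗ₜ[ℤ] u : A ⊗[ℤ] L) y y'
      have h2 := lie_add (Tt A φ (a ⊗ₜ[ℤ] u)) (Tt A φ y) (Tt A φ y')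
      rw [h1, map_add, h, h', map_add, h2]
  | add x x' h h' =>
    have h1 := add_lie x x' y
    have h2 := add_lie (Tt A φ x) (Tt A φ x') (Tt A φ y)
    rw [h1, map_add, h, h', map_add, h2]

theorem Tt_pow {φ : Module.End ℤ L} {n : ℕ} (h : φ ^ n = 1) : Tt A φ ^ n = 1 := by
  unfold Tt
  rw [← LinearMap.baseChange_pow, h, LinearMap.baseChange_one]

theorem Tt_sum {φ : Module.End ℤ L} {n : ℕ} (h : ∑ k ∈ range n, φ ^ k = 0) :
    ∑ k ∈ range n, Tt A φ ^ k = 0 := by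
  have h2 := congrArg (Module.End.baseChangeHom ℤ A L) h
  rw [map_sum, map_zero] at h2
  simp only [map_pow] at h2
  exact h2

omit hp in
theorem inv_p_smul {m : ℤ} (hm : ∀ y : L, (m * (p : ℤ)) • y = y) (x : A ⊗[ℤ] L) :
    (((m : ℤ) : A) * (p : A)) • x = x := by
  induction x using TensorProduct.induction_on with
  | zero => rw [smul_zero]
  | tmul a y =>
    have e : ((m : ℤ) : A) * (p : A) = ((m * (p : ℤ) : ℤ) : A) := by push_cast; rfl
    rw [e, TensorProduct.smul_tmul', smul_eq_mul, ← zsmul_eq_mul, TensorProduct.smul_tmul, hm]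
  | add x x' h h' => rw [smul_add, h, h']

/-- the grading by eigenspaces -/
noncomputable def grading {ω : A} (hω : ω ^ p = 1) (hs : ∑ k ∈ range p, ω ^ k = 0)
    {φ : Module.End ℤ L} (hlie : ∀ x y, φ ⁅x, y⁆ = ⁅φ x, φ y⁆) (hpow : φ ^ p = 1)
    (hsum : ∑ k ∈ range p, φ ^ k = 0) {m : ℤ} (hm : ∀ y : L, (m * (p : ℤ)) • y = y) :
    KK.Grading p (A ⊗[ℤ] L) where
  Lc := Eig.E ω (Tt A φ)
  e := fun k => (Eig.eE ω (Tt A φ) ((m : ℤ) : A) k).toAddMonoidHom
  lie_mem := by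
    intro i j x y hx hy
    rw [Eig.mem_E] at hx hy ⊢
    rw [Tt_lie hlie, hx, hy]
    have h1 := smul_lie (Eig.wz ω i) x (Eig.wz ω j • y)
    have h2 := lie_smul (Eig.wz ω j) x y
    rw [h1, h2, smul_smul, Eig.wz_add hω]
  zero := Eig.E_zero (Tt_sum hsum) (inv_p_smul hm)
  e_mem := fun k x => Eig.eE_mem hω (Tt_pow hpow) k x
  sum_e := fun x => Eig.sum_eE hs (inv_p_smul hm) x
  e_of_mem := fun k _ hx => Eig.eE_of_mem hω hs (inv_p_smul hm) k hx

theorem Gam_eq_bot {ω : A} (hω : ω ^ p = 1) (hs : ∑ k ∈ range p, ω ^ k = 0)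
    (r : A →ₗ[ℤ] ℤ) (hr : r 1 = 1)
    {φ : Module.End ℤ L} (hlie : ∀ x y, φ ⁅x, y⁆ = ⁅φ x, φ y⁆) (hpow : φ ^ p = 1)
    (hsum : ∑ k ∈ range p, φ ^ k = 0) {m : ℤ} (hm : ∀ y : L, (m * (p : ℤ)) • y = y) (N : ℕ)
    (hN : KK.Grading p (A ⊗[ℤ] L) → KK.Gam N (⊤ : AddSubgroup (A ⊗[ℤ] L)) = ⊥) :
    KK.Gam N (⊤ : AddSubgroup L) = ⊥ := by
  rw [eq_bot_iff]
  intro x hx
  have h := iota_Gam (A := A) N x hx
  rw [hN (grading hω hs hlie hpow hsum hm), AddSubgroup.mem_bot] at h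
  rw [AddSubgroup.mem_bot]
  apply iota_injective r hr
  rw [h, map_zero]

end Cfsg.Agent.Lib.H1.LieT
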