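import Mathlib
import Cfsg.Agent.Lib.H1.LieGf
import Cfsg.Agent.Lib.H1.KKd

set_option autoImplicit false

/-!
# The cyclotomic scalar ring, and Higman–Kreknin–Kostrikin for Lie rings with a
regular automorphism of prime order
-/

namespace Cfsg.Agent.Lib.H1.LieT

open Finset Polynomial

universe u

/-- `1 + X + ... + X^(p-1)` -/
noncomputable def gpoly (p : ℕ) : ℤ[X] := ∑ i ∈ range p, (X : ℤ[X]) ^ i

/-- `ℤ[ω]` -/
abbrev Acyc (p : ℕ) : Type := AdjoinRoot (gpoly p)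

/-- `ω` -/
noncomputable def omega (p : ℕ) : Acyc p := AdjoinRoot.root (gpoly p)

theorem omega_sum (p : ℕ) : ∑ k ∈ range p, omega p ^ k = 0 := by
  have h := AdjoinRoot.mk_self (f := gpoly p)
  conv at h =>
    lhs
    arg 2
    unfold gpoly
  rw [map_sum] at h
  simp only [map_pow, AdjoinRoot.mk_X] at h
  exact h

theorem omega_pow (p : ℕ) : omega p ^ p = 1 := by
  have h := geom_sum_mul (omega p) p
  rw [omega_sum, zero_mul] at h
  exact sub_eq_zero.1 h.symm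

variable {p : ℕ} [hp : Fact p.Prime]

theorem gpoly_monic : (gpoly p).Monic := monic_geom_sum_X hp.out.ne_zero

theorem gpoly_natDegree : (gpoly p).natDegree = p - 1 := by
  unfold gpoly
  rw [← Polynomial.cyclotomic_prime ℤ p, natDegree_cyclotomic, Nat.totient_prime hp.out]

variable (p)

/-- a `ℤ`-linear retraction of `ℤ → ℤ[ω]` -/
noncomputable def retr : Acyc p →ₗ[ℤ] ℤ :=
  (Polynomial.lcoeff ℤ 0) ∘ₗ (AdjoinRoot.modByMonicHom (gpoly_monic (p := p)))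

theorem retr_one : retr p 1 = 1 := by
  have h1 : (1 : Acyc p) = AdjoinRoot.mk (gpoly p) 1 := (map_one _).symm
  unfold retr
  rw [LinearMap.comp_apply, h1, AdjoinRoot.modByMonicHom_mk]
  have h2 : (1 : ℤ[X]) %ₘ gpoly p = 1 := by
    rw [Polynomial.modByMonic_eq_self_iff gpoly_monic, degree_one,
      Polynomial.degree_eq_natDegree gpoly_monic.ne_zero, gpoly_natDegree]
    have := hp.out.two_le
    exact_mod_cast (by omega : 0 < p - 1)
  rw [h2]
  simp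

variable {p} {L : Type u} [LieRing L]

theorem lie_kk_main {φ : Module.End ℤ L} (hlie : ∀ x y, φ ⁅x, y⁆ = ⁅φ x, φ y⁆)
    (hpow : φ ^ p = 1) (hsum : ∑ k ∈ range p, φ ^ k = 0) {m : ℤ}
    (hm : ∀ y : L, (m * (p : ℤ)) • y = y) :
    KK.Gam (∑ i ∈ range (2 ^ (p - 1) - 1), (p - 1) ^ i) (⊤ : AddSubgroup L) = ⊥ :=
  Gam_eq_bot (omega_pow p) (omega_sum p) (retr p) (retr_one p) hlie hpow hsum hm _
    (fun gr => KK.kk_main gr)

theorem lie_kk_two (hp2 : p = 2) {φ : Module.End ℤ L} (hlie : ∀ x y, φ ⁅x, y⁆ = ⁅φ x, φ y⁆)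
    (hpow : φ ^ p = 1) (hsum : ∑ k ∈ range p, φ ^ k = 0) {m : ℤ}
    (hm : ∀ y : L, (m * (p : ℤ)) • y = y) :
    KK.Gam 1 (⊤ : AddSubgroup L) = ⊥ := by
  subst hp2
  exact Gam_eq_bot (omega_pow 2) (omega_sum 2) (retr 2) (retr_one 2) hlie hpow hsum hm _
    (fun gr => KK.kk_two gr)

theorem lie_kk_three (hp3 : p = 3) {φ : Module.End ℤ L} (hlie : ∀ x y, φ ⁅x, y⁆ = ⁅φ x, φ y⁆)
    (hpow : φ ^ p = 1) (hsum : ∑ k ∈ range p, φ ^ k = 0) {m : ℤ}
    (hm : ∀ y : L, (m * (p : ℤ)) • y = y) :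
    KK.Gam 2 (⊤ : AddSubgroup L) = ⊥ := by
  subst hp3
  exact Gam_eq_bot (omega_pow 3) (omega_sum 3) (retr 3) (retr_one 3) hlie hpow hsum hm _
    (fun gr => KK.kk_three gr)

end Cfsg.Agent.Lib.H1.LieT
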