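import Mathlib
import Cfsg.Agent.Lib.H19.AlpDefs
import Cfsg.Agent.Lib.H1.LieGg
import Cfsg.Agent.Lib.H1.AlpHULL

set_option autoImplicit false

/-!
# S3782 (Alperin), piece LT: the Lie ring theorem

A Lie ring `L` with an automorphism `φ` of prime order `p` such that `p ^ m` kills the trace
`∑ φ ^ k`: then `p ^ ((m + 2) * (h + 1))` kills `γ_{h+1}(L)`, `h` the
Higman–Kreknin–Kostrikin number.  Proof: extend scalars to `ℤ[ω]`; the subgroups
`p ^ (m + 1) • E k` (`E k` the eigen-subgroups, `k ≠ 0`) form a graded family with trivial zero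
component (piece HULL); `p ^ (m + 2) • x` lies in their sum for every `x`.
-/

namespace Cfsg.Agent.Lib.H1.ALP

open Cfsg.Agent.Lib.H19.ALP
open Cfsg.Agent.Lib.H1
open scoped TensorProduct

universe u

section LT

variable {p : ℕ} [hp : Fact p.Prime]

/-- EIGSUM with the scalar `c = 1` (own copy) -/
theorem sum_eE_one_aux {A : Type*} [CommRing A] {M : Type*} [AddCommGroup M] [Module A M]
    {ω : A} {T : Module.End A M} (hs : ∑ k ∈ Finset.range p, ω ^ k = 0) (x : M) :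
    ∑ k : ZMod p, Eig.eE ω T (1 : A) k x = (p : A) • x := by
  simp only [Eig.eE_apply]
  rw [← Finset.smul_sum, Finset.sum_comm]
  have h1 : ∀ j : ZMod p, ∑ k : ZMod p, Eig.wz ω (-(j * k)) • Eig.Tz T j x =
      (if j = 0 then (p : A) else 0) • Eig.Tz T j x := by
    intro j
    rw [← Finset.sum_smul]
    congr 1
    have h := Eig.sum_wz_mul' hs (-j)
    simp only [neg_eq_zero] at h
    rw [← h]
    refine Finset.sum_congr rfl fun k _ => ?_
    congr 1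
    ring
  simp only [h1]
  rw [Finset.sum_eq_single (0 : ZMod p)]
  · rw [if_pos rfl, Eig.Tz_zero, Module.End.one_apply, one_smul]
  · intro j _ hj
    rw [if_neg hj, zero_smul]
  · intro h
    exact absurd (Finset.mem_univ _) h

/-- the eigen-subgroups are stable under scalars -/
theorem E_smul_mem {A : Type*} [CommRing A] {M : Type*} [AddCommGroup M] [Module A M]
    {ω : A} {T : Module.End A M} {k : ZMod p} (a : A) {x : M} (hx : x ∈ Eig.E ω T k) :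
    a • x ∈ Eig.E ω T k := by
  rw [Eig.mem_E] at hx ⊢
  rw [map_smul, hx, smul_comm]

/-- on the zero eigen-subgroup the trace is multiplication by `p` -/
theorem trace_of_mem_E_zero {A : Type*} [CommRing A] {M : Type*} [AddCommGroup M] [Module A M]
    {ω : A} {T : Module.End A M} {x : M} (hx : x ∈ Eig.E ω T (0 : ZMod p)) :
    (∑ k ∈ Finset.range p, T ^ k) x = (p : A) • x := by
  rw [Eig.mem_E, Eig.wz_zero, one_smul] at hx
  have h1 : ∀ n : ℕ, (T ^ n) x = x := by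
    intro n
    induction n with
    | zero => simp
    | succ n ih => rw [pow_succ', Module.End.mul_apply, ih, hx]
  rw [LinearMap.sum_apply]
  simp only [h1]
  rw [Finset.sum_const, Finset.card_range, ← Nat.cast_smul_eq_nsmul A]

variable {L : Type u} [LieRing L] {A : Type} [CommRing A] {ω : A}

/-- the trace of the base change -/
theorem Tt_trace_tmul (φ : Module.End ℤ L) (n : ℕ) (a : A) (x : L) :
    (∑ k ∈ Finset.range n, LieT.Tt A φ ^ k) (a ⊗ₜ[ℤ] x) =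
      a ⊗ₜ[ℤ] ((∑ k ∈ Finset.range n, φ ^ k) x) := by
  have h2 : (Module.End.baseChangeHom ℤ A L) (∑ k ∈ Finset.range n, φ ^ k) =
      ∑ k ∈ Finset.range n, LieT.Tt A φ ^ k := by
    rw [map_sum]
    simp only [map_pow]
    rfl
  rw [← h2]
  rfl

/-- scalars from `ℤ` on the right factor -/
theorem intCast_smul_tmul (c : ℤ) (a : A) (x : L) :
    ((c : ℤ) : A) • (a ⊗ₜ[ℤ] x : A ⊗[ℤ] L) = a ⊗ₜ[ℤ] (c • x) := by
  rw [TensorProduct.smul_tmul', smul_eq_mul, ← zsmul_eq_mul, TensorProduct.smul_tmul]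

/-- base change of the hypothesis on the trace -/
theorem trace_bc {φ : Module.End ℤ L} (m : ℕ)
    (hfix : ∀ x : L, ((p : ℤ) ^ m) • (∑ k ∈ Finset.range p, φ ^ k) x = 0)
    (y : A ⊗[ℤ] L) :
    ((p : A) ^ m) • (∑ k ∈ Finset.range p, LieT.Tt A φ ^ k) y = 0 := by
  induction y using TensorProduct.induction_on with
  | zero => rw [map_zero, smul_zero]
  | tmul a x =>
    have e : ((p : A)) ^ m = (((p : ℤ) ^ m : ℤ) : A) := by push_cast; rfl
    rw [Tt_trace_tmul, e, intCast_smul_tmul, hfix, TensorProduct.tmul_zero]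
  | add y y' h h' => rw [map_add, smul_add, h, h', add_zero]

/-- `p ^ (m + 1)` kills the zero eigen-subgroup -/
theorem E_zero_killed {φ : Module.End ℤ L} (m : ℕ)
    (hfix : ∀ x : L, ((p : ℤ) ^ m) • (∑ k ∈ Finset.range p, φ ^ k) x = 0)
    {y : A ⊗[ℤ] L}
    (hy : y ∈ Eig.E ω (LieT.Tt A φ) (0 : ZMod p)) :
    ((p : A) ^ (m + 1)) • y = 0 := by
  have h := trace_bc m hfix y
  rw [trace_of_mem_E_zero hy, smul_smul, ← pow_succ] at h
  exact h

/-- the family `p ^ (m + 1) • E k`, `k ≠ 0` -/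
noncomputable def McFam (ω : A) (φ : Module.End ℤ L) (m : ℕ) (k : ZMod p) :
    AddSubgroup (A ⊗[ℤ] L) :=
  if k = 0 then ⊥ else
    AddSubgroup.map (DistribSMul.toAddMonoidHom (A ⊗[ℤ] L)
      ((p : A) ^ (m + 1))) (Eig.E ω (LieT.Tt A φ) k)

theorem McFam_zero (ω : A) (φ : Module.End ℤ L) (m : ℕ) : McFam (p := p) ω φ m 0 = ⊥ := by
  unfold McFam
  rw [if_pos rfl]

theorem mem_McFam {φ : Module.End ℤ L} {m : ℕ} {k : ZMod p} (hk : k ≠ 0)
    {x : A ⊗[ℤ] L} :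
    x ∈ McFam ω φ m k ↔ ∃ y ∈ Eig.E ω (LieT.Tt A φ) k,
      ((p : A) ^ (m + 1)) • y = x := by
  unfold McFam
  rw [if_neg hk, AddSubgroup.mem_map]
  rfl

theorem E_lie_mem (hω : ω ^ p = 1) {φ : Module.End ℤ L}
    (hlie : ∀ x y, φ ⁅x, y⁆ = ⁅φ x, φ y⁆) {i j : ZMod p}
    {x y : A ⊗[ℤ] L}
    (hx : x ∈ Eig.E ω (LieT.Tt A φ) i)
    (hy : y ∈ Eig.E ω (LieT.Tt A φ) j) :
    ⁅x, y⁆ ∈ Eig.E ω (LieT.Tt A φ) (i + j) := by
  rw [Eig.mem_E] at hx hy ⊢
  rw [LieT.Tt_lie hlie, hx, hy]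
  have h1 := smul_lie (Eig.wz ω i) x (Eig.wz ω j • y)
  have h2 := lie_smul (Eig.wz ω j) x y
  rw [h1, h2, smul_smul, Eig.wz_add hω]

theorem McFam_br (hω : ω ^ p = 1) {φ : Module.End ℤ L}
    (hlie : ∀ x y, φ ⁅x, y⁆ = ⁅φ x, φ y⁆) (m : ℕ)
    (hfix : ∀ x : L, ((p : ℤ) ^ m) • (∑ k ∈ Finset.range p, φ ^ k) x = 0)
    {i j : ZMod p} {x y : A ⊗[ℤ] L} (hx : x ∈ McFam ω φ m i) (hy : y ∈ McFam ω φ m j) :
    ⁅x, y⁆ ∈ McFam ω φ m (i + j) := by
  by_cases hi : i = 0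
  · subst hi
    rw [McFam_zero, AddSubgroup.mem_bot] at hx
    have h1 := zero_lie (L := A ⊗[ℤ] L) y
    rw [hx, h1]
    exact zero_mem _
  by_cases hj : j = 0
  · subst hj
    rw [McFam_zero, AddSubgroup.mem_bot] at hy
    have h1 := lie_zero (M := A ⊗[ℤ] L) x
    rw [hy, h1]
    exact zero_mem _
  obtain ⟨x', hx', rfl⟩ := (mem_McFam hi).1 hx
  obtain ⟨y', hy', rfl⟩ := (mem_McFam hj).1 hy
  have hb := E_lie_mem hω hlie hx' hy'
  have h1 := smul_lie ((p : A) ^ (m + 1)) x' (((p : A) ^ (m + 1)) • y')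
  have h2 := lie_smul ((p : A) ^ (m + 1)) x' y'
  rw [h1, h2]
  by_cases hij : i + j = 0
  · rw [hij] at hb ⊢
    rw [E_zero_killed m hfix hb, smul_zero]
    exact zero_mem _
  · rw [mem_McFam hij]
    exact ⟨_, E_smul_mem _ hb, rfl⟩

/-- `p ^ (m + 2) • x` lies in the sum of the family -/
theorem smul_mem_iSup (hω : ω ^ p = 1) (hs : ∑ k ∈ Finset.range p, ω ^ k = 0)
    {φ : Module.End ℤ L} (hpow : φ ^ p = 1) (m : ℕ)
    (hfix : ∀ x : L, ((p : ℤ) ^ m) • (∑ k ∈ Finset.range p, φ ^ k) x = 0)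
    (x : A ⊗[ℤ] L) :
    ((p : A) ^ (m + 2)) • x ∈ ⨆ k : ZMod p, McFam ω φ m k := by
  have h1 := sum_eE_one_aux (T := LieT.Tt A φ) hs x
  rw [pow_succ, ← smul_smul, ← h1, Finset.smul_sum]
  refine sum_mem fun k _ => ?_
  have hk := Eig.eE_mem (c := (1 : A)) hω (LieT.Tt_pow hpow) k x
  by_cases h0 : k = 0
  · rw [h0] at hk ⊢
    rw [E_zero_killed m hfix hk]
    exact zero_mem _
  · exact (le_iSup (fun k : ZMod p => McFam ω φ m k) k) ((mem_McFam h0).2 ⟨_, hk, rfl⟩)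

/-- the key claim -/
theorem smul_mem_Gam (hω : ω ^ p = 1) (hs : ∑ k ∈ Finset.range p, ω ^ k = 0)
    {φ : Module.End ℤ L} (hpow : φ ^ p = 1) (m : ℕ)
    (hfix : ∀ x : L, ((p : ℤ) ^ m) • (∑ k ∈ Finset.range p, φ ^ k) x = 0) (n : ℕ) :
    ∀ x ∈ KK.Gam n (⊤ : AddSubgroup (A ⊗[ℤ] L)),
      (((p : A) ^ (m + 2)) ^ (n + 1)) • x ∈ KK.Gam n (⨆ k : ZMod p, McFam ω φ m k) := by
  induction n with
  | zero =>
    intro x _
    rw [KK.Gam_zero, zero_add, pow_one]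
    exact smul_mem_iSup hω hs hpow m hfix x
  | succ n ih =>
    intro x hx
    rw [KK.Gam_succ] at hx ⊢
    unfold KK.br at hx
    induction hx using AddSubgroup.closure_induction with
    | mem z hz =>
      obtain ⟨u, hu, v, _, rfl⟩ := hz
      have h1 := smul_lie (((p : A) ^ (m + 2)) ^ (n + 1)) u
        (((p : A) ^ (m + 2)) • v)
      have h2 := lie_smul ((p : A) ^ (m + 2)) u v
      have h3 : (((p : A) ^ (m + 2)) ^ (n + 1 + 1)) • ⁅u, v⁆ =
          ⁅(((p : A) ^ (m + 2)) ^ (n + 1)) • u, ((p : A) ^ (m + 2)) • v⁆ := by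
        rw [h1, h2, smul_smul, ← pow_succ]
      rw [h3]
      exact KK.lie_mem_br (ih u hu) (smul_mem_iSup hω hs hpow m hfix v)
    | zero =>
      rw [smul_zero]
      exact zero_mem _
    | add a b _ _ ha hb =>
      rw [smul_add]
      exact add_mem ha hb
    | neg a _ ha =>
      rw [smul_neg]
      exact neg_mem ha

/-- the Lie ring theorem over a general scalar ring with a root of unity and a retraction -/
theorem lie_alperin_gen (hω : ω ^ p = 1) (hs : ∑ k ∈ Finset.range p, ω ^ k = 0)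
    (r : A →ₗ[ℤ] ℤ) (hr : r 1 = 1) {φ : Module.End ℤ L}
    (hlie : ∀ x y, φ ⁅x, y⁆ = ⁅φ x, φ y⁆) (hpow : φ ^ p = 1) (m : ℕ)
    (hfix : ∀ x : L, ((p : ℤ) ^ m) • (∑ k ∈ Finset.range p, φ ^ k) x = 0) :
    ∀ x ∈ KK.Gam (hkk p) (⊤ : AddSubgroup L), ((p : ℤ) ^ ((m + 2) * (hkk p + 1))) • x = 0 := by
  intro x hx
  have h1 := LieT.iota_Gam (A := A) (hkk p) x hx
  have h2 := smul_mem_Gam hω hs hpow m hfix (hkk p) _ h1
  have h3 : KK.Gam (hkk p) (⨆ k : ZMod p, McFam ω φ m k) = ⊥ :=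
    hull_gam_eq_bot (fun k : ZMod p => McFam ω φ m k) (fun hx hy => McFam_br hω hlie m hfix hx hy)
      (McFam_zero ω φ m)
  rw [h3, AddSubgroup.mem_bot, ← pow_mul] at h2
  apply LieT.iota_injective (A := A) r hr
  rw [map_zero, ← h2, LieT.iota_apply, LieT.iota_apply]
  have e : ((p : A)) ^ ((m + 2) * (hkk p + 1)) =
      (((p : ℤ) ^ ((m + 2) * (hkk p + 1)) : ℤ) : A) := by push_cast; rfl
  rw [e, intCast_smul_tmul]

/-- **LT** (the Lie ring theorem; inputs HULL, EIGSUM). -/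
theorem lie_alperin {L : Type u} [LieRing L] {φ : Module.End ℤ L}
    (hlie : ∀ x y, φ ⁅x, y⁆ = ⁅φ x, φ y⁆) (hpow : φ ^ p = 1) (m : ℕ)
    (hfix : ∀ x : L, ((p : ℤ) ^ m) • (∑ k ∈ Finset.range p, φ ^ k) x = 0) :
    ∀ x ∈ KK.Gam (hkk p) (⊤ : AddSubgroup L), ((p : ℤ) ^ ((m + 2) * (hkk p + 1))) • x = 0 :=
  lie_alperin_gen (LieT.omega_pow p) (LieT.omega_sum p) (LieT.retr p) (LieT.retr_one p)
    hlie hpow m hfix

end LT

end Cfsg.Agent.Lib.H1.ALP
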