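/-
Even-dimensional orthogonal Aschbacher project (helper26 architect), material for the module
"abelian minimal normal subgroup modulo scalars" (helper1), part a: the PLUS-TYPE LEMMA, linear algebra.
If three isometries `a g c` of a quadratic form `Q` on `F^n` (`2 ≠ 0`) satisfy `a² = 1`, `g a = - a g`,
`c a = a c`, `c² = -1`, and `α² + β² = -1`, then `{v + g (α v + β c v) | a v = v}` is a totally singular
subspace of half the dimension: `Q` is of plus type.
-/
import Mathlib
import Cfsg.Prelude.Def_GeometricClasses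

set_option autoImplicit false

namespace Cfsg.Agent.Lib.H1.AschE

open Cfsg Cfsg.Geo
open scoped MatrixGroups Matrix

variable {F : Type*} [Field F] {n : ℕ}

/-- The fixed space of a matrix. -/
def fixSpace (a : Matrix (Fin n) (Fin n) F) : Submodule F (Fin n → F) :=
  LinearMap.ker (Matrix.toLin' (a - 1))

theorem mem_fixSpace {a : Matrix (Fin n) (Fin n) F} {v : Fin n → F} :
    v ∈ fixSpace a ↔ a *ᵥ v = v := by
  unfold fixSpace
  rw [LinearMap.mem_ker, Matrix.toLin'_apply, Matrix.sub_mulVec, Matrix.one_mulVec, sub_eq_zero]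

/-- The `-1` eigenspace of a matrix. -/
def negSpace (a : Matrix (Fin n) (Fin n) F) : Submodule F (Fin n → F) :=
  LinearMap.ker (Matrix.toLin' (a + 1))

theorem mem_negSpace {a : Matrix (Fin n) (Fin n) F} {v : Fin n → F} :
    v ∈ negSpace a ↔ a *ᵥ v = -v := by
  unfold negSpace
  rw [LinearMap.mem_ker, Matrix.toLin'_apply, Matrix.add_mulVec, Matrix.one_mulVec,
    add_eq_zero_iff_eq_neg]

theorem polar_isometry (Q : (Fin n → F) → F) (g : Matrix (Fin n) (Fin n) F)
    (hg : ∀ v, Q (g *ᵥ v) = Q v) (u v : Fin n → F) :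
    QuadraticMap.polar Q (g *ᵥ u) (g *ᵥ v) = QuadraticMap.polar Q u v := by
  unfold QuadraticMap.polar
  rw [← Matrix.mulVec_add, hg, hg, hg]

theorem finrank_map_of_injOn (φ : (Fin n → F) →ₗ[F] (Fin n → F)) (W : Submodule F (Fin n → F))
    (h : ∀ v ∈ W, φ v = 0 → v = 0) : Module.finrank F (W.map φ) = Module.finrank F W := by
  rw [← LinearMap.range_domRestrict, LinearMap.finrank_range_of_inj]
  rw [← LinearMap.ker_eq_bot, eq_bot_iff]
  rintro ⟨v, hv⟩ hker
  rw [LinearMap.mem_ker, LinearMap.domRestrict_apply] at hker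
  rw [Submodule.mem_bot]
  exact Subtype.ext (h v hv hker)

theorem plus_of_triple (Q : (Fin n → F) → F) (hQ : IsNondegenerateQuadraticForm Q)
    (h2 : (2 : F) ≠ 0) (α β : F) (hαβ : α ^ 2 + β ^ 2 = -1)
    (a g c g' : Matrix (Fin n) (Fin n) F)
    (ha : a * a = 1) (hc : c * c = -1) (hga : g * a = -(a * g)) (hca : c * a = a * c)
    (hgg' : g' * g = 1)
    (hQa : ∀ v, Q (a *ᵥ v) = Q v) (hQg : ∀ v, Q (g *ᵥ v) = Q v) (hQc : ∀ v, Q (c *ᵥ v) = Q v) :
    IsPlusTypeOn Q ⊤ := by
  classical
  set f := QuadraticMap.polar Q with hf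
  have hb : IsBilinearForm f := hQ.polar_bilinear
  have hgg : g * g' = 1 := mul_eq_one_comm.1 hgg'
  -- orthogonality of the two eigenspaces
  have horth : ∀ v ∈ fixSpace a, ∀ w ∈ negSpace a, f v w = 0 := by
    intro v hv w hw
    have h1 := polar_isometry Q a hQa v w
    rw [mem_fixSpace.1 hv, mem_negSpace.1 hw, ← hf] at h1
    have h3 : f v (-w) = -f v w := by
      have := hb.smul_right (-1) v w
      rw [neg_one_smul, neg_one_mul] at this
      exact this
    rw [h3] at h1
    have h4 : (2 : F) * f v w = 0 := by linear_combination -h1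
    exact (mul_eq_zero.1 h4).resolve_left h2
  -- `g` swaps the eigenspaces
  have hag : a * g = -(g * a) := by rw [hga, neg_neg]
  have hgpm : ∀ v ∈ fixSpace a, g *ᵥ v ∈ negSpace a := by
    intro v hv
    rw [mem_negSpace, Matrix.mulVec_mulVec, hag, Matrix.neg_mulVec, ← Matrix.mulVec_mulVec,
      mem_fixSpace.1 hv]
  have hgmp : ∀ v ∈ negSpace a, g *ᵥ v ∈ fixSpace a := by
    intro v hv
    rw [mem_fixSpace, Matrix.mulVec_mulVec, hag, Matrix.neg_mulVec, ← Matrix.mulVec_mulVec,
      mem_negSpace.1 hv, Matrix.mulVec_neg, neg_neg]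
  have hcp : ∀ v ∈ fixSpace a, c *ᵥ v ∈ fixSpace a := by
    intro v hv
    rw [mem_fixSpace, Matrix.mulVec_mulVec, ← hca, ← Matrix.mulVec_mulVec, mem_fixSpace.1 hv]
  -- the eigenspaces are complementary
  have hinf : fixSpace a ⊓ negSpace a = ⊥ := by
    rw [eq_bot_iff]
    intro v hv
    have h1 := mem_fixSpace.1 hv.1
    have h3 := mem_negSpace.1 hv.2
    rw [h1] at h3
    have h4 : (2 : F) • v = 0 := by
      rw [two_smul]
      nth_rewrite 1 [h3]
      exact neg_add_cancel v
    rw [Submodule.mem_bot]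
    exact (smul_eq_zero.1 h4).resolve_left h2
  have hsup : fixSpace a ⊔ negSpace a = ⊤ := by
    rw [eq_top_iff]
    intro v _
    have h1 : (2 : F)⁻¹ • (v + a *ᵥ v) ∈ fixSpace a := by
      apply Submodule.smul_mem
      rw [mem_fixSpace, Matrix.mulVec_add, Matrix.mulVec_mulVec, ha, Matrix.one_mulVec, add_comm]
    have h3 : (2 : F)⁻¹ • (v - a *ᵥ v) ∈ negSpace a := by
      apply Submodule.smul_mem
      rw [mem_negSpace, Matrix.mulVec_sub, Matrix.mulVec_mulVec, ha, Matrix.one_mulVec, neg_sub]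
    have h4 : v = (2 : F)⁻¹ • (v + a *ᵥ v) + (2 : F)⁻¹ • (v - a *ᵥ v) := by
      rw [← smul_add, add_add_sub_cancel, ← two_smul F v, smul_smul, inv_mul_cancel₀ h2, one_smul]
    rw [h4]
    exact Submodule.add_mem_sup h1 h3
  -- equal dimensions
  have hginj : ∀ v, g *ᵥ v = 0 → v = 0 := by
    intro v hv
    have := congrArg (fun w => g' *ᵥ w) hv
    simpa [Matrix.mulVec_mulVec, hgg'] using this
  have hle1 : Module.finrank F (fixSpace a) ≤ Module.finrank F (negSpace a) := by
    have h1 : (fixSpace a).map (Matrix.toLin' g) ≤ negSpace a := by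
      rintro _ ⟨v, hv, rfl⟩
      rw [Matrix.toLin'_apply]
      exact hgpm v hv
    have h3 := Submodule.finrank_mono h1
    rwa [finrank_map_of_injOn _ _ (fun v _ hv => hginj v (by rwa [Matrix.toLin'_apply] at hv))] at h3
  have hle2 : Module.finrank F (negSpace a) ≤ Module.finrank F (fixSpace a) := by
    have h1 : (negSpace a).map (Matrix.toLin' g) ≤ fixSpace a := by
      rintro _ ⟨v, hv, rfl⟩
      rw [Matrix.toLin'_apply]
      exact hgmp v hv
    have h3 := Submodule.finrank_mono h1
    rwa [finrank_map_of_injOn _ _ (fun v _ hv => hginj v (by rwa [Matrix.toLin'_apply] at hv))] at h3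
  have hdim : 2 * Module.finrank F (fixSpace a) = n := by
    have h1 := Submodule.finrank_sup_add_finrank_inf_eq (fixSpace a) (negSpace a)
    rw [hsup, hinf, finrank_bot, finrank_top, Module.finrank_fintype_fun_eq_card, Fintype.card_fin] at h1
    omega
  -- the totally singular subspace
  set φ : (Fin n → F) →ₗ[F] (Fin n → F) := Matrix.toLin' (1 + g * (α • 1 + β • c)) with hφ
  have hφv : ∀ v, φ v = v + g *ᵥ (α • v + β • c *ᵥ v) := by
    intro v
    rw [hφ, Matrix.toLin'_apply, Matrix.add_mulVec, Matrix.one_mulVec, ← Matrix.mulVec_mulVec,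
      Matrix.add_mulVec, Matrix.smul_mulVec, Matrix.one_mulVec, Matrix.smul_mulVec]
  have hwmem : ∀ v ∈ fixSpace a, g *ᵥ (α • v + β • c *ᵥ v) ∈ negSpace a := by
    intro v hv
    apply hgpm
    exact Submodule.add_mem _ (Submodule.smul_mem _ _ hv) (Submodule.smul_mem _ _ (hcp v hv))
  refine ⟨(fixSpace a).map φ, le_top, ?_, ?_⟩
  · -- totally singular
    rintro _ ⟨v, hv, rfl⟩
    rw [hφv]
    have hpol : ∀ x y : Fin n → F, Q (x + y) = Q x + Q y + f x y := by
      intro x y
      rw [hf]; unfold QuadraticMap.polar; ring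
    have hfvc : f v (c *ᵥ v) = 0 := by
      have h1 := polar_isometry Q c hQc v (c *ᵥ v)
      rw [← hf, Matrix.mulVec_mulVec, hc, Matrix.neg_mulVec, Matrix.one_mulVec] at h1
      have h3 : f (c *ᵥ v) (-v) = -f (c *ᵥ v) v := by
        have := hb.smul_right (-1) (c *ᵥ v) v
        rw [neg_one_smul, neg_one_mul] at this
        exact this
      have h4 : f (c *ᵥ v) v = f v (c *ᵥ v) := by rw [hf]; exact QuadraticMap.polar_comm _ _ _
      rw [h3, h4] at h1
      have h5 : (2 : F) * f v (c *ᵥ v) = 0 := by linear_combination -h1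
      exact (mul_eq_zero.1 h5).resolve_left h2
    rw [hpol, horth v hv _ (hwmem v hv), add_zero, hQg, hpol, hQ.smul, hQ.smul, hQc,
      hb.smul_left, hb.smul_right, hfvc]
    linear_combination (Q v) * hαβ
  · -- dimension
    rw [finrank_top, Module.finrank_fintype_fun_eq_card, Fintype.card_fin, finrank_map_of_injOn, hdim]
    intro v hv h0
    rw [hφv] at h0
    have h1 : v = -(g *ᵥ (α • v + β • c *ᵥ v)) := eq_neg_of_add_eq_zero_left h0
    have h3 : v ∈ negSpace a := by
      rw [h1]; exact Submodule.neg_mem _ (hwmem v hv)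
    have h4 : v ∈ fixSpace a ⊓ negSpace a := ⟨hv, h3⟩
    rw [hinf, Submodule.mem_bot] at h4
    exact h4

end Cfsg.Agent.Lib.H1.AschE
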