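/-
S5662 / module SM7 (helper1), part a: pure group theory.  In a finite group whose commutators lie in
`{1, z}` with `z` a central involution, every subgroup `A` satisfies
`|A| * |C_G(A)| ≤ |G| * |Z(G)|` (in fact equality with `|A ∩ Z(G)|`); proved by summing the
commutation signs over `A × G` in both orders.
-/
import Mathlib

set_option autoImplicit false

namespace Cfsg.Agent.Lib.H1.AschS

section grp

variable {G : Type*} [Group G]

open Classical in
/-- the sign `1` if `g` and `a` commute and `-1` otherwise -/
noncomputable def commSign (g a : G) : ℤ := if g * a = a * g then 1 else -1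

theorem commSign_of_comm {g a : G} (h : g * a = a * g) : commSign g a = 1 := by
  unfold commSign; rw [if_pos h]

theorem commSign_of_not_comm {g a : G} (h : ¬ g * a = a * g) : commSign g a = -1 := by
  unfold commSign; rw [if_neg h]

theorem commSign_symm (g a : G) : commSign g a = commSign a g := by
  by_cases h : g * a = a * g
  · rw [commSign_of_comm h, commSign_of_comm h.symm]
  · rw [commSign_of_not_comm h, commSign_of_not_comm (fun h' => h h'.symm)]

variable (z : G) (hz : z * z = 1) (hzc : ∀ g : G, g * z = z * g)
  (hcomm : ∀ g a : G, g * a = a * g ∨ g * a = z * (a * g))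

include hz hzc hcomm in
theorem commSign_mul_left (g h a : G) : commSign (g * h) a = commSign g a * commSign h a := by
  by_cases h1 : g * a = a * g
  · by_cases h2 : h * a = a * h
    · have e : (g * h) * a = a * (g * h) := by
        rw [mul_assoc, h2, ← mul_assoc, h1, mul_assoc]
      rw [commSign_of_comm e, commSign_of_comm h1, commSign_of_comm h2, one_mul]
    · have h2' : h * a = z * (a * h) := (hcomm h a).resolve_left h2
      have e : (g * h) * a = z * (a * (g * h)) := by
        calc (g * h) * a = g * (h * a) := mul_assoc _ _ _
          _ = g * (z * (a * h)) := by rw [h2']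
          _ = (g * z) * (a * h) := (mul_assoc _ _ _).symm
          _ = (z * g) * (a * h) := by rw [hzc g]
          _ = z * ((g * a) * h) := by simp only [mul_assoc]
          _ = z * ((a * g) * h) := by rw [h1]
          _ = z * (a * (g * h)) := by simp only [mul_assoc]
      have ne : ¬ (g * h) * a = a * (g * h) := by
        intro h3
        rw [e] at h3
        have hz1 : z = 1 := mul_eq_right.1 h3
        apply h2
        rw [h2', hz1, one_mul]
      rw [commSign_of_not_comm ne, commSign_of_comm h1, commSign_of_not_comm h2, one_mul]
  · have h1' : g * a = z * (a * g) := (hcomm g a).resolve_left h1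
    by_cases h2 : h * a = a * h
    · have e : (g * h) * a = z * (a * (g * h)) := by
        calc (g * h) * a = g * (h * a) := mul_assoc _ _ _
          _ = g * (a * h) := by rw [h2]
          _ = (g * a) * h := (mul_assoc _ _ _).symm
          _ = (z * (a * g)) * h := by rw [h1']
          _ = z * (a * (g * h)) := by simp only [mul_assoc]
      have ne : ¬ (g * h) * a = a * (g * h) := by
        intro h3
        rw [e] at h3
        have hz1 : z = 1 := mul_eq_right.1 h3
        apply h1
        rw [h1', hz1, one_mul]
      rw [commSign_of_not_comm ne, commSign_of_not_comm h1, commSign_of_comm h2, mul_one]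
    · have h2' : h * a = z * (a * h) := (hcomm h a).resolve_left h2
      have e : (g * h) * a = a * (g * h) := by
        calc (g * h) * a = g * (h * a) := mul_assoc _ _ _
          _ = g * (z * (a * h)) := by rw [h2']
          _ = (g * z) * (a * h) := (mul_assoc _ _ _).symm
          _ = (z * g) * (a * h) := by rw [hzc g]
          _ = z * ((g * a) * h) := by simp only [mul_assoc]
          _ = z * ((z * (a * g)) * h) := by rw [h1']
          _ = (z * z) * (a * (g * h)) := by simp only [mul_assoc]
          _ = a * (g * h) := by rw [hz, one_mul]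
      rw [commSign_of_comm e, commSign_of_not_comm h1, commSign_of_not_comm h2]
      norm_num

include hz hzc hcomm in
theorem commSign_mul_right (g a b : G) : commSign g (a * b) = commSign g a * commSign g b := by
  rw [commSign_symm g (a * b), commSign_mul_left z hz hzc hcomm a b g, commSign_symm a g,
    commSign_symm b g]

theorem sum_eq_zero_of_mul {K : Type*} [Group K] [Fintype K] (φ : K → ℤ)
    (hφ : ∀ x y, φ (x * y) = φ x * φ y) (x₀ : K) (h0 : φ x₀ = -1) : ∑ x, φ x = 0 := by
  have h : ∑ x, φ (x₀ * x) = ∑ x, φ x :=
    Fintype.sum_equiv (Equiv.mulLeft x₀) _ _ (fun x => rfl)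
  simp_rw [hφ, h0] at h
  rw [← Finset.mul_sum] at h
  linarith

include hz hzc hcomm in
/-- `|A| * |C_G(A)| ≤ |G| * |Z(G)|`. -/
theorem card_mul_card_centralizer_le [Finite G] (A : Subgroup G) :
    Nat.card A * Nat.card (Subgroup.centralizer (A : Set G)) ≤
      Nat.card G * Nat.card (Subgroup.center G) := by
  classical
  have := Fintype.ofFinite G
  -- first order of summation
  have h1 : ∀ a : A, ∑ g : G, commSign g (a : G) =
      if (a : G) ∈ Subgroup.center G then (Fintype.card G : ℤ) else 0 := by
    intro a
    by_cases ha : (a : G) ∈ Subgroup.center G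
    · rw [if_pos ha]
      have : ∀ g : G, commSign g (a : G) = 1 := fun g =>
        commSign_of_comm (Subgroup.mem_center_iff.1 ha g)
      simp only [this, Finset.sum_const, Finset.card_univ, nsmul_eq_mul, mul_one]
    · rw [if_neg ha]
      rw [Subgroup.mem_center_iff] at ha
      push Not at ha
      obtain ⟨g₀, hg₀⟩ := ha
      exact sum_eq_zero_of_mul (fun g => commSign g (a : G))
        (fun x y => commSign_mul_left z hz hzc hcomm x y a) g₀ (commSign_of_not_comm hg₀)
  have h2 : ∀ g : G, ∑ a : A, commSign g (a : G) =
      if g ∈ Subgroup.centralizer (A : Set G) then (Fintype.card A : ℤ) else 0 := by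
    intro g
    by_cases hg : g ∈ Subgroup.centralizer (A : Set G)
    · rw [if_pos hg]
      have : ∀ a : A, commSign g (a : G) = 1 := fun a =>
        commSign_of_comm (Subgroup.mem_centralizer_iff.1 hg a a.2).symm
      simp only [this, Finset.sum_const, Finset.card_univ, nsmul_eq_mul, mul_one]
    · rw [if_neg hg]
      rw [Subgroup.mem_centralizer_iff] at hg
      push Not at hg
      obtain ⟨a₀, ha₀, hne⟩ := hg
      exact sum_eq_zero_of_mul (fun a : A => commSign g (a : G))
        (fun x y => by
          rw [Subgroup.coe_mul]; exact commSign_mul_right z hz hzc hcomm g x y) ⟨a₀, ha₀⟩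
        (commSign_of_not_comm (fun h => hne h.symm))
  have hswap : ∑ a : A, ∑ g : G, commSign g (a : G) = ∑ g : G, ∑ a : A, commSign g (a : G) :=
    Finset.sum_comm
  simp_rw [h1, h2] at hswap
  rw [← Finset.sum_filter, ← Finset.sum_filter, Finset.sum_const, Finset.sum_const, nsmul_eq_mul,
    nsmul_eq_mul] at hswap
  have hC : (Finset.univ.filter (fun g : G => g ∈ Subgroup.centralizer (A : Set G))).card =
      Nat.card (Subgroup.centralizer (A : Set G)) := by
    rw [Nat.card_eq_fintype_card, Fintype.card_subtype]
  have hZ : (Finset.univ.filter (fun a : A => (a : G) ∈ Subgroup.center G)).card ≤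
      Nat.card (Subgroup.center G) := by
    rw [Nat.card_eq_fintype_card, ← Fintype.card_subtype]
    exact Fintype.card_le_of_injective
      (fun a : {a : A // (a : G) ∈ Subgroup.center G} => (⟨(a.1 : G), a.2⟩ : Subgroup.center G))
      (fun a b hab => by
        apply Subtype.ext; apply Subtype.ext
        exact congrArg (fun t : Subgroup.center G => (t : G)) hab)
  rw [hC] at hswap
  have h3 : (Nat.card A : ℤ) * (Nat.card (Subgroup.centralizer (A : Set G)) : ℤ) ≤
      (Nat.card G : ℤ) * (Nat.card (Subgroup.center G) : ℤ) := by
    rw [Nat.card_eq_fintype_card (α := A), Nat.card_eq_fintype_card (α := G)]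
    calc (Fintype.card A : ℤ) * (Nat.card (Subgroup.centralizer (A : Set G)) : ℤ)
        = (Nat.card (Subgroup.centralizer (A : Set G)) : ℤ) * (Fintype.card A : ℤ) := mul_comm _ _
      _ = ((Finset.univ.filter (fun a : A => (a : G) ∈ Subgroup.center G)).card : ℤ) *
          (Fintype.card G : ℤ) := hswap.symm
      _ ≤ (Nat.card (Subgroup.center G) : ℤ) * (Fintype.card G : ℤ) := by
          apply mul_le_mul_of_nonneg_right _ (Int.natCast_nonneg _)
          exact_mod_cast hZ
      _ = (Fintype.card G : ℤ) * (Nat.card (Subgroup.center G) : ℤ) := mul_comm _ _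
  exact_mod_cast h3

end grp

end Cfsg.Agent.Lib.H1.AschS
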