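/-
Even-dimensional orthogonal Aschbacher project, material for the module "abelian minimal normal
subgroup modulo scalars" (helper1), part b: pure group theory.  In a finite group `G` of order `> 8`
whose commutators lie in `{1, z}`, `z` a central involution, with centre `{1, z}`, there are
`a g c` with `a² = 1`, `g a = z a g`, `c a = a c`, `c² = z`.
-/
import Mathlib
import Cfsg.Agent.Lib.H1.AschSM7a

set_option autoImplicit false

namespace Cfsg.Agent.Lib.H1.AschE

open Cfsg.Agent.Lib.H1.AschS

section grp

variable {G : Type*} [Group G]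

theorem commSign_eq_one_iff (g a : G) : commSign g a = 1 ↔ g * a = a * g := by
  constructor
  · intro h
    by_contra hne
    rw [commSign_of_not_comm hne] at h
    norm_num at h
  · exact commSign_of_comm

theorem commSign_sq (g a : G) : commSign g a * commSign g a = 1 := by
  by_cases h : g * a = a * g
  · rw [commSign_of_comm h]; norm_num
  · rw [commSign_of_not_comm h]; norm_num

theorem commSign_one_left (a : G) : commSign 1 a = 1 :=
  commSign_of_comm (by rw [one_mul, mul_one])

theorem commSign_self (a : G) : commSign a a = 1 := commSign_of_comm rfl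

variable (z : G) (hz : z * z = 1) (hzc : ∀ g : G, g * z = z * g)
  (hcomm : ∀ g a : G, g * a = a * g ∨ g * a = z * (a * g))
  (hcen : ∀ w : G, (∀ g : G, g * w = w * g) → w = 1 ∨ w = z)

include hz hzc hcomm hcen in
theorem sq_eq_one_or (w : G) : w * w = 1 ∨ w * w = z := by
  apply hcen
  intro g
  rw [← commSign_eq_one_iff, commSign_mul_right z hz hzc hcomm, commSign_sq]

include hz hzc hcomm in
/-- every element can be moved into the centraliser of `x` and `y` by an element of `{1, x, y, x y}` -/
theorem exists_adjust (x y : G) (hxy : ¬ x * y = y * x) (w : G) :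
    ∃ u : G, (u = 1 ∨ u = x ∨ u = y ∨ u = x * y) ∧ (w * u) * x = x * (w * u) ∧
      (w * u) * y = y * (w * u) := by
  have hsxy : commSign x y = -1 := commSign_of_not_comm hxy
  have hsyx : commSign y x = -1 := by rw [commSign_symm]; exact hsxy
  have hL := commSign_mul_left z hz hzc hcomm
  by_cases h1 : w * x = x * w
  · by_cases h2 : w * y = y * w
    · exact ⟨1, Or.inl rfl, by rw [mul_one]; exact h1, by rw [mul_one]; exact h2⟩
    · refine ⟨x, Or.inr (Or.inl rfl), ?_, ?_⟩
      · rw [← commSign_eq_one_iff, hL, commSign_of_comm h1, commSign_self, one_mul]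
      · rw [← commSign_eq_one_iff, hL, commSign_of_not_comm h2, hsxy]; norm_num
  · by_cases h2 : w * y = y * w
    · refine ⟨y, Or.inr (Or.inr (Or.inl rfl)), ?_, ?_⟩
      · rw [← commSign_eq_one_iff, hL, commSign_of_not_comm h1, hsyx]; norm_num
      · rw [← commSign_eq_one_iff, hL, commSign_of_comm h2, commSign_self, one_mul]
    · refine ⟨x * y, Or.inr (Or.inr (Or.inr rfl)), ?_, ?_⟩
      · rw [← commSign_eq_one_iff, hL, hL, commSign_of_not_comm h1, commSign_self, hsyx]; norm_num
      · rw [← commSign_eq_one_iff, hL, hL, commSign_of_not_comm h2, commSign_self, hsxy]; norm_num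

include hz hzc hcomm hcen in
/-- a second non-commuting pair inside the centraliser of a non-commuting pair -/
theorem exists_second_pair [Finite G] (hbig : 8 < Nat.card G) (x y : G) (hxy : ¬ x * y = y * x) :
    ∃ x' y' : G, x' * x = x * x' ∧ x' * y = y * x' ∧ y' * x = x * y' ∧ y' * y = y * y' ∧
      ¬ x' * y' = y' * x' := by
  classical
  by_contra hcon
  push Not at hcon
  -- every element of the centraliser of `x, y` is central
  have hC : ∀ w' : G, w' * x = x * w' → w' * y = y * w' → w' = 1 ∨ w' = z := by
    intro w' h1 h2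
    apply hcen
    intro w
    obtain ⟨u, hu, hu1, hu2⟩ := exists_adjust z hz hzc hcomm x y hxy w
    have h3 : (w * u) * w' = w' * (w * u) := hcon (w * u) w' hu1 hu2 h1 h2
    have h4 : u * w' = w' * u := by
      rcases hu with rfl | rfl | rfl | rfl
      · rw [one_mul, mul_one]
      · exact h1.symm
      · exact h2.symm
      · rw [mul_assoc, ← h2, ← mul_assoc, ← h1, mul_assoc]
    have h5 : w * (u * w') = (w' * w) * u := by rw [← mul_assoc, h3, mul_assoc]
    rw [h4, ← mul_assoc] at h5
    exact mul_right_cancel h5
  -- hence `G` has at most eight elements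
  let φ : Bool × Fin 4 → G := fun p =>
    (if p.1 then z else 1) * (![1, x, y, x * y] p.2)⁻¹
  have hsurj : Function.Surjective φ := by
    intro w
    obtain ⟨u, hu, hu1, hu2⟩ := exists_adjust z hz hzc hcomm x y hxy w
    have hw : w = (w * u) * u⁻¹ := by rw [mul_inv_cancel_right]
    have hidx : ∃ i : Fin 4, ![1, x, y, x * y] i = u := by
      rcases hu with rfl | rfl | rfl | rfl
      · exact ⟨0, rfl⟩
      · exact ⟨1, rfl⟩
      · exact ⟨2, rfl⟩
      · exact ⟨3, rfl⟩
    obtain ⟨i, hi⟩ := hidx
    rcases hC (w * u) hu1 hu2 with h | h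
    · refine ⟨(false, i), ?_⟩
      simp only [φ, Bool.false_eq_true, if_false, hi]
      rw [hw, h]
    · refine ⟨(true, i), ?_⟩
      simp only [φ, if_true, hi]
      rw [hw, h]
  have hle := Nat.card_le_card_of_surjective φ hsurj
  have h8 : Nat.card (Bool × Fin 4) = 8 := by
    rw [Nat.card_eq_fintype_card]; rfl
  omega

include hz hzc hcomm hcen in
/-- the triple used by the plus-type lemma -/
theorem exists_triple [Finite G] (hbig : 8 < Nat.card G) :
    ∃ a g c : G, a * a = 1 ∧ g * a = z * (a * g) ∧ c * a = a * c ∧ c * c = z := by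
  classical
  -- a non-commuting pair
  have hnc : ∃ x y : G, ¬ x * y = y * x := by
    by_contra hcon
    push Not at hcon
    have hall : ∀ w : G, w = 1 ∨ w = z := fun w => hcen w (fun g => hcon g w)
    let φ : Bool → G := fun b => if b then z else 1
    have hsurj : Function.Surjective φ := by
      intro w
      rcases hall w with h | h
      · exact ⟨false, by simp [φ, h]⟩
      · exact ⟨true, by simp [φ, h]⟩
    have hle := Nat.card_le_card_of_surjective φ hsurj
    have h2 : Nat.card Bool = 2 := by rw [Nat.card_eq_fintype_card]; rfl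
    omega
  obtain ⟨x, y, hxy⟩ := hnc
  obtain ⟨x', y', hx'x, hx'y, hy'x, hy'y, hx'y'⟩ :=
    exists_second_pair z hz hzc hcomm hcen hbig x y hxy
  have hyx : y * x = z * (x * y) := (hcomm y x).resolve_left (fun h => hxy h.symm)
  have hxy' : x * y = z * (y * x) := (hcomm x y).resolve_left hxy
  have hy'x' : y' * x' = z * (x' * y') := (hcomm y' x').resolve_left (fun h => hx'y' h.symm)
  have hx'y'' : x' * y' = z * (y' * x') := (hcomm x' y').resolve_left hx'y'
  have hsq := sq_eq_one_or z hz hzc hcomm hcen
  -- an element of square `z` in `⟨x', y'⟩`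
  have hc' : ∃ c : G, c * x = x * c ∧ c * y = y * c ∧ c * c = z := by
    rcases hsq x' with h1 | h1
    · rcases hsq y' with h2 | h2
      · refine ⟨x' * y', ?_, ?_, ?_⟩
        · rw [mul_assoc, hy'x, ← mul_assoc, hx'x, mul_assoc]
        · rw [mul_assoc, hy'y, ← mul_assoc, hx'y, mul_assoc]
        · calc x' * y' * (x' * y') = x' * (y' * x') * y' := by simp only [mul_assoc]
            _ = x' * (z * (x' * y')) * y' := by rw [hy'x']
            _ = (x' * z) * (x' * y') * y' := by simp only [mul_assoc]
            _ = (z * x') * (x' * y') * y' := by rw [hzc x']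
            _ = z * ((x' * x') * (y' * y')) := by simp only [mul_assoc]
            _ = z := by rw [h1, h2, mul_one, mul_one]
      · exact ⟨y', hy'x, hy'y, h2⟩
    · exact ⟨x', hx'x, hx'y, h1⟩
  rcases hsq x with h1 | h1
  · -- `a = x`, `g = y`
    obtain ⟨c, hcx, _, hcc⟩ := hc'
    exact ⟨x, y, c, h1, hyx, hcx, hcc⟩
  · rcases hsq y with h2 | h2
    · obtain ⟨c, _, hcy, hcc⟩ := hc'
      exact ⟨y, x, c, h2, hxy', hcy, hcc⟩
    · rcases hsq x' with h3 | h3
      · exact ⟨x', y', x, h3, hy'x', hx'x.symm, h1⟩
      · rcases hsq y' with h4 | h4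
        · exact ⟨y', x', x, h4, hx'y'', hy'x.symm, h1⟩
        · refine ⟨x * x', y, x, ?_, ?_, ?_, h1⟩
          · calc x * x' * (x * x') = x * (x' * x) * x' := by simp only [mul_assoc]
              _ = x * (x * x') * x' := by rw [hx'x]
              _ = (x * x) * (x' * x') := by simp only [mul_assoc]
              _ = 1 := by rw [h1, h3, hz]
          · calc y * (x * x') = (y * x) * x' := (mul_assoc _ _ _).symm
              _ = z * (x * y) * x' := by rw [hyx]
              _ = z * (x * (y * x')) := by simp only [mul_assoc]
              _ = z * (x * (x' * y)) := by rw [hx'y]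
              _ = z * (x * x' * y) := by simp only [mul_assoc]
          · calc x * (x * x') = x * (x' * x) := by rw [hx'x]
              _ = x * x' * x := (mul_assoc _ _ _).symm

end grp

end Cfsg.Agent.Lib.H1.AschE
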