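/-
Even-dimensional orthogonal Aschbacher project, material for the module "abelian minimal normal
subgroup modulo scalars" (helper1), part c: the PLUS-TYPE LEMMA.  A group `R` of isometries of a
non-degenerate quadratic form `Q` on `F^n` (`n ≥ 4`, `|F|` odd) with scalar commutators, centre `R ∩ scalars`
of order `2` and `|R| = 2 n ^ 2` forces `Q` to be of plus type.
-/
import Mathlib
import Cfsg.Prelude.Def_GeometricClasses
import Cfsg.Agent.Lib.H1.AschEM7a
import Cfsg.Agent.Lib.H1.AschEM7b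

set_option autoImplicit false

namespace Cfsg.Agent.Lib.H1.AschE

open Cfsg Cfsg.Geo
open scoped MatrixGroups Matrix

variable {F : Type*} [Field F] {n : ℕ}

/-- The central involution `-1` of `R` and the commutation alternative. -/
theorem exists_neg_one (R : Subgroup (GL (Fin n) F))
    (hpm : ∀ x ∈ R, x ∈ scalars (Fin n) F →
      (x : Matrix (Fin n) (Fin n) F) = 1 ∨ (x : Matrix (Fin n) (Fin n) F) = -1)
    (hcomm : ∀ x ∈ R, ∀ y ∈ R, x * y * x⁻¹ * y⁻¹ ∈ scalars (Fin n) F)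
    (hcen : Nat.card (Subgroup.center R) = 2)
    (hcenS : ∀ x : R, x ∈ Subgroup.center R ↔ (x : GL (Fin n) F) ∈ scalars (Fin n) F) :
    ∃ z₀ : R, ((z₀ : GL (Fin n) F) : Matrix (Fin n) (Fin n) F) = -1 ∧ z₀ * z₀ = 1 ∧
      (∀ g : R, g * z₀ = z₀ * g) ∧ (∀ g a : R, g * a = a * g ∨ g * a = z₀ * (a * g)) ∧
      (∀ w : R, (∀ g : R, g * w = w * g) → w = 1 ∨ w = z₀) := by
  classical
  have hne : Subgroup.center R ≠ ⊥ := by
    intro h
    rw [Subgroup.eq_bot_iff_card] at h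
    omega
  obtain ⟨zc, hzc1⟩ := (Subgroup.ne_bot_iff_exists_ne_one).1 hne
  set z₀ : R := (zc : R) with hz₀
  have hz₀c : z₀ ∈ Subgroup.center R := zc.2
  have hz₀1 : z₀ ≠ 1 := fun h => hzc1 (Subtype.ext h)
  have hz₀m : ((z₀ : GL (Fin n) F) : Matrix (Fin n) (Fin n) F) = -1 := by
    rcases hpm (z₀ : GL (Fin n) F) z₀.2 ((hcenS z₀).1 hz₀c) with h | h
    · exfalso
      apply hz₀1
      apply Subtype.ext
      apply Units.ext
      rw [h]; rfl
    · exact h
  refine ⟨z₀, hz₀m, ?_, fun g => Subgroup.mem_center_iff.1 hz₀c g, ?_, ?_⟩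
  · apply Subtype.ext
    apply Units.ext
    rw [Subgroup.coe_mul, Units.val_mul, hz₀m, Subgroup.coe_one, Units.val_one, neg_mul_neg, one_mul]
  · intro g a
    have hd : (g : GL (Fin n) F) * a * (g : GL (Fin n) F)⁻¹ * (a : GL (Fin n) F)⁻¹ ∈ scalars (Fin n) F :=
      hcomm _ g.2 _ a.2
    have hdR : (g : GL (Fin n) F) * a * (g : GL (Fin n) F)⁻¹ * (a : GL (Fin n) F)⁻¹ ∈ R :=
      R.mul_mem (R.mul_mem (R.mul_mem g.2 a.2) (R.inv_mem g.2)) (R.inv_mem a.2)
    have hga : (g : GL (Fin n) F) * a =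
        ((g : GL (Fin n) F) * a * (g : GL (Fin n) F)⁻¹ * (a : GL (Fin n) F)⁻¹) * ((a : GL (Fin n) F) * g) := by
      group
    rcases hpm _ hdR hd with h | h
    · left
      apply Subtype.ext
      rw [Subgroup.coe_mul, Subgroup.coe_mul, hga]
      have : (g : GL (Fin n) F) * a * (g : GL (Fin n) F)⁻¹ * (a : GL (Fin n) F)⁻¹ = 1 := Units.ext h
      rw [this, one_mul]
    · right
      apply Subtype.ext
      rw [Subgroup.coe_mul, Subgroup.coe_mul, Subgroup.coe_mul, hga]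
      have : (g : GL (Fin n) F) * a * (g : GL (Fin n) F)⁻¹ * (a : GL (Fin n) F)⁻¹ = (z₀ : GL (Fin n) F) :=
        Units.ext (h.trans hz₀m.symm)
      rw [this]
  · intro w hw
    have hwc : w ∈ Subgroup.center R := Subgroup.mem_center_iff.2 hw
    rcases hpm (w : GL (Fin n) F) w.2 ((hcenS w).1 hwc) with h | h
    · left
      apply Subtype.ext
      apply Units.ext
      rw [h]; rfl
    · right
      apply Subtype.ext
      apply Units.ext
      rw [h, hz₀m]

/-- A non-degenerate quadratic form on a non-zero space takes a non-zero value. -/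
theorem exists_quad_ne_zero (hn : 0 < n) (Q : (Fin n → F) → F) (hQ : IsNondegenerateQuadraticForm Q) :
    ∃ v, Q v ≠ 0 := by
  classical
  by_contra hcon
  push Not at hcon
  have hv : (Pi.single (⟨0, hn⟩ : Fin n) (1 : F) : Fin n → F) ≠ 0 := by
    intro h
    have := congrFun h ⟨0, hn⟩
    simp at this
  obtain ⟨⟨x, hx⟩, _⟩ := hQ.nondegenerate _ hv
  apply hx
  unfold QuadraticMap.polar
  rw [hcon, hcon, hcon]; ring

/-- A scalar isometry of a non-degenerate quadratic form is `± 1`. -/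
theorem scalar_isometry_eq (hn : 0 < n) (Q : (Fin n → F) → F) (hQ : IsNondegenerateQuadraticForm Q)
    {x : GL (Fin n) F} (hx : x ∈ scalars (Fin n) F)
    (hfix : ∀ v, Q ((x : Matrix (Fin n) (Fin n) F) *ᵥ v) = Q v) :
    (x : Matrix (Fin n) (Fin n) F) = 1 ∨ (x : Matrix (Fin n) (Fin n) F) = -1 := by
  obtain ⟨c, hc⟩ := (mem_scalars_iff x).1 hx
  obtain ⟨v, hv⟩ := exists_quad_ne_zero hn Q hQ
  have h1 := hfix v
  rw [hc, Matrix.smul_mulVec, Matrix.one_mulVec, hQ.smul] at h1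
  have h2 : (c : F) * (c : F) = 1 := by
    have h3 : ((c : F) * (c : F)) * Q v = 1 * Q v := by rw [one_mul, ← pow_two]; exact h1
    exact mul_right_cancel₀ hv h3
  rcases mul_self_eq_one_iff.1 h2 with h | h
  · left; rw [hc, h, one_smul]
  · right; rw [hc, h, neg_smul, one_smul]

/-- **Plus-type lemma.** -/
theorem isPlusTypeOn_top_of_symplecticType [Fintype F] (Q : (Fin n → F) → F)
    (hQ : IsNondegenerateQuadraticForm Q) (hn : 4 ≤ n) (h2 : (2 : F) ≠ 0)
    (R : Subgroup (GL (Fin n) F))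
    (hfixR : ∀ x ∈ R, ∀ v, Q ((x : Matrix (Fin n) (Fin n) F) *ᵥ v) = Q v)
    (hcomm : ∀ x ∈ R, ∀ y ∈ R, x * y * x⁻¹ * y⁻¹ ∈ scalars (Fin n) F)
    (hcen : Nat.card (Subgroup.center R) = 2)
    (hcenS : ∀ x : R, x ∈ Subgroup.center R ↔ (x : GL (Fin n) F) ∈ scalars (Fin n) F)
    (hcard : Nat.card R = 2 * n ^ 2) : IsPlusTypeOn Q ⊤ := by
  classical
  have hn0 : 0 < n := by omega
  have hpm : ∀ x ∈ R, x ∈ scalars (Fin n) F →
      (x : Matrix (Fin n) (Fin n) F) = 1 ∨ (x : Matrix (Fin n) (Fin n) F) = -1 :=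
    fun x hx hxs => scalar_isometry_eq hn0 Q hQ hxs (hfixR x hx)
  obtain ⟨z₀, hz₀m, hzz, hzc, hcomm', hcen'⟩ := exists_neg_one R hpm hcomm hcen hcenS
  have hbig : 8 < Nat.card R := by
    rw [hcard]
    have : 4 * 4 ≤ n * n := Nat.mul_le_mul hn hn
    nlinarith
  obtain ⟨a, g, c, haa, hga, hca, hcc⟩ := exists_triple z₀ hzz hzc hcomm' hcen' hbig
  -- the scalars α, β
  set p := ringChar F with hp
  have : CharP F p := ringChar.charP F
  obtain ⟨e, hpp, _⟩ := FiniteField.card F p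
  have : NeZero p := ⟨hpp.ne_zero⟩
  obtain ⟨α, β, hαβ⟩ := CharP.sq_add_sq F p (-1)
  have hαβ' : ((α : F)) ^ 2 + ((β : F)) ^ 2 = -1 := by
    rw [hαβ]; push_cast; rfl
  refine plus_of_triple Q hQ h2 (α : F) (β : F) hαβ'
    ((a : GL (Fin n) F) : Matrix (Fin n) (Fin n) F) ((g : GL (Fin n) F) : Matrix (Fin n) (Fin n) F)
    ((c : GL (Fin n) F) : Matrix (Fin n) (Fin n) F)
    (((g : GL (Fin n) F)⁻¹ : GL (Fin n) F) : Matrix (Fin n) (Fin n) F) ?_ ?_ ?_ ?_ ?_
    (hfixR _ a.2) (hfixR _ g.2) (hfixR _ c.2)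
  · have := congrArg (fun t : R => ((t : GL (Fin n) F) : Matrix (Fin n) (Fin n) F)) haa
    simpa only [Subgroup.coe_mul, Units.val_mul, Subgroup.coe_one, Units.val_one] using this
  · have := congrArg (fun t : R => ((t : GL (Fin n) F) : Matrix (Fin n) (Fin n) F)) hcc
    simpa only [Subgroup.coe_mul, Units.val_mul, hz₀m] using this
  · have := congrArg (fun t : R => ((t : GL (Fin n) F) : Matrix (Fin n) (Fin n) F)) hga
    simp only [Subgroup.coe_mul, Units.val_mul, hz₀m] at this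
    rw [this, neg_mul, one_mul]
  · have := congrArg (fun t : R => ((t : GL (Fin n) F) : Matrix (Fin n) (Fin n) F)) hca
    simpa only [Subgroup.coe_mul, Units.val_mul] using this
  · rw [← Units.val_mul, inv_mul_cancel, Units.val_one]

end Cfsg.Agent.Lib.H1.AschE
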