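/-
Realisability over the field of traces (helper1): an absolutely irreducible subgroup of `GL_n(F)`, `F` finite,
all of whose traces lie in a subfield `F₁`, can be realised over `F₁`.
-/
import Mathlib
import Cfsg.Agent.Lib.Lead.AschDefs
import Cfsg.Agent.Lib.H3.AschU1
import Cfsg.Agent.Lib.H8.AschM83D

set_option autoImplicit false

namespace Cfsg.Agent.Lib.H1.Asch

open Cfsg Cfsg.Geo Cfsg.Agent.Lib.Lead.Asch Module
open scoped MatrixGroups Matrix

section coords

variable {F : Type*} [Field F] {n : ℕ}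

/-- The trace form on the matrix algebra is non-degenerate. -/
theorem eq_zero_of_trace_mul_eq_zero (y : Matrix (Fin n) (Fin n) F)
    (h : ∀ z : Matrix (Fin n) (Fin n) F, Matrix.trace (y * z) = 0) : y = 0 := by
  ext p q
  have := h (Matrix.single q p (1 : F))
  rw [Matrix.trace_mul_single] at this
  simpa using this

/-- Coordinates with respect to a basis whose Gram matrix for the trace form has entries in a subfield: if
the traces `tr (x * b j)` lie in the subfield, so do the coordinates of `x`. -/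
theorem repr_mem_subfield {ι : Type*} [Fintype ι] [DecidableEq ι] (F₁ : Subfield F)
    (b : Basis ι F (Matrix (Fin n) (Fin n) F))
    (hG : ∀ i j, Matrix.trace (b i * b j) ∈ F₁)
    (x : Matrix (Fin n) (Fin n) F) (hx : ∀ j, Matrix.trace (x * b j) ∈ F₁) (i : ι) :
    b.repr x i ∈ F₁ := by
  set G : Matrix ι ι F := fun i j => Matrix.trace (b i * b j) with hGdef
  have hsum : ∀ (v : ι → F) (j : ι), Matrix.trace ((∑ i, v i • b i) * b j) = (v ᵥ* G) j := by
    intro v j
    rw [Finset.sum_mul, Matrix.trace_sum]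
    simp only [Matrix.smul_mul, Matrix.trace_smul, smul_eq_mul, Matrix.vecMul, dotProduct, hGdef]
  have hGinj : Function.Injective G.vecMul := by
    intro v w hvw
    have hvw' : v ᵥ* G = w ᵥ* G := hvw
    have h0 : ∀ j, Matrix.trace ((∑ i, (v i - w i) • b i) * b j) = 0 := by
      intro j
      rw [hsum]
      have : (fun i => v i - w i) = v - w := rfl
      rw [this, Matrix.sub_vecMul, hvw', sub_self]; rfl
    have hy : (∑ i, (v i - w i) • b i) = 0 := by
      apply eq_zero_of_trace_mul_eq_zero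
      intro z
      rw [← b.sum_repr z, Finset.mul_sum, Matrix.trace_sum]
      apply Finset.sum_eq_zero
      intro j _
      rw [Matrix.mul_smul, Matrix.trace_smul, h0 j, smul_zero]
    have h1 := Fintype.linearIndependent_iff.1 b.linearIndependent _ hy
    funext k
    exact sub_eq_zero.1 (h1 k)
  set G₁ : Matrix ι ι F₁ := fun i j => ⟨G i j, hG i j⟩ with hG₁
  have hmap : G₁.map F₁.subtype = G := by
    ext i j; rfl
  have hcomp : ∀ v₁ : ι → F₁, (F₁.subtype ∘ v₁) ᵥ* G = F₁.subtype ∘ (v₁ ᵥ* G₁) := by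
    intro v₁
    funext j
    rw [Function.comp_apply, RingHom.map_vecMul, hmap]
  have hG₁inj : Function.Injective G₁.vecMul := by
    intro v w hvw
    have hvw' : v ᵥ* G₁ = w ᵥ* G₁ := hvw
    have h1 : (F₁.subtype ∘ v) ᵥ* G = (F₁.subtype ∘ w) ᵥ* G := by
      rw [hcomp, hcomp, hvw']
    have h2 := hGinj h1
    funext k
    exact Subtype.ext (congrFun h2 k)
  have hunit : IsUnit G₁ := Matrix.vecMul_injective_iff_isUnit.1 hG₁inj
  obtain ⟨c₁, hc₁⟩ := (Matrix.vecMul_surjective_iff_isUnit.2 hunit)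
    (fun j => (⟨Matrix.trace (x * b j), hx j⟩ : F₁))
  have hc₁' : c₁ ᵥ* G₁ = fun j => (⟨Matrix.trace (x * b j), hx j⟩ : F₁) := hc₁
  have h3 : (F₁.subtype ∘ c₁) ᵥ* G = (fun i => b.repr x i) ᵥ* G := by
    rw [hcomp, hc₁']
    funext j
    rw [← hsum, b.sum_repr]
    rfl
  have h4 := hGinj h3
  have := congrFun h4 i
  rw [← this]
  exact (c₁ i).2

end coords

section alg

variable {F : Type*} [Field F] {n : ℕ}

/-- The `F₁`-subalgebra of the matrix algebra spanned by the group `R`. -/
def spanAlg (F₁ : Subfield F) (R : Subgroup (GL (Fin n) F)) :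
    Subalgebra F₁ (Matrix (Fin n) (Fin n) F) :=
  Algebra.adjoin F₁ (matrixSet R)

theorem matrixSet_eq_coe_submonoid (R : Subgroup (GL (Fin n) F)) :
    matrixSet R = ((R.toSubmonoid.map (Units.coeHom (Matrix (Fin n) (Fin n) F)) :
      Submonoid (Matrix (Fin n) (Fin n) F)) : Set (Matrix (Fin n) (Fin n) F)) := by
  ext x
  simp only [matrixSet, Set.mem_image, SetLike.mem_coe, Submonoid.mem_map, Subgroup.mem_toSubmonoid,
    Units.coeHom_apply]

theorem spanAlg_toSubmodule (F₁ : Subfield F) (R : Subgroup (GL (Fin n) F)) :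
    Subalgebra.toSubmodule (spanAlg F₁ R) = Submodule.span F₁ (matrixSet R) := by
  unfold spanAlg
  rw [Algebra.adjoin_eq_span]
  congr 1
  rw [matrixSet_eq_coe_submonoid, Submonoid.closure_eq]

theorem mem_spanAlg_iff (F₁ : Subfield F) (R : Subgroup (GL (Fin n) F)) (x : Matrix (Fin n) (Fin n) F) :
    x ∈ spanAlg F₁ R ↔ x ∈ Submodule.span F₁ (matrixSet R) := by
  rw [← spanAlg_toSubmodule, Subalgebra.mem_toSubmodule]

theorem subset_spanAlg (F₁ : Subfield F) (R : Subgroup (GL (Fin n) F)) :
    matrixSet R ⊆ spanAlg F₁ R :=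
  Algebra.subset_adjoin

theorem mul_mem_matrixSet (R : Subgroup (GL (Fin n) F)) {x y : Matrix (Fin n) (Fin n) F}
    (hx : x ∈ matrixSet R) (hy : y ∈ matrixSet R) : x * y ∈ matrixSet R := by
  obtain ⟨a, ha, rfl⟩ := hx
  obtain ⟨b, hb, rfl⟩ := hy
  exact ⟨a * b, R.mul_mem ha hb, by simp⟩

/-- Traces of `x * s`, `x` in the span algebra and `s ∈ R`, lie in `F₁`. -/
theorem trace_mul_mem (F₁ : Subfield F) (R : Subgroup (GL (Fin n) F))
    (htr : ∀ s ∈ matrixSet R, Matrix.trace s ∈ F₁) {x : Matrix (Fin n) (Fin n) F}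
    (hx : x ∈ spanAlg F₁ R) {s : Matrix (Fin n) (Fin n) F} (hs : s ∈ matrixSet R) :
    Matrix.trace (x * s) ∈ F₁ := by
  rw [mem_spanAlg_iff] at hx
  induction hx using Submodule.span_induction with
  | mem y hy => exact htr _ (mul_mem_matrixSet R hy hs)
  | zero => rw [zero_mul, Matrix.trace_zero]; exact F₁.zero_mem
  | add y z _ _ hy hz => rw [add_mul, Matrix.trace_add]; exact F₁.add_mem hy hz
  | smul c y _ hy =>
    have : c • y = (c : F) • y := rfl
    rw [this, Matrix.smul_mul, Matrix.trace_smul, smul_eq_mul]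
    exact F₁.mul_mem c.2 hy

end alg

section descent

variable {F : Type*} [Field F] {n : ℕ} (F₁ : Subfield F) (R : Subgroup (GL (Fin n) F))
  {ι : Type*} [Fintype ι] [DecidableEq ι] (b : Basis ι F (Matrix (Fin n) (Fin n) F))

/-- Coordinates of elements of the span algebra in a basis taken from `R` lie in `F₁`. -/
theorem repr_mem_of_mem_spanAlg (hb : ∀ i, b i ∈ matrixSet R)
    (htr : ∀ s ∈ matrixSet R, Matrix.trace s ∈ F₁) {x : Matrix (Fin n) (Fin n) F}
    (hx : x ∈ spanAlg F₁ R) (i : ι) : b.repr x i ∈ F₁ :=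
  repr_mem_subfield F₁ b (fun i j => htr _ (mul_mem_matrixSet R (hb i) (hb j))) x
    (fun j => trace_mul_mem F₁ R htr hx (hb j)) i

/-- An `F₁`-linear retraction of the inclusion `F₁ → F`. -/
theorem exists_retraction : ∃ π : F →ₗ[F₁] F₁, ∀ c : F₁, π (c : F) = c := by
  obtain ⟨g, hg⟩ := LinearMap.exists_leftInverse_of_injective (Algebra.linearMap F₁ F)
    (LinearMap.ker_eq_bot.2 (algebraMap F₁ F).injective)
  refine ⟨g, fun c => ?_⟩
  have := congrArg (fun f : F₁ →ₗ[F₁] F₁ => f c) hg
  simp only [LinearMap.coe_comp, Function.comp_apply, Algebra.linearMap_apply, LinearMap.id_coe,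
    id_eq] at this
  exact this

/-- Linear disjointness: an element of the span algebra lying in the `F`-span of an `F₁`-subspace `W` of
the span algebra lies in `W`. -/
theorem mem_of_mem_span (hb : ∀ i, b i ∈ matrixSet R)
    (htr : ∀ s ∈ matrixSet R, Matrix.trace s ∈ F₁)
    (W : Submodule F₁ (Matrix (Fin n) (Fin n) F)) (hW : ∀ w ∈ W, w ∈ spanAlg F₁ R)
    {x : Matrix (Fin n) (Fin n) F} (hxA : x ∈ spanAlg F₁ R)
    (hx : x ∈ Submodule.span F (W : Set (Matrix (Fin n) (Fin n) F))) : x ∈ W := by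
  obtain ⟨π, hπ⟩ := exists_retraction F₁
  obtain ⟨m, f, g, hfg⟩ := Submodule.mem_span_set'.1 hx
  have hkey : x = ∑ k, (π (f k) : F₁) • (g k : Matrix (Fin n) (Fin n) F) := by
    apply b.ext_elem
    intro i
    have h1 : b.repr x i = ∑ k, f k * b.repr (g k : Matrix (Fin n) (Fin n) F) i := by
      rw [← hfg]
      simp [map_sum]
    have hxi := repr_mem_of_mem_spanAlg F₁ R b hb htr hxA i
    have hgi : ∀ k, b.repr (g k : Matrix (Fin n) (Fin n) F) i ∈ F₁ :=
      fun k => repr_mem_of_mem_spanAlg F₁ R b hb htr (hW _ (g k).2) i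
    have h2 : b.repr x i = ((π (b.repr x i) : F₁) : F) := by
      have := hπ ⟨b.repr x i, hxi⟩
      simpa using congrArg (fun c : F₁ => (c : F)) this.symm
    have h3 : π (b.repr x i) = ∑ k, π (f k) * ⟨_, hgi k⟩ := by
      rw [h1, map_sum]
      apply Finset.sum_congr rfl
      intro k _
      have : f k * b.repr (g k : Matrix (Fin n) (Fin n) F) i =
          (⟨_, hgi k⟩ : F₁) • f k := by
        rw [mul_comm]; rfl
      rw [this, map_smul, smul_eq_mul, mul_comm]
    rw [h2, h3]
    simp only [map_sum, Finsupp.coe_finsetSum, Finset.sum_apply]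
    push_cast
    apply Finset.sum_congr rfl
    intro k _
    have : ((π (f k) : F₁) • (g k : Matrix (Fin n) (Fin n) F)) =
        ((π (f k) : F₁) : F) • (g k : Matrix (Fin n) (Fin n) F) := rfl
    rw [this, map_smul, Finsupp.smul_apply, smul_eq_mul]
  rw [hkey]
  exact W.sum_mem (fun k _ => W.smul_mem _ (g k).2)

/-- The basis of the span algebra over `F₁` given by a basis of the matrix algebra taken from `R`. -/
noncomputable def spanAlgBasis (hb : ∀ i, b i ∈ matrixSet R)
    (htr : ∀ s ∈ matrixSet R, Matrix.trace s ∈ F₁) : Basis ι F₁ (spanAlg F₁ R) :=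
  Basis.mk (v := fun i => (⟨b i, subset_spanAlg F₁ R (hb i)⟩ : spanAlg F₁ R))
    (by
      apply LinearIndependent.of_comp (spanAlg F₁ R).val.toLinearMap
      exact b.linearIndependent.restrict_scalars' F₁)
    (by
      rintro ⟨x, hx⟩ -
      have h1 : (⟨x, hx⟩ : spanAlg F₁ R) =
          ∑ i, (⟨b.repr x i, repr_mem_of_mem_spanAlg F₁ R b hb htr hx i⟩ : F₁) •
            (⟨b i, subset_spanAlg F₁ R (hb i)⟩ : spanAlg F₁ R) := by
        apply Subtype.ext
        rw [AddSubmonoidClass.coe_finsetSum]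
        change x = _
        exact (b.sum_repr x).symm
      rw [h1]
      exact Submodule.sum_mem _ (fun i _ => Submodule.smul_mem _ _
        (Submodule.subset_span (Set.mem_range_self i))))

theorem finrank_spanAlg (hb : ∀ i, b i ∈ matrixSet R)
    (htr : ∀ s ∈ matrixSet R, Matrix.trace s ∈ F₁) :
    Module.finrank F₁ (spanAlg F₁ R) = n * n := by
  rw [Module.finrank_eq_card_basis (spanAlgBasis F₁ R b hb htr),
    ← Module.finrank_eq_card_basis b, Module.finrank_matrix]
  simp

/-- The span algebra is a simple ring. -/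
theorem isSimpleRing_spanAlg (hn : 0 < n) (hb : ∀ i, b i ∈ matrixSet R)
    (htr : ∀ s ∈ matrixSet R, Matrix.trace s ∈ F₁) : IsSimpleRing (spanAlg F₁ R) := by
  have : Nonempty (Fin n) := ⟨⟨0, hn⟩⟩
  have hnt : Nontrivial (spanAlg F₁ R) := by
    refine ⟨⟨0, 1, fun h => ?_⟩⟩
    have h1 := congrArg (fun a : spanAlg F₁ R => (a : Matrix (Fin n) (Fin n) F) ⟨0, hn⟩ ⟨0, hn⟩) h
    simp at h1
  rw [isSimpleRing_iff_isTwoSided_imp]
  refine ⟨hnt, fun I hI => ?_⟩
  by_cases hI0 : I = ⊥
  · exact Or.inl hI0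
  right
  -- the image of `I` in the matrix algebra, as an `F₁`-subspace
  let W : Submodule F₁ (Matrix (Fin n) (Fin n) F) :=
    Submodule.map (spanAlg F₁ R).val.toLinearMap (I.restrictScalars F₁)
  have hWmem : ∀ w, w ∈ W ↔ ∃ a ∈ I, (a : Matrix (Fin n) (Fin n) F) = w := by
    intro w
    simp only [W, Submodule.mem_map, Submodule.restrictScalars_mem, AlgHom.toLinearMap_apply,
      Subalgebra.coe_val]
  have hWA : ∀ w ∈ W, w ∈ spanAlg F₁ R := by
    intro w hw
    obtain ⟨a, _, rfl⟩ := (hWmem w).1 hw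
    exact a.2
  set J : Submodule F (Matrix (Fin n) (Fin n) F) :=
    Submodule.span F (W : Set (Matrix (Fin n) (Fin n) F)) with hJ
  have hleft_b : ∀ i, ∀ y ∈ J, b i * y ∈ J := by
    intro i y hy
    induction hy using Submodule.span_induction with
    | mem w hw =>
      obtain ⟨a, ha, rfl⟩ := (hWmem w).1 hw
      apply Submodule.subset_span
      refine (hWmem _).2 ⟨⟨b i, subset_spanAlg F₁ R (hb i)⟩ * a, I.mul_mem_left _ ha, rfl⟩
    | zero => rw [mul_zero]; exact J.zero_mem
    | add y z _ _ hy hz => rw [mul_add]; exact J.add_mem hy hz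
    | smul c y _ hy => rw [Matrix.mul_smul]; exact J.smul_mem c hy
  have hright_b : ∀ i, ∀ y ∈ J, y * b i ∈ J := by
    intro i y hy
    induction hy using Submodule.span_induction with
    | mem w hw =>
      obtain ⟨a, ha, rfl⟩ := (hWmem w).1 hw
      apply Submodule.subset_span
      refine (hWmem _).2 ⟨a * ⟨b i, subset_spanAlg F₁ R (hb i)⟩, hI.mul_mem_of_left _ ha, rfl⟩
    | zero => rw [zero_mul]; exact J.zero_mem
    | add y z _ _ hy hz => rw [add_mul]; exact J.add_mem hy hz
    | smul c y _ hy => rw [Matrix.smul_mul]; exact J.smul_mem c hy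
  have hleft : ∀ m : Matrix (Fin n) (Fin n) F, ∀ y ∈ J, m * y ∈ J := by
    intro m y hy
    rw [← b.sum_repr m, Finset.sum_mul]
    exact J.sum_mem (fun i _ => by
      rw [Matrix.smul_mul]; exact J.smul_mem _ (hleft_b i y hy))
  have hright : ∀ m : Matrix (Fin n) (Fin n) F, ∀ y ∈ J, y * m ∈ J := by
    intro m y hy
    rw [← b.sum_repr m, Finset.mul_sum]
    exact J.sum_mem (fun i _ => by
      rw [Matrix.mul_smul]; exact J.smul_mem _ (hright_b i y hy))
  let JI : Ideal (Matrix (Fin n) (Fin n) F) :=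
    { carrier := J
      add_mem' := fun ha hb => J.add_mem ha hb
      zero_mem' := J.zero_mem
      smul_mem' := fun m y hy => hleft m y hy }
  have hJI2 : JI.IsTwoSided := ⟨fun m hy => hright m _ hy⟩
  have hsimple : IsSimpleRing (Matrix (Fin n) (Fin n) F) := inferInstance
  have hJI : JI = ⊥ ∨ JI = ⊤ := (isSimpleRing_iff_isTwoSided_imp.1 hsimple).2 JI hJI2
  have hJIne : JI ≠ ⊥ := by
    intro h
    apply hI0
    rw [eq_bot_iff]
    intro a ha
    have h1 : (a : Matrix (Fin n) (Fin n) F) ∈ JI :=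
      Submodule.subset_span ((hWmem _).2 ⟨a, ha, rfl⟩)
    rw [h, Ideal.mem_bot] at h1
    rw [Ideal.mem_bot]
    exact Subtype.ext h1
  have hJItop : JI = ⊤ := hJI.resolve_left hJIne
  have h1J : (1 : Matrix (Fin n) (Fin n) F) ∈ J := by
    have : (1 : Matrix (Fin n) (Fin n) F) ∈ JI := by rw [hJItop]; trivial
    exact this
  have h1W : (1 : Matrix (Fin n) (Fin n) F) ∈ W :=
    mem_of_mem_span F₁ R b hb htr W hWA (spanAlg F₁ R).one_mem h1J
  obtain ⟨a, ha, ha1⟩ := (hWmem _).1 h1W
  have : a = 1 := Subtype.ext ha1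
  rw [this] at ha
  exact (Ideal.eq_top_iff_one I).2 ha

/-- A central element of the span algebra is a scalar from `F₁`. -/
theorem exists_scalar_of_central (hn : 0 < n)
    (hcomm : ∀ M : Matrix (Fin n) (Fin n) F, (∀ s ∈ matrixSet R, M * s = s * M) →
      ∃ c : F, M = c • (1 : Matrix (Fin n) (Fin n) F))
    (hspan : Submodule.span F (matrixSet R) = ⊤)
    (htr : ∀ s ∈ matrixSet R, Matrix.trace s ∈ F₁) {x : Matrix (Fin n) (Fin n) F}
    (hx : x ∈ spanAlg F₁ R) (hxc : ∀ s ∈ matrixSet R, x * s = s * x) :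
    ∃ c : F₁, x = (c : F) • (1 : Matrix (Fin n) (Fin n) F) := by
  obtain ⟨c, hc⟩ := hcomm x hxc
  have hs0 : ∃ s ∈ matrixSet R, Matrix.trace s ≠ 0 := by
    by_contra hcon
    push Not at hcon
    have h1 : ∀ y ∈ Submodule.span F (matrixSet R), Matrix.trace y = 0 := by
      intro y hy
      induction hy using Submodule.span_induction with
      | mem w hw => exact hcon w hw
      | zero => exact Matrix.trace_zero _ _
      | add y z _ _ hy hz => rw [Matrix.trace_add, hy, hz, add_zero]
      | smul a y _ hy => rw [Matrix.trace_smul, hy, smul_zero]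
    have h2 := h1 (Matrix.single (⟨0, hn⟩ : Fin n) ⟨0, hn⟩ (1 : F)) (by rw [hspan]; trivial)
    rw [Matrix.trace_single_eq_same] at h2
    exact one_ne_zero h2
  obtain ⟨s, hs, hs0⟩ := hs0
  have h1 := trace_mul_mem F₁ R htr hx hs
  rw [hc, Matrix.smul_mul, one_mul, Matrix.trace_smul, smul_eq_mul] at h1
  have h2 : c = c * Matrix.trace s * (Matrix.trace s)⁻¹ := by
    rw [mul_assoc, mul_inv_cancel₀ hs0, mul_one]
  refine ⟨⟨c, ?_⟩, hc⟩
  rw [h2]
  exact F₁.mul_mem h1 (F₁.inv_mem (htr s hs))

end descent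

section units

variable {F : Type*} [Field F] {n : ℕ}

/-- A system of matrix units in the matrix algebra gives an algebra endomorphism. -/
theorem exists_algHom_of_units (E : Fin n → Fin n → Matrix (Fin n) (Fin n) F)
    (hmul : ∀ i j k l, E i j * E k l = if j = k then E i l else 0)
    (hone : ∑ i, E i i = 1) :
    ∃ Φ : Matrix (Fin n) (Fin n) F →ₐ[F] Matrix (Fin n) (Fin n) F,
      ∀ M, Φ M = ∑ i, ∑ j, M i j • E i j := by
  let Φl : Matrix (Fin n) (Fin n) F →ₗ[F] Matrix (Fin n) (Fin n) F :=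
    { toFun := fun M => ∑ i, ∑ j, M i j • E i j
      map_add' := by
        intro M N
        simp only [Matrix.add_apply, add_smul, Finset.sum_add_distrib]
      map_smul' := by
        intro c M
        simp only [Matrix.smul_apply, smul_eq_mul, mul_smul, Finset.smul_sum, RingHom.id_apply] }
  have h1 : Φl 1 = 1 := by
    change ∑ i, ∑ j, (1 : Matrix (Fin n) (Fin n) F) i j • E i j = 1
    refine Eq.trans ?_ hone
    apply Finset.sum_congr rfl
    intro i _
    rw [Finset.sum_eq_single i]
    · rw [Matrix.one_apply_eq, one_smul]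
    · intro j _ hj
      rw [Matrix.one_apply_ne (Ne.symm hj), zero_smul]
    · intro h; exact absurd (Finset.mem_univ i) h
  have hm : ∀ M N, Φl (M * N) = Φl M * Φl N := by
    intro M N
    change ∑ i, ∑ l, (M * N) i l • E i l = (∑ i, ∑ j, M i j • E i j) * (∑ k, ∑ l, N k l • E k l)
    rw [Finset.sum_mul]
    apply Finset.sum_congr rfl
    intro i _
    rw [Finset.sum_mul]
    have h2 : ∀ j, M i j • E i j * ∑ k, ∑ l, N k l • E k l = ∑ l, (M i j * N j l) • E i l := by
      intro j
      rw [Finset.mul_sum, Finset.sum_eq_single j]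
      · rw [Finset.mul_sum]
        apply Finset.sum_congr rfl
        intro l _
        rw [Matrix.smul_mul, Matrix.mul_smul, hmul, if_pos rfl, smul_smul]
      · intro k _ hk
        rw [Finset.mul_sum]
        apply Finset.sum_eq_zero
        intro l _
        rw [Matrix.smul_mul, Matrix.mul_smul, hmul, if_neg (Ne.symm hk), smul_zero, smul_zero]
      · intro h; exact absurd (Finset.mem_univ j) h
    simp only [h2]
    rw [Finset.sum_comm]
    apply Finset.sum_congr rfl
    intro l _
    rw [Matrix.mul_apply, Finset.sum_smul]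
  exact ⟨AlgHom.ofLinearMap Φl h1 hm, fun M => rfl⟩

end units

section main

universe u

variable {F : Type*} [Field F] [Fintype F] {n : ℕ}

theorem exists_basis_mem {F : Type u} [Field F] [Fintype F] {n : ℕ}
    (S : Set (Matrix (Fin n) (Fin n) F)) (hS : Submodule.span F S = ⊤) :
    ∃ (ι : Type u) (_ : Fintype ι) (b : Basis ι F (Matrix (Fin n) (Fin n) F)), ∀ i, b i ∈ S := by
  classical
  refine ⟨_, Fintype.ofFinite _, Basis.ofSpan hS.ge, fun i => ?_⟩
  exact Basis.ofSpan_subset hS.ge (Set.mem_range_self i)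

/-- **Realisability over the field of traces.** -/
theorem realisable_of_trace_mem (R : Subgroup (GL (Fin n) F))
    (habs : ActsAbsolutelyIrreducibly (matrixSet R)) (F₁ : Subfield F)
    (htr : ∀ x ∈ R, Matrix.trace (x : Matrix (Fin n) (Fin n) F) ∈ F₁) :
    RealisableOver F₁ (matrixSet R) := by
  classical
  rcases Nat.eq_zero_or_pos n with hn | hn
  · subst hn
    exact ⟨1, fun s _ i => i.elim0⟩
  have hne : Nonempty (Fin n) := ⟨⟨0, hn⟩⟩
  have htr' : ∀ s ∈ matrixSet R, Matrix.trace s ∈ F₁ := by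
    rintro _ ⟨x, hx, rfl⟩
    exact htr x hx
  have hspan := Cfsg.Agent.Lib.H3.Asch.span_eq_top_of_absIrr R habs
  obtain ⟨ι, hι, b, hb⟩ := exists_basis_mem (matrixSet R) hspan
  have hsimple : IsSimpleRing (spanAlg F₁ R) := isSimpleRing_spanAlg F₁ R b hn hb htr'
  have hfinrank := finrank_spanAlg F₁ R b hb htr'
  have hfinA : Finite (spanAlg F₁ R) := Subtype.finite
  have hmodfin : Module.Finite F₁ (spanAlg F₁ R) := Module.Finite.of_finite
  have hart : IsArtinianRing (spanAlg F₁ R) := isArtinian_of_finite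
  obtain ⟨k, hk, D, hD, hAlg, hfinD, ⟨e⟩⟩ :=
    IsSimpleRing.exists_algEquiv_matrix_divisionRing_finite F₁ (spanAlg F₁ R)
  have hDfinite : Finite D := Module.finite_of_finite F₁
  have hDcomm : ∀ x y : D, x * y = y * x := fun x y => (littleWedderburn D).mul_comm x y
  -- `D = F₁`
  have hDF₁ : ∀ a : D, ∃ c : F₁, algebraMap F₁ D c = a := by
    intro a
    set z : spanAlg F₁ R := e.symm (Matrix.scalar (Fin k) a) with hz
    have hzc : ∀ s ∈ matrixSet R, (z : Matrix (Fin n) (Fin n) F) * s = s * z := by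
      intro s hs
      have h1 : z * ⟨s, subset_spanAlg F₁ R hs⟩ = ⟨s, subset_spanAlg F₁ R hs⟩ * z := by
        apply e.injective
        rw [map_mul, map_mul, hz, AlgEquiv.apply_symm_apply]
        exact (Matrix.scalar_commute a (fun r => hDcomm a r) _).eq
      exact congrArg (fun t : spanAlg F₁ R => (t : Matrix (Fin n) (Fin n) F)) h1
    obtain ⟨c, hc⟩ := exists_scalar_of_central F₁ R hn habs.2 hspan htr' z.2 hzc
    refine ⟨c, ?_⟩
    have h2 : z = algebraMap F₁ (spanAlg F₁ R) c := by
      apply Subtype.ext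
      rw [hc, Subalgebra.coe_algebraMap, Algebra.algebraMap_eq_smul_one]
      rfl
    have h3 : e z = algebraMap F₁ (Matrix (Fin k) (Fin k) D) c := by
      rw [h2, AlgEquiv.commutes]
    rw [hz, AlgEquiv.apply_symm_apply, Matrix.algebraMap_eq_diagonal] at h3
    have h4 := congrFun (congrFun h3 0) 0
    simp only [Matrix.scalar_apply, Matrix.diagonal_apply_eq, Pi.algebraMap_apply] at h4
    exact h4.symm
  -- `k = n`
  have hfinrankD : Module.finrank F₁ D = 1 := by
    have hsurj : Function.Surjective (Algebra.linearMap F₁ D) := fun a => hDF₁ a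
    have hinj : Function.Injective (Algebra.linearMap F₁ D) := (algebraMap F₁ D).injective
    have e' : F₁ ≃ₗ[F₁] D := LinearEquiv.ofBijective (Algebra.linearMap F₁ D) ⟨hinj, hsurj⟩
    rw [← e'.finrank_eq, Module.finrank_self]
  have hkn : k = n := by
    have h1 := e.toLinearEquiv.finrank_eq
    rw [hfinrank, Module.finrank_matrix, hfinrankD, Fintype.card_fin, mul_one] at h1
    exact (Nat.mul_self_inj.1 h1).symm
  subst hkn
  -- matrix units
  let E : Fin k → Fin k → Matrix (Fin k) (Fin k) F :=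
    fun i j => ((e.symm (Matrix.single i j (1 : D)) : spanAlg F₁ R) : Matrix (Fin k) (Fin k) F)
  have hEmul : ∀ i j l m, E i j * E l m = if j = l then E i m else 0 := by
    intro i j l m
    change ((e.symm (Matrix.single i j (1 : D)) * e.symm (Matrix.single l m (1 : D)) :
      spanAlg F₁ R) : Matrix (Fin k) (Fin k) F) = _
    rw [← map_mul]
    by_cases h : j = l
    · subst h
      rw [Matrix.single_mul_single_same, mul_one, if_pos rfl]
    · rw [Matrix.single_mul_single_of_ne (c := (1 : D)) i j l h 1, map_zero, if_neg h]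
      rfl
  have hEone : ∑ i, E i i = 1 := by
    change ∑ i, ((e.symm (Matrix.single i i (1 : D)) : spanAlg F₁ R) : Matrix (Fin k) (Fin k) F) = 1
    rw [← AddSubmonoidClass.coe_finsetSum, ← map_sum]
    have : ∑ i : Fin k, Matrix.single i i (1 : D) = 1 := by
      ext p q
      rw [Matrix.sum_apply]
      simp only [Matrix.single_apply, Matrix.one_apply]
      by_cases hpq : p = q
      · subst hpq
        simp
      · rw [if_neg hpq]
        apply Finset.sum_eq_zero
        intro x _
        rw [if_neg]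
        rintro ⟨h1, h2⟩
        exact hpq (h1.symm.trans h2)
    rw [this, map_one]
    rfl
  obtain ⟨Φ, hΦ⟩ := exists_algHom_of_units E hEmul hEone
  obtain ⟨a, ha⟩ := Cfsg.Agent.Lib.H8.Asch.algHom_matrix_inner Φ
  refine ⟨a⁻¹, ?_⟩
  intro s hs i j
  -- coordinates of `s` in the matrix units
  set y : Matrix (Fin k) (Fin k) D := e ⟨s, subset_spanAlg F₁ R hs⟩ with hy
  choose c hc using fun p : Fin k × Fin k => hDF₁ (y p.1 p.2)
  set C : Matrix (Fin k) (Fin k) F := fun i j => ((c (i, j) : F₁) : F) with hC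
  have hsC : s = Φ C := by
    rw [hΦ]
    have h1 : (⟨s, subset_spanAlg F₁ R hs⟩ : spanAlg F₁ R) =
        ∑ i, ∑ j, c (i, j) • e.symm (Matrix.single i j (1 : D)) := by
      apply e.injective
      rw [← hy, map_sum]
      simp only [map_sum, map_smul, AlgEquiv.apply_symm_apply]
      conv_lhs => rw [Matrix.matrix_eq_sum_single y]
      apply Finset.sum_congr rfl
      intro i _
      apply Finset.sum_congr rfl
      intro j _
      rw [Matrix.smul_single, Algebra.smul_def, mul_one, hc (i, j)]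
    have h2 := congrArg (fun t : spanAlg F₁ R => (t : Matrix (Fin k) (Fin k) F)) h1
    simp only [AddSubmonoidClass.coe_finsetSum] at h2
    rw [h2]
    rfl
  rw [inv_inv, hsC, ha]
  have : ((a⁻¹ : GL (Fin k) F) : Matrix (Fin k) (Fin k) F) *
      ((a : Matrix (Fin k) (Fin k) F) * C * ((a⁻¹ : GL (Fin k) F) : Matrix (Fin k) (Fin k) F)) *
      (a : Matrix (Fin k) (Fin k) F) = C := by
    have h1 : ((a⁻¹ : GL (Fin k) F) : Matrix (Fin k) (Fin k) F) * (a : Matrix (Fin k) (Fin k) F) = 1 := by
      rw [← Units.val_mul, inv_mul_cancel, Units.val_one]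
    calc _ = (((a⁻¹ : GL (Fin k) F) : Matrix (Fin k) (Fin k) F) * (a : Matrix (Fin k) (Fin k) F)) * C *
          (((a⁻¹ : GL (Fin k) F) : Matrix (Fin k) (Fin k) F) * (a : Matrix (Fin k) (Fin k) F)) := by
          simp only [Matrix.mul_assoc]
      _ = C := by rw [h1, one_mul, mul_one]
  rw [this, hC]
  exact (c (i, j)).2

end main

end Cfsg.Agent.Lib.H1.Asch
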