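/-
Even-dimensional orthogonal Aschbacher project, material for the module "abelian minimal normal
subgroup modulo scalars" (helper1), part d: the core statement, free of class predicates.
For a `SympCore H R r` consisting of isometries of a non-degenerate quadratic form `Q` on `F^n`, `n ≥ 4`:
`|F|` is odd, `r = 2`, `|Z(R)| = 2`, `n = 2^k`, `|R| = 2^(1+2k)`, `Q` is of plus type, and either `|F|` is prime
or `R` is realisable over a proper subfield.
-/
import Mathlib
import Cfsg.Agent.Lib.H1.AschM7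
import Cfsg.Agent.Lib.H1.AschTraceField
import Cfsg.Agent.Lib.H1.AschEM7c

set_option autoImplicit false

namespace Cfsg.Agent.Lib.H1.AschE

open Cfsg Cfsg.Geo Cfsg.Agent.Lib.Lead.Asch Cfsg.Agent.Lib.H1.Asch
open scoped MatrixGroups Matrix

variable {F : Type*} [Field F] [Fintype F] {n : ℕ}

theorem em7_core (Q : (Fin n → F) → F) (hQ : IsNondegenerateQuadraticForm Q) (hn : 4 ≤ n)
    (H R : Subgroup (GL (Fin n) F))
    (hH : ∀ x ∈ H, ∀ v, Q ((x : Matrix (Fin n) (Fin n) F) *ᵥ v) = Q v)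
    (r : ℕ) (hc : SympCore H R r) :
    Odd (Fintype.card F) ∧ r = 2 ∧ Nat.card (Subgroup.center R) = 2 ∧
      (∀ x ∈ R, x ∈ scalars (Fin n) F →
        (x : Matrix (Fin n) (Fin n) F) = 1 ∨ (x : Matrix (Fin n) (Fin n) F) = -1) ∧
      (∃ k : ℕ, n = 2 ^ k ∧ Nat.card R = 2 ^ (1 + 2 * k)) ∧ IsPlusTypeOn Q ⊤ ∧
      ((Fintype.card F).Prime ∨
        ∃ F₁ : Subfield F, F₁ ≠ ⊤ ∧ RealisableOver F₁ (matrixSet R)) := by
  classical
  have hn0 : 0 < n := by omega
  have hn2 : 2 ≤ n := by omega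
  set z := Nat.card ↥(Subgroup.center ↥R) with hz
  set p := ringChar F with hp'
  have : CharP F p := ringChar.charP F
  obtain ⟨e, hp, hq⟩ := FiniteField.card F p
  have he : 0 < (e : ℕ) := e.pos
  have hfixR : ∀ x ∈ R, ∀ v, Q ((x : Matrix (Fin n) (Fin n) F) *ᵥ v) = Q v :=
    fun x hx => hH x (hc.le hx)
  have hpm : ∀ x ∈ R, x ∈ scalars (Fin n) F →
      (x : Matrix (Fin n) (Fin n) F) = 1 ∨ (x : Matrix (Fin n) (Fin n) F) = -1 :=
    fun x hx hxs => scalar_isometry_eq hn0 Q hQ hxs (hfixR x hx)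
  have hzdvd : z ∣ 2 := by
    have := hc.isCyclic_center
    rw [hz, ← IsCyclic.exponent_eq_card]
    apply Monoid.exponent_dvd_of_forall_pow_eq_one
    intro g
    apply Subtype.ext
    apply Subtype.ext
    apply Units.ext
    simp only [Subgroup.coe_pow, Subgroup.coe_one, Units.val_pow_eq_pow_val, Units.val_one]
    rcases hpm _ (g : ↥R).2 ((hc.mem_center_iff' _).1 g.2) with h | h
    · rw [h, one_pow]
    · rw [h, neg_one_sq]
  have hz2 : z = 2 := by
    rcases (Nat.dvd_prime Nat.prime_two).1 hzdvd with h | h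
    · exact absurd h (hc.card_center_ne_one hn2)
    · exact h
  have hr2 : r = 2 := by
    rcases hc.card_center_cases hn2 with h | ⟨h, _⟩
    · exfalso
      rw [← hz, hz2] at h
      rcases hc.prime.eq_two_or_odd' with h' | h'
      · rw [h'] at h; norm_num at h
      · rw [Nat.coprime_two_left.2 h', mul_one] at h
        rw [← h] at h'
        exact absurd h' (by decide)
    · exact h
  subst hr2
  obtain ⟨ζ, hζ⟩ := hc.exists_primitiveRoot hn0
  rw [← hz, hz2] at hζ
  have hζ0 : ζ ≠ 0 := hζ.ne_zero (by norm_num)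
  have hzq : 2 ∣ p ^ (e : ℕ) - 1 := by
    rw [← hq]
    exact hζ.dvd_of_pow_eq_one _ (FiniteField.pow_card_sub_one_eq_one ζ hζ0)
  have hrp : 2 ≠ p := prime_ne_of_dvd 2 2 p e hp (dvd_refl 2) hzq he
  have hpodd : Odd p := hp.odd_of_ne_two (Ne.symm hrp)
  have h2F : (2 : F) ≠ 0 := by
    intro h
    have h1 : ((2 : ℕ) : F) = 0 := by exact_mod_cast h
    have h3 := (CharP.cast_eq_zero_iff F p 2).1 h1
    exact hrp ((Nat.prime_dvd_prime_iff_eq hp Nat.prime_two).1 h3).symm
  obtain ⟨m, hm⟩ := hc.exists_dim_eq_pow hn0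
  have hcardR : Nat.card R = 2 * n ^ 2 := by rw [hc.card_eq hn0, ← hz, hz2]
  have hplus : IsPlusTypeOn Q ⊤ :=
    isPlusTypeOn_top_of_symplecticType Q hQ hn h2F R hfixR hc.comm hz2
      (fun x => hc.mem_center_iff' x) hcardR
  refine ⟨?_, rfl, hz2, hpm, ⟨m, hm, ?_⟩, hplus, ?_⟩
  · rw [hq]; exact hpodd.pow
  · rw [hcardR, hm]; ring
  · by_cases he1 : (e : ℕ) = 1
    · left
      rw [hq, he1, pow_one]; exact hp
    · right
      have he2 : 1 < (e : ℕ) := by omega
      obtain ⟨F₁, hne, -⟩ := exists_proper_subfield (F := F) p e 1 hp hq one_pos he2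
      have htr : ∀ x ∈ R, Matrix.trace (x : Matrix (Fin n) (Fin n) F) ∈ F₁ := by
        intro x hx
        by_cases hxs : x ∈ scalars (Fin n) F
        · rcases hpm x hx hxs with h | h
          · rw [h, Matrix.trace_one, Fintype.card_fin]
            exact natCast_mem F₁ n
          · rw [h, Matrix.trace_neg, Matrix.trace_one, Fintype.card_fin]
            exact neg_mem (natCast_mem F₁ n)
        · rw [hc.trace_eq_zero hx hxs]
          exact zero_mem F₁
      exact ⟨F₁, hne, realisable_of_trace_mem R hc.absIrr F₁ htr⟩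

end Cfsg.Agent.Lib.H1.AschE
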