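import Mathlib
import Cfsg.Agent.Lib.Lead.AschDefs
import Cfsg.Agent.Lib.H25.AschM7a

set_option autoImplicit false

namespace Cfsg.Agent.Lib.H1.Asch

open Cfsg Cfsg.Geo Cfsg.Agent.Lib.Lead.Asch
open scoped MatrixGroups Matrix

section class2

variable {G : Type*} [Group G]

/-- If `y x = d x y` with `d` central then `y^j x = d^j x y^j`. -/
theorem pow_mul_of_central {x y d : G} (hd : ∀ g : G, Commute d g) (h : y * x = d * (x * y)) (j : ℕ) :
    y ^ j * x = d ^ j * (x * y ^ j) := by
  induction j with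
  | zero => simp
  | succ j ih =>
    have h1 : Commute (d ^ j) y := (hd y).pow_left j
    calc y ^ (j + 1) * x = y * (y ^ j * x) := by rw [pow_succ', mul_assoc]
      _ = y * (d ^ j * (x * y ^ j)) := by rw [ih]
      _ = d ^ j * ((y * x) * y ^ j) := by
          rw [← mul_assoc y, ← h1.eq]; simp only [mul_assoc]
      _ = d ^ j * ((d * (x * y)) * y ^ j) := by rw [h]
      _ = d ^ (j + 1) * (x * y ^ (j + 1)) := by rw [pow_succ, pow_succ']; simp only [mul_assoc]

/-- If `y x = d x y` with `d` central then `(x y)^m = d^(m choose 2) x^m y^m`. -/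
theorem mul_pow_of_central {x y d : G} (hd : ∀ g : G, Commute d g) (h : y * x = d * (x * y)) (m : ℕ) :
    (x * y) ^ m = d ^ (m.choose 2) * (x ^ m * y ^ m) := by
  induction m with
  | zero => simp
  | succ m ih =>
    have h1 := pow_mul_of_central hd h m
    have h2 : Commute (d ^ m) (x ^ m) := ((hd x).pow_left m).pow_right m
    have hc : (m + 1).choose 2 = m.choose 2 + m := by
      rw [Nat.choose_succ_succ' m 1, Nat.choose_one_right, add_comm]
    calc (x * y) ^ (m + 1) = (x * y) ^ m * (x * y) := pow_succ _ _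
      _ = d ^ (m.choose 2) * (x ^ m * y ^ m) * (x * y) := by rw [ih]
      _ = d ^ (m.choose 2) * (x ^ m * ((y ^ m * x) * y)) := by simp only [mul_assoc]
      _ = d ^ (m.choose 2) * (x ^ m * ((d ^ m * (x * y ^ m)) * y)) := by rw [h1]
      _ = d ^ (m.choose 2) * (d ^ m * (x ^ m * ((x * y ^ m) * y))) := by
          rw [mul_assoc (d ^ m), ← mul_assoc (x ^ m) (d ^ m), ← h2.eq, mul_assoc]
      _ = d ^ ((m + 1).choose 2) * (x ^ (m + 1) * y ^ (m + 1)) := by
          rw [hc, pow_add, pow_succ, pow_succ]; simp only [mul_assoc]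

end class2

section powker

variable {F : Type*} [Field F] [Fintype F] {n : ℕ}

open Cfsg.Agent.Lib.H25.Asch

theorem prime_dvd_choose_two (r : ℕ) (hr : r.Prime) : r ∣ (r * Nat.gcd 2 r).choose 2 := by
  rcases hr.eq_two_or_odd' with h | h
  · subst h; decide
  · have h2 : Nat.gcd 2 r = 1 := Nat.coprime_two_left.2 h
    rw [h2, mul_one]
    have h3 : 2 < r := by
      have := hr.two_le
      rcases h with ⟨t, ht⟩
      omega
    exact hr.dvd_choose_self (by norm_num) h3

instance isCyclic_scalars : IsCyclic ↥(scalars (Fin n) F) := by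
  unfold scalars
  exact isCyclic_of_surjective _
    (MonoidHom.rangeRestrict_surjective (Units.map (Matrix.scalar (Fin n) : F →+* Matrix (Fin n) (Fin n) F).toMonoidHom))

omit [Fintype F] in
/-- In a subgroup of class two modulo scalars in which `r`-th powers are scalar, the commutators have
order dividing `r`. -/
theorem comm_pow_eq_one (N : Subgroup (GL (Fin n) F))
    (hab : ∀ x ∈ N, ∀ y ∈ N, x * y * x⁻¹ * y⁻¹ ∈ scalars (Fin n) F)
    (r : ℕ) (hpow : ∀ x ∈ N, x ^ r ∈ scalars (Fin n) F) {x y : GL (Fin n) F} (hx : x ∈ N) (hy : y ∈ N) :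
    (y * x * y⁻¹ * x⁻¹) ^ r = 1 := by
  set d := y * x * y⁻¹ * x⁻¹ with hd
  have hdZ : d ∈ scalars (Fin n) F := hab y hy x hx
  have hdc : Commute d x := scalars_comm hdZ x
  have h1 : y * x * y⁻¹ = d * x := by rw [hd]; group
  have h2 : y * x ^ r * y⁻¹ = x ^ r := conj_scalar (hpow x hx) y
  have h3 : y * x ^ r * y⁻¹ = d ^ r * x ^ r := by
    rw [← conj_pow, h1, hdc.mul_pow]
  rw [h2] at h3
  exact (mul_eq_right.1 h3.symm)

/-- **M7-A** (step 2 of the blueprint): the elements of `N` with trivial `k`-th power, `k = r·gcd(2,r)`, form a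
subgroup, and it is not scalar. -/
theorem exists_powKer (N : Subgroup (GL (Fin n) F))
    (hab : ∀ x ∈ N, ∀ y ∈ N, x * y * x⁻¹ * y⁻¹ ∈ scalars (Fin n) F)
    (hnc : ∃ x ∈ N, ∃ y ∈ N, x * y ≠ y * x)
    (r : ℕ) (hr : r.Prime) (hpow : ∀ x ∈ N, x ^ r ∈ scalars (Fin n) F) :
    ∃ R : Subgroup (GL (Fin n) F),
      (∀ x, x ∈ R ↔ x ∈ N ∧ x ^ (r * Nat.gcd 2 r) = 1) ∧ ¬ R ≤ scalars (Fin n) F := by
  classical
  set k := r * Nat.gcd 2 r with hk
  have hmulpow : ∀ x ∈ N, ∀ y ∈ N, (x * y) ^ k = x ^ k * y ^ k := by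
    intro x hx y hy
    set d := y * x * y⁻¹ * x⁻¹ with hd
    have hdZ : d ∈ scalars (Fin n) F := hab y hy x hx
    have hdc : ∀ g : GL (Fin n) F, Commute d g := fun g => scalars_comm hdZ g
    have h1 : y * x = d * (x * y) := by rw [hd]; group
    have h2 : d ^ r = 1 := comm_pow_eq_one N hab r hpow hx hy
    have h3 : d ^ (k.choose 2) = 1 := by
      obtain ⟨t, ht⟩ := prime_dvd_choose_two r hr
      rw [hk, ht, pow_mul, h2, one_pow]
    rw [mul_pow_of_central hdc h1 k, h3, one_mul]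
  have hpowk : ∀ x ∈ N, x ^ k ∈ scalars (Fin n) F := by
    intro x hx
    rw [hk, pow_mul]
    exact Subgroup.pow_mem _ (hpow x hx) _
  let R : Subgroup (GL (Fin n) F) :=
    { carrier := {x | x ∈ N ∧ x ^ k = 1}
      mul_mem' := by
        rintro a b ⟨ha, ha'⟩ ⟨hb, hb'⟩
        exact ⟨N.mul_mem ha hb, by rw [hmulpow a ha b hb, ha', hb', one_mul]⟩
      one_mem' := ⟨N.one_mem, one_pow _⟩
      inv_mem' := by
        rintro a ⟨ha, ha'⟩
        exact ⟨N.inv_mem ha, by rw [inv_pow, ha', inv_one]⟩ }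
  refine ⟨R, fun x => Iff.rfl, ?_⟩
  intro hRZ
  -- the power map as a homomorphism into the (cyclic) group of scalars
  let φ : ↥N →* ↥(scalars (Fin n) F) :=
    { toFun := fun x => ⟨(x : GL (Fin n) F) ^ k, hpowk x x.2⟩
      map_one' := by
        apply Subtype.ext
        simp
      map_mul' := by
        intro a b
        apply Subtype.ext
        simp only [Subgroup.coe_mul]
        exact hmulpow a a.2 b b.2 }
  have hker : φ.ker ≤ Subgroup.center ↥N := by
    intro x hx
    rw [MonoidHom.mem_ker] at hx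
    have hx1 : (x : GL (Fin n) F) ^ k = 1 := by
      have := congrArg (fun t : ↥(scalars (Fin n) F) => (t : GL (Fin n) F)) hx
      simpa [φ] using this
    have hxR : (x : GL (Fin n) F) ∈ R := ⟨x.2, hx1⟩
    have hxZ := hRZ hxR
    rw [Subgroup.mem_center_iff]
    intro g
    apply Subtype.ext
    simp only [Subgroup.coe_mul]
    exact (scalars_comm hxZ (g : GL (Fin n) F)).symm
  obtain ⟨x, hx, y, hy, hxy⟩ := hnc
  apply hxy
  have hcomm := MonoidHom.isMulCommutative_of_isCyclic_of_ker_le_center φ hker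
  have := hcomm.is_comm.comm (⟨x, hx⟩ : ↥N) ⟨y, hy⟩
  exact congrArg (fun t : ↥N => (t : GL (Fin n) F)) this

end powker

end Cfsg.Agent.Lib.H1.Asch
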