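/-
Aschbacher's theorem, linear case (S5630 project), module M7 (abelian minimal normal subgroup modulo
scalars): the interface between the sub-steps.  (helper1)
-/
import Mathlib
import Cfsg.Agent.Lib.Lead.AschDefs

set_option autoImplicit false

namespace Cfsg.Agent.Lib.H1.Asch

open Cfsg Cfsg.Geo Cfsg.Agent.Lib.Lead.Asch
open scoped MatrixGroups Matrix

/-- The output of the first half of M7: `R` is a subgroup of `H`, normalised by `H`, absolutely
irreducible, abelian modulo scalars (so of class at most two, with scalar commutators), all of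
whose elements have order dividing `r * gcd 2 r` (`r` for odd `r`, `4` for `r = 2`). -/
structure SympCore {F : Type*} [Field F] [Fintype F] {n : ℕ} (H R : Subgroup (GL (Fin n) F))
    (r : ℕ) : Prop where
  prime : r.Prime
  le : R ≤ H
  norm : NormalizedBy H R
  absIrr : ActsAbsolutelyIrreducibly (matrixSet R)
  comm : ∀ x ∈ R, ∀ y ∈ R, x * y * x⁻¹ * y⁻¹ ∈ scalars (Fin n) F
  pow : ∀ x ∈ R, x ^ (r * Nat.gcd 2 r) = 1

end Cfsg.Agent.Lib.H1.Asch
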