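/-
S5630 / module M7 (helper1): facts about a `SympCore` (centre, traces, symplectic type, order).
-/
import Mathlib
import Cfsg.Agent.Lib.Lead.AschDefs2
import Cfsg.Agent.Lib.H25.AschM7a
import Cfsg.Agent.Lib.H3.AschU1
import Cfsg.Agent.Lib.H3.AschU67
import Cfsg.Agent.Lib.H3.AschM7B1
import Cfsg.Agent.Lib.H1.AschM7Defs
import Cfsg.Agent.Lib.H1.AschM7A

set_option autoImplicit false

namespace Cfsg.Agent.Lib.H1.Asch

open Cfsg Cfsg.Geo Cfsg.Agent.Lib.Lead.Asch Cfsg.Agent.Lib.H25.Asch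
open scoped MatrixGroups Matrix

variable {F : Type*} [Field F] [Fintype F] {n : ℕ}

namespace SympCore

variable {H R : Subgroup (GL (Fin n) F)} {r : ℕ}

theorem mem_scalars_of_central (hc : SympCore H R r) {x : GL (Fin n) F}
    (h : ∀ y ∈ R, x * y = y * x) : x ∈ scalars (Fin n) F :=
  Cfsg.Agent.Lib.H3.Asch.mem_scalars_of_absIrr_of_commute R hc.absIrr x h

theorem not_comm (hc : SympCore H R r) (hn : 2 ≤ n) : ∃ x ∈ R, ∃ y ∈ R, x * y ≠ y * x := by
  by_contra hcon
  push Not at hcon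
  have := Cfsg.Agent.Lib.H3.Asch.le_one_of_absIrr_of_comm R hc.absIrr hcon
  omega

theorem center_eq (hc : SympCore H R r) :
    Subgroup.center ↥R = (scalars (Fin n) F).subgroupOf R := by
  ext x
  rw [Subgroup.mem_center_iff, Subgroup.mem_subgroupOf]
  constructor
  · intro h
    apply hc.mem_scalars_of_central
    intro y hy
    have := h ⟨y, hy⟩
    exact (congrArg (fun t : ↥R => (t : GL (Fin n) F)) this).symm
  · intro h g
    apply Subtype.ext
    exact (scalars_comm h (g : GL (Fin n) F)).symm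

theorem mem_center_iff' (hc : SympCore H R r) (x : ↥R) :
    x ∈ Subgroup.center ↥R ↔ (x : GL (Fin n) F) ∈ scalars (Fin n) F := by
  rw [hc.center_eq, Subgroup.mem_subgroupOf]

theorem trace_eq_zero (hc : SympCore H R r) {x : GL (Fin n) F} (hx : x ∈ R)
    (hxs : x ∉ scalars (Fin n) F) : Matrix.trace (x : Matrix (Fin n) (Fin n) F) = 0 := by
  have h1 : ∃ y ∈ R, x * y ≠ y * x := by
    by_contra hcon
    push Not at hcon
    exact hxs (hc.mem_scalars_of_central hcon)
  obtain ⟨y, hy, hxy⟩ := h1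
  set d := y * x * y⁻¹ * x⁻¹ with hd
  have hdZ : d ∈ scalars (Fin n) F := hc.comm y hy x hx
  obtain ⟨c, hcd⟩ := (mem_scalars_iff d).1 hdZ
  have h2 : y * x * y⁻¹ = d * x := by rw [hd]; group
  have hc1 : (c : F) ≠ 1 := by
    intro h
    apply hxy
    have hd1 : d = 1 := by
      apply Units.ext
      rw [hcd, h, one_smul]; rfl
    rw [hd1, one_mul] at h2
    have := congrArg (fun t => t * y) h2
    simpa using this.symm
  have h3 : Matrix.trace ((y * x * y⁻¹ : GL (Fin n) F) : Matrix (Fin n) (Fin n) F) =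
      Matrix.trace (x : Matrix (Fin n) (Fin n) F) := by
    rw [Units.val_mul, Units.val_mul, Matrix.trace_mul_cycle, ← Units.val_mul, inv_mul_cancel,
      Units.val_one, one_mul]
  have h4 : Matrix.trace ((d * x : GL (Fin n) F) : Matrix (Fin n) (Fin n) F) =
      (c : F) * Matrix.trace (x : Matrix (Fin n) (Fin n) F) := by
    rw [Units.val_mul, hcd, Matrix.smul_mul, one_mul, Matrix.trace_smul, smul_eq_mul]
  rw [h2, h4] at h3
  have h5 : ((c : F) - 1) * Matrix.trace (x : Matrix (Fin n) (Fin n) F) = 0 := by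
    rw [sub_mul, h3, one_mul, sub_self]
  rcases mul_eq_zero.1 h5 with h | h
  · exact absurd (sub_eq_zero.1 h) hc1
  · exact h

theorem pow_prime_sq (hc : SympCore H R r) {x : GL (Fin n) F} (hx : x ∈ R) : x ^ (r ^ 2) = 1 := by
  have h1 : r * Nat.gcd 2 r ∣ r ^ 2 := by
    rcases hc.prime.eq_two_or_odd' with h | h
    · subst h; decide
    · rw [Nat.coprime_two_left.2 h, mul_one, pow_two]; exact dvd_mul_right r r
  obtain ⟨t, ht⟩ := h1
  rw [ht, pow_mul, hc.pow x hx, one_pow]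

theorem isPGroup (hc : SympCore H R r) : IsPGroup r R := by
  intro g
  refine ⟨2, ?_⟩
  apply Subtype.ext
  rw [Subgroup.coe_pow]
  exact hc.pow_prime_sq g.2

theorem exponent_eq (hc : SympCore H R r) (hn : 2 ≤ n) :
    Monoid.exponent ↥R = r * Nat.gcd 2 r := by
  obtain ⟨x, hx, y, hy, hxy⟩ := hc.not_comm hn
  have hxy' : (⟨x, hx⟩ : ↥R) * ⟨y, hy⟩ ≠ ⟨y, hy⟩ * ⟨x, hx⟩ := by
    intro h
    exact hxy (congrArg (fun t : ↥R => (t : GL (Fin n) F)) h)
  have hdvd : Monoid.exponent ↥R ∣ r * Nat.gcd 2 r := by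
    apply Monoid.exponent_dvd_of_forall_pow_eq_one
    intro g
    apply Subtype.ext
    rw [Subgroup.coe_pow]
    exact hc.pow g g.2
  have hne1 : Monoid.exponent ↥R ≠ 1 := by
    intro h
    rw [Monoid.exp_eq_one_iff] at h
    exact hxy' (Subsingleton.elim _ _)
  rcases hc.prime.eq_two_or_odd' with h | h
  · subst h
    have h4 : (2 * Nat.gcd 2 2) = 2 ^ 2 := by decide
    rw [h4] at hdvd ⊢
    obtain ⟨j, hj, hj'⟩ := (Nat.dvd_prime_pow Nat.prime_two).1 hdvd
    interval_cases j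
    · exact absurd hj' hne1
    · exfalso
      rw [pow_one] at hj'
      exact hxy' (mul_comm_of_exponent_two hj' _ _)
    · exact hj'
  · rw [Nat.coprime_two_left.2 h, mul_one] at hdvd ⊢
    rcases (Nat.dvd_prime hc.prime).1 hdvd with h' | h'
    · exact absurd h' hne1
    · exact h'

/-- Conjugation by an element of `H` as an automorphism of `R`. -/
def conjEquiv (hnorm : NormalizedBy H R) (h : GL (Fin n) F) (hh : h ∈ H) : ↥R ≃* ↥R where
  toFun x := ⟨h * x * h⁻¹, hnorm h hh x x.2⟩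
  invFun x := ⟨h⁻¹ * x * h, by simpa using hnorm h⁻¹ (H.inv_mem hh) x x.2⟩
  left_inv x := by apply Subtype.ext; simp [mul_assoc]
  right_inv x := by apply Subtype.ext; simp [mul_assoc]
  map_mul' x y := by apply Subtype.ext; simp [mul_assoc]

theorem cyclic_of_characteristic (hc : SympCore H R r) (hgood : Good H) (hn : 2 ≤ n)
    (A : Subgroup ↥R) (hA : A.Characteristic) (hcomm : IsMulCommutative A) : IsCyclic A := by
  set A' : Subgroup (GL (Fin n) F) := A.map R.subtype with hA'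
  have hA'R : A' ≤ R := by
    rintro _ ⟨a, _, rfl⟩
    exact a.2
  have hnorm : NormalizedBy H A' := by
    rintro h hh _ ⟨a, ha, rfl⟩
    have h1 := (Subgroup.characteristic_iff_map_eq.1 hA) (conjEquiv hc.norm h hh)
    have h2 : (conjEquiv hc.norm h hh) a ∈ A := by
      rw [← h1]
      exact ⟨a, ha, rfl⟩
    exact ⟨_, h2, rfl⟩
  have hab : ∀ x ∈ A', ∀ y ∈ A', x * y = y * x := by
    rintro _ ⟨a, ha, rfl⟩ _ ⟨b, hb, rfl⟩
    have := hcomm.is_comm.comm (⟨a, ha⟩ : ↥A) ⟨b, hb⟩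
    have h2 := congrArg (fun t : ↥A => ((t : ↥R) : GL (Fin n) F)) this
    simpa using h2
  have hA'Z : A' ≤ scalars (Fin n) F := by
    rcases hgood.star A' (hA'R.trans hc.le) hnorm with h | h
    · exact h
    · have := Cfsg.Agent.Lib.H3.Asch.le_one_of_absIrr_of_comm A' h hab
      omega
  have : IsCyclic ↥A' := Subgroup.isCyclic_of_le hA'Z
  exact isCyclic_of_injective (A.equivMapOfInjective R.subtype R.subtype_injective).toMonoidHom
    (A.equivMapOfInjective R.subtype R.subtype_injective).injective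

theorem isSymplecticTypeGroup (hc : SympCore H R r) (hgood : Good H) (hn : 2 ≤ n) :
    IsSymplecticTypeGroup r R where
  prime := hc.prime
  pGroup := hc.isPGroup
  cyclic_of_characteristic := hc.cyclic_of_characteristic hgood hn
  exponent_eq := hc.exponent_eq hn

/-- The centre of `R` is cyclic. -/
theorem isCyclic_center (hc : SympCore H R r) : IsCyclic ↥(Subgroup.center ↥R) := by
  rw [hc.center_eq]
  have h1 : IsCyclic ↥(scalars (Fin n) F ⊓ R) := Subgroup.isCyclic_of_le inf_le_left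
  have e : ↥((scalars (Fin n) F).subgroupOf R) ≃* ↥(scalars (Fin n) F ⊓ R) := by
    rw [← Subgroup.inf_subgroupOf_right]
    exact Subgroup.subgroupOfEquivOfLe inf_le_right
  exact isCyclic_of_injective e.toMonoidHom e.injective

theorem card_center_eq_inf (hc : SympCore H R r) :
    Nat.card ↥(Subgroup.center ↥R) = Nat.card ↥(R ⊓ scalars (Fin n) F) := by
  rw [hc.center_eq, inf_comm]
  have e : ↥((scalars (Fin n) F).subgroupOf R) ≃* ↥(scalars (Fin n) F ⊓ R) := by
    rw [← Subgroup.inf_subgroupOf_right]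
    exact Subgroup.subgroupOfEquivOfLe inf_le_right
  exact Nat.card_congr e.toEquiv

theorem card_center_dvd (hc : SympCore H R r) :
    Nat.card ↥(Subgroup.center ↥R) ∣ r * Nat.gcd 2 r := by
  have := hc.isCyclic_center
  rw [← IsCyclic.exponent_eq_card]
  apply Monoid.exponent_dvd_of_forall_pow_eq_one
  intro g
  apply Subtype.ext
  apply Subtype.ext
  simp only [Subgroup.coe_pow, Subgroup.coe_one]
  exact hc.pow _ (g : ↥R).2

theorem card_center_ne_one (hc : SympCore H R r) (hn : 2 ≤ n) :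
    Nat.card ↥(Subgroup.center ↥R) ≠ 1 := by
  intro h
  obtain ⟨x, hx, y, hy, hxy⟩ := hc.not_comm hn
  have hd : x * y * x⁻¹ * y⁻¹ ∈ scalars (Fin n) F := hc.comm x hx y hy
  have hdR : x * y * x⁻¹ * y⁻¹ ∈ R := R.mul_mem (R.mul_mem (R.mul_mem hx hy) (R.inv_mem hx)) (R.inv_mem hy)
  have hdc : (⟨x * y * x⁻¹ * y⁻¹, hdR⟩ : ↥R) ∈ Subgroup.center ↥R := by
    rw [hc.center_eq, Subgroup.mem_subgroupOf]
    exact hd
  have h1 := (Nat.card_eq_one_iff_unique.1 h).1
  have h2 : (⟨⟨x * y * x⁻¹ * y⁻¹, hdR⟩, hdc⟩ : ↥(Subgroup.center ↥R)) = 1 := Subsingleton.elim _ _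
  have h3 : x * y * x⁻¹ * y⁻¹ = 1 := by
    have := congrArg (fun t : ↥(Subgroup.center ↥R) => ((t : ↥R) : GL (Fin n) F)) h2
    simpa using this
  apply hxy
  have := congrArg (fun t => t * y * x) h3
  simpa [mul_assoc] using this

/-- The order of the centre: `r` for odd `r`, `2` or `4` for `r = 2`. -/
theorem card_center_cases (hc : SympCore H R r) (hn : 2 ≤ n) :
    Nat.card ↥(Subgroup.center ↥R) = r * Nat.gcd 2 r ∨
      (r = 2 ∧ Nat.card ↥(Subgroup.center ↥R) = 2) := by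
  have h1 := hc.card_center_dvd
  have h2 := hc.card_center_ne_one hn
  rcases hc.prime.eq_two_or_odd' with h | h
  · subst h
    have h4 : (2 * Nat.gcd 2 2) = 2 ^ 2 := by decide
    rw [h4] at h1 ⊢
    obtain ⟨j, hj, hj'⟩ := (Nat.dvd_prime_pow Nat.prime_two).1 h1
    interval_cases j
    · exact absurd hj' h2
    · right; exact ⟨rfl, by rw [hj', pow_one]⟩
    · left; exact hj'
  · rw [Nat.coprime_two_left.2 h, mul_one] at h1 ⊢
    rcases (Nat.dvd_prime hc.prime).1 h1 with h' | h'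
    · exact absurd h' h2
    · left; exact h'

/-- The scalar embedding of `Fˣ` into `GL`. -/
def scalarHom (n : ℕ) (F : Type*) [Field F] : Fˣ →* GL (Fin n) F :=
  Units.map (Matrix.scalar (Fin n) : F →+* Matrix (Fin n) (Fin n) F).toMonoidHom

omit [Fintype F] in
theorem scalarHom_val (c : Fˣ) :
    ((scalarHom n F c : GL (Fin n) F) : Matrix (Fin n) (Fin n) F) = (c : F) • (1 : Matrix (Fin n) (Fin n) F) := by
  simp [scalarHom, Matrix.smul_one_eq_diagonal]

omit [Fintype F] in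
theorem scalarHom_injective (hn : 0 < n) : Function.Injective (scalarHom n F) := by
  intro a b hab
  have h1 := congrArg (fun g : GL (Fin n) F => (g : Matrix (Fin n) (Fin n) F) ⟨0, hn⟩ ⟨0, hn⟩) hab
  simp only [scalarHom_val] at h1
  apply Units.ext
  simpa using h1

omit [Fintype F] in
theorem mem_scalars_iff_scalarHom (g : GL (Fin n) F) :
    g ∈ scalars (Fin n) F ↔ ∃ c : Fˣ, scalarHom n F c = g := Iff.rfl

theorem exists_primitiveRoot (hc : SympCore H R r) (hn : 0 < n) :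
    ∃ ζ : F, IsPrimitiveRoot ζ (Nat.card ↥(Subgroup.center ↥R)) := by
  have := hc.isCyclic_center
  obtain ⟨g, hg⟩ := IsCyclic.exists_generator (α := ↥(Subgroup.center ↥R))
  have h1 : orderOf g = Nat.card ↥(Subgroup.center ↥R) := orderOf_eq_card_of_forall_mem_zpowers hg
  have h2 : ((g : ↥R) : GL (Fin n) F) ∈ scalars (Fin n) F := (hc.mem_center_iff' _).1 g.2
  obtain ⟨c, hcg⟩ := (mem_scalars_iff_scalarHom _).1 h2
  refine ⟨(c : F), ?_⟩
  rw [← h1, ← Subgroup.orderOf_coe, ← Subgroup.orderOf_coe, ← hcg,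
    orderOf_injective (scalarHom n F) (scalarHom_injective hn) c, ← orderOf_units]
  exact IsPrimitiveRoot.orderOf (c : F)

theorem scalar_pow_card (hc : SympCore H R r) (hn : 0 < n) {x : GL (Fin n) F} (hx : x ∈ R) {c : F}
    (hxc : (x : Matrix (Fin n) (Fin n) F) = c • (1 : Matrix (Fin n) (Fin n) F)) :
    c ^ Nat.card ↥(Subgroup.center ↥R) = 1 := by
  have hc0 : c ≠ 0 := by
    intro h
    have h1 : (x : Matrix (Fin n) (Fin n) F) = 0 := by rw [hxc, h, zero_smul]
    have h2 := congrArg (fun M : Matrix (Fin n) (Fin n) F => M ⟨0, hn⟩ ⟨0, hn⟩)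
      (x.mul_inv : (x : Matrix (Fin n) (Fin n) F) * _ = 1)
    simp [h1] at h2
  have hxZ : x ∈ scalars (Fin n) F := (mem_scalars_iff x).2 ⟨Units.mk0 c hc0, hxc⟩
  have hxc' : (⟨x, hx⟩ : ↥R) ∈ Subgroup.center ↥R := by
    rw [hc.center_eq, Subgroup.mem_subgroupOf]; exact hxZ
  have h1 : (⟨⟨x, hx⟩, hxc'⟩ : ↥(Subgroup.center ↥R)) ^ Nat.card ↥(Subgroup.center ↥R) = 1 :=
    pow_card_eq_one'
  have h2 : x ^ Nat.card ↥(Subgroup.center ↥R) = 1 := by
    have := congrArg (fun t : ↥(Subgroup.center ↥R) => ((t : ↥R) : GL (Fin n) F)) h1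
    simpa only [Subgroup.coe_pow, Subgroup.coe_one, Subgroup.coe_mk] using this
  have h3 := congrArg (fun g : GL (Fin n) F => (g : Matrix (Fin n) (Fin n) F) ⟨0, hn⟩ ⟨0, hn⟩) h2
  simp only [Units.val_pow_eq_pow_val, hxc, smul_pow, one_pow, Units.val_one] at h3
  simpa using h3

theorem card_eq (hc : SympCore H R r) (hn : 0 < n) :
    Nat.card R = Nat.card ↥(Subgroup.center ↥R) * n ^ 2 := by
  rw [hc.center_eq]
  exact Cfsg.Agent.Lib.H3.Asch.card_eq_of_span_eq_top hn R hc.comm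
    (Cfsg.Agent.Lib.H3.Asch.span_eq_top_of_absIrr R hc.absIrr)

theorem exists_dim_eq_pow (hc : SympCore H R r) (hn : 0 < n) : ∃ m : ℕ, n = r ^ m := by
  have := Fact.mk hc.prime
  obtain ⟨a, ha⟩ := IsPGroup.iff_card.1 hc.isPGroup
  have h1 : n ∣ r ^ a := by
    rw [← ha, hc.card_eq hn, pow_two, ← mul_assoc]
    exact dvd_mul_left n _
  obtain ⟨m, _, hm⟩ := (Nat.dvd_prime_pow hc.prime).1 h1
  exact ⟨m, hm⟩

end SympCore

end Cfsg.Agent.Lib.H1.Asch
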