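/-
S5630 / module M7 (helper1): arithmetic of the field, and the assembly of M7
(`tame_of_abelian_minimal`).
-/
import Mathlib
import Cfsg.Agent.Lib.Lead.AschDefs2
import Cfsg.Agent.Lib.H1.AschM7B
import Cfsg.Agent.Lib.H25.AschM7C
import Cfsg.Agent.Lib.H25.AschM7L6
import Cfsg.Agent.Lib.H17.AschU2

set_option autoImplicit false

namespace Cfsg.Agent.Lib.H1.Asch

open Cfsg Cfsg.Geo Cfsg.Agent.Lib.Lead.Asch Cfsg.Agent.Lib.H25.Asch
open scoped MatrixGroups Matrix

variable {F : Type*} [Field F] [Fintype F] {n : ℕ}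

/-- In a field with `p ^ e` elements, not every element is fixed by `x ↦ x ^ (p ^ d)` when `0 < d < e`. -/
theorem exists_pow_ne_self (p e d : ℕ) (hp : p.Prime) (hq : Fintype.card F = p ^ e)
    (hd0 : 0 < d) (hde : d < e) : ∃ a : F, a ^ (p ^ d) ≠ a := by
  by_contra hcon
  push Not at hcon
  have h1 : ∀ x : Fˣ, x ^ (p ^ d - 1) = 1 := by
    intro x
    have h2 := hcon (x : F)
    have hpd : 0 < p ^ d := pow_pos hp.pos d
    apply Units.ext
    rw [Units.val_pow_eq_pow_val, Units.val_one]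
    have h3 : (x : F) ^ (p ^ d - 1) * (x : F) = 1 * (x : F) := by
      rw [← pow_succ, Nat.sub_add_cancel hpd, one_mul, h2]
    exact mul_right_cancel₀ x.ne_zero h3
  have h2 := (FiniteField.forall_pow_eq_one_iff F (p ^ d - 1)).1 h1
  rw [hq] at h2
  have h3 : 1 < p ^ d := Nat.one_lt_pow hd0.ne' hp.one_lt
  have h4 : p ^ d < p ^ e := Nat.pow_lt_pow_right hp.one_lt hde
  have h5 := Nat.le_of_dvd (by omega) h2
  omega

/-- The fixed field of `x ↦ x ^ (p ^ d)`, a proper subfield when `0 < d < e`. -/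
theorem exists_proper_subfield (p e d : ℕ) (hp : p.Prime) [CharP F p] (hq : Fintype.card F = p ^ e)
    (hd0 : 0 < d) (hde : d < e) :
    ∃ F₁ : Subfield F, F₁ ≠ ⊤ ∧ ∀ a : F, a ^ (p ^ d) = a → a ∈ F₁ := by
  have := Fact.mk hp
  refine ⟨(iterateFrobenius F p d).eqLocusField (RingHom.id F), ?_, ?_⟩
  · intro h
    obtain ⟨a, ha⟩ := exists_pow_ne_self (F := F) p e d hp hq hd0 hde
    apply ha
    have : a ∈ (iterateFrobenius F p d).eqLocusField (RingHom.id F) := by rw [h]; trivial
    rw [RingHom.mem_eqLocusField, iterateFrobenius_def] at this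
    exact this
  · intro a ha
    rw [RingHom.mem_eqLocusField, iterateFrobenius_def]
    exact ha

/-- The involutory automorphism `x ↦ x ^ (p ^ f)` of a field with `p ^ (2 f)` elements. -/
theorem exists_involution (p f : ℕ) (hp : p.Prime) [CharP F p] (hq : Fintype.card F = p ^ (2 * f))
    (hf : 0 < f) :
    ∃ σ : F ≃+* F, σ ≠ RingEquiv.refl F ∧ (∀ a, σ (σ a) = a) ∧ ∀ a, σ a = a ^ (p ^ f) := by
  have := Fact.mk hp
  refine ⟨iterateFrobeniusEquiv F p f, ?_, ?_, ?_⟩
  · intro h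
    obtain ⟨a, ha⟩ := exists_pow_ne_self (F := F) p (2 * f) f hp hq hf (by omega)
    apply ha
    have := congrArg (fun τ : F ≃+* F => τ a) h
    simpa [iterateFrobenius_def] using this
  · intro a
    rw [iterateFrobeniusEquiv_def, iterateFrobeniusEquiv_def, ← pow_mul, ← pow_add, ← two_mul, ← hq]
    exact FiniteField.pow_card a
  · intro a
    exact iterateFrobeniusEquiv_def F p f a

/-! ### Arithmetic -/

theorem prime_dvd_pow_add_one (z p f : ℕ) (hz : z.Prime) (_hp : 0 < p) (h1 : z ∣ p ^ (2 * f) - 1)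
    (h2 : ¬ z ∣ p ^ f - 1) : z ∣ p ^ f + 1 := by
  have h3 : p ^ (2 * f) - 1 = (p ^ f + 1) * (p ^ f - 1) := by
    rw [mul_comm 2 f, pow_mul, ← Nat.sq_sub_sq, one_pow]
  rw [h3] at h1
  rcases (Nat.Prime.dvd_mul hz).1 h1 with h | h
  · exact h
  · exact absurd h h2

theorem four_cases (p e : ℕ) (hp : p.Prime) (he : 0 < e) (h4 : 4 ∣ p ^ e - 1)
    (hmin : ∀ d : ℕ, 0 < d → d < e → ¬ 4 ∣ p ^ d - 1) : e = 1 ∨ (e = 2 ∧ 4 ∣ p ^ 1 + 1) := by
  have hp2 : p ≠ 2 := by
    intro h
    subst h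
    have h1 : 2 ∣ 2 ^ e := dvd_pow_self 2 he.ne'
    have h2 : 2 ∣ 2 ^ e - 1 := dvd_trans (by norm_num) h4
    have h3 : 1 ≤ 2 ^ e := Nat.one_le_two_pow
    omega
  have hodd : p % 2 = 1 := by
    rcases hp.eq_two_or_odd with h | h
    · exact absurd h hp2
    · exact h
  by_cases he1 : e = 1
  · left; exact he1
  right
  have h43 : p % 4 = 3 := by
    by_contra h
    have h1 : p % 4 = 1 := by omega
    apply hmin 1 (by norm_num) (by omega)
    rw [pow_one]
    omega
  obtain ⟨t, ht⟩ : ∃ t, p = 4 * t + 3 := ⟨p / 4, by omega⟩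
  have hsq : 4 ∣ p ^ 2 - 1 := by
    have : p ^ 2 = 4 * (4 * t ^ 2 + 6 * t + 2) + 1 := by rw [ht]; ring
    exact ⟨4 * t ^ 2 + 6 * t + 2, by omega⟩
  have he2 : e = 2 := by
    by_contra h
    exact hmin 2 (by norm_num) (by omega) hsq
  refine ⟨he2, ?_⟩
  rw [pow_one]
  omega

theorem prime_ne_of_dvd (r z p e : ℕ) (hp : p.Prime) (hrz : r ∣ z) (hz : z ∣ p ^ e - 1)
    (he : 0 < e) : r ≠ p := by
  intro h
  subst h
  have h1 : r ∣ r ^ e := dvd_pow_self r he.ne'
  have h2 : r ∣ r ^ e - 1 := hrz.trans hz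
  have h3 : 1 ≤ r ^ e := Nat.one_le_pow _ _ hp.pos
  have h4 : r ∣ 1 := by
    have := (Nat.dvd_sub h1 h2)
    rwa [Nat.sub_sub_self h3] at this
  exact hp.one_lt.ne' (Nat.dvd_one.1 h4)

omit [Fintype F] in
theorem natCast_pow_ne_zero (p r m : ℕ) (hp : p.Prime) (hr : r.Prime) (hrp : r ≠ p) [CharP F p] :
    ((r ^ m : ℕ) : F) ≠ 0 := by
  intro h
  have h1 := (CharP.cast_eq_zero_iff F p (r ^ m)).1 h
  have h2 := hp.dvd_of_dvd_pow h1
  exact hrp ((Nat.prime_dvd_prime_iff_eq hp hr).1 h2).symm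

/-! ### Assembly -/

theorem exists_sympCore (hn : 2 ≤ n) (H N : Subgroup (GL (Fin n) F)) (hgood : Good H)
    (hmin : MinimalModScalars H N)
    (hab : ∀ x ∈ N, ∀ y ∈ N, x * y * x⁻¹ * y⁻¹ ∈ scalars (Fin n) F) :
    ∃ (r : ℕ) (R : Subgroup (GL (Fin n) F)), SympCore H R r := by
  have hNabs : ActsAbsolutelyIrreducibly (matrixSet N) :=
    (hgood.star N hmin.le hmin.norm).resolve_left hmin.not_scal
  have hnc : ∃ x ∈ N, ∃ y ∈ N, x * y ≠ y * x := by
    by_contra hcon
    push Not at hcon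
    have := Cfsg.Agent.Lib.H3.Asch.le_one_of_absIrr_of_comm N hNabs hcon
    omega
  obtain ⟨r, hr, hpow⟩ := exists_prime_pow_mem_scalars H N hmin hab
  obtain ⟨R, hmem, hRZ⟩ := exists_powKer N hab hnc r hr hpow
  have hRN : R ≤ N := fun x hx => ((hmem x).1 hx).1
  have hRH : R ≤ H := hRN.trans hmin.le
  have hnorm : NormalizedBy H R := by
    intro h hh x hx
    refine (hmem _).2 ⟨hmin.norm h hh x (hRN hx), ?_⟩
    rw [conj_pow, ((hmem x).1 hx).2, mul_one, mul_inv_cancel]
  refine ⟨r, R, hr, hRH, hnorm, (hgood.star R hRH hnorm).resolve_left hRZ, ?_, ?_⟩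
  · intro x hx y hy
    exact hab x (hRN hx) y (hRN hy)
  · intro x hx
    exact ((hmem x).1 hx).2

omit [Fintype F] in
theorem le_subgroupNormalizer {H R : Subgroup (GL (Fin n) F)} (hnorm : NormalizedBy H R) :
    H ≤ subgroupNormalizer R := by
  intro h hh
  unfold subgroupNormalizer
  rw [Subgroup.mem_normalizer_iff]
  intro x
  constructor
  · intro hx
    exact hnorm h hh x hx
  · intro hx
    have := hnorm h⁻¹ (H.inv_mem hh) _ hx
    simpa [mul_assoc] using this

omit [Fintype F] in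
theorem pow_eq_self_of_dvd {a : F} {z N : ℕ} (ha : a ^ z = 1) (hN : 0 < N) (hz : z ∣ N - 1) :
    a ^ N = a := by
  obtain ⟨t, ht⟩ := hz
  have h1 : a ^ (N - 1) = 1 := by rw [ht, pow_mul, ha, one_pow]
  calc a ^ N = a ^ (N - 1 + 1) := by rw [Nat.sub_add_cancel hN]
    _ = a := by rw [pow_succ, h1, one_mul]

theorem tame_of_sympCore (hn : 3 ≤ n) (H R : Subgroup (GL (Fin n) F)) (r : ℕ) (hc : SympCore H R r)
    (hgood : Good H) : TameC5 H ∨ TameC6 H ∨ TameC8 H := by
  classical
  have hn0 : 0 < n := by omega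
  have hn2 : 2 ≤ n := by omega
  set z := Nat.card ↥(Subgroup.center ↥R) with hz
  set p := ringChar F with hp'
  have : CharP F p := ringChar.charP F
  obtain ⟨e, hp, hq⟩ := FiniteField.card F p
  have he : 0 < (e : ℕ) := e.pos
  obtain ⟨ζ, hζ⟩ := hc.exists_primitiveRoot hn0
  rw [← hz] at hζ
  have hz0 : 0 < z := Nat.card_pos
  have hζ0 : ζ ≠ 0 := hζ.ne_zero hz0.ne'
  have hzq : z ∣ p ^ (e : ℕ) - 1 := by
    rw [← hq]
    exact hζ.dvd_of_pow_eq_one _ (FiniteField.pow_card_sub_one_eq_one ζ hζ0)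
  obtain ⟨m, hm⟩ := hc.exists_dim_eq_pow hn0
  have hcases := hc.card_center_cases hn2
  rw [← hz] at hcases
  have hrz : r ∣ z := by
    rcases hcases with h | ⟨h1, h2⟩
    · rw [h]; exact dvd_mul_right _ _
    · rw [h2, h1]
  have hrp : r ≠ p := prime_ne_of_dvd r z p e hp hrz hzq he
  have hnF : (n : F) ≠ 0 := by
    rw [hm]; exact natCast_pow_ne_zero p r m hp hc.prime hrp
  have hzF : ((Nat.card ↥(R ⊓ scalars (Fin n) F) : ℕ) : F) ≠ 0 := by
    rw [← hc.card_center_eq_inf]
    have h1 : z ∣ r ^ 2 := by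
      rw [hz]
      refine hc.card_center_dvd.trans ?_
      rcases hc.prime.eq_two_or_odd' with h | h
      · subst h; decide
      · rw [Nat.coprime_two_left.2 h, mul_one, pow_two]; exact dvd_mul_right r r
    obtain ⟨j, _, hj⟩ := (Nat.dvd_prime_pow hc.prime).1 h1
    rw [← hz, hj]
    exact natCast_pow_ne_zero p r j hp hc.prime hrp
  have htr : ∀ x ∈ R, x ∉ scalars (Fin n) F → Matrix.trace (x : Matrix (Fin n) (Fin n) F) = 0 :=
    fun x hx hxs => hc.trace_eq_zero hx hxs
  have hcardR : Nat.card R = z * n ^ 2 := hc.card_eq hn0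
  have hm1 : 1 ≤ m := by
    rcases Nat.eq_zero_or_pos m with h | h
    · rw [h, pow_zero] at hm; omega
    · exact h
  rcases hcases with hzk | ⟨hr2, hz2⟩
  swap
  · -- the centre has order two: an invariant bilinear form
    right; right
    refine tame_of_scalars_sq hn H R hc.norm hc.absIrr htr ?_ hnF hzF
    intro x hx hxZ
    have hxc : (⟨x, hx⟩ : ↥R) ∈ Subgroup.center ↥R := (hc.mem_center_iff' _).2 hxZ
    have h1 : (⟨⟨x, hx⟩, hxc⟩ : ↥(Subgroup.center ↥R)) ^ Nat.card ↥(Subgroup.center ↥R) = 1 :=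
      pow_card_eq_one'
    rw [← hz, hz2] at h1
    have := congrArg (fun t : ↥(Subgroup.center ↥R) => ((t : ↥R) : GL (Fin n) F)) h1
    simpa only [Subgroup.coe_pow, Subgroup.coe_one, Subgroup.coe_mk] using this
  · by_cases hsub : ∃ d : ℕ, 0 < d ∧ d < (e : ℕ) ∧ z ∣ p ^ d - 1
    · -- realisable over a proper subfield
      left
      obtain ⟨d, hd0, hde, hzd⟩ := hsub
      obtain ⟨F₁, hne, hF₁⟩ := exists_proper_subfield (F := F) p e d hp hq hd0 hde
      have hroots : ∀ a : F, a ^ z = 1 → a ∈ F₁ := by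
        intro a ha
        exact hF₁ a (pow_eq_self_of_dvd ha (pow_pos hp.pos d) hzd)
      have hreal := realisable_of_pow_eq_one R hc.absIrr.1 hc.comm z hz0
        (fun x hx => by rw [hzk]; exact hc.pow x hx) ζ hζ F₁ hroots
      exact Cfsg.Agent.Lib.H17.Asch.tame_of_realisable H R hc.norm hc.absIrr F₁ hne hreal
    · push Not at hsub
      have hminf : IsMinimalFieldFor z p e F :=
        ⟨hp, inferInstance, hq, hzq, fun d hd0 hde => hsub d hd0 hde⟩
      have hsympl := hc.isSymplecticTypeGroup hgood hn2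
      rcases hc.prime.eq_two_or_odd' with hr2 | hrodd
      · -- r = 2, centre of order 4
        subst hr2
        have hz4 : z = 4 := by rw [hzk]; decide
        have hzq4 : 4 ∣ p ^ (e : ℕ) - 1 := hz4 ▸ hzq
        rcases four_cases p e hp he hzq4 (fun d h1 h2 => hz4 ▸ hsub d h1 h2) with he1 | ⟨he2, h4⟩
        · -- class 6
          right; left
          refine ⟨2, R, ⟨hsympl, hc.absIrr, p, e, hrp, hminf,
            Or.inr (Or.inl ⟨rfl, he1, hz4, ?_, m, ?_⟩)⟩, hc.comm, le_subgroupNormalizer hc.norm⟩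
          · rw [Fintype.card_fin, hm]
            have h2 : 2 ≤ m := by
              by_contra h
              have : m = 1 := by omega
              rw [this, pow_one] at hm; omega
            calc 4 = 2 ^ 2 := by norm_num
              _ ≤ 2 ^ m := Nat.pow_le_pow_right (by norm_num) h2
          · rw [hcardR, hz4, hm]; ring
        · -- unitary
          right; right
          have hq2 : Fintype.card F = p ^ (2 * 1) := by rw [hq, he2]
          obtain ⟨σ, hσ1, hσ2, hσ3⟩ := exists_involution (F := F) p 1 hp hq2 one_pos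
          refine tame_of_scalars_unitary hn H R hc.norm hc.absIrr htr σ hσ1 hσ2 ?_ hnF hzF
          intro x hx c hxc
          have hcz : c ^ z = 1 := hc.scalar_pow_card hn0 hx hxc
          rw [hσ3, ← pow_succ]
          obtain ⟨t, ht⟩ := h4
          rw [ht, ← hz4, pow_mul, hcz, one_pow]
      · -- r odd, centre of order r
        have hzr : z = r := by rw [hzk, Nat.coprime_two_left.2 hrodd, mul_one]
        rcases Nat.even_or_odd (e : ℕ) with heven | hodd
        · -- unitary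
          right; right
          obtain ⟨f, hf⟩ := heven
          have hf2 : (e : ℕ) = 2 * f := by omega
          have hf0 : 0 < f := by omega
          have hq2 : Fintype.card F = p ^ (2 * f) := by rw [hq, hf2]
          obtain ⟨σ, hσ1, hσ2, hσ3⟩ := exists_involution (F := F) p f hp hq2 hf0
          have hdvd : z ∣ p ^ f + 1 := by
            apply prime_dvd_pow_add_one z p f (hzr ▸ hc.prime) hp.pos
            · rw [← hf2]; exact hzq
            · exact hsub f hf0 (by omega)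
          refine tame_of_scalars_unitary hn H R hc.norm hc.absIrr htr σ hσ1 hσ2 ?_ hnF hzF
          intro x hx c hxc
          have hcz : c ^ z = 1 := hc.scalar_pow_card hn0 hx hxc
          rw [hσ3, ← pow_succ]
          obtain ⟨t, ht⟩ := hdvd
          rw [ht, pow_mul, hcz, one_pow]
        · -- class 6
          right; left
          refine ⟨r, R, ⟨hsympl, hc.absIrr, p, e, hrp, hminf,
            Or.inl ⟨hrodd, hodd, hzr, m, hm1, ?_⟩⟩, hc.comm, le_subgroupNormalizer hc.norm⟩
          rw [hcardR, hzr, hm]; ring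

/-- **M7**. The minimal normal subgroup is abelian modulo scalars. -/
theorem tame_of_abelian_minimal (hn : 3 ≤ n) (H N : Subgroup (GL (Fin n) F)) (hgood : Good H)
    (hmin : MinimalModScalars H N)
    (hab : ∀ x ∈ N, ∀ y ∈ N, x * y * x⁻¹ * y⁻¹ ∈ scalars (Fin n) F) :
    TameC5 H ∨ TameC6 H ∨ TameC8 H := by
  obtain ⟨r, R, hc⟩ := exists_sympCore (by omega) H N hgood hmin hab
  exact tame_of_sympCore hn H R r hc hgood

end Cfsg.Agent.Lib.H1.Asch
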