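/-
S5630 Phase 2 (helper1): P2-B6, `SL_n` does not normalise a class-6 group.
-/
import Mathlib
import Cfsg.Agent.Lib.Lead.AschDefs2
import Cfsg.Agent.Lib.H28.GLBasic
import Cfsg.Agent.Lib.H25.AschM7Ca
import Cfsg.Agent.Lib.H3.AschU67
import Cfsg.Agent.Lib.H1.AschM7

set_option autoImplicit false

namespace Cfsg.Agent.Lib.H1.AschP2

open Cfsg Cfsg.Geo Cfsg.Agent.Lib.Lead.Asch Cfsg.Agent.Lib.H1.Asch Cfsg.Agent.Lib.H25.Asch
open Cfsg.Agent.Lib.H28
open scoped MatrixGroups Matrix Kronecker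

variable {F : Type*} [Field F] [Fintype F] {n : ℕ}

/-- A finite field contains a primitive `z`-th root of unity whenever `z` divides `|F| - 1`. -/
theorem exists_primitiveRoot_of_dvd (z : ℕ) (hz : z ∣ Fintype.card F - 1) :
    ∃ ζ : F, IsPrimitiveRoot ζ z := by
  obtain ⟨g, hg⟩ := IsCyclic.exists_generator (α := Fˣ)
  have h1 : orderOf g = Fintype.card F - 1 := by
    rw [orderOf_eq_card_of_forall_mem_zpowers hg, Nat.card_units, Nat.card_eq_fintype_card]
  have hpos : 0 < Fintype.card F - 1 := by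
    have := Fintype.one_lt_card (α := F)
    omega
  have h2 : orderOf (g ^ (orderOf g / z)) = z :=
    orderOf_pow_orderOf_div (by rw [h1]; exact hpos.ne') (by rw [h1]; exact hz)
  refine ⟨((g ^ (orderOf g / z) : Fˣ) : F), ?_⟩
  have := IsPrimitiveRoot.orderOf ((g ^ (orderOf g / z) : Fˣ) : F)
  rwa [orderOf_units, h2] at this

omit [Fintype F] in
/-- A unipotent element `v ↦ v + φ v • c` with `φ c = 0`: its powers. -/
theorem pow_mulVec_of_transvection (y : GL (Fin n) F) (c : Fin n → F) (φ : (Fin n → F) → F)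
    (hφc : φ c = 0) (hy : ∀ v, (y : Matrix (Fin n) (Fin n) F) *ᵥ v = v + φ v • c) (m : ℕ) (v : Fin n → F) :
    ((y ^ m : GL (Fin n) F) : Matrix (Fin n) (Fin n) F) *ᵥ v = v + ((m : F) * φ v) • c := by
  induction m generalizing v with
  | zero => simp
  | succ m ih =>
    rw [pow_succ, Units.val_mul, ← Matrix.mulVec_mulVec, hy, Matrix.mulVec_add, Matrix.mulVec_smul, ih, ih,
      hφc]
    simp only [mul_zero, zero_smul, add_zero]
    rw [add_assoc, ← add_smul]
    congr 2
    push_cast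
    ring

omit [Fintype F] in
/-- Powers of `x = λ + N` with `N² = 0`, on vectors. -/
theorem pow_mulVec_of_sq_zero (x : GL (Fin n) F) (lam : F)
    (hN : ∀ u, (x : Matrix (Fin n) (Fin n) F) *ᵥ ((x : Matrix (Fin n) (Fin n) F) *ᵥ u - lam • u) =
      lam • ((x : Matrix (Fin n) (Fin n) F) *ᵥ u - lam • u)) (m : ℕ) (u : Fin n → F) :
    ((x ^ (m + 1) : GL (Fin n) F) : Matrix (Fin n) (Fin n) F) *ᵥ u =
      lam ^ (m + 1) • u + (((m + 1 : ℕ) : F) * lam ^ m) • ((x : Matrix (Fin n) (Fin n) F) *ᵥ u - lam • u) := by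
  induction m with
  | zero => simp
  | succ m ih =>
    have hXu : (x : Matrix (Fin n) (Fin n) F) *ᵥ u =
        lam • u + ((x : Matrix (Fin n) (Fin n) F) *ᵥ u - lam • u) := by abel
    rw [pow_succ', Units.val_mul, ← Matrix.mulVec_mulVec, ih, Matrix.mulVec_add, Matrix.mulVec_smul,
      Matrix.mulVec_smul, hN u]
    set Nu := (x : Matrix (Fin n) (Fin n) F) *ᵥ u - lam • u with hNu
    rw [hXu, smul_add, smul_smul, smul_smul, add_assoc, ← add_smul]
    congr 2
    · ring
    · push_cast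
      ring

/-- **P2-B6**. -/
theorem not_sl_le_subgroupNormalizer (hn : 3 ≤ n) (r : ℕ) (R : Subgroup (GL (Fin n) F))
    (hR : IsLinearSymplecticTypeData r R) : ¬ specialLinear (Fin n) F ≤ subgroupNormalizer R := by
  classical
  intro hSL
  have hn0 : 0 < n := by omega
  have hrprime := hR.symplecticType.prime
  obtain ⟨p, e, hrp, hminf, hcases⟩ := hR.field
  obtain ⟨hp, hchar, hq, hzq, _⟩ := hminf
  -- the exponent of `R` is the order `z` of the centre
  set z := Nat.card ↥(Subgroup.center ↥R) with hz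
  have hexp : Monoid.exponent ↥R = z := by
    rw [hR.symplecticType.exponent_eq]
    rcases hcases with h | h | h
    · obtain ⟨hodd, _, hzr, _⟩ := h
      rw [Nat.coprime_two_left.2 hodd, mul_one, ← hzr]
    · obtain ⟨hr2, _, hz4, _⟩ := h
      rw [hz4, hr2]
      decide
    · obtain ⟨_, _, h2, _⟩ := h
      rw [Fintype.card_fin] at h2
      omega
  have hz0 : 0 < z := Nat.card_pos
  have hpowz : ∀ x ∈ R, x ^ z = 1 := by
    intro x hx
    have h1 : (⟨x, hx⟩ : ↥R) ^ Monoid.exponent ↥R = 1 := Monoid.pow_exponent_eq_one _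
    rw [hexp] at h1
    have := congrArg (fun t : ↥R => (t : GL (Fin n) F)) h1
    simpa only [Subgroup.coe_pow, Subgroup.coe_one, Subgroup.coe_mk] using this
  have hzr2 : z ∣ r ^ 2 := by
    rw [← hexp, hR.symplecticType.exponent_eq]
    rcases hrprime.eq_two_or_odd' with h | h
    · subst h; decide
    · rw [Nat.coprime_two_left.2 h, mul_one, pow_two]; exact dvd_mul_right r r
  have hpowr : ∀ x ∈ R, x ^ (r ^ 2) = 1 := by
    intro x hx
    obtain ⟨t, ht⟩ := hzr2
    rw [ht, pow_mul, hpowz x hx, one_pow]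
  have hr2F : ((r ^ 2 : ℕ) : F) ≠ 0 := natCast_pow_ne_zero p r 2 hp hrprime hrp
  have hzF : ((z : ℕ) : F) ≠ 0 := by
    obtain ⟨j, _, hj⟩ := (Nat.dvd_prime_pow hrprime).1 hzr2
    rw [hj]
    exact natCast_pow_ne_zero p r j hp hrprime hrp
  obtain ⟨ζ, hζ⟩ := exists_primitiveRoot_of_dvd (F := F) z (by rw [hq]; exact hzq)
  -- a non-scalar element of `R`
  have hns : ∃ x ∈ R, x ∉ scalars (Fin n) F := by
    by_contra hcon
    push Not at hcon
    have h1 := Cfsg.Agent.Lib.H3.Asch.le_one_of_absIrr_of_comm R hR.absIrred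
      (fun x hx y _ => scalars_comm (hcon x hx) y)
    omega
  obtain ⟨x, hxR, hxs⟩ := hns
  -- an eigenvector of `x`
  obtain ⟨c, hc0, hceig⟩ := exists_common_eigenvector hn0 (Subgroup.zpowers x)
    (by
      rintro a ⟨i, rfl⟩ b ⟨j, rfl⟩
      exact (Commute.zpow_zpow_self x i j).eq)
    z hz0
    (by
      rintro a ⟨i, rfl⟩
      rw [← zpow_natCast, ← zpow_mul, mul_comm, zpow_mul, zpow_natCast, hpowz x hxR, one_zpow])
    ζ hζ
  obtain ⟨lam, hlam⟩ := hceig x (Subgroup.mem_zpowers x)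
  set X : Matrix (Fin n) (Fin n) F := (x : Matrix (Fin n) (Fin n) F) with hX
  set X' : Matrix (Fin n) (Fin n) F := ((x⁻¹ : GL (Fin n) F) : Matrix (Fin n) (Fin n) F) with hX'
  have hXX' : ∀ v, X *ᵥ (X' *ᵥ v) = v := by
    intro v
    rw [Matrix.mulVec_mulVec, hX, hX', ← Units.val_mul, mul_inv_cancel, Units.val_one, Matrix.one_mulVec]
  have hX'X : ∀ v, X' *ᵥ (X *ᵥ v) = v := by
    intro v
    rw [Matrix.mulVec_mulVec, hX, hX', ← Units.val_mul, inv_mul_cancel, Units.val_one, Matrix.one_mulVec]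
  have hlam0 : lam ≠ 0 := by
    intro h
    rw [h, zero_smul] at hlam
    have := hX'X c
    rw [hlam, Matrix.mulVec_zero] at this
    exact hc0 this.symm
  have hX'c : X' *ᵥ c = lam⁻¹ • c := by
    have := hX'X c
    rw [hlam, Matrix.mulVec_smul] at this
    calc X' *ᵥ c = lam⁻¹ • (lam • X' *ᵥ c) := by rw [smul_smul, inv_mul_cancel₀ hlam0, one_smul]
      _ = lam⁻¹ • c := by rw [this]
  -- key: every functional killing `c` is a `lam`-eigenvector of the transpose of `x`
  have key : ∀ f : Module.Dual F (Fin n → F), f c = 0 → ∀ u, f (X *ᵥ u) = lam * f u := by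
    intro f hfc u
    have hτ := hSL (tvGL_mem_specialLinear f c hfc)
    unfold subgroupNormalizer at hτ
    rw [Subgroup.mem_normalizer_iff] at hτ
    set τ := tvGL f c hfc with hτdef
    have hy1 : τ * x * τ⁻¹ ∈ R := (hτ x).1 hxR
    have hyR : τ * x * τ⁻¹ * x⁻¹ ∈ R := R.mul_mem hy1 (R.inv_mem hxR)
    set y := τ * x * τ⁻¹ * x⁻¹ with hy
    have hτinv : ∀ v, ((τ⁻¹ : GL (Fin n) F) : Matrix (Fin n) (Fin n) F) *ᵥ v = v - f v • c := by
      intro v
      have h1 : (τ : Matrix (Fin n) (Fin n) F) *ᵥ (v - f v • c) = v := by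
        rw [tvGL_mulVec, map_sub, map_smul, hfc, smul_zero, sub_zero]
        abel
      have h2 : ((τ⁻¹ : GL (Fin n) F) : Matrix (Fin n) (Fin n) F) *ᵥ
          ((τ : Matrix (Fin n) (Fin n) F) *ᵥ (v - f v • c)) = v - f v • c := by
        rw [Matrix.mulVec_mulVec, ← Units.val_mul, inv_mul_cancel, Units.val_one, Matrix.one_mulVec]
      rw [h1] at h2
      exact h2
    let g : (Fin n → F) → F := fun v => f v - lam * f (X' *ᵥ v)
    have hgc : g c = 0 := by
      simp only [g]
      rw [hX'c, map_smul, hfc, smul_zero, mul_zero, sub_zero]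
    have hyv : ∀ v, (y : Matrix (Fin n) (Fin n) F) *ᵥ v = v + g v • c := by
      intro v
      rw [hy, Units.val_mul, Units.val_mul, Units.val_mul, ← Matrix.mulVec_mulVec, ← Matrix.mulVec_mulVec,
        ← Matrix.mulVec_mulVec, hτinv, Matrix.mulVec_sub, Matrix.mulVec_smul]
      change (τ : Matrix (Fin n) (Fin n) F) *ᵥ (X *ᵥ (X' *ᵥ v) - f (X' *ᵥ v) • X *ᵥ c) = _
      rw [hXX', hlam, tvGL_mulVec, map_sub, map_smul, map_smul, hfc]
      simp only [g, smul_zero, sub_zero, sub_smul, smul_smul]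
      rw [mul_comm lam]
      abel
    have hpow := pow_mulVec_of_transvection y c g hgc hyv (r ^ 2)
    rw [hpowr y hyR] at hpow
    have hg0 : ∀ v, g v = 0 := by
      intro v
      have h1 := hpow v
      rw [Units.val_one, Matrix.one_mulVec] at h1
      have h2 : (((r ^ 2 : ℕ) : F) * g v) • c = 0 := by
        have := h1.symm
        rwa [add_eq_left] at this
      rcases smul_eq_zero.1 h2 with h | h
      · rcases mul_eq_zero.1 h with h' | h'
        · exact absurd h' hr2F
        · exact h'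
      · exact absurd h hc0
    have := hg0 (X *ᵥ u)
    simp only [g] at this
    rw [hX'X, sub_eq_zero] at this
    exact this
  -- hence `(x - lam) u ∈ span {c}` for all `u`
  have hspan : ∀ u, X *ᵥ u - lam • u ∈ Submodule.span F {c} := by
    intro u
    by_contra hnot
    have hnot' : X *ᵥ u - lam • u ∉ (⊥ : Submodule F (Fin n → F)) ⊔ Submodule.span F {c} := by
      rwa [bot_sup_eq]
    obtain ⟨f, hf1, hf2⟩ := Submodule.exists_le_ker_of_notMem hnot'
    have hfc : f c = 0 := by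
      have : c ∈ (⊥ : Submodule F (Fin n → F)) ⊔ Submodule.span F {c} := by
        rw [bot_sup_eq]; exact Submodule.mem_span_singleton_self c
      exact hf2 this
    apply hf1
    rw [map_sub, map_smul, key f hfc u, smul_eq_mul, sub_self]
  have hN : ∀ u, X *ᵥ (X *ᵥ u - lam • u) = lam • (X *ᵥ u - lam • u) := by
    intro u
    obtain ⟨a, ha⟩ := Submodule.mem_span_singleton.1 (hspan u)
    rw [← ha, Matrix.mulVec_smul, hlam, smul_smul, smul_smul, mul_comm]
  -- `x ^ z = 1` forces `x = lam`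
  obtain ⟨z', hz'⟩ : ∃ z', z = z' + 1 := ⟨z - 1, by omega⟩
  have hpowx := pow_mulVec_of_sq_zero x lam hN z'
  have hxz : x ^ (z' + 1) = 1 := by rw [← hz']; exact hpowz x hxR
  rw [hxz] at hpowx
  have hlamz : lam ^ (z' + 1) = 1 := by
    have h1 := hpowx c
    rw [Units.val_one, Matrix.one_mulVec, hlam, sub_self, smul_zero, add_zero] at h1
    have h2 : (lam ^ (z' + 1) - 1) • c = 0 := by rw [sub_smul, one_smul, ← h1, sub_self]
    rcases smul_eq_zero.1 h2 with h | h
    · exact sub_eq_zero.1 h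
    · exact absurd h hc0
  have hxu : ∀ u, X *ᵥ u = lam • u := by
    intro u
    have h1 := hpowx u
    rw [Units.val_one, Matrix.one_mulVec, hlamz, one_smul] at h1
    have h2 : ((((z' + 1 : ℕ) : F)) * lam ^ z') • (X *ᵥ u - lam • u) = 0 := by
      have := h1.symm
      rwa [add_eq_left] at this
    rcases smul_eq_zero.1 h2 with h | h
    · exfalso
      rcases mul_eq_zero.1 h with h' | h'
      · rw [← hz'] at h'; exact hzF h'
      · exact hlam0 (pow_eq_zero_iff (n := z') (by
          intro h0; rw [h0] at h'; simp at h') |>.1 h')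
    · exact sub_eq_zero.1 h
  apply hxs
  rw [mem_scalars_iff]
  refine ⟨Units.mk0 lam hlam0, ?_⟩
  rw [Units.val_mk0]
  apply Matrix.toLin'.injective
  apply LinearMap.ext
  intro u
  rw [Matrix.toLin'_apply, Matrix.toLin'_apply, Matrix.smul_mulVec, Matrix.one_mulVec]
  exact hxu u

end Cfsg.Agent.Lib.H1.AschP2
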