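/-
S5630 Phase 2 (helper1): P2-F4, the dimension of a class-6 member is a power of `r`.
-/
import Mathlib
import Cfsg.Agent.Lib.Lead.AschDefs2
import Cfsg.Agent.Lib.H1.AschM7B

set_option autoImplicit false

namespace Cfsg.Agent.Lib.H1.AschP2

open Cfsg Cfsg.Geo Cfsg.Agent.Lib.Lead.Asch Cfsg.Agent.Lib.H1.Asch
open scoped MatrixGroups Matrix Kronecker

variable {F : Type*} [Field F] [Fintype F] {n : ℕ}

/-- A class-6 group with scalar commutators is a `SympCore` (with `H = R`). -/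
theorem sympCore_of_data (r : ℕ) (R : Subgroup (GL (Fin n) F)) (hR : IsLinearSymplecticTypeData r R)
    (hcl2 : ∀ x ∈ R, ∀ y ∈ R, x * y * x⁻¹ * y⁻¹ ∈ scalars (Fin n) F) : SympCore R R r where
  prime := hR.symplecticType.prime
  le := le_rfl
  norm := fun h hh x hx => R.mul_mem (R.mul_mem hh hx) (R.inv_mem hh)
  absIrr := hR.absIrred
  comm := hcl2
  pow := by
    intro x hx
    have h1 : (⟨x, hx⟩ : ↥R) ^ Monoid.exponent ↥R = 1 := Monoid.pow_exponent_eq_one _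
    rw [hR.symplecticType.exponent_eq] at h1
    have := congrArg (fun t : ↥R => (t : GL (Fin n) F)) h1
    simpa only [Subgroup.coe_pow, Subgroup.coe_one, Subgroup.coe_mk] using this

/-- **P2-F4**. -/
theorem c6_dim (hn : 3 ≤ n) (r : ℕ) (R : Subgroup (GL (Fin n) F)) (hR : IsLinearSymplecticTypeData r R)
    (hcl2 : ∀ x ∈ R, ∀ y ∈ R, x * y * x⁻¹ * y⁻¹ ∈ scalars (Fin n) F) : ∃ k : ℕ, 1 ≤ k ∧ n = r ^ k := by
  have hc := sympCore_of_data r R hR hcl2
  have hcard := hc.card_eq (by omega)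
  have hrpos : 0 < r := hc.prime.pos
  obtain ⟨p, e, _, _, h | h | h⟩ := hR.field
  · obtain ⟨_, _, hz, m, hm1, hm⟩ := h
    refine ⟨m, hm1, ?_⟩
    rw [hz, hm, pow_add, pow_one] at hcard
    have h2 : r ^ (2 * m) = n ^ 2 := Nat.eq_of_mul_eq_mul_left hrpos hcard
    have h3 : (r ^ m) ^ 2 = n ^ 2 := by rw [← pow_mul, mul_comm]; exact h2
    exact (Nat.pow_left_injective (by norm_num : 2 ≠ 0) h3).symm
  · obtain ⟨hr2, _, hz, _, m, hm⟩ := h
    subst hr2
    rw [hz, hm, pow_add] at hcard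
    have h2 : 2 ^ (2 * m) = n ^ 2 := Nat.eq_of_mul_eq_mul_left (by norm_num : 0 < 2 ^ 2) hcard
    have h3 : (2 ^ m) ^ 2 = n ^ 2 := by rw [← pow_mul, mul_comm]; exact h2
    have h4 : n = 2 ^ m := (Nat.pow_left_injective (by norm_num : 2 ≠ 0) h3).symm
    refine ⟨m, ?_, h4⟩
    rcases Nat.eq_zero_or_pos m with h | h
    · rw [h, pow_zero] at h4; omega
    · exact h
  · obtain ⟨_, _, h2, _⟩ := h
    rw [Fintype.card_fin] at h2
    omega

end Cfsg.Agent.Lib.H1.AschP2
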