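/-
S5662 / module SM7 (helper1), part b: the abelian minimal normal subgroup modulo scalars in the
symplectic case, with the tool ST5 as a hypothesis (`ST5Stmt`); final statement in AschSM7.lean.
-/
import Mathlib
import Cfsg.Agent.Lib.H11.AschSDefs
import Cfsg.Agent.Lib.H1.AschM7
import Cfsg.Agent.Lib.H1.AschTraceField
import Cfsg.Agent.Lib.H1.AschSM7a
import Cfsg.Agent.Lib.H25.AschM7Ca

set_option autoImplicit false

namespace Cfsg.Agent.Lib.H1.AschS

open Cfsg Cfsg.Geo Cfsg.Agent.Lib.Lead.Asch Cfsg.Agent.Lib.H25.Asch Cfsg.Agent.Lib.H11.AschS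
  Cfsg.Agent.Lib.H1.Asch
open scoped MatrixGroups Matrix

variable {F : Type*} [Field F] [Fintype F] {n : ℕ} {f : (Fin n → F) → (Fin n → F) → F}

/-- The statement of the tool ST5 (for one `H`). -/
def ST5Stmt (f : (Fin n → F) → (Fin n → F) → F) (H : Subgroup (GL (Fin n) F)) : Prop :=
  ∀ N : Subgroup (GL (Fin n) F), N ≤ H → NormalizedBy H N → ActsAbsolutelyIrreducibly (matrixSet N) →
    ∀ F₁ : Subfield F, F₁ ≠ ⊤ → RealisableOver F₁ (matrixSet N) → SC5 f H

omit [Fintype F] in
/-- A scalar isometry of a symplectic form is `± 1`. -/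
theorem scalar_eq_one_or_neg_one (hf : IsSymplecticForm f) (hn : 0 < n) {x : GL (Fin n) F}
    (hx : x ∈ scalars (Fin n) F)
    (hfix : ∀ u v, f ((x : Matrix (Fin n) (Fin n) F) *ᵥ u) ((x : Matrix (Fin n) (Fin n) F) *ᵥ v) = f u v) :
    (x : Matrix (Fin n) (Fin n) F) = 1 ∨ (x : Matrix (Fin n) (Fin n) F) = -1 := by
  classical
  obtain ⟨c, hc⟩ := (mem_scalars_iff x).1 hx
  have hv : (Pi.single (⟨0, hn⟩ : Fin n) (1 : F) : Fin n → F) ≠ 0 := by
    intro h
    have := congrFun h ⟨0, hn⟩
    simp at this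
  obtain ⟨⟨u, hu⟩, _⟩ := hf.nondegenerate _ hv
  have h1 := hfix u (Pi.single (⟨0, hn⟩ : Fin n) (1 : F))
  rw [hc, Matrix.smul_mulVec, Matrix.smul_mulVec, Matrix.one_mulVec, Matrix.one_mulVec,
    hf.bilinear.smul_left, hf.bilinear.smul_right, ← mul_assoc] at h1
  have h2 : (c : F) * (c : F) = 1 := by
    have := mul_right_cancel₀ hu (h1.trans (one_mul _).symm)
    exact this
  rcases mul_self_eq_one_iff.1 h2 with h | h
  · left; rw [hc, h, one_smul]
  · right; rw [hc, h, neg_smul, one_smul]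

/-- The "minus type" conclusion: in a symplectic-type `2`-group of isometries of a symplectic form in odd
characteristic, acting irreducibly with centre `± 1` and order `2 n ^ 2`, an elementary abelian subgroup has
order less than `2 n`. -/
theorem card_lt_of_elementary (hf : IsSymplecticForm f) (hn : 0 < n) (h2 : (2 : F) ≠ 0)
    (R : Subgroup (GL (Fin n) F))
    (hirr : ActsIrreducibly (matrixSet R))
    (hfixR : ∀ x ∈ R, ∀ u v, f ((x : Matrix (Fin n) (Fin n) F) *ᵥ u)
      ((x : Matrix (Fin n) (Fin n) F) *ᵥ v) = f u v)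
    (hcomm : ∀ x ∈ R, ∀ y ∈ R, x * y * x⁻¹ * y⁻¹ ∈ scalars (Fin n) F)
    (hcen : Nat.card (Subgroup.center R) = 2)
    (hcenS : ∀ x : R, x ∈ Subgroup.center R ↔ (x : GL (Fin n) F) ∈ scalars (Fin n) F)
    (hcard : Nat.card R = 2 * n ^ 2)
    (A : Subgroup R) (hA : IsMulCommutative A) (hAsq : ∀ x ∈ A, x * x = 1) :
    Nat.card A < 2 * n := by
  classical
  by_contra hge
  push Not at hge
  have hp2 : ringChar F ≠ 2 := by
    intro h
    have : CharP F 2 := by rw [← h]; exact ringChar.charP F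
    exact h2 (CharP.cast_eq_zero F 2)
  -- scalars of `R` are `± 1`
  have hpm : ∀ x ∈ R, x ∈ scalars (Fin n) F →
      (x : Matrix (Fin n) (Fin n) F) = 1 ∨ (x : Matrix (Fin n) (Fin n) F) = -1 :=
    fun x hx hxs => scalar_eq_one_or_neg_one hf hn hxs (hfixR x hx)
  -- the central involution
  have hne : Subgroup.center R ≠ ⊥ := by
    intro h
    rw [Subgroup.eq_bot_iff_card] at h
    omega
  obtain ⟨zc, hzc1⟩ := (Subgroup.ne_bot_iff_exists_ne_one).1 hne
  set z₀ : R := (zc : R) with hz₀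
  have hz₀c : z₀ ∈ Subgroup.center R := zc.2
  have hz₀1 : z₀ ≠ 1 := fun h => hzc1 (Subtype.ext h)
  have hz₀m : ((z₀ : GL (Fin n) F) : Matrix (Fin n) (Fin n) F) = -1 := by
    rcases hpm (z₀ : GL (Fin n) F) z₀.2 ((hcenS z₀).1 hz₀c) with h | h
    · exfalso
      apply hz₀1
      apply Subtype.ext
      apply Units.ext
      rw [h]; rfl
    · exact h
  have hzz : z₀ * z₀ = 1 := by
    apply Subtype.ext
    apply Units.ext
    rw [Subgroup.coe_mul, Units.val_mul, hz₀m, Subgroup.coe_one, Units.val_one, neg_mul_neg, one_mul]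
  have hzcomm : ∀ g : R, g * z₀ = z₀ * g := fun g => Subgroup.mem_center_iff.1 hz₀c g
  have hcomm' : ∀ g a : R, g * a = a * g ∨ g * a = z₀ * (a * g) := by
    intro g a
    have hd : (g : GL (Fin n) F) * a * (g : GL (Fin n) F)⁻¹ * (a : GL (Fin n) F)⁻¹ ∈ scalars (Fin n) F :=
      hcomm _ g.2 _ a.2
    have hdR : (g : GL (Fin n) F) * a * (g : GL (Fin n) F)⁻¹ * (a : GL (Fin n) F)⁻¹ ∈ R :=
      R.mul_mem (R.mul_mem (R.mul_mem g.2 a.2) (R.inv_mem g.2)) (R.inv_mem a.2)
    have hga : (g : GL (Fin n) F) * a =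
        ((g : GL (Fin n) F) * a * (g : GL (Fin n) F)⁻¹ * (a : GL (Fin n) F)⁻¹) * ((a : GL (Fin n) F) * g) := by
      group
    rcases hpm _ hdR hd with h | h
    · left
      apply Subtype.ext
      rw [Subgroup.coe_mul, Subgroup.coe_mul, hga]
      have : (g : GL (Fin n) F) * a * (g : GL (Fin n) F)⁻¹ * (a : GL (Fin n) F)⁻¹ = 1 := Units.ext h
      rw [this, one_mul]
    · right
      apply Subtype.ext
      rw [Subgroup.coe_mul, Subgroup.coe_mul, Subgroup.coe_mul, hga]
      have : (g : GL (Fin n) F) * a * (g : GL (Fin n) F)⁻¹ * (a : GL (Fin n) F)⁻¹ = (z₀ : GL (Fin n) F) :=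
        Units.ext (h.trans hz₀m.symm)
      rw [this]
  -- the counting lemma
  have hcount := card_mul_card_centralizer_le z₀ hzz hzcomm hcomm' A
  rw [hcen, hcard] at hcount
  have hAC : A ≤ Subgroup.centralizer (A : Set R) := by
    intro a ha
    rw [Subgroup.mem_centralizer_iff]
    intro b hb
    have := isMulCommutative_iff.1 hA ⟨b, hb⟩ ⟨a, ha⟩
    exact congrArg Subtype.val this
  have hCle : Nat.card (Subgroup.centralizer (A : Set R)) ≤ Nat.card A := by
    have h1 : 2 * n * Nat.card (Subgroup.centralizer (A : Set R)) ≤ 2 * n * (2 * n) := by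
      calc 2 * n * Nat.card (Subgroup.centralizer (A : Set R))
          ≤ Nat.card A * Nat.card (Subgroup.centralizer (A : Set R)) := Nat.mul_le_mul_right _ hge
        _ ≤ 2 * n ^ 2 * 2 := hcount
        _ = 2 * n * (2 * n) := by ring
    have h2 := Nat.le_of_mul_le_mul_left h1 (by omega : 0 < 2 * n)
    exact h2.trans hge
  have hCA : A = Subgroup.centralizer (A : Set R) := Subgroup.eq_of_le_of_card_ge hAC hCle
  -- a common eigenvector
  have hprim : IsPrimitiveRoot (-1 : F) 2 := by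
    have : CharP F (ringChar F) := ringChar.charP F
    exact IsPrimitiveRoot.neg_one (ringChar F) hp2
  obtain ⟨v0, hv0, hev⟩ := exists_common_eigenvector hn (A.map R.subtype)
    (by
      rintro x ⟨a, ha, rfl⟩ y ⟨b, hb, rfl⟩
      have := isMulCommutative_iff.1 hA ⟨a, ha⟩ ⟨b, hb⟩
      have h' : a * b = b * a := congrArg Subtype.val this
      rw [← map_mul, ← map_mul, h'])
    2 (by norm_num)
    (by
      rintro x ⟨a, ha, rfl⟩
      rw [← map_pow, pow_two, hAsq a ha, map_one])
    (-1) hprim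
  -- `f v0 (g v0) = 0` for all `g ∈ R`
  have hkey : ∀ g : R, f v0 (((g : GL (Fin n) F) : Matrix (Fin n) (Fin n) F) *ᵥ v0) = 0 := by
    intro g
    by_cases hgA : g ∈ A
    · obtain ⟨c, hc⟩ := hev (g : GL (Fin n) F) ⟨g, hgA, rfl⟩
      rw [hc, hf.bilinear.smul_right, hf.alternating, mul_zero]
    · have hgC : g ∉ Subgroup.centralizer (A : Set R) := by rwa [← hCA]
      rw [Subgroup.mem_centralizer_iff] at hgC
      push Not at hgC
      obtain ⟨a, ha, hag⟩ := hgC
      have hag' : a * g = z₀ * (g * a) := (hcomm' a g).resolve_left hag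
      obtain ⟨c, hc⟩ := hev (a : GL (Fin n) F) ⟨a, ha, rfl⟩
      have hcc : c * c = 1 := by
        have h1 : ((a : GL (Fin n) F) : Matrix (Fin n) (Fin n) F) *ᵥ
            (((a : GL (Fin n) F) : Matrix (Fin n) (Fin n) F) *ᵥ v0) = v0 := by
          rw [Matrix.mulVec_mulVec, ← Units.val_mul, ← Subgroup.coe_mul, hAsq a ha, Subgroup.coe_one,
            Units.val_one, Matrix.one_mulVec]
        rw [hc, Matrix.mulVec_smul, hc, smul_smul] at h1
        have h2 : (c * c) • v0 = (1 : F) • v0 := by rw [h1, one_smul]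
        exact smul_left_injective F hv0 h2
      have hagm : ((a : GL (Fin n) F) : Matrix (Fin n) (Fin n) F) *
          ((g : GL (Fin n) F) : Matrix (Fin n) (Fin n) F) =
          -(((g : GL (Fin n) F) : Matrix (Fin n) (Fin n) F) *
            ((a : GL (Fin n) F) : Matrix (Fin n) (Fin n) F)) := by
        have := congrArg (fun t : R => ((t : GL (Fin n) F) : Matrix (Fin n) (Fin n) F)) hag'
        simp only [Subgroup.coe_mul, Units.val_mul, hz₀m] at this
        rw [this, neg_mul, one_mul]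
      have h1 := hfixR (a : GL (Fin n) F) a.2 v0
        (((g : GL (Fin n) F) : Matrix (Fin n) (Fin n) F) *ᵥ v0)
      rw [Matrix.mulVec_mulVec, hagm, Matrix.neg_mulVec, ← Matrix.mulVec_mulVec, hc,
        Matrix.mulVec_smul, hf.bilinear.smul_left] at h1
      have h3 : f v0 (-(c • ((g : GL (Fin n) F) : Matrix (Fin n) (Fin n) F) *ᵥ v0)) =
          -(c * f v0 (((g : GL (Fin n) F) : Matrix (Fin n) (Fin n) F) *ᵥ v0)) := by
        rw [← neg_one_smul F, hf.bilinear.smul_right, hf.bilinear.smul_right]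
        ring
      rw [h3] at h1
      have h4 : (2 : F) * f v0 (((g : GL (Fin n) F) : Matrix (Fin n) (Fin n) F) *ᵥ v0) = 0 := by
        have : c * -(c * f v0 (((g : GL (Fin n) F) : Matrix (Fin n) (Fin n) F) *ᵥ v0)) =
            -((c * c) * f v0 (((g : GL (Fin n) F) : Matrix (Fin n) (Fin n) F) *ᵥ v0)) := by ring
        rw [this, hcc, one_mul] at h1
        linear_combination -h1
      exact (mul_eq_zero.1 h4).resolve_left h2
  -- the invariant subspace
  let W : Submodule F (Fin n → F) :=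
    { carrier := {w | ∀ g : R, f v0 (((g : GL (Fin n) F) : Matrix (Fin n) (Fin n) F) *ᵥ w) = 0}
      add_mem' := by
        intro a b ha hb g
        rw [Matrix.mulVec_add, hf.bilinear.add_right, ha g, hb g, add_zero]
      zero_mem' := by
        intro g
        have := hf.bilinear.smul_right 0 v0 0
        rw [Matrix.mulVec_zero]
        simpa using this
      smul_mem' := by
        intro c a ha g
        rw [Matrix.mulVec_smul, hf.bilinear.smul_right, ha g, mul_zero] }
  have hWinv : ∀ s ∈ matrixSet R, W.map (Matrix.toLin' s) ≤ W := by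
    rintro s ⟨x, hx, rfl⟩ w ⟨w', hw', rfl⟩ g
    rw [Matrix.toLin'_apply, Matrix.mulVec_mulVec, ← Units.val_mul]
    exact hw' (g * ⟨x, hx⟩)
  have hv0W : v0 ∈ W := hkey
  rcases hirr W hWinv with h | h
  · rw [h, Submodule.mem_bot] at hv0W
    exact hv0 hv0W
  · obtain ⟨_, ⟨x, hx⟩⟩ := hf.nondegenerate v0 hv0
    have hxW : x ∈ W := by rw [h]; exact Submodule.mem_top
    have := hxW 1
    rw [Subgroup.coe_one, Units.val_one, Matrix.one_mulVec] at this
    exact hx this

theorem stame_of_sympCore (hf : IsSymplecticForm f) (hn : 4 ≤ n) (H R : Subgroup (GL (Fin n) F))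
    (hH : FixesForm (matrixSet H) f) (r : ℕ) (hc : SympCore H R r) (hgood : Good H)
    (hT5 : ST5Stmt f H) : SC5 f H ∨ SC6 f H := by
  classical
  have hn0 : 0 < n := by omega
  have hn2 : 2 ≤ n := by omega
  set z := Nat.card ↥(Subgroup.center ↥R) with hz
  set p := ringChar F with hp'
  have : CharP F p := ringChar.charP F
  obtain ⟨e, hp, hq⟩ := FiniteField.card F p
  have he : 0 < (e : ℕ) := e.pos
  have hfixR : ∀ x ∈ R, ∀ u v, f ((x : Matrix (Fin n) (Fin n) F) *ᵥ u)
      ((x : Matrix (Fin n) (Fin n) F) *ᵥ v) = f u v :=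
    fun x hx => hH _ ⟨x, hc.le hx, rfl⟩
  have hpm : ∀ x ∈ R, x ∈ scalars (Fin n) F →
      (x : Matrix (Fin n) (Fin n) F) = 1 ∨ (x : Matrix (Fin n) (Fin n) F) = -1 :=
    fun x hx hxs => scalar_eq_one_or_neg_one hf hn0 hxs (hfixR x hx)
  -- the centre has order two
  have hzdvd : z ∣ 2 := by
    have := hc.isCyclic_center
    rw [hz, ← IsCyclic.exponent_eq_card]
    apply Monoid.exponent_dvd_of_forall_pow_eq_one
    intro g
    apply Subtype.ext
    apply Subtype.ext
    apply Units.ext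
    simp only [Subgroup.coe_pow, Subgroup.coe_one, Units.val_pow_eq_pow_val, Units.val_one]
    rcases hpm _ (g : ↥R).2 ((hc.mem_center_iff' _).1 g.2) with h | h
    · rw [h, one_pow]
    · rw [h, neg_one_sq]
  have hz2 : z = 2 := by
    rcases (Nat.dvd_prime Nat.prime_two).1 hzdvd with h | h
    · exact absurd h (hc.card_center_ne_one hn2)
    · exact h
  have hr2 : r = 2 := by
    rcases hc.card_center_cases hn2 with h | ⟨h, _⟩
    · exfalso
      rw [← hz, hz2] at h
      rcases hc.prime.eq_two_or_odd' with h' | h'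
      · rw [h'] at h; norm_num at h
      · rw [Nat.coprime_two_left.2 h', mul_one] at h
        rw [← h] at h'
        exact absurd h' (by decide)
    · exact h
  subst hr2
  obtain ⟨ζ, hζ⟩ := hc.exists_primitiveRoot hn0
  rw [← hz, hz2] at hζ
  have hζ0 : ζ ≠ 0 := hζ.ne_zero (by norm_num)
  have hzq : 2 ∣ p ^ (e : ℕ) - 1 := by
    rw [← hq]
    exact hζ.dvd_of_pow_eq_one _ (FiniteField.pow_card_sub_one_eq_one ζ hζ0)
  have hrp : 2 ≠ p := prime_ne_of_dvd 2 2 p e hp (dvd_refl 2) hzq he
  have h2F : (2 : F) ≠ 0 := by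
    intro h
    have h1 : ((2 : ℕ) : F) = 0 := by exact_mod_cast h
    have h3 := (CharP.cast_eq_zero_iff F p 2).1 h1
    exact hrp ((Nat.prime_dvd_prime_iff_eq hp Nat.prime_two).1 h3).symm
  obtain ⟨m, hm⟩ := hc.exists_dim_eq_pow hn0
  have hcardR : Nat.card R = 2 * n ^ 2 := by rw [hc.card_eq hn0, ← hz, hz2]
  by_cases he1 : (e : ℕ) = 1
  · -- the prime field: class 6
    right
    rw [he1, pow_one] at hq
    have hRsim : R ≤ similarityGroup f := by
      intro x hx
      refine ⟨1, fun u v => ?_⟩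
      rw [Units.val_one, one_mul]
      exact hfixR x hx u v
    refine ⟨R, p, m, hc.isSymplecticTypeGroup hgood hn2, hc.absIrr, hRsim, hp,
      hp.odd_of_ne_two (Ne.symm hrp), hq, ?_, hz2, ?_, hc.comm, le_subgroupNormalizer hc.norm⟩
    · rw [hcardR, hm]; ring
    · intro A hA hAsq
      have := card_lt_of_elementary hf hn0 h2F R hc.absIrr.1 hfixR hc.comm hz2
        (fun x => hc.mem_center_iff' x) hcardR A hA hAsq
      have h2n : 2 * n = 2 ^ (m + 1) := by rw [pow_succ, mul_comm, ← hm]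
      rw [← h2n]
      exact this
  · -- a proper extension of the prime field: class 5
    left
    have he2 : 1 < (e : ℕ) := by omega
    obtain ⟨F₁, hne, -⟩ := exists_proper_subfield (F := F) p e 1 hp hq one_pos he2
    have htr : ∀ x ∈ R, Matrix.trace (x : Matrix (Fin n) (Fin n) F) ∈ F₁ := by
      intro x hx
      by_cases hxs : x ∈ scalars (Fin n) F
      · rcases hpm x hx hxs with h | h
        · rw [h, Matrix.trace_one, Fintype.card_fin]
          exact natCast_mem F₁ n
        · rw [h, Matrix.trace_neg, Matrix.trace_one, Fintype.card_fin]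
          exact neg_mem (natCast_mem F₁ n)
      · rw [hc.trace_eq_zero hx hxs]
        exact zero_mem F₁
    exact hT5 R hc.le hc.norm hc.absIrr F₁ hne (realisable_of_trace_mem R hc.absIrr F₁ htr)

/-- **SM7** modulo the tool ST5 (given as a hypothesis). -/
theorem stame_of_abelian_minimal_aux (hf : IsSymplecticForm f) (hn : 4 ≤ n)
    (H N : Subgroup (GL (Fin n) F)) (hH : FixesForm (matrixSet H) f) (hgood : Good H)
    (hmin : MinimalModScalars H N)
    (hab : ∀ x ∈ N, ∀ y ∈ N, x * y * x⁻¹ * y⁻¹ ∈ scalars (Fin n) F)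
    (hT5 : ST5Stmt f H) :
    SC5 f H ∨ SC6 f H := by
  obtain ⟨r, R, hc⟩ := exists_sympCore (by omega) H N hgood hmin hab
  exact stame_of_sympCore hf hn H R hH r hc hgood hT5

end Cfsg.Agent.Lib.H1.AschS
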