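/-
S5662 / module SM7 (helper1): the minimal normal subgroup is abelian modulo scalars, symplectic case.
Final statement: `AschSM7b` (the work) + helper25's ST5 (`sc5_of_realisable`).
-/
import Cfsg.Agent.Lib.H1.AschSM7b
import Cfsg.Agent.Lib.H25.AschST5

set_option autoImplicit false

namespace Cfsg.Agent.Lib.H1.AschS

open Cfsg Cfsg.Geo Cfsg.Agent.Lib.Lead.Asch Cfsg.Agent.Lib.H11.AschS
open scoped MatrixGroups Matrix

variable {F : Type*} [Field F] [Fintype F] {n : ℕ} {f : (Fin n → F) → (Fin n → F) → F}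

/-- **SM7** abelian minimal normal subgroup modulo scalars: class 5 or class 6. -/
theorem stame_of_abelian_minimal (hf : IsSymplecticForm f) (hn : 4 ≤ n)
    (H N : Subgroup (GL (Fin n) F)) (hH : FixesForm (matrixSet H) f) (hgood : Good H)
    (hmin : MinimalModScalars H N)
    (hab : ∀ x ∈ N, ∀ y ∈ N, x * y * x⁻¹ * y⁻¹ ∈ scalars (Fin n) F) :
    SC5 f H ∨ SC6 f H :=
  stame_of_abelian_minimal_aux hf hn H N hH hgood hmin hab
    (fun N' hNH hnorm habs F₁ hne hreal =>
      Cfsg.Agent.Lib.H25.AschS.sc5_of_realisable hf (by omega) H N' hH hNH hnorm habs F₁ hne hreal)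

end Cfsg.Agent.Lib.H1.AschS
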