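/-
SYMPLECTIC PHASE 2, stretch task SP2-S2 (helper1), part a: `2 × 2` matrices over a field with three
elements.  The finite facts are checked by `decide +kernel` over `ZMod 3` and moved to an arbitrary
field with three elements along a ring isomorphism.
-/
import Mathlib

set_option autoImplicit false

namespace Cfsg.Agent.Lib.H1.AschSP2

open Matrix

/-! ### the explicit matrices -/

section defs

variable (A : Type*) [CommRing A]

/-- the block-side element of order four, `J = kb mρ 1` -/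
def mρ : Matrix (Fin 2) (Fin 2) A := !![0, -1; 1, 0]
/-- a second generator of the quaternion group -/
def mj : Matrix (Fin 2) (Fin 2) A := !![1, 1; 1, -1]
/-- the swap -/
def mP : Matrix (Fin 2) (Fin 2) A := !![0, 1; 1, 0]
/-- the diagonal reflection -/
def mD : Matrix (Fin 2) (Fin 2) A := !![1, 0; 0, -1]
/-- the rotation of order four -/
def mE : Matrix (Fin 2) (Fin 2) A := !![0, 1; -1, 0]
/-- an element of order three of `SL₂(3)` -/
def mg : Matrix (Fin 2) (Fin 2) A := !![1, 1; 0, 1]
/-- its inverse -/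
def mgi : Matrix (Fin 2) (Fin 2) A := !![1, -1; 0, 1]
/-- a similitude of the dot product (`hᵀ h = 2`) -/
def mh : Matrix (Fin 2) (Fin 2) A := !![1, 1; -1, 1]
/-- its inverse when `3 = 0` -/
def mhi : Matrix (Fin 2) (Fin 2) A := !![-1, 1; -1, -1]

variable {A}

/-- the quaternion group `Q₈ = N_{SL₂(3)}(⟨ρ⟩)` -/
def InQ (b : Matrix (Fin 2) (Fin 2) A) : Prop :=
  b.det = 1 ∧ (b * mρ A = mρ A * b ∨ b * mρ A = -(mρ A * b))

/-- the orthogonal group of the dot product, dihedral of order eight when `|A| = 3` -/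
def InO (a : Matrix (Fin 2) (Fin 2) A) : Prop := aᵀ * a = 1

instance (b : Matrix (Fin 2) (Fin 2) (ZMod 3)) : Decidable (InQ b) := by
  unfold InQ; infer_instance

instance (a : Matrix (Fin 2) (Fin 2) (ZMod 3)) : Decidable (InO a) := by
  unfold InO; infer_instance

end defs

/-! ### the transfer isomorphism -/

section transfer

variable {F : Type*} [Field F] [Fintype F]

/-- a field with three elements is `ZMod 3` -/
noncomputable def phi3 (hq : Fintype.card F = 3) : F ≃+* ZMod 3 :=
  FiniteField.ringEquivOfCardEq (by rw [hq, ZMod.card])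

/-- the induced isomorphism of `2 × 2` matrix rings -/
noncomputable def tr2 (hq : Fintype.card F = 3) :
    Matrix (Fin 2) (Fin 2) F ≃+* Matrix (Fin 2) (Fin 2) (ZMod 3) :=
  (phi3 hq).mapMatrix

theorem tr2_apply (hq : Fintype.card F = 3) (b : Matrix (Fin 2) (Fin 2) F) (i j : Fin 2) :
    tr2 hq b i j = phi3 hq (b i j) := rfl

theorem tr2_det (hq : Fintype.card F = 3) (b : Matrix (Fin 2) (Fin 2) F) :
    (tr2 hq b).det = phi3 hq b.det :=
  ((phi3 hq).map_det b).symm

theorem tr2_transpose (hq : Fintype.card F = 3) (b : Matrix (Fin 2) (Fin 2) F) :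
    tr2 hq bᵀ = (tr2 hq b)ᵀ := by
  ext i j
  rfl

theorem tr2_of (hq : Fintype.card F = 3) (x y z w : F) :
    tr2 hq !![x, y; z, w] = !![phi3 hq x, phi3 hq y; phi3 hq z, phi3 hq w] := by
  ext i j
  fin_cases i <;> fin_cases j <;> rfl

theorem tr2_mρ (hq : Fintype.card F = 3) : tr2 hq (mρ F) = mρ (ZMod 3) := by
  unfold mρ; rw [tr2_of]; simp
theorem tr2_mj (hq : Fintype.card F = 3) : tr2 hq (mj F) = mj (ZMod 3) := by
  unfold mj; rw [tr2_of]; simp
theorem tr2_mP (hq : Fintype.card F = 3) : tr2 hq (mP F) = mP (ZMod 3) := by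
  unfold mP; rw [tr2_of]; simp
theorem tr2_mD (hq : Fintype.card F = 3) : tr2 hq (mD F) = mD (ZMod 3) := by
  unfold mD; rw [tr2_of]; simp
theorem tr2_mE (hq : Fintype.card F = 3) : tr2 hq (mE F) = mE (ZMod 3) := by
  unfold mE; rw [tr2_of]; simp
theorem tr2_mg (hq : Fintype.card F = 3) : tr2 hq (mg F) = mg (ZMod 3) := by
  unfold mg; rw [tr2_of]; simp
theorem tr2_mgi (hq : Fintype.card F = 3) : tr2 hq (mgi F) = mgi (ZMod 3) := by
  unfold mgi; rw [tr2_of]; simp
theorem tr2_mh (hq : Fintype.card F = 3) : tr2 hq (mh F) = mh (ZMod 3) := by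
  unfold mh; rw [tr2_of]; simp
theorem tr2_mhi (hq : Fintype.card F = 3) : tr2 hq (mhi F) = mhi (ZMod 3) := by
  unfold mhi; rw [tr2_of]; simp

theorem tr2_inQ (hq : Fintype.card F = 3) (b : Matrix (Fin 2) (Fin 2) F) :
    InQ (tr2 hq b) ↔ InQ b := by
  unfold InQ
  rw [tr2_det, ← tr2_mρ hq, ← map_mul, ← map_mul, ← map_neg, (tr2 hq).injective.eq_iff,
    (tr2 hq).injective.eq_iff, map_eq_one_iff _ (phi3 hq).injective]

theorem tr2_inO (hq : Fintype.card F = 3) (a : Matrix (Fin 2) (Fin 2) F) :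
    InO (tr2 hq a) ↔ InO a := by
  unfold InO
  rw [← tr2_transpose, ← map_mul, map_eq_one_iff _ (tr2 hq).injective]

/-! ### the finite facts -/

set_option maxRecDepth 100000

theorem inQ_sq (hq : Fintype.card F = 3) {b : Matrix (Fin 2) (Fin 2) F} (hb : InQ b) :
    b * b = 1 ∨ b * b = -1 := by
  have key : ∀ b : Matrix (Fin 2) (Fin 2) (ZMod 3), InQ b → (b * b = 1 ∨ b * b = -1) := by
    decide +kernel
  have := key (tr2 hq b) ((tr2_inQ hq b).2 hb)
  simpa only [← map_mul, ← map_one (tr2 hq), ← map_neg, (tr2 hq).injective.eq_iff] using this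

theorem inQ_comm (hq : Fintype.card F = 3) {b c : Matrix (Fin 2) (Fin 2) F} (hb : InQ b)
    (hc : InQ c) : b * c = c * b ∨ b * c = -(c * b) := by
  have key : ∀ b c : Matrix (Fin 2) (Fin 2) (ZMod 3), InQ b → InQ c →
      (b * c = c * b ∨ b * c = -(c * b)) := by
    decide +kernel
  have := key (tr2 hq b) (tr2 hq c) ((tr2_inQ hq b).2 hb) ((tr2_inQ hq c).2 hc)
  simpa only [← map_mul, ← map_neg, (tr2 hq).injective.eq_iff] using this

theorem inO_sq (hq : Fintype.card F = 3) {a : Matrix (Fin 2) (Fin 2) F} (ha : InO a) :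
    a * a = 1 ∨ a * a = -1 := by
  have key : ∀ a : Matrix (Fin 2) (Fin 2) (ZMod 3), InO a → (a * a = 1 ∨ a * a = -1) := by
    decide +kernel
  have := key (tr2 hq a) ((tr2_inO hq a).2 ha)
  simpa only [← map_mul, ← map_one (tr2 hq), ← map_neg, (tr2 hq).injective.eq_iff] using this

theorem inO_comm (hq : Fintype.card F = 3) {a c : Matrix (Fin 2) (Fin 2) F} (ha : InO a)
    (hc : InO c) : a * c = c * a ∨ a * c = -(c * a) := by
  have key : ∀ a c : Matrix (Fin 2) (Fin 2) (ZMod 3), InO a → InO c →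
      (a * c = c * a ∨ a * c = -(c * a)) := by
    decide +kernel
  have := key (tr2 hq a) (tr2 hq c) ((tr2_inO hq a).2 ha) ((tr2_inO hq c).2 hc)
  simpa only [← map_mul, ← map_neg, (tr2 hq).injective.eq_iff] using this

/-- conjugation by `mg` preserves the quaternion group -/
theorem inQ_conj_g (hq : Fintype.card F = 3) {b : Matrix (Fin 2) (Fin 2) F} (hb : InQ b) :
    InQ (mg F * b * mgi F) := by
  have key : ∀ b : Matrix (Fin 2) (Fin 2) (ZMod 3), InQ b → InQ (mg _ * b * mgi _) := by
    decide +kernel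
  have := key (tr2 hq b) ((tr2_inQ hq b).2 hb)
  rw [← tr2_mg hq, ← tr2_mgi hq, ← map_mul, ← map_mul, tr2_inQ] at this
  exact this

/-- an element of the quaternion group commuting with its conjugate under `mg` is central -/
theorem inQ_conj_g_comm (hq : Fintype.card F = 3) {b : Matrix (Fin 2) (Fin 2) F} (hb : InQ b)
    (h : mg F * b * mgi F * b = b * (mg F * b * mgi F)) : b = 1 ∨ b = -1 := by
  have key : ∀ b : Matrix (Fin 2) (Fin 2) (ZMod 3), InQ b →
      mg _ * b * mgi _ * b = b * (mg _ * b * mgi _) → (b = 1 ∨ b = -1) := by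
    decide +kernel
  have := key (tr2 hq b) ((tr2_inQ hq b).2 hb) (by
    rw [← tr2_mg hq, ← tr2_mgi hq]
    simp only [← map_mul]
    rw [h])
  simpa only [← map_one (tr2 hq), ← map_neg, (tr2 hq).injective.eq_iff] using this

/-- conjugation by the similitude `mh` preserves the orthogonal group -/
theorem inO_conj_h (hq : Fintype.card F = 3) {a : Matrix (Fin 2) (Fin 2) F} (ha : InO a) :
    InO (mh F * a * mhi F) := by
  have key : ∀ a : Matrix (Fin 2) (Fin 2) (ZMod 3), InO a → InO (mh _ * a * mhi _) := by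
    decide +kernel
  have := key (tr2 hq a) ((tr2_inO hq a).2 ha)
  rw [← tr2_mh hq, ← tr2_mhi hq, ← map_mul, ← map_mul, tr2_inO] at this
  exact this

/-- an orthogonal matrix commuting with its conjugate under `mh` is a rotation -/
theorem inO_conj_h_comm (hq : Fintype.card F = 3) {a : Matrix (Fin 2) (Fin 2) F} (ha : InO a)
    (h : mh F * a * mhi F * a = a * (mh F * a * mhi F)) :
    a = 1 ∨ a = -1 ∨ a = mE F ∨ a = -mE F := by
  have key : ∀ a : Matrix (Fin 2) (Fin 2) (ZMod 3), InO a →
      mh _ * a * mhi _ * a = a * (mh _ * a * mhi _) →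
      (a = 1 ∨ a = -1 ∨ a = mE _ ∨ a = -mE _) := by
    decide +kernel
  have := key (tr2 hq a) ((tr2_inO hq a).2 ha) (by
    rw [← tr2_mh hq, ← tr2_mhi hq]
    simp only [← map_mul]
    rw [h])
  simpa only [← map_one (tr2 hq), ← tr2_mE hq, ← map_neg, (tr2 hq).injective.eq_iff] using this

/-- the `K`-linear elements with square `± 1`: the key finite fact behind the normaliser -/
theorem alpha_blocks (hq : Fintype.card F = 3) {A C : Matrix (Fin 2) (Fin 2) F}
    (h1 : Aᵀ * A + Cᵀ * C = 1) (h2 : Aᵀ * C = Cᵀ * A)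
    (h3 : (A * A - C * C = 1 ∨ A * A - C * C = -1)) (h4 : A * C + C * A = 0) :
    (C = 0 ∧ InO A) ∨ (A = 0 ∧ InO C) := by
  have key : ∀ A C : Matrix (Fin 2) (Fin 2) (ZMod 3), Aᵀ * A + Cᵀ * C = 1 → Aᵀ * C = Cᵀ * A →
      (A * A - C * C = 1 ∨ A * A - C * C = -1) → A * C + C * A = 0 →
      ((C = 0 ∧ InO A) ∨ (A = 0 ∧ InO C)) := by
    decide +kernel
  have := key (tr2 hq A) (tr2 hq C)
    (by rw [← tr2_transpose, ← tr2_transpose, ← map_mul, ← map_mul, ← map_add, h1, map_one])
    (by rw [← tr2_transpose, ← tr2_transpose, ← map_mul, ← map_mul, h2])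
    (by
      rcases h3 with h | h
      · left; rw [← map_mul, ← map_mul, ← map_sub, h, map_one]
      · right; rw [← map_mul, ← map_mul, ← map_sub, h, map_neg, map_one])
    (by rw [← map_mul, ← map_mul, ← map_add, h4, map_zero])
  simpa only [tr2_inO, map_eq_zero_iff _ (tr2 hq).injective] using this

/-- squares of scalars -/
theorem scalar_sq (hq : Fintype.card F = 3) {c : F} (h : c * c = 1 ∨ c * c = -1) :
    c = 1 ∨ c = -1 := by
  have key : ∀ c : ZMod 3, (c * c = 1 ∨ c * c = -1) → (c = 1 ∨ c = -1) := by decide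
  have := key (phi3 hq c) (by
    rcases h with h | h
    · left; rw [← map_mul, h, map_one]
    · right; rw [← map_mul, h, map_neg, map_one])
  simpa only [← map_one (phi3 hq), ← map_neg, (phi3 hq).injective.eq_iff] using this

theorem three_eq_zero (hq : Fintype.card F = 3) : (3 : F) = 0 := by
  have : (Fintype.card F : F) = 0 := Nat.cast_card_eq_zero F
  rw [hq] at this
  exact_mod_cast this

theorem two_ne_zero' (hq : Fintype.card F = 3) : (2 : F) ≠ 0 := by
  intro h
  have h3 := three_eq_zero hq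
  have : (1 : F) = 0 := by linear_combination h3 - h
  exact one_ne_zero this

end transfer

end Cfsg.Agent.Lib.H1.AschSP2
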