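/-
SYMPLECTIC PHASE 2, stretch task SP2-S2 (helper1), part b: the block Kronecker product on
`Fin 2 ⊕ Fin 2` and the standard group `Rstd = Q₈ ⊗ O₂⁻(3) = 2^{1+4}_-` inside `Sp₄(3)`.
-/
import Cfsg.Agent.Lib.H1.AschSP2S2a
import Cfsg.Prelude.Def_GeometricClasses

set_option autoImplicit false
set_option linter.unusedSectionVars false
set_option linter.unusedSimpArgs false

namespace Cfsg.Agent.Lib.H1.AschSP2

open Cfsg Cfsg.Geo Matrix
open scoped MatrixGroups

/-! ### the block Kronecker product -/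

section kb

variable {A : Type*} [CommRing A]

/-- `kb b a = b ⊗ a` with `b` acting on the block index -/
def kb (b a : Matrix (Fin 2) (Fin 2) A) : Matrix (Fin 2 ⊕ Fin 2) (Fin 2 ⊕ Fin 2) A :=
  Matrix.fromBlocks (b 0 0 • a) (b 0 1 • a) (b 1 0 • a) (b 1 1 • a)

theorem kb_mul (b a b' a' : Matrix (Fin 2) (Fin 2) A) :
    kb b a * kb b' a' = kb (b * b') (a * a') := by
  unfold kb
  rw [Matrix.fromBlocks_multiply]
  congr 1 <;>
    simp only [Matrix.mul_apply, Fin.sum_univ_two, Matrix.smul_mul, Matrix.mul_smul, smul_smul,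
      ← add_smul, mul_comm]

theorem kb_one : kb (1 : Matrix (Fin 2) (Fin 2) A) 1 = 1 := by
  unfold kb
  simp [Matrix.fromBlocks_one]

theorem kb_transpose (b a : Matrix (Fin 2) (Fin 2) A) : (kb b a)ᵀ = kb bᵀ aᵀ := by
  unfold kb
  rw [Matrix.fromBlocks_transpose]
  simp [Matrix.transpose_smul]

theorem kb_smul_left (c : A) (b a : Matrix (Fin 2) (Fin 2) A) : kb (c • b) a = c • kb b a := by
  unfold kb
  rw [Matrix.fromBlocks_smul]
  simp [smul_smul]

theorem kb_smul_right (c : A) (b a : Matrix (Fin 2) (Fin 2) A) : kb b (c • a) = c • kb b a := by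
  unfold kb
  rw [Matrix.fromBlocks_smul]
  simp [smul_smul, mul_comm]

theorem kb_neg_left (b a : Matrix (Fin 2) (Fin 2) A) : kb (-b) a = -kb b a := by
  have := kb_smul_left (-1 : A) b a
  simpa using this

theorem kb_neg_right (b a : Matrix (Fin 2) (Fin 2) A) : kb b (-a) = -kb b a := by
  have := kb_smul_right (-1 : A) b a
  simpa using this

theorem kb_add_left (b b' a : Matrix (Fin 2) (Fin 2) A) : kb (b + b') a = kb b a + kb b' a := by
  unfold kb
  rw [Matrix.fromBlocks_add]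
  simp [add_smul]

theorem kb_add_right (b a a' : Matrix (Fin 2) (Fin 2) A) : kb b (a + a') = kb b a + kb b a' := by
  unfold kb
  rw [Matrix.fromBlocks_add]
  simp [smul_add]

theorem kb_zero_left (a : Matrix (Fin 2) (Fin 2) A) : kb 0 a = 0 := by
  unfold kb
  simp

theorem kb_zero_right (b : Matrix (Fin 2) (Fin 2) A) : kb b 0 = 0 := by
  unfold kb
  simp

theorem kb_mρ_one : kb (mρ A) 1 = Matrix.J (Fin 2) A := by
  unfold kb mρ Matrix.J
  simp

theorem transpose_mρ_mul (b : Matrix (Fin 2) (Fin 2) A) : bᵀ * mρ A * b = b.det • mρ A := by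
  unfold mρ
  ext i j
  fin_cases i <;> fin_cases j <;>
    simp [Matrix.mul_apply, Fin.sum_univ_two, Matrix.det_fin_two] <;> ring

/-- the symplectic condition for a block Kronecker product -/
theorem kb_symp (b a : Matrix (Fin 2) (Fin 2) A) :
    (kb b a)ᵀ * Matrix.J (Fin 2) A * kb b a = b.det • kb (mρ A) (aᵀ * a) := by
  rw [← kb_mρ_one, kb_transpose, kb_mul, kb_mul, transpose_mρ_mul, Matrix.mul_one, kb_smul_left]

theorem inQ_one : InQ (1 : Matrix (Fin 2) (Fin 2) A) :=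
  ⟨Matrix.det_one, Or.inl (by rw [Matrix.one_mul, Matrix.mul_one])⟩

theorem inQ_mul {b c : Matrix (Fin 2) (Fin 2) A} (hb : InQ b) (hc : InQ c) : InQ (b * c) := by
  refine ⟨by rw [Matrix.det_mul, hb.1, hc.1, one_mul], ?_⟩
  rcases hb.2 with h1 | h1 <;> rcases hc.2 with h2 | h2
  · left; rw [Matrix.mul_assoc, h2, ← Matrix.mul_assoc, h1, Matrix.mul_assoc]
  · right; rw [Matrix.mul_assoc, h2, Matrix.mul_neg, ← Matrix.mul_assoc, h1, Matrix.mul_assoc]
  · right; rw [Matrix.mul_assoc, h2, ← Matrix.mul_assoc, h1, Matrix.neg_mul, Matrix.mul_assoc]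
  · left
    rw [Matrix.mul_assoc, h2, Matrix.mul_neg, ← Matrix.mul_assoc, h1, Matrix.neg_mul, neg_neg,
      Matrix.mul_assoc]

theorem inQ_neg {b : Matrix (Fin 2) (Fin 2) A} (hb : InQ b) : InQ (-b) := by
  refine ⟨by rw [Matrix.det_neg, hb.1]; simp, ?_⟩
  rcases hb.2 with h1 | h1
  · left; rw [Matrix.neg_mul, Matrix.mul_neg, h1]
  · right; rw [Matrix.neg_mul, Matrix.mul_neg, h1]

theorem inQ_mρ : InQ (mρ A) :=
  ⟨by unfold mρ; simp [Matrix.det_fin_two], Or.inl rfl⟩

theorem inO_one : InO (1 : Matrix (Fin 2) (Fin 2) A) := by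
  unfold InO; simp

theorem inO_mul {a c : Matrix (Fin 2) (Fin 2) A} (ha : InO a) (hc : InO c) : InO (a * c) := by
  unfold InO at *
  rw [Matrix.transpose_mul, Matrix.mul_assoc, ← Matrix.mul_assoc aᵀ, ha, Matrix.one_mul, hc]

theorem inO_neg {a : Matrix (Fin 2) (Fin 2) A} (ha : InO a) : InO (-a) := by
  unfold InO at *
  rw [Matrix.transpose_neg, Matrix.neg_mul, Matrix.mul_neg, neg_neg, ha]

theorem inO_mP : InO (mP A) := by
  unfold InO mP
  ext i j
  fin_cases i <;> fin_cases j <;> simp [Matrix.mul_apply, Fin.sum_univ_two]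

theorem inO_mD : InO (mD A) := by
  unfold InO mD
  ext i j
  fin_cases i <;> fin_cases j <;> simp [Matrix.mul_apply, Fin.sum_univ_two]

theorem inO_mE : InO (mE A) := by
  unfold InO mE
  ext i j
  fin_cases i <;> fin_cases j <;> simp [Matrix.mul_apply, Fin.sum_univ_two]

end kb

/-! ### the symplectic group in matrix form -/

section symp

variable {F : Type*} [Field F]

theorem sympForm_mulVec (g : Matrix (Fin 2 ⊕ Fin 2) (Fin 2 ⊕ Fin 2) F) (u v : Fin 2 ⊕ Fin 2 → F) :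
    sympForm 2 F (g *ᵥ u) (g *ᵥ v) = u ⬝ᵥ ((gᵀ * Matrix.J (Fin 2) F * g) *ᵥ v) := by
  unfold sympForm
  rw [← Matrix.mulVec_mulVec, ← Matrix.mulVec_mulVec, Matrix.dotProduct_mulVec u gᵀ,
    Matrix.vecMul_transpose]

theorem mem_spGL_iff_matrix (g : GL (Fin 2 ⊕ Fin 2) F) :
    g ∈ spGL 2 F ↔ (g : Matrix (Fin 2 ⊕ Fin 2) (Fin 2 ⊕ Fin 2) F)ᵀ * Matrix.J (Fin 2) F *
      (g : Matrix (Fin 2 ⊕ Fin 2) (Fin 2 ⊕ Fin 2) F) = Matrix.J (Fin 2) F := by
  constructor
  · intro h
    ext i j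
    have := h (Pi.single i 1) (Pi.single j 1)
    erw [sympForm_mulVec] at this
    unfold sympForm at this
    simpa using this
  · intro h u v
    erw [sympForm_mulVec, h]
    rfl

end symp

/-! ### the standard group -/

section std

variable {F : Type*} [Field F] [Fintype F]

/-- the standard extraspecial group `Q₈ ⊗ O₂⁻(3)` of order `32` -/
def Rstd (hq : Fintype.card F = 3) : Subgroup (GL (Fin 2 ⊕ Fin 2) F) where
  carrier := {x | ∃ b a, InQ b ∧ InO a ∧
    (x : Matrix (Fin 2 ⊕ Fin 2) (Fin 2 ⊕ Fin 2) F) = kb b a}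
  mul_mem' := by
    rintro x y ⟨b, a, hb, ha, hx⟩ ⟨b', a', hb', ha', hy⟩
    exact ⟨b * b', a * a', inQ_mul hb hb', inO_mul ha ha', by
      rw [Units.val_mul, hx, hy, kb_mul]⟩
  one_mem' := ⟨1, 1, inQ_one, inO_one, by rw [Units.val_one, kb_one]⟩
  inv_mem' := by
    rintro x ⟨b, a, hb, ha, hx⟩
    have hsq : (x : Matrix (Fin 2 ⊕ Fin 2) (Fin 2 ⊕ Fin 2) F) * x = 1 ∨
        (x : Matrix (Fin 2 ⊕ Fin 2) (Fin 2 ⊕ Fin 2) F) * x = -1 := by
      rw [hx, kb_mul]
      rcases inQ_sq hq hb with h1 | h1 <;> rcases inO_sq hq ha with h2 | h2 <;> rw [h1, h2]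
      · left; exact kb_one
      · right; rw [kb_neg_right, kb_one]
      · right; rw [kb_neg_left, kb_one]
      · left; rw [kb_neg_left, kb_neg_right, neg_neg, kb_one]
    rcases hsq with h | h
    · have : x⁻¹ = x := by
        apply inv_eq_of_mul_eq_one_right
        apply Units.ext
        rw [Units.val_mul, h, Units.val_one]
      rw [this]
      exact ⟨b, a, hb, ha, hx⟩
    · have : x⁻¹ = -x := by
        apply inv_eq_of_mul_eq_one_right
        apply Units.ext
        rw [Units.val_mul, Units.val_neg, Matrix.mul_neg, h, neg_neg, Units.val_one]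
      rw [this]
      exact ⟨-b, a, inQ_neg hb, ha, by rw [Units.val_neg, hx, kb_neg_left]⟩

theorem mem_Rstd_iff (hq : Fintype.card F = 3) (x : GL (Fin 2 ⊕ Fin 2) F) :
    x ∈ Rstd hq ↔ ∃ b a, InQ b ∧ InO a ∧
      (x : Matrix (Fin 2 ⊕ Fin 2) (Fin 2 ⊕ Fin 2) F) = kb b a := Iff.rfl

theorem Rstd_sq (hq : Fintype.card F = 3) {x : GL (Fin 2 ⊕ Fin 2) F} (hx : x ∈ Rstd hq) :
    (x : Matrix (Fin 2 ⊕ Fin 2) (Fin 2 ⊕ Fin 2) F) * x = 1 ∨
      (x : Matrix (Fin 2 ⊕ Fin 2) (Fin 2 ⊕ Fin 2) F) * x = -1 := by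
  obtain ⟨b, a, hb, ha, hx⟩ := hx
  rw [hx, kb_mul]
  rcases inQ_sq hq hb with h1 | h1 <;> rcases inO_sq hq ha with h2 | h2 <;> rw [h1, h2]
  · left; exact kb_one
  · right; rw [kb_neg_right, kb_one]
  · right; rw [kb_neg_left, kb_one]
  · left; rw [kb_neg_left, kb_neg_right, neg_neg, kb_one]

theorem Rstd_comm (hq : Fintype.card F = 3) {x y : GL (Fin 2 ⊕ Fin 2) F} (hx : x ∈ Rstd hq)
    (hy : y ∈ Rstd hq) :
    (x : Matrix (Fin 2 ⊕ Fin 2) (Fin 2 ⊕ Fin 2) F) * y = y * x ∨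
      (x : Matrix (Fin 2 ⊕ Fin 2) (Fin 2 ⊕ Fin 2) F) * y = -(y * x) := by
  obtain ⟨b, a, hb, ha, hx⟩ := hx
  obtain ⟨b', a', hb', ha', hy⟩ := hy
  rw [hx, hy, kb_mul, kb_mul]
  rcases inQ_comm hq hb hb' with h1 | h1 <;> rcases inO_comm hq ha ha' with h2 | h2 <;> rw [h1, h2]
  · left; rfl
  · right; rw [kb_neg_right]
  · right; rw [kb_neg_left]
  · left; rw [kb_neg_left, kb_neg_right, neg_neg]

theorem Rstd_le_spGL (hq : Fintype.card F = 3) : Rstd hq ≤ spGL 2 F := by
  rintro x ⟨b, a, hb, ha, hx⟩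
  rw [mem_spGL_iff_matrix, hx, kb_symp, hb.1, one_smul, (show aᵀ * a = 1 from ha), kb_mρ_one]

theorem neg_one_mem_Rstd (hq : Fintype.card F = 3) : (-1 : GL (Fin 2 ⊕ Fin 2) F) ∈ Rstd hq :=
  ⟨-1, 1, inQ_neg inQ_one, inO_one, by rw [Units.val_neg, Units.val_one, kb_neg_left, kb_one]⟩

theorem Rstd_comm_gl (hq : Fintype.card F = 3) {x y : GL (Fin 2 ⊕ Fin 2) F} (hx : x ∈ Rstd hq)
    (hy : y ∈ Rstd hq) : x * y = y * x ∨ x * y = -(y * x) := by
  rcases Rstd_comm hq hx hy with h | h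
  · left
    apply Units.ext
    rw [Units.val_mul, Units.val_mul, h]
  · right
    apply Units.ext
    rw [Units.val_mul, Units.val_neg, Units.val_mul, h]

theorem neg_one_mem_scalars : (-1 : GL (Fin 2 ⊕ Fin 2) F) ∈ scalars (Fin 2 ⊕ Fin 2) F := by
  rw [mem_scalars_iff]
  exact ⟨-1, by simp⟩

theorem Rstd_commutator (hq : Fintype.card F = 3) {x y : GL (Fin 2 ⊕ Fin 2) F} (hx : x ∈ Rstd hq)
    (hy : y ∈ Rstd hq) : x * y * x⁻¹ * y⁻¹ ∈ scalars (Fin 2 ⊕ Fin 2) F := by
  rcases Rstd_comm_gl hq hx hy with h | h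
  · rw [h]
    have : y * x * x⁻¹ * y⁻¹ = 1 := by group
    rw [this]
    exact Subgroup.one_mem _
  · rw [h]
    have : -(y * x) * x⁻¹ * y⁻¹ = -1 := by
      rw [neg_mul, neg_mul]
      congr 1
      group
    rw [this]
    exact neg_one_mem_scalars

theorem Rstd_sq_gl (hq : Fintype.card F = 3) {x : GL (Fin 2 ⊕ Fin 2) F} (hx : x ∈ Rstd hq) :
    x * x = 1 ∨ x * x = -1 := by
  rcases Rstd_sq hq hx with h | h
  · left
    apply Units.ext
    rw [Units.val_mul, h, Units.val_one]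
  · right
    apply Units.ext
    rw [Units.val_mul, h, Units.val_neg, Units.val_one]

theorem Rstd_pow_four (hq : Fintype.card F = 3) {x : GL (Fin 2 ⊕ Fin 2) F} (hx : x ∈ Rstd hq) :
    x ^ 4 = 1 := by
  have h4 : x ^ 4 = (x * x) * (x * x) := by
    rw [show (4 : ℕ) = 2 + 2 from rfl, pow_add, pow_two]
  rw [h4]
  rcases Rstd_sq_gl hq hx with h | h <;> rw [h] <;> simp

/-- scalar elements of the standard group are `± 1` -/
theorem Rstd_scalar (hq : Fintype.card F = 3) {x : GL (Fin 2 ⊕ Fin 2) F} (hx : x ∈ Rstd hq)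
    (hs : x ∈ scalars (Fin 2 ⊕ Fin 2) F) : x = 1 ∨ x = -1 := by
  rw [mem_scalars_iff] at hs
  obtain ⟨c, hc⟩ := hs
  have hcc : (c : F) * c = 1 ∨ (c : F) * c = -1 := by
    rcases Rstd_sq hq hx with h | h
    · left
      have := congrFun (congrFun h (Sum.inl 0)) (Sum.inl 0)
      rw [hc] at this
      simpa using this
    · right
      have := congrFun (congrFun h (Sum.inl 0)) (Sum.inl 0)
      rw [hc] at this
      simpa using this
  rcases scalar_sq hq hcc with h | h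
  · left
    apply Units.ext
    rw [hc, h, one_smul, Units.val_one]
  · right
    apply Units.ext
    rw [hc, h, Units.val_neg, Units.val_one, neg_smul, one_smul]

/-- a matrix with square `± 1` is invertible -/
theorem exists_unit_of_sq {M : Matrix (Fin 2 ⊕ Fin 2) (Fin 2 ⊕ Fin 2) F}
    (h : M * M = 1 ∨ M * M = -1) :
    ∃ x : GL (Fin 2 ⊕ Fin 2) F, (x : Matrix (Fin 2 ⊕ Fin 2) (Fin 2 ⊕ Fin 2) F) = M := by
  rcases h with h | h
  · exact ⟨⟨M, M, h, h⟩, rfl⟩
  · exact ⟨⟨M, -M, by rw [Matrix.mul_neg, h, neg_neg], by rw [Matrix.neg_mul, h, neg_neg]⟩, rfl⟩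

theorem kb_sq (hq : Fintype.card F = 3) {b a : Matrix (Fin 2) (Fin 2) F} (hb : InQ b)
    (ha : InO a) : kb b a * kb b a = 1 ∨ kb b a * kb b a = -1 := by
  rw [kb_mul]
  rcases inQ_sq hq hb with h1 | h1 <;> rcases inO_sq hq ha with h2 | h2 <;> rw [h1, h2]
  · left; exact kb_one
  · right; rw [kb_neg_right, kb_one]
  · right; rw [kb_neg_left, kb_one]
  · left; rw [kb_neg_left, kb_neg_right, neg_neg, kb_one]

theorem exists_mem_Rstd (hq : Fintype.card F = 3) {b a : Matrix (Fin 2) (Fin 2) F} (hb : InQ b)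
    (ha : InO a) : ∃ x ∈ Rstd hq, (x : Matrix (Fin 2 ⊕ Fin 2) (Fin 2 ⊕ Fin 2) F) = kb b a := by
  obtain ⟨x, hx⟩ := exists_unit_of_sq (kb_sq hq hb ha)
  exact ⟨x, ⟨b, a, hb, ha, hx⟩, hx⟩

theorem inQ_mj (hq : Fintype.card F = 3) : InQ (mj F) := by
  have key : InQ (mj (ZMod 3)) := by decide +kernel
  rw [← tr2_mj hq, tr2_inQ] at key
  exact key

/-- the quaternion group spans the `2 × 2` matrices -/
theorem decomp_Q (hq : Fintype.card F = 3) (b : Matrix (Fin 2) (Fin 2) F) :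
    b = (-(b 0 0 + b 1 1)) • (1 : Matrix (Fin 2) (Fin 2) F) + (b 0 1 - b 1 0) • mρ F +
      (b 0 0 - b 1 1 + b 0 1 + b 1 0) • mj F +
      (b 0 1 + b 1 0 + b 1 1 - b 0 0) • (mρ F * mj F) := by
  have h3 := three_eq_zero hq
  unfold mρ mj
  ext i j
  fin_cases i <;> fin_cases j <;>
    simp [Matrix.mul_apply, Fin.sum_univ_two]
  · linear_combination (b 1 1) * h3
  · linear_combination (-(b 1 0)) * h3
  · linear_combination (-(b 0 1)) * h3
  · linear_combination (b 0 0) * h3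

/-- the orthogonal group spans the `2 × 2` matrices -/
theorem decomp_O (hq : Fintype.card F = 3) (a : Matrix (Fin 2) (Fin 2) F) :
    a = (-(a 0 0 + a 1 1)) • (1 : Matrix (Fin 2) (Fin 2) F) + (a 1 0 - a 0 1) • mE F +
      (-(a 0 1 + a 1 0)) • mP F + (a 1 1 - a 0 0) • mD F := by
  have h3 := three_eq_zero hq
  unfold mE mP mD
  ext i j
  fin_cases i <;> fin_cases j <;>
    simp
  · linear_combination (a 0 0) * h3
  · linear_combination (a 0 1) * h3
  · linear_combination (a 1 0) * h3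
  · linear_combination (a 1 1) * h3

/-- the standard group spans the full matrix algebra -/
theorem span_Rstd (hq : Fintype.card F = 3) :
    Submodule.span F (matrixSet (Rstd hq)) = ⊤ := by
  set U := Submodule.span F (matrixSet (Rstd hq)) with hU
  have hA : ∀ b a, InQ b → InO a → kb b a ∈ U := by
    intro b a hb ha
    obtain ⟨x, hx, hxe⟩ := exists_mem_Rstd hq hb ha
    rw [← hxe]
    exact Submodule.subset_span ⟨x, hx, rfl⟩
  have hB : ∀ b a, InO a → kb b a ∈ U := by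
    intro b a ha
    have h := decomp_Q hq b
    generalize (-(b 0 0 + b 1 1)) = c₁ at h
    generalize (b 0 1 - b 1 0) = c₂ at h
    generalize (b 0 0 - b 1 1 + b 0 1 + b 1 0) = c₃ at h
    generalize (b 0 1 + b 1 0 + b 1 1 - b 0 0) = c₄ at h
    rw [h, kb_add_left, kb_add_left, kb_add_left, kb_smul_left, kb_smul_left, kb_smul_left,
      kb_smul_left]
    exact U.add_mem (U.add_mem (U.add_mem (U.smul_mem _ (hA _ _ inQ_one ha))
      (U.smul_mem _ (hA _ _ inQ_mρ ha))) (U.smul_mem _ (hA _ _ (inQ_mj hq) ha)))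
      (U.smul_mem _ (hA _ _ (inQ_mul inQ_mρ (inQ_mj hq)) ha))
  have hC : ∀ b a, kb b a ∈ U := by
    intro b a
    have h := decomp_O hq a
    generalize (-(a 0 0 + a 1 1)) = c₁ at h
    generalize (a 1 0 - a 0 1) = c₂ at h
    generalize (-(a 0 1 + a 1 0)) = c₃ at h
    generalize (a 1 1 - a 0 0) = c₄ at h
    rw [h, kb_add_right, kb_add_right, kb_add_right, kb_smul_right, kb_smul_right, kb_smul_right,
      kb_smul_right]
    exact U.add_mem (U.add_mem (U.add_mem (U.smul_mem _ (hB _ _ inO_one))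
      (U.smul_mem _ (hB _ _ inO_mE))) (U.smul_mem _ (hB _ _ inO_mP)))
      (U.smul_mem _ (hB _ _ inO_mD))
  rw [eq_top_iff]
  intro M _
  have hM : M = kb (Matrix.single 0 0 1) M.toBlocks₁₁ + kb (Matrix.single 0 1 1) M.toBlocks₁₂ +
      kb (Matrix.single 1 0 1) M.toBlocks₂₁ + kb (Matrix.single 1 1 1) M.toBlocks₂₂ := by
    conv_lhs => rw [← Matrix.fromBlocks_toBlocks M]
    unfold kb
    simp [Matrix.fromBlocks_add]
  rw [hM]
  exact U.add_mem (U.add_mem (U.add_mem (hC _ _) (hC _ _)) (hC _ _)) (hC _ _)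

/-- a set of matrices spanning the full matrix algebra acts irreducibly (copied from helper16,
`Lib/H16/AschU93b`). -/
theorem actsIrreducibly_of_span_top {ι : Type} [Fintype ι] [DecidableEq ι]
    {S : Set (Matrix ι ι F)} (hS : Submodule.span F S = ⊤) : ActsIrreducibly S := by
  intro W hW
  have hall : ∀ M : Matrix ι ι F, W.map (Matrix.toLin' M) ≤ W := by
    intro M
    have hM : M ∈ Submodule.span F S := by rw [hS]; trivial
    induction hM using Submodule.span_induction with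
    | mem s hs => exact hW s hs
    | zero =>
      rintro _ ⟨w, _, rfl⟩
      simp
    | add a b _ _ ha hb =>
      rintro _ ⟨w, hw, rfl⟩
      rw [map_add, LinearMap.add_apply]
      exact W.add_mem (ha ⟨w, hw, rfl⟩) (hb ⟨w, hw, rfl⟩)
    | smul c a _ ha =>
      rintro _ ⟨w, hw, rfl⟩
      rw [map_smul, LinearMap.smul_apply]
      exact W.smul_mem c (ha ⟨w, hw, rfl⟩)
  by_cases hbot : W = ⊥
  · exact Or.inl hbot
  right
  obtain ⟨w, hw, hw0⟩ := (Submodule.ne_bot_iff W).1 hbot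
  obtain ⟨i, hi⟩ : ∃ i, w i ≠ 0 := by
    by_contra hcon
    push Not at hcon
    exact hw0 (funext hcon)
  rw [eq_top_iff]
  intro v _
  have h1 : Matrix.toLin' (Matrix.vecMulVec v (Pi.single i (w i)⁻¹)) w = v := by
    rw [Matrix.toLin'_apply, Matrix.vecMulVec_mulVec]
    have : (Pi.single i (w i)⁻¹ : ι → F) ⬝ᵥ w = 1 := by
      rw [single_dotProduct, inv_mul_cancel₀ hi]
    rw [this]
    ext j
    simp
  rw [← h1]
  exact hall _ ⟨w, hw, rfl⟩

/-- a matrix commuting with a spanning set is scalar -/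
theorem scalar_of_commute_span_top {ι : Type} [Fintype ι] [DecidableEq ι]
    {S : Set (Matrix ι ι F)} (hS : Submodule.span F S = ⊤) (M : Matrix ι ι F)
    (hM : ∀ s ∈ S, M * s = s * M) : ∃ c : F, M = c • (1 : Matrix ι ι F) := by
  have hall : ∀ N : Matrix ι ι F, M * N = N * M := by
    intro N
    have hN : N ∈ Submodule.span F S := by rw [hS]; trivial
    induction hN using Submodule.span_induction with
    | mem s hs => exact hM s hs
    | zero => simp
    | add a b _ _ ha hb => rw [Matrix.mul_add, Matrix.add_mul, ha, hb]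
    | smul c a _ ha => rw [Matrix.mul_smul, Matrix.smul_mul, ha]
  have h1 : M ∈ Set.range (Matrix.scalar ι) := by
    apply Matrix.mem_range_scalar_of_commute_single
    intro i j _
    exact (hall _).symm
  obtain ⟨c, hc⟩ := h1
  refine ⟨c, ?_⟩
  rw [← hc, Matrix.smul_one_eq_diagonal]
  rfl

theorem Rstd_absIrr (hq : Fintype.card F = 3) :
    ActsAbsolutelyIrreducibly (matrixSet (Rstd hq)) :=
  ⟨actsIrreducibly_of_span_top (span_Rstd hq),
    fun M hM => scalar_of_commute_span_top (span_Rstd hq) M hM⟩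

end std

end Cfsg.Agent.Lib.H1.AschSP2
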