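/-
SYMPLECTIC PHASE 2, stretch task SP2-S2 (helper1), part c: characteristic abelian subgroups of the
standard group `Rstd = 2^{1+4}_-` are cyclic (two explicit outer automorphisms).
-/
import Cfsg.Agent.Lib.H1.AschSP2S2b

set_option autoImplicit false
set_option linter.unusedSectionVars false
set_option linter.unusedSimpArgs false

namespace Cfsg.Agent.Lib.H1.AschSP2

open Cfsg Cfsg.Geo Matrix
open scoped MatrixGroups

section cancel

variable {F : Type*} [Field F]

theorem kb_left_cancel {b b' a : Matrix (Fin 2) (Fin 2) F} (i j : Fin 2) (hij : a i j ≠ 0)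
    (h : kb b a = kb b' a) : b = b' := by
  unfold kb at h
  rw [Matrix.fromBlocks_inj] at h
  obtain ⟨h1, h2, h3, h4⟩ := h
  ext s t
  fin_cases s <;> fin_cases t
  · have := congrFun (congrFun h1 i) j
    exact mul_right_cancel₀ hij (by simpa using this)
  · have := congrFun (congrFun h2 i) j
    exact mul_right_cancel₀ hij (by simpa using this)
  · have := congrFun (congrFun h3 i) j
    exact mul_right_cancel₀ hij (by simpa using this)
  · have := congrFun (congrFun h4 i) j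
    exact mul_right_cancel₀ hij (by simpa using this)

theorem kb_right_cancel {b a a' : Matrix (Fin 2) (Fin 2) F} (s t : Fin 2) (hst : b s t ≠ 0)
    (h : kb b a = kb b a') : a = a' := by
  unfold kb at h
  rw [Matrix.fromBlocks_inj] at h
  obtain ⟨h1, h2, h3, h4⟩ := h
  fin_cases s <;> fin_cases t
  · exact smul_right_injective _ hst h1
  · exact smul_right_injective _ hst h2
  · exact smul_right_injective _ hst h3
  · exact smul_right_injective _ hst h4

end cancel

section aut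

/-- conjugation by a normalising element, as an automorphism of a subgroup of a finite group -/
noncomputable def conjAut {G : Type*} [Group G] [Finite G] (R : Subgroup G) (n : G)
    (hn : ∀ x ∈ R, n * x * n⁻¹ ∈ R) : ↥R ≃* ↥R :=
  MulEquiv.ofBijective
    (MonoidHom.mk' (fun x : ↥R => (⟨n * x * n⁻¹, hn x x.2⟩ : ↥R)) (by
      intro a b
      apply Subtype.ext
      simp [mul_assoc]))
    (by
      apply Finite.injective_iff_bijective.1
      intro a b hab
      apply Subtype.ext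
      have := congrArg (fun t : ↥R => (t : G)) hab
      simpa using this)

theorem conjAut_val {G : Type*} [Group G] [Finite G] (R : Subgroup G) (n : G)
    (hn : ∀ x ∈ R, n * x * n⁻¹ ∈ R) (x : ↥R) : ((conjAut R n hn x : ↥R) : G) = n * x * n⁻¹ := rfl

end aut

section std

variable {F : Type*} [Field F] [Fintype F]

theorem mg_mul_mgi {A : Type*} [CommRing A] : mg A * mgi A = 1 := by
  unfold mg mgi
  ext i j
  fin_cases i <;> fin_cases j <;> simp [Matrix.mul_apply, Fin.sum_univ_two]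

theorem mgi_mul_mg {A : Type*} [CommRing A] : mgi A * mg A = 1 := by
  unfold mg mgi
  ext i j
  fin_cases i <;> fin_cases j <;> simp [Matrix.mul_apply, Fin.sum_univ_two]

theorem mh_mul_mhi (hq : Fintype.card F = 3) : mh F * mhi F = 1 := by
  have key : mh (ZMod 3) * mhi (ZMod 3) = 1 := by decide +kernel
  apply (tr2 hq).injective
  rw [map_mul, tr2_mh, tr2_mhi, key, map_one]

theorem mhi_mul_mh (hq : Fintype.card F = 3) : mhi F * mh F = 1 := by
  have key : mhi (ZMod 3) * mh (ZMod 3) = 1 := by decide +kernel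
  apply (tr2 hq).injective
  rw [map_mul, tr2_mh, tr2_mhi, key, map_one]

theorem mE_mul_mE {A : Type*} [CommRing A] : mE A * mE A = -1 := by
  unfold mE
  ext i j
  fin_cases i <;> fin_cases j <;> simp [Matrix.mul_apply, Fin.sum_univ_two]

/-- the normalising element `g ⊗ 1` -/
def Kg (F : Type*) [Field F] : GL (Fin 2 ⊕ Fin 2) F :=
  ⟨kb (mg F) 1, kb (mgi F) 1, by rw [kb_mul, mg_mul_mgi, Matrix.mul_one, kb_one],
    by rw [kb_mul, mgi_mul_mg, Matrix.mul_one, kb_one]⟩

/-- the normalising element `1 ⊗ h` -/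
def Kh (hq : Fintype.card F = 3) : GL (Fin 2 ⊕ Fin 2) F :=
  ⟨kb 1 (mh F), kb 1 (mhi F), by rw [kb_mul, mh_mul_mhi hq, Matrix.mul_one, kb_one],
    by rw [kb_mul, mhi_mul_mh hq, Matrix.mul_one, kb_one]⟩

theorem conj_Kg_mem (hq : Fintype.card F = 3) (x : GL (Fin 2 ⊕ Fin 2) F) (hx : x ∈ Rstd hq) :
    Kg F * x * (Kg F)⁻¹ ∈ Rstd hq := by
  obtain ⟨b, a, hb, ha, hxe⟩ := hx
  refine ⟨mg F * b * mgi F, a, inQ_conj_g hq hb, ha, ?_⟩
  rw [Units.val_mul, Units.val_mul, hxe]
  show kb (mg F) 1 * kb b a * kb (mgi F) 1 = _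
  rw [kb_mul, kb_mul, Matrix.one_mul, Matrix.mul_one]

theorem conj_Kh_mem (hq : Fintype.card F = 3) (x : GL (Fin 2 ⊕ Fin 2) F) (hx : x ∈ Rstd hq) :
    Kh hq * x * (Kh hq)⁻¹ ∈ Rstd hq := by
  obtain ⟨b, a, hb, ha, hxe⟩ := hx
  refine ⟨b, mh F * a * mhi F, hb, inO_conj_h hq ha, ?_⟩
  rw [Units.val_mul, Units.val_mul, hxe]
  show kb 1 (mh F) * kb b a * kb 1 (mhi F) = _
  rw [kb_mul, kb_mul, Matrix.one_mul, Matrix.mul_one]

theorem one_apply_zero_ne : ((1 : Matrix (Fin 2) (Fin 2) F) 0 0) ≠ 0 := by simp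

theorem neg_one_apply_zero_ne : ((-1 : Matrix (Fin 2) (Fin 2) F) 0 0) ≠ 0 := by simp

/-- the elements of a characteristic abelian subgroup -/
theorem Rstd_char_elements (hq : Fintype.card F = 3) (A : Subgroup ↥(Rstd hq))
    (hA : A.Characteristic) (hcomm : IsMulCommutative A) (x : ↥(Rstd hq)) (hx : x ∈ A) :
    ((x : GL (Fin 2 ⊕ Fin 2) F) : Matrix (Fin 2 ⊕ Fin 2) (Fin 2 ⊕ Fin 2) F) = 1 ∨
    ((x : GL (Fin 2 ⊕ Fin 2) F) : Matrix (Fin 2 ⊕ Fin 2) (Fin 2 ⊕ Fin 2) F) = -1 ∨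
    ((x : GL (Fin 2 ⊕ Fin 2) F) : Matrix (Fin 2 ⊕ Fin 2) (Fin 2 ⊕ Fin 2) F) = kb 1 (mE F) ∨
    ((x : GL (Fin 2 ⊕ Fin 2) F) : Matrix (Fin 2 ⊕ Fin 2) (Fin 2 ⊕ Fin 2) F) = -kb 1 (mE F) := by
  obtain ⟨b, a, hb, ha, hxe⟩ := x.2
  -- the two automorphisms
  have hcommute : ∀ α : ↥(Rstd hq) ≃* ↥(Rstd hq),
      (((α x : ↥(Rstd hq)) : GL (Fin 2 ⊕ Fin 2) F) : Matrix (Fin 2 ⊕ Fin 2) (Fin 2 ⊕ Fin 2) F) *
        ((x : GL (Fin 2 ⊕ Fin 2) F) : Matrix (Fin 2 ⊕ Fin 2) (Fin 2 ⊕ Fin 2) F) =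
      ((x : GL (Fin 2 ⊕ Fin 2) F) : Matrix (Fin 2 ⊕ Fin 2) (Fin 2 ⊕ Fin 2) F) *
        (((α x : ↥(Rstd hq)) : GL (Fin 2 ⊕ Fin 2) F) :
          Matrix (Fin 2 ⊕ Fin 2) (Fin 2 ⊕ Fin 2) F) := by
    intro α
    have hαx : α x ∈ A := by
      have h1 := hA.fixed α
      rw [← h1] at hx
      exact hx
    have h2 := hcomm.is_comm.comm (⟨α x, hαx⟩ : ↥A) ⟨x, hx⟩
    have h3 := congrArg (fun t : ↥A => (((t : ↥(Rstd hq)) : GL (Fin 2 ⊕ Fin 2) F) :
      Matrix (Fin 2 ⊕ Fin 2) (Fin 2 ⊕ Fin 2) F)) h2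
    simpa using h3
  have hb1 : b = 1 ∨ b = -1 := by
    have h1 := hcommute (conjAut (Rstd hq) (Kg F) (conj_Kg_mem hq))
    rw [conjAut_val, Units.val_mul, Units.val_mul, hxe] at h1
    change kb (mg F) 1 * kb b a * kb (mgi F) 1 * kb b a =
      kb b a * (kb (mg F) 1 * kb b a * kb (mgi F) 1) at h1
    rw [kb_mul, kb_mul, kb_mul, kb_mul, Matrix.one_mul, Matrix.mul_one] at h1
    apply inQ_conj_g_comm hq hb
    rcases inO_sq hq ha with h | h
    · rw [h] at h1
      exact kb_left_cancel 0 0 one_apply_zero_ne h1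
    · rw [h] at h1
      exact kb_left_cancel 0 0 neg_one_apply_zero_ne h1
  have ha1 : a = 1 ∨ a = -1 ∨ a = mE F ∨ a = -mE F := by
    have h1 := hcommute (conjAut (Rstd hq) (Kh hq) (conj_Kh_mem hq))
    rw [conjAut_val, Units.val_mul, Units.val_mul, hxe] at h1
    change kb 1 (mh F) * kb b a * kb 1 (mhi F) * kb b a =
      kb b a * (kb 1 (mh F) * kb b a * kb 1 (mhi F)) at h1
    rw [kb_mul, kb_mul, kb_mul, kb_mul, Matrix.one_mul, Matrix.mul_one] at h1
    apply inO_conj_h_comm hq ha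
    rcases inQ_sq hq hb with h | h
    · rw [h] at h1
      exact kb_right_cancel 0 0 one_apply_zero_ne h1
    · rw [h] at h1
      exact kb_right_cancel 0 0 neg_one_apply_zero_ne h1
  rw [hxe]
  rcases hb1 with rfl | rfl <;> rcases ha1 with rfl | rfl | rfl | rfl <;>
    simp [kb_neg_left, kb_neg_right, kb_one]

/-- characteristic abelian subgroups of the standard group are cyclic -/
theorem Rstd_cyclic_of_char (hq : Fintype.card F = 3) (A : Subgroup ↥(Rstd hq))
    (hA : A.Characteristic) (hcomm : IsMulCommutative A) : IsCyclic A := by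
  obtain ⟨e, he, hee⟩ := exists_mem_Rstd hq (inQ_one (A := F)) (inO_mE (A := F))
  set e₀ : ↥(Rstd hq) := ⟨e, he⟩ with he₀
  have hle : A ≤ Subgroup.zpowers e₀ := by
    intro x hx
    have hval : ∀ k : ℕ, (((e₀ ^ k : ↥(Rstd hq)) : GL (Fin 2 ⊕ Fin 2) F) :
        Matrix (Fin 2 ⊕ Fin 2) (Fin 2 ⊕ Fin 2) F) = (kb 1 (mE F)) ^ k := by
      intro k
      rw [Subgroup.coe_pow, Units.val_pow_eq_pow_val, he₀]
      show (e : Matrix (Fin 2 ⊕ Fin 2) (Fin 2 ⊕ Fin 2) F) ^ k = _
      rw [hee]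
    have hsq : kb 1 (mE F) * kb 1 (mE F) = -1 := by
      rw [kb_mul, mE_mul_mE, Matrix.one_mul, kb_neg_right, kb_one]
    rcases Rstd_char_elements hq A hA hcomm x hx with h | h | h | h
    · have : x = e₀ ^ 0 := by
        apply Subtype.ext
        apply Units.ext
        rw [h, hval, pow_zero]
      rw [this]
      exact Subgroup.npow_mem_zpowers e₀ 0
    · have : x = e₀ ^ 2 := by
        apply Subtype.ext
        apply Units.ext
        rw [h, hval, pow_two, hsq]
      rw [this]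
      exact Subgroup.npow_mem_zpowers e₀ 2
    · have : x = e₀ ^ 1 := by
        apply Subtype.ext
        apply Units.ext
        rw [h, hval, pow_one]
      rw [this]
      exact Subgroup.npow_mem_zpowers e₀ 1
    · have : x = e₀ ^ 3 := by
        apply Subtype.ext
        apply Units.ext
        rw [h, hval, pow_succ, pow_two, hsq, Matrix.neg_mul, Matrix.one_mul]
      rw [this]
      exact Subgroup.npow_mem_zpowers e₀ 3
  exact Subgroup.isCyclic_of_le hle

end std

end Cfsg.Agent.Lib.H1.AschSP2
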