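/-
SYMPLECTIC PHASE 2, stretch task SP2-S2 (helper1), part d: the class-6 data of the standard group
`Rstd = 2^{1+4}_-` (order, centre, minus type through the `Fin 4` toolkit of M7 / SM7).
-/
import Cfsg.Agent.Lib.H1.AschSP2S2c
import Cfsg.Agent.Lib.H1.AschSM7b
import Cfsg.Agent.Lib.H11.AschST0d
import Cfsg.Agent.Lib.H11.SimMax5
import Cfsg.Agent.Lib.H9.AschSP2C6

set_option autoImplicit false
set_option linter.unusedSectionVars false
set_option linter.unusedSimpArgs false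

namespace Cfsg.Agent.Lib.H1.AschSP2

open Cfsg Cfsg.Geo Matrix Cfsg.Agent.Lib.Lead.Asch Cfsg.Agent.Lib.H11.AschS
open scoped MatrixGroups

variable {F : Type*} [Field F] [Fintype F]

theorem one_ne_neg_one_gl (hq : Fintype.card F = 3) : (1 : GL (Fin 2 ⊕ Fin 2) F) ≠ -1 := by
  intro h
  have h1 := congrArg (fun g : GL (Fin 2 ⊕ Fin 2) F =>
    (g : Matrix (Fin 2 ⊕ Fin 2) (Fin 2 ⊕ Fin 2) F) (Sum.inl 0) (Sum.inl 0)) h
  simp only [Units.val_one, Units.val_neg, Matrix.neg_apply, Matrix.one_apply_eq] at h1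
  apply two_ne_zero' hq
  linear_combination h1

/-- the element `J = kb mρ 1` of the standard group -/
theorem exists_J_mem (hq : Fintype.card F = 3) :
    ∃ x ∈ Rstd hq, (x : Matrix (Fin 2 ⊕ Fin 2) (Fin 2 ⊕ Fin 2) F) = Matrix.J (Fin 2) F := by
  obtain ⟨x, hx, hxe⟩ := exists_mem_Rstd hq (inQ_mρ (A := F)) (inO_one (A := F))
  exact ⟨x, hx, by rw [hxe, kb_mρ_one]⟩

theorem mρ_mul_mρ {A : Type*} [CommRing A] : mρ A * mρ A = -1 := by
  unfold mρ
  ext i j
  fin_cases i <;> fin_cases j <;> simp [Matrix.mul_apply, Fin.sum_univ_two]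

theorem Rstd_isPGroup (hq : Fintype.card F = 3) : IsPGroup 2 ↥(Rstd hq) := by
  intro g
  refine ⟨2, ?_⟩
  apply Subtype.ext
  rw [Subgroup.coe_pow]
  exact Rstd_pow_four hq g.2

theorem Rstd_exponent (hq : Fintype.card F = 3) :
    Monoid.exponent ↥(Rstd hq) = 2 * Nat.gcd 2 2 := by
  have h4 : (2 * Nat.gcd 2 2) = 2 ^ 2 := by decide
  rw [h4]
  have hdvd : Monoid.exponent ↥(Rstd hq) ∣ 2 ^ 2 := by
    apply Monoid.exponent_dvd_of_forall_pow_eq_one
    intro g
    apply Subtype.ext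
    rw [Subgroup.coe_pow]
    exact Rstd_pow_four hq g.2
  obtain ⟨x, hx, hxe⟩ := exists_mem_Rstd hq (inQ_mρ (A := F)) (inO_one (A := F))
  have hx2 : x * x = -1 := by
    apply Units.ext
    rw [Units.val_mul, hxe, kb_mul, mρ_mul_mρ, Matrix.one_mul, kb_neg_left, kb_one, Units.val_neg,
      Units.val_one]
  have hne : ∀ k : ℕ, k ∣ 2 → Monoid.exponent ↥(Rstd hq) ≠ k := by
    intro k hk he
    have h1 : (⟨x, hx⟩ : ↥(Rstd hq)) ^ 2 = 1 := by
      obtain ⟨m, hm⟩ := hk
      have h0 : (⟨x, hx⟩ : ↥(Rstd hq)) ^ (k * m) = 1 := by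
        rw [pow_mul, ← he, Monoid.pow_exponent_eq_one, one_pow]
      rwa [← hm] at h0
    have h2 : x ^ 2 = 1 := by
      have := congrArg (fun t : ↥(Rstd hq) => (t : GL (Fin 2 ⊕ Fin 2) F)) h1
      simpa using this
    rw [pow_two, hx2] at h2
    exact one_ne_neg_one_gl hq h2.symm
  obtain ⟨j, hj, hj'⟩ := (Nat.dvd_prime_pow Nat.prime_two).1 hdvd
  interval_cases j
  · exact absurd hj' (hne 1 (by norm_num))
  · exact absurd hj' (hne 2 (by norm_num))
  · exact hj'

theorem Rstd_symplecticType (hq : Fintype.card F = 3) : IsSymplecticTypeGroup 2 (Rstd hq) where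
  prime := Nat.prime_two
  pGroup := Rstd_isPGroup hq
  cyclic_of_characteristic := Rstd_cyclic_of_char hq
  exponent_eq := Rstd_exponent hq

theorem Rstd_le_similarity (hq : Fintype.card F = 3) :
    Rstd hq ≤ similarityGroup (sympForm 2 F) := by
  intro x hx
  refine ⟨1, fun u v => ?_⟩
  rw [Units.val_one, one_mul]
  exact Rstd_le_spGL hq hx u v

/-- a scalar matrix in the standard group is `± 1` -/
theorem Rstd_scalar' (hq : Fintype.card F = 3) {x : GL (Fin 2 ⊕ Fin 2) F} (hx : x ∈ Rstd hq)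
    (c : F) (hc : (x : Matrix (Fin 2 ⊕ Fin 2) (Fin 2 ⊕ Fin 2) F) = c • 1) : x = 1 ∨ x = -1 := by
  have hcc : c * c = 1 ∨ c * c = -1 := by
    rcases Rstd_sq hq hx with h | h
    · left
      have := congrFun (congrFun h (Sum.inl 0)) (Sum.inl 0)
      rw [hc] at this
      simpa using this
    · right
      have := congrFun (congrFun h (Sum.inl 0)) (Sum.inl 0)
      rw [hc] at this
      simpa using this
  rcases scalar_sq hq hcc with h | h
  · left
    apply Units.ext
    rw [hc, h, one_smul, Units.val_one]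
  · right
    apply Units.ext
    rw [hc, h, Units.val_neg, Units.val_one, neg_smul, one_smul]

theorem Rstd_center (hq : Fintype.card F = 3) (x : ↥(Rstd hq)) :
    x ∈ Subgroup.center ↥(Rstd hq) ↔ (x : GL (Fin 2 ⊕ Fin 2) F) = 1 ∨
      (x : GL (Fin 2 ⊕ Fin 2) F) = -1 := by
  constructor
  · intro h
    rw [Subgroup.mem_center_iff] at h
    obtain ⟨c, hc⟩ := scalar_of_commute_span_top (span_Rstd hq)
      ((x : GL (Fin 2 ⊕ Fin 2) F) : Matrix (Fin 2 ⊕ Fin 2) (Fin 2 ⊕ Fin 2) F) (by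
        rintro _ ⟨y, hy, rfl⟩
        have h1 := h ⟨y, hy⟩
        have h2 := congrArg (fun t : ↥(Rstd hq) => ((t : GL (Fin 2 ⊕ Fin 2) F) :
          Matrix (Fin 2 ⊕ Fin 2) (Fin 2 ⊕ Fin 2) F)) h1
        simpa using h2.symm)
    exact Rstd_scalar' hq x.2 c hc
  · intro h
    rw [Subgroup.mem_center_iff]
    intro g
    apply Subtype.ext
    rcases h with h | h
    · simp [h]
    · simp [h]

theorem Rstd_card_center (hq : Fintype.card F = 3) :
    Nat.card (Subgroup.center ↥(Rstd hq)) = 2 := by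
  rw [Nat.card_eq_two_iff]
  have hm : (⟨-1, neg_one_mem_Rstd hq⟩ : ↥(Rstd hq)) ∈ Subgroup.center ↥(Rstd hq) := by
    rw [Rstd_center]
    right; rfl
  refine ⟨1, ⟨⟨-1, neg_one_mem_Rstd hq⟩, hm⟩, ?_, ?_⟩
  · intro h
    have h1 := congrArg (fun t : ↥(Subgroup.center ↥(Rstd hq)) =>
      ((t : ↥(Rstd hq)) : GL (Fin 2 ⊕ Fin 2) F)) h
    exact one_ne_neg_one_gl hq (by simpa using h1)
  · rw [Set.eq_univ_iff_forall]
    rintro ⟨x, hx⟩
    rcases (Rstd_center hq x).1 hx with h | h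
    · left
      apply Subtype.ext
      apply Subtype.ext
      simpa using h
    · right
      apply Subtype.ext
      apply Subtype.ext
      simpa using h

/-! ### transport to `Fin 4` -/

/-- the reindexing -/
def e4 : Fin 4 ≃ Fin 2 ⊕ Fin 2 := (finSumFinEquiv : Fin 2 ⊕ Fin 2 ≃ Fin (2 + 2)).symm

/-- the standard group on `Fin 4` -/
def R4 (hq : Fintype.card F = 3) : Subgroup (GL (Fin 4) F) :=
  (Rstd hq).comap (glReindex (F := F) e4).toMonoidHom

theorem mem_R4 (hq : Fintype.card F = 3) (x : GL (Fin 4) F) :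
    x ∈ R4 hq ↔ glReindex e4 x ∈ Rstd hq := Iff.rfl

theorem R4_sympCore (hq : Fintype.card F = 3) :
    Cfsg.Agent.Lib.H1.Asch.SympCore (R4 hq) (R4 hq) 2 where
  prime := Nat.prime_two
  le := le_refl _
  norm := fun h hh x hx => (R4 hq).mul_mem ((R4 hq).mul_mem hh hx) ((R4 hq).inv_mem hh)
  absIrr := absIrr_comap e4 (Rstd hq) (Rstd_absIrr hq)
  comm := by
    intro x hx y hy
    apply mem_scalars_of_glReindex e4
    rw [map_mul, map_mul, map_mul, map_inv, map_inv]
    exact Rstd_commutator hq hx hy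
  pow := by
    intro x hx
    apply (glReindex (F := F) e4).injective
    rw [map_pow, map_one]
    exact Rstd_pow_four hq hx

/-- the isomorphism between the two versions -/
noncomputable def psi4 (hq : Fintype.card F = 3) : ↥(R4 hq) ≃* ↥(Rstd hq) :=
  comapEquiv (glReindex (F := F) e4) (Rstd hq)

theorem R4_card_center (hq : Fintype.card F = 3) :
    Nat.card (Subgroup.center ↥(R4 hq)) = 2 := by
  rw [Nat.card_congr (Subgroup.centerCongr (psi4 hq)).toEquiv, Rstd_card_center]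

theorem R4_card (hq : Fintype.card F = 3) : Nat.card ↥(R4 hq) = 2 * 4 ^ 2 := by
  have h1 := (R4_sympCore hq).card_eq (by norm_num)
  rw [R4_card_center] at h1
  exact h1

theorem Rstd_card (hq : Fintype.card F = 3) : Nat.card ↥(Rstd hq) = 2 ^ (1 + 2 * 2) := by
  rw [← Nat.card_congr (psi4 hq).toEquiv, R4_card]
  norm_num

theorem R4_minus (hq : Fintype.card F = 3) : IsOfMinusType 2 (R4 hq) := by
  intro A hA hsq
  have hc := R4_sympCore hq
  have hf := isSymplecticForm_reF e4.symm (sympForm 2 F)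
    (Cfsg.Agent.Lib.H11.SimMax.sympForm_isSymplectic F 2)
  have hfix : ∀ x ∈ R4 hq, ∀ u v, reF e4.symm (sympForm 2 F)
      ((x : Matrix (Fin 4) (Fin 4) F) *ᵥ u) ((x : Matrix (Fin 4) (Fin 4) F) *ᵥ v) =
      reF e4.symm (sympForm 2 F) u v := by
    intro x hx u v
    unfold reF
    rw [← glReindex_mulVec_symm e4 x u, ← glReindex_mulVec_symm e4 x v]
    exact Rstd_le_spGL hq hx _ _
  have h := Cfsg.Agent.Lib.H1.AschS.card_lt_of_elementary hf (by norm_num) (two_ne_zero' hq)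
    (R4 hq) hc.absIrr.1 hfix hc.comm (R4_card_center hq) hc.mem_center_iff' (R4_card hq) A hA hsq
  calc Nat.card ↥A < 2 * 4 := h
    _ = 2 ^ (2 + 1) := by norm_num

theorem Rstd_minus (hq : Fintype.card F = 3) : IsOfMinusType 2 (Rstd hq) :=
  isOfMinusType_of_equiv 2 (R4 hq) (Rstd hq) (psi4 hq).symm (R4_minus hq)

/-- the class-6 data of the standard group -/
theorem Rstd_c6Data (hq : Fintype.card F = 3) :
    Cfsg.Agent.Lib.H9.AschSP2.C6Data 2 2 F (Rstd hq) :=
  ⟨Rstd_symplecticType hq, Rstd_absIrr hq, Rstd_le_similarity hq, Rstd_card hq,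
    Rstd_card_center hq, Rstd_minus hq, fun _ hx _ hy => Rstd_commutator hq hx hy⟩

end Cfsg.Agent.Lib.H1.AschSP2
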