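/-
SYMPLECTIC PHASE 2, stretch task SP2-S2 (helper1), part e: every symplectic matrix commuting or
anticommuting with `J` normalises the standard group `Rstd`.
-/
import Cfsg.Agent.Lib.H1.AschSP2S2d

set_option autoImplicit false
set_option linter.unusedSectionVars false
set_option linter.unusedSimpArgs false

namespace Cfsg.Agent.Lib.H1.AschSP2

open Cfsg Cfsg.Geo Matrix
open scoped MatrixGroups

variable {F : Type*} [Field F] [Fintype F]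

section shape

theorem tr2_smul (hq : Fintype.card F = 3) (c : F) (X : Matrix (Fin 2) (Fin 2) F) :
    tr2 hq (c • X) = phi3 hq c • tr2 hq X := by
  ext i j
  simp [tr2_apply]

set_option maxRecDepth 100000

theorem shape_pp (hq : Fintype.card F = 3) {X : Matrix (Fin 2) (Fin 2) F}
    (hP : X * mP F = mP F * X) (hD : X * mD F = mD F * X) :
    X = X 0 0 • (1 : Matrix (Fin 2) (Fin 2) F) := by
  have key : ∀ X : Matrix (Fin 2) (Fin 2) (ZMod 3), X * mP _ = mP _ * X → X * mD _ = mD _ * X →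
      X = X 0 0 • (1 : Matrix (Fin 2) (Fin 2) (ZMod 3)) := by decide +kernel
  have := key (tr2 hq X) (by rw [← tr2_mP hq, ← map_mul, ← map_mul, hP])
    (by rw [← tr2_mD hq, ← map_mul, ← map_mul, hD])
  apply (tr2 hq).injective
  rw [tr2_smul, map_one]
  exact this

theorem shape_pm (hq : Fintype.card F = 3) {X : Matrix (Fin 2) (Fin 2) F}
    (hP : X * mP F = mP F * X) (hD : X * mD F = -(mD F * X)) :
    X = X 0 1 • mP F := by
  have key : ∀ X : Matrix (Fin 2) (Fin 2) (ZMod 3), X * mP _ = mP _ * X →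
      X * mD _ = -(mD _ * X) → X = X 0 1 • mP (ZMod 3) := by decide +kernel
  have := key (tr2 hq X) (by rw [← tr2_mP hq, ← map_mul, ← map_mul, hP])
    (by rw [← tr2_mD hq, ← map_mul, ← map_mul, ← map_neg, hD])
  apply (tr2 hq).injective
  rw [tr2_smul, tr2_mP]
  exact this

theorem shape_mp (hq : Fintype.card F = 3) {X : Matrix (Fin 2) (Fin 2) F}
    (hP : X * mP F = -(mP F * X)) (hD : X * mD F = mD F * X) :
    X = X 0 0 • mD F := by
  have key : ∀ X : Matrix (Fin 2) (Fin 2) (ZMod 3), X * mP _ = -(mP _ * X) →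
      X * mD _ = mD _ * X → X = X 0 0 • mD (ZMod 3) := by decide +kernel
  have := key (tr2 hq X) (by rw [← tr2_mP hq, ← map_mul, ← map_mul, ← map_neg, hP])
    (by rw [← tr2_mD hq, ← map_mul, ← map_mul, hD])
  apply (tr2 hq).injective
  rw [tr2_smul, tr2_mD]
  exact this

theorem shape_mm (hq : Fintype.card F = 3) {X : Matrix (Fin 2) (Fin 2) F}
    (hP : X * mP F = -(mP F * X)) (hD : X * mD F = -(mD F * X)) :
    X = X 0 1 • mE F := by
  have key : ∀ X : Matrix (Fin 2) (Fin 2) (ZMod 3), X * mP _ = -(mP _ * X) →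
      X * mD _ = -(mD _ * X) → X = X 0 1 • mE (ZMod 3) := by decide +kernel
  have := key (tr2 hq X) (by rw [← tr2_mP hq, ← map_mul, ← map_mul, ← map_neg, hP])
    (by rw [← tr2_mD hq, ← map_mul, ← map_mul, ← map_neg, hD])
  apply (tr2 hq).injective
  rw [tr2_smul, tr2_mE]
  exact this

end shape

section beta

theorem kb_one_left {A : Type*} [CommRing A] (a : Matrix (Fin 2) (Fin 2) A) :
    kb 1 a = Matrix.fromBlocks a 0 0 a := by
  unfold kb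
  simp

theorem kb_of {A : Type*} [CommRing A] (t₁ t₂ t₃ t₄ : A) (a : Matrix (Fin 2) (Fin 2) A) :
    kb !![t₁, t₂; t₃, t₄] a = Matrix.fromBlocks (t₁ • a) (t₂ • a) (t₃ • a) (t₄ • a) := by
  unfold kb
  simp

theorem mul_kb_one (Y : Matrix (Fin 2 ⊕ Fin 2) (Fin 2 ⊕ Fin 2) F) (a : Matrix (Fin 2) (Fin 2) F) :
    Y * kb 1 a = Matrix.fromBlocks (Y.toBlocks₁₁ * a) (Y.toBlocks₁₂ * a) (Y.toBlocks₂₁ * a)
      (Y.toBlocks₂₂ * a) := by
  conv_lhs => rw [← Matrix.fromBlocks_toBlocks Y, kb_one_left, Matrix.fromBlocks_multiply]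
  simp

theorem kb_one_mul (Y : Matrix (Fin 2 ⊕ Fin 2) (Fin 2 ⊕ Fin 2) F) (a : Matrix (Fin 2) (Fin 2) F) :
    kb 1 a * Y = Matrix.fromBlocks (a * Y.toBlocks₁₁) (a * Y.toBlocks₁₂) (a * Y.toBlocks₂₁)
      (a * Y.toBlocks₂₂) := by
  conv_lhs => rw [← Matrix.fromBlocks_toBlocks Y, kb_one_left, Matrix.fromBlocks_multiply]
  simp

/-- a symplectic matrix of the form `kb T a₀` that commutes up to sign with `J` lies in the
standard group -/
theorem mem_Rstd_of_kb (hq : Fintype.card F = 3) (y : GL (Fin 2 ⊕ Fin 2) F) (hy : y ∈ spGL 2 F)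
    (h1 : (y : Matrix (Fin 2 ⊕ Fin 2) (Fin 2 ⊕ Fin 2) F) * Matrix.J (Fin 2) F =
        Matrix.J (Fin 2) F * y ∨
      (y : Matrix (Fin 2 ⊕ Fin 2) (Fin 2 ⊕ Fin 2) F) * Matrix.J (Fin 2) F =
        -(Matrix.J (Fin 2) F * y))
    (T a₀ : Matrix (Fin 2) (Fin 2) F) (ha : InO a₀) (i j : Fin 2) (hij : a₀ i j ≠ 0)
    (hY : (y : Matrix (Fin 2 ⊕ Fin 2) (Fin 2 ⊕ Fin 2) F) = kb T a₀) : y ∈ Rstd hq := by
  refine ⟨T, a₀, ⟨?_, ?_⟩, ha, hY⟩
  · have h := (mem_spGL_iff_matrix y).1 hy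
    rw [hY, kb_symp, (show a₀ᵀ * a₀ = 1 from ha), kb_mρ_one] at h
    have := congrFun (congrFun h (Sum.inr 0)) (Sum.inl 0)
    simpa [Matrix.J] using this
  · rw [hY, ← kb_mρ_one, kb_mul, kb_mul, Matrix.mul_one, Matrix.one_mul] at h1
    rcases h1 with h | h
    · left; exact kb_left_cancel i j hij h
    · right
      rw [← kb_neg_left] at h
      exact kb_left_cancel i j hij h

theorem mE_ne (A : Type*) [CommRing A] [Nontrivial A] : mE A 0 1 ≠ 0 := by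
  unfold mE; simp
theorem mP_ne (A : Type*) [CommRing A] [Nontrivial A] : mP A 0 1 ≠ 0 := by
  unfold mP; simp
theorem mD_ne (A : Type*) [CommRing A] [Nontrivial A] : mD A 0 0 ≠ 0 := by
  unfold mD; simp

/-- **(β)**: a symplectic matrix commuting up to sign with `J`, `1 ⊗ P` and `1 ⊗ D` lies in the
standard group -/
theorem mem_Rstd_of_CS (hq : Fintype.card F = 3) (y : GL (Fin 2 ⊕ Fin 2) F) (hy : y ∈ spGL 2 F)
    (h1 : (y : Matrix (Fin 2 ⊕ Fin 2) (Fin 2 ⊕ Fin 2) F) * Matrix.J (Fin 2) F =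
        Matrix.J (Fin 2) F * y ∨
      (y : Matrix (Fin 2 ⊕ Fin 2) (Fin 2 ⊕ Fin 2) F) * Matrix.J (Fin 2) F =
        -(Matrix.J (Fin 2) F * y))
    (h2 : (y : Matrix (Fin 2 ⊕ Fin 2) (Fin 2 ⊕ Fin 2) F) * kb 1 (mP F) = kb 1 (mP F) * y ∨
      (y : Matrix (Fin 2 ⊕ Fin 2) (Fin 2 ⊕ Fin 2) F) * kb 1 (mP F) = -(kb 1 (mP F) * y))
    (h3 : (y : Matrix (Fin 2 ⊕ Fin 2) (Fin 2 ⊕ Fin 2) F) * kb 1 (mD F) = kb 1 (mD F) * y ∨
      (y : Matrix (Fin 2 ⊕ Fin 2) (Fin 2 ⊕ Fin 2) F) * kb 1 (mD F) = -(kb 1 (mD F) * y)) :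
    y ∈ Rstd hq := by
  set Y := (y : Matrix (Fin 2 ⊕ Fin 2) (Fin 2 ⊕ Fin 2) F) with hYdef
  rw [mul_kb_one, kb_one_mul] at h2 h3
  rw [Matrix.fromBlocks_neg, Matrix.fromBlocks_inj, Matrix.fromBlocks_inj] at h2 h3
  rcases h2 with ⟨p1, p2, p3, p4⟩ | ⟨p1, p2, p3, p4⟩ <;>
    rcases h3 with ⟨d1, d2, d3, d4⟩ | ⟨d1, d2, d3, d4⟩
  · obtain ⟨t₁, s₁⟩ : ∃ t : F, Y.toBlocks₁₁ = t • 1 := ⟨_, shape_pp hq p1 d1⟩
    obtain ⟨t₂, s₂⟩ : ∃ t : F, Y.toBlocks₁₂ = t • 1 := ⟨_, shape_pp hq p2 d2⟩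
    obtain ⟨t₃, s₃⟩ : ∃ t : F, Y.toBlocks₂₁ = t • 1 := ⟨_, shape_pp hq p3 d3⟩
    obtain ⟨t₄, s₄⟩ : ∃ t : F, Y.toBlocks₂₂ = t • 1 := ⟨_, shape_pp hq p4 d4⟩
    refine mem_Rstd_of_kb hq y hy h1 !![t₁, t₂; t₃, t₄] 1 inO_one 0 0 (by simp) ?_
    rw [kb_of, ← s₁, ← s₂, ← s₃, ← s₄, Matrix.fromBlocks_toBlocks]
  · obtain ⟨t₁, s₁⟩ : ∃ t : F, Y.toBlocks₁₁ = t • mP F := ⟨_, shape_pm hq p1 d1⟩
    obtain ⟨t₂, s₂⟩ : ∃ t : F, Y.toBlocks₁₂ = t • mP F := ⟨_, shape_pm hq p2 d2⟩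
    obtain ⟨t₃, s₃⟩ : ∃ t : F, Y.toBlocks₂₁ = t • mP F := ⟨_, shape_pm hq p3 d3⟩
    obtain ⟨t₄, s₄⟩ : ∃ t : F, Y.toBlocks₂₂ = t • mP F := ⟨_, shape_pm hq p4 d4⟩
    refine mem_Rstd_of_kb hq y hy h1 !![t₁, t₂; t₃, t₄] (mP F) inO_mP 0 1 (mP_ne F) ?_
    rw [kb_of, ← s₁, ← s₂, ← s₃, ← s₄, Matrix.fromBlocks_toBlocks]
  · obtain ⟨t₁, s₁⟩ : ∃ t : F, Y.toBlocks₁₁ = t • mD F := ⟨_, shape_mp hq p1 d1⟩
    obtain ⟨t₂, s₂⟩ : ∃ t : F, Y.toBlocks₁₂ = t • mD F := ⟨_, shape_mp hq p2 d2⟩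
    obtain ⟨t₃, s₃⟩ : ∃ t : F, Y.toBlocks₂₁ = t • mD F := ⟨_, shape_mp hq p3 d3⟩
    obtain ⟨t₄, s₄⟩ : ∃ t : F, Y.toBlocks₂₂ = t • mD F := ⟨_, shape_mp hq p4 d4⟩
    refine mem_Rstd_of_kb hq y hy h1 !![t₁, t₂; t₃, t₄] (mD F) inO_mD 0 0 (mD_ne F) ?_
    rw [kb_of, ← s₁, ← s₂, ← s₃, ← s₄, Matrix.fromBlocks_toBlocks]
  · obtain ⟨t₁, s₁⟩ : ∃ t : F, Y.toBlocks₁₁ = t • mE F := ⟨_, shape_mm hq p1 d1⟩
    obtain ⟨t₂, s₂⟩ : ∃ t : F, Y.toBlocks₁₂ = t • mE F := ⟨_, shape_mm hq p2 d2⟩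
    obtain ⟨t₃, s₃⟩ : ∃ t : F, Y.toBlocks₂₁ = t • mE F := ⟨_, shape_mm hq p3 d3⟩
    obtain ⟨t₄, s₄⟩ : ∃ t : F, Y.toBlocks₂₂ = t • mE F := ⟨_, shape_mm hq p4 d4⟩
    refine mem_Rstd_of_kb hq y hy h1 !![t₁, t₂; t₃, t₄] (mE F) inO_mE 0 1 (mE_ne F) ?_
    rw [kb_of, ← s₁, ← s₂, ← s₃, ← s₄, Matrix.fromBlocks_toBlocks]

end beta

section alpha

theorem kb_mρ_left {A : Type*} [CommRing A] (a : Matrix (Fin 2) (Fin 2) A) :
    kb (mρ A) a = Matrix.fromBlocks 0 (-a) a 0 := by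
  unfold kb mρ
  simp

/-- **(α)**: a symplectic matrix commuting with `J` whose square is `± 1` lies in the standard
group -/
theorem mem_Rstd_of_comm_J (hq : Fintype.card F = 3) (z : GL (Fin 2 ⊕ Fin 2) F)
    (hz : z ∈ spGL 2 F)
    (h1 : (z : Matrix (Fin 2 ⊕ Fin 2) (Fin 2 ⊕ Fin 2) F) * Matrix.J (Fin 2) F =
      Matrix.J (Fin 2) F * z)
    (h2 : (z : Matrix (Fin 2 ⊕ Fin 2) (Fin 2 ⊕ Fin 2) F) * z = 1 ∨
      (z : Matrix (Fin 2 ⊕ Fin 2) (Fin 2 ⊕ Fin 2) F) * z = -1) : z ∈ Rstd hq := by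
  have hsp := (mem_spGL_iff_matrix z).1 hz
  -- `zᵀ z = 1`
  have horth : (z : Matrix (Fin 2 ⊕ Fin 2) (Fin 2 ⊕ Fin 2) F)ᵀ * z = 1 := by
    have e1 : (z : Matrix (Fin 2 ⊕ Fin 2) (Fin 2 ⊕ Fin 2) F)ᵀ * z * Matrix.J (Fin 2) F =
        Matrix.J (Fin 2) F := by
      rw [Matrix.mul_assoc, h1, ← Matrix.mul_assoc]
      exact hsp
    have e2 := congrArg (fun M => M * (-Matrix.J (Fin 2) F)) e1
    simp only [Matrix.mul_assoc, Matrix.mul_neg, Matrix.J_squared, neg_neg, Matrix.mul_one] at e2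
    exact e2
  obtain ⟨A, B, C, D, hZ⟩ : ∃ A B C D, (z : Matrix (Fin 2 ⊕ Fin 2) (Fin 2 ⊕ Fin 2) F) =
      Matrix.fromBlocks A B C D := ⟨_, _, _, _, (Matrix.fromBlocks_toBlocks _).symm⟩
  rw [hZ] at h1 h2 horth
  unfold Matrix.J at h1
  rw [Matrix.fromBlocks_multiply, Matrix.fromBlocks_multiply, Matrix.fromBlocks_inj] at h1
  simp only [Matrix.mul_zero, Matrix.mul_one, Matrix.mul_neg, Matrix.zero_mul, Matrix.one_mul,
    Matrix.neg_mul, zero_add, add_zero] at h1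
  obtain ⟨hB, -, hD, -⟩ := h1
  rw [hB, hD] at hZ h2 horth
  rw [Matrix.fromBlocks_transpose, Matrix.fromBlocks_multiply, ← Matrix.fromBlocks_one,
    Matrix.fromBlocks_inj] at horth
  obtain ⟨o1, o2, -, -⟩ := horth
  have hsq : (A * A - C * C = 1 ∨ A * A - C * C = -1) ∧ A * C + C * A = 0 := by
    rw [Matrix.fromBlocks_multiply] at h2
    rcases h2 with h | h
    · rw [← Matrix.fromBlocks_one, Matrix.fromBlocks_inj] at h
      obtain ⟨s1, -, s3, -⟩ := h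
      refine ⟨Or.inl ?_, ?_⟩
      · rw [← s1]; simp [sub_eq_add_neg]
      · rw [← s3]; abel
    · rw [← Matrix.fromBlocks_one, Matrix.fromBlocks_neg, Matrix.fromBlocks_inj] at h
      obtain ⟨s1, -, s3, -⟩ := h
      refine ⟨Or.inr ?_, ?_⟩
      · rw [← s1]; simp [sub_eq_add_neg]
      · have : C * A + A * C = 0 := by rw [s3, neg_zero]
        rw [← this]; abel
  have o2' : Aᵀ * C = Cᵀ * A := by
    simp only [Matrix.transpose_neg, Matrix.mul_neg, Matrix.neg_mul] at o2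
    have := o2
    rw [neg_add_eq_zero] at this
    exact this
  have o1' : Aᵀ * A + Cᵀ * C = 1 := o1
  rcases alpha_blocks hq o1' o2' hsq.1 hsq.2 with ⟨hC, hA⟩ | ⟨hA, hC⟩
  · refine ⟨1, A, inQ_one, hA, ?_⟩
    rw [hZ, kb_one_left, hC, neg_zero]
  · refine ⟨mρ F, C, inQ_mρ, hC, ?_⟩
    rw [hZ, kb_mρ_left, hA]

end alpha

section main

/-- commuting up to sign -/
def CSg (a b : GL (Fin 2 ⊕ Fin 2) F) : Prop := a * b = b * a ∨ a * b = -(b * a)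

theorem CSg.val {a b : GL (Fin 2 ⊕ Fin 2) F} (h : CSg a b) :
    (a : Matrix (Fin 2 ⊕ Fin 2) (Fin 2 ⊕ Fin 2) F) * b = b * a ∨
      (a : Matrix (Fin 2 ⊕ Fin 2) (Fin 2 ⊕ Fin 2) F) * b = -(b * a) := by
  rcases h with h | h
  · left
    have := congrArg (fun t : GL (Fin 2 ⊕ Fin 2) F =>
      (t : Matrix (Fin 2 ⊕ Fin 2) (Fin 2 ⊕ Fin 2) F)) h
    simpa using this
  · right
    have := congrArg (fun t : GL (Fin 2 ⊕ Fin 2) F =>
      (t : Matrix (Fin 2 ⊕ Fin 2) (Fin 2 ⊕ Fin 2) F)) h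
    simpa using this

theorem CSg.of_val {a b : GL (Fin 2 ⊕ Fin 2) F}
    (h : (a : Matrix (Fin 2 ⊕ Fin 2) (Fin 2 ⊕ Fin 2) F) * b = b * a ∨
      (a : Matrix (Fin 2 ⊕ Fin 2) (Fin 2 ⊕ Fin 2) F) * b = -(b * a)) : CSg a b := by
  rcases h with h | h
  · left
    apply Units.ext
    rw [Units.val_mul, Units.val_mul, h]
  · right
    apply Units.ext
    rw [Units.val_mul, Units.val_neg, Units.val_mul, h]

theorem CSg.conj {a b : GL (Fin 2 ⊕ Fin 2) F} (g : GL (Fin 2 ⊕ Fin 2) F) (h : CSg a b) :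
    CSg (g * a * g⁻¹) (g * b * g⁻¹) := by
  have e1 : g * a * g⁻¹ * (g * b * g⁻¹) = g * (a * b) * g⁻¹ := by group
  have e2 : g * b * g⁻¹ * (g * a * g⁻¹) = g * (b * a) * g⁻¹ := by group
  rcases h with h | h
  · left
    rw [e1, e2, h]
  · right
    rw [e1, e2, h, mul_neg, neg_mul]

theorem CSg.inv_left {g j : GL (Fin 2 ⊕ Fin 2) F} (h : CSg g j) : CSg g⁻¹ j := by
  rcases h with h | h
  · left
    rw [inv_mul_eq_iff_eq_mul, ← mul_assoc, h, mul_assoc, mul_inv_cancel, mul_one]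
  · right
    rw [inv_mul_eq_iff_eq_mul, mul_neg, ← mul_assoc, h, neg_mul, neg_neg, mul_assoc,
      mul_inv_cancel, mul_one]

theorem CSg.conj_eq {g j : GL (Fin 2 ⊕ Fin 2) F} (h : CSg g j) :
    g⁻¹ * j * g = j ∨ g⁻¹ * j * g = -j := by
  rcases h.inv_left with h | h
  · left
    rw [h, mul_assoc, inv_mul_cancel, mul_one]
  · right
    rw [h, neg_mul, mul_assoc, inv_mul_cancel, mul_one]

theorem Rstd_neg_mem (hq : Fintype.card F = 3) {x : GL (Fin 2 ⊕ Fin 2) F} (hx : x ∈ Rstd hq) :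
    -x ∈ Rstd hq := by
  have : -x = (-1) * x := by rw [neg_mul, one_mul]
  rw [this]
  exact (Rstd hq).mul_mem (neg_one_mem_Rstd hq) hx

theorem mP_mul_mP {A : Type*} [CommRing A] : mP A * mP A = 1 := by
  unfold mP
  ext i j
  fin_cases i <;> fin_cases j <;> simp [Matrix.mul_apply, Fin.sum_univ_two]

theorem mD_mul_mD {A : Type*} [CommRing A] : mD A * mD A = 1 := by
  unfold mD
  ext i j
  fin_cases i <;> fin_cases j <;> simp [Matrix.mul_apply, Fin.sum_univ_two]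

/-- the preimage under conjugation of an involution `1 ⊗ a` of the standard group commuting with
`J` lies in the standard group -/
theorem conj_inv_mem (hq : Fintype.card F = 3) (g : GL (Fin 2 ⊕ Fin 2) F) (hg : g ∈ spGL 2 F)
    (jg : GL (Fin 2 ⊕ Fin 2) F)
    (hj : (jg : Matrix (Fin 2 ⊕ Fin 2) (Fin 2 ⊕ Fin 2) F) = Matrix.J (Fin 2) F)
    (hgJ : CSg g jg) (p : GL (Fin 2 ⊕ Fin 2) F) (hp : p ∈ Rstd hq) (hpJ : p * jg = jg * p)
    (hpp : p * p = 1) : g⁻¹ * p * g ∈ Rstd hq := by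
  apply mem_Rstd_of_comm_J hq
  · exact (spGL 2 F).mul_mem ((spGL 2 F).mul_mem ((spGL 2 F).inv_mem hg) (Rstd_le_spGL hq hp)) hg
  · have e1 : g⁻¹ * p * g * (g⁻¹ * jg * g) = (g⁻¹ * jg * g) * (g⁻¹ * p * g) := by
      have a1 : g⁻¹ * p * g * (g⁻¹ * jg * g) = g⁻¹ * (p * jg) * g := by group
      have a2 : (g⁻¹ * jg * g) * (g⁻¹ * p * g) = g⁻¹ * (jg * p) * g := by group
      rw [a1, a2, hpJ]
    have e2 : g⁻¹ * p * g * jg = jg * (g⁻¹ * p * g) := by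
      rcases hgJ.conj_eq with h | h
      · rw [h] at e1
        exact e1
      · rw [h, mul_neg, neg_mul, neg_inj] at e1
        exact e1
    have := congrArg (fun t : GL (Fin 2 ⊕ Fin 2) F =>
      (t : Matrix (Fin 2 ⊕ Fin 2) (Fin 2 ⊕ Fin 2) F)) e2
    simp only [Units.val_mul, hj] at this
    rw [← hj]
    simpa [hj] using this
  · left
    have e : g⁻¹ * p * g * (g⁻¹ * p * g) = 1 := by
      have a1 : g⁻¹ * p * g * (g⁻¹ * p * g) = g⁻¹ * (p * p) * g := by group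
      rw [a1, hpp]
      group
    have := congrArg (fun t : GL (Fin 2 ⊕ Fin 2) F =>
      (t : Matrix (Fin 2 ⊕ Fin 2) (Fin 2 ⊕ Fin 2) F)) e
    simpa using this

/-- conjugation by a symplectic matrix commuting up to sign with `J` maps the standard group into
itself -/
theorem conj_mem_Rstd (hq : Fintype.card F = 3) (g : GL (Fin 2 ⊕ Fin 2) F) (hg : g ∈ spGL 2 F)
    (jg : GL (Fin 2 ⊕ Fin 2) F) (hjR : jg ∈ Rstd hq)
    (hj : (jg : Matrix (Fin 2 ⊕ Fin 2) (Fin 2 ⊕ Fin 2) F) = Matrix.J (Fin 2) F)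
    (hgJ : CSg g jg) (x : GL (Fin 2 ⊕ Fin 2) F) (hx : x ∈ Rstd hq) :
    g * x * g⁻¹ ∈ Rstd hq := by
  -- the two involutions
  obtain ⟨p, hp, hpe⟩ := exists_mem_Rstd hq (inQ_one (A := F)) (inO_mP (A := F))
  obtain ⟨d, hd, hde⟩ := exists_mem_Rstd hq (inQ_one (A := F)) (inO_mD (A := F))
  have hpJ : p * jg = jg * p := by
    apply Units.ext
    rw [Units.val_mul, Units.val_mul, hpe, hj, ← kb_mρ_one, kb_mul, kb_mul, Matrix.one_mul,
      Matrix.mul_one, Matrix.one_mul, Matrix.mul_one]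
  have hdJ : d * jg = jg * d := by
    apply Units.ext
    rw [Units.val_mul, Units.val_mul, hde, hj, ← kb_mρ_one, kb_mul, kb_mul, Matrix.one_mul,
      Matrix.mul_one, Matrix.one_mul, Matrix.mul_one]
  have hpp : p * p = 1 := by
    apply Units.ext
    rw [Units.val_mul, hpe, kb_mul, Matrix.one_mul, mP_mul_mP, kb_one, Units.val_one]
  have hdd : d * d = 1 := by
    apply Units.ext
    rw [Units.val_mul, hde, kb_mul, Matrix.one_mul, mD_mul_mD, kb_one, Units.val_one]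
  have hp' := conj_inv_mem hq g hg jg hj hgJ p hp hpJ hpp
  have hd' := conj_inv_mem hq g hg jg hj hgJ d hd hdJ hdd
  have hj' : g⁻¹ * jg * g ∈ Rstd hq := by
    rcases hgJ.conj_eq with h | h
    · rw [h]; exact hjR
    · rw [h]; exact Rstd_neg_mem hq hjR
  -- the three commutation relations
  have c1 : CSg (g * x * g⁻¹) jg := by
    have := (CSg.of_val (Rstd_comm hq hx hj')).conj g
    have e : g * (g⁻¹ * jg * g) * g⁻¹ = jg := by group
    rwa [e] at this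
  have c2 : CSg (g * x * g⁻¹) p := by
    have := (CSg.of_val (Rstd_comm hq hx hp')).conj g
    have e : g * (g⁻¹ * p * g) * g⁻¹ = p := by group
    rwa [e] at this
  have c3 : CSg (g * x * g⁻¹) d := by
    have := (CSg.of_val (Rstd_comm hq hx hd')).conj g
    have e : g * (g⁻¹ * d * g) * g⁻¹ = d := by group
    rwa [e] at this
  apply mem_Rstd_of_CS hq
  · exact (spGL 2 F).mul_mem ((spGL 2 F).mul_mem hg (Rstd_le_spGL hq hx)) ((spGL 2 F).inv_mem hg)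
  · have := c1.val
    rwa [hj] at this
  · have := c2.val
    rwa [hpe] at this
  · have := c3.val
    rwa [hde] at this

/-- **the normaliser**: every symplectic matrix commuting or anticommuting with `J` normalises the
standard group -/
theorem mem_normalizer_Rstd (hq : Fintype.card F = 3) (g : GL (Fin 2 ⊕ Fin 2) F)
    (hg : g ∈ spGL 2 F)
    (hgJ : (g : Matrix (Fin 2 ⊕ Fin 2) (Fin 2 ⊕ Fin 2) F) * Matrix.J (Fin 2) F =
        Matrix.J (Fin 2) F * g ∨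
      (g : Matrix (Fin 2 ⊕ Fin 2) (Fin 2 ⊕ Fin 2) F) * Matrix.J (Fin 2) F =
        -(Matrix.J (Fin 2) F * g)) :
    g ∈ subgroupNormalizer (Rstd hq) := by
  obtain ⟨jg, hjR, hj⟩ := exists_J_mem hq
  have hcs : CSg g jg := by
    apply CSg.of_val
    rw [hj]
    exact hgJ
  unfold subgroupNormalizer
  rw [Subgroup.mem_normalizer_iff]
  intro x
  constructor
  · intro hx
    exact conj_mem_Rstd hq g hg jg hjR hj hcs x hx
  · intro hx
    have := conj_mem_Rstd hq g⁻¹ ((spGL 2 F).inv_mem hg) jg hjR hj hcs.inv_left _ hx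
    have e : g⁻¹ * (g * x * g⁻¹) * g⁻¹⁻¹ = x := by group
    rwa [e] at this

end main

end Cfsg.Agent.Lib.H1.AschSP2
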