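/-
SYMPLECTIC PHASE 2, stretch task SP2-S2 (helper1): the normaliser in `Sp₄(3)` of a quadratic
extension field `K = F₉` of unitary type lies in the normaliser of an extraspecial group
`2^{1+4}_-` (exact signature of `tools/blueprints/SP2S_sigs.lean`).
Uses helper23's analysis of `K` (`Lib/H23/SpUB, SpUC, SpUD`).
-/
import Cfsg.Agent.Lib.H1.AschSP2S2e
import Cfsg.Agent.Lib.H23.SpUD
import Cfsg.Agent.Lib.H8.AschM5

set_option autoImplicit false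
set_option linter.unusedSectionVars false
set_option linter.unusedSimpArgs false

namespace Cfsg.Agent.Lib.H1.AschSP2

open Cfsg Cfsg.Geo Matrix Cfsg.Agent.Lib.H11.AschS Cfsg.Agent.Lib.H23.SpU
open scoped MatrixGroups

variable {F : Type*} [Field F] [Fintype F]

/-! ### conjugation invariance of the class-6 data -/

section conj

/-- the conjugate subgroup -/
def conjSub (S : GL (Fin 2 ⊕ Fin 2) F) (R : Subgroup (GL (Fin 2 ⊕ Fin 2) F)) :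
    Subgroup (GL (Fin 2 ⊕ Fin 2) F) :=
  R.map (MulAut.conj S).toMonoidHom

theorem mem_conjSub (S : GL (Fin 2 ⊕ Fin 2) F) (R : Subgroup (GL (Fin 2 ⊕ Fin 2) F))
    (y : GL (Fin 2 ⊕ Fin 2) F) : y ∈ conjSub S R ↔ ∃ x ∈ R, S * x * S⁻¹ = y := by
  unfold conjSub
  rw [Subgroup.mem_map]
  rfl

/-- the isomorphism onto the conjugate -/
noncomputable def conjSubEquiv (S : GL (Fin 2 ⊕ Fin 2) F) (R : Subgroup (GL (Fin 2 ⊕ Fin 2) F)) :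
    ↥(conjSub S R) ≃* ↥R :=
  (R.equivMapOfInjective (MulAut.conj S).toMonoidHom (MulAut.conj S).injective).symm

theorem absIrr_conjSub (S : GL (Fin 2 ⊕ Fin 2) F) (R : Subgroup (GL (Fin 2 ⊕ Fin 2) F))
    (h : ActsAbsolutelyIrreducibly (matrixSet R)) :
    ActsAbsolutelyIrreducibly (matrixSet (conjSub S R)) := by
  have hSS : ((S⁻¹ : GL (Fin 2 ⊕ Fin 2) F) : Matrix (Fin 2 ⊕ Fin 2) (Fin 2 ⊕ Fin 2) F) *
      (S : Matrix (Fin 2 ⊕ Fin 2) (Fin 2 ⊕ Fin 2) F) = 1 := by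
    rw [← Units.val_mul, inv_mul_cancel, Units.val_one]
  have hSS' : (S : Matrix (Fin 2 ⊕ Fin 2) (Fin 2 ⊕ Fin 2) F) *
      ((S⁻¹ : GL (Fin 2 ⊕ Fin 2) F) : Matrix (Fin 2 ⊕ Fin 2) (Fin 2 ⊕ Fin 2) F) = 1 := by
    rw [← Units.val_mul, mul_inv_cancel, Units.val_one]
  refine Cfsg.Agent.Lib.H8.Asch.actsAbsolutelyIrreducibly_transfer
    (Matrix.toLin'OfInv hSS' hSS) _ (matrixSet R) ?_ h
  rintro _ ⟨x, hx, rfl⟩
  refine ⟨((S * x * S⁻¹ : GL (Fin 2 ⊕ Fin 2) F) :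
    Matrix (Fin 2 ⊕ Fin 2) (Fin 2 ⊕ Fin 2) F), ⟨S * x * S⁻¹, ?_, rfl⟩, ?_⟩
  · exact (mem_conjSub S R _).2 ⟨x, hx, rfl⟩
  · intro v
    have hφ : ∀ w : Fin 2 ⊕ Fin 2 → F, (Matrix.toLin'OfInv hSS' hSS) w =
        ((S⁻¹ : GL (Fin 2 ⊕ Fin 2) F) : Matrix (Fin 2 ⊕ Fin 2) (Fin 2 ⊕ Fin 2) F) *ᵥ w := by
      intro w
      ext i
      rw [Matrix.toLin'OfInv_apply, Matrix.toLin'_apply]
    rw [hφ, hφ]
    show ((S⁻¹ : GL (Fin 2 ⊕ Fin 2) F) : Matrix (Fin 2 ⊕ Fin 2) (Fin 2 ⊕ Fin 2) F) *ᵥ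
      (((S * x * S⁻¹ : GL (Fin 2 ⊕ Fin 2) F) : Matrix (Fin 2 ⊕ Fin 2) (Fin 2 ⊕ Fin 2) F) *ᵥ v) =
      (x : Matrix (Fin 2 ⊕ Fin 2) (Fin 2 ⊕ Fin 2) F) *ᵥ
        (((S⁻¹ : GL (Fin 2 ⊕ Fin 2) F) : Matrix (Fin 2 ⊕ Fin 2) (Fin 2 ⊕ Fin 2) F) *ᵥ v)
    rw [Matrix.mulVec_mulVec, Matrix.mulVec_mulVec, Units.val_mul,
      Units.val_mul, ← Matrix.mul_assoc, ← Matrix.mul_assoc, hSS, Matrix.one_mul]

theorem spGL_le_similarity : spGL 2 F ≤ similarityGroup (sympForm 2 F) := by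
  intro x hx
  refine ⟨1, fun u v => ?_⟩
  rw [Units.val_one, one_mul]
  exact hx u v

theorem c6Data_conjSub (S : GL (Fin 2 ⊕ Fin 2) F) (hS : S ∈ spGL 2 F)
    (R : Subgroup (GL (Fin 2 ⊕ Fin 2) F)) (h : Cfsg.Agent.Lib.H9.AschSP2.C6Data 2 2 F R) :
    Cfsg.Agent.Lib.H9.AschSP2.C6Data 2 2 F (conjSub S R) := by
  obtain ⟨h1, h2, h3, h4, h5, h6, h7⟩ := h
  refine ⟨isSymplecticTypeGroup_of_equiv 2 R (conjSub S R) (conjSubEquiv S R) h1,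
    absIrr_conjSub S R h2, ?_, ?_, ?_, isOfMinusType_of_equiv 2 R (conjSub S R) (conjSubEquiv S R) h6,
    ?_⟩
  · intro y hy
    obtain ⟨x, hx, rfl⟩ := (mem_conjSub S R y).1 hy
    exact Subgroup.mul_mem _ (Subgroup.mul_mem _ (spGL_le_similarity hS) (h3 hx))
      (Subgroup.inv_mem _ (spGL_le_similarity hS))
  · rw [Nat.card_congr (conjSubEquiv S R).toEquiv]; exact h4
  · rw [Nat.card_congr (Subgroup.centerCongr (conjSubEquiv S R)).toEquiv]; exact h5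
  · intro y hy y' hy'
    obtain ⟨x, hx, rfl⟩ := (mem_conjSub S R y).1 hy
    obtain ⟨x', hx', rfl⟩ := (mem_conjSub S R y').1 hy'
    have e : S * x * S⁻¹ * (S * x' * S⁻¹) * (S * x * S⁻¹)⁻¹ * (S * x' * S⁻¹)⁻¹ =
        S * (x * x' * x⁻¹ * x'⁻¹) * S⁻¹ := by group
    rw [e]
    exact (scalars_normal (ι := Fin 2 ⊕ Fin 2) (F := F)).conj_mem _ (h7 x hx x' hx') S

theorem mem_conjSub_inv (T : GL (Fin 2 ⊕ Fin 2) F) (R : Subgroup (GL (Fin 2 ⊕ Fin 2) F))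
    (y : GL (Fin 2 ⊕ Fin 2) F) : y ∈ conjSub T⁻¹ R ↔ T * y * T⁻¹ ∈ R := by
  rw [mem_conjSub]
  constructor
  · rintro ⟨x, hx, rfl⟩
    have e : T * (T⁻¹ * x * T⁻¹⁻¹) * T⁻¹ = x := by group
    rw [e]
    exact hx
  · intro h
    exact ⟨T * y * T⁻¹, h, by group⟩

end conj

/-! ### the standard unitary structure -/

section final

theorem delta_eq (hq : Fintype.card F = 3) {δ : F} (h : ∀ c : F, c * c ≠ δ) : δ = -1 := by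
  have key : ∀ δ : ZMod 3, (∀ c : ZMod 3, c * c ≠ δ) → δ = -1 := by decide
  have h1 := key (phi3 hq δ) (by
    intro c hc
    apply h ((phi3 hq).symm c)
    apply (phi3 hq).injective
    rw [map_mul, RingEquiv.apply_symm_apply, hc])
  apply (phi3 hq).injective
  rw [h1, map_neg, map_one]

theorem J_sq' : Matrix.J (Fin 2) F * Matrix.J (Fin 2) F =
    (-1 : F) • (1 : Matrix (Fin 2 ⊕ Fin 2) (Fin 2 ⊕ Fin 2) F) := by
  rw [Matrix.J_squared]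
  simp

theorem adj_J (hq : Fintype.card F = 3) :
    Adj (Matrix.J (Fin 2) F) (-Matrix.J (Fin 2) F) := by
  intro u v
  obtain ⟨jg, hjR, hj⟩ := exists_J_mem hq
  have h := (mem_spGL_iff_matrix jg).1 (Rstd_le_spGL hq hjR)
  rw [hj] at h
  have hv : v = Matrix.J (Fin 2) F *ᵥ ((-Matrix.J (Fin 2) F) *ᵥ v) := by
    rw [Matrix.mulVec_mulVec, Matrix.mul_neg, Matrix.J_squared, neg_neg, Matrix.one_mulVec]
  conv_lhs => rw [hv]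
  rw [sympForm_mulVec, h]
  rfl

/-- **SP2-S2** (exact signature of `tools/blueprints/SP2S_sigs.lean`). -/
theorem c3b_q3_m2 (hq : Fintype.card F = 3)
    (K : Subalgebra F (Matrix (Fin 2 ⊕ Fin 2) (Fin 2 ⊕ Fin 2) F)) (hK : IsFieldSubalgebra 2 K)
    (hac : IsAdjointClosedFor (sympForm 2 F) K) (hns : ¬ IsSelfAdjointFor (sympForm 2 F) K) :
    ∃ R : Subgroup (GL (Fin 2 ⊕ Fin 2) F), Cfsg.Agent.Lib.H9.AschSP2.C6Data 2 2 F R ∧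
      subalgebraNormalizer K ⊓ spGL 2 F ≤ subgroupNormalizer R := by
  have h2 := two_ne_zero' hq
  obtain ⟨α, δ, hKD⟩ := exists_alpha (by norm_num) h2 K hK hac hns
  have hδ : δ = -1 := delta_eq hq hKD.nsq
  have hodd : Fintype.card F % 2 = 1 := by rw [hq]
  obtain ⟨T, hT, hTα⟩ := exists_sp_conj hodd h2 α (Matrix.J (Fin 2) F) δ hKD.delta_ne hKD.sq
    hKD.skew (by rw [hδ]; exact J_sq') (adj_J hq)
  refine ⟨conjSub T⁻¹ (Rstd hq),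
    c6Data_conjSub T⁻¹ ((spGL 2 F).inv_mem hT) _ (Rstd_c6Data hq), ?_⟩
  rintro g ⟨hgK, hgS⟩
  have hTT : (T : Matrix (Fin 2 ⊕ Fin 2) (Fin 2 ⊕ Fin 2) F) *
      ((T⁻¹ : GL (Fin 2 ⊕ Fin 2) F) : Matrix (Fin 2 ⊕ Fin 2) (Fin 2 ⊕ Fin 2) F) = 1 := by
    rw [← Units.val_mul, mul_inv_cancel, Units.val_one]
  have hTT' : ((T⁻¹ : GL (Fin 2 ⊕ Fin 2) F) : Matrix (Fin 2 ⊕ Fin 2) (Fin 2 ⊕ Fin 2) F) *
      (T : Matrix (Fin 2 ⊕ Fin 2) (Fin 2 ⊕ Fin 2) F) = 1 := by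
    rw [← Units.val_mul, inv_mul_cancel, Units.val_one]
  have hTi : ((T⁻¹ : GL (Fin 2 ⊕ Fin 2) F) : Matrix (Fin 2 ⊕ Fin 2) (Fin 2 ⊕ Fin 2) F) *
      Matrix.J (Fin 2) F = α * ((T⁻¹ : GL (Fin 2 ⊕ Fin 2) F) :
        Matrix (Fin 2 ⊕ Fin 2) (Fin 2 ⊕ Fin 2) F) := by
    calc ((T⁻¹ : GL (Fin 2 ⊕ Fin 2) F) : Matrix (Fin 2 ⊕ Fin 2) (Fin 2 ⊕ Fin 2) F) *
          Matrix.J (Fin 2) F
        = ((T⁻¹ : GL (Fin 2 ⊕ Fin 2) F) : Matrix (Fin 2 ⊕ Fin 2) (Fin 2 ⊕ Fin 2) F) *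
          (Matrix.J (Fin 2) F * T) * ((T⁻¹ : GL (Fin 2 ⊕ Fin 2) F) :
            Matrix (Fin 2 ⊕ Fin 2) (Fin 2 ⊕ Fin 2) F) := by
          rw [Matrix.mul_assoc, Matrix.mul_assoc, hTT, Matrix.mul_one]
      _ = α * ((T⁻¹ : GL (Fin 2 ⊕ Fin 2) F) : Matrix (Fin 2 ⊕ Fin 2) (Fin 2 ⊕ Fin 2) F) := by
          rw [← hTα, ← Matrix.mul_assoc, hTT', Matrix.one_mul]
  have hg' : T * g * T⁻¹ ∈ subgroupNormalizer (Rstd hq) := by
    apply mem_normalizer_Rstd hq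
    · exact (spGL 2 F).mul_mem ((spGL 2 F).mul_mem hT hgS) ((spGL 2 F).inv_mem hT)
    · rw [Units.val_mul, Units.val_mul]
      rcases (hKD.mem_normalizer_iff (by norm_num) h2 g).1 hgK with h | h
      · left
        calc (T : Matrix (Fin 2 ⊕ Fin 2) (Fin 2 ⊕ Fin 2) F) * g * (T⁻¹ : GL (Fin 2 ⊕ Fin 2) F) *
              Matrix.J (Fin 2) F
            = (T : Matrix (Fin 2 ⊕ Fin 2) (Fin 2 ⊕ Fin 2) F) * g *
              (((T⁻¹ : GL (Fin 2 ⊕ Fin 2) F) : Matrix (Fin 2 ⊕ Fin 2) (Fin 2 ⊕ Fin 2) F) *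
                Matrix.J (Fin 2) F) := by simp only [Matrix.mul_assoc]
          _ = (T : Matrix (Fin 2 ⊕ Fin 2) (Fin 2 ⊕ Fin 2) F) *
              ((g : Matrix (Fin 2 ⊕ Fin 2) (Fin 2 ⊕ Fin 2) F) * α) *
                (T⁻¹ : GL (Fin 2 ⊕ Fin 2) F) := by rw [hTi]; simp only [Matrix.mul_assoc]
          _ = ((T : Matrix (Fin 2 ⊕ Fin 2) (Fin 2 ⊕ Fin 2) F) * α) * g *
                (T⁻¹ : GL (Fin 2 ⊕ Fin 2) F) := by rw [h]; simp only [Matrix.mul_assoc]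
          _ = Matrix.J (Fin 2) F * ((T : Matrix (Fin 2 ⊕ Fin 2) (Fin 2 ⊕ Fin 2) F) * g *
                (T⁻¹ : GL (Fin 2 ⊕ Fin 2) F)) := by rw [hTα]; simp only [Matrix.mul_assoc]
      · right
        calc (T : Matrix (Fin 2 ⊕ Fin 2) (Fin 2 ⊕ Fin 2) F) * g * (T⁻¹ : GL (Fin 2 ⊕ Fin 2) F) *
              Matrix.J (Fin 2) F
            = (T : Matrix (Fin 2 ⊕ Fin 2) (Fin 2 ⊕ Fin 2) F) * g *
              (((T⁻¹ : GL (Fin 2 ⊕ Fin 2) F) : Matrix (Fin 2 ⊕ Fin 2) (Fin 2 ⊕ Fin 2) F) *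
                Matrix.J (Fin 2) F) := by simp only [Matrix.mul_assoc]
          _ = (T : Matrix (Fin 2 ⊕ Fin 2) (Fin 2 ⊕ Fin 2) F) *
              ((g : Matrix (Fin 2 ⊕ Fin 2) (Fin 2 ⊕ Fin 2) F) * α) *
                (T⁻¹ : GL (Fin 2 ⊕ Fin 2) F) := by rw [hTi]; simp only [Matrix.mul_assoc]
          _ = -(((T : Matrix (Fin 2 ⊕ Fin 2) (Fin 2 ⊕ Fin 2) F) * α) * g *
                (T⁻¹ : GL (Fin 2 ⊕ Fin 2) F)) := by
              rw [h]; simp only [Matrix.mul_assoc, Matrix.mul_neg, Matrix.neg_mul]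
          _ = -(Matrix.J (Fin 2) F * ((T : Matrix (Fin 2 ⊕ Fin 2) (Fin 2 ⊕ Fin 2) F) * g *
                (T⁻¹ : GL (Fin 2 ⊕ Fin 2) F))) := by rw [hTα]; simp only [Matrix.mul_assoc]
  unfold subgroupNormalizer at hg' ⊢
  rw [Subgroup.mem_normalizer_iff] at hg' ⊢
  intro y
  rw [mem_conjSub_inv, mem_conjSub_inv]
  have e : T * (g * y * g⁻¹) * T⁻¹ = T * g * T⁻¹ * (T * y * T⁻¹) * (T * g * T⁻¹)⁻¹ := by group
  rw [e]
  exact hg' (T * y * T⁻¹)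

end final

end Cfsg.Agent.Lib.H1.AschSP2
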