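/-
S5663 / mini-project U9, task U9-M7 (helper1): `utame_of_sympCore` with `Good H` replaced by its only
consequence that is used (abelian subgroups of `R` normalised by `H` are scalar), and with the landed
tools UT5 / UT5' (helper25) plugged in.
-/
import Cfsg.Agent.Lib.H1.AschUM7a
import Cfsg.Agent.Lib.H25.AschUT5
import Cfsg.Agent.Lib.H25.AschUT5p

set_option autoImplicit false

namespace Cfsg.Agent.Lib.H1.Asch

open Cfsg Cfsg.Geo Cfsg.Agent.Lib.Lead.Asch Cfsg.Agent.Lib.H25.Asch
open scoped MatrixGroups Matrix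

variable {F : Type*} [Field F] [Fintype F] {n q : ℕ}

namespace SympCore

variable {H R : Subgroup (GL (Fin n) F)} {r : ℕ}

theorem cyclic_of_characteristic_of_char (hc : SympCore H R r)
    (hchar : ∀ A : Subgroup (GL (Fin n) F), A ≤ R → NormalizedBy H A →
      (∀ x ∈ A, ∀ y ∈ A, x * y = y * x) → A ≤ scalars (Fin n) F)
    (A : Subgroup ↥R) (hA : A.Characteristic) (hcomm : IsMulCommutative A) : IsCyclic A := by
  set A' : Subgroup (GL (Fin n) F) := A.map R.subtype with hA'
  have hA'R : A' ≤ R := by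
    rintro _ ⟨a, _, rfl⟩
    exact a.2
  have hnorm : NormalizedBy H A' := by
    rintro h hh _ ⟨a, ha, rfl⟩
    have h1 := (Subgroup.characteristic_iff_map_eq.1 hA) (conjEquiv hc.norm h hh)
    have h2 : (conjEquiv hc.norm h hh) a ∈ A := by
      rw [← h1]
      exact ⟨a, ha, rfl⟩
    exact ⟨_, h2, rfl⟩
  have hab : ∀ x ∈ A', ∀ y ∈ A', x * y = y * x := by
    rintro _ ⟨a, ha, rfl⟩ _ ⟨b, hb, rfl⟩
    have := hcomm.is_comm.comm (⟨a, ha⟩ : ↥A) ⟨b, hb⟩
    have h2 := congrArg (fun t : ↥A => ((t : ↥R) : GL (Fin n) F)) this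
    simpa using h2
  have hA'Z : A' ≤ scalars (Fin n) F := hchar A' hA'R hnorm hab
  have : IsCyclic ↥A' := Subgroup.isCyclic_of_le hA'Z
  exact isCyclic_of_injective (A.equivMapOfInjective R.subtype R.subtype_injective).toMonoidHom
    (A.equivMapOfInjective R.subtype R.subtype_injective).injective

theorem isSymplecticTypeGroup_of_char (hc : SympCore H R r)
    (hchar : ∀ A : Subgroup (GL (Fin n) F), A ≤ R → NormalizedBy H A →
      (∀ x ∈ A, ∀ y ∈ A, x * y = y * x) → A ≤ scalars (Fin n) F) (hn : 2 ≤ n) :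
    IsSymplecticTypeGroup r R where
  prime := hc.prime
  pGroup := hc.isPGroup
  cyclic_of_characteristic := hc.cyclic_of_characteristic_of_char hchar
  exponent_eq := hc.exponent_eq hn

end SympCore

/-- `utame_of_sympCore` with the symplectic type of `R` as a hypothesis (instead of `Good H`). -/
theorem utame_of_sympCore_of_type (hF : Fintype.card F = q ^ 2) (hn : 3 ≤ n) (H R : Subgroup (GL (Fin n) F))
    (hH : H ≤ GU n F q) (r : ℕ) (hc : SympCore H R r) (hsympl : IsSymplecticTypeGroup r R)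
    (hT5 : UT5Stmt q H) (hT5p : UT5pStmt q H) : UC5 q H ∨ UC6 q H := by
  classical
  have hn0 : 0 < n := by omega
  have hn2 : 2 ≤ n := by omega
  set z := Nat.card ↥(Subgroup.center ↥R) with hz
  set p := ringChar F with hp'
  have : CharP F p := ringChar.charP F
  obtain ⟨e, hp, hq⟩ := FiniteField.card F p
  have he : 0 < (e : ℕ) := e.pos
  obtain ⟨ζ, hζ⟩ := hc.exists_primitiveRoot hn0
  rw [← hz] at hζ
  have hz0 : 0 < z := Nat.card_pos
  have hζ0 : ζ ≠ 0 := hζ.ne_zero hz0.ne'
  have hzq : z ∣ p ^ (e : ℕ) - 1 := by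
    rw [← hq]
    exact hζ.dvd_of_pow_eq_one _ (FiniteField.pow_card_sub_one_eq_one ζ hζ0)
  obtain ⟨m, hm⟩ := hc.exists_dim_eq_pow hn0
  have hcases := hc.card_center_cases hn2
  rw [← hz] at hcases
  have hrz : r ∣ z := by
    rcases hcases with h | ⟨h1, h2⟩
    · rw [h]; exact dvd_mul_right _ _
    · rw [h2, h1]
  have hrp : r ≠ p := prime_ne_of_dvd r z p e hp hrz hzq he
  have hnF : (n : F) ≠ 0 := by
    rw [hm]; exact natCast_pow_ne_zero p r m hp hc.prime hrp
  have hzF : ((Nat.card ↥(R ⊓ scalars (Fin n) F) : ℕ) : F) ≠ 0 := by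
    rw [← hc.card_center_eq_inf]
    have h1 : z ∣ r ^ 2 := by
      rw [hz]
      refine hc.card_center_dvd.trans ?_
      rcases hc.prime.eq_two_or_odd' with h | h
      · subst h; decide
      · rw [Nat.coprime_two_left.2 h, mul_one, pow_two]; exact dvd_mul_right r r
    obtain ⟨j, _, hj⟩ := (Nat.dvd_prime_pow hc.prime).1 h1
    rw [← hz, hj]
    exact natCast_pow_ne_zero p r j hp hc.prime hrp
  have htr : ∀ x ∈ R, x ∉ scalars (Fin n) F → Matrix.trace (x : Matrix (Fin n) (Fin n) F) = 0 :=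
    fun x hx hxs => hc.trace_eq_zero hx hxs
  have hcardR : Nat.card R = z * n ^ 2 := hc.card_eq hn0
  have hm1 : 1 ≤ m := by
    rcases Nat.eq_zero_or_pos m with h | h
    · rw [h, pow_zero] at hm; omega
    · exact h
  rcases hcases with hzk | ⟨hr2, hz2⟩
  swap
  · -- the centre has order two: an invariant bilinear form
    left
    have hsq : ∀ x ∈ R, x ∈ scalars (Fin n) F → x ^ 2 = 1 := by
      intro x hx hxZ
      have hxc : (⟨x, hx⟩ : ↥R) ∈ Subgroup.center ↥R := (hc.mem_center_iff' _).2 hxZ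
      have h1 : (⟨⟨x, hx⟩, hxc⟩ : ↥(Subgroup.center ↥R)) ^ Nat.card ↥(Subgroup.center ↥R) = 1 :=
        pow_card_eq_one'
      rw [← hz, hz2] at h1
      have := congrArg (fun t : ↥(Subgroup.center ↥R) => ((t : ↥R) : GL (Fin n) F)) h1
      simpa only [Subgroup.coe_pow, Subgroup.coe_one, Subgroup.coe_mk] using this
    obtain ⟨B, hB, hfix⟩ := exists_bilin_of_scalars_sq R htr hsq hnF hzF
    exact Or.inr (hT5p R hc.le hc.norm hc.absIrr B hB hfix)
  · by_cases hsub : ∃ d : ℕ, 0 < d ∧ d < (e : ℕ) ∧ z ∣ p ^ d - 1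
    · -- realisable over a proper subfield
      left
      obtain ⟨d, hd0, hde, hzd⟩ := hsub
      obtain ⟨F₁, hne, hF₁⟩ := exists_proper_subfield (F := F) p e d hp hq hd0 hde
      have hroots : ∀ a : F, a ^ z = 1 → a ∈ F₁ := by
        intro a ha
        exact hF₁ a (pow_eq_self_of_dvd ha (pow_pos hp.pos d) hzd)
      have hreal := realisable_of_pow_eq_one R hc.absIrr.1 hc.comm z hz0
        (fun x hx => by rw [hzk]; exact hc.pow x hx) ζ hζ F₁ hroots
      exact hT5 R hc.le hc.norm hc.absIrr F₁ hne hreal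
    · push Not at hsub
      right
      have hminf : IsMinimalFieldFor z p e F :=
        ⟨hp, inferInstance, hq, hzq, fun d hd0 hde => hsub d hd0 hde⟩
      have hRsim : R ≤ similarityGroup (hermForm n F q) :=
        (hc.le.trans hH).trans GU_le_similarityGroup
      refine ⟨r, R, p, e, m, hsympl, hc.absIrr, hRsim, hrp, hminf, ?_, hc.comm,
        le_subgroupNormalizer hc.norm⟩
      rcases hc.prime.eq_two_or_odd' with hr2 | hrodd
      · -- r = 2, centre of order 4
        right
        subst hr2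
        have hz4 : z = 4 := by rw [hzk]; decide
        have hzq4 : 4 ∣ p ^ (e : ℕ) - 1 := hz4 ▸ hzq
        have he2 : (e : ℕ) = 2 := by
          rcases four_cases p e hp he hzq4 (fun d h1 h2 => hz4 ▸ hsub d h1 h2) with he1 | ⟨he2, _⟩
          · -- impossible: |F| = q ^ 2 is a square
            exfalso
            rw [hq, he1, pow_one] at hF
            have h1 : q ∣ p := by rw [hF, pow_two]; exact dvd_mul_right q q
            rcases (Nat.dvd_prime hp).1 h1 with h | h
            · rw [h, one_pow] at hF; exact hp.one_lt.ne' hF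
            · rw [h] at hF
              have : p * 1 = p * p := by rw [mul_one, ← pow_two]; exact hF
              have := Nat.eq_of_mul_eq_mul_left hp.pos this
              exact hp.one_lt.ne this
          · exact he2
        refine ⟨rfl, he2, hz4, ?_⟩
        rw [hcardR, hz4, hm]; ring
      · -- r odd, centre of order r
        left
        have hzr : z = r := by rw [hzk, Nat.coprime_two_left.2 hrodd, mul_one]
        refine ⟨hrodd, hzr, hm1, ?_⟩
        rw [hcardR, hzr, hm]; ring

/-- **U9-M7**. -/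
theorem utame_of_sympCore_of_char (hF : Fintype.card F = q ^ 2) (hn : 3 ≤ n) (H R : Subgroup (GL (Fin n) F))
    (hH : H ≤ GU n F q) (r : ℕ) (hc : SympCore H R r)
    (hchar : ∀ A : Subgroup (GL (Fin n) F), A ≤ R → NormalizedBy H A →
      (∀ x ∈ A, ∀ y ∈ A, x * y = y * x) → A ≤ scalars (Fin n) F) :
    UC5 q H ∨ UC6 q H :=
  utame_of_sympCore_of_type hF hn H R hH r hc (hc.isSymplecticTypeGroup_of_char hchar (by omega))
    (fun N' hN'H hnorm habs F₁ hne hreal =>
      Cfsg.Agent.Lib.H25.Asch.uc5_of_realisable hF (by omega) H N' hH hN'H hnorm habs F₁ hne hreal)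
    (fun N' hN'H hnorm habs B hB hfix =>
      Cfsg.Agent.Lib.H25.Asch.uc5_of_fixes_bilin hF (by omega) H N' hH hN'H hnorm habs B hB hfix)

end Cfsg.Agent.Lib.H1.Asch
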