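/-
S5663 / module UM7 (helper1): the minimal normal subgroup is abelian modulo scalars, unitary case.
Final statement: `utame_of_abelian_minimal_aux` (Lib/H1/AschUM7a) with helper25's tools UT5, UT5'.
-/
import Cfsg.Agent.Lib.H1.AschUM7a
import Cfsg.Agent.Lib.H25.AschUT5
import Cfsg.Agent.Lib.H25.AschUT5p

set_option autoImplicit false

namespace Cfsg.Agent.Lib.H1.Asch

open Cfsg Cfsg.Geo Cfsg.Agent.Lib.Lead.Asch
open scoped MatrixGroups Matrix

variable {F : Type*} [Field F] [Fintype F] {n q : ℕ}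

/-- **UM7**. The minimal normal subgroup is abelian modulo scalars (unitary case). -/
theorem utame_of_abelian_minimal (hF : Fintype.card F = q ^ 2) (hn : 3 ≤ n)
    (H N : Subgroup (GL (Fin n) F)) (hH : H ≤ GU n F q) (hgood : Good H)
    (hmin : MinimalModScalars H N)
    (hab : ∀ x ∈ N, ∀ y ∈ N, x * y * x⁻¹ * y⁻¹ ∈ scalars (Fin n) F) :
    UC5 q H ∨ UC6 q H :=
  utame_of_abelian_minimal_aux hF hn H N hH hgood hmin hab
    (fun N' hN'H hnorm habs F₁ hne hreal =>
      Cfsg.Agent.Lib.H25.Asch.uc5_of_realisable hF (by omega) H N' hH hN'H hnorm habs F₁ hne hreal)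
    (fun N' hN'H hnorm habs B hB hfix =>
      Cfsg.Agent.Lib.H25.Asch.uc5_of_fixes_bilin hF (by omega) H N' hH hN'H hnorm habs B hB hfix)

end Cfsg.Agent.Lib.H1.Asch
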