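import Mathlib
import Cfsg.Agent.Lib.L0.BlockPReg
import Cfsg.Agent.Lib.L0.BlockQuotDefect
import Cfsg.Agent.Lib.H23.BlockQuotientP
import Cfsg.Agent.Lib.H24.CharDefl

/-!
# S4719, piece B2a (helper1)

For a central `p`-subgroup `N`: characters of `C ⧸ N` whose inflations lie in the same block of `C` lie in
the same block of `C ⧸ N`.
-/

set_option autoImplicit false

namespace Cfsg.Agent.Lib.H1.BI

open Cfsg Cfsg.Agent.Lib.H23 Cfsg.Agent.Lib.H24

variable {C : Type*} [Group C] [Finite C] {p : ℕ} {M : Ideal AlgInt}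

/-- (B2a INFLa) -/
theorem sameBlock_of_inflIrr (hM : IsPModular p M) (N : Subgroup C) [N.Normal]
    (hNc : N ≤ Subgroup.center C) (hNp : IsPGroup p N) (ψ φ : IrrCharacter (C ⧸ N))
    (h : SameBlock M (inflIrr N ψ : C → ℂ) (inflIrr N φ : C → ℂ)) :
    SameBlock M (ψ : C ⧸ N → ℂ) (φ : C ⧸ N → ℂ) := by
  classical
  haveI := Fintype.ofFinite C
  haveI : Fintype (C ⧸ N) := Fintype.ofFinite _
  have hp : p.Prime := hM.1
  apply Cfsg.Agent.Lib.L0.BlockPReg.sameBlock_of_pRegular hM ψ φ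
  intro q hq
  obtain ⟨g, hg, rfl⟩ := exists_pRegular_preimage (P := N) hp hq
  have hNg : N ≤ Subgroup.centralizer ({g} : Set C) := by
    intro n hn
    rw [Subgroup.mem_centralizer_singleton_iff]
    exact (Subgroup.mem_center_iff.1 (hNc hn) g).symm
  have hidx := Cfsg.Agent.Lib.L0.BlockQuotDefect.index_centralizer_mk_of_le N hp hNp hg hNg
  have e1 : centralChar (ψ : C ⧸ N → ℂ) (g : C ⧸ N) = centralChar (inflIrr N ψ : C → ℂ) g := by
    unfold centralChar
    rw [hidx, inflIrr_apply, inflIrr_apply, QuotientGroup.mk_one]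
  have e2 : centralChar (φ : C ⧸ N → ℂ) (g : C ⧸ N) = centralChar (inflIrr N φ : C → ℂ) g := by
    unfold centralChar
    rw [hidx, inflIrr_apply, inflIrr_apply, QuotientGroup.mk_one]
  rw [e1, e2]
  exact h g

end Cfsg.Agent.Lib.H1.BI
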