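import Mathlib
import Cfsg.Agent.Lib.H1.BIB2a
import Cfsg.Agent.Lib.H23.BlockPrincipal
import Cfsg.Agent.Lib.H23.BlockHom
import Cfsg.Agent.Lib.H23.DegreeDvd

/-!
# S4719, piece B2b (helper1)

A non-principal block of `C ⧸ N` (`N` a central `p`-subgroup) lifts to a non-principal block of `C` whose
defect is larger by `v_p |N|`.
-/

set_option autoImplicit false

namespace Cfsg.Agent.Lib.H1.BI

open Cfsg Cfsg.Agent.Lib.H23 Cfsg.Agent.Lib.H24

variable {C : Type*} [Group C] [Finite C] {p : ℕ} {M : Ideal AlgInt}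

/-- (B2b INFLb) -/
theorem exists_nonprincipal_lift (hM : IsPModular p M) (N : Subgroup C) [N.Normal]
    (hNc : N ≤ Subgroup.center C) (hNp : IsPGroup p N)
    (bbar : Set (IrrCharacter (C ⧸ N))) (hb : IsPBlock M bbar)
    (hnp : bbar ≠ principalBlock M (C ⧸ N)) :
    ∃ b : Set (IrrCharacter C), IsPBlock M b ∧ b ≠ principalBlock M C ∧
      blockDefect p bbar + (Nat.card N).factorization p ≤ blockDefect p b := by
  classical
  haveI := Fintype.ofFinite C
  haveI : Fintype (C ⧸ N) := Fintype.ofFinite _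
  haveI hPr := isPrime_of_isPModular hM
  have hp : p.Prime := hM.1
  obtain ⟨ψ₀, rfl⟩ := hb
  set S : Set ℕ := (fun χ : IrrCharacter (C ⧸ N) =>
    (charDegree (χ : C ⧸ N → ℂ)).factorization p) '' blockOf M (ψ₀ : C ⧸ N → ℂ) with hS
  have hSne : S.Nonempty := ⟨_, ψ₀, mem_blockOf_self ψ₀, rfl⟩
  obtain ⟨ψ, hψ, hψmin⟩ := Nat.sInf_mem hSne
  refine ⟨blockOf M (inflIrr N ψ : C → ℂ), ⟨inflIrr N ψ, rfl⟩, ?_, ?_⟩
  · intro hprin
    apply hnp
    have h1 : inflIrr N ψ ∈ principalBlock M C := hprin ▸ mem_blockOf_self (inflIrr N ψ)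
    have h2 : SameBlock M (inflIrr N (trivialIrr (C ⧸ N)) : C → ℂ) (inflIrr N ψ : C → ℂ) := h1
    have h3 : ψ ∈ principalBlock M (C ⧸ N) :=
      sameBlock_of_inflIrr hM N hNc hNp (trivialIrr _) ψ h2
    rw [← blockOf_eq_of_mem hψ]
    exact principalBlock_eq_blockOf h3
  · unfold blockDefect
    have hle : sInf ((fun χ : IrrCharacter C => (charDegree (χ : C → ℂ)).factorization p) ''
        blockOf M (inflIrr N ψ : C → ℂ)) ≤ (charDegree (ψ : C ⧸ N → ℂ)).factorization p := by
      apply Nat.sInf_le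
      refine ⟨inflIrr N ψ, mem_blockOf_self _, ?_⟩
      show (charDegree (inflIrr N ψ : C → ℂ)).factorization p = _
      rw [charDegree_inflIrr]
    have hcard : Nat.card C = Nat.card (C ⧸ N) * Nat.card N :=
      Subgroup.card_eq_card_quotient_mul_card_subgroup N
    have hfac : (Nat.card C).factorization p =
        (Nat.card (C ⧸ N)).factorization p + (Nat.card N).factorization p := by
      rw [hcard, Nat.factorization_mul Nat.card_pos.ne' Nat.card_pos.ne']
      rfl
    have hdvd : (charDegree (ψ : C ⧸ N → ℂ)).factorization p ≤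
        (Nat.card (C ⧸ N)).factorization p :=
      (Nat.factorization_le_iff_dvd (Cfsg.Agent.Lib.H23.charDegree_pos _ ψ.2).ne'
        Nat.card_pos.ne').2 (Cfsg.Agent.Lib.H23.charDegree_dvd_card _ ψ.2) p
    have hψmin' : sInf S = (charDegree (ψ : C ⧸ N → ℂ)).factorization p := hψmin.symm
    have hgoal : (Nat.card (C ⧸ N)).factorization p - sInf S + (Nat.card N).factorization p ≤
        (Nat.card C).factorization p -
          sInf ((fun χ : IrrCharacter C => (charDegree (χ : C → ℂ)).factorization p) ''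
            blockOf M (inflIrr N ψ : C → ℂ)) := by
      rw [hψmin', hfac]
      omega
    exact hgoal

end Cfsg.Agent.Lib.H1.BI
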