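import Mathlib
import Cfsg.Prelude.Def_Blocks

/-!
# Shared definitions for S4719 (helper1): the hypothesis and the rows

`Hyp G M a r P`: the hypotheses of S4719 for one group; `Row r`: the statement for a fixed `r`.
-/

set_option autoImplicit false

universe u

namespace Cfsg.Agent.Lib.H1.BI

open Cfsg

/-- The hypothesis of S4719 for one group and one `r`. -/
def Hyp (G : Type u) [Group G] (M : Ideal AlgInt) (a r : ℕ) (P : Sylow 2 G) : Prop :=
  IsPModular 2 M ∧ Nat.card P = 2 ^ a ∧
    (∀ B : Set (IrrCharacter G), IsPBlock M B → B ≠ principalBlock M G → blockDefect 2 B < r) ∧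
    ∃ E : Subgroup G, E ≤ (P : Subgroup G) ∧ IsMulCommutative E ∧ (∀ x ∈ E, x * x = 1) ∧
      Nat.card E = 2 ^ (r + 1)

/-- The row `r`: for every `a` a bound for all groups of the universe `u`. -/
def Row (r : ℕ) : Prop :=
  ∀ a : ℕ, ∃ N : ℕ, ∀ (G : Type u) [Group G] [Finite G] (M : Ideal AlgInt) (P : Sylow 2 G),
    Hyp G M a r P → Nat.card G ≤ N

end Cfsg.Agent.Lib.H1.BI
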