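import Mathlib

set_option autoImplicit false

namespace Cfsg.Agent.Lib.H1

variable {G : Type*} [Group G]

/-- If `M R = G` with `R` normal then `[G : M]` divides `|R|`. -/
theorem index_dvd_card_of_sup_eq_top {M R : Subgroup G} [R.Normal] (h : R ⊔ M = ⊤) :
    M.index ∣ Nat.card R := by
  have htrans : MulAction.IsPretransitive R (G ⧸ M) := by
    rw [MulAction.isPretransitive_iff_base ((1 : G) : G ⧸ M)]
    intro q
    induction q using QuotientGroup.induction_on with | _ g =>
    have hg : g ∈ R ⊔ M := h ▸ Subgroup.mem_top g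
    obtain ⟨r, hr, m, hm, rfl⟩ := Subgroup.mem_sup_of_normal_left.mp hg
    refine ⟨⟨r, hr⟩, ?_⟩
    change ((r * 1 : G) : G ⧸ M) = ((r * m : G) : G ⧸ M)
    rw [QuotientGroup.eq]
    have : (r * 1)⁻¹ * (r * m) = m := by group
    rw [this]
    exact hm
  have h1 := MulAction.index_stabilizer_of_transitive R (((1 : G) : G ⧸ M))
  have h2 : (MulAction.stabilizer R (((1 : G) : G ⧸ M))).index ∣ Nat.card R :=
    Subgroup.index_dvd_card _
  rw [h1, ← Subgroup.index_eq_card] at h2
  exact h2

/-- `|KR/R| · |R ∩ K| = |K|`. -/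
theorem card_map_mk'_mul (R K : Subgroup G) [R.Normal] :
    Nat.card (K.map (QuotientGroup.mk' R)) * Nat.card (R ⊓ K : Subgroup G) = Nat.card K := by
  have h1 : Nat.card (K.map (QuotientGroup.mk' R)) = (R ⊓ K).relIndex K := by
    rw [← Subgroup.relIndex_ker, QuotientGroup.ker_mk', Subgroup.inf_relIndex_right]
  have h2 := Subgroup.relIndex_mul_relIndex ⊥ (R ⊓ K) K bot_le inf_le_right
  rw [Subgroup.relIndex_bot_left, Subgroup.relIndex_bot_left] at h2
  rw [h1, mul_comm]
  exact h2

/-- `|K/R| · |R| = |K|` for `R ≤ K`. -/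
theorem card_map_mk'_mul_of_le {R K : Subgroup G} [R.Normal] (h : R ≤ K) :
    Nat.card (K.map (QuotientGroup.mk' R)) * Nat.card R = Nat.card K := by
  have := card_map_mk'_mul R K
  rwa [inf_eq_left.mpr h] at this

/-- `|KR/R| = |K|` when `|K|` and `|R|` are coprime. -/
theorem card_map_mk'_of_coprime [Finite G] {R K : Subgroup G} [R.Normal]
    (h : (Nat.card K).Coprime (Nat.card R)) :
    Nat.card (K.map (QuotientGroup.mk' R)) = Nat.card K := by
  have h1 := card_map_mk'_mul R K
  have h2 : (R ⊓ K : Subgroup G) = ⊥ := by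
    rw [← disjoint_iff]
    exact Subgroup.disjoint_of_coprime_natCard h.symm
  rw [h2, Subgroup.card_bot, mul_one] at h1
  exact h1

theorem comap_map_mk'_of_le {R M : Subgroup G} [R.Normal] (h : R ≤ M) :
    (M.map (QuotientGroup.mk' R)).comap (QuotientGroup.mk' R) = M := by
  apply Subgroup.comap_map_eq_self
  rw [QuotientGroup.ker_mk']
  exact h

theorem comap_map_mk' (R M : Subgroup G) [R.Normal] :
    (M.map (QuotientGroup.mk' R)).comap (QuotientGroup.mk' R) = M ⊔ R := by
  rw [Subgroup.comap_map_eq, QuotientGroup.ker_mk']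

theorem map_comap_mk' (R : Subgroup G) [R.Normal] (X : Subgroup (G ⧸ R)) :
    (X.comap (QuotientGroup.mk' R)).map (QuotientGroup.mk' R) = X :=
  Subgroup.map_comap_eq_self_of_surjective (QuotientGroup.mk'_surjective R) X

theorem le_comap_mk' (R : Subgroup G) [R.Normal] (X : Subgroup (G ⧸ R)) :
    R ≤ X.comap (QuotientGroup.mk' R) := by
  intro r hr
  rw [Subgroup.mem_comap]
  have : QuotientGroup.mk' R r = 1 := (QuotientGroup.eq_one_iff r).mpr hr
  rw [this]
  exact X.one_mem

/-- `|π⁻¹(X)| = |X| · |R|`. -/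
theorem card_comap_mk' (R : Subgroup G) [R.Normal] (X : Subgroup (G ⧸ R)) :
    Nat.card (X.comap (QuotientGroup.mk' R)) = Nat.card X * Nat.card R := by
  have := card_map_mk'_mul_of_le (le_comap_mk' R X)
  rw [map_comap_mk'] at this
  exact this.symm

/-- The image of a maximal subgroup containing `R` is maximal in `G ⧸ R`. -/
theorem isCoatom_map_mk' {R M : Subgroup G} [R.Normal] (h : R ≤ M) (hM : IsCoatom M) :
    IsCoatom (M.map (QuotientGroup.mk' R)) := by
  constructor
  · intro htop
    apply hM.1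
    rw [← comap_map_mk'_of_le h, htop, Subgroup.comap_top]
  · intro X hX
    have h1 : M ≤ X.comap (QuotientGroup.mk' R) := by
      rw [← comap_map_mk'_of_le h]
      exact Subgroup.comap_mono hX.le
    have h2 : M ≠ X.comap (QuotientGroup.mk' R) := by
      intro heq
      apply hX.ne
      rw [heq, map_comap_mk']
    have h3 := hM.2 _ (lt_of_le_of_ne h1 h2)
    rw [← map_comap_mk' R X, h3, ← MonoidHom.range_eq_map,
      MonoidHom.range_eq_top.mpr (QuotientGroup.mk'_surjective R)]

theorem index_map_mk'_of_le {R M : Subgroup G} [R.Normal] (h : R ≤ M) :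
    (M.map (QuotientGroup.mk' R)).index = M.index := by
  have hk : (QuotientGroup.mk' R).ker ≤ M := by
    rw [QuotientGroup.ker_mk']
    exact h
  exact Subgroup.index_map_eq M (QuotientGroup.mk'_surjective R) hk

end Cfsg.Agent.Lib.H1
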