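import Mathlib
import Cfsg.Agent.Lib.H1.BIDEFS
import Cfsg.Agent.Lib.H24.B4719Defs
import Cfsg.Agent.Lib.H1.BIB2b
import Cfsg.Agent.Lib.H1.BIB3
import Cfsg.Agent.Lib.H20.BIB4a

/-!
# S4719, piece B4 (helper1): the interface of Part I

`partI_bound`: from a bound `N'` for the row `r'` get `|C_G(u)| ≤ 2 N'` for `u ∈ E`, `u ≠ 1`, in the row
`r' + 1`.
-/

set_option autoImplicit false

universe u

namespace Cfsg.Agent.Lib.H1.BI

open Cfsg
open Cfsg.Agent.Lib.H20.BI

/-- (B4 PARTI) CLAIM I of the blueprint. -/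
theorem partI_bound {G : Type u} [Group G] [Finite G] {M : Ideal AlgInt} (a r' : ℕ) (P : Sylow 2 G)
    (hG : Hyp G M a (r' + 1) P) (N' : ℕ)
    (hN' : ∀ a'' : ℕ, a'' ≤ a - 1 → ∀ (H : Type u) [Group H] [Finite H] (M' : Ideal AlgInt)
      (Q : Sylow 2 H), Hyp H M' a'' r' Q → Nat.card H ≤ N')
    (E : Subgroup G) (hEP : E ≤ (P : Subgroup G)) (hEc : IsMulCommutative E)
    (hE2 : ∀ x ∈ E, x * x = 1) (hEcard : Nat.card E = 2 ^ (r' + 2))
    (u : G) (hu : u ∈ E) (hu1 : u ≠ 1) :
    Nat.card (Subgroup.centralizer ({u} : Set G)) ≤ 2 * N' := by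
  classical
  obtain ⟨hM, hPcard, hblk, -⟩ := hG
  have : Fact (Nat.Prime 2) := ⟨Nat.prime_two⟩
  have hu2 : u * u = 1 := hE2 u hu
  have huord : orderOf u = 2 := orderOf_eq_prime (by rw [pow_two]; exact hu2) hu1
  set C := Subgroup.centralizer ({u} : Set G) with hC
  have huC : u ∈ C := Subgroup.mem_centralizer_singleton_iff.2 rfl
  set z : C := ⟨u, huC⟩ with hz
  have hzord : orderOf z = 2 := by
    rw [← huord]
    exact (Subgroup.orderOf_mk u huC)
  have hzcenter : z ∈ Subgroup.center C := by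
    rw [Subgroup.mem_center_iff]
    intro g
    apply Subtype.ext
    have hg := Subgroup.mem_centralizer_singleton_iff.1 g.2
    simp only [Subgroup.coe_mul, hz]
    exact hg
  set N : Subgroup C := Subgroup.zpowers z with hNdef
  have hNc : N ≤ Subgroup.center C := Subgroup.zpowers_le.2 hzcenter
  haveI hNn : N.Normal := by
    refine ⟨fun n hn g => ?_⟩
    have h1 := Subgroup.mem_center_iff.1 (hNc hn) g
    have h2 : g * n * g⁻¹ = n := by rw [h1, mul_inv_cancel_right]
    rw [h2]; exact hn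
  have hN2 : Nat.card N = 2 := by rw [hNdef, Nat.card_zpowers, hzord]
  have hNp : IsPGroup 2 N := IsPGroup.of_card (n := 1) (by rw [hN2, pow_one])
  -- `E` inside `C`
  have hcomm : ∀ x ∈ E, ∀ y ∈ E, x * y = y * x := by
    intro x hx y hy
    have := hEc.is_comm.comm (⟨x, hx⟩ : E) ⟨y, hy⟩
    exact congrArg Subtype.val this
  have hEC : E ≤ C := fun x hx => Subgroup.mem_centralizer_singleton_iff.2 (hcomm x hx u hu)
  set EC : Subgroup C := E.subgroupOf C with hECdef
  have hECcard : Nat.card EC = 2 ^ ((r' + 1) + 1) := by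
    rw [hECdef, Nat.card_congr (Subgroup.subgroupOfEquivOfLe hEC).toEquiv, hEcard]
  have hNEC : N ≤ EC := by
    rw [hNdef, Subgroup.zpowers_le, hECdef, Subgroup.mem_subgroupOf]
    exact hu
  have hECc : ∀ x ∈ EC, ∀ y ∈ EC, x * y = y * x := by
    intro x hx y hy
    apply Subtype.ext
    exact hcomm x hx y hy
  have hEC2 : ∀ x ∈ EC, x * x = 1 := by
    intro x hx
    apply Subtype.ext
    exact hE2 x hx
  have hfact : (Nat.card C).factorization 2 ≤ a := by
    have h1 : Nat.card C ∣ Nat.card G := Subgroup.card_subgroup_dvd_card C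
    have h2 : (Nat.card G).factorization 2 = a := by
      have := P.card_eq_multiplicity
      rw [hPcard] at this
      exact (Nat.pow_right_injective (le_refl 2) this).symm
    rw [← h2]
    exact (Nat.factorization_le_iff_dvd Nat.card_pos.ne' Nat.card_pos.ne').2 h1 2
  obtain ⟨a'', ha'', Q, hQcard, E', hE'Q, hE'c, hE'2, hE'card⟩ :=
    quotient_sylow_data N hN2 a (r' + 1) hfact EC hNEC hECc hEC2 hECcard
  -- the blocks of `C ⧸ N`
  have hNfact : (Nat.card N).factorization 2 = 1 := by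
    rw [hN2]; exact Nat.Prime.factorization_self Nat.prime_two
  have hblk' : ∀ bbar : Set (IrrCharacter (C ⧸ N)), IsPBlock M bbar →
      bbar ≠ principalBlock M (C ⧸ N) → blockDefect 2 bbar < r' := by
    intro bbar hb hnp
    by_contra hcon
    obtain ⟨b, hbb, hbnp, hbd⟩ := exists_nonprincipal_lift hM N hNc hNp bbar hb hnp
    obtain ⟨B, hB, hBnp, hBd⟩ :=
      exists_nonprincipal_induced hM (u := u) ⟨1, by rw [huord, pow_one]⟩ b hbb hbnp
    have := hblk B hB hBnp
    omega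
  have hH : Hyp (C ⧸ N) M a'' r' Q := ⟨hM, hQcard, hblk', E', hE'Q, hE'c, hE'2, hE'card⟩
  have hbound := hN' a'' ha'' (C ⧸ N) M Q hH
  have hcard : Nat.card C = Nat.card (C ⧸ N) * Nat.card N :=
    Subgroup.card_eq_card_quotient_mul_card_subgroup N
  rw [hcard, hN2]
  omega

/-- (B4') the same in the form of helper24's top-level interface `(I)` (with his `SR`). -/
theorem partI_bound_SR (r a N' : ℕ)
    (hS : ∀ a'' : ℕ, a'' < a → Cfsg.Agent.Lib.H24.B4719.SR.{u} r a'' N')
    (G : Type u) [Group G] [Finite G] (M : Ideal AlgInt) (P : Sylow 2 G)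
    (hM : IsPModular 2 M) (hP : Nat.card P = 2 ^ a)
    (hB : ∀ B : Set (IrrCharacter G), IsPBlock M B → B ≠ principalBlock M G →
      blockDefect 2 B < r + 1)
    (E : Subgroup G) (hEP : E ≤ (P : Subgroup G)) (hEc : IsMulCommutative E)
    (hE2 : ∀ x ∈ E, x * x = 1) (hEcard : Nat.card E = 2 ^ (r + 2))
    (x : G) (hx : x ∈ E) (hx1 : x ≠ 1) :
    Nat.card (Subgroup.centralizer ({x} : Set G)) ≤ 2 * N' := by
  have ha2 : r + 2 ≤ a := by
    have h1 : Nat.card E ≤ Nat.card (P : Subgroup G) := Subgroup.card_le_of_le hEP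
    rw [hEcard] at h1
    have h2 : Nat.card (P : Subgroup G) = 2 ^ a := hP
    rw [h2] at h1
    exact (Nat.pow_le_pow_iff_right (by norm_num)).1 h1
  refine partI_bound a r P ⟨hM, hP, hB, E, hEP, hEc, hE2, hEcard⟩ N' ?_ E hEP hEc hE2 hEcard x hx hx1
  intro a'' ha'' H _ _ M' Q hH
  obtain ⟨h1, h2, h3, h4⟩ := hH
  exact hS a'' (by omega) H M' Q h1 h2 h3 h4

end Cfsg.Agent.Lib.H1.BI
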