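import Mathlib

/-!
# Arithmetic for the Brauer-Suzuki theorem, quaternion of order eight (helper1)
-/

set_option autoImplicit false

namespace Cfsg.Agent.Lib.H1.BSArith

/-- Pattern A: one negative sign.  `d₃ = d₁ + d₂ + 1`, `m₃ = m₁ + m₂`,
`m₃²/d₃ = m₁²/d₁ + m₂²/d₂` forces `m = 0`. -/
theorem patternA (d₁ d₂ d₃ m₁ m₂ m₃ : ℤ) (hd₁ : 0 < d₁) (hd₂ : 0 < d₂)
    (h0 : d₃ = d₁ + d₂ + 1) (h1 : m₃ = m₁ + m₂)
    (h2 : m₃ ^ 2 * d₁ * d₂ = (m₁ ^ 2 * d₂ + m₂ ^ 2 * d₁) * d₃) :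
    m₁ = 0 ∧ m₂ = 0 ∧ m₃ = 0 := by
  subst h0 h1
  have key : (m₁ * d₂ - m₂ * d₁) ^ 2 + m₁ ^ 2 * d₂ + m₂ ^ 2 * d₁ = 0 := by
    linear_combination -h2
  have t1 : 0 ≤ (m₁ * d₂ - m₂ * d₁) ^ 2 := sq_nonneg _
  have t2 : 0 ≤ m₁ ^ 2 * d₂ := mul_nonneg (sq_nonneg _) hd₂.le
  have t3 : 0 ≤ m₂ ^ 2 * d₁ := mul_nonneg (sq_nonneg _) hd₁.le
  have e2 : m₁ ^ 2 * d₂ = 0 := by linarith
  have e3 : m₂ ^ 2 * d₁ = 0 := by linarith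
  have hm1 : m₁ = 0 := by
    rcases mul_eq_zero.mp e2 with h | h
    · exact pow_eq_zero_iff (two_ne_zero) |>.mp h
    · omega
  have hm2 : m₂ = 0 := by
    rcases mul_eq_zero.mp e3 with h | h
    · exact pow_eq_zero_iff (two_ne_zero) |>.mp h
    · omega
  refine ⟨hm1, hm2, ?_⟩
  rw [hm1, hm2]; rfl

theorem zmod4_step : ∀ p q : ZMod 4, (p * 3 - q * 3) ^ 2 = p ^ 2 * 3 + q ^ 2 * 3 →
    (p = 0 ∨ p = 2) ∧ (q = 0 ∨ q = 2) := by decide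

theorem zmod4_first : ∀ m₂ m₃ : ZMod 4,
    (m₂ * (2 * m₃ - 1) - m₃ * (2 * m₂ - 1)) ^ 2 = m₂ ^ 2 * (2 * m₃ - 1) + m₃ ^ 2 * (2 * m₂ - 1) →
    (m₂ = 0 ∨ m₂ = 2) ∧ (m₃ = 0 ∨ m₃ = 2) := by decide

theorem even_of_zmod4 (p : ℤ) (h : ((p : ZMod 4) = 0 ∨ (p : ZMod 4) = 2)) : ∃ p', p = 2 * p' := by
  rcases h with h | h
  · rw [ZMod.intCast_zmod_eq_zero_iff_dvd] at h
    obtain ⟨k, hk⟩ := h
    exact ⟨2 * k, by push_cast at hk; omega⟩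
  · have : ((p - 2 : ℤ) : ZMod 4) = 0 := by push_cast; rw [h]; decide
    rw [ZMod.intCast_zmod_eq_zero_iff_dvd] at this
    obtain ⟨k, hk⟩ := this
    exact ⟨2 * k + 1, by push_cast at hk; omega⟩

/-- The descent: with `d₂ ≡ d₃ ≡ 3 (mod 4)` the equation has only the trivial solution. -/
theorem descent (d₂ d₃ : ℤ) (h2 : (d₂ : ZMod 4) = 3) (h3 : (d₃ : ZMod 4) = 3) :
    ∀ n : ℕ, ∀ p q : ℤ, p.natAbs + q.natAbs ≤ n →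
      (p * d₃ - q * d₂) ^ 2 = p ^ 2 * d₃ + q ^ 2 * d₂ → p = 0 ∧ q = 0 := by
  intro n
  induction n with
  | zero =>
    intro p q hn _
    constructor <;> omega
  | succ n ih =>
    intro p q hn heq
    by_cases h0 : p = 0 ∧ q = 0
    · exact h0
    exfalso
    have hz : ((p : ZMod 4) * 3 - (q : ZMod 4) * 3) ^ 2 = (p : ZMod 4) ^ 2 * 3 + (q : ZMod 4) ^ 2 * 3 := by
      have := congrArg (Int.cast : ℤ → ZMod 4) heq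
      push_cast at this
      rw [h2, h3] at this
      exact this
    obtain ⟨hp, hq⟩ := zmod4_step _ _ hz
    obtain ⟨p', rfl⟩ := even_of_zmod4 p hp
    obtain ⟨q', rfl⟩ := even_of_zmod4 q hq
    have heq' : (p' * d₃ - q' * d₂) ^ 2 = p' ^ 2 * d₃ + q' ^ 2 * d₂ := by
      have : 4 * ((p' * d₃ - q' * d₂) ^ 2) = 4 * (p' ^ 2 * d₃ + q' ^ 2 * d₂) := by
        linear_combination heq
      omega
    have hlt : p'.natAbs + q'.natAbs ≤ n := by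
      have hne : ¬ (p' = 0 ∧ q' = 0) := by
        rintro ⟨rfl, rfl⟩
        exact h0 ⟨by ring, by ring⟩
      have h1 : (2 * p').natAbs = 2 * p'.natAbs := by rw [Int.natAbs_mul]; rfl
      have h2 : (2 * q').natAbs = 2 * q'.natAbs := by rw [Int.natAbs_mul]; rfl
      rw [h1, h2] at hn
      have : 0 < p'.natAbs + q'.natAbs := by
        by_contra hc
        apply hne
        constructor <;> omega
      omega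
    obtain ⟨rfl, rfl⟩ := ih p' q' hlt heq'
    exact h0 ⟨by ring, by ring⟩

/-- Pattern B core: the 2-adic argument. -/
theorem patternB_core (d₂ d₃ m₂ m₃ : ℤ)
    (hc2 : (d₂ : ZMod 4) = 2 * (m₂ : ZMod 4) - 1) (hc3 : (d₃ : ZMod 4) = 2 * (m₃ : ZMod 4) - 1)
    (heq : (m₂ * d₃ - m₃ * d₂) ^ 2 = m₂ ^ 2 * d₃ + m₃ ^ 2 * d₂) : m₂ = 0 ∧ m₃ = 0 := by
  have hz := congrArg (Int.cast : ℤ → ZMod 4) heq
  push_cast at hz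
  rw [hc2, hc3] at hz
  obtain ⟨hp, hq⟩ := zmod4_first _ _ hz
  obtain ⟨p', rfl⟩ := even_of_zmod4 m₂ hp
  obtain ⟨q', rfl⟩ := even_of_zmod4 m₃ hq
  have h2 : (d₂ : ZMod 4) = 3 := by
    rw [hc2]; push_cast
    have : (2 : ZMod 4) * (2 * (p' : ZMod 4)) = 0 := by
      rw [← mul_assoc]
      have : (2 : ZMod 4) * 2 = 0 := by decide
      rw [this, zero_mul]
    rw [this]; decide
  have h3 : (d₃ : ZMod 4) = 3 := by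
    rw [hc3]; push_cast
    have : (2 : ZMod 4) * (2 * (q' : ZMod 4)) = 0 := by
      rw [← mul_assoc]
      have : (2 : ZMod 4) * 2 = 0 := by decide
      rw [this, zero_mul]
    rw [this]; decide
  have heq' : (p' * d₃ - q' * d₂) ^ 2 = p' ^ 2 * d₃ + q' ^ 2 * d₂ := by
    have : 4 * ((p' * d₃ - q' * d₂) ^ 2) = 4 * (p' ^ 2 * d₃ + q' ^ 2 * d₂) := by
      linear_combination heq
    omega
  obtain ⟨rfl, rfl⟩ := descent d₂ d₃ h2 h3 _ p' q' le_rfl heq'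
  exact ⟨by ring, by ring⟩

/-- Pattern B: two negative signs. -/
theorem patternB (d₁ d₂ d₃ m₁ m₂ m₃ : ℤ)
    (h0 : d₁ + 1 = d₂ + d₃) (h1 : m₁ = m₂ + m₃)
    (h2 : m₁ ^ 2 * d₂ * d₃ = (m₂ ^ 2 * d₃ + m₃ ^ 2 * d₂) * d₁)
    (hc2 : (d₂ : ZMod 4) = 2 * (m₂ : ZMod 4) - 1) (hc3 : (d₃ : ZMod 4) = 2 * (m₃ : ZMod 4) - 1) :
    m₁ = 0 ∧ m₂ = 0 ∧ m₃ = 0 := by
  have hd1 : d₁ = d₂ + d₃ - 1 := by linarith
  subst hd1 h1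
  have heq : (m₂ * d₃ - m₃ * d₂) ^ 2 = m₂ ^ 2 * d₃ + m₃ ^ 2 * d₂ := by
    linear_combination -h2
  obtain ⟨rfl, rfl⟩ := patternB_core d₂ d₃ m₂ m₃ hc2 hc3 heq
  exact ⟨rfl, rfl, rfl⟩

theorem cong_of_eq {d m n : ℤ} (h : d - 2 * m + 3 * (-1) = 4 * n) :
    (d : ZMod 4) = 2 * (m : ZMod 4) - 1 := by
  have h1 : d = 2 * m - 1 + 4 * (n + 1) := by linarith
  rw [h1]
  push_cast
  have : (4 : ZMod 4) = 0 := by decide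
  rw [this, zero_mul, add_zero]

/-- The master arithmetic lemma. -/
theorem master (ε₁ ε₂ ε₃ d₁ d₂ d₃ m₁ m₂ m₃ n₁ n₂ n₃ : ℤ)
    (hε₁ : ε₁ = 1 ∨ ε₁ = -1) (hε₂ : ε₂ = 1 ∨ ε₂ = -1) (hε₃ : ε₃ = 1 ∨ ε₃ = -1)
    (hd₁ : 0 < d₁) (hd₂ : 0 < d₂) (hd₃ : 0 < d₃)
    (r0 : 1 + ε₁ * d₁ + ε₂ * d₂ + ε₃ * d₃ = 0)
    (r1 : 1 + ε₁ * (d₁ - 4 * m₁) + ε₂ * (d₂ - 4 * m₂) + ε₃ * (d₃ - 4 * m₃) = 0)
    (r2 : d₁ * d₂ * d₃ + ε₁ * (d₁ - 4 * m₁) ^ 2 * d₂ * d₃ + ε₂ * (d₂ - 4 * m₂) ^ 2 * d₁ * d₃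
      + ε₃ * (d₃ - 4 * m₃) ^ 2 * d₁ * d₂ = 0)
    (s₁ : d₁ - 2 * m₁ + 3 * ε₁ = 4 * n₁) (s₂ : d₂ - 2 * m₂ + 3 * ε₂ = 4 * n₂)
    (s₃ : d₃ - 2 * m₃ + 3 * ε₃ = 4 * n₃) :
    m₁ = 0 ∧ m₂ = 0 ∧ m₃ = 0 := by
  have r1' : ε₁ * m₁ + ε₂ * m₂ + ε₃ * m₃ = 0 := by
    have : 4 * (ε₁ * m₁ + ε₂ * m₂ + ε₃ * m₃) = 0 := by linear_combination r0 - r1
    omega
  have r2' : ε₁ * m₁ ^ 2 * d₂ * d₃ + ε₂ * m₂ ^ 2 * d₁ * d₃ + ε₃ * m₃ ^ 2 * d₁ * d₂ = 0 := by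
    have : 16 * (ε₁ * m₁ ^ 2 * d₂ * d₃ + ε₂ * m₂ ^ 2 * d₁ * d₃ + ε₃ * m₃ ^ 2 * d₁ * d₂) = 0 := by
      linear_combination r2 - d₁ * d₂ * d₃ * r0 + 8 * d₁ * d₂ * d₃ * r1'
    omega
  rcases hε₁ with rfl | rfl <;> rcases hε₂ with rfl | rfl <;> rcases hε₃ with rfl | rfl
  · exfalso; linarith
  · -- + + -
    obtain ⟨h1, h2, h3⟩ := patternA d₁ d₂ d₃ m₁ m₂ m₃ hd₁ hd₂ (by linarith) (by linarith)
      (by linear_combination -r2')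
    exact ⟨h1, h2, h3⟩
  · -- + - +
    obtain ⟨h1, h2, h3⟩ := patternA d₁ d₃ d₂ m₁ m₃ m₂ hd₁ hd₃ (by linarith) (by linarith)
      (by linear_combination -r2')
    exact ⟨h1, h3, h2⟩
  · -- + - -
    obtain ⟨h1, h2, h3⟩ := patternB d₁ d₂ d₃ m₁ m₂ m₃ (by linarith) (by linarith)
      (by linear_combination r2') (cong_of_eq s₂) (cong_of_eq s₃)
    exact ⟨h1, h2, h3⟩
  · -- - + +
    obtain ⟨h1, h2, h3⟩ := patternA d₂ d₃ d₁ m₂ m₃ m₁ hd₂ hd₃ (by linarith) (by linarith)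
      (by linear_combination -r2')
    exact ⟨h3, h1, h2⟩
  · -- - + -
    obtain ⟨h1, h2, h3⟩ := patternB d₂ d₁ d₃ m₂ m₁ m₃ (by linarith) (by linarith)
      (by linear_combination r2') (cong_of_eq s₁) (cong_of_eq s₃)
    exact ⟨h2, h1, h3⟩
  · -- - - +
    obtain ⟨h1, h2, h3⟩ := patternB d₃ d₁ d₂ m₃ m₁ m₂ (by linarith) (by linarith)
      (by linear_combination r2') (cong_of_eq s₁) (cong_of_eq s₂)
    exact ⟨h2, h3, h1⟩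
  · exfalso; linarith

end Cfsg.Agent.Lib.H1.BSArith
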