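import Mathlib
import Cfsg.Agent.Lib.L0.QuatData
import Cfsg.Agent.Lib.L0.CyclicSylowTwo
import Cfsg.Agent.Lib.L0.CharSpecial
import Cfsg.Prelude.Def_Local
import Cfsg.Prelude.Def_Blocks

/-!
# Group theory for the Brauer-Suzuki theorem with quaternion Sylow subgroup of order eight (helper1)

The special character `lam` of `C_G(a)`, `SpecialData`, fusion, and the final step.
-/

set_option autoImplicit false

namespace Cfsg.Agent.Lib.H1.BSGrp

open Cfsg.Agent.Lib.L0 Subgroup

variable {G : Type*} [Group G]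

section Cyc4

variable {a : G}

theorem pow_four_of_order (ha4 : orderOf a = 4) : a ^ 4 = 1 := by
  rw [← ha4]; exact pow_orderOf_eq_one a

theorem sq_ne_one_of_order (ha4 : orderOf a = 4) : a ^ 2 ≠ 1 := by
  intro h
  have := orderOf_dvd_of_pow_eq_one h
  rw [ha4] at this
  omega

theorem pow_three_of_order (ha4 : orderOf a = 4) : a ^ 3 = a⁻¹ := by
  apply eq_inv_of_mul_eq_one_left
  rw [← pow_succ]; exact pow_four_of_order ha4

/-- the elements of a cyclic group of order four -/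
theorem zpowers_cases (ha4 : orderOf a = 4) {w : G} (hw : w ∈ zpowers a) :
    w = 1 ∨ w = a ∨ w = a ^ 2 ∨ w = a⁻¹ := by
  have hfin : IsOfFinOrder a := by
    rw [← orderOf_pos_iff, ha4]; norm_num
  rw [← hfin.mem_powers_iff_mem_zpowers] at hw
  obtain ⟨n, rfl⟩ := hw
  have : a ^ n = a ^ (n % 4) := by rw [← ha4, pow_mod_orderOf]
  simp only
  rw [this]
  have h4 : n % 4 < 4 := Nat.mod_lt _ (by norm_num)
  obtain ⟨r, hr⟩ : ∃ r, n % 4 = r := ⟨_, rfl⟩
  rw [hr] at h4 ⊢
  interval_cases r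
  · left; simp
  · right; left; simp
  · right; right; left; rfl
  · right; right; right; exact pow_three_of_order ha4

theorem sq_eq_of_mem_zpowers (ha4 : orderOf a = 4) {w : G} (hw : w ∈ zpowers a)
    (hw2 : w * w ≠ 1) : w = a ∨ w = a⁻¹ := by
  rcases zpowers_cases ha4 hw with rfl | rfl | rfl | rfl
  · simp at hw2
  · exact Or.inl rfl
  · exfalso; apply hw2
    rw [← pow_add]; exact pow_four_of_order ha4
  · exact Or.inr rfl

theorem inv_mul_inv_of_order (ha4 : orderOf a = 4) : a⁻¹ * a⁻¹ = a ^ 2 := by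
  have h4 := pow_four_of_order ha4
  have : a ^ 2 * (a * a) = 1 := by rw [← sq, ← pow_add]; exact h4
  have h5 : a ^ 2 = (a * a)⁻¹ := eq_inv_of_mul_eq_one_left this
  rw [h5, mul_inv_rev]

end Cyc4

section Q8

variable {S : Subgroup G} {a : G}

theorem order_four (h : QuatData S 2 a) : orderOf a = 4 := h.order_a

/-- squares of non-involutions -/
theorem sq_eq (h : QuatData S 2 a) {s : G} (hs : s ∈ S) (hs2 : s * s ≠ 1) : s * s = a ^ 2 := by
  by_cases hsa : s ∈ zpowers a
  · rcases sq_eq_of_mem_zpowers h.order_a hsa hs2 with rfl | rfl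
    · exact (sq s).symm
    · exact inv_mul_inv_of_order h.order_a
  · exact h.sq_of_not_mem s hs hsa

theorem inv_cases (h : QuatData S 2 a) {s : G} (hs : s ∈ S) (hs2 : s * s = 1) :
    s = 1 ∨ s = a ^ 2 := by
  by_cases h1 : s = 1
  · exact Or.inl h1
  · exact Or.inr (h.involution (by norm_num) hs hs2 h1)

theorem pow_four_eq_one (h : QuatData S 2 a) {s : G} (hs : s ∈ S) : s ^ 4 = 1 := by
  have h4 := pow_four_of_order h.order_a
  by_cases hs2 : s * s = 1
  · have : s ^ 4 = (s * s) * (s * s) := by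
      rw [pow_succ, pow_succ, pow_succ, pow_one]; group
    rw [this, hs2, one_mul]
  · have : s ^ 4 = (s * s) * (s * s) := by
      rw [pow_succ, pow_succ, pow_succ, pow_one]; group
    rw [this, sq_eq h hs hs2, ← pow_add]; exact h4

theorem orderOf_eq_four (h : QuatData S 2 a) {s : G} (hs : s ∈ S) (hs2 : s * s ≠ 1) :
    orderOf s = 4 := by
  have hd : orderOf s ∣ 4 := orderOf_dvd_of_pow_eq_one (pow_four_eq_one h hs)
  have h4 : (4 : ℕ) = 2 ^ 2 := by norm_num
  rw [h4, Nat.dvd_prime_pow Nat.prime_two] at hd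
  obtain ⟨k, hk, hk2⟩ := hd
  interval_cases k
  · exfalso; apply hs2
    have : s = 1 := orderOf_eq_one_iff.mp (by simpa using hk2)
    rw [this, one_mul]
  · exfalso; apply hs2
    rw [← sq]
    have := pow_orderOf_eq_one s
    rwa [hk2, pow_one] at this
  · rw [hk2]; norm_num

/-- centralizers of elements of order four in `Q8` -/
theorem mem_zpowers_of_commute (h : QuatData S 2 a) {c y : G} (hc : c ∈ S) (hy : y ∈ S)
    (hc2 : c * c ≠ 1) (hcy : c * y = y * c) : y ∈ zpowers c := by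
  have key : ∀ c y : G, c ∈ S → y ∈ S → c * c ≠ 1 → c * y = y * c → c ∉ zpowers a →
      y ∈ zpowers a → y ∈ zpowers c := by
    intro c y hc hy hc2 hcy hca hya
    have h1 := h.conj_mem_zpowers hc hca hya
    have h2 : c * y * c⁻¹ = y := by rw [hcy]; group
    rw [h2] at h1
    have hyy : y * y = 1 := by
      nth_rewrite 1 [h1]; group
    rcases inv_cases h hy hyy with rfl | rfl
    · exact one_mem _
    · rw [← sq_eq h hc hc2, ← sq]
      exact Subgroup.pow_mem _ (Subgroup.mem_zpowers c) 2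
  by_cases hca : c ∈ zpowers a
  · by_cases hya : y ∈ zpowers a
    · -- zpowers a ≤ zpowers c
      rcases sq_eq_of_mem_zpowers h.order_a hca hc2 with rfl | rfl
      · exact hya
      · rw [Subgroup.zpowers_inv]; exact hya
    · exfalso
      have h1 := h.conj_mem_zpowers hy hya hca
      have h2 : y * c * y⁻¹ = c := by rw [← hcy]; group
      rw [h2] at h1
      apply hc2
      nth_rewrite 1 [h1]; group
  · by_cases hya : y ∈ zpowers a
    · exact key c y hc hy hc2 hcy hca hya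
    · have h1 := h.inv_mul_mem (by norm_num) hc hy hca hya
      have h2 : c * (c⁻¹ * y) = (c⁻¹ * y) * c := by
        rw [mul_inv_cancel_left, mul_assoc, ← hcy, inv_mul_cancel_left]
      have h3 := key c (c⁻¹ * y) hc (S.mul_mem (S.inv_mem hc) hy) hc2 h2 hca h1
      have : y = c * (c⁻¹ * y) := by group
      rw [this]
      exact Subgroup.mul_mem _ (Subgroup.mem_zpowers c) h3

/-- an element inverting a given element of order four -/
theorem exists_inverting (h : QuatData S 2 a) {c : G} (hc : c ∈ S) (hc2 : c * c ≠ 1) :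
    ∃ y ∈ S, y * c * y⁻¹ = c⁻¹ := by
  by_cases hca : c ∈ zpowers a
  · obtain ⟨b, hb, hba⟩ := h.exists_not_mem (by norm_num)
    exact ⟨b, hb, h.conj_mem_zpowers hb hba hca⟩
  · refine ⟨a, h.ha, ?_⟩
    have h1 := h.conj_of_not_mem c hc hca
    -- c a c⁻¹ = a⁻¹, so a c a⁻¹ = c * a^2 ... = c⁻¹
    have h2 : a * c = c * a⁻¹ := by
      have : c * a = a⁻¹ * c := by rw [← h1]; group
      calc a * c = a * (c * a) * a⁻¹ := by group
        _ = a * (a⁻¹ * c) * a⁻¹ := by rw [this]
        _ = c * a⁻¹ := by group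
    have h3 : a * c * a⁻¹ = c * (a⁻¹ * a⁻¹) := by rw [h2]; group
    rw [h3, inv_mul_inv_of_order h.order_a, ← sq_eq h hc hc2]
    -- c * (c * c) = c⁻¹
    have h4 := pow_four_eq_one h hc
    have : c * (c * c) * c = 1 := by
      have : c * (c * c) * c = c ^ 4 := by
        rw [pow_succ, pow_succ, pow_succ, pow_one]; group
      rw [this, h4]
    exact eq_inv_of_mul_eq_one_left this

end Q8


section Syl

variable [Finite G] (S : Sylow 2 G)

theorem exists_conj_mem (P : Subgroup G) (hP : IsPGroup 2 P) :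
    ∃ g : G, ∀ y ∈ P, g⁻¹ * y * g ∈ (S : Subgroup G) := by
  have : Fact (Nat.Prime 2) := ⟨Nat.prime_two⟩
  obtain ⟨Q, hQ⟩ := hP.exists_le_sylow
  obtain ⟨g, hg⟩ := MulAction.exists_smul_eq G S Q
  refine ⟨g, fun y hy => ?_⟩
  have h1 : y ∈ (Q : Subgroup G) := hQ hy
  rw [← hg, Sylow.coe_subgroup_smul] at h1
  rw [Subgroup.mem_pointwise_smul_iff_inv_smul_mem] at h1
  simpa [MulAut.smul_def, MulAut.conj_apply] using h1

omit [Finite G] in
theorem isPGroup_zpowers {y : G} {k : ℕ} (hy : orderOf y = 2 ^ k) : IsPGroup 2 (zpowers y) := by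
  have : Fact (Nat.Prime 2) := ⟨Nat.prime_two⟩
  apply IsPGroup.of_card (n := k)
  rw [Nat.card_zpowers, hy]

/-- two commuting `2`-elements can be conjugated into `S` simultaneously -/
theorem exists_conj_mem_pair {u v : G} {i j : ℕ} (hu : orderOf u = 2 ^ i) (hv : orderOf v = 2 ^ j)
    (huv : u * v = v * u) :
    ∃ g : G, g⁻¹ * u * g ∈ (S : Subgroup G) ∧ g⁻¹ * v * g ∈ (S : Subgroup G) := by
  have hP : IsPGroup 2 (zpowers u ⊔ zpowers v : Subgroup G) := by
    apply IsPGroup.to_sup_of_normal_right' (isPGroup_zpowers hu) (isPGroup_zpowers hv)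
    rw [Subgroup.zpowers_le]
    rw [Subgroup.mem_normalizer_iff]
    intro w
    have hcomm : ∀ w ∈ zpowers v, u * w * u⁻¹ = w := by
      intro w hw
      obtain ⟨k, rfl⟩ := Subgroup.mem_zpowers_iff.mp hw
      have : Commute u (v ^ k) := (show Commute u v from huv).zpow_right k
      rw [this.eq]; group
    constructor
    · intro hw
      rw [hcomm w hw]; exact hw
    · intro hw
      have := hcomm _ hw
      have h2 : u * w * u⁻¹ = w := by
        have h3 : u⁻¹ * (u * (u * w * u⁻¹) * u⁻¹) * u = u⁻¹ * (u * w * u⁻¹) * u := by rw [this]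
        have h4 : u⁻¹ * (u * (u * w * u⁻¹) * u⁻¹) * u = u * w * u⁻¹ := by group
        have h5 : u⁻¹ * (u * w * u⁻¹) * u = w := by group
        rw [h4, h5] at h3
        exact h3
      rw [← h2]; exact hw
  obtain ⟨g, hg⟩ := exists_conj_mem S _ hP
  exact ⟨g, hg u (Subgroup.mem_sup_left (Subgroup.mem_zpowers u)),
    hg v (Subgroup.mem_sup_right (Subgroup.mem_zpowers v))⟩

end Syl

end Cfsg.Agent.Lib.H1.BSGrp

namespace Cfsg.Agent.Lib.H1.BSGrp

open Cfsg.Agent.Lib.L0 Subgroup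

variable {G : Type*} [Group G]

/-- the elements conjugating `a` to `a` or `a⁻¹` -/
def Nn (a : G) : Subgroup G where
  carrier := {g | g⁻¹ * a * g = a ∨ g⁻¹ * a * g = a⁻¹}
  one_mem' := Or.inl (by group)
  mul_mem' := by
    intro g k hg hk
    have e : (g * k)⁻¹ * a * (g * k) = k⁻¹ * (g⁻¹ * a * g) * k := by group
    have e' : k⁻¹ * a⁻¹ * k = (k⁻¹ * a * k)⁻¹ := by group
    rcases hg with hg | hg <;> rcases hk with hk | hk
    · left; rw [e, hg, hk]
    · right; rw [e, hg, hk]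
    · right; rw [e, hg, e', hk]
    · left; rw [e, hg, e', hk, inv_inv]
  inv_mem' := by
    intro g hg
    rcases hg with hg | hg
    · left
      calc g⁻¹⁻¹ * a * g⁻¹ = g * (g⁻¹ * a * g) * g⁻¹ := by rw [hg, inv_inv]
        _ = a := by group
    · right
      have h1 : g⁻¹ * a⁻¹ * g = a := by
        have : g⁻¹ * a⁻¹ * g = (g⁻¹ * a * g)⁻¹ := by group
        rw [this, hg, inv_inv]
      calc g⁻¹⁻¹ * a * g⁻¹ = g * (g⁻¹ * a⁻¹ * g) * g⁻¹ := by rw [h1, inv_inv]
        _ = a⁻¹ := by group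

theorem mem_Nn {a g : G} : g ∈ Nn a ↔ g⁻¹ * a * g = a ∨ g⁻¹ * a * g = a⁻¹ := Iff.rfl

section Main

variable [Finite G] (S : Sylow 2 G) {a : G}

/-- commuting involutions coincide -/
theorem involution_unique (h : QuatData (S : Subgroup G) 2 a) {u v : G} (hu : u * u = 1)
    (hu1 : u ≠ 1) (hv : v * v = 1) (hv1 : v ≠ 1) (huv : u * v = v * u) : u = v := by
  have ou : orderOf u = 2 ^ 1 := by
    rw [pow_one]; exact orderOf_eq_prime (by rw [sq]; exact hu) hu1
  have ov : orderOf v = 2 ^ 1 := by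
    rw [pow_one]; exact orderOf_eq_prime (by rw [sq]; exact hv) hv1
  obtain ⟨g, hgu, hgv⟩ := exists_conj_mem_pair S ou ov huv
  have e1 : g⁻¹ * u * g = a ^ 2 := by
    apply h.involution (by norm_num) hgu
    · calc g⁻¹ * u * g * (g⁻¹ * u * g) = g⁻¹ * (u * u) * g := by group
        _ = 1 := by rw [hu]; group
    · intro hc
      apply hu1
      calc u = g * (g⁻¹ * u * g) * g⁻¹ := by group
        _ = 1 := by rw [hc]; group
  have e2 : g⁻¹ * v * g = a ^ 2 := by
    apply h.involution (by norm_num) hgv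
    · calc g⁻¹ * v * g * (g⁻¹ * v * g) = g⁻¹ * (v * v) * g := by group
        _ = 1 := by rw [hv]; group
    · intro hc
      apply hv1
      calc v = g * (g⁻¹ * v * g) * g⁻¹ := by group
        _ = 1 := by rw [hc]; group
  calc u = g * (g⁻¹ * u * g) * g⁻¹ := by group
    _ = g * (g⁻¹ * v * g) * g⁻¹ := by rw [e1, e2]
    _ = v := by group

/-- a `2`-element commuting with `a` is a power of `a` -/
theorem mem_zpowers_of_two_elt (h : QuatData (S : Subgroup G) 2 a) {y : G} {k : ℕ}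
    (hy : orderOf y = 2 ^ k) (hay : a * y = y * a) : y ∈ zpowers a := by
  have oa : orderOf a = 2 ^ 2 := by rw [h.order_a]; norm_num
  obtain ⟨g, hga, hgy⟩ := exists_conj_mem_pair S oa hy hay
  have hne : g⁻¹ * a * g * (g⁻¹ * a * g) ≠ 1 := by
    intro hc
    apply sq_ne_one_of_order h.order_a
    calc a ^ 2 = g * (g⁻¹ * a * g * (g⁻¹ * a * g)) * g⁻¹ := by rw [sq]; group
      _ = 1 := by rw [hc]; group
  have hcomm : g⁻¹ * a * g * (g⁻¹ * y * g) = g⁻¹ * y * g * (g⁻¹ * a * g) := by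
    calc g⁻¹ * a * g * (g⁻¹ * y * g) = g⁻¹ * (a * y) * g := by group
      _ = g⁻¹ * (y * a) * g := by rw [hay]
      _ = g⁻¹ * y * g * (g⁻¹ * a * g) := by group
  have := mem_zpowers_of_commute h hga hgy hne hcomm
  obtain ⟨m, hm⟩ := Subgroup.mem_zpowers_iff.mp this
  rw [Subgroup.mem_zpowers_iff]
  refine ⟨m, ?_⟩
  have h2 : (g⁻¹ * a * g) ^ m = g⁻¹ * a ^ m * g := by
    rw [show g⁻¹ * a * g = g⁻¹ * a * g⁻¹⁻¹ by rw [inv_inv], conj_zpow, inv_inv]
  rw [h2] at hm
  calc a ^ m = g * (g⁻¹ * a ^ m * g) * g⁻¹ := by group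
    _ = g * (g⁻¹ * y * g) * g⁻¹ := by rw [hm]
    _ = y := by group

end Main

end Cfsg.Agent.Lib.H1.BSGrp

namespace Cfsg.Agent.Lib.H1.BSGrp

open Cfsg.Agent.Lib.L0 Subgroup

variable {G : Type*} [Group G]

theorem orderOf_conj_inv (g x : G) : orderOf (g⁻¹ * x * g) = orderOf x := by
  have := MulEquiv.orderOf_eq (MulAut.conj g⁻¹) x
  simpa [MulAut.conj_apply] using this

theorem orderOf_inv_four {a : G} (ha4 : orderOf a = 4) : orderOf a⁻¹ = 4 := by
  rw [orderOf_inv, ha4]

/-- odd powers of `a^{±1}` -/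
theorem pow_odd_cases {a : G} (ha4 : orderOf a = 4) {w : G} (hw : w = a ∨ w = a⁻¹) {n : ℕ}
    (hn : Odd n) : w ^ n = a ∨ w ^ n = a⁻¹ := by
  have hw4 : orderOf w = 4 := by
    rcases hw with rfl | rfl
    · exact ha4
    · exact orderOf_inv_four ha4
  have h1 : w ^ n = w ^ (n % 4) := by rw [← hw4, pow_mod_orderOf]
  have h4 : n % 4 < 4 := Nat.mod_lt _ (by norm_num)
  have hodd : n % 4 % 2 = 1 := by
    rw [Nat.mod_mod_of_dvd _ (by norm_num : 2 ∣ 4)]
    exact Nat.odd_iff.mp hn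
  obtain ⟨r, hr⟩ : ∃ r, n % 4 = r := ⟨_, rfl⟩
  rw [hr] at h4 hodd h1
  rw [h1]
  interval_cases r
  · omega
  · rw [pow_one]; exact hw
  · omega
  · rw [pow_three_of_order hw4]
    rcases hw with rfl | rfl
    · exact Or.inr rfl
    · left; rw [inv_inv]

theorem sq_ne_one_cases {a : G} (ha4 : orderOf a = 4) {w : G} (hw : w = a ∨ w = a⁻¹) :
    w * w ≠ 1 := by
  have hw4 : orderOf w = 4 := by
    rcases hw with rfl | rfl
    · exact ha4
    · exact orderOf_inv_four ha4
  rw [← sq]; exact sq_ne_one_of_order hw4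

end Cfsg.Agent.Lib.H1.BSGrp

namespace Cfsg.Agent.Lib.H1.BSGrp

open Cfsg.Agent.Lib.L0 Subgroup

variable {G : Type*} [Group G] [Finite G] (S : Sylow 2 G) {a : G}

theorem exists_special (h : QuatData (S : Subgroup G) 2 a) :
    ∃ (lam : ↥(centralizer ({a} : Set G)) →* ℂˣ) (b : G),
      b ∈ (S : Subgroup G) ∧ b * a * b⁻¹ = a⁻¹ ∧
      SpecialData (centralizer ({a} : Set G)) (Nn a) lam b ∧
      (∀ t, lam t = 1 ∨ lam t = -1) ∧
      (∀ t : ↥(centralizer ({a} : Set G)), (t : G) = a → lam t = -1) ∧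
      (∀ t : ↥(centralizer ({a} : Set G)), lam t ≠ 1 →
        ∃ k ∈ Cfsg.centralizerPPrimeCore 2 a, Odd (orderOf k) ∧ a * k = k * a ∧
          ((t : G) = a * k ∨ (t : G) = a⁻¹ * k)) := by
  classical
  have hp2 : Fact (Nat.Prime 2) := ⟨Nat.prime_two⟩
  have ha4 : orderOf a = 4 := h.order_a
  have haC : a ∈ centralizer ({a} : Set G) := by
    rw [Subgroup.mem_centralizer_iff]; intro y hy; rw [Set.mem_singleton_iff.mp hy]
  have hcomm : ∀ t : ↥(centralizer ({a} : Set G)), a * (t : G) = (t : G) * a := fun t =>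
    (Subgroup.mem_centralizer_iff.mp t.2) a (Set.mem_singleton a)
  obtain ⟨Q⟩ : Nonempty (Sylow 2 ↥(centralizer ({a} : Set G))) := inferInstance
  have hQa : ∀ q : ↥(centralizer ({a} : Set G)), q ∈ Q → (q : G) ∈ zpowers a := by
    intro q hq
    obtain ⟨k, hk⟩ := (IsPGroup.iff_orderOf.mp Q.isPGroup') ⟨q, hq⟩
    have hk' : orderOf (q : G) = 2 ^ k := by
      rw [← hk, Subgroup.orderOf_mk, Subgroup.orderOf_coe]
    exact mem_zpowers_of_two_elt S h hk' (hcomm q)
  set aC : ↥(centralizer ({a} : Set G)) := ⟨a, haC⟩ with haCdef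
  have hQle : (Q : Subgroup ↥(centralizer ({a} : Set G))) ≤ zpowers aC := by
    intro q hq
    obtain ⟨m, hm⟩ := Subgroup.mem_zpowers_iff.mp (hQa q hq)
    rw [Subgroup.mem_zpowers_iff]
    exact ⟨m, Subtype.ext (by simpa using hm)⟩
  have hQc : IsCyclic (Q : Subgroup ↥(centralizer ({a} : Set G))) := Subgroup.isCyclic_of_le hQle
  have oaC : orderOf aC = 4 := by rw [← ha4, ← Subgroup.orderOf_coe]
  have h2C : 2 ∣ Nat.card ↥(centralizer ({a} : Set G)) := by
    have := orderOf_dvd_natCard aC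
    rw [oaC] at this
    exact dvd_trans (by norm_num) this
  obtain ⟨K, hKn, hKc, hKmem⟩ := exists_odd_normal_complement_of_cyclic_sylow Q hQc h2C
  -- decomposition
  have hdec : ∀ t : ↥(centralizer ({a} : Set G)), ∃ k ∈ K, ∃ m : ℤ, t = k * aC ^ m := by
    intro t
    obtain ⟨⟨⟨k, hk⟩, ⟨q, hq⟩⟩, hkq, -⟩ := (Subgroup.isComplement_iff_existsUnique.mp hKc) t
    obtain ⟨m, hm⟩ := Subgroup.mem_zpowers_iff.mp (hQle hq)
    exact ⟨k, hk, m, by rw [hm]; exact hkq.symm⟩
  -- the quotient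
  have hπK : ∀ k ∈ K, QuotientGroup.mk' K k = 1 := fun k hk => (QuotientGroup.eq_one_iff k).mpr hk
  have hgen : ∀ y : ↥(centralizer ({a} : Set G)) ⧸ K, y ∈ zpowers (QuotientGroup.mk' K aC) := by
    intro y
    obtain ⟨t, rfl⟩ := QuotientGroup.mk'_surjective K y
    obtain ⟨k, hk, m, rfl⟩ := hdec t
    rw [map_mul, hπK k hk, one_mul, map_zpow]
    exact Subgroup.zpow_mem _ (Subgroup.mem_zpowers _) m
  have haK : aC ∉ K := by
    intro hc
    have := (hKmem aC).mp hc
    rw [oaC] at this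
    norm_num at this
  have hdiv : orderOf (-1 : ℂˣ) ∣ orderOf (QuotientGroup.mk' K aC) := by
    have h1 : orderOf (-1 : ℂˣ) ∣ 2 := orderOf_dvd_of_pow_eq_one (by norm_num)
    have h2 : orderOf (QuotientGroup.mk' K aC) ∣ 4 := by
      apply orderOf_dvd_of_pow_eq_one
      rw [← map_pow, ← oaC, pow_orderOf_eq_one, map_one]
    have h3 : orderOf (QuotientGroup.mk' K aC) ≠ 1 := by
      intro hc
      rw [orderOf_eq_one_iff] at hc
      exact haK ((QuotientGroup.eq_one_iff aC).mp hc)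
    have h4 : (4 : ℕ) = 2 ^ 2 := by norm_num
    rw [h4, Nat.dvd_prime_pow Nat.prime_two] at h2
    obtain ⟨j, hj, hj2⟩ := h2
    have : 2 ∣ orderOf (QuotientGroup.mk' K aC) := by
      rw [hj2]
      rcases j with _ | j
      · exact absurd (by simpa using hj2) h3
      · exact dvd_pow_self 2 (by omega)
    exact dvd_trans h1 this
  have hμa : monoidHomOfForallMemZpowers hgen hdiv (QuotientGroup.mk' K aC) = -1 :=
    monoidHomOfForallMemZpowers_apply_gen hgen hdiv
  set lam : ↥(centralizer ({a} : Set G)) →* ℂˣ :=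
    (monoidHomOfForallMemZpowers hgen hdiv).comp (QuotientGroup.mk' K) with hlam
  have hLam : ∀ k ∈ K, ∀ m : ℤ, lam (k * aC ^ m) = (-1 : ℂˣ) ^ m := by
    intro k hk m
    rw [hlam, MonoidHom.comp_apply, map_mul, hπK k hk, one_mul, map_zpow, map_zpow, hμa]
  obtain ⟨b, hb, hba⟩ := h.exists_not_mem (by norm_num)
  have hbab : b * a * b⁻¹ = a⁻¹ := h.conj_of_not_mem b hb hba
  have hbab' : b⁻¹ * a * b = a⁻¹ := by
    have h1 : b⁻¹ * a⁻¹ * b = a := by rw [← hbab]; group
    have h2 : b⁻¹ * a * b = (b⁻¹ * a⁻¹ * b)⁻¹ := by group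
    rw [h2, h1]
  have haa : a * a ≠ 1 := by rw [← sq]; exact sq_ne_one_of_order ha4
  -- values
  have hval : ∀ t, lam t = 1 ∨ lam t = -1 := by
    intro t
    obtain ⟨k, hk, m, rfl⟩ := hdec t
    rw [hLam k hk m]
    rcases Int.even_or_odd m with hm | hm
    · left; exact hm.neg_one_zpow
    · right; exact hm.neg_one_zpow
  -- odd card of K
  have hKcop : (Nat.card K).Coprime 2 := by
    rw [← hKc.index_eq_card]
    exact ((Nat.Prime.coprime_iff_not_dvd Nat.prime_two).mpr Q.not_dvd_index).symm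
  have hKcore : ∀ k ∈ K, (k : G) ∈ Cfsg.centralizerPPrimeCore 2 a := by
    intro k hk
    have hle : K ≤ Cfsg.pPrimeCore 2 ↥(centralizer ({a} : Set G)) := le_sSup ⟨hKn, hKcop⟩
    exact Subgroup.mem_map_of_mem _ (hle hk)
  have hKodd : ∀ k ∈ K, Odd (orderOf (k : G)) := by
    intro k hk
    rw [Subgroup.orderOf_coe]
    exact Nat.coprime_two_right.mp ((hKmem k).mp hk)
  -- the core property
  have hcore : ∀ t : ↥(centralizer ({a} : Set G)), lam t ≠ 1 →
      ∃ k ∈ Cfsg.centralizerPPrimeCore 2 a, Odd (orderOf k) ∧ a * k = k * a ∧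
        ((t : G) = a * k ∨ (t : G) = a⁻¹ * k) := by
    intro t ht
    obtain ⟨k, hk, m, rfl⟩ := hdec t
    rw [hLam k hk m] at ht
    have hm : Odd m := by
      rcases Int.even_or_odd m with hm | hm
      · exact absurd hm.neg_one_zpow ht
      · exact hm
    have hw : a ^ m = a ∨ a ^ m = a⁻¹ := by
      apply sq_eq_of_mem_zpowers ha4 (Subgroup.zpow_mem _ (Subgroup.mem_zpowers a) m)
      intro hc
      rw [← zpow_add] at hc
      have := (orderOf_dvd_iff_zpow_eq_one).mpr hc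
      rw [ha4] at this
      obtain ⟨j, hj⟩ := hm
      obtain ⟨i, hi⟩ := this
      push_cast at hi
      omega
    refine ⟨(k : G), hKcore k hk, hKodd k hk, hcomm k, ?_⟩
    have hcoe : ((k * aC ^ m : ↥(centralizer ({a} : Set G))) : G) = (k : G) * a ^ m := by
      simp [haCdef]
    rw [hcoe]
    have hcz : (k : G) * a ^ m = a ^ m * (k : G) := by
      have : Commute a (k : G) := hcomm k
      exact (this.zpow_left m).eq.symm
    rw [hcz]
    rcases hw with hw | hw
    · left; rw [hw]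
    · right; rw [hw]
  refine ⟨lam, b, hb, hbab, ?_, hval, ?_, hcore⟩
  · -- SpecialData
    have hle : centralizer ({a} : Set G) ≤ Nn a := by
      intro t ht
      rw [mem_Nn]; left
      have := hcomm ⟨t, ht⟩
      simp only at this
      rw [mul_assoc, this]; group
    have hnorm : ∀ g ∈ Nn a, ∀ x ∈ centralizer ({a} : Set G),
        g⁻¹ * x * g ∈ centralizer ({a} : Set G) := by
      intro g hg x hx
      have hxa : a * x = x * a := hcomm ⟨x, hx⟩
      have hxa' : a⁻¹ * x = x * a⁻¹ := by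
        calc a⁻¹ * x = a⁻¹ * (x * a) * a⁻¹ := by group
          _ = a⁻¹ * (a * x) * a⁻¹ := by rw [hxa]
          _ = x * a⁻¹ := by group
      have hg' := (Nn a).inv_mem hg
      rw [mem_Nn, inv_inv] at hg'
      rw [Subgroup.mem_centralizer_iff]
      intro y hy
      rw [Set.mem_singleton_iff.mp hy]
      rcases hg' with hg' | hg'
      · calc a * (g⁻¹ * x * g) = g⁻¹ * ((g * a * g⁻¹) * x) * g := by group
          _ = g⁻¹ * (x * (g * a * g⁻¹)) * g := by rw [hg', hxa]
          _ = g⁻¹ * x * g * a := by group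
      · calc a * (g⁻¹ * x * g) = g⁻¹ * ((g * a * g⁻¹) * x) * g := by group
          _ = g⁻¹ * (x * (g * a * g⁻¹)) * g := by rw [hg', hxa']
          _ = g⁻¹ * x * g * a := by group
    have hbN : b ∈ Nn a := by rw [mem_Nn]; right; exact hbab'
    refine ⟨hle, hbN, ?_, ?_, hnorm, ?_, ?_⟩
    · -- b ∉ C
      intro hbC
      have := hcomm ⟨b, hbC⟩
      simp only at this
      apply haa
      have h1 : b * a * b⁻¹ = a := by rw [← this]; group
      rw [h1] at hbab
      nth_rewrite 1 [hbab]; group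
    · -- cases
      intro g hg
      rw [mem_Nn] at hg
      rcases hg with hg | hg
      · left
        rw [Subgroup.mem_centralizer_iff]
        intro y hy
        rw [Set.mem_singleton_iff.mp hy]
        calc a * g = g * (g⁻¹ * a * g) := by group
          _ = g * a := by rw [hg]
      · right
        rw [Subgroup.mem_centralizer_iff]
        intro y hy
        rw [Set.mem_singleton_iff.mp hy]
        have h1 : g⁻¹ * a⁻¹ * g = a := by
          have : g⁻¹ * a⁻¹ * g = (g⁻¹ * a * g)⁻¹ := by group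
          rw [this, hg, inv_inv]
        calc a * (b⁻¹ * g) = b⁻¹ * (b * a * b⁻¹) * g := by group
          _ = b⁻¹ * g * (g⁻¹ * a⁻¹ * g) := by rw [hbab]; group
          _ = b⁻¹ * g * a := by rw [h1]
    · -- inv
      intro x hx
      obtain ⟨k, hk, m, rfl⟩ := hdec x
      have hk' : b⁻¹ * (k : G) * b ∈ centralizer ({a} : Set G) := hnorm b hbN k k.2
      have hk'K : (⟨b⁻¹ * (k : G) * b, hk'⟩ : ↥(centralizer ({a} : Set G))) ∈ K := by
        rw [hKmem, ← Subgroup.orderOf_coe]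
        simp only
        have : orderOf (b⁻¹ * (k : G) * b) = orderOf (k : G) := orderOf_conj_inv b (k : G)
        rw [this, Subgroup.orderOf_coe]
        exact (hKmem k).mp hk
      have heq : (⟨b⁻¹ * ((k * aC ^ m : ↥(centralizer ({a} : Set G))) : G) * b, hx⟩ :
          ↥(centralizer ({a} : Set G)))
          = ⟨b⁻¹ * (k : G) * b, hk'⟩ * aC ^ (-m) := by
        apply Subtype.ext
        simp only [haCdef, Subgroup.coe_mul, Subgroup.coe_zpow]
        have h1 : b⁻¹ * a ^ m * b = a ^ (-m) := by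
          have : b⁻¹ * a ^ m * b = (b⁻¹ * a * b) ^ m := by
            rw [show b⁻¹ * a * b = b⁻¹ * a * b⁻¹⁻¹ by rw [inv_inv], conj_zpow, inv_inv]
          rw [this, hbab', inv_zpow, zpow_neg]
        calc b⁻¹ * ((k : G) * a ^ m) * b = b⁻¹ * (k : G) * b * (b⁻¹ * a ^ m * b) := by group
          _ = b⁻¹ * (k : G) * b * a ^ (-m) := by rw [h1]
      rw [heq, hLam _ hk'K, hLam k hk, zpow_neg]
    · -- control
      intro g t ht hgt
      obtain ⟨k, -, hkodd, hak, hcase⟩ := hcore t ht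
      obtain ⟨w, hw, htw⟩ : ∃ w, (w = a ∨ w = a⁻¹) ∧ (t : G) = w * k := by
        rcases hcase with hc | hc
        · exact ⟨a, Or.inl rfl, hc⟩
        · exact ⟨a⁻¹, Or.inr rfl, hc⟩
      have hwk : Commute w k := by
        rcases hw with rfl | rfl
        · exact hak
        · exact (show Commute a k from hak).inv_left
      have hpow : (t : G) ^ orderOf k = w ^ orderOf k := by
        rw [htw, hwk.mul_pow, pow_orderOf_eq_one, mul_one]
      have hw' := pow_odd_cases ha4 hw hkodd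
      -- the conjugate
      have hmem : g⁻¹ * (w ^ orderOf k) * g ∈ centralizer ({a} : Set G) := by
        rw [← hpow]
        have : g⁻¹ * (t : G) ^ orderOf k * g = (g⁻¹ * (t : G) * g) ^ orderOf k := by
          rw [show g⁻¹ * (t : G) * g = g⁻¹ * (t : G) * g⁻¹⁻¹ by rw [inv_inv], conj_pow, inv_inv]
        rw [this]
        exact Subgroup.pow_mem _ hgt _
      have hord : orderOf (g⁻¹ * (w ^ orderOf k) * g) = 2 ^ 2 := by
        rw [orderOf_conj_inv]
        rcases hw' with hw' | hw'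
        · rw [hw', ha4]; norm_num
        · rw [hw', orderOf_inv_four ha4]; norm_num
      have hz := mem_zpowers_of_two_elt S h hord (hcomm ⟨_, hmem⟩)
      have hne : g⁻¹ * (w ^ orderOf k) * g * (g⁻¹ * (w ^ orderOf k) * g) ≠ 1 := by
        intro hc
        apply sq_ne_one_cases ha4 hw'
        calc w ^ orderOf k * w ^ orderOf k
            = g * (g⁻¹ * (w ^ orderOf k) * g * (g⁻¹ * (w ^ orderOf k) * g)) * g⁻¹ := by group
          _ = 1 := by rw [hc]; group
      have hfin := sq_eq_of_mem_zpowers ha4 hz hne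
      rw [mem_Nn]
      rcases hw' with hw' | hw'
      · rw [hw'] at hfin; exact hfin
      · rw [hw'] at hfin
        have e : g⁻¹ * a * g = (g⁻¹ * a⁻¹ * g)⁻¹ := by group
        rcases hfin with hfin | hfin
        · right; rw [e, hfin]
        · left; rw [e, hfin, inv_inv]
  · -- value at a
    intro t hta
    have : t = 1 * aC ^ (1 : ℤ) := by
      apply Subtype.ext
      simp [haCdef, hta]
    rw [this, hLam 1 K.one_mem 1, zpow_one]

end Cfsg.Agent.Lib.H1.BSGrp

namespace Cfsg.Agent.Lib.H1.BSGrp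

open Cfsg.Agent.Lib.L0 Subgroup

variable {G : Type*} [Group G] [Finite G] (S : Sylow 2 G) {a : G}

/-- The "core" property of `lam`. -/
def CoreProp (a : G) (lam : ↥(centralizer ({a} : Set G)) →* ℂˣ) : Prop :=
  ∀ t : ↥(centralizer ({a} : Set G)), lam t ≠ 1 →
    ∃ k ∈ Cfsg.centralizerPPrimeCore 2 a, Odd (orderOf k) ∧ a * k = k * a ∧
      ((t : G) = a * k ∨ (t : G) = a⁻¹ * k)

omit [Finite G] in
theorem CoreProp.pow_odd (ha4 : orderOf a = 4) {lam : ↥(centralizer ({a} : Set G)) →* ℂˣ}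
    (hcore : CoreProp a lam) (t : ↥(centralizer ({a} : Set G))) (ht : lam t ≠ 1) :
    ∃ n : ℕ, Odd n ∧ ((t : G) ^ n = a ∨ (t : G) ^ n = a⁻¹) := by
  obtain ⟨k, -, hkodd, hak, hcase⟩ := hcore t ht
  obtain ⟨w, hw, htw⟩ : ∃ w, (w = a ∨ w = a⁻¹) ∧ (t : G) = w * k := by
    rcases hcase with hc | hc
    · exact ⟨a, Or.inl rfl, hc⟩
    · exact ⟨a⁻¹, Or.inr rfl, hc⟩
  have hwk : Commute w k := by
    rcases hw with rfl | rfl
    · exact hak
    · exact (show Commute a k from hak).inv_left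
  have hpow : (t : G) ^ orderOf k = w ^ orderOf k := by
    rw [htw, hwk.mul_pow, pow_orderOf_eq_one, mul_one]
  refine ⟨orderOf k, hkodd, ?_⟩
  rw [hpow]
  exact pow_odd_cases ha4 hw hkodd

omit [Finite G] in
theorem isConj_sq {x u : G} (hx : x * x = 1) (hx1 : x ≠ 1) (hu : IsConj x u) :
    u * u = 1 ∧ u ≠ 1 := by
  obtain ⟨c, hc⟩ := isConj_iff.mp hu
  subst hc
  constructor
  · calc c * x * c⁻¹ * (c * x * c⁻¹) = c * (x * x) * c⁻¹ := by group
      _ = 1 := by rw [hx]; group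
  · intro h1
    apply hx1
    calc x = c⁻¹ * (c * x * c⁻¹) * c := by group
      _ = 1 := by rw [h1]; group

/-- products of two conjugates of the involution avoid the support -/
theorem no_product (h : QuatData (S : Subgroup G) 2 a)
    {lam : ↥(centralizer ({a} : Set G)) →* ℂˣ} (hcore : CoreProp a lam)
    (y : ↥(centralizer ({a} : Set G))) (hy : lam y ≠ 1) (u v : G)
    (hu : IsConj (a ^ 2) u) (hv : IsConj (a ^ 2) v) : u * v ≠ (y : G) := by
  intro huv
  have ha4 : orderOf a = 4 := h.order_a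
  have hxx : a ^ 2 * a ^ 2 = 1 := by rw [← pow_add]; exact pow_four_of_order ha4
  have hx1 : a ^ 2 ≠ 1 := sq_ne_one_of_order ha4
  obtain ⟨huu, hu1⟩ := isConj_sq hxx hx1 hu
  obtain ⟨hvv, hv1⟩ := isConj_sq hxx hx1 hv
  have huinv : u⁻¹ = u := inv_eq_of_mul_eq_one_left huu
  have hvinv : v⁻¹ = v := inv_eq_of_mul_eq_one_left hvv
  obtain ⟨n, hn, hpow⟩ := hcore.pow_odd ha4 y hy
  -- u inverts y
  have hinv : u * (y : G) * u⁻¹ = (y : G)⁻¹ := by
    rw [← huv, mul_inv_rev, huinv, hvinv]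
    calc u * (u * v) * u = (u * u) * v * u := by group
      _ = v * u := by rw [huu, one_mul]
  have hinvn : u * (y : G) ^ n * u⁻¹ = ((y : G) ^ n)⁻¹ := by
    rw [← conj_pow, hinv, inv_pow]
  -- set w = y ^ n
  obtain ⟨w, hw, hwdef⟩ : ∃ w, (w = a ∨ w = a⁻¹) ∧ (y : G) ^ n = w := ⟨_, hpow, rfl⟩
  rw [hwdef] at hinvn
  have hww : w * w = a ^ 2 := by
    rcases hw with rfl | rfl
    · exact (sq w).symm
    · exact inv_mul_inv_of_order ha4
  -- u commutes with x
  have hux : u * a ^ 2 = a ^ 2 * u := by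
    have h1 : u * (w * w) * u⁻¹ = (w * w)⁻¹ := by
      calc u * (w * w) * u⁻¹ = (u * w * u⁻¹) * (u * w * u⁻¹) := by group
        _ = w⁻¹ * w⁻¹ := by rw [hinvn]
        _ = (w * w)⁻¹ := by group
    rw [hww] at h1
    have h2 : (a ^ 2)⁻¹ = a ^ 2 := inv_eq_of_mul_eq_one_left hxx
    rw [h2] at h1
    calc u * a ^ 2 = (u * a ^ 2 * u⁻¹) * u := by group
      _ = a ^ 2 * u := by rw [h1]
  have hueq : u = a ^ 2 := involution_unique S h huu hu1 hxx hx1 hux
  -- but then u commutes with w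
  have hcw : u * w * u⁻¹ = w := by
    rw [hueq]
    rcases hw with rfl | rfl
    · rw [sq]; group
    · rw [sq]; group
  rw [hcw] at hinvn
  apply sq_ne_one_cases ha4 hw
  nth_rewrite 1 [hinvn]; group

/-- vanishing of `lam`-support on sections of `1` and of the involution -/
theorem section_trivial (h : QuatData (S : Subgroup G) 2 a)
    {lam : ↥(centralizer ({a} : Set G)) →* ℂˣ} (hcore : CoreProp a lam)
    (u z : G) (hpart : Cfsg.IsPPart 2 u z) (hz : z * z = 1) (g : G)
    (hg : g⁻¹ * u * g ∈ centralizer ({a} : Set G)) : lam ⟨g⁻¹ * u * g, hg⟩ = 1 := by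
  by_contra hne
  have ha4 : orderOf a = 4 := h.order_a
  obtain ⟨n, hn, hpow⟩ := hcore.pow_odd ha4 _ hne
  simp only at hpow
  obtain ⟨y', hzy, hcomm, -, hodd⟩ := hpart
  -- u ^ (2 r) = 1
  have hu2 : u ^ (2 * orderOf y') = 1 := by
    rw [← hzy, hcomm.mul_pow, pow_mul, sq, hz, one_pow, one_mul, mul_comm, pow_mul,
      pow_orderOf_eq_one, one_pow]
  have ht2 : (g⁻¹ * u * g) ^ (2 * orderOf y') = 1 := by
    rw [show g⁻¹ * u * g = g⁻¹ * u * g⁻¹⁻¹ by rw [inv_inv], conj_pow, hu2]; group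
  obtain ⟨w, hw, hwdef⟩ : ∃ w, (w = a ∨ w = a⁻¹) ∧ (g⁻¹ * u * g) ^ n = w := ⟨_, hpow, rfl⟩
  have hw4 : orderOf w = 4 := by
    rcases hw with rfl | rfl
    · exact ha4
    · exact orderOf_inv_four ha4
  have hw1 : w ^ (2 * orderOf y') = 1 := by
    rw [← hwdef, ← pow_mul, mul_comm, pow_mul, ht2, one_pow]
  have := orderOf_dvd_of_pow_eq_one hw1
  rw [hw4] at this
  apply hodd
  obtain ⟨j, hj⟩ := this
  exact ⟨j, by omega⟩

/-- fusion of the elements of order four -/
theorem fusion (h : QuatData (S : Subgroup G) 2 a)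
    (hfus : ∀ A B : Subgroup G, A ≤ S → B ≤ S → Nat.card A = 4 → Nat.card B = 4 →
      ∃ n ∈ Subgroup.normalizer ((S : Subgroup G) : Set G), B = A.map (MulAut.conj n).toMonoidHom)
    {s : G} (hs : s ∈ (S : Subgroup G)) (hs2 : s * s ≠ 1) :
    ∃ g : G, g * a * g⁻¹ = s ∨ g * a * g⁻¹ = s⁻¹ := by
  have ha4 : orderOf a = 4 := h.order_a
  have hs4 : orderOf s = 4 := orderOf_eq_four h hs hs2
  obtain ⟨n, -, hn⟩ := hfus (zpowers a) (zpowers s) h.zpowers_le (Subgroup.zpowers_le.mpr hs)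
    (by rw [Nat.card_zpowers, ha4]) (by rw [Nat.card_zpowers, hs4])
  have hmem : n * a * n⁻¹ ∈ zpowers s := by
    rw [hn]
    exact ⟨a, Subgroup.mem_zpowers a, by simp [MulAut.conj_apply]⟩
  have hne : n * a * n⁻¹ * (n * a * n⁻¹) ≠ 1 := by
    intro hc
    apply sq_ne_one_of_order ha4
    calc a ^ 2 = n⁻¹ * (n * a * n⁻¹ * (n * a * n⁻¹)) * n := by rw [sq]; group
      _ = 1 := by rw [hc]; group
  exact ⟨n, sq_eq_of_mem_zpowers hs4 hmem hne⟩

end Cfsg.Agent.Lib.H1.BSGrp

namespace Cfsg.Agent.Lib.H1.BSGrp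

open Cfsg.Agent.Lib.L0 Subgroup

variable {G : Type*} [Group G] [Finite G] (S : Sylow 2 G) {a : G}

/-- the involution is central once a suitable normal subgroup exists -/
theorem x_central_of_normal (h : QuatData (S : Subgroup G) 2 a)
    (hO : ∀ N : Subgroup G, N.Normal → Odd (Nat.card N) → N = ⊥)
    (N : Subgroup G) (hN : N.Normal) (hxN : a ^ 2 ∈ N) (haN : a ∉ N)
    (hfus : ∀ s ∈ (S : Subgroup G), s * s ≠ 1 → ∃ g : G, g * a * g⁻¹ = s ∨ g * a * g⁻¹ = s⁻¹) :
    a ^ 2 ∈ center G := by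
  classical
  have hp2 : Fact (Nat.Prime 2) := ⟨Nat.prime_two⟩
  have ha4 : orderOf a = 4 := h.order_a
  have hxx : a ^ 2 * a ^ 2 = 1 := by rw [← pow_add]; exact pow_four_of_order ha4
  have hx1 : a ^ 2 ≠ 1 := sq_ne_one_of_order ha4
  -- Step 1
  have step1 : ∀ s ∈ (S : Subgroup G), s ∈ N → s = 1 ∨ s = a ^ 2 := by
    intro s hs hsN
    by_cases hs2 : s * s = 1
    · exact inv_cases h hs hs2
    · exfalso
      obtain ⟨g, hg | hg⟩ := hfus s hs hs2
      · apply haN
        have : a = g⁻¹ * (g * a * g⁻¹) * g⁻¹⁻¹ := by group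
        rw [this, hg]
        exact hN.conj_mem s hsN g⁻¹
      · apply haN
        have : a = g⁻¹ * (g * a * g⁻¹) * g⁻¹⁻¹ := by group
        rw [this, hg]
        exact hN.conj_mem s⁻¹ (N.inv_mem hsN) g⁻¹
  -- Step 2
  obtain ⟨T⟩ : Nonempty (Sylow 2 N) := inferInstance
  have hP : IsPGroup 2 ((T : Subgroup N).map N.subtype) := T.isPGroup'.map _
  obtain ⟨g, hg⟩ := exists_conj_mem S _ hP
  have hcN : g * a ^ 2 * g⁻¹ ∈ N := hN.conj_mem _ hxN g
  have step2 : ∀ t : N, t ∈ T → t = 1 ∨ t = ⟨g * a ^ 2 * g⁻¹, hcN⟩ := by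
    intro t ht
    have h1 : g⁻¹ * (t : G) * g ∈ (S : Subgroup G) := hg (t : G) ⟨t, ht, rfl⟩
    have h2 : g⁻¹ * (t : G) * g ∈ N := by
      have := hN.conj_mem (t : G) t.2 g⁻¹
      rwa [inv_inv] at this
    rcases step1 _ h1 h2 with h3 | h3
    · left
      apply Subtype.ext
      calc (t : G) = g * (g⁻¹ * (t : G) * g) * g⁻¹ := by group
        _ = 1 := by rw [h3]; group
    · right
      apply Subtype.ext
      calc (t : G) = g * (g⁻¹ * (t : G) * g) * g⁻¹ := by group
        _ = g * a ^ 2 * g⁻¹ := by rw [h3]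
  -- Step 3
  have hTle : (T : Subgroup N) ≤ zpowers (⟨g * a ^ 2 * g⁻¹, hcN⟩ : N) := by
    intro t ht
    rcases step2 t ht with rfl | rfl
    · exact one_mem _
    · exact mem_zpowers _
  have hTc : IsCyclic (T : Subgroup N) := Subgroup.isCyclic_of_le hTle
  -- Step 4
  have h2N : 2 ∣ Nat.card N := by
    have := orderOf_dvd_natCard (⟨a ^ 2, hxN⟩ : N)
    have ho : orderOf (⟨a ^ 2, hxN⟩ : N) = 2 := by
      rw [← Subgroup.orderOf_coe]
      exact orderOf_eq_prime (by rw [sq]; exact hxx) hx1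
    rwa [ho] at this
  obtain ⟨K, hKn, hKc, hKmem⟩ := exists_odd_normal_complement_of_cyclic_sylow T hTc h2N
  -- Step 6
  have hK'n : (K.map N.subtype).Normal := by
    constructor
    rintro x ⟨y, hy, rfl⟩ k
    have hmem : k * (y : G) * k⁻¹ ∈ N := hN.conj_mem _ y.2 k
    refine ⟨⟨k * (y : G) * k⁻¹, hmem⟩, ?_, rfl⟩
    apply (hKmem _).mpr
    rw [← Subgroup.orderOf_coe]
    have h1 := (hKmem y).mp hy
    rw [← Subgroup.orderOf_coe] at h1
    simp only
    have : orderOf (k * (y : G) * k⁻¹) = orderOf (y : G) := by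
      have := orderOf_conj_inv k⁻¹ (y : G)
      rwa [inv_inv] at this
    rw [this]
    exact h1
  have hK'odd : Odd (Nat.card (K.map N.subtype)) := by
    rw [Nat.card_congr (Subgroup.equivMapOfInjective K _
      (Subgroup.subtype_injective _)).toEquiv.symm, hKc.index_eq_card.symm]
    exact Nat.not_even_iff_odd.mp fun he => T.not_dvd_index (even_iff_two_dvd.mp he)
  have hK'bot := hO _ hK'n hK'odd
  have hKbot : K = ⊥ := by
    rw [eq_bot_iff]
    intro x hx
    have : (x : G) ∈ K.map N.subtype := ⟨x, hx, rfl⟩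
    rw [hK'bot, Subgroup.mem_bot] at this
    exact Subgroup.mem_bot.mpr (Subtype.ext this)
  have hTtop : (T : Subgroup N) = ⊤ := by
    rw [hKbot] at hKc
    exact Subgroup.isComplement'_bot_left.mp hKc
  -- Step 7
  have step7 : ∀ y ∈ N, y = 1 ∨ y = g * a ^ 2 * g⁻¹ := by
    intro y hy
    have : (⟨y, hy⟩ : N) ∈ (T : Subgroup N) := by rw [hTtop]; trivial
    rcases step2 _ this with h1 | h1
    · left; exact congrArg Subtype.val h1
    · right; exact congrArg Subtype.val h1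
  have hxeq : a ^ 2 = g * a ^ 2 * g⁻¹ := by
    rcases step7 _ hxN with h1 | h1
    · exact absurd h1 hx1
    · exact h1
  rw [← hxeq] at step7
  -- Step 8
  rw [Subgroup.mem_center_iff]
  intro k
  have h1 : k * a ^ 2 * k⁻¹ ∈ N := hN.conj_mem _ hxN k
  rcases step7 _ h1 with h2 | h2
  · exfalso
    apply hx1
    calc a ^ 2 = k⁻¹ * (k * a ^ 2 * k⁻¹) * k := by group
      _ = 1 := by rw [h2]; group
  · calc k * a ^ 2 = (k * a ^ 2 * k⁻¹) * k := by group
      _ = a ^ 2 * k := by rw [h2]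

/-- the centre has order two once the involution is central -/
theorem card_center_of_central (h : QuatData (S : Subgroup G) 2 a)
    (hO : ∀ N : Subgroup G, N.Normal → Odd (Nat.card N) → N = ⊥)
    (hzc : a ^ 2 ∈ center G) : Nat.card (center G) = 2 := by
  classical
  have hp2 : Fact (Nat.Prime 2) := ⟨Nat.prime_two⟩
  have ha4 : orderOf a = 4 := h.order_a
  have hz1 : a ^ 2 ≠ 1 := sq_ne_one_of_order ha4
  have hcen : ∀ x ∈ Subgroup.center G, x = 1 ∨ x = a ^ 2 := by
    intro x hx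
    have hxc : ∀ g : G, g * x * g⁻¹ = x := by
      intro g
      have := (Subgroup.mem_center_iff.mp hx) g
      rw [this]; group
    obtain ⟨k, r, hr, hkr⟩ := Nat.exists_eq_two_pow_mul_odd (orderOf_pos x).ne'
    have hyn : (Subgroup.zpowers (x ^ 2 ^ k)).Normal := by
      constructor
      intro w hw g
      obtain ⟨j, rfl⟩ := Subgroup.mem_zpowers_iff.mp hw
      have : g * (x ^ 2 ^ k) ^ j * g⁻¹ = (x ^ 2 ^ k) ^ j := by
        rw [← conj_zpow, ← conj_pow, hxc g]
      rw [this]; exact Subgroup.zpow_mem _ (Subgroup.mem_zpowers _) _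
    have hyord : orderOf (x ^ 2 ^ k) = r := by
      rw [orderOf_pow_of_dvd (by positivity) ⟨r, hkr⟩, hkr, Nat.mul_div_cancel_left _ (by positivity)]
    have hybot := hO _ hyn (by rw [Nat.card_zpowers, hyord]; exact hr)
    have hr1 : r = 1 := by
      rw [← hyord, orderOf_eq_one_iff]
      have : x ^ 2 ^ k ∈ Subgroup.zpowers (x ^ 2 ^ k) := Subgroup.mem_zpowers _
      rw [hybot, Subgroup.mem_bot] at this
      exact this
    rw [hr1, mul_one] at hkr
    have hxn : (Subgroup.zpowers x).Normal := by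
      constructor
      intro w hw g
      obtain ⟨j, rfl⟩ := Subgroup.mem_zpowers_iff.mp hw
      have : g * x ^ j * g⁻¹ = x ^ j := by rw [← conj_zpow, hxc g]
      rw [this]; exact Subgroup.zpow_mem _ (Subgroup.mem_zpowers _) _
    have hxp : IsPGroup 2 (Subgroup.zpowers x) := by
      apply IsPGroup.of_card (n := k)
      rw [Nat.card_zpowers, hkr]
    have hxS : x ∈ (S : Subgroup G) := hxp.le_sylow_of_normal S (Subgroup.mem_zpowers x)
    by_cases hx2 : x * x = 1
    · exact inv_cases h hxS hx2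
    · exfalso
      obtain ⟨y, -, hy⟩ := exists_inverting h hxS hx2
      rw [hxc y] at hy
      apply hx2
      nth_rewrite 1 [hy]; group
  rw [Nat.card_eq_two_iff]
  refine ⟨1, ⟨a ^ 2, hzc⟩, ?_, ?_⟩
  · intro h1
    apply hz1
    exact (congrArg Subtype.val h1).symm
  · ext x
    simp only [Set.mem_insert_iff, Set.mem_singleton_iff, Set.mem_univ, iff_true]
    rcases hcen x x.2 with h1 | h1
    · left; exact Subtype.ext h1
    · right; exact Subtype.ext h1

/-- the case of a normal complement -/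
theorem x_central_of_complement (h : QuatData (S : Subgroup G) 2 a)
    (hO : ∀ N : Subgroup G, N.Normal → Odd (Nat.card N) → N = ⊥)
    (N₀ : Subgroup G) (hN₀ : N₀.Normal) (hc : Subgroup.IsComplement' N₀ (S : Subgroup G)) :
    a ^ 2 ∈ center G := by
  have hp2 : Fact (Nat.Prime 2) := ⟨Nat.prime_two⟩
  have ha4 : orderOf a = 4 := h.order_a
  have hxx : a ^ 2 * a ^ 2 = 1 := by rw [← pow_add]; exact pow_four_of_order ha4
  have hx1 : a ^ 2 ≠ 1 := sq_ne_one_of_order ha4
  have hodd : Odd (Nat.card N₀) := by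
    rw [← hc.index_eq_card]
    exact Nat.not_even_iff_odd.mp fun he => S.not_dvd_index (even_iff_two_dvd.mp he)
  have hbot := hO N₀ hN₀ hodd
  have hStop : (S : Subgroup G) = ⊤ := by
    rw [hbot] at hc
    exact Subgroup.isComplement'_bot_left.mp hc
  rw [Subgroup.mem_center_iff]
  intro k
  have h1 : k * a ^ 2 * k⁻¹ ∈ (S : Subgroup G) := by rw [hStop]; trivial
  have h2 : k * a ^ 2 * k⁻¹ * (k * a ^ 2 * k⁻¹) = 1 := by
    calc k * a ^ 2 * k⁻¹ * (k * a ^ 2 * k⁻¹) = k * (a ^ 2 * a ^ 2) * k⁻¹ := by group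
      _ = 1 := by rw [hxx]; group
  rcases inv_cases h h1 h2 with h3 | h3
  · exfalso
    apply hx1
    calc a ^ 2 = k⁻¹ * (k * a ^ 2 * k⁻¹) * k := by group
      _ = 1 := by rw [h3]; group
  · calc k * a ^ 2 = (k * a ^ 2 * k⁻¹) * k := by group
      _ = a ^ 2 * k := by rw [h3]

end Cfsg.Agent.Lib.H1.BSGrp
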