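import Cfsg.Agent.Lib.H8.GenChar
import Cfsg.Agent.Lib.L0.CharExceptional

/-!
# Generalized characters of norm four containing the principal character once (helper1)
-/

set_option autoImplicit false

namespace Cfsg.Agent.Lib.H1.BSNorm4

open Cfsg Cfsg.Agent.Lib.L0 Cfsg.Agent.Lib.H8 Cfsg.Agent.Lib.H24
open scoped ComplexConjugate

/-- A sum of integer squares equal to three has exactly three nonzero terms, each `±1`. -/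
theorem int_sq_sum_eq_three {ι : Type*} [DecidableEq ι] (s : Finset ι) (f : ι → ℤ)
    (h : ∑ i ∈ s, f i ^ 2 = 3) :
    ∃ i₀ ∈ s, ∃ i₁ ∈ s, ∃ i₂ ∈ s, i₀ ≠ i₁ ∧ i₀ ≠ i₂ ∧ i₁ ≠ i₂ ∧
      (f i₀ = 1 ∨ f i₀ = -1) ∧ (f i₁ = 1 ∨ f i₁ = -1) ∧ (f i₂ = 1 ∨ f i₂ = -1) ∧
      ∀ j ∈ s, j ≠ i₀ → j ≠ i₁ → j ≠ i₂ → f j = 0 := by
  have hex : ∃ i₀ ∈ s, f i₀ ≠ 0 := by
    by_contra hno
    push Not at hno
    rw [Finset.sum_eq_zero (fun i hi => by rw [hno i hi]; ring)] at h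
    norm_num at h
  obtain ⟨i₀, hi₀, hne⟩ := hex
  rw [← Finset.add_sum_erase s _ hi₀] at h
  have hnn : 0 ≤ ∑ i ∈ s.erase i₀, f i ^ 2 := Finset.sum_nonneg (fun i _ => sq_nonneg _)
  have hle : f i₀ ^ 2 ≤ 3 := by linarith
  have h1 : f i₀ = 1 ∨ f i₀ = -1 := by
    have hb1 : f i₀ ≤ 1 := by nlinarith
    have hb2 : -1 ≤ f i₀ := by nlinarith
    omega
  have hsq : f i₀ ^ 2 = 1 := by rcases h1 with h | h <;> rw [h] <;> norm_num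
  have hrest : ∑ i ∈ s.erase i₀, f i ^ 2 = 2 := by linarith
  obtain ⟨i₁, hi₁, i₂, hi₂, h12, hv1, hv2, hz⟩ := int_sq_sum_eq_two (s.erase i₀) f hrest
  refine ⟨i₀, hi₀, i₁, Finset.mem_of_mem_erase hi₁, i₂, Finset.mem_of_mem_erase hi₂,
    (Finset.ne_of_mem_erase hi₁).symm, (Finset.ne_of_mem_erase hi₂).symm, h12, h1, hv1, hv2, ?_⟩
  intro j hj hj0 hj1 hj2
  exact hz j (Finset.mem_erase.mpr ⟨hj0, hj⟩) hj1 hj2

variable {G : Type*} [Group G] [Fintype G]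

/-- the trivial character as an element of `IrrCharacter G` -/
noncomputable def oneIrr : IrrCharacter G := ⟨1, Cfsg.Agent.Lib.L0.isIrrCharacter_one⟩

/-- Decomposition data for a generalized character of norm four containing the trivial
character once. -/
structure Decomp (Θ : G → ℂ) (ξ₁ ξ₂ ξ₃ : IrrCharacter G) (ε₁ ε₂ ε₃ : ℤ) : Prop where
  ne1 : ξ₁ ≠ oneIrr
  ne2 : ξ₂ ≠ oneIrr
  ne3 : ξ₃ ≠ oneIrr
  ne12 : ξ₁ ≠ ξ₂
  ne13 : ξ₁ ≠ ξ₃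
  ne23 : ξ₂ ≠ ξ₃
  e1 : ε₁ = 1 ∨ ε₁ = -1
  e2 : ε₂ = 1 ∨ ε₂ = -1
  e3 : ε₃ = 1 ∨ ε₃ = -1
  c1 : classInner Θ (ξ₁ : G → ℂ) = ε₁
  c2 : classInner Θ (ξ₂ : G → ℂ) = ε₂
  c3 : classInner Θ (ξ₃ : G → ℂ) = ε₃
  c0 : classInner Θ (1 : G → ℂ) = 1
  other : ∀ χ : IrrCharacter G, χ ≠ oneIrr → χ ≠ ξ₁ → χ ≠ ξ₂ → χ ≠ ξ₃ →
    classInner Θ (χ : G → ℂ) = 0

theorem exists_decomp {Θ : G → ℂ} (hΘ : IsGeneralizedCharacter G Θ)
    (h4 : classInner Θ Θ = 4) (h1 : classInner Θ (1 : G → ℂ) = 1) :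
    ∃ (ξ₁ ξ₂ ξ₃ : IrrCharacter G) (ε₁ ε₂ ε₃ : ℤ), Decomp Θ ξ₁ ξ₂ ξ₃ ε₁ ε₂ ε₃ := by
  classical
  have : Fintype (IrrCharacter G) := Fintype.ofFinite _
  have hc : ∀ ξ : IrrCharacter G, ∃ c : ℤ, classInner Θ (ξ : G → ℂ) = c :=
    fun ξ => genChar_classInner_irr_int hΘ ξ.2
  choose c hc using hc
  have hn := genChar_norm hΘ c hc
  rw [h4] at hn
  have hn' : ∑ ξ : IrrCharacter G, c ξ ^ 2 = 4 := by exact_mod_cast hn.symm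
  have hc1 : c oneIrr = 1 := by
    have := hc oneIrr
    rw [show ((oneIrr : IrrCharacter G) : G → ℂ) = 1 from rfl, h1] at this
    exact_mod_cast this.symm
  rw [← Finset.add_sum_erase _ _ (Finset.mem_univ (oneIrr : IrrCharacter G)), hc1] at hn'
  have hn3 : ∑ ξ ∈ Finset.univ.erase (oneIrr : IrrCharacter G), c ξ ^ 2 = 3 := by linarith
  obtain ⟨i₀, hi₀, i₁, hi₁, i₂, hi₂, h01, h02, h12, v0, v1, v2, hz⟩ :=
    int_sq_sum_eq_three _ c hn3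
  refine ⟨i₀, i₁, i₂, c i₀, c i₁, c i₂, ⟨Finset.ne_of_mem_erase hi₀, Finset.ne_of_mem_erase hi₁,
    Finset.ne_of_mem_erase hi₂, h01, h02, h12, v0, v1, v2, hc i₀, hc i₁, hc i₂, h1, ?_⟩⟩
  intro χ h0 h1' h2' h3'
  rw [hc χ, hz χ (Finset.mem_erase.mpr ⟨h0, Finset.mem_univ _⟩) h1' h2' h3']
  simp

namespace Decomp

variable {Θ : G → ℂ} {ξ₁ ξ₂ ξ₃ : IrrCharacter G} {ε₁ ε₂ ε₃ : ℤ}

/-- The sum formula. -/
theorem sum_formula [Fintype (IrrCharacter G)] (h : Decomp Θ ξ₁ ξ₂ ξ₃ ε₁ ε₂ ε₃)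
    (F : IrrCharacter G → ℂ) :
    ∑ χ : IrrCharacter G, classInner Θ (χ : G → ℂ) * F χ
      = F oneIrr + ε₁ * F ξ₁ + ε₂ * F ξ₂ + ε₃ * F ξ₃ := by
  classical
  rw [← Finset.add_sum_erase _ _ (Finset.mem_univ (oneIrr : IrrCharacter G)),
    ← Finset.add_sum_erase _ _ (Finset.mem_erase.mpr ⟨h.ne1, Finset.mem_univ ξ₁⟩),
    ← Finset.add_sum_erase _ _ (Finset.mem_erase.mpr ⟨h.ne12.symm,
      Finset.mem_erase.mpr ⟨h.ne2, Finset.mem_univ ξ₂⟩⟩),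
    ← Finset.add_sum_erase _ _ (Finset.mem_erase.mpr ⟨h.ne23.symm, Finset.mem_erase.mpr
      ⟨h.ne13.symm, Finset.mem_erase.mpr ⟨h.ne3, Finset.mem_univ ξ₃⟩⟩⟩),
    Finset.sum_eq_zero, add_zero]
  · rw [show ((oneIrr : IrrCharacter G) : G → ℂ) = 1 from rfl, h.c0, h.c1, h.c2, h.c3]
    ring
  · intro χ hχ
    have h3 := Finset.ne_of_mem_erase hχ
    have hχ2 := Finset.mem_of_mem_erase hχ
    have h2 := Finset.ne_of_mem_erase hχ2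
    have hχ1 := Finset.mem_of_mem_erase hχ2
    have h1 := Finset.ne_of_mem_erase hχ1
    have hχ0 := Finset.mem_of_mem_erase hχ1
    have h0 := Finset.ne_of_mem_erase hχ0
    rw [h.other χ h0 h1 h2 h3, zero_mul]

/-- The expansion of `Θ`. -/
theorem expansion (hΘ : IsGeneralizedCharacter G Θ) (h : Decomp Θ ξ₁ ξ₂ ξ₃ ε₁ ε₂ ε₃) (g : G) :
    Θ g = 1 + ε₁ * (ξ₁ : G → ℂ) g + ε₂ * (ξ₂ : G → ℂ) g + ε₃ * (ξ₃ : G → ℂ) g := by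
  classical
  have : Fintype (IrrCharacter G) := Fintype.ofFinite _
  have hexp := classFunction_expansion Θ (isClassFunction_of_isGeneralizedCharacter hΘ)
  have := congrFun hexp g
  rw [Finset.sum_apply] at this
  simp only [Pi.smul_apply, smul_eq_mul] at this
  rw [this, h.sum_formula (fun χ => (χ : G → ℂ) g)]
  simp [oneIrr]

end Decomp

end Cfsg.Agent.Lib.H1.BSNorm4
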