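import Mathlib
import Cfsg.Agent.Lib.H1.BSGrp
import Cfsg.Agent.Lib.H1.BSNorm4
import Cfsg.Agent.Lib.H1.BSArith
import Cfsg.Agent.Lib.L0.CharOps
import Cfsg.Agent.Lib.L0.CharSpecialKer
import Cfsg.Agent.S0925
import Cfsg.Agent.S0942
import Cfsg.Agent.Lib.H12.LocalArith
import Cfsg.Agent.Lib.L0.CharLinear
import Cfsg.Agent.Lib.H23.BlockOsima
import Cfsg.Agent.Lib.H24.CharKer

/-!
# Character theory for the Brauer-Suzuki theorem, quaternion Sylow subgroup of order eight (helper1)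

An ordinary-character proof: `Theta = Ind (1 - lam)` has norm four; block orthogonality puts its
constituents into the principal block; restriction to the Sylow subgroup gives congruences;
a 2-adic argument shows the involution lies in the kernels of the constituents.
-/

set_option autoImplicit false

namespace Cfsg.Agent.Lib.H1.BSGrp

open Cfsg Cfsg.Agent.Lib.L0 Subgroup
open scoped ComplexConjugate

variable {G : Type*} [Group G]

/-- sums over a cyclic group of order four -/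
theorem sum_zpowers_four {a : G} (ha4 : orderOf a = 4) [Fintype (zpowers a)] (f : zpowers a → ℂ) :
    ∑ t : zpowers a, f t = f 1 + f ⟨a, mem_zpowers a⟩ + f ⟨a ^ 2, Subgroup.pow_mem _ (mem_zpowers a) 2⟩
      + f ⟨a⁻¹, Subgroup.inv_mem _ (mem_zpowers a)⟩ := by
  have hfin : IsOfFinOrder a := by
    rw [← orderOf_pos_iff, ha4]; norm_num
  rw [← Equiv.sum_comp ((finCongr ha4.symm).trans (finEquivZPowers hfin)) f, Fin.sum_univ_four]
  have hval : ∀ n : Fin 4, ((((finCongr ha4.symm).trans (finEquivZPowers hfin)) n : zpowers a) : G)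
      = a ^ (n : ℕ) := by
    intro n
    simp [finEquivZPowers_apply]
  have h0 : ((finCongr ha4.symm).trans (finEquivZPowers hfin)) 0 = (1 : zpowers a) := by
    apply Subtype.ext; rw [hval]; simp
  have h1 : ((finCongr ha4.symm).trans (finEquivZPowers hfin)) 1 = ⟨a, mem_zpowers a⟩ := by
    apply Subtype.ext; rw [hval]; simp
  have h2 : ((finCongr ha4.symm).trans (finEquivZPowers hfin)) 2
      = ⟨a ^ 2, Subgroup.pow_mem _ (mem_zpowers a) 2⟩ := by
    apply Subtype.ext; rw [hval]; simp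
  have h3 : ((finCongr ha4.symm).trans (finEquivZPowers hfin)) 3
      = ⟨a⁻¹, Subgroup.inv_mem _ (mem_zpowers a)⟩ := by
    apply Subtype.ext; rw [hval]; exact pow_three_of_order ha4
  rw [h0, h1, h2, h3]

end Cfsg.Agent.Lib.H1.BSGrp

namespace Cfsg.Agent.Lib.H1.BSGrp

open Cfsg Cfsg.Agent.Lib.L0 Subgroup
open scoped ComplexConjugate

variable {G : Type*} [Group G]

theorem restrict_congr [Finite G] {S : Subgroup G} {a : G} (h : QuatData S 2 a) {χ : G → ℂ}
    (hχ : IsCharacter G χ) (c : ℂ) (hc : ∀ s ∈ S, s * s ≠ 1 → χ s = c) :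
    ∃ m n : ℕ, χ 1 - χ (a ^ 2) = 4 * m ∧ χ 1 + χ (a ^ 2) + 6 * c = 8 * n := by
  classical
  have ha4 : orderOf a = 4 := h.order_a
  have : Fintype (zpowers a) := Fintype.ofFinite _
  have : Fintype S := Fintype.ofFinite _
  have haa : a * a ≠ 1 := by rw [← sq]; exact sq_ne_one_of_order ha4
  have hca : χ a = c := hc a h.ha haa
  have hca' : χ a⁻¹ = c := by
    apply hc a⁻¹ (S.inv_mem h.ha)
    rw [inv_mul_inv_of_order ha4]; exact sq_ne_one_of_order ha4
  -- the faithful character of ⟨a⟩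
  have hgen : ∀ t : zpowers a, t ∈ zpowers (⟨a, mem_zpowers a⟩ : zpowers a) := by
    intro t
    obtain ⟨k, hk⟩ := Subgroup.mem_zpowers_iff.mp t.2
    rw [Subgroup.mem_zpowers_iff]
    exact ⟨k, Subtype.ext (by simpa using hk)⟩
  have hdiv : orderOf (Units.mk0 Complex.I Complex.I_ne_zero) ∣
      orderOf (⟨a, mem_zpowers a⟩ : zpowers a) := by
    have : orderOf (⟨a, mem_zpowers a⟩ : zpowers a) = 4 := by
      rw [← ha4, ← Subgroup.orderOf_coe]
    rw [this]
    apply orderOf_dvd_of_pow_eq_one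
    apply Units.ext
    simp [Complex.I_pow_four]
  obtain ⟨φ, hφ⟩ : ∃ φ : zpowers a →* ℂˣ, φ (⟨a, mem_zpowers a⟩ : zpowers a)
      = Units.mk0 Complex.I Complex.I_ne_zero :=
    ⟨_, monoidHomOfForallMemZpowers_apply_gen hgen hdiv⟩
  have hirr := isIrrCharacter_of_hom φ
  obtain ⟨m, hm⟩ := classInner_char_irr_nat (isCharacter_restrict (zpowers a) hχ) hirr
  have hφ2 : φ (⟨a ^ 2, Subgroup.pow_mem _ (mem_zpowers a) 2⟩ : zpowers a)
      = (Units.mk0 Complex.I Complex.I_ne_zero) ^ 2 := by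
    rw [← hφ, ← map_pow]; rfl
  have hφ3 : φ (⟨a⁻¹, Subgroup.inv_mem _ (mem_zpowers a)⟩ : zpowers a)
      = (Units.mk0 Complex.I Complex.I_ne_zero)⁻¹ := by
    rw [← hφ, ← map_inv]; rfl
  have hcardA : (Nat.card (zpowers a) : ℂ) = 4 := by
    rw [Nat.card_zpowers, ha4]; norm_num
  unfold classInner at hm
  rw [sum_zpowers_four ha4, hcardA] at hm
  simp only [hφ, hφ2, hφ3, map_one, Units.val_one, OneMemClass.coe_one, Units.val_mk0,
    Units.val_pow_eq_pow_val, Units.val_inv_eq_inv_val, Complex.I_sq, Complex.inv_I,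
    Complex.conj_I, map_neg, hca, hca'] at hm
  -- S-level
  obtain ⟨n, hn⟩ := classInner_char_irr_nat (isCharacter_restrict S hχ)
    (isIrrCharacter_one (G := S))
  have hcardS : (Nat.card S : ℂ) = 8 := by rw [h.card]; norm_num
  have hxS : a ^ 2 ∈ S := S.pow_mem h.ha 2
  have hx1 : (⟨a ^ 2, hxS⟩ : S) ≠ 1 := by
    intro hc1
    apply sq_ne_one_of_order ha4
    exact congrArg Subtype.val hc1
  have key : ∀ s : S, χ s = c + (if s = 1 then χ 1 - c else 0)
      + (if s = ⟨a ^ 2, hxS⟩ then χ (a ^ 2) - c else 0) := by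
    intro s
    by_cases h1 : s = 1
    · subst h1
      rw [if_pos rfl, if_neg (Ne.symm hx1)]
      simp
    · by_cases h2 : s = ⟨a ^ 2, hxS⟩
      · subst h2
        rw [if_neg hx1, if_pos rfl]
        simp
      · rw [if_neg h1, if_neg h2, add_zero, add_zero]
        apply hc s s.2
        intro hss
        rcases inv_cases h s.2 hss with h3 | h3
        · exact h1 (Subtype.ext h3)
        · exact h2 (Subtype.ext h3)
  have hsum : ∑ s : S, χ s = 8 * c + (χ 1 - c) + (χ (a ^ 2) - c) := by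
    rw [Finset.sum_congr rfl (fun s _ => key s), Finset.sum_add_distrib, Finset.sum_add_distrib,
      Finset.sum_const, Finset.sum_ite_eq', Finset.sum_ite_eq', if_pos (Finset.mem_univ _),
      if_pos (Finset.mem_univ _), Finset.card_univ, ← Nat.card_eq_fintype_card, h.card]
    simp
  unfold classInner at hn
  simp only [Pi.one_apply, map_one, mul_one] at hn
  rw [hsum, hcardS] at hn
  refine ⟨m, n, ?_, ?_⟩
  · linear_combination 4 * hm
  · linear_combination 8 * hn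

end Cfsg.Agent.Lib.H1.BSGrp

namespace Cfsg.Agent.Lib.H1.BSGrp

open Cfsg Cfsg.Agent.Lib.L0 Subgroup
open scoped ComplexConjugate

variable {G : Type*} [Group G] [Fintype G]

/-- The hypotheses collected. -/
structure Setup (S : Sylow 2 G) (a b : G) (lam : ↥(centralizer ({a} : Set G)) →* ℂˣ) : Prop where
  quat : QuatData (S : Subgroup G) 2 a
  bS : b ∈ (S : Subgroup G)
  bab : b * a * b⁻¹ = a⁻¹
  sd : SpecialData (centralizer ({a} : Set G)) (Nn a) lam b
  val : ∀ t, lam t = 1 ∨ lam t = -1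
  lama : ∀ t : ↥(centralizer ({a} : Set G)), (t : G) = a → lam t = -1
  core : CoreProp a lam
  fus : ∀ s ∈ (S : Subgroup G), s * s ≠ 1 → ∃ g : G, g * a * g⁻¹ = s ∨ g * a * g⁻¹ = s⁻¹

/-- The induced class function. -/
noncomputable abbrev Theta {a : G} (lam : ↥(centralizer ({a} : Set G)) →* ℂˣ) : G → ℂ :=
  indFun (centralizer ({a} : Set G)) (oneSub lam)

namespace Setup

variable {S : Sylow 2 G} {a b : G} {lam : ↥(centralizer ({a} : Set G)) →* ℂˣ}

theorem a_mem (_h : Setup S a b lam) : a ∈ centralizer ({a} : Set G) := by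
  rw [Subgroup.mem_centralizer_iff]; intro y hy; rw [Set.mem_singleton_iff.mp hy]

theorem lam_a (h : Setup S a b lam) : lam ⟨a, h.a_mem⟩ = -1 := h.lama _ rfl

theorem exists_ne_one (h : Setup S a b lam) : ∃ x : ↥(centralizer ({a} : Set G)), lam x ≠ 1 := by
  refine ⟨⟨a, h.a_mem⟩, ?_⟩
  rw [h.lam_a]
  intro hc
  have := congrArg (fun u : ℂˣ => (u : ℂ)) hc
  norm_num at this

theorem lam_inv (h : Setup S a b lam) : lam⁻¹ = lam := by
  ext t
  rw [MonoidHom.inv_apply]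
  rcases h.val t with h1 | h1 <;> rw [h1] <;> simp

theorem theta_gen (_h : Setup S a b lam) : IsGeneralizedCharacter G (Theta lam) :=
  SpecialData.isGeneralizedCharacter lam

theorem theta_inner_one (h : Setup S a b lam) : classInner (Theta lam) (1 : G → ℂ) = 1 :=
  h.sd.classInner_one h.exists_ne_one

theorem theta_at_one (h : Setup S a b lam) : Theta lam 1 = 0 := h.sd.indFun_one

theorem theta_at_a (h : Setup S a b lam) : Theta lam a = 4 := by
  have := h.sd.indFun_apply_mem ⟨a, h.a_mem⟩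
  simp only at this
  rw [Theta, this, h.lam_a]
  simp
  norm_num

theorem theta_norm (h : Setup S a b lam) : classInner (Theta lam) (Theta lam) = 4 := by
  classical
  have : Fintype ↥(centralizer ({a} : Set G)) := Fintype.ofFinite _
  rw [Theta, frobenius_reciprocity _ _ _ (indFun_isClassFunction _ _), h.sd.restrict_eq,
    SpecialData.oneSub_eq, h.lam_inv]
  have i1 : IsIrrCharacter ↥(centralizer ({a} : Set G)) (1 : ↥(centralizer ({a} : Set G)) → ℂ) :=
    isIrrCharacter_one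
  have iL := SpecialData.lamF_irr lam
  have e11 := irr_classInner_self i1
  have eLL := irr_classInner_self iL
  have e1L := irr_classInner_ne i1 iL (SpecialData.lamF_ne_one h.exists_ne_one).symm
  have eL1 := irr_classInner_ne iL i1 (SpecialData.lamF_ne_one h.exists_ne_one)
  simp only [classInner_sub_left, classInner_sub_right, classInner_add_right, e11, eLL, e1L, eL1]
  norm_num

theorem theta_vanish (h : Setup S a b lam) (u z : G) (hpart : IsPPart 2 u z) (hz : z * z = 1) :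
    Theta lam u = 0 := by
  have : Finite G := Finite.of_fintype G
  exact indFun_oneSub_eq_zero lam u (fun g hg => section_trivial S h.quat h.core u z hpart hz g hg)

theorem theta_at_x (h : Setup S a b lam) : Theta lam (a ^ 2) = 0 := by
  have ha4 : orderOf a = 4 := h.quat.order_a
  apply h.theta_vanish (a ^ 2) (a ^ 2)
  · refine ⟨1, mul_one _, Commute.one_right _, ⟨1, ?_⟩, by simp⟩
    rw [pow_one]
    exact orderOf_eq_prime (by rw [← pow_mul]; exact pow_four_of_order ha4)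
      (sq_ne_one_of_order ha4)
  · rw [← pow_add]; exact pow_four_of_order ha4

theorem theta_rel (h : Setup S a b lam) :
    ∑ᶠ χ : IrrCharacter G, (χ : G → ℂ) (a ^ 2) * (χ : G → ℂ) (a ^ 2) / (χ : G → ℂ) 1
      * classInner (Theta lam) (χ : G → ℂ) = 0 := by
  have : Finite G := Finite.of_fintype G
  apply sum_sq_div_mul_classInner_eq_zero
  intro y hy u v hu hv
  apply no_product S h.quat h.core y _ u v hu hv
  intro hc
  apply hy
  unfold oneSub
  rw [hc]; simp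

end Setup

end Cfsg.Agent.Lib.H1.BSGrp

namespace Cfsg.Agent.Lib.H1.BSGrp

open Cfsg Cfsg.Agent.Lib.L0 Subgroup
open scoped ComplexConjugate

variable {G : Type*} [Group G] [Fintype G]

namespace Setup

variable {S : Sylow 2 G} {a b : G} {lam : ↥(centralizer ({a} : Set G)) →* ℂˣ}
variable {M : Ideal AlgInt}

theorem irr_a_inv (h : Setup S a b lam) (ξ : IrrCharacter G) :
    (ξ : G → ℂ) a⁻¹ = (ξ : G → ℂ) a := by
  have := isClassFunction_of_isCharacter (isCharacter_of_irr ξ.2) a b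
  rw [h.bab] at this
  exact this

theorem irr_a_real (h : Setup S a b lam) (ξ : IrrCharacter G) :
    conj ((ξ : G → ℂ) a) = (ξ : G → ℂ) a := by
  have : Finite G := Finite.of_fintype G
  rw [← Cfsg.Agent.Lib.H24.irr_inv, h.irr_a_inv]

theorem irr_const (h : Setup S a b lam) (hM : IsPModular 2 M) (ξ : IrrCharacter G)
    (hξ : ξ ∈ principalBlock M G) (t : ↥(centralizer ({a} : Set G))) (ht : lam t ≠ 1) :
    (ξ : G → ℂ) (t : G) = (ξ : G → ℂ) a := by
  have : Finite G := Finite.of_fintype G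
  have hp2 : Fact (Nat.Prime 2) := ⟨Nat.prime_two⟩
  have ha4 : orderOf a = 4 := h.quat.order_a
  have hao : ∃ k : ℕ, orderOf a = 2 ^ k := ⟨2, by rw [ha4]; norm_num⟩
  obtain ⟨k, hk, -, hak, hcase⟩ := h.core t ht
  rcases hcase with hc | hc
  · rw [hc]
    exact Cfsg.Agent.S0942.result 2 M hM a hao k hk ξ hξ
  · have h1 := Cfsg.Agent.S0942.result 2 M hM a hao k⁻¹ (Subgroup.inv_mem _ hk) ξ hξ
    have h2 : a⁻¹ * k = (a * k⁻¹)⁻¹ := by
      rw [mul_inv_rev, inv_inv]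
      have : Commute a⁻¹ k := (show Commute a k from hak).inv_left
      exact this.eq
    rw [hc, h2, Cfsg.Agent.Lib.H24.irr_inv, h1, h.irr_a_real]

theorem inner_oneSub_one (h : Setup S a b lam) [Fintype ↥(centralizer ({a} : Set G))] :
    classInner (oneSub lam) (1 : ↥(centralizer ({a} : Set G)) → ℂ) = 1 := by
  rw [SpecialData.oneSub_eq]
  have i1 : IsIrrCharacter ↥(centralizer ({a} : Set G)) (1 : ↥(centralizer ({a} : Set G)) → ℂ) :=
    isIrrCharacter_one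
  have iL := SpecialData.lamF_irr lam
  rw [classInner_sub_left, irr_classInner_self i1,
    irr_classInner_ne iL i1 (SpecialData.lamF_ne_one h.exists_ne_one), sub_zero]

theorem irr_at_a (h : Setup S a b lam) (hM : IsPModular 2 M) (ξ : IrrCharacter G)
    (hξ : ξ ∈ principalBlock M G) :
    classInner (Theta lam) (ξ : G → ℂ) = (ξ : G → ℂ) a := by
  classical
  have : Fintype ↥(centralizer ({a} : Set G)) := Fintype.ofFinite _
  rw [Theta, frobenius_reciprocity _ _ _ (isClassFunction_of_isCharacter (isCharacter_of_irr ξ.2))]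
  have h1 := h.inner_oneSub_one
  unfold classInner at h1 ⊢
  have hterm : ∀ t : ↥(centralizer ({a} : Set G)),
      oneSub lam t * conj ((ξ : G → ℂ) (t : G))
        = (ξ : G → ℂ) a * (oneSub lam t * conj ((1 : ↥(centralizer ({a} : Set G)) → ℂ) t)) := by
    intro t
    by_cases ht : lam t = 1
    · unfold oneSub; rw [ht]; simp
    · rw [h.irr_const hM ξ hξ t ht, h.irr_a_real]
      simp; ring
  rw [Finset.sum_congr rfl (fun t _ => hterm t), ← Finset.mul_sum, mul_left_comm, h1, mul_one]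

theorem irr_on_S (h : Setup S a b lam) (hM : IsPModular 2 M) (ξ : IrrCharacter G)
    (hξ : ξ ∈ principalBlock M G) (ε : ℤ) (hε : classInner (Theta lam) (ξ : G → ℂ) = ε)
    (s : G) (hs : s ∈ (S : Subgroup G)) (hs2 : s * s ≠ 1) : (ξ : G → ℂ) s = ε := by
  have : Finite G := Finite.of_fintype G
  have ha : (ξ : G → ℂ) a = ε := by rw [← h.irr_at_a hM ξ hξ, hε]
  obtain ⟨g, hg | hg⟩ := h.fus s hs hs2
  · rw [← hg, isClassFunction_of_isCharacter (isCharacter_of_irr ξ.2) a g, ha]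
  · have h1 : (ξ : G → ℂ) s⁻¹ = ε := by
      rw [← hg, isClassFunction_of_isCharacter (isCharacter_of_irr ξ.2) a g, ha]
    have h2 := Cfsg.Agent.Lib.H24.irr_inv ξ s⁻¹
    rw [inv_inv, h1] at h2
    rw [h2, map_intCast]

theorem sq_ne_one_of_inverting (h : Setup S a b lam) {y : G} (hy : y ∈ (S : Subgroup G))
    (hya : y * a * y⁻¹ = a⁻¹) : y * y ≠ 1 := by
  intro hyy
  have ha4 : orderOf a = 4 := h.quat.order_a
  have hcomm : y * a * y⁻¹ = a := by
    rcases inv_cases h.quat hy hyy with rfl | rfl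
    · group
    · rw [sq]; group
  rw [hcomm] at hya
  apply sq_ne_one_of_order ha4
  rw [sq]
  nth_rewrite 1 [hya]; group

theorem no_linear (h : Setup S a b lam) (hM : IsPModular 2 M) (ξ : IrrCharacter G)
    (hξ : ξ ∈ principalBlock M G) (hε : classInner (Theta lam) (ξ : G → ℂ) = ((-1 : ℤ) : ℂ))
    (h1 : (ξ : G → ℂ) 1 = 1) : False := by
  have ha4 : orderOf a = 4 := h.quat.order_a
  have haa : a * a ≠ 1 := by rw [← sq]; exact sq_ne_one_of_order ha4
  have hbb : b * b ≠ 1 := h.sq_ne_one_of_inverting h.bS h.bab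
  have hab : (a * b) * (a * b) ≠ 1 := by
    apply h.sq_ne_one_of_inverting (Subgroup.mul_mem _ h.quat.ha h.bS)
    calc a * b * a * (a * b)⁻¹ = a * (b * a * b⁻¹) * a⁻¹ := by group
      _ = a⁻¹ := by rw [h.bab]; group
  have e1 := h.irr_on_S hM ξ hξ (-1) hε a h.quat.ha haa
  have e2 := h.irr_on_S hM ξ hξ (-1) hε b h.bS hbb
  have e3 := h.irr_on_S hM ξ hξ (-1) hε (a * b) (Subgroup.mul_mem _ h.quat.ha h.bS) hab
  rw [linear_char_mul (isCharacter_of_irr ξ.2) h1, e1, e2] at e3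
  norm_num at e3

end Setup

end Cfsg.Agent.Lib.H1.BSGrp

namespace Cfsg.Agent.Lib.H1.BSGrp

open Cfsg Cfsg.Agent.Lib.L0 Subgroup Cfsg.Agent.Lib.H1.BSNorm4
open scoped ComplexConjugate

variable {G : Type*} [Group G] [Fintype G]

theorem blockPart_apply (B : Set (IrrCharacter G)) (ϑ : G → ℂ) (g : G) :
    blockPart B ϑ g = ∑ᶠ χ ∈ B, classInner ϑ (χ : G → ℂ) * (χ : G → ℂ) g := by
  unfold blockPart
  congr!

namespace Setup

variable {S : Sylow 2 G} {a b : G} {lam : ↥(centralizer ({a} : Set G)) →* ℂˣ}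
variable {M : Ideal AlgInt}
variable {ξ₁ ξ₂ ξ₃ : IrrCharacter G} {ε₁ ε₂ ε₃ : ℤ}

open Classical in
theorem block_eq (h : Setup S a b lam) (hM : IsPModular 2 M)
    (hdec : Decomp (Theta lam) ξ₁ ξ₂ ξ₃ ε₁ ε₂ ε₃) (B : Set (IrrCharacter G)) (hB : IsPBlock M B) :
    (if oneIrr ∈ B then (1 : ℂ) else 0) + ε₁ * (if ξ₁ ∈ B then (ξ₁ : G → ℂ) 1 else 0)
      + ε₂ * (if ξ₂ ∈ B then (ξ₂ : G → ℂ) 1 else 0)
      + ε₃ * (if ξ₃ ∈ B then (ξ₃ : G → ℂ) 1 else 0) = 0 := by
  have : Finite G := Finite.of_fintype G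
  have hp2 : Fact (Nat.Prime 2) := ⟨Nat.prime_two⟩
  have : Fintype (IrrCharacter G) := Fintype.ofFinite _
  have hv := (Cfsg.Agent.S0925.result 2 M hM).1 (Theta lam) (indFun_isClassFunction _ _) 1
    ⟨0, by simp⟩
    (fun u z hpart hconj => h.theta_vanish u z hpart (by
      rw [isConj_one_right.mp hconj, one_mul])) B hB 1 1
    ⟨1, one_mul 1, Commute.one_right 1, ⟨0, by simp⟩, by simp⟩ (IsConj.refl 1)
  rw [blockPart_apply, Cfsg.Agent.Lib.H23.finsum_mem_eq_sum_ite] at hv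
  have h2 : ∀ χ : IrrCharacter G,
      (if χ ∈ B then classInner (Theta lam) (χ : G → ℂ) * (χ : G → ℂ) 1 else 0)
        = classInner (Theta lam) (χ : G → ℂ) * (if χ ∈ B then (χ : G → ℂ) 1 else 0) := by
    intro χ
    split_ifs <;> simp
  rw [Finset.sum_congr rfl (fun χ _ => h2 χ),
    hdec.sum_formula (fun χ => if χ ∈ B then (χ : G → ℂ) 1 else 0)] at hv
  have e : ((oneIrr : IrrCharacter G) : G → ℂ) 1 = 1 := rfl
  rw [e] at hv
  exact hv

theorem oneIrr_mem (hM : IsPModular 2 M) : (oneIrr : IrrCharacter G) ∈ principalBlock M G := by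
  show SameBlock M (fun _ : G => (1 : ℂ)) ((oneIrr : IrrCharacter G) : G → ℂ)
  exact Cfsg.Agent.Lib.H12.sameBlock_refl hM _

/-- membership of a block is shared with the principal character only in the principal block -/
theorem mem_principal_of_block (hM : IsPModular 2 M) {ξ η : IrrCharacter G}
    (hη : η ∈ blockOf M (ξ : G → ℂ)) (hηp : η ∈ principalBlock M G) :
    ξ ∈ principalBlock M G := by
  have h1 : SameBlock M (ξ : G → ℂ) (η : G → ℂ) := hη
  have h2 : SameBlock M (fun _ : G => (1 : ℂ)) (η : G → ℂ) := hηp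
  exact Cfsg.Agent.Lib.H12.sameBlock_trans hM h2 (Cfsg.Agent.Lib.H12.sameBlock_symm h1)

theorem degree_pos (ξ : IrrCharacter G) : ∃ n : ℕ, 0 < n ∧ (ξ : G → ℂ) 1 = n :=
  irr_apply_one_pos ξ.2

open Classical in
/-- the first constituent lies in the principal block -/
theorem mem_principal (h : Setup S a b lam) (hM : IsPModular 2 M)
    (hdec : Decomp (Theta lam) ξ₁ ξ₂ ξ₃ ε₁ ε₂ ε₃) : ξ₁ ∈ principalBlock M G := by
  by_contra h1
  obtain ⟨n₁, hn₁, hd₁⟩ := degree_pos ξ₁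
  obtain ⟨n₂, hn₂, hd₂⟩ := degree_pos ξ₂
  obtain ⟨n₃, hn₃, hd₃⟩ := degree_pos ξ₃
  have hB0 := h.block_eq hM hdec (principalBlock M G) ⟨oneIrr, rfl⟩
  rw [if_pos (oneIrr_mem hM), if_neg h1, hd₂, hd₃] at hB0
  by_cases h2 : ξ₂ ∈ principalBlock M G
  · by_cases h3 : ξ₃ ∈ principalBlock M G
    · -- only ξ₁ is outside: its block contains no other constituent
      have hB1 := h.block_eq hM hdec (blockOf M (ξ₁ : G → ℂ)) ⟨ξ₁, rfl⟩
      have m1 : ξ₁ ∈ blockOf M (ξ₁ : G → ℂ) := Cfsg.Agent.Lib.H12.sameBlock_refl hM _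
      have m0 : oneIrr ∉ blockOf M (ξ₁ : G → ℂ) :=
        fun hc => h1 (mem_principal_of_block hM hc (oneIrr_mem hM))
      have m2 : ξ₂ ∉ blockOf M (ξ₁ : G → ℂ) := fun hc => h1 (mem_principal_of_block hM hc h2)
      have m3 : ξ₃ ∉ blockOf M (ξ₁ : G → ℂ) := fun hc => h1 (mem_principal_of_block hM hc h3)
      rw [if_neg m0, if_pos m1, if_neg m2, if_neg m3, hd₁] at hB1
      have : (ε₁ : ℂ) * (n₁ : ℂ) = 0 := by linear_combination hB1
      have h5 : ε₁ * (n₁ : ℤ) = 0 := by exact_mod_cast this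
      rcases hdec.e1 with he | he <;> rw [he] at h5 <;> omega
    · -- ξ₂ is the only constituent inside
      rw [if_pos h2, if_neg h3] at hB0
      have h5 : 1 + ε₂ * (n₂ : ℤ) = 0 := by
        have : (1 : ℂ) + (ε₂ : ℂ) * (n₂ : ℂ) = 0 := by linear_combination hB0
        exact_mod_cast this
      have he : ε₂ = -1 := by
        rcases hdec.e2 with he | he
        · rw [he] at h5; omega
        · exact he
      have hn : n₂ = 1 := by rw [he] at h5; omega
      exact h.no_linear hM ξ₂ h2 (by rw [hdec.c2, he]) (by rw [hd₂, hn]; simp)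
  · by_cases h3 : ξ₃ ∈ principalBlock M G
    · rw [if_neg h2, if_pos h3] at hB0
      have h5 : 1 + ε₃ * (n₃ : ℤ) = 0 := by
        have : (1 : ℂ) + (ε₃ : ℂ) * (n₃ : ℂ) = 0 := by linear_combination hB0
        exact_mod_cast this
      have he : ε₃ = -1 := by
        rcases hdec.e3 with he | he
        · rw [he] at h5; omega
        · exact he
      have hn : n₃ = 1 := by rw [he] at h5; omega
      exact h.no_linear hM ξ₃ h3 (by rw [hdec.c3, he]) (by rw [hd₃, hn]; simp)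
    · rw [if_neg h2, if_neg h3] at hB0
      norm_num at hB0

end Setup

end Cfsg.Agent.Lib.H1.BSGrp

namespace Cfsg.Agent.Lib.H1.BSNorm4

open Cfsg

variable {G : Type*} [Group G] [Fintype G]
variable {Θ : G → ℂ} {ξ₁ ξ₂ ξ₃ : IrrCharacter G} {ε₁ ε₂ ε₃ : ℤ}

theorem Decomp.swap12 (h : Decomp Θ ξ₁ ξ₂ ξ₃ ε₁ ε₂ ε₃) : Decomp Θ ξ₂ ξ₁ ξ₃ ε₂ ε₁ ε₃ :=
  ⟨h.ne2, h.ne1, h.ne3, h.ne12.symm, h.ne23, h.ne13, h.e2, h.e1, h.e3, h.c2, h.c1, h.c3, h.c0,
    fun χ h0 h1 h2 h3 => h.other χ h0 h2 h1 h3⟩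

theorem Decomp.swap13 (h : Decomp Θ ξ₁ ξ₂ ξ₃ ε₁ ε₂ ε₃) : Decomp Θ ξ₃ ξ₂ ξ₁ ε₃ ε₂ ε₁ :=
  ⟨h.ne3, h.ne2, h.ne1, h.ne23.symm, h.ne13.symm, h.ne12.symm, h.e3, h.e2, h.e1, h.c3, h.c2, h.c1,
    h.c0, fun χ h0 h1 h2 h3 => h.other χ h0 h3 h2 h1⟩

end Cfsg.Agent.Lib.H1.BSNorm4

namespace Cfsg.Agent.Lib.H1.BSGrp

open Cfsg Cfsg.Agent.Lib.L0 Subgroup Cfsg.Agent.Lib.H1.BSNorm4
open scoped ComplexConjugate

variable {G : Type*} [Group G] [Fintype G]

namespace Setup

variable {S : Sylow 2 G} {a b : G} {lam : ↥(centralizer ({a} : Set G)) →* ℂˣ}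
variable {M : Ideal AlgInt}
variable {ξ₁ ξ₂ ξ₃ : IrrCharacter G} {ε₁ ε₂ ε₃ : ℤ}

/-- integrality data for a constituent in the principal block -/
theorem constituent_data (h : Setup S a b lam) (hM : IsPModular 2 M) (ξ : IrrCharacter G)
    (hξ : ξ ∈ principalBlock M G) (ε : ℤ) (hε : classInner (Theta lam) (ξ : G → ℂ) = ε) :
    ∃ d m n : ℤ, 0 < d ∧ (ξ : G → ℂ) 1 = d ∧ (ξ : G → ℂ) (a ^ 2) = d - 4 * m ∧
      d - 2 * m + 3 * ε = 4 * n := by
  have : Finite G := Finite.of_fintype G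
  obtain ⟨d, hd0, hd⟩ := degree_pos ξ
  obtain ⟨m, n, hm, hn⟩ := restrict_congr h.quat (isCharacter_of_irr ξ.2) (ε : ℂ)
    (fun s hs hs2 => h.irr_on_S hM ξ hξ ε hε s hs hs2)
  have hx : (ξ : G → ℂ) (a ^ 2) = (d : ℂ) - 4 * (m : ℂ) := by
    rw [← hd]; linear_combination -hm
  refine ⟨d, m, n, by exact_mod_cast hd0, by rw [hd]; simp, by rw [hx]; simp, ?_⟩
  rw [hd, hx] at hn
  have h2 : (2 * (d : ℤ) - 4 * m + 6 * ε : ℤ) = 8 * n := by
    have : ((2 * (d : ℤ) - 4 * m + 6 * ε : ℤ) : ℂ) = ((8 * n : ℤ) : ℂ) := by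
      push_cast; linear_combination hn
    exact_mod_cast this
  omega

theorem ker_x (h : Setup S a b lam) (hM : IsPModular 2 M)
    (hdec : Decomp (Theta lam) ξ₁ ξ₂ ξ₃ ε₁ ε₂ ε₃) :
    (ξ₁ : G → ℂ) (a ^ 2) = (ξ₁ : G → ℂ) 1 ∧ (ξ₂ : G → ℂ) (a ^ 2) = (ξ₂ : G → ℂ) 1 ∧
      (ξ₃ : G → ℂ) (a ^ 2) = (ξ₃ : G → ℂ) 1 := by
  classical
  have : Fintype (IrrCharacter G) := Fintype.ofFinite _
  have p1 := h.mem_principal hM hdec
  have p2 := h.mem_principal hM hdec.swap12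
  have p3 := h.mem_principal hM hdec.swap13
  obtain ⟨d₁, m₁, n₁, hd₁, hv₁, hx₁, s₁⟩ := h.constituent_data hM ξ₁ p1 ε₁ hdec.c1
  obtain ⟨d₂, m₂, n₂, hd₂, hv₂, hx₂, s₂⟩ := h.constituent_data hM ξ₂ p2 ε₂ hdec.c2
  obtain ⟨d₃, m₃, n₃, hd₃, hv₃, hx₃, s₃⟩ := h.constituent_data hM ξ₃ p3 ε₃ hdec.c3
  -- relation at 1
  have r0 : 1 + ε₁ * d₁ + ε₂ * d₂ + ε₃ * d₃ = 0 := by
    have := hdec.expansion h.theta_gen 1
    rw [h.theta_at_one, hv₁, hv₂, hv₃] at this
    exact_mod_cast this.symm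
  have r1 : 1 + ε₁ * (d₁ - 4 * m₁) + ε₂ * (d₂ - 4 * m₂) + ε₃ * (d₃ - 4 * m₃) = 0 := by
    have := hdec.expansion h.theta_gen (a ^ 2)
    rw [h.theta_at_x, hx₁, hx₂, hx₃] at this
    exact_mod_cast this.symm
  have r2 : d₁ * d₂ * d₃ + ε₁ * (d₁ - 4 * m₁) ^ 2 * d₂ * d₃ + ε₂ * (d₂ - 4 * m₂) ^ 2 * d₁ * d₃
      + ε₃ * (d₃ - 4 * m₃) ^ 2 * d₁ * d₂ = 0 := by
    have hrel := h.theta_rel
    rw [finsum_eq_sum_of_fintype] at hrel
    have h2 : ∀ χ : IrrCharacter G,
        (χ : G → ℂ) (a ^ 2) * (χ : G → ℂ) (a ^ 2) / (χ : G → ℂ) 1 * classInner (Theta lam) (χ : G → ℂ)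
          = classInner (Theta lam) (χ : G → ℂ)
            * ((χ : G → ℂ) (a ^ 2) * (χ : G → ℂ) (a ^ 2) / (χ : G → ℂ) 1) := fun χ => mul_comm _ _
    rw [Finset.sum_congr rfl (fun χ _ => h2 χ),
      hdec.sum_formula (fun χ => (χ : G → ℂ) (a ^ 2) * (χ : G → ℂ) (a ^ 2) / (χ : G → ℂ) 1)] at hrel
    have e : ((oneIrr : IrrCharacter G) : G → ℂ) = 1 := rfl
    rw [e, hv₁, hv₂, hv₃, hx₁, hx₂, hx₃] at hrel
    simp only [Pi.one_apply] at hrel
    have hd1 : (d₁ : ℂ) ≠ 0 := by exact_mod_cast hd₁.ne'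
    have hd2 : (d₂ : ℂ) ≠ 0 := by exact_mod_cast hd₂.ne'
    have hd3 : (d₃ : ℂ) ≠ 0 := by exact_mod_cast hd₃.ne'
    have key : (d₁ : ℂ) * d₂ * d₃ + ε₁ * (d₁ - 4 * m₁) ^ 2 * d₂ * d₃
        + ε₂ * (d₂ - 4 * m₂) ^ 2 * d₁ * d₃ + ε₃ * (d₃ - 4 * m₃) ^ 2 * d₁ * d₂ = 0 := by
      field_simp at hrel
      linear_combination hrel
    exact_mod_cast key
  obtain ⟨z1, z2, z3⟩ := Cfsg.Agent.Lib.H1.BSArith.master ε₁ ε₂ ε₃ d₁ d₂ d₃ m₁ m₂ m₃ n₁ n₂ n₃
    hdec.e1 hdec.e2 hdec.e3 hd₁ hd₂ hd₃ r0 r1 r2 s₁ s₂ s₃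
  refine ⟨?_, ?_, ?_⟩
  · rw [hx₁, hv₁, z1]; simp
  · rw [hx₂, hv₂, z2]; simp
  · rw [hx₃, hv₃, z3]; simp

/-- The output of the character theory: a normal subgroup containing the involution but not `a`. -/
theorem exists_normal (h : Setup S a b lam) (hM : IsPModular 2 M) :
    ∃ N : Subgroup G, N.Normal ∧ a ^ 2 ∈ N ∧ a ∉ N := by
  have : Finite G := Finite.of_fintype G
  obtain ⟨ξ₁, ξ₂, ξ₃, ε₁, ε₂, ε₃, hdec⟩ :=
    exists_decomp h.theta_gen h.theta_norm h.theta_inner_one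
  obtain ⟨k1, k2, k3⟩ := h.ker_x hM hdec
  refine ⟨Cfsg.Agent.Lib.H24.charKer _ (isCharacter_of_irr ξ₁.2) ⊓
    Cfsg.Agent.Lib.H24.charKer _ (isCharacter_of_irr ξ₂.2) ⊓
    Cfsg.Agent.Lib.H24.charKer _ (isCharacter_of_irr ξ₃.2), inferInstance, ?_, ?_⟩
  · exact ⟨⟨k1, k2⟩, k3⟩
  · intro hmem
    rw [Subgroup.mem_inf, Subgroup.mem_inf] at hmem
    obtain ⟨⟨h1, h2⟩, h3⟩ := hmem
    rw [Cfsg.Agent.Lib.H24.mem_charKer] at h1 h2 h3
    have e1 := hdec.expansion h.theta_gen a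
    have e0 := hdec.expansion h.theta_gen 1
    rw [h.theta_at_a, h1, h2, h3, ← e0, h.theta_at_one] at e1
    norm_num at e1

end Setup

end Cfsg.Agent.Lib.H1.BSGrp
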