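import Cfsg.Agent.Lib.H10.BUDefs
import Cfsg.Agent.Lib.H23.BUP5
import Cfsg.Agent.Lib.H1.BUP7

/-!
# S1857 piece P8 STEP5 (helper1 twin)

`M ⇝ N` via `Q`, `E(N) = 1`, `F(N) = O_q(N) ≤ M`, `S := O_{q'}(F(M)) ≤ N` imply `S = 1`.
-/

set_option autoImplicit false

namespace Cfsg.Agent.Lib.H1.BU
open Cfsg Cfsg.Agent.Lib.H7 Cfsg.Agent.Lib.H7.PrimPair Cfsg.Agent.Lib.H10.BU

universe u
variable {G : Type u} [Group G]

/-- Core of P8, with the step-3 statement (for `r = q`) as an explicit hypothesis. -/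
theorem bup8_OpcG_eq_bot_of_core [Finite G] {M N : Subgroup G} (q : ℕ) [Fact q.Prime]
    (h3 : OpG q N ⊓ M ≤ Subgroup.centralizer ((LayG M ⊔ OpcG q M : Subgroup G) : Set G))
    (hlay : LayG N = ⊥) (hF : FitG N = OpG q N) (hFM : OpG q N ≤ M) (hS : OpcG q M ≤ N) :
    OpcG q M = ⊥ := by
  -- F*(N) = O_q(N)
  have hFs : FsG N = OpG q N := by
    rw [bup7_FsG_eq_sup, hlay, hF, bot_sup_eq]
  -- O_q(N) centralizes S
  have h1 : OpG q N ≤ Subgroup.centralizer ((OpcG q M : Subgroup G) : Set G) := by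
    intro x hx
    have hx' : x ∈ Subgroup.centralizer ((LayG M ⊔ OpcG q M : Subgroup G) : Set G) :=
      h3 (Subgroup.mem_inf.2 ⟨hx, hFM hx⟩)
    exact Subgroup.centralizer_le (SetLike.coe_subset_coe.2 le_sup_right) hx'
  -- S ≤ N ∩ C(F*(N)) ≤ F*(N) = O_q(N)
  have h2 : OpcG q M ≤ OpG q N := by
    have h3' : OpcG q M ≤ N ⊓ Subgroup.centralizer (FsG N : Set G) := by
      refine le_inf hS ?_
      rw [hFs, Subgroup.le_centralizer_iff]
      exact h1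
    exact (h3'.trans (inf_centralizer_FsG_le N)).trans hFs.le
  -- S is both a q-group and a q'-group
  have hq : IsPGroup q (OpcG q M) := (isPGroup_OpG q N).to_le h2
  obtain ⟨k, hk⟩ := IsPGroup.iff_card.1 hq
  have hc := card_OpcG_coprime q M
  rw [hk] at hc
  have hk0 : k = 0 := by
    by_contra hne
    have h4 : (q : ℕ).Coprime q := (Nat.coprime_pow_left_iff (Nat.pos_of_ne_zero hne) q q).1 hc
    rw [Nat.coprime_self] at h4
    exact (Fact.out : q.Prime).one_lt.ne' h4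
  rw [hk0, pow_zero] at hk
  exact Subgroup.card_eq_one.1 hk

/-- **P8 STEP5.** -/
theorem OpcG_eq_bot_of [Finite G] {M N Q : Subgroup G} (hQ : Q ≤ FitG M)
    (hQN : FsG M ⊓ Subgroup.normalizer (Q : Set G) ≤ N) (q : ℕ) [Fact q.Prime]
    (hlay : LayG N = ⊥) (hF : FitG N = OpG q N) (hFM : OpG q N ≤ M) (hS : OpcG q M ≤ N) :
    OpcG q M = ⊥ :=
  bup8_OpcG_eq_bot_of_core q (Cfsg.Agent.Lib.H23.BU.step3 hQ hQN q) hlay hF hFM hS

end Cfsg.Agent.Lib.H1.BU
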