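import Mathlib

/-! # Jordan–Frobenius–Blichfeldt, part B: joint orthonormal eigenbases of commuting isometries (helper1) -/

set_option autoImplicit false

namespace Cfsg.Agent.Lib.H1.Jordan

open Module.End

variable {E : Type*} [NormedAddCommGroup E] [InnerProductSpace ℂ E]

/-- The linear map underlying an isometry. -/
abbrev lin (T : E ≃ₗᵢ[ℂ] E) : Module.End ℂ E := (T.toLinearEquiv : E →ₗ[ℂ] E)

theorem lin_apply (T : E ≃ₗᵢ[ℂ] E) (v : E) : lin T v = T v := rfl

theorem lin_mul_symm (T : E ≃ₗᵢ[ℂ] E) : lin T * lin T.symm = 1 := by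
  ext v; simp [lin]

theorem lin_symm_mul (T : E ≃ₗᵢ[ℂ] E) : lin T.symm * lin T = 1 := by
  ext v; simp [lin]

theorem commute_lin {T₁ T₂ : E ≃ₗᵢ[ℂ] E} (h : T₁ * T₂ = T₂ * T₁) : Commute (lin T₁) (lin T₂) := by
  ext v
  have := congrArg (fun T : E ≃ₗᵢ[ℂ] E => T v) h
  simpa [lin] using this

theorem commute_lin_symm {T₁ T₂ : E ≃ₗᵢ[ℂ] E} (h : T₁ * T₂ = T₂ * T₁) :
    Commute (lin T₁) (lin T₂.symm) := by
  have h1 : Commute (lin T₁) (((⟨lin T₂, lin T₂.symm, lin_mul_symm T₂, lin_symm_mul T₂⟩ :
      (Module.End ℂ E)ˣ)) : Module.End ℂ E) := commute_lin h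
  exact h1.units_inv_right

theorem commute_lin_symm_symm {T₁ T₂ : E ≃ₗᵢ[ℂ] E} (h : T₁ * T₂ = T₂ * T₁) :
    Commute (lin T₁.symm) (lin T₂.symm) := by
  have h0 : Commute (lin T₂.symm) (lin T₁) := (commute_lin_symm h).symm
  have h1 : Commute (lin T₂.symm) (((⟨lin T₁, lin T₁.symm, lin_mul_symm T₁, lin_symm_mul T₁⟩ :
      (Module.End ℂ E)ˣ)) : Module.End ℂ E) := h0
  exact h1.units_inv_right.symm

/-- The two symmetric operators attached to an isometry `T`: `T + T⁻¹` and `i (T - T⁻¹)`. -/
noncomputable def symPart (T : E ≃ₗᵢ[ℂ] E) : Bool → Module.End ℂ E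
  | true => lin T + lin T.symm
  | false => Complex.I • (lin T - lin T.symm)

theorem symPart_isSymmetric (T : E ≃ₗᵢ[ℂ] E) (c : Bool) : (symPart T c).IsSymmetric := by
  intro x y
  have h1 : inner ℂ (T x) y = inner ℂ x (T.symm y) := T.inner_map_eq_flip x y
  have h2 : inner ℂ (T.symm x) y = inner ℂ x (T y) := by
    have := T.symm.inner_map_eq_flip x y
    simpa using this
  cases c with
  | true =>
    show inner ℂ (T x + T.symm x) y = inner ℂ x (T y + T.symm y)
    rw [inner_add_left, inner_add_right, h1, h2, add_comm]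
  | false =>
    show inner ℂ (Complex.I • (T x - T.symm x)) y = inner ℂ x (Complex.I • (T y - T.symm y))
    rw [inner_smul_left, inner_smul_right, inner_sub_left, inner_sub_right, h1, h2, Complex.conj_I]
    ring

theorem symPart_commute {T₁ T₂ : E ≃ₗᵢ[ℂ] E} (h : T₁ * T₂ = T₂ * T₁) (c₁ c₂ : Bool) :
    Commute (symPart T₁ c₁) (symPart T₂ c₂) := by
  have a := commute_lin h
  have b := commute_lin_symm h
  have c := (commute_lin_symm h.symm).symm
  have d := commute_lin_symm_symm h
  cases c₁ <;> cases c₂ <;> simp only [symPart]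
  · exact ((a.sub_right b).sub_left (c.sub_right d)).smul_left _ |>.smul_right _
  · exact ((a.add_right b).sub_left (c.add_right d)).smul_left _
  · exact ((a.sub_right b).add_left (c.sub_right d)).smul_right _
  · exact (a.add_right b).add_left (c.add_right d)

theorem apply_eq_of_symPart {T : E ≃ₗᵢ[ℂ] E} {v : E} {a₁ a₂ : ℂ}
    (h1 : symPart T true v = a₁ • v) (h2 : symPart T false v = a₂ • v) :
    T v = ((a₁ - Complex.I * a₂) / 2) • v := by
  have e1 : T v + T.symm v = a₁ • v := h1
  have e2 : Complex.I • (T v - T.symm v) = a₂ • v := h2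
  have e3 : T v - T.symm v = (-Complex.I * a₂) • v := by
    have := congrArg (fun w => (-Complex.I) • w) e2
    simp only [smul_smul] at this
    rw [show -Complex.I * Complex.I = 1 by rw [neg_mul, Complex.I_mul_I, neg_neg], one_smul] at this
    exact this
  have e4 : (2 : ℂ) • T v = (a₁ - Complex.I * a₂) • v := by
    have : (2 : ℂ) • T v = (T v + T.symm v) + (T v - T.symm v) := by
      rw [two_smul]; abel
    rw [this, e1, e3, ← add_smul]
    congr 1; ring
  have e5 : T v = (2 : ℂ)⁻¹ • ((2 : ℂ) • T v) := by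
    rw [smul_smul, inv_mul_cancel₀ (two_ne_zero), one_smul]
  rw [e5, e4, smul_smul]
  congr 1; ring

/-- **Joint orthonormal eigenbasis** of a commuting family of isometries. -/
theorem exists_joint_eigenbasis [FiniteDimensional ℂ E] {ι : Type*} (T : ι → (E ≃ₗᵢ[ℂ] E))
    (hT : ∀ i j, T i * T j = T j * T i) {n : ℕ} (hn : Module.finrank ℂ E = n) :
    ∃ b : OrthonormalBasis (Fin n) ℂ E, ∀ i k, ∃ a : ℂ, T i (b k) = a • b k := by
  classical
  let S : ι × Bool → Module.End ℂ E := fun j => symPart (T j.1) j.2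
  have hSym : ∀ j, (S j).IsSymmetric := fun j => symPart_isSymmetric _ _
  have hComm : Pairwise (Function.onFun Commute S) := by
    intro j₁ j₂ _
    exact symPart_commute (hT j₁.1 j₂.1) j₁.2 j₂.2
  have hint := LinearMap.IsSymmetric.directSum_isInternal_of_pairwise_commute hSym hComm
  have horth := LinearMap.IsSymmetric.orthogonalFamily_iInf_eigenspaces hSym
  let V : (ι × Bool → ℂ) → Submodule ℂ E := fun α => ⨅ j, eigenspace (S j) (α j)
  have hfin : {α | V α ≠ ⊥}.Finite :=
    Submodule.finite_ne_bot_of_iSupIndep hint.submodule_iSupIndep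
  have : Fintype {α // V α ≠ ⊥} := hfin.fintype
  have hint' : DirectSum.IsInternal (fun α : {α // V α ≠ ⊥} => V α) :=
    DirectSum.isInternal_ne_bot_iff.mpr hint
  have horth' : OrthogonalFamily ℂ (fun α : {α // V α ≠ ⊥} => ↥(V α))
      (fun α => (V α).subtypeₗᵢ) := horth.comp Subtype.val_injective
  refine ⟨hint'.subordinateOrthonormalBasis hn horth', fun i k => ?_⟩
  have hmem := hint'.subordinateOrthonormalBasis_subordinate hn k horth'
  set α := (hint'.subordinateOrthonormalBasisIndex hn k horth').1 with hα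
  set v := hint'.subordinateOrthonormalBasis hn horth' k with hv
  have hmem' : v ∈ ⨅ j, eigenspace (S j) (α j) := hmem
  rw [Submodule.mem_iInf] at hmem'
  have h1 : symPart (T i) true v = α (i, true) • v := mem_eigenspace_iff.mp (hmem' (i, true))
  have h2 : symPart (T i) false v = α (i, false) • v := mem_eigenspace_iff.mp (hmem' (i, false))
  exact ⟨_, apply_eq_of_symPart h1 h2⟩

end Cfsg.Agent.Lib.H1.Jordan
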