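import Mathlib
import Cfsg.Agent.Lib.H1.JordanB

/-! # Jordan–Frobenius–Blichfeldt, part C: trace identities and the contraction inequality (helper1) -/

set_option autoImplicit false

namespace Cfsg.Agent.Lib.H1.Jordan

open Module.End

variable {E : Type*} [NormedAddCommGroup E] [InnerProductSpace ℂ E]

section eig

variable {n : ℕ} {T : E ≃ₗᵢ[ℂ] E} {b : OrthonormalBasis (Fin n) ℂ E} {a : Fin n → ℂ}

theorem norm_eig (ha : ∀ k, T (b k) = a k • b k) (k : Fin n) : ‖a k‖ = 1 := by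
  have h1 : ‖T (b k)‖ = 1 := by rw [T.norm_map]; exact b.orthonormal.1 k
  rw [ha k, norm_smul, b.orthonormal.1 k, mul_one] at h1
  exact h1

theorem eig_ne_zero (ha : ∀ k, T (b k) = a k • b k) (k : Fin n) : a k ≠ 0 := by
  intro h
  have := norm_eig ha k
  rw [h, norm_zero] at this
  exact zero_ne_one this

theorem symm_eig (ha : ∀ k, T (b k) = a k • b k) (k : Fin n) :
    T.symm (b k) = (a k)⁻¹ • b k := by
  rw [T.symm_apply_eq, map_smul, ha k, smul_smul, inv_mul_cancel₀ (eig_ne_zero ha k), one_smul]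

theorem conj_inv_eig (ha : ∀ k, T (b k) = a k • b k) (k : Fin n) :
    (starRingEnd ℂ) (a k)⁻¹ = a k := by
  have h1 := norm_eig ha k
  have h2 : a k * (starRingEnd ℂ) (a k) = 1 := by
    rw [Complex.mul_conj, Complex.normSq_eq_norm_sq, h1]; simp
  rw [map_inv₀]
  exact inv_eq_of_mul_eq_one_left h2

theorem inner_eig (ha : ∀ k, T (b k) = a k • b k) (k : Fin n) (v : E) :
    inner ℂ (b k) (T v) = a k * inner ℂ (b k) v := by
  have h1 : inner ℂ (T.symm (b k)) v = inner ℂ (b k) (T v) := by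
    have := T.symm.inner_map_eq_flip (b k) v
    simpa using this
  rw [← h1, symm_eig ha k, inner_smul_left, conj_inv_eig ha k]

end eig

/-- `∑ ‖b k - T (b k)‖² = 2n - 2 Re tr T` for an isometry `T` and an orthonormal basis `b`. -/
theorem sum_norm_sub_sq {n : ℕ} (T : E ≃ₗᵢ[ℂ] E) (b : OrthonormalBasis (Fin n) ℂ E) :
    ∑ k, ‖b k - T (b k)‖ ^ 2 = 2 * (n : ℝ) - 2 * (LinearMap.trace ℂ E (lin T)).re := by
  have h1 : ∀ k, ‖b k - T (b k)‖ ^ 2 = 2 - 2 * (inner ℂ (b k) (T (b k))).re := by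
    intro k
    rw [@norm_sub_sq ℂ, T.norm_map, b.orthonormal.1 k]
    simp only [RCLike.re_to_complex]
    ring
  rw [Finset.sum_congr rfl fun k _ => h1 k, Finset.sum_sub_distrib, LinearMap.trace_eq_sum_inner _ b,
    Complex.re_sum, ← Finset.mul_sum]
  simp [lin_apply, mul_comm]

theorem mul_apply' (f g : E ≃ₗᵢ[ℂ] E) (v : E) : (f * g) v = f (g v) := rfl

theorem inv_apply' (f : E ≃ₗᵢ[ℂ] E) (v : E) : f⁻¹ v = f.symm v := rfl

/-- two isometries agreeing on an orthonormal basis are equal -/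
theorem ext_basis {n : ℕ} (b : OrthonormalBasis (Fin n) ℂ E) {f g : E ≃ₗᵢ[ℂ] E}
    (h : ∀ k, f (b k) = g (b k)) : f = g := by
  have h1 : lin f = lin g := b.toBasis.ext fun k => by simpa [lin_apply] using h k
  refine LinearIsometryEquiv.ext fun v => ?_
  have := congrArg (fun L : Module.End ℂ E => L v) h1
  simpa [lin_apply] using this

/-- **Contraction**: if the eigenvalues of `g` are pairwise at distance `< 1` and `x` does not commute
with `g`, then `Re tr x < Re tr [g, x]`. -/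
theorem contraction {n : ℕ} (g x : E ≃ₗᵢ[ℂ] E) (b : OrthonormalBasis (Fin n) ℂ E) (a : Fin n → ℂ)
    (ha : ∀ k, g (b k) = a k • b k) (hA : ∀ k l, ‖a k - a l‖ < 1) (hne : g * x ≠ x * g) :
    (LinearMap.trace ℂ E (lin x)).re < (LinearMap.trace ℂ E (lin (g * x * g⁻¹ * x⁻¹))).re := by
  classical
  set X : Fin n → Fin n → ℂ := fun k l => inner ℂ (b k) (x (b l)) with hX
  -- first identity
  have h1 : 2 * (n : ℝ) - 2 * (LinearMap.trace ℂ E (lin x)).re
      = ∑ l, ∑ k, ‖(if k = l then (1 : ℂ) else 0) - X k l‖ ^ 2 := by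
    rw [← sum_norm_sub_sq x b]
    refine Finset.sum_congr rfl fun l _ => ?_
    rw [← b.sum_sq_norm_inner_right (b l - x (b l))]
    refine Finset.sum_congr rfl fun k _ => ?_
    rw [inner_sub_right, b.inner_eq_ite]
  -- second identity
  have h2 : 2 * (n : ℝ) - 2 * (LinearMap.trace ℂ E (lin (g * x * g⁻¹ * x⁻¹))).re
      = ∑ l, ∑ k, ‖a l - a k‖ ^ 2 * ‖X k l‖ ^ 2 := by
    rw [← sum_norm_sub_sq (g * x * g⁻¹ * x⁻¹) (b.map (x * g))]
    refine Finset.sum_congr rfl fun l _ => ?_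
    have e1 : (b.map (x * g)) l = a l • x (b l) := by
      rw [OrthonormalBasis.map_apply, mul_apply', ha l, map_smul]
    have e2 : (g * x * g⁻¹ * x⁻¹) ((b.map (x * g)) l) = g (x (b l)) := by
      rw [OrthonormalBasis.map_apply]
      simp only [mul_apply', inv_apply', LinearIsometryEquiv.symm_apply_apply]
    rw [e2, e1, ← b.sum_sq_norm_inner_right (a l • x (b l) - g (x (b l)))]
    refine Finset.sum_congr rfl fun k _ => ?_
    rw [inner_sub_right, inner_smul_right, inner_eig ha k, ← sub_mul, norm_mul, mul_pow]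
  -- a non-zero off-diagonal entry
  have hoff : ∃ k l, k ≠ l ∧ X k l ≠ 0 := by
    by_contra hcon
    push Not at hcon
    apply hne
    refine ext_basis b fun l => ?_
    have hx : x (b l) = X l l • b l := by
      conv_lhs => rw [← b.sum_repr' (x (b l))]
      rw [Finset.sum_eq_single l]
      · intro k _ hkl
        rw [show inner ℂ (b k) (x (b l)) = X k l from rfl, hcon k l hkl, zero_smul]
      · intro h; exact absurd (Finset.mem_univ l) h
    rw [mul_apply', mul_apply', hx, map_smul, ha l, map_smul, hx, smul_comm]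
  obtain ⟨k₀, l₀, hkl₀, hX₀⟩ := hoff
  -- termwise comparison
  have hterm : ∀ l k, ‖a l - a k‖ ^ 2 * ‖X k l‖ ^ 2
      ≤ ‖(if k = l then (1 : ℂ) else 0) - X k l‖ ^ 2 := by
    intro l k
    by_cases hkl : k = l
    · subst hkl
      rw [sub_self, norm_zero]
      simp only [ne_eq, OfNat.ofNat_ne_zero, not_false_eq_true, zero_pow, zero_mul]
      positivity
    · rw [if_neg hkl, zero_sub, norm_neg]
      have h3 : ‖a l - a k‖ ^ 2 ≤ 1 := by
        have := hA l k
        have h0 := norm_nonneg (a l - a k)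
        nlinarith
      have h4 : 0 ≤ ‖X k l‖ ^ 2 := by positivity
      nlinarith
  have hstrict : ‖a l₀ - a k₀‖ ^ 2 * ‖X k₀ l₀‖ ^ 2
      < ‖(if k₀ = l₀ then (1 : ℂ) else 0) - X k₀ l₀‖ ^ 2 := by
    rw [if_neg hkl₀, zero_sub, norm_neg]
    have h3 : ‖a l₀ - a k₀‖ ^ 2 < 1 := by
      have := hA l₀ k₀
      have h0 := norm_nonneg (a l₀ - a k₀)
      nlinarith
    have h4 : 0 < ‖X k₀ l₀‖ ^ 2 := by
      have : 0 < ‖X k₀ l₀‖ := norm_pos_iff.mpr hX₀
      positivity
    nlinarith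
  have hlt : ∑ l, ∑ k, ‖a l - a k‖ ^ 2 * ‖X k l‖ ^ 2
      < ∑ l, ∑ k, ‖(if k = l then (1 : ℂ) else 0) - X k l‖ ^ 2 := by
    apply Finset.sum_lt_sum
    · intro l _
      exact Finset.sum_le_sum fun k _ => hterm l k
    · refine ⟨l₀, Finset.mem_univ _, ?_⟩
      apply Finset.sum_lt_sum
      · intro k _; exact hterm l₀ k
      · exact ⟨k₀, Finset.mem_univ _, hstrict⟩
  rw [← h1, ← h2] at hlt
  linarith

end Cfsg.Agent.Lib.H1.Jordan
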