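import Mathlib
import Cfsg.Agent.Lib.H1.JordanC

/-! # Jordan–Frobenius–Blichfeldt, part D: the set `S`, and Frobenius' trace lemma (helper1) -/

set_option autoImplicit false

namespace Cfsg.Agent.Lib.H1.Jordan

open Module.End

variable {E : Type*} [NormedAddCommGroup E] [InnerProductSpace ℂ E]

/-- The constant `√3 / 2 = cos 30°`. -/
noncomputable def c30 : ℝ := Real.sqrt 3 / 2

theorem c30_sq : c30 ^ 2 = 3 / 4 := by
  unfold c30
  rw [div_pow, Real.sq_sqrt (by norm_num : (0 : ℝ) ≤ 3)]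
  norm_num

theorem c30_pos : 0 < c30 := by
  unfold c30
  positivity

theorem c30_gt : 3 / 4 < c30 := by
  have h1 := c30_sq
  have h2 := c30_pos
  nlinarith

theorem c30_lt_one : c30 < 1 := by
  have h1 := c30_sq
  have h2 := c30_pos
  nlinarith

/-- The numerical range of `T` lies in `Re > √3/2`. -/
def InS (T : E ≃ₗᵢ[ℂ] E) : Prop :=
  ∀ v : E, v ≠ 0 → c30 * ‖v‖ ^ 2 < (inner ℂ v (T v)).re

/-- The numerical range of `T` lies in `Re > 0`. -/
def Near (T : E ≃ₗᵢ[ℂ] E) : Prop :=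
  ∀ v : E, v ≠ 0 → 0 < (inner ℂ v (T v)).re

theorem InS.near {T : E ≃ₗᵢ[ℂ] E} (h : InS T) : Near T := by
  intro v hv
  have h1 := h v hv
  have h2 : 0 ≤ c30 * ‖v‖ ^ 2 := mul_nonneg c30_pos.le (by positivity)
  linarith

theorem inner_symm_re (T : E ≃ₗᵢ[ℂ] E) (v : E) :
    (inner ℂ v (T.symm v)).re = (inner ℂ v (T v)).re := by
  have h1 : inner ℂ (T v) v = inner ℂ v (T.symm v) := T.inner_map_eq_flip v v
  rw [← h1]
  have := inner_re_symm (𝕜 := ℂ) (T v) v
  simpa using this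

theorem InS.inv {T : E ≃ₗᵢ[ℂ] E} (h : InS T) : InS T⁻¹ := by
  intro v hv
  rw [inv_apply', inner_symm_re]
  exact h v hv

theorem InS.conj {T : E ≃ₗᵢ[ℂ] E} (h : InS T) (y : E ≃ₗᵢ[ℂ] E) : InS (y * T * y⁻¹) := by
  intro v hv
  have h1 : inner ℂ v ((y * T * y⁻¹) v) = inner ℂ (y.symm v) (T (y.symm v)) := by
    rw [mul_apply', mul_apply', inv_apply']
    have := y.symm.inner_map_eq_flip v (T (y.symm v))
    simpa using this.symm
  have h2 : y.symm v ≠ 0 := by
    intro h0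
    apply hv
    have := congrArg y h0
    simpa using this
  have h3 := h (y.symm v) h2
  rw [y.symm.norm_map] at h3
  rw [h1]
  exact h3

/-- the product of two elements of `S` has numerical range in the right half plane -/
theorem near_mul {T₁ T₂ : E ≃ₗᵢ[ℂ] E} (h₁ : InS T₁) (h₂ : InS T₂) : Near (T₁ * T₂) := by
  intro v hv
  set u := T₂ v with hu
  set w := T₁.symm v with hw
  have hvpos : 0 < ‖v‖ ^ 2 := by
    have : 0 < ‖v‖ := norm_pos_iff.mpr hv
    positivity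
  have e0 : inner ℂ v ((T₁ * T₂) v) = inner ℂ w u := by
    rw [mul_apply']
    have := T₁.symm.inner_map_eq_flip v (T₂ v)
    simpa using this.symm
  have hu1 : c30 * ‖v‖ ^ 2 < (inner ℂ v u).re := h₂ v hv
  have hw1 : c30 * ‖v‖ ^ 2 < (inner ℂ v w).re := by
    have := h₁.inv v hv
    rwa [inv_apply'] at this
  have hun : ‖u‖ = ‖v‖ := T₂.norm_map v
  have hwn : ‖w‖ = ‖v‖ := T₁.symm.norm_map v
  have hu2 : ‖u - v‖ ^ 2 = 2 * ‖v‖ ^ 2 - 2 * (inner ℂ v u).re := by
    rw [@norm_sub_sq ℂ, hun]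
    have := inner_re_symm (𝕜 := ℂ) u v
    simp only [RCLike.re_to_complex] at this ⊢
    rw [this]; ring
  have hw2 : ‖w - v‖ ^ 2 = 2 * ‖v‖ ^ 2 - 2 * (inner ℂ v w).re := by
    rw [@norm_sub_sq ℂ, hwn]
    have := inner_re_symm (𝕜 := ℂ) w v
    simp only [RCLike.re_to_complex] at this ⊢
    rw [this]; ring
  have hcs : -(‖w - v‖ * ‖u - v‖) ≤ (inner ℂ (w - v) (u - v)).re := by
    have h1 := re_inner_le_norm (𝕜 := ℂ) (-(w - v)) (u - v)
    rw [inner_neg_left, norm_neg] at h1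
    simp only [RCLike.re_to_complex, Complex.neg_re] at h1
    linarith
  have hexp : (inner ℂ w u).re = (inner ℂ (w - v) (u - v)).re + (inner ℂ w v).re
      + (inner ℂ v u).re - ‖v‖ ^ 2 := by
    rw [inner_sub_left, inner_sub_right, inner_sub_right]
    have : (inner ℂ v v).re = ‖v‖ ^ 2 := by
      rw [inner_self_eq_norm_sq_to_K]; norm_cast
    simp only [Complex.sub_re]
    rw [this]; ring
  have hwv : (inner ℂ w v).re = (inner ℂ v w).re := by
    have := inner_re_symm (𝕜 := ℂ) w v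
    simpa using this
  have hamgm : ‖w - v‖ * ‖u - v‖ ≤ (‖w - v‖ ^ 2 + ‖u - v‖ ^ 2) / 2 := by
    nlinarith [sq_nonneg (‖w - v‖ - ‖u - v‖)]
  rw [e0, hexp, hwv]
  have hc := c30_gt
  nlinarith

end Cfsg.Agent.Lib.H1.Jordan
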