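import Mathlib
import Cfsg.Agent.Lib.H1.JordanD

/-! # Jordan–Frobenius–Blichfeldt, part E: eigen-data and the set `S`; Frobenius' lemma (helper1) -/

set_option autoImplicit false

namespace Cfsg.Agent.Lib.H1.Jordan

open Module.End

variable {E : Type*} [NormedAddCommGroup E] [InnerProductSpace ℂ E]

section eig2

variable {n : ℕ} {T : E ≃ₗᵢ[ℂ] E} {b : OrthonormalBasis (Fin n) ℂ E} {a : Fin n → ℂ}

theorem InS.eig_re (h : InS T) (ha : ∀ k, T (b k) = a k • b k) (k : Fin n) : c30 < (a k).re := by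
  have h1 := h (b k) (b.orthonormal.ne_zero k)
  rw [ha k, inner_smul_right, b.inner_eq_one, mul_one, b.orthonormal.1 k] at h1
  simpa using h1

theorem norm_sub_lt_one {a a' : ℂ} (h1 : ‖a‖ = 1) (h2 : ‖a'‖ = 1) (hr : c30 < a.re)
    (hr' : c30 < a'.re) : ‖a - a'‖ < 1 := by
  have e1 : a.re * a.re + a.im * a.im = 1 := by
    have := Complex.sq_norm a
    rw [h1, Complex.normSq_apply] at this
    linarith
  have e2 : a'.re * a'.re + a'.im * a'.im = 1 := by
    have := Complex.sq_norm a'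
    rw [h2, Complex.normSq_apply] at this
    linarith
  have e3 : ‖a - a'‖ ^ 2 = (a.re - a'.re) * (a.re - a'.re) + (a.im - a'.im) * (a.im - a'.im) := by
    rw [Complex.sq_norm, Complex.normSq_apply]
    simp
  have hc := c30_sq
  have hp := c30_pos
  have f1 : 3 / 4 < a.re * a'.re := by
    have : c30 * c30 < a.re * a'.re := mul_lt_mul'' hr hr' hp.le hp.le
    nlinarith
  have f2 : a.im * a.im < 1 / 4 := by nlinarith
  have f3 : a'.im * a'.im < 1 / 4 := by nlinarith
  have f4 : -(1 / 4) < a.im * a'.im := by nlinarith [sq_nonneg (a.im + a'.im)]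
  have f5 : ‖a - a'‖ ^ 2 < 1 := by rw [e3]; nlinarith
  have f6 := norm_nonneg (a - a')
  nlinarith

theorem inS_of_eig (ha : ∀ k, T (b k) = a k • b k) (hr : ∀ k, c30 < (a k).re) : InS T := by
  intro v hv
  have h1 : inner ℂ v (T v) = ∑ k, a k * ((‖inner ℂ (b k) v‖ ^ 2 : ℝ) : ℂ) := by
    rw [← b.sum_inner_mul_inner v (T v)]
    refine Finset.sum_congr rfl fun k _ => ?_
    rw [inner_eig ha k, ← inner_conj_symm v (b k)]
    have : (starRingEnd ℂ) (inner ℂ (b k) v) * inner ℂ (b k) v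
        = ((‖inner ℂ (b k) v‖ ^ 2 : ℝ) : ℂ) := by
      rw [mul_comm, Complex.mul_conj, Complex.normSq_eq_norm_sq]
    rw [mul_left_comm, this]
  have h2 : (inner ℂ v (T v)).re = ∑ k, (a k).re * ‖inner ℂ (b k) v‖ ^ 2 := by
    rw [h1, Complex.re_sum]
    refine Finset.sum_congr rfl fun k _ => ?_
    rw [Complex.re_mul_ofReal]
  rw [h2, ← b.sum_sq_norm_inner_right v, Finset.mul_sum]
  have hpos : 0 < ∑ k, ‖inner ℂ (b k) v‖ ^ 2 := by
    rw [b.sum_sq_norm_inner_right v]
    have : 0 < ‖v‖ := norm_pos_iff.mpr hv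
    positivity
  obtain ⟨k₀, -, hk₀⟩ := Finset.exists_lt_of_sum_lt (f := fun _ => (0 : ℝ))
    (g := fun k => ‖inner ℂ (b k) v‖ ^ 2) (s := Finset.univ) (by simpa using hpos)
  apply Finset.sum_lt_sum
  · intro k _
    exact mul_le_mul_of_nonneg_right (hr k).le (by positivity)
  · exact ⟨k₀, Finset.mem_univ _, mul_lt_mul_of_pos_right (hr k₀) hk₀⟩

end eig2

/-- a purely group-theoretic identity: if `g` commutes with `C = [g, c]` then `g^k c g^{-k} = C^k c` -/
theorem pow_conj_eq {G : Type*} [Group G] (g c : G)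
    (h : g * (g * c * g⁻¹ * c⁻¹) = (g * c * g⁻¹ * c⁻¹) * g) (k : ℕ) :
    g ^ k * c * (g ^ k)⁻¹ = (g * c * g⁻¹ * c⁻¹) ^ k * c := by
  induction k with
  | zero => simp
  | succ k ih =>
    have hC : Commute g ((g * c * g⁻¹ * c⁻¹) ^ k) := Commute.pow_right h k
    calc g ^ (k + 1) * c * (g ^ (k + 1))⁻¹ = g * (g ^ k * c * (g ^ k)⁻¹) * g⁻¹ := by
          rw [pow_succ']; group
      _ = g * ((g * c * g⁻¹ * c⁻¹) ^ k * c) * g⁻¹ := by rw [ih]
      _ = (g * (g * c * g⁻¹ * c⁻¹) ^ k) * c * g⁻¹ := by group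
      _ = ((g * c * g⁻¹ * c⁻¹) ^ k * g) * c * g⁻¹ := by rw [hC.eq]
      _ = (g * c * g⁻¹ * c⁻¹) ^ k * (g * c * g⁻¹ * c⁻¹) * c := by group
      _ = (g * c * g⁻¹ * c⁻¹) ^ (k + 1) * c := by rw [pow_succ]

theorem lin_mul (f g : E ≃ₗᵢ[ℂ] E) : lin (f * g) = lin f * lin g := rfl

theorem lin_one : lin (1 : E ≃ₗᵢ[ℂ] E) = 1 := rfl

theorem trace_lin_conj (x y : E ≃ₗᵢ[ℂ] E) :
    LinearMap.trace ℂ E (lin (x * y * x⁻¹)) = LinearMap.trace ℂ E (lin y) := by
  rw [lin_mul, lin_mul, mul_assoc, LinearMap.trace_mul_comm, mul_assoc]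
  have : lin x⁻¹ * lin x = 1 := lin_symm_mul x
  rw [this, mul_one]

theorem pow_eig {n : ℕ} {T : E ≃ₗᵢ[ℂ] E} {b : OrthonormalBasis (Fin n) ℂ E} {a : Fin n → ℂ}
    (ha : ∀ k, T (b k) = a k • b k) (j : ℕ) (k : Fin n) : (T ^ j) (b k) = (a k) ^ j • b k := by
  induction j with
  | zero => simp
  | succ j ih =>
    rw [pow_succ, mul_apply', ha k, map_smul, ih, smul_smul, pow_succ, mul_comm]

/-- **Frobenius' lemma**: if `g` commutes with `C = [g, c]`, the numerical range of `c` lies in the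
right half plane and `C` has finite order, then `C = 1`. -/
theorem frobenius_comm [FiniteDimensional ℂ E] {n : ℕ} (hn : Module.finrank ℂ E = n)
    (g c : E ≃ₗᵢ[ℂ] E) (hcomm : g * (g * c * g⁻¹ * c⁻¹) = (g * c * g⁻¹ * c⁻¹) * g)
    (hnear : Near c) {m : ℕ} (hm : 0 < m) (hCm : (g * c * g⁻¹ * c⁻¹) ^ m = 1) :
    g * c * g⁻¹ * c⁻¹ = 1 := by
  set C := g * c * g⁻¹ * c⁻¹ with hC
  obtain ⟨w, hw⟩ := exists_joint_eigenbasis (fun _ : Unit => C) (fun _ _ => rfl) hn
  choose γ hγ using hw ()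
  have htr : ∀ k : ℕ, LinearMap.trace ℂ E (lin (C ^ k * c)) = LinearMap.trace ℂ E (lin c) := by
    intro k
    rw [← pow_conj_eq g c hcomm k, trace_lin_conj]
  set z : Fin n → ℂ := fun i => inner ℂ (w i) (c (w i)) with hz
  have hzpos : ∀ i, 0 < (z i).re := fun i => hnear (w i) (w.orthonormal.ne_zero i)
  have hsum : ∀ k : ℕ, ∑ i, γ i ^ k * z i = ∑ i, z i := by
    intro k
    have h1 := htr k
    rw [LinearMap.trace_eq_sum_inner _ w, LinearMap.trace_eq_sum_inner _ w] at h1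
    calc ∑ i, γ i ^ k * z i = ∑ i, inner ℂ (w i) ((lin (C ^ k * c)) (w i)) := by
          refine Finset.sum_congr rfl fun i _ => ?_
          rw [lin_apply, mul_apply', inner_eig (pow_eig hγ k) i]
      _ = ∑ i, z i := h1
  have hγm : ∀ i, γ i ^ m = 1 := by
    intro i
    have h1 := pow_eig hγ m i
    rw [hCm] at h1
    have h2 : (γ i ^ m - 1) • w i = 0 := by
      rw [sub_smul, ← h1]; simp
    rcases smul_eq_zero.mp h2 with h3 | h3
    · exact sub_eq_zero.mp h3
    · exact absurd h3 (w.orthonormal.ne_zero i)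
  have hs : ∀ i, ∑ k ∈ Finset.range m, γ i ^ k = if γ i = 1 then (m : ℂ) else 0 := by
    intro i
    split_ifs with h
    · rw [h]; simp
    · rw [geom_sum_eq h, hγm i, sub_self, zero_div]
  have htot : ∑ i, (if γ i = 1 then (m : ℂ) else 0) * z i = m * ∑ i, z i := by
    calc ∑ i, (if γ i = 1 then (m : ℂ) else 0) * z i
        = ∑ i, (∑ k ∈ Finset.range m, γ i ^ k) * z i := by
          refine Finset.sum_congr rfl fun i _ => by rw [hs i]
      _ = ∑ k ∈ Finset.range m, ∑ i, γ i ^ k * z i := by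
          rw [Finset.sum_comm]
          refine Finset.sum_congr rfl fun i _ => by rw [Finset.sum_mul]
      _ = ∑ k ∈ Finset.range m, ∑ i, z i := Finset.sum_congr rfl fun k _ => hsum k
      _ = m * ∑ i, z i := by simp
  have hdiff : ∑ i, (if γ i = 1 then (0 : ℝ) else m) * (z i).re = 0 := by
    have := congrArg Complex.re htot
    rw [Finset.mul_sum, Complex.re_sum, Complex.re_sum] at this
    have h3 : ∑ i, (if γ i = 1 then (0 : ℝ) else m) * (z i).re
        = ∑ i, (((m : ℂ) * z i).re - ((if γ i = 1 then (m : ℂ) else 0) * z i).re) := by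
      refine Finset.sum_congr rfl fun i _ => ?_
      split_ifs with h <;> simp
    rw [h3, Finset.sum_sub_distrib, this, sub_self]
  have hall : ∀ i, γ i = 1 := by
    intro i
    by_contra h
    have hnn : ∀ i ∈ (Finset.univ : Finset (Fin n)),
        0 ≤ (if γ i = 1 then (0 : ℝ) else m) * (z i).re := by
      intro i _
      split_ifs
      · simp
      · exact mul_nonneg (Nat.cast_nonneg m) (hzpos i).le
    have h1 := (Finset.sum_eq_zero_iff_of_nonneg hnn).mp hdiff i (Finset.mem_univ i)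
    rw [if_neg h] at h1
    have h3 : (0 : ℝ) < m := by exact_mod_cast hm
    have := mul_pos h3 (hzpos i)
    linarith
  refine ext_basis w fun i => ?_
  rw [hγ i, hall i, one_smul]; rfl

end Cfsg.Agent.Lib.H1.Jordan
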