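import Mathlib
import Cfsg.Prelude.Def_ChevStructure
import Cfsg.Agent.Lib.H29.ChevAut1
import Cfsg.Agent.Lib.H29.BtDefs2

/-!
# S2154 (Borel–Tits), stage 2, piece REL: the elements of `N` transport the real functionals
-/

set_option autoImplicit false
set_option linter.unusedSectionVars false
set_option linter.unusedVariables false

namespace Cfsg.Agent.Lib.H1.BT2

open Cfsg.Lie Matrix Cfsg.Agent.Lib.H29.BT Cfsg.Agent.Lib.H29.Chev

variable {D : ChevalleyDatum} {fd : FD} {fx : FX} {fc : FC} {fz : FZ} {F : Type*} [Field F]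

/-! ## local copies of the LIN facts that REL needs -/

theorem rel_omR_lt (a : Fin fd.l → ℝ) (c : ℕ) (hc : c < fd.l) : fd.omR fx a c = 0 := by
  unfold FD.omR FD.coordZ
  have : Nat.blt c fd.l = true := (natBlt_iff _ _).mpr hc
  simp [this]

theorem rel_omR_ge (a : Fin fd.l → ℝ) (c : ℕ) (hc : ¬ c < fd.l) :
    fd.omR fx a c = fd.omrR fx a (c - fd.l) := by
  unfold FD.omR FD.omrR FD.coordZ
  have : Nat.blt c fd.l = false := by rw [← Bool.not_eq_true, natBlt_iff]; exact hc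
  simp [this]

theorem rel_omrR_nw (hn : fd.ChkN fx) (a : Fin fd.l → ℝ) (r s : ℕ) (hr : r < fd.n) (hs : s < fd.n) :
    fd.omrR fx a (fd.nw fx r s) = fd.omrR fx a s - ((fd.pr s r : ℤ) : ℝ) * fd.omrR fx a r := by
  unfold FD.omrR
  rw [Finset.mul_sum, ← Finset.sum_sub_distrib]
  apply Finset.sum_congr rfl
  intro j _
  rw [(fd.nw_spec hn r s hr hs).2 j.val j.isLt]
  push_cast
  ring

/-- the integer functional `omr` as a sum over `Fin fd.l` -/
theorem rel_omr_eq (b : ℕ → ℤ) (s : ℕ) :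
    ((fd.omr fx b s : ℤ) : ℝ) = ∑ j : Fin fd.l, ((b j.val : ℤ) : ℝ) * ((fd.rcZ fx s j.val : ℤ) : ℝ) := by
  unfold FD.omr
  rw [listsum_eq, ← Fin.sum_univ_eq_sum_range (fun j => b j * fd.rcZ fx s j) fd.l]
  push_cast
  rfl

theorem rel_omrR_sR_eq (hl : fd.ChkLin fx) (a : Fin fd.l → ℝ) (p s : ℕ) (hs : s < fd.n) :
    fd.omrR fx (fd.sR fx p a) s = fd.omrR fx a s - ((fd.pr s p : ℤ) : ℝ) * fd.omrR fx a p := by
  have key : ∀ c : ℝ, (∑ j : Fin fd.l, (a j - c * ((fd.prs p j.val : ℤ) : ℝ)) * ((fd.rcZ fx s j.val : ℤ) : ℝ)) =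
      (∑ j : Fin fd.l, a j * ((fd.rcZ fx s j.val : ℤ) : ℝ)) -
        c * ∑ j : Fin fd.l, ((fd.prs p j.val : ℤ) : ℝ) * ((fd.rcZ fx s j.val : ℤ) : ℝ) := by
    intro c
    rw [Finset.mul_sum, ← Finset.sum_sub_distrib]
    apply Finset.sum_congr rfl
    intro j _
    ring
  have h1 : fd.omrR fx (fd.sR fx p a) s =
      fd.omrR fx a s - fd.omrR fx a p *
        ∑ j : Fin fd.l, ((fd.prs p j.val : ℤ) : ℝ) * ((fd.rcZ fx s j.val : ℤ) : ℝ) := key (fd.omrR fx a p)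
  rw [h1, ← rel_omr_eq, ← fd.pr_lin hl s p hs]
  ring

theorem rel_omrR_sR (hl : fd.ChkLin fx) (hn : fd.ChkN fx) (a : Fin fd.l → ℝ) (p s : ℕ) (hp : p < fd.n)
    (hs : s < fd.n) : fd.omrR fx (fd.sR fx p a) s = fd.omrR fx a (fd.nw fx p s) := by
  rw [rel_omrR_sR_eq hl a p s hs, rel_omrR_nw hn a p s hp hs]

/-- `Q` is invariant under the fundamental reflections -/
theorem rel_QR_sR (C : Cert12 D fd fx fc fz) (i : ℕ) (hi : i < fd.l) (a : Fin fd.l → ℝ) :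
    fd.QR fx (fd.sR fx (fd.simples.getD i 0) a) = fd.QR fx a := by
  have hp := C.c6.c2.simple_lt i hi
  unfold FD.QR
  have e : ∀ s ∈ Finset.range fd.n, (fd.omrR fx (fd.sR fx (fd.simples.getD i 0) a) s) ^ 2 =
      (fun s => (fd.omrR fx a s) ^ 2) (fd.nw fx (fd.simples.getD i 0) s) := by
    intro s hs
    rw [rel_omrR_sR C.c6.c2.chk.lin C.c6.c2.chk.nn a _ s hp (Finset.mem_range.mp hs)]
  rw [Finset.sum_congr rfl e]
  apply Finset.sum_nbij' (fd.nw fx (fd.simples.getD i 0)) (fd.nw fx (fd.simples.getD i 0))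
  · intro s hs
    exact Finset.mem_range.mpr (fd.nw_spec C.c6.c2.chk.nn _ s hp (Finset.mem_range.mp hs)).1
  · intro s hs
    exact Finset.mem_range.mpr (fd.nw_spec C.c6.c2.chk.nn _ s hp (Finset.mem_range.mp hs)).1
  · intro s hs
    exact (fd.up_spec C.c6.up i hi s (Finset.mem_range.mp hs)).2.1
  · intro s hs
    exact (fd.up_spec C.c6.up i hi s (Finset.mem_range.mp hs)).2.1
  · intro s _
    rfl

/-! ## piece REL -/

/-- the matrix of `n_p` carries the grading of `a` to that of `s_p a` and back -/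
theorem rel_nG_both (C : Cert12 D fd fx fc fz) (i : ℕ) (hi : i < fd.l) (a : Fin fd.l → ℝ) :
    ((C.c6.c2.nG (F := F) (fd.simples.getD i 0) (C.c6.c2.simple_lt i hi) : GL D.Idx F) :
        Matrix D.Idx D.Idx F) ∈ TrW (wR D fd fx a) (wR D fd fx (fd.sR fx (fd.simples.getD i 0) a)) ∧
    ((C.c6.c2.nG (F := F) (fd.simples.getD i 0) (C.c6.c2.simple_lt i hi) : GL D.Idx F) :
        Matrix D.Idx D.Idx F) ∈ TrW (wR D fd fx (fd.sR fx (fd.simples.getD i 0) a)) (wR D fd fx a) := by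
  have hp := C.c6.c2.simple_lt i hi
  have hagr := C.c6.c2.agrees
  rw [C.c6.c2.nG_val]
  constructor
  · intro x y hxy
    have hy : code D y < fd.l + fd.n := by rw [← hagr.hl, ← hagr.hn]; exact code_lt D y
    rcases nZ_support _ x y (nF_ne_zero _ x y hxy) with ⟨hx', hy'⟩ | ⟨hy', hx'⟩
    · unfold wR
      rw [rel_omR_lt _ _ hx', rel_omR_lt _ _ hy']
    · have hs : code D y - fd.l < fd.n := by omega
      have hw := (fd.nw_spec C.c6.c2.chk.nn _ _ hp hs).1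
      unfold wR
      rw [rel_omR_ge _ _ hy', hx', rel_omR_ge _ _ (by omega), Nat.add_sub_cancel_left,
        rel_omrR_sR C.c6.c2.chk.lin C.c6.c2.chk.nn a _ _ hp hw,
        (fd.up_spec C.c6.up i hi _ hs).2.1]
  · intro x y hxy
    have hy : code D y < fd.l + fd.n := by rw [← hagr.hl, ← hagr.hn]; exact code_lt D y
    rcases nZ_support _ x y (nF_ne_zero _ x y hxy) with ⟨hx', hy'⟩ | ⟨hy', hx'⟩
    · unfold wR
      rw [rel_omR_lt _ _ hx', rel_omR_lt _ _ hy']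
    · have hs : code D y - fd.l < fd.n := by omega
      unfold wR
      rw [rel_omR_ge _ _ hy', hx', rel_omR_ge _ _ (by omega), Nat.add_sub_cancel_left,
        rel_omrR_sR C.c6.c2.chk.lin C.c6.c2.chk.nn a _ _ hp hs]

section fin
variable [Finite F]

theorem nG_TrG (C : Cert12 D fd fx fc fz) (i : ℕ) (hi : i < fd.l) (a : Fin fd.l → ℝ) :
    TrG D fd fx (C.c6.c2.nG (F := F) (fd.simples.getD i 0) (C.c6.c2.simple_lt i hi)) a
      (fd.sR fx (fd.simples.getD i 0) a) ∧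
    TrG D fd fx (C.c6.c2.nG (F := F) (fd.simples.getD i 0) (C.c6.c2.simple_lt i hi))⁻¹ a
      (fd.sR fx (fd.simples.getD i 0) a) := by
  obtain ⟨h1, h2⟩ := rel_nG_both (F := F) C i hi a
  obtain ⟨h3, h4⟩ := TrW_inv_of_both _ _ _ h1 h2
  refine ⟨⟨h1, h3⟩, ⟨h4, ?_⟩⟩
  rw [inv_inv]
  exact h2

/-- diagonal elements preserve every grading -/
theorem rel_diag_TrW (C : Cert12 D fd fx fc fz) (k : GL D.Idx F) (hk : k ∈ D.diagonalSubgroup F)
    (ω : D.Idx → ℝ) : (k : Matrix D.Idx D.Idx F) ∈ TrW ω ω := by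
  intro x y hxy
  by_cases h : x = y
  · rw [h]
  · exact absurd (C.c6.c2.diag_isDiag k hk x y h) hxy

theorem rel_mul (C : Cert12 D fd fx fc fz) {x y : GL D.Idx F} (hx : C.c6.c2.RelN x) (hy : C.c6.c2.RelN y) :
    C.c6.c2.RelN (x * y) := by
  obtain ⟨π1, hπ1, h1⟩ := hx
  obtain ⟨π2, hπ2, h2⟩ := hy
  refine ⟨π1 ∘ π2, C.c6.perm_mul hπ1 hπ2, fun a => ?_⟩
  obtain ⟨a1, ht1, hv1, hq1⟩ := h2 a
  obtain ⟨a2, ht2, hv2, hq2⟩ := h1 a1
  refine ⟨a2, ⟨?_, ?_⟩, ?_, ?_⟩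
  · rw [Units.val_mul]
    exact TrW_mul _ _ _ _ _ ht1.1 ht2.1
  · rw [_root_.mul_inv_rev, Units.val_mul]
    exact TrW_mul _ _ _ _ _ ht2.2 ht1.2
  · intro s hs
    simp only [Function.comp]
    rw [hv2 _ (hπ2 s hs).1, hv1 s hs]
  · rw [hq2, hq1]

theorem relN_of_mem (C : Cert12 D fd fx fc fz) (n : GL D.Idx F) (hn : n ∈ D.monomialSubgroup F) :
    C.c6.c2.RelN n ∧ C.c6.c2.RelN n⁻¹ := by
  rw [← C.c6.closure_SSet_sup_diag, ← Subgroup.closure_eq (D.diagonalSubgroup F),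
    ← Subgroup.closure_union] at hn
  induction hn using Subgroup.closure_induction with
  | mem x hx =>
    rcases hx with hx | hx
    · obtain ⟨i, hi, rfl⟩ := C.c6.eq_nG_of_SSet x hx
      have hp := C.c6.c2.simple_lt i hi
      have hinv : ∀ s < fd.n, ∀ a : Fin fd.l → ℝ,
          fd.omrR fx (fd.sR fx (fd.simples.getD i 0) a) (fd.nw fx (fd.simples.getD i 0) s) =
            fd.omrR fx a s := by
        intro s hs a
        rw [rel_omrR_sR C.c6.c2.chk.lin C.c6.c2.chk.nn a _ _ hp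
          (fd.nw_spec C.c6.c2.chk.nn _ s hp hs).1, (fd.up_spec C.c6.up i hi s hs).2.1]
      constructor
      · exact ⟨_, (C.c6.perm_nG i hi).1, fun a => ⟨_, (nG_TrG C i hi a).1, fun s hs => hinv s hs a,
          rel_QR_sR C i hi a⟩⟩
      · exact ⟨_, (C.c6.perm_nG i hi).2, fun a => ⟨_, (nG_TrG C i hi a).2, fun s hs => hinv s hs a,
          rel_QR_sR C i hi a⟩⟩
    · constructor
      · exact ⟨id, C.c6.perm_diag x hx, fun a => ⟨a, ⟨rel_diag_TrW C x hx _,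
          rel_diag_TrW C x⁻¹ (inv_mem hx) _⟩, fun s _ => rfl, rfl⟩⟩
      · refine ⟨id, C.c6.perm_diag x⁻¹ (inv_mem hx), fun a => ⟨a, ⟨rel_diag_TrW C x⁻¹ (inv_mem hx) _, ?_⟩,
          fun s _ => rfl, rfl⟩⟩
        rw [inv_inv]
        exact rel_diag_TrW C x hx _
  | one =>
    have h1 : C.c6.c2.RelN (1 : GL D.Idx F) :=
      ⟨id, C.c6.perm_one, fun a => ⟨a, ⟨by rw [Units.val_one]; exact TrW_one _,
        by rw [inv_one, Units.val_one]; exact TrW_one _⟩, fun s _ => rfl, rfl⟩⟩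
    exact ⟨h1, by rw [inv_one]; exact h1⟩
  | mul x y _ _ hx hy =>
    exact ⟨rel_mul C hx.1 hy.1, by rw [_root_.mul_inv_rev]; exact rel_mul C hy.2 hx.2⟩
  | inv x _ hx =>
    exact ⟨hx.2, by rw [inv_inv]; exact hx.1⟩

end fin

end Cfsg.Agent.Lib.H1.BT2
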