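import Mathlib

set_option autoImplicit false
open Pointwise
open scoped commutatorElement

namespace Cfsg.Agent.Lib.H1

variable {G : Type*} [Group G]

/-- A maximal subgroup of a finite `p`-group is normal. -/
theorem isPGroup_coatom_normal [Finite G] {p : ℕ} [Fact p.Prime] (hG : IsPGroup p G)
    {M : Subgroup G} (hM : IsCoatom M) : M.Normal := by
  have : Group.IsNilpotent G := hG.isNilpotent
  exact (Group.isNilpotent_of_finite_tfae.out 0 2 rfl rfl).mp this M hM

/-- A maximal subgroup of a finite `p`-group has index `p`. -/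
theorem isPGroup_coatom_index [Finite G] {p : ℕ} [hp : Fact p.Prime] (hG : IsPGroup p G)
    {M : Subgroup G} (hM : IsCoatom M) : M.index = p := by
  obtain ⟨n, hn⟩ := IsPGroup.iff_card.mp hG
  obtain ⟨m, hm⟩ := IsPGroup.iff_card.mp (hG.to_subgroup M)
  have hdvd : p ^ m ∣ p ^ n := by rw [← hn, ← hm]; exact Subgroup.card_subgroup_dvd_card M
  have hmn : m ≤ n := (Nat.pow_dvd_pow_iff_le_right hp.out.one_lt).mp hdvd
  have hne : m ≠ n := by
    intro h
    apply hM.1
    apply Subgroup.eq_top_of_card_eq
    rw [hm, hn, h]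
  have hlt : m + 1 ≤ n := by omega
  have hdvd' : p ^ (m + 1) ∣ Nat.card G := by rw [hn]; exact pow_dvd_pow _ hlt
  obtain ⟨K, hK, hMK⟩ := Sylow.exists_subgroup_card_pow_succ hdvd' hm
  have hMK' : M < K := by
    apply lt_of_le_of_ne hMK
    intro h
    rw [← h, hm] at hK
    have := Nat.pow_right_injective hp.out.two_le hK
    omega
  have hKtop : K = ⊤ := hM.2 K hMK'
  have hcardG : Nat.card G = p ^ (m + 1) := by
    rw [← hK, hKtop, Subgroup.card_top]
  have h1 := M.card_mul_index
  rw [hm, hcardG, pow_succ] at h1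
  exact Nat.eq_of_mul_eq_mul_left (pow_pos hp.out.pos m) h1

theorem frattini_eq_iInf (G : Type*) [Group G] :
    frattini G = ⨅ M ∈ {M : Subgroup G | IsCoatom M}, M := rfl

theorem le_frattini_iff {K : Subgroup G} :
    K ≤ frattini G ↔ ∀ M : Subgroup G, IsCoatom M → K ≤ M := by
  rw [frattini_eq_iInf]
  simp only [le_iInf_iff, Set.mem_ofPred_eq]

/-- In a finite `p`-group the derived subgroup lies in the Frattini subgroup. -/
theorem isPGroup_commutator_le_frattini [Finite G] {p : ℕ} [Fact p.Prime] (hG : IsPGroup p G) :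
    commutator G ≤ frattini G := by
  rw [le_frattini_iff]
  intro M hM
  have hMn : M.Normal := isPGroup_coatom_normal hG hM
  have hidx : M.index = p := isPGroup_coatom_index hG hM
  have hcard : Nat.card (G ⧸ M) = p := by rw [← Subgroup.index_eq_card, hidx]
  have hcyc : IsCyclic (G ⧸ M) := isCyclic_of_prime_card hcard
  have hcomm : ∀ a b : G ⧸ M, a * b = b * a := fun a b => by
    letI := IsCyclic.commGroup (α := G ⧸ M)
    exact mul_comm a b
  rw [commutator_eq_closure, Subgroup.closure_le]
  rintro x ⟨a, b, rfl⟩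
  rw [SetLike.mem_coe, ← QuotientGroup.eq_one_iff, commutatorElement_def]
  simp only [QuotientGroup.mk_mul, QuotientGroup.mk_inv]
  rw [hcomm (a : G ⧸ M) b]
  group

/-- In a finite `p`-group all `p`-th powers lie in the Frattini subgroup. -/
theorem isPGroup_pow_mem_frattini [Finite G] {p : ℕ} [Fact p.Prime] (hG : IsPGroup p G) (x : G) :
    x ^ p ∈ frattini G := by
  have : Subgroup.zpowers (x ^ p) ≤ frattini G := by
    rw [le_frattini_iff]
    intro M hM
    have hMn : M.Normal := isPGroup_coatom_normal hG hM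
    have hidx : M.index = p := isPGroup_coatom_index hG hM
    have hcard : Nat.card (G ⧸ M) = p := by rw [← Subgroup.index_eq_card, hidx]
    rw [Subgroup.zpowers_le, ← QuotientGroup.eq_one_iff, QuotientGroup.mk_pow, ← hcard]
    exact pow_card_eq_one'
  exact this (Subgroup.mem_zpowers _)

/-- A subgroup containing the derived subgroup is normal. -/
theorem normal_of_commutator_le {M : Subgroup G} (h : commutator G ≤ M) : M.Normal := by
  constructor
  intro n hn g
  have h1 : ⁅g, n⁆ ∈ M := h (Subgroup.commutator_mem_commutator (Subgroup.mem_top g) (Subgroup.mem_top n))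
  have h2 : g * n * g⁻¹ = ⁅g, n⁆ * n := by rw [commutatorElement_def]; group
  rw [h2]
  exact M.mul_mem h1 hn

/-- If `G/N` is elementary abelian (for a normal subgroup `N` of any finite group), then
the Frattini subgroup lies in `N`. -/
theorem frattini_le_of_commutator_le_of_pow_mem [Finite G] {p : ℕ} [hp : Fact p.Prime]
    (N : Subgroup G) (hcomm : commutator G ≤ N) (hpow : ∀ x : G, x ^ p ∈ N) :
    frattini G ≤ N := by
  intro g hgΦ
  by_contra hgN
  -- choose `M` maximal with `N ≤ M`, `g ∉ M`
  let S : Set (Subgroup G) := {K | N ≤ K ∧ g ∉ K}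
  have hSfin : S.Finite := Set.toFinite S
  have hNS : N ∈ S := ⟨le_rfl, hgN⟩
  obtain ⟨M, hNM, hMmax⟩ := hSfin.exists_le_maximal hNS
  have hMS : M ∈ S := hMmax.prop
  have hMn : M.Normal := normal_of_commutator_le (hcomm.trans hMS.1)
  have hgK : ∀ K : Subgroup G, M < K → g ∈ K := by
    intro K hMK
    by_contra hgK
    have hKS : K ∈ S := ⟨hMS.1.trans hMK.le, hgK⟩
    exact hMK.not_ge (hMmax.le_of_ge hKS hMK.le)
  have hcoatom : IsCoatom M := by
    refine ⟨fun h => hMS.2 (h ▸ Subgroup.mem_top g), ?_⟩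
    intro K hMK
    rw [eq_top_iff]
    intro y _
    by_cases hyM : y ∈ M
    · exact hMK.le hyM
    · have hlt : M < M ⊔ Subgroup.zpowers y := by
        apply lt_of_le_of_ne le_sup_left
        intro h
        apply hyM
        rw [h]
        exact (le_sup_right : Subgroup.zpowers y ≤ M ⊔ Subgroup.zpowers y) (Subgroup.mem_zpowers y)
      have hg := hgK _ hlt
      rw [Subgroup.mem_sup_of_normal_left] at hg
      obtain ⟨m, hm, z, hz, hmz⟩ := hg
      obtain ⟨i, rfl⟩ := Subgroup.mem_zpowers_iff.mp hz
      have hyiK : y ^ i ∈ K := by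
        have : y ^ i = m⁻¹ * g := by rw [← hmz]; group
        rw [this]
        exact K.mul_mem (K.inv_mem (hMK.le hm)) (hgK K hMK)
      have hypK : y ^ (p : ℤ) ∈ K := by
        rw [zpow_natCast]
        exact hMK.le (hMS.1 (hpow y))
      have hcop : IsCoprime i (p : ℤ) := by
        rw [isCoprime_comm]
        apply (Nat.prime_iff_prime_int.mp hp.out).coprime_iff_not_dvd.mpr
        rintro ⟨j, rfl⟩
        apply hMS.2
        rw [← hmz]
        apply M.mul_mem hm
        rw [zpow_mul, zpow_natCast]
        exact M.zpow_mem (hMS.1 (hpow y)) j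
      obtain ⟨a, b, hab⟩ := hcop
      have : y = (y ^ i) ^ a * (y ^ (p : ℤ)) ^ b := by
        rw [← zpow_mul, ← zpow_mul, ← zpow_add, mul_comm i a, mul_comm (p : ℤ) b, hab, zpow_one]
      rw [this]
      exact K.mul_mem (K.zpow_mem hyiK a) (K.zpow_mem hypK b)
  exact hMS.2 (frattini_le_coatom hcoatom hgΦ)

end Cfsg.Agent.Lib.H1
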