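import Mathlib
import Cfsg.Agent.Lib.H1.PGroupBasic

set_option autoImplicit false

namespace Cfsg.Agent.Lib.H1

variable {G : Type*} [Group G]

/-- If `H` is normal, `a ∉ H` and `a ^ p ∈ H` then `H` has index `p` in `⟨H, a⟩`. -/
theorem relIndex_sup_zpowers_eq_prime {H : Subgroup G} [H.Normal] {a : G} {p : ℕ} (hp : p.Prime)
    (ha : a ∉ H) (hap : a ^ p ∈ H) :
    H.relIndex (H ⊔ Subgroup.zpowers a) = p := by
  rw [Subgroup.relIndex_sup_left]
  have h1 : H.relIndex (Subgroup.zpowers a) =
      (QuotientGroup.mk' H).ker.relIndex (Subgroup.zpowers a) := by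
    rw [QuotientGroup.ker_mk']
  rw [h1, Subgroup.relIndex_ker, MonoidHom.map_zpowers, Nat.card_zpowers]
  have : Fact p.Prime := ⟨hp⟩
  apply orderOf_eq_prime
  · rw [← map_pow]
    exact (QuotientGroup.eq_one_iff _).mpr hap
  · rw [Ne, QuotientGroup.mk'_apply, QuotientGroup.eq_one_iff]
    exact ha

/-- Burnside basis theorem, inductive core. -/
theorem burnside_basis_aux [Finite G] {p : ℕ} [hp : Fact p.Prime] (hG : IsPGroup p G)
    (S : Finset G) :
    ∃ T : Finset G, T ⊆ S ∧
      Subgroup.closure (T : Set G) ⊔ frattini G = Subgroup.closure (S : Set G) ⊔ frattini G ∧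
      (frattini G).relIndex (Subgroup.closure (S : Set G) ⊔ frattini G) = p ^ T.card := by
  classical
  induction S using Finset.induction_on with
  | empty =>
    refine ⟨∅, le_rfl, rfl, ?_⟩
    simp
  | insert a S₀ haS ih =>
    obtain ⟨T₀, hT₀S, hcl, hidx⟩ := ih
    set H₀ := Subgroup.closure (S₀ : Set G) ⊔ frattini G with hH₀
    have hΦH₀ : frattini G ≤ H₀ := le_sup_right
    have hins : ∀ X : Finset G, Subgroup.closure ((insert a X : Finset G) : Set G) ⊔ frattini G =
        (Subgroup.closure (X : Set G) ⊔ frattini G) ⊔ Subgroup.zpowers a := by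
      intro X
      rw [Finset.coe_insert, Set.insert_eq, Subgroup.closure_union, Subgroup.zpowers_eq_closure]
      ac_rfl
    by_cases haH : a ∈ H₀
    · refine ⟨T₀, hT₀S.trans (Finset.subset_insert a S₀), ?_, ?_⟩
      · rw [hins S₀, hcl]
        exact (sup_eq_left.mpr ((Subgroup.zpowers_le).mpr haH)).symm
      · rw [hins S₀, sup_eq_left.mpr ((Subgroup.zpowers_le).mpr haH)]
        exact hidx
    · have haT₀ : a ∉ T₀ := fun h => haS (hT₀S h)
      have : H₀.Normal :=
        normal_of_commutator_le ((isPGroup_commutator_le_frattini hG).trans hΦH₀)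
      refine ⟨insert a T₀, Finset.insert_subset_insert a hT₀S, ?_, ?_⟩
      · rw [hins S₀, hins T₀, hcl]
      · rw [hins S₀, Finset.card_insert_of_notMem haT₀, pow_succ,
          ← Subgroup.relIndex_mul_relIndex (frattini G) H₀ _ hΦH₀ le_sup_left, hidx,
          relIndex_sup_zpowers_eq_prime hp.out haH (hΦH₀ (isPGroup_pow_mem_frattini hG a))]

/-- **Burnside basis theorem.** -/
theorem burnside_basis [Finite G] {p n : ℕ} [hp : Fact p.Prime] (hG : IsPGroup p G)
    (hn : (frattini G).index = p ^ n) (S : Finset G) (hS : Subgroup.closure (S : Set G) = ⊤) :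
    ∃ T : Finset G, T ⊆ S ∧ T.card = n ∧ Subgroup.closure (T : Set G) = ⊤ := by
  obtain ⟨T, hTS, hcl, hidx⟩ := burnside_basis_aux hG S
  rw [hS, top_sup_eq] at hcl hidx
  rw [Subgroup.relIndex_top_right, hn] at hidx
  exact ⟨T, hTS, (Nat.pow_right_injective hp.out.two_le hidx).symm, frattini_nongenerating hcl⟩

end Cfsg.Agent.Lib.H1
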