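import Cfsg.Agent.Lib.H1.C3MaxBase

/-!
# S5886: the ascent lemma

In the `X`-orbit of the `K`-lines there are two distinct members meeting in an `F`-hyperplane of both.
-/

set_option autoImplicit false

namespace Cfsg.Agent.Lib.H1.C3Max

open Module

variable {F K V : Type*} [Field F] [Field K] [Algebra F K] [AddCommGroup V] [Module F V]
  [Module K V] [IsScalarTower F K V]

/-! ### images of subspaces -/

theorem mem_map_equiv {L : Submodule F V} {g : V ≃ₗ[F] V} {y : V} :
    y ∈ L.map (g : V →ₗ[F] V) ↔ g⁻¹ y ∈ L := by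
  rw [Submodule.mem_map]
  constructor
  · rintro ⟨z, hz, rfl⟩
    have : g⁻¹ (g z) = z := g.symm_apply_apply z
    rw [LinearEquiv.coe_coe, this]
    exact hz
  · intro h
    exact ⟨g⁻¹ y, h, g.apply_symm_apply y⟩

theorem apply_mem_map_equiv {L : Submodule F V} {g : V ≃ₗ[F] V} {z : V} (hz : z ∈ L) :
    g z ∈ L.map (g : V →ₗ[F] V) := Submodule.mem_map_of_mem hz

theorem map_mul_equiv (L : Submodule F V) (g h : V ≃ₗ[F] V) :
    L.map ((g * h : V ≃ₗ[F] V) : V →ₗ[F] V) = (L.map (h : V →ₗ[F] V)).map (g : V →ₗ[F] V) := by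
  rw [← Submodule.map_comp]
  rfl

theorem map_one_equiv (L : Submodule F V) : L.map ((1 : V ≃ₗ[F] V) : V →ₗ[F] V) = L :=
  Submodule.map_id L

theorem finrank_map_equiv (L : Submodule F V) (g : V ≃ₗ[F] V) :
    finrank F ↥(L.map (g : V →ₗ[F] V)) = finrank F ↥L := LinearEquiv.finrank_map_eq g L

theorem map_inf_equiv (L L' : Submodule F V) (g : V ≃ₗ[F] V) :
    (L ⊓ L').map (g : V →ₗ[F] V) = L.map (g : V →ₗ[F] V) ⊓ L'.map (g : V →ₗ[F] V) :=
  Submodule.map_inf _ g.injective

/-! ### `K`-lines -/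

theorem kline_eq_of_mem {a b : V} (hb : b ≠ 0) (h : b ∈ kline F K a) : kline F K b = kline F K a := by
  obtain ⟨κ, rfl⟩ := mem_kline.mp h
  have hκ : κ ≠ 0 := by
    rintro rfl
    exact hb (zero_smul _ _)
  ext v
  rw [mem_kline, mem_kline]
  constructor
  · rintro ⟨μ, rfl⟩
    exact ⟨μ * κ, by rw [mul_smul]⟩
  · rintro ⟨μ, rfl⟩
    exact ⟨μ * κ⁻¹, by rw [smul_smul, mul_assoc, inv_mul_cancel₀ hκ, mul_one]⟩

theorem finrank_kline {b : V} (hb : b ≠ 0) : finrank F ↥(kline F K b) = finrank F K := by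
  let ψ : K →ₗ[F] V := (LinearMap.toSpanSingleton K V b).restrictScalars F
  have hψ : ∀ κ, ψ κ = κ • b := fun κ => rfl
  have hinj : Function.Injective ψ := by
    intro κ κ' h
    rw [hψ, hψ] at h
    by_contra hne
    have : (κ - κ') • b = 0 := by rw [sub_smul, h, sub_self]
    rcases smul_eq_zero.mp this with h0 | h0
    · exact hne (sub_eq_zero.mp h0)
    · exact hb h0
  have hrange : LinearMap.range ψ = kline F K b := by
    ext v
    rw [LinearMap.mem_range, mem_kline]
    rfl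
  rw [← hrange]
  exact (LinearEquiv.ofInjective ψ hinj).finrank_eq.symm

/-- the predicate "two distinct members of the `X`-orbit of `K`-lines meet in dimension `d`" -/
def Meet (X : Subgroup (V ≃ₗ[F] V)) (K : Type*) [Field K] [Algebra F K] [Module K V]
    [IsScalarTower F K V] (d : ℕ) : Prop :=
  ∃ (g₀ g₁ : V ≃ₗ[F] V) (a₀ a₁ : V), g₀ ∈ X ∧ g₁ ∈ X ∧ a₀ ≠ 0 ∧ a₁ ≠ 0 ∧
    (kline F K a₀).map (g₀ : V →ₗ[F] V) ≠ (kline F K a₁).map (g₁ : V →ₗ[F] V) ∧
    finrank F ↥((kline F K a₀).map (g₀ : V →ₗ[F] V) ⊓ (kline F K a₁).map (g₁ : V →ₗ[F] V)) = d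

section

variable [Module.Finite F K]

instance finite_kline (b : V) : Module.Finite F ↥(kline F K b) := by
  by_cases hb : b = 0
  · subst hb
    have : kline F K (0 : V) = ⊥ := by
      ext v
      rw [mem_kline, Submodule.mem_bot]
      constructor
      · rintro ⟨κ, rfl⟩; exact smul_zero _
      · rintro rfl; exact ⟨0, zero_smul _ _⟩
    rw [this]
    infer_instance
  · apply Module.finite_of_finrank_pos
    rw [finrank_kline hb]
    exact Module.finrank_pos

instance finite_map_kline (a : V) (g : V ≃ₗ[F] V) :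
    Module.Finite F ↥((kline F K a).map (g : V →ₗ[F] V)) :=
  Module.Finite.map _ _

theorem meet_le {X : Subgroup (V ≃ₗ[F] V)} {d : ℕ} (h : Meet X K d) : d ≤ finrank F K := by
  obtain ⟨g₀, g₁, a₀, a₁, -, -, ha₀, -, -, rfl⟩ := h
  calc finrank F ↥((kline F K a₀).map (g₀ : V →ₗ[F] V) ⊓ (kline F K a₁).map (g₁ : V →ₗ[F] V))
      ≤ finrank F ↥((kline F K a₀).map (g₀ : V →ₗ[F] V)) := Submodule.finrank_mono inf_le_left
    _ = finrank F K := by rw [finrank_map_equiv, finrank_kline ha₀]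

/-- **Ascent lemma.**  -/
theorem ascent (hr : (finrank F K).Prime) (hm : 2 ≤ finrank K V)
    (X : Subgroup (V ≃ₗ[F] V)) (hD : HasD K X) (x : V ≃ₗ[F] V) (hx : x ∈ X) (hxN : ¬ NormK K x) :
    ∃ (b a₁ : V) (g : V ≃ₗ[F] V), g ∈ X ∧ b ≠ 0 ∧ a₁ ≠ 0 ∧
      b ∈ (kline F K a₁).map (g : V →ₗ[F] V) ∧
      (kline F K a₁).map (g : V →ₗ[F] V) ≠ kline F K b ∧
      finrank F ↥(kline F K b ⊓ (kline F K a₁).map (g : V →ₗ[F] V)) + 1 = finrank F K := by
  classical
  set r := finrank F K with hr_def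
  -- Step 1: some intersecting pair
  have hex : ∃ d, 1 ≤ d ∧ Meet X K d := by
    have h1 : ¬ ∀ (a : V) (κ : K), x (κ • a) ∈ kline F K (x a) := fun h =>
      hxN (normK_of_map_kline hm x h)
    push Not at h1
    obtain ⟨a, κ, hκ⟩ := h1
    have ha : a ≠ 0 := by
      rintro rfl
      apply hκ
      rw [smul_zero, map_zero]
      exact Submodule.zero_mem _
    have hxa : x a ≠ 0 := fun h => ha (by simpa using h)
    refine ⟨_, ?_, 1, x, x a, a, X.one_mem, hx, hxa, ha, ?_, rfl⟩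
    · rw [Nat.one_le_iff_ne_zero]
      intro h0
      rw [Submodule.finrank_eq_zero] at h0
      have hmem : x a ∈ (kline F K (x a)).map ((1 : V ≃ₗ[F] V) : V →ₗ[F] V) ⊓
          (kline F K a).map (x : V →ₗ[F] V) := by
        refine ⟨?_, apply_mem_map_equiv (self_mem_kline a)⟩
        rw [map_one_equiv]
        exact self_mem_kline _
      rw [h0] at hmem
      exact hxa hmem
    · rw [map_one_equiv]
      intro heq
      apply hκ
      rw [heq]
      exact apply_mem_map_equiv (smul_mem_kline a κ)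
  obtain ⟨d₀, hd₀, hM₀⟩ := hex
  -- Step 2: maximal d
  set δ := Nat.findGreatest (Meet X K) r with hδ
  have hd₀r : d₀ ≤ r := meet_le hM₀
  have hδM : Meet X K δ := Nat.findGreatest_spec hd₀r hM₀
  have hδ1 : 1 ≤ δ := le_trans hd₀ (Nat.le_findGreatest hd₀r hM₀)
  have hmax : ∀ d, δ < d → ¬ Meet X K d := fun d hd hM =>
    Nat.findGreatest_is_greatest hd (meet_le hM) hM
  -- Step 3: normalise the pair
  obtain ⟨g₀, g₁, a₀, a₁, hg₀, hg₁, ha₀, ha₁, hne, hfr⟩ := hδM
  set L₀ := (kline F K a₀).map (g₀ : V →ₗ[F] V) with hL₀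
  set L₁ := (kline F K a₁).map (g₁ : V →ₗ[F] V) with hL₁
  obtain ⟨w, hw, hw0⟩ : ∃ w ∈ L₀ ⊓ L₁, w ≠ 0 := by
    by_contra hcon
    push Not at hcon
    have : L₀ ⊓ L₁ = ⊥ := by
      rw [eq_bot_iff]
      intro v hv
      exact (Submodule.mem_bot F).mpr (hcon v hv)
    rw [this, finrank_bot] at hfr
    omega
  set b := g₀⁻¹ w with hb_def
  have hbw : g₀ b = w := g₀.apply_symm_apply w
  have hb0 : b ≠ 0 := by
    intro h
    rw [h, map_zero] at hbw
    exact hw0 hbw.symm
  have hbk : b ∈ kline F K a₀ := mem_map_equiv.mp hw.1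
  have hkb : kline F K b = kline F K a₀ := kline_eq_of_mem hb0 hbk
  set g := g₀⁻¹ * g₁ with hg_def
  have hgX : g ∈ X := X.mul_mem (X.inv_mem hg₀) hg₁
  set L' := (kline F K a₁).map (g : V →ₗ[F] V) with hL'
  have hL'1 : L'.map (g₀ : V →ₗ[F] V) = L₁ := by
    rw [hL', ← map_mul_equiv, hg_def, mul_inv_cancel_left]
  have hL0 : (kline F K b).map (g₀ : V →ₗ[F] V) = L₀ := by rw [hkb]
  have hbL' : b ∈ L' := by
    rw [hL', mem_map_equiv, hg_def, mul_inv_rev, inv_inv, LinearEquiv.mul_apply, hbw]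
    exact mem_map_equiv.mp hw.2
  have hneL : L' ≠ kline F K b := by
    intro h
    apply hne
    rw [← hL0, ← hL'1, h]
  have hfr' : finrank F ↥(kline F K b ⊓ L') = δ := by
    rw [← hfr, ← hL0, ← hL'1, ← map_inf_equiv, finrank_map_equiv]
  set L := kline F K b with hL
  -- L' is not contained in L
  have hrL : finrank F ↥L = r := finrank_kline hb0
  have hrL' : finrank F ↥L' = r := by rw [hL', finrank_map_equiv, finrank_kline ha₁]
  have hnle : ¬ L' ≤ L := by
    intro hle
    exact hneL (Submodule.eq_of_le_of_finrank_eq hle (by rw [hrL, hrL']))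
  obtain ⟨e₁, he₁L', he₁L⟩ := SetLike.not_le_iff_exists.mp hnle
  have he₁ : ∀ κ : K, κ • b ≠ e₁ := fun κ h => he₁L (h ▸ smul_mem_kline b κ)
  -- Fact M
  have factM : ∀ u : V ≃ₗ[F] V, u ∈ X → (∀ y ∈ L, u y = y) →
      (∃ e ∈ L', u e ∈ L' ∧ u e ∉ L) → ∀ y ∈ L', u y ∈ L' := by
    intro u huX hfix ⟨e, heL', hue, hueL⟩
    by_contra hcon
    push Not at hcon
    obtain ⟨y, hy, huy⟩ := hcon
    set L'' := (kline F K a₁).map ((u * g : V ≃ₗ[F] V) : V →ₗ[F] V) with hL''
    have hL''eq : L'' = L'.map (u : V →ₗ[F] V) := by rw [hL'', map_mul_equiv]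
    have hne'' : L' ≠ L'' := by
      intro h
      apply huy
      rw [h, hL''eq]
      exact apply_mem_map_equiv hy
    have hsub : (L ⊓ L') ⊔ Submodule.span F {u e} ≤ L' ⊓ L'' := by
      apply sup_le
      · intro v hv
        refine ⟨hv.2, ?_⟩
        rw [hL''eq, ← hfix v hv.1]
        exact apply_mem_map_equiv hv.2
      · rw [Submodule.span_singleton_le_iff_mem]
        refine ⟨hue, ?_⟩
        rw [hL''eq]
        exact apply_mem_map_equiv heL'
    have hlt : L ⊓ L' < (L ⊓ L') ⊔ Submodule.span F {u e} := by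
      apply lt_of_le_of_ne le_sup_left
      intro h
      have : u e ∈ L ⊓ L' := by
        rw [h]
        exact Submodule.mem_sup_right (Submodule.mem_span_singleton_self _)
      exact hueL this.1
    have h1 : δ < finrank F ↥(L' ⊓ L'') := by
      rw [← hfr']
      exact lt_of_lt_of_le (Submodule.finrank_lt_finrank_of_lt hlt) (Submodule.finrank_mono hsub)
    exact hmax _ h1 ⟨g, u * g, a₁, a₁, hgX, X.mul_mem huX hgX, ha₁, ha₁, hne'', rfl⟩
  -- the subspace 𝒟 = {κ | κ • b ∈ L'}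
  let ψ : K →ₗ[F] V := (LinearMap.toSpanSingleton K V b).restrictScalars F
  have hψ : ∀ κ, ψ κ = κ • b := fun κ => rfl
  set DD : Submodule F K := L'.comap ψ with hDD
  have hDDmem : ∀ κ, κ ∈ DD ↔ κ • b ∈ L' := fun κ => Iff.rfl
  have hDDbot : DD ≠ ⊥ := by
    intro h
    have : (1 : K) ∈ DD := by rw [hDDmem, one_smul]; exact hbL'
    rw [h, Submodule.mem_bot] at this
    exact one_ne_zero this
  have hDDtop : DD ≠ ⊤ := by
    intro h
    apply hnle
    have hLle : L ≤ L' := by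
      intro v hv
      obtain ⟨κ, rfl⟩ := mem_kline.mp hv
      have : κ ∈ DD := by rw [h]; exact Submodule.mem_top
      exact this
    rw [Submodule.eq_of_le_of_finrank_eq hLle (by rw [hrL, hrL'])]
  -- fixing L
  have hfixL : ∀ {f : Dual K V} (hf : f b = 0), ∀ y ∈ L, ktv F hf y = y := by
    intro f hf y hy
    obtain ⟨κ, rfl⟩ := mem_kline.mp hy
    rw [ktv_apply, map_smul, hf, smul_zero, zero_smul, add_zero]
  -- Case B is impossible
  have caseA : ∀ e₂ ∈ L', ∃ κ μ : K, κ • b + μ • e₁ = e₂ := by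
    intro e₂ he₂
    by_contra hcon
    push Not at hcon
    obtain ⟨κ₂, hκ₂⟩ : ∃ κ₂ : K, κ₂ ∉ DD := by
      by_contra h
      push Not at h
      exact hDDtop (eq_top_iff.mpr fun κ _ => h κ)
    obtain ⟨f, hfb, hfe₁, hfe₂⟩ := exists_dual_triple hb0 he₁ hcon 0 1 κ₂
    have hu := factM (ktv F hfb) (ktv_mem hD hfb) (hfixL hfb)
      ⟨e₁, he₁L', by
        rw [ktv_apply, hfe₁, one_smul]
        exact L'.add_mem he₁L' hbL', by
        rw [ktv_apply, hfe₁, one_smul]
        intro h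
        exact he₁L (by simpa using L.sub_mem h (self_mem_kline b))⟩
    have := hu e₂ he₂
    rw [ktv_apply, hfe₂] at this
    have h2 : κ₂ • b ∈ L' := by simpa using L'.sub_mem this he₂
    exact hκ₂ h2
  -- the coefficient of e₁ lies in F
  have coefF : ∀ κ μ : K, κ • b + μ • e₁ ∈ L' → μ ∈ Set.range (algebraMap F K) := by
    intro κ μ hmem
    by_contra hμ
    have hstab : ∀ d ∈ DD, μ * d ∈ DD := by
      intro d hd
      obtain ⟨f, hfb, hfe₁⟩ := exists_dual_pair hb0 he₁ 0 d
      have hu := factM (ktv F hfb) (ktv_mem hD hfb) (hfixL hfb)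
        ⟨e₁, he₁L', by
          rw [ktv_apply, hfe₁]
          exact L'.add_mem he₁L' hd, by
          rw [ktv_apply, hfe₁]
          intro h
          exact he₁L (by simpa using L.sub_mem h (smul_mem_kline b d))⟩
      have := hu _ hmem
      rw [ktv_apply, map_add, map_smul, map_smul, hfb, hfe₁, smul_zero, zero_add] at this
      have h2 : (μ • d) • b ∈ L' := by simpa using L'.sub_mem this hmem
      rw [smul_eq_mul] at h2
      exact h2
    rcases eq_bot_or_eq_top_of_mul_mem hr DD μ hμ hstab with h | h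
    · exact hDDbot h
    · exact hDDtop h
  -- conclusion: L' = (L ⊓ L') ⊔ F e₁
  have hL'le : L' ≤ (L ⊓ L') ⊔ Submodule.span F {e₁} := by
    intro y hy
    obtain ⟨κ, μ, rfl⟩ := caseA y hy
    obtain ⟨c, hc⟩ := coefF κ μ hy
    have h1 : μ • e₁ = c • e₁ := by rw [← hc, algebraMap_smul]
    rw [h1] at hy ⊢
    have h2 : κ • b ∈ L' := by simpa using L'.sub_mem hy (L'.smul_mem c he₁L')
    exact Submodule.add_mem _ (Submodule.mem_sup_left ⟨smul_mem_kline b κ, h2⟩)
      (Submodule.mem_sup_right (Submodule.smul_mem _ c (Submodule.mem_span_singleton_self _)))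
  have hfin : finrank F ↥L' ≤ finrank F ↥(L ⊓ L') + 1 := by
    calc finrank F ↥L' ≤ finrank F ↥((L ⊓ L') ⊔ Submodule.span F {e₁}) := by
          have : Module.Finite F ↥(L ⊓ L') := Module.Finite.of_injective
            (Submodule.inclusion (inf_le_left : L ⊓ L' ≤ L)) (Submodule.inclusion_injective _)
          exact Submodule.finrank_mono hL'le
      _ ≤ finrank F ↥(L ⊓ L') + finrank F ↥(Submodule.span F {e₁}) := by
          have : Module.Finite F ↥(L ⊓ L') := Module.Finite.of_injective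
            (Submodule.inclusion (inf_le_left : L ⊓ L' ≤ L)) (Submodule.inclusion_injective _)
          exact Submodule.finrank_add_le_finrank_add_finrank _ _
      _ ≤ finrank F ↥(L ⊓ L') + 1 := by
          have := finrank_span_singleton_le_one (K := F) e₁
          omega
  have hlt : finrank F ↥(L ⊓ L') < finrank F ↥L' := by
    apply Submodule.finrank_lt_finrank_of_lt
    apply lt_of_le_of_ne inf_le_right
    intro h
    apply hnle
    rw [← h]
    exact inf_le_left
  have hfinal : finrank F ↥(L ⊓ L') + 1 = r := by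
    rw [hrL'] at hfin hlt
    omega
  exact ⟨b, a₁, g, hgX, hb0, ha₁, hbL', hneL, hfinal⟩

end

end Cfsg.Agent.Lib.H1.C3Max
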