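import Cfsg.Agent.Lib.H1.C3MaxDefs

/-!
# S5886: basic lemmas in the abstract setting (form-free, reusable)
-/

set_option autoImplicit false

namespace Cfsg.Agent.Lib.H1.C3Max

open Module

variable {F K V : Type*} [Field F] [Field K] [Algebra F K] [AddCommGroup V] [Module F V]
  [Module K V] [IsScalarTower F K V]

/-! ### `K`-transvections as `F`-linear equivalences -/

variable (F) in
/-- the `K`-transvection `x ↦ x + f x • v` as an `F`-linear equivalence -/
noncomputable def ktv {f : Dual K V} {v : V} (h : f v = 0) : V ≃ₗ[F] V :=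
  (LinearEquiv.transvection h).restrictScalars F

@[simp] theorem ktv_apply {f : Dual K V} {v : V} (h : f v = 0) (x : V) :
    ktv F h x = x + f x • v := rfl

theorem ktv_inv_apply {f : Dual K V} {v : V} (h : f v = 0) (x : V) :
    (ktv F h)⁻¹ x = x - f x • v := by
  rw [LinearEquiv.coe_inv, LinearEquiv.symm_apply_eq, ktv_apply, map_sub, map_smul, h]
  simp

theorem ktv_mem {X : Subgroup (V ≃ₗ[F] V)} (hD : HasD K X) {f : Dual K V} {v : V} (h : f v = 0) :
    ktv F h ∈ X :=
  hD f v _ (ktv_apply h) (by rw [h, add_zero, map_one])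

/-! ### unipotent elements `1 + Q`, `Q² = 0` -/

/-- `1 + Q` for `Q ∘ Q = 0` -/
def unip (Q : V →ₗ[F] V) (hQ : ∀ v, Q (Q v) = 0) : V ≃ₗ[F] V :=
  LinearEquiv.ofLinearMap (LinearMap.id + Q) (LinearMap.id - Q)
    (by ext v; simp [hQ]) (by ext v; simp [hQ])

@[simp] theorem unip_apply (Q : V →ₗ[F] V) (hQ : ∀ v, Q (Q v) = 0) (v : V) :
    unip Q hQ v = v + Q v := rfl

theorem unip_inv_apply (Q : V →ₗ[F] V) (hQ : ∀ v, Q (Q v) = 0) (v : V) :
    (unip Q hQ)⁻¹ v = v - Q v := rfl

/-! ### `K`-functionals with prescribed values -/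

theorem exists_dual_eq {ι : Type*} (v : ι → V) (hv : LinearIndependent K v) (c : ι → K) :
    ∃ f : Dual K V, ∀ i, f (v i) = c i := by
  obtain ⟨g, hg⟩ := LinearMap.exists_extend ((Basis.span hv).constr K c)
  refine ⟨g, fun i => ?_⟩
  have h1 := LinearMap.congr_fun hg (Basis.span hv i)
  rw [Basis.constr_basis, LinearMap.comp_apply, Submodule.subtype_apply, Basis.span_apply] at h1
  exact h1

theorem exists_dual_pair {a e : V} (ha : a ≠ 0) (he : ∀ κ : K, κ • a ≠ e) (c₀ c₁ : K) :
    ∃ f : Dual K V, f a = c₀ ∧ f e = c₁ := by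
  have hli : LinearIndependent K ![a, e] := (LinearIndependent.pair_iff' ha).mpr he
  obtain ⟨f, hf⟩ := exists_dual_eq ![a, e] hli ![c₀, c₁]
  exact ⟨f, by simpa using hf 0, by simpa using hf 1⟩

theorem exists_dual_triple {a e w : V} (ha : a ≠ 0) (he : ∀ κ : K, κ • a ≠ e)
    (hw : ∀ κ μ : K, κ • a + μ • e ≠ w) (c₀ c₁ c₂ : K) :
    ∃ f : Dual K V, f a = c₀ ∧ f e = c₁ ∧ f w = c₂ := by
  have hli2 : LinearIndependent K ![a, e] := (LinearIndependent.pair_iff' ha).mpr he
  have hli : LinearIndependent K ![w, a, e] := by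
    rw [show (![w, a, e] : Fin 3 → V) = Fin.cons w ![a, e] from rfl, linearIndependent_finCons]
    refine ⟨hli2, ?_⟩
    intro hmem
    rw [Submodule.mem_span_range_iff_exists_fun] at hmem
    obtain ⟨c, hc⟩ := hmem
    rw [Fin.sum_univ_two] at hc
    exact hw (c 0) (c 1) (by simpa using hc)
  obtain ⟨f, hf⟩ := exists_dual_eq ![w, a, e] hli ![c₂, c₀, c₁]
  exact ⟨f, by simpa using hf 1, by simpa using hf 2, by simpa using hf 0⟩

theorem finrank_span_singleton_le_one (a : V) : finrank K ↥(Submodule.span K {a}) ≤ 1 := by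
  by_cases h : a = 0
  · subst h
    rw [Submodule.span_zero_singleton, finrank_bot]
    exact Nat.zero_le _
  · exact (finrank_span_singleton h).le

/-- outside any `K`-line there is a vector (`dim_K V ≥ 2`) -/
theorem exists_not_smul (hm : 2 ≤ finrank K V) (a : V) : ∃ w : V, ∀ κ : K, κ • a ≠ w := by
  by_contra hcon
  push Not at hcon
  have htop : Submodule.span K {a} = ⊤ := by
    rw [eq_top_iff]
    intro w _
    obtain ⟨κ, hκ⟩ := hcon w
    exact Submodule.mem_span_singleton.mpr ⟨κ, hκ⟩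
  have h1 : finrank K V ≤ 1 := by
    rw [← finrank_top K V, ← htop]
    exact finrank_span_singleton_le_one a
  omega

/-- the span of two vectors is not everything when `dim_K V ≥ 3` -/
theorem exists_not_smul_add (hm : 3 ≤ finrank K V) (a e : V) :
    ∃ w : V, ∀ κ μ : K, κ • a + μ • e ≠ w := by
  by_contra hcon
  push Not at hcon
  have htop : Submodule.span K {a, e} = ⊤ := by
    rw [eq_top_iff]
    intro w _
    obtain ⟨κ, μ, h⟩ := hcon w
    exact Submodule.mem_span_pair.mpr ⟨κ, μ, h⟩
  have h1 : finrank K V ≤ 2 := by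
    rw [← finrank_top K V, ← htop]
    have hfin : Module.Finite K V := Module.finite_of_finrank_pos (by omega)
    rw [Submodule.span_insert]
    have h2 := Submodule.finrank_add_le_finrank_add_finrank (Submodule.span K {a}) (Submodule.span K {e})
    have h3 := finrank_span_singleton_le_one (K := K) a
    have h4 := finrank_span_singleton_le_one (K := K) e
    omega
  omega

/-! ### maps preserving every `K`-line -/

/-- an additive map preserving every `K`-line is a `K`-scalar (`dim_K V ≥ 2`) -/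
theorem exists_smul_of_forall_mem_kline (hm : 2 ≤ finrank K V) (φ : V →ₗ[F] V)
    (h : ∀ a, φ a ∈ kline F K a) : ∃ κ : K, ∀ v, φ v = κ • v := by
  classical
  choose c hc using fun a => mem_kline.mp (h a)
  -- independent vectors have the same scalar
  have hind : ∀ a b : V, a ≠ 0 → (∀ κ : K, κ • a ≠ b) → c a = c b := by
    intro a b ha hb
    have hli : LinearIndependent K ![a, b] := (LinearIndependent.pair_iff' ha).mpr hb
    have h1 : c (a + b) • (a + b) = c a • a + c b • b := by
      rw [hc, hc, hc, map_add]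
    have h2 : (c (a + b) - c a) • a + (c (a + b) - c b) • b = 0 := by
      rw [sub_smul, sub_smul, ← sub_eq_zero.mpr h1, smul_add]
      abel
    have h3 := LinearIndependent.pair_iff.mp hli _ _ h2
    rw [sub_eq_zero] at h3
    rw [← h3.1, ← sub_eq_zero.mp h3.2]
  have hall : ∀ a b : V, a ≠ 0 → b ≠ 0 → c a = c b := by
    intro a b ha hb
    by_cases hab : ∀ κ : K, κ • a ≠ b
    · exact hind a b ha hab
    · push Not at hab
      obtain ⟨μ, hμ⟩ := hab
      obtain ⟨w, hw⟩ := exists_not_smul hm a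
      have hμ0 : μ ≠ 0 := by
        rintro rfl
        rw [zero_smul] at hμ
        exact hb hμ.symm
      have hw' : ∀ κ : K, κ • b ≠ w := by
        intro κ hκ
        rw [← hμ, smul_smul] at hκ
        exact hw _ hκ
      rw [hind a w ha hw, hind b w hb hw']
  obtain ⟨a₀, ha₀⟩ : ∃ a₀ : V, a₀ ≠ 0 := by
    obtain ⟨w, hw⟩ := exists_not_smul (K := K) hm (0 : V)
    exact ⟨w, fun h0 => hw 0 (by rw [h0, smul_zero])⟩
  refine ⟨c a₀, fun v => ?_⟩
  by_cases hv : v = 0
  · rw [hv, map_zero, smul_zero]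
  · rw [← hc v, hall v a₀ hv ha₀]

/-- if `x` maps the `K`-line of every `a` into the `K`-line of `x a`, then `x` normalises `K` -/
theorem normK_of_map_kline (hm : 2 ≤ finrank K V) (x : V ≃ₗ[F] V)
    (h : ∀ (a : V) (κ : K), x (κ • a) ∈ kline F K (x a)) : NormK K x := by
  intro κ
  let φ : V →ₗ[F] V :=
    (x : V →ₗ[F] V) ∘ₗ ((LinearMap.lsmul K V κ).restrictScalars F) ∘ₗ (x.symm : V →ₗ[F] V)
  have hφ : ∀ w, φ w = x (κ • x.symm w) := fun w => rfl
  obtain ⟨κ', hκ'⟩ := exists_smul_of_forall_mem_kline (K := K) hm φ (by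
    intro w
    rw [hφ]
    have := h (x.symm w) κ
    rwa [LinearEquiv.apply_symm_apply] at this)
  refine ⟨κ', fun v => ?_⟩
  have := hκ' (x v)
  rwa [hφ, LinearEquiv.symm_apply_apply] at this

/-! ### prime degree -/

/-- an `F`-subspace of `K` stable under multiplication by some `ρ ∉ F` is `0` or `K` (`[K:F]` prime) -/
theorem eq_bot_or_eq_top_of_mul_mem (hr : (finrank F K).Prime) (D : Submodule F K) (ρ : K)
    (hρ : ρ ∉ Set.range (algebraMap F K)) (h : ∀ d ∈ D, ρ * d ∈ D) : D = ⊥ ∨ D = ⊤ := by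
  let S : Subalgebra F K :=
    { carrier := {κ | ∀ d ∈ D, κ * d ∈ D}
      mul_mem' := fun {a b} ha hb d hd => by
        rw [mul_assoc]; exact ha _ (hb d hd)
      add_mem' := fun {a b} ha hb d hd => by
        rw [add_mul]; exact D.add_mem (ha d hd) (hb d hd)
      algebraMap_mem' := fun c d hd => by
        rw [← Algebra.smul_def]; exact D.smul_mem c hd }
  have hρS : ρ ∈ S := h
  have hS : S = ⊤ := by
    rcases (Subalgebra.isSimpleOrder_of_finrank_prime F K hr).eq_bot_or_eq_top S with h0 | h0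
    · exfalso
      rw [h0] at hρS
      exact hρ (Algebra.mem_bot.mp hρS)
    · exact h0
  by_cases hD : D = ⊥
  · exact Or.inl hD
  · right
    obtain ⟨d, hd, hd0⟩ := (Submodule.ne_bot_iff D).mp hD
    rw [eq_top_iff]
    intro x _
    have hx : x * d⁻¹ ∈ S := by rw [hS]; exact Algebra.mem_top
    have := hx d hd
    rwa [mul_assoc, inv_mul_cancel₀ hd0, mul_one] at this

/-- a ring endomorphism-like fixed set: an `F`-subalgebra containing some `ρ ∉ F` is everything -/
theorem subalgebra_eq_top_of_mem (hr : (finrank F K).Prime) (S : Subalgebra F K) (ρ : K)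
    (hρ : ρ ∉ Set.range (algebraMap F K)) (hρS : ρ ∈ S) : S = ⊤ := by
  rcases (Subalgebra.isSimpleOrder_of_finrank_prime F K hr).eq_bot_or_eq_top S with h0 | h0
  · exfalso
    rw [h0] at hρS
    exact hρ (Algebra.mem_bot.mp hρS)
  · exact h0

end Cfsg.Agent.Lib.H1.C3Max
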