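import Cfsg.Agent.Lib.H1.C3MaxDefs

set_option autoImplicit false

namespace Cfsg.Agent.Lib.H1.C3Max

open Module

variable {F K : Type*} [Field F] [Field K] [Algebra F K]

/-- norm-one elements move any nonzero vector out of any proper `F`-subspace -/
theorem exists_norm_one_mul_notMem [Finite F] [Module.Finite F K] (D : Submodule F K)
    (hD : D ≠ ⊤) (y : K) (hy : y ≠ 0) :
    ∃ α : K, Algebra.norm F α = 1 ∧ α * y ∉ D := by
  classical
  have : Finite K := Module.finite_of_finite F
  by_contra hcon
  push Not at hcon
  -- the norm homomorphism on units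
  let N : Kˣ →* Fˣ := Units.map (Algebra.norm F : K →* F)
  have hker : ∀ u : Kˣ, u ∈ N.ker → (u : K) * y ∈ D := by
    intro u hu
    apply hcon
    have := congrArg (fun z : Fˣ => (z : F)) (MonoidHom.mem_ker.mp hu)
    simpa [N] using this
  set q := Nat.card F with hq
  set Q := Nat.card K with hQ
  set d := Nat.card D with hd
  have hq2 : 2 ≤ q := Finite.one_lt_card
  have hd1 : 1 ≤ d := Nat.card_pos
  -- |ker| * |range| = Q - 1
  have h1 : Nat.card N.ker * N.ker.index = Nat.card Kˣ := Subgroup.card_mul_index _
  have h2 : N.ker.index = Nat.card N.range := Subgroup.index_ker N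
  have h3 : Nat.card N.range ≤ Nat.card Fˣ := Nat.card_le_card_of_injective _ Subtype.val_injective
  have h4 : Nat.card Kˣ = Q - 1 := Nat.card_units K
  have h5 : Nat.card Fˣ = q - 1 := Nat.card_units F
  -- |ker| ≤ d - 1
  have h6 : Nat.card N.ker + 1 ≤ d := by
    let ψ : Option N.ker → D := fun o => match o with
      | none => 0
      | some u => ⟨(u.1 : K) * y, hker u.1 u.2⟩
    have hψ : Function.Injective ψ := by
      intro o o' h
      cases o with
      | none =>
        cases o' with
        | none => rfl
        | some u' =>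
          exfalso
          have : (0 : K) = (u'.1 : K) * y := congrArg Subtype.val h
          exact mul_ne_zero (Units.ne_zero _) hy this.symm
      | some u =>
        cases o' with
        | none =>
          exfalso
          have : (u.1 : K) * y = 0 := congrArg Subtype.val h
          exact mul_ne_zero (Units.ne_zero _) hy this
        | some u' =>
          have : (u.1 : K) * y = (u'.1 : K) * y := congrArg Subtype.val h
          have h' := mul_right_cancel₀ hy this
          congr 1
          exact Subtype.ext (Units.ext h')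
    have hle := Nat.card_le_card_of_injective ψ hψ
    letI : Fintype N.ker := Fintype.ofFinite _
    rw [Nat.card_eq_fintype_card (α := Option N.ker), Fintype.card_option,
      ← Nat.card_eq_fintype_card] at hle
    exact hle
  -- d * q ≤ Q
  have h7 : d * q ≤ Q := by
    have hc := Submodule.card_eq_card_quotient_mul_card D
    obtain ⟨z, hz⟩ : ∃ z : K ⧸ D, z ≠ 0 := by
      by_contra h
      push Not at h
      apply hD
      rw [eq_top_iff]
      intro x _
      have := h (Submodule.Quotient.mk x)
      rwa [Submodule.Quotient.mk_eq_zero] at this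
    have hinj : Function.Injective (fun c : F => c • z) := by
      intro c c' h
      by_contra hne
      have : (c - c') • z = 0 := by rw [sub_smul, sub_eq_zero]; exact h
      rcases smul_eq_zero.mp this with h0 | h0
      · exact hne (sub_eq_zero.mp h0)
      · exact hz h0
    have : Finite (K ⧸ D) := Quotient.finite _
    have := Nat.card_le_card_of_injective _ hinj
    rw [hQ, hc, hd, hq]
    exact Nat.mul_le_mul_left _ this
  have h7' : d * q ≤ Q := h7
  have hQ1 : 1 ≤ Q := Nat.card_pos
  rw [h2] at h1
  -- arithmetic
  have h8 : Q - 1 ≤ Nat.card N.ker * (q - 1) := by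
    rw [← h4, ← h1, ← h5]
    exact Nat.mul_le_mul_left _ h3
  have h9 : Nat.card N.ker * (q - 1) ≤ (d - 1) * (q - 1) := by
    apply Nat.mul_le_mul_right
    omega
  have h10 : Q - 1 ≤ (d - 1) * (q - 1) := le_trans h8 h9
  clear_value d q Q
  obtain ⟨d', rfl⟩ : ∃ d', d = d' + 1 := ⟨d - 1, by omega⟩
  obtain ⟨q', rfl⟩ : ∃ q', q = q' + 2 := ⟨q - 2, by omega⟩
  have e1 : d' + 1 - 1 = d' := by omega
  have e2 : (q' + 2 - 1) = q' + 1 := by omega
  rw [e1, e2] at h10
  have hQ' : (d' + 1) * (q' + 2) ≤ Q := h7
  have h11 : (d' + 1) * (q' + 2) - 1 ≤ d' * (q' + 1) := le_trans (Nat.sub_le_sub_right hQ' 1) h10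
  have h12 : (d' + 1) * (q' + 2) = d' * (q' + 1) + d' + q' + 2 := by ring
  omega

end Cfsg.Agent.Lib.H1.C3Max
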