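import Cfsg.Agent.Lib.H1.C3MaxAscent
import Cfsg.Agent.Lib.H1.C3MaxNorm

/-!
# S5886: from the ascent pair to an `F`-transvection
-/

set_option autoImplicit false

namespace Cfsg.Agent.Lib.H1.C3Max

open Module

variable {F K V : Type*} [Field F] [Field K] [Algebra F K] [AddCommGroup V] [Module F V]
  [Module K V] [IsScalarTower F K V]

/-- an `F`-linear retraction of `F → K` -/
theorem exists_retraction : ∃ ρ : K →ₗ[F] F, ρ 1 = 1 := by
  have hli : LinearIndependent F ![(1 : K)] :=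
    (linearIndependent_unique_iff (R := F) (v := ![(1 : K)])).mpr (by simp)
  obtain ⟨ρ, hρ⟩ := exists_dual_eq (K := F) (V := K) ![(1 : K)] hli ![(1 : F)]
  exact ⟨ρ, by simpa using hρ 0⟩

/-- a hyperplane `D` of `L` and a vector outside: `L = D + F a` -/
theorem exists_decomp (D L : Submodule F V) [Module.Finite F ↥L] (hDL : D ≤ L)
    (hfr : finrank F ↥D + 1 = finrank F ↥L) (a : V) (haL : a ∈ L) (haD : a ∉ D) :
    ∀ y ∈ L, ∃ d ∈ D, ∃ c : F, y = d + c • a := by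
  have hle : D ⊔ Submodule.span F {a} ≤ L :=
    sup_le hDL ((Submodule.span_singleton_le_iff_mem a L).mpr haL)
  have hlt : D < D ⊔ Submodule.span F {a} := by
    apply lt_of_le_of_ne le_sup_left
    intro h
    apply haD
    rw [h]
    exact Submodule.mem_sup_right (Submodule.mem_span_singleton_self a)
  have hfin : Module.Finite F ↥(D ⊔ Submodule.span F {a}) :=
    Module.Finite.of_injective (Submodule.inclusion hle) (Submodule.inclusion_injective _)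
  have h1 : finrank F ↥D < finrank F ↥(D ⊔ Submodule.span F {a}) :=
    Submodule.finrank_lt_finrank_of_lt hlt
  have h2 : finrank F ↥(D ⊔ Submodule.span F {a}) ≤ finrank F ↥L := Submodule.finrank_mono hle
  have heq : D ⊔ Submodule.span F {a} = L :=
    Submodule.eq_of_le_of_finrank_eq hle (by omega)
  intro y hy
  rw [← heq] at hy
  obtain ⟨d, hd, z, hz, rfl⟩ := Submodule.mem_sup.mp hy
  obtain ⟨c, rfl⟩ := Submodule.mem_span_singleton.mp hz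
  exact ⟨d, hd, c, rfl⟩

/-- **Core**: the commutator of a `K`-transvection with centre `b` and a unipotent `1 + Q` with
`Q (L') = 0`, `Q V ≤ L'`, `Q (K b) = 0` is an `F`-transvection with centre `b`. -/
theorem exists_tv_of_core (X : Subgroup (V ≃ₗ[F] V)) (hD : HasD K X) (b : V) (hb : b ≠ 0)
    (L' : Submodule F V) (e' : V) (he' : ∀ κ : K, κ • b ≠ e')
    (hL' : ∀ y ∈ L', ∃ d ∈ kline F K b, ∃ c : F, y = d + c • e')
    (Q : V →ₗ[F] V) (hQL' : ∀ y ∈ L', Q y = 0) (hQim : ∀ v, Q v ∈ L')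
    (hQL : ∀ κ : K, Q (κ • b) = 0) (hQne : ∃ w, Q w ∉ kline F K b)
    (eQ : V ≃ₗ[F] V) (heQ : ∀ v, eQ v = v + Q v) (heQX : eQ ∈ X) :
    ∃ (φ : Dual F V) (e : V ≃ₗ[F] V), φ ≠ 0 ∧ (∀ κ : K, φ (κ • b) = 0) ∧
      (∀ v, e v = v + φ v • b) ∧ e ∈ X := by
  obtain ⟨f, hfb, hfe'⟩ := exists_dual_pair hb he' 0 1
  obtain ⟨ρ, hρ⟩ := exists_retraction (F := F) (K := K)
  -- f on L' takes values in F
  have hfL' : ∀ y ∈ L', ∃ c : F, f y = algebraMap F K c ∧ (c = 0 → y ∈ kline F K b) := by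
    intro y hy
    obtain ⟨d, hd, c, rfl⟩ := hL' y hy
    obtain ⟨κ, rfl⟩ := mem_kline.mp hd
    refine ⟨c, ?_, ?_⟩
    · rw [map_add, map_smul, hfb, smul_zero, zero_add, ← algebraMap_smul K c e', map_smul, hfe',
        smul_eq_mul, mul_one]
    · rintro rfl
      rw [zero_smul, add_zero]
      exact smul_mem_kline b κ
  have hQQ : ∀ v, Q (Q v) = 0 := fun v => hQL' _ (hQim v)
  have heQinv : ∀ v, eQ⁻¹ v = v - Q v := by
    intro v
    rw [LinearEquiv.coe_inv, LinearEquiv.symm_apply_eq, heQ, map_sub, hQQ]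
    abel
  set u := ktv F hfb with hu
  have huX : u ∈ X := ktv_mem hD hfb
  let φ : Dual F V := ρ ∘ₗ (f.restrictScalars F) ∘ₗ Q
  have hφ : ∀ v, φ v = ρ (f (Q v)) := fun v => rfl
  have hφf : ∀ v, f (Q v) = algebraMap F K (φ v) := by
    intro v
    obtain ⟨c, hc, -⟩ := hfL' (Q v) (hQim v)
    rw [hφ, hc, Algebra.algebraMap_eq_smul_one, map_smul, hρ, smul_eq_mul, mul_one]
    exact (Algebra.algebraMap_eq_smul_one c).symm
  have hcomm : ∀ v, (u * eQ * u⁻¹ * eQ⁻¹) v = v + φ v • b := by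
    intro v
    have e2 : u⁻¹ (v - Q v) = (v - Q v) - f (v - Q v) • b := by rw [hu, ktv_inv_apply]
    have e3 : eQ ((v - Q v) - f (v - Q v) • b) = (v - Q v) - f (v - Q v) • b + Q v := by
      rw [heQ]
      congr 1
      rw [map_sub, map_sub, hQQ, hQL, sub_zero, sub_zero]
    have e4 : u ((v - Q v) - f (v - Q v) • b + Q v) =
        ((v - Q v) - f (v - Q v) • b + Q v) + f ((v - Q v) - f (v - Q v) • b + Q v) • b := by
      rw [hu, ktv_apply]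
    have e5 : f ((v - Q v) - f (v - Q v) • b + Q v) = f v := by
      rw [map_add, map_sub, map_sub, map_smul, hfb, smul_zero, sub_zero]
      ring
    have e6 : f (Q v) • b = φ v • b := by rw [hφf, algebraMap_smul]
    rw [LinearEquiv.mul_apply, LinearEquiv.mul_apply, LinearEquiv.mul_apply, heQinv, e2, e3, e4,
      e5, map_sub, sub_smul, e6]
    abel
  refine ⟨φ, u * eQ * u⁻¹ * eQ⁻¹, ?_, ?_, hcomm,
    X.mul_mem (X.mul_mem (X.mul_mem huX heQX) (X.inv_mem huX)) (X.inv_mem heQX)⟩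
  · obtain ⟨w, hw⟩ := hQne
    intro h0
    apply hw
    obtain ⟨c, hc, hc0⟩ := hfL' (Q w) (hQim w)
    apply hc0
    have h1 : algebraMap F K c = algebraMap F K (φ w) := by rw [← hc, hφf]
    rw [h0, LinearMap.zero_apply, map_zero] at h1
    exact (algebraMap F K).injective (by rw [h1, map_zero])
  · intro κ
    rw [hφ, hQL, map_zero, map_zero]

section

variable [Module.Finite F K]

/-- transport: a unipotent `1 + Q₁` at the `K`-line `K a₁` gives the core data at `L' = g (K a₁)` -/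
theorem exists_tv_of_transport (X : Subgroup (V ≃ₗ[F] V)) (hD : HasD K X)
    (b a₁ : V) (g : V ≃ₗ[F] V) (hg : g ∈ X) (hb : b ≠ 0) (ha₁ : a₁ ≠ 0)
    (hbL : b ∈ (kline F K a₁).map (g : V →ₗ[F] V))
    (hne : (kline F K a₁).map (g : V →ₗ[F] V) ≠ kline F K b)
    (hdim : finrank F ↥(kline F K b ⊓ (kline F K a₁).map (g : V →ₗ[F] V)) + 1 = finrank F K)
    (a : V) (haL : a ∈ kline F K b) (haL' : a ∉ (kline F K a₁).map (g : V →ₗ[F] V))
    (Q₁ : V →ₗ[F] V) (e₁ : V ≃ₗ[F] V) (he₁X : e₁ ∈ X) (he₁ : ∀ v, e₁ v = v + Q₁ v)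
    (hQ₁k : ∀ κ : K, Q₁ (κ • a₁) = 0) (hQ₁im : ∀ v, Q₁ v ∈ kline F K a₁)
    (hQ₁a : Q₁ (g⁻¹ a) = 0) (hQ₁ne : ∃ w, g (Q₁ w) ∉ kline F K b) :
    ∃ (φ : Dual F V) (e : V ≃ₗ[F] V), φ ≠ 0 ∧ (∀ κ : K, φ (κ • b) = 0) ∧
      (∀ v, e v = v + φ v • b) ∧ e ∈ X := by
  set L := kline F K b with hL
  set L' := (kline F K a₁).map (g : V →ₗ[F] V) with hL'
  have hrL : finrank F ↥L = finrank F K := finrank_kline hb
  have hrL' : finrank F ↥L' = finrank F K := by rw [hL', finrank_map_equiv, finrank_kline ha₁]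
  -- e' ∈ L' \ L
  have hnle : ¬ L' ≤ L := fun hle =>
    hne (Submodule.eq_of_le_of_finrank_eq hle (by rw [hrL, hrL']))
  obtain ⟨e', he'L', he'L⟩ := SetLike.not_le_iff_exists.mp hnle
  have he' : ∀ κ : K, κ • b ≠ e' := fun κ h => he'L (h ▸ smul_mem_kline b κ)
  have hdecL' := exists_decomp (L ⊓ L') L' inf_le_right (by rw [hdim, hrL']) e' he'L'
    (fun h => he'L h.1)
  have hdecL := exists_decomp (L ⊓ L') L inf_le_left (by rw [hdim, hrL]) a haL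
    (fun h => haL' h.2)
  -- the conjugated map
  let Q : V →ₗ[F] V := (g : V →ₗ[F] V) ∘ₗ Q₁ ∘ₗ ((g⁻¹ : V ≃ₗ[F] V) : V →ₗ[F] V)
  have hQ : ∀ v, Q v = g (Q₁ (g⁻¹ v)) := fun v => rfl
  have hgg : ∀ v, g (g⁻¹ v) = v := fun v => g.apply_symm_apply v
  have hgg' : ∀ v, g⁻¹ (g v) = v := fun v => g.symm_apply_apply v
  have hQL' : ∀ y ∈ L', Q y = 0 := by
    intro y hy
    obtain ⟨κ, hκ⟩ := mem_kline.mp (mem_map_equiv.mp hy)
    rw [hQ, ← hκ, hQ₁k, map_zero]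
  have hQim : ∀ v, Q v ∈ L' := fun v => apply_mem_map_equiv (hQ₁im _)
  have hQL : ∀ κ : K, Q (κ • b) = 0 := by
    intro κ
    obtain ⟨d, hd, c, hc⟩ := hdecL (κ • b) (smul_mem_kline b κ)
    rw [hc, map_add, map_smul, hQL' d hd.2, hQ, hQ₁a, map_zero, smul_zero, add_zero]
  have hQne : ∃ w, Q w ∉ kline F K b := by
    obtain ⟨w, hw⟩ := hQ₁ne
    refine ⟨g w, ?_⟩
    rw [hQ, hgg']
    exact hw
  refine exists_tv_of_core X hD b hb L' e' he' ?_ Q hQL' hQim hQL hQne (g * e₁ * g⁻¹) ?_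
    (X.mul_mem (X.mul_mem hg he₁X) (X.inv_mem hg))
  · intro y hy
    obtain ⟨d, hd, c, hc⟩ := hdecL' y hy
    exact ⟨d, hd.1, c, hc⟩
  · intro v
    rw [LinearEquiv.mul_apply, LinearEquiv.mul_apply, he₁, map_add, hgg, hQ]

/-- `dim_K V ≥ 3`: an `F`-transvection from the ascent pair -/
theorem exists_tv_of_three (hm : 3 ≤ finrank K V) (X : Subgroup (V ≃ₗ[F] V)) (hD : HasD K X)
    (b a₁ : V) (g : V ≃ₗ[F] V) (hg : g ∈ X) (hb : b ≠ 0) (ha₁ : a₁ ≠ 0)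
    (hbL : b ∈ (kline F K a₁).map (g : V →ₗ[F] V))
    (hne : (kline F K a₁).map (g : V →ₗ[F] V) ≠ kline F K b)
    (hdim : finrank F ↥(kline F K b ⊓ (kline F K a₁).map (g : V →ₗ[F] V)) + 1 = finrank F K) :
    ∃ (φ : Dual F V) (e : V ≃ₗ[F] V), φ ≠ 0 ∧ (∀ κ : K, φ (κ • b) = 0) ∧
      (∀ v, e v = v + φ v • b) ∧ e ∈ X := by
  set L := kline F K b with hL
  set L' := (kline F K a₁).map (g : V →ₗ[F] V) with hL'
  have hrL : finrank F ↥L = finrank F K := finrank_kline hb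
  have hrL' : finrank F ↥L' = finrank F K := by rw [hL', finrank_map_equiv, finrank_kline ha₁]
  have hnle : ¬ L ≤ L' := fun hle =>
    hne (Submodule.eq_of_le_of_finrank_eq hle (by rw [hrL, hrL'])).symm
  obtain ⟨a, haL, haL'⟩ := SetLike.not_le_iff_exists.mp hnle
  have hnle' : ¬ L' ≤ L := fun hle =>
    hne (Submodule.eq_of_le_of_finrank_eq hle (by rw [hrL, hrL']))
  obtain ⟨e', he'L', he'L⟩ := SetLike.not_le_iff_exists.mp hnle'
  -- a' = g⁻¹ a is not in K a₁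
  have ha' : ∀ κ : K, κ • a₁ ≠ g⁻¹ a := by
    intro κ h
    apply haL'
    rw [hL', mem_map_equiv, ← h]
    exact smul_mem_kline a₁ κ
  obtain ⟨w₀, hw₀⟩ := exists_not_smul_add hm a₁ (g⁻¹ a)
  obtain ⟨f₁, hf₁a, hf₁a', hf₁w⟩ := exists_dual_triple ha₁ ha' hw₀ 0 0 1
  -- e' = g (κ' a₁)
  obtain ⟨κ', hκ'⟩ := mem_kline.mp (mem_map_equiv.mp he'L')
  let Q₁ : V →ₗ[F] V := (f₁.smulRight a₁).restrictScalars F
  have hQ₁ : ∀ v, Q₁ v = f₁ v • a₁ := fun v => rfl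
  refine exists_tv_of_transport X hD b a₁ g hg hb ha₁ hbL hne hdim a haL haL' Q₁ (ktv F hf₁a)
    (ktv_mem hD hf₁a) (fun v => by rw [ktv_apply, hQ₁]) ?_ ?_ ?_ ?_
  · intro κ
    rw [hQ₁, map_smul, hf₁a, smul_zero, zero_smul]
  · intro v
    rw [hQ₁]
    exact smul_mem_kline a₁ _
  · rw [hQ₁, hf₁a', zero_smul]
  · refine ⟨κ' • w₀, ?_⟩
    have h1 : f₁ (κ' • w₀) = κ' := by rw [map_smul, hf₁w, smul_eq_mul, mul_one]
    rw [hQ₁, h1, hκ']
    have h2 : g (g⁻¹ e') = e' := g.apply_symm_apply e'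
    rw [h2]
    exact he'L

/-- `dim_K V = 2`: an `F`-transvection from the ascent pair and a non-`K`-linear unipotent at `K a₁` -/
theorem exists_tv_of_two [Finite F] (X : Subgroup (V ≃ₗ[F] V)) (hD : HasD K X)
    (b a₁ : V) (g : V ≃ₗ[F] V) (hg : g ∈ X) (hb : b ≠ 0) (ha₁ : a₁ ≠ 0)
    (hbL : b ∈ (kline F K a₁).map (g : V →ₗ[F] V))
    (hne : (kline F K a₁).map (g : V →ₗ[F] V) ≠ kline F K b)
    (hdim : finrank F ↥(kline F K b ⊓ (kline F K a₁).map (g : V →ₗ[F] V)) + 1 = finrank F K)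
    (Q₁ : V →ₗ[F] V) (e₁ : V ≃ₗ[F] V) (he₁X : e₁ ∈ X) (he₁ : ∀ v, e₁ v = v + Q₁ v)
    (hQ₁k : ∀ κ : K, Q₁ (κ • a₁) = 0) (hQ₁im : ∀ v, Q₁ v ∈ kline F K a₁)
    (hQ₁n : ¬ ∀ (κ : K) (v : V), Q₁ (κ • v) = κ • Q₁ v) :
    ∃ (φ : Dual F V) (e : V ≃ₗ[F] V), φ ≠ 0 ∧ (∀ κ : K, φ (κ • b) = 0) ∧
      (∀ v, e v = v + φ v • b) ∧ e ∈ X := by
  set L := kline F K b with hL
  set L' := (kline F K a₁).map (g : V →ₗ[F] V) with hL'
  have hrL : finrank F ↥L = finrank F K := finrank_kline hb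
  have hrL' : finrank F ↥L' = finrank F K := by rw [hL', finrank_map_equiv, finrank_kline ha₁]
  have hnle : ¬ L ≤ L' := fun hle =>
    hne (Submodule.eq_of_le_of_finrank_eq hle (by rw [hrL, hrL'])).symm
  obtain ⟨a, haL, haL'⟩ := SetLike.not_le_iff_exists.mp hnle
  have hnle' : ¬ L' ≤ L := fun hle =>
    hne (Submodule.eq_of_le_of_finrank_eq hle (by rw [hrL, hrL']))
  have ha' : ∀ κ : K, κ • a₁ ≠ g⁻¹ a := by
    intro κ h
    apply haL'
    rw [hL', mem_map_equiv, ← h]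
    exact smul_mem_kline a₁ κ
  -- (ii) subtract the K-linear part at a'
  obtain ⟨κ₁, hκ₁⟩ := mem_kline.mp (hQ₁im (g⁻¹ a))
  obtain ⟨f₁, hf₁a, hf₁a'⟩ := exists_dual_pair ha₁ ha' 0 κ₁
  let N₁ : V →ₗ[F] V := (f₁.smulRight a₁).restrictScalars F
  have hN₁ : ∀ v, N₁ v = f₁ v • a₁ := fun v => rfl
  let Q₂ : V →ₗ[F] V := Q₁ - N₁
  have hQ₂ : ∀ v, Q₂ v = Q₁ v - f₁ v • a₁ := fun v => rfl
  have hQ₂k : ∀ κ : K, Q₂ (κ • a₁) = 0 := by
    intro κ
    rw [hQ₂, hQ₁k, map_smul, hf₁a, smul_zero, zero_smul, sub_zero]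
  have hQ₂im : ∀ v, Q₂ v ∈ kline F K a₁ := fun v =>
    (kline F K a₁).sub_mem (hQ₁im v) (smul_mem_kline a₁ _)
  have hQ₂a : Q₂ (g⁻¹ a) = 0 := by rw [hQ₂, hf₁a', hκ₁, sub_self]
  have hQ₂ne : ∃ w, Q₂ w ≠ 0 := by
    by_contra hcon
    push Not at hcon
    apply hQ₁n
    intro κ v
    have h1 := hcon (κ • v)
    have h2 := hcon v
    rw [hQ₂, sub_eq_zero] at h1 h2
    rw [h1, h2, map_smul, smul_eq_mul, mul_smul]
  set e₂ := e₁ * (ktv F hf₁a)⁻¹ with he₂def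
  have he₂X : e₂ ∈ X := X.mul_mem he₁X (X.inv_mem (ktv_mem hD hf₁a))
  have he₂ : ∀ v, e₂ v = v + Q₂ v := by
    intro v
    rw [he₂def, LinearEquiv.mul_apply, ktv_inv_apply, he₁, map_sub, hQ₁k, sub_zero, hQ₂]
    abel
  -- (iii) twist by a norm-one homology
  obtain ⟨w, hw⟩ := hQ₂ne
  obtain ⟨κy, hκy⟩ := mem_kline.mp (hQ₂im w)
  have hκy0 : κy ≠ 0 := by
    rintro rfl
    rw [zero_smul] at hκy
    exact hw hκy.symm
  let ψ : K →ₗ[F] V := (g : V →ₗ[F] V) ∘ₗ (LinearMap.toSpanSingleton K V a₁).restrictScalars F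
  have hψ : ∀ κ, ψ κ = g (κ • a₁) := fun κ => rfl
  have hDD : L.comap ψ ≠ ⊤ := by
    intro h
    apply hnle'
    intro y hy
    obtain ⟨κ, hκ⟩ := mem_kline.mp (mem_map_equiv.mp hy)
    have : κ ∈ L.comap ψ := by rw [h]; exact Submodule.mem_top
    rw [Submodule.mem_comap, hψ, hκ] at this
    have h2 : g (g⁻¹ y) = y := g.apply_symm_apply y
    rwa [h2] at this
  obtain ⟨α, hα, hαy⟩ := exists_norm_one_mul_notMem (L.comap ψ) hDD κy hκy0
  have hα0 : α ≠ 0 := by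
    rintro rfl
    apply hαy
    rw [zero_mul]
    exact Submodule.zero_mem _
  obtain ⟨fα, hfαa, hfαa'⟩ := exists_dual_pair ha₁ ha' (α - 1) 0
  have hunit : IsUnit (1 + fα a₁) := by
    rw [hfαa, add_sub_cancel]
    exact isUnit_iff_ne_zero.mpr hα0
  set eα : V ≃ₗ[F] V := (LinearEquiv.dilatransvection hunit).restrictScalars F with heαdef
  have heα : ∀ x, eα x = x + fα x • a₁ := fun x =>
    LinearEquiv.dilatransvection.apply (h := hunit)
  have heαX : eα ∈ X := hD fα a₁ eα heα (by rw [hfαa, add_sub_cancel, hα])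
  -- eα⁻¹ v ≡ v mod K a₁
  have heαinv : ∀ v, ∃ κ : K, eα⁻¹ v = v + κ • a₁ := by
    intro v
    refine ⟨-(fα (eα⁻¹ v)), ?_⟩
    have h1 : eα (eα⁻¹ v) = v := eα.apply_symm_apply v
    rw [heα] at h1
    rw [neg_smul, ← sub_eq_add_neg, eq_sub_iff_add_eq]
    exact h1
  let Q₃ : V →ₗ[F] V := ((LinearMap.lsmul K V α).restrictScalars F) ∘ₗ Q₂
  have hQ₃ : ∀ v, Q₃ v = α • Q₂ v := fun v => rfl
  set e₃ := eα * e₂ * eα⁻¹ with he₃def
  have he₃X : e₃ ∈ X := X.mul_mem (X.mul_mem heαX he₂X) (X.inv_mem heαX)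
  have he₃ : ∀ v, e₃ v = v + Q₃ v := by
    intro v
    obtain ⟨κ, hκ⟩ := heαinv v
    have h1 : Q₂ (eα⁻¹ v) = Q₂ v := by rw [hκ, map_add, hQ₂k, add_zero]
    obtain ⟨μ, hμ⟩ := mem_kline.mp (hQ₂im v)
    rw [he₃def, LinearEquiv.mul_apply, LinearEquiv.mul_apply, he₂, map_add, h1]
    have h2 : eα (eα⁻¹ v) = v := eα.apply_symm_apply v
    rw [h2, hQ₃, ← hμ, heα, map_smul, hfαa, smul_eq_mul, ← add_smul, smul_smul]
    congr 2
    ring
  refine exists_tv_of_transport X hD b a₁ g hg hb ha₁ hbL hne hdim a haL haL' Q₃ e₃ he₃X he₃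
    ?_ ?_ ?_ ?_
  · intro κ
    rw [hQ₃, hQ₂k, smul_zero]
  · intro v
    rw [hQ₃]
    obtain ⟨μ, hμ⟩ := mem_kline.mp (hQ₂im v)
    rw [← hμ, smul_smul]
    exact smul_mem_kline a₁ _
  · rw [hQ₃, hQ₂a, smul_zero]
  · refine ⟨w, ?_⟩
    rw [hQ₃, ← hκy, smul_smul]
    exact hαy

end

end Cfsg.Agent.Lib.H1.C3Max
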