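import Mathlib

/-!
# Maximality of the extension-field normaliser (S5886): abstract setting

`F ⊆ K` fields, `V` a `K`-vector space, viewed as an `F`-space.  The group is `V ≃ₗ[F] V`.
-/

set_option autoImplicit false

namespace Cfsg.Agent.Lib.H1.C3Max

open Module

variable (F K : Type*) {V : Type*} [Field F] [Field K] [Algebra F K] [AddCommGroup V] [Module F V]
  [Module K V] [IsScalarTower F K V]

/-- the `K`-line through `a`, as an `F`-subspace -/
def kline (a : V) : Submodule F V := (Submodule.span K {a}).restrictScalars F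

variable {F K}

theorem mem_kline {a v : V} : v ∈ kline F K a ↔ ∃ κ : K, κ • a = v := by
  unfold kline
  rw [Submodule.restrictScalars_mem, Submodule.mem_span_singleton]

theorem smul_mem_kline (a : V) (κ : K) : κ • a ∈ kline F K a := mem_kline.mpr ⟨κ, rfl⟩

theorem self_mem_kline (a : V) : a ∈ kline F K a := mem_kline.mpr ⟨1, one_smul _ _⟩

variable (K)

/-- `x` normalises the field of `K`-scalars -/
def NormK (x : V ≃ₗ[F] V) : Prop := ∀ κ : K, ∃ κ' : K, ∀ v, x (κ • v) = κ' • x v

/-- `X` contains every `K`-linear dilatransvection `x ↦ x + f x • v` of `F`-determinant one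
(i.e. with `N_{K/F}(1 + f v) = 1`); for `f v = 0` these are the `K`-transvections. -/
def HasD (X : Subgroup (V ≃ₗ[F] V)) : Prop :=
  ∀ (f : Dual K V) (v : V) (e : V ≃ₗ[F] V), (∀ x, e x = x + f x • v) →
    Algebra.norm F (1 + f v) = 1 → e ∈ X

variable {K}

/-- `X` contains every `F`-transvection -/
def HasTv (X : Subgroup (V ≃ₗ[F] V)) : Prop :=
  ∀ (φ : Dual F V) (b : V) (e : V ≃ₗ[F] V), φ b = 0 → (∀ v, e v = v + φ v • b) → e ∈ X

end Cfsg.Agent.Lib.H1.C3Max
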