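import Cfsg.Agent.Lib.H1.C3MaxCore
import Cfsg.Agent.Lib.H2.C3MaxP2
import Cfsg.Agent.Lib.H29.C3MaxP3

/-!
# S5886: the main theorem in the abstract setting

A subgroup `X` of `GL_F(V)` that contains the norm-one `K`-dilatransvections and an element that does
not normalise `K` contains every `F`-transvection (except when `dim_K V = 2`, `[K : F] = 2`, `|F| = 2`).
-/

set_option autoImplicit false

namespace Cfsg.Agent.Lib.H1.C3Max

open Module

variable {F K V : Type*} [Field F] [Field K] [Algebra F K] [AddCommGroup V] [Module F V]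
  [Module K V] [IsScalarTower F K V]

/-- **S5886-MAIN** -/
theorem hasTv_of_not_normK [Finite F] [Module.Finite F K] [Module.Finite K V]
    (hr : (finrank F K).Prime) (hm : 2 ≤ finrank K V)
    (hne : ¬ (finrank K V = 2 ∧ finrank F K = 2 ∧ Nat.card F = 2))
    (X : Subgroup (V ≃ₗ[F] V)) (hD : HasD K X)
    (x : V ≃ₗ[F] V) (hx : x ∈ X) (hxN : ¬ NormK K x) : HasTv X := by
  obtain ⟨b, a₁, g, hg, hb, ha₁, hbL, hneL, hdim⟩ := ascent hr hm X hD x hx hxN
  have key : ∃ (φ : Dual F V) (e : V ≃ₗ[F] V), φ ≠ 0 ∧ (∀ κ : K, φ (κ • b) = 0) ∧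
      (∀ v, e v = v + φ v • b) ∧ e ∈ X := by
    rcases Nat.lt_or_ge 2 (finrank K V) with h3 | h2
    · exact exists_tv_of_three h3 X hD b a₁ g hg hb ha₁ hbL hneL hdim
    · have hm2 : finrank K V = 2 := le_antisymm h2 hm
      have hne2 : ¬ (finrank F K = 2 ∧ Nat.card F = 2) := fun h => hne ⟨hm2, h⟩
      obtain ⟨Q₁, e₁, he₁X, he₁, hQ₁k, hQ₁im, hQ₁n⟩ :=
        Cfsg.Agent.Lib.H2.C3Max.exists_not_klinear hr hm2 hne2 X hD b a₁ g hg hb ha₁ hbL hneL hdim
      exact exists_tv_of_two X hD b a₁ g hg hb ha₁ hbL hneL hdim Q₁ e₁ he₁X he₁ hQ₁k hQ₁im hQ₁n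
  obtain ⟨φ, e, hφ, hφL, he, heX⟩ := key
  exact Cfsg.Agent.Lib.H29.C3Max.hasTv_of_tv hm X hD b a₁ g hg hb ha₁ hbL hneL φ hφ hφL e he heX

end Cfsg.Agent.Lib.H1.C3Max
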