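import Mathlib

set_option autoImplicit false

/-!
# Commutator calculus in a central extension

For a surjective homomorphism `π : E →* S` with central kernel, the commutator `⁅a, b⁆` of two elements of `E`
depends only on `π a`, `π b`; this gives the bracket `br x y` of two elements of `S`, with values in `E`.
-/

namespace Cfsg.Agent.Lib.H1.CExt

open scoped commutatorElement

variable {E S : Type*} [Group E] [Group S]

/-- `π : E →* S` is a central extension -/
structure IsCE (π : E →* S) : Prop where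
  surj : Function.Surjective π
  cen : π.ker ≤ Subgroup.center E

theorem comm_central {z w : E} (hz : z ∈ Subgroup.center E) (hw : w ∈ Subgroup.center E) (x y : E) :
    ⁅x * z, y * w⁆ = ⁅x, y⁆ := by
  rw [Subgroup.mem_center_iff] at hz hw
  simp only [commutatorElement_def, _root_.mul_inv_rev]
  have e1 : x * z * (y * w) * (z⁻¹ * x⁻¹) * (w⁻¹ * y⁻¹) = x * (z * (y * w)) * z⁻¹ * x⁻¹ * w⁻¹ * y⁻¹ := by group
  rw [e1, ← hz (y * w)]
  have e2 : x * (y * w * z) * z⁻¹ * x⁻¹ * w⁻¹ * y⁻¹ = x * y * (w * x⁻¹) * w⁻¹ * y⁻¹ := by group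
  rw [e2, ← hw x⁻¹]
  group

variable {π : E →* S}

/-- a chosen lift -/
noncomputable def lift (h : IsCE π) (x : S) : E := Classical.choose (h.surj x)

@[simp] theorem π_lift (h : IsCE π) (x : S) : π (lift h x) = x := Classical.choose_spec (h.surj x)

theorem eq_lift_mul (h : IsCE π) {a : E} {x : S} (ha : π a = x) :
    ∃ z ∈ Subgroup.center E, a = lift h x * z := by
  refine ⟨(lift h x)⁻¹ * a, h.cen ?_, by group⟩
  rw [MonoidHom.mem_ker, map_mul, map_inv, π_lift, ha, inv_mul_cancel]

/-- the bracket of two elements of `S`, in `E` -/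
noncomputable def br (h : IsCE π) (x y : S) : E := ⁅lift h x, lift h y⁆

theorem br_eq (h : IsCE π) {a b : E} {x y : S} (ha : π a = x) (hb : π b = y) : br h x y = ⁅a, b⁆ := by
  obtain ⟨z, hz, rfl⟩ := eq_lift_mul h ha
  obtain ⟨w, hw, rfl⟩ := eq_lift_mul h hb
  rw [comm_central hz hw]
  rfl

theorem π_br (h : IsCE π) (x y : S) : π (br h x y) = ⁅x, y⁆ := by
  unfold br
  rw [map_commutatorElement, π_lift, π_lift]

theorem br_mem_center (h : IsCE π) {x y : S} (hxy : ⁅x, y⁆ = 1) : br h x y ∈ Subgroup.center E := by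
  apply h.cen
  rw [MonoidHom.mem_ker, π_br, hxy]

theorem br_comm_all (h : IsCE π) {x y : S} (hxy : ⁅x, y⁆ = 1) (g : E) : g * br h x y = br h x y * g :=
  Subgroup.mem_center_iff.mp (br_mem_center h hxy) g

theorem comm_iff {G : Type*} [Group G] {x y : G} : ⁅x, y⁆ = 1 ↔ x * y = y * x := by
  rw [commutatorElement_def]
  constructor
  · intro h
    calc x * y = (x * y * x⁻¹ * y⁻¹) * (y * x) := by group
      _ = y * x := by rw [h, one_mul]
  · intro h
    calc x * y * x⁻¹ * y⁻¹ = (x * y) * x⁻¹ * y⁻¹ := by group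
      _ = 1 := by rw [h]; group

theorem br_one_right (h : IsCE π) (x : S) : br h x 1 = 1 := by
  rw [br_eq h (π_lift h x) (map_one π)]
  simp

theorem br_one_left (h : IsCE π) (y : S) : br h 1 y = 1 := by
  rw [br_eq h (map_one π) (π_lift h y)]
  simp

theorem br_symm (h : IsCE π) (x y : S) : br h y x = (br h x y)⁻¹ := by
  unfold br
  rw [commutatorElement_inv]

/-- multiplicativity in the second variable -/
theorem br_mul_right (h : IsCE π) {x y y' : S} (hxy' : ⁅x, y'⁆ = 1) :
    br h x (y * y') = br h x y * br h x y' := by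
  have hc := br_comm_all h hxy'
  rw [br_eq h (π_lift h x) (show π (lift h y * lift h y') = y * y' by simp)] at *
  have e : ⁅lift h x, lift h y * lift h y'⁆ =
      ⁅lift h x, lift h y⁆ * (lift h y * ⁅lift h x, lift h y'⁆ * (lift h y)⁻¹) := by
    simp only [commutatorElement_def]; group
  rw [e]
  have : lift h y * ⁅lift h x, lift h y'⁆ = ⁅lift h x, lift h y'⁆ * lift h y := hc (lift h y)
  rw [this]
  unfold br
  group

/-- multiplicativity in the first variable -/
theorem br_mul_left (h : IsCE π) {x x' y : S} (hx'y : ⁅x', y⁆ = 1) :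
    br h (x * x') y = br h x' y * br h x y := by
  have hc := br_comm_all h hx'y
  rw [br_eq h (show π (lift h x * lift h x') = x * x' by simp) (π_lift h y)]
  have e : ⁅lift h x * lift h x', lift h y⁆ =
      (lift h x * ⁅lift h x', lift h y⁆ * (lift h x)⁻¹) * ⁅lift h x, lift h y⁆ := by
    simp only [commutatorElement_def]; group
  rw [e]
  have : lift h x * ⁅lift h x', lift h y⁆ = ⁅lift h x', lift h y⁆ * lift h x := hc (lift h x)
  rw [this]
  unfold br
  group

theorem br_inv_right (h : IsCE π) {x y : S} (hxy : ⁅x, y⁆ = 1) : br h x y⁻¹ = (br h x y)⁻¹ := by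
  have hxy' : ⁅x, y⁻¹⁆ = 1 := by
    rw [comm_iff] at hxy ⊢
    calc x * y⁻¹ = y⁻¹ * (y * x) * y⁻¹ := by group
      _ = y⁻¹ * (x * y) * y⁻¹ := by rw [hxy]
      _ = y⁻¹ * x := by group
  have := br_mul_right h (x := x) (y := y) (y' := y⁻¹) hxy'
  rw [mul_inv_cancel, br_one_right] at this
  exact (inv_eq_of_mul_eq_one_right this.symm).symm

/-- an element whose image commutes with `x` and `y` commutes with the bracket of `x` and `y` -/
theorem comm_br (h : IsCE π) {c : E} {x y : S} (hx : ⁅π c, x⁆ = 1) (hy : ⁅π c, y⁆ = 1) :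
    c * br h x y = br h x y * c := by
  have h1 : π (c * lift h x * c⁻¹) = x := by
    rw [map_mul, map_mul, map_inv, π_lift]
    rw [comm_iff] at hx
    rw [hx]; group
  have h2 : π (c * lift h y * c⁻¹) = y := by
    rw [map_mul, map_mul, map_inv, π_lift]
    rw [comm_iff] at hy
    rw [hy]; group
  have e1 : br h x y = ⁅c * lift h x * c⁻¹, c * lift h y * c⁻¹⁆ := br_eq h h1 h2
  have e2 : ⁅c * lift h x * c⁻¹, c * lift h y * c⁻¹⁆ = c * br h x y * c⁻¹ := by
    unfold br
    simp only [commutatorElement_def]; group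
  rw [e2] at e1
  calc c * br h x y = (c * br h x y * c⁻¹) * c := by group
    _ = br h x y * c := by rw [← e1]

/-- conjugating a bracket -/
theorem conj_br (h : IsCE π) (c : E) (x y : S) :
    c * br h x y * c⁻¹ = br h (π c * x * (π c)⁻¹) (π c * y * (π c)⁻¹) := by
  have h1 : π (c * lift h x * c⁻¹) = π c * x * (π c)⁻¹ := by
    rw [map_mul, map_mul, map_inv, π_lift]
  have h2 : π (c * lift h y * c⁻¹) = π c * y * (π c)⁻¹ := by
    rw [map_mul, map_mul, map_inv, π_lift]
  rw [br_eq h h1 h2]
  unfold br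
  simp only [commutatorElement_def]; group

/-- a central extension that has a section for a perfect group: the kernel meets the commutator subgroup trivially -/
theorem ker_inf_commutator_of_section (h : IsCE π) (s : S →* E) (hs : ∀ x, π (s x) = x) :
    ∀ z ∈ π.ker, z ∈ commutator E → z = 1 := by
  intro z hz hzc
  -- every commutator of `E` lies in the range of `s`
  have hcomm : commutator E ≤ s.range := by
    rw [commutator_eq_closure, Subgroup.closure_le]
    rintro _ ⟨a, b, rfl⟩
    refine ⟨⁅π a, π b⁆, ?_⟩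
    rw [map_commutatorElement]
    have e1 := br_eq h (hs (π a)) (hs (π b))
    have e2 := br_eq h (rfl : π a = π a) (rfl : π b = π b)
    rw [← e1, e2]
  obtain ⟨x, rfl⟩ := hcomm hzc
  rw [MonoidHom.mem_ker, hs] at hz
  rw [hz, map_one]

end Cfsg.Agent.Lib.H1.CExt
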