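import Mathlib
import Cfsg.Agent.Lib.H2.SLGen

set_option autoImplicit false

/-!
# The Steinberg group `St_n(K)` (relations (R1), (R2)): basic relations and the map to `SL_n(K)`
-/

namespace Cfsg.Agent.Lib.H1.StSL

open Matrix

variable {K : Type*} [Field K] {n : ℕ}

/-- The index type of the generators: ordered pairs of distinct indices. -/
abbrev Idx (n : ℕ) := {ij : Fin n × Fin n // ij.1 ≠ ij.2}

/-- The Steinberg relators, verbatim as in the statement. -/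
def rels (K : Type*) [Field K] (n : ℕ) : Set (FreeGroup (Idx n × K)) :=
  ({g : FreeGroup ({ij : Fin n × Fin n // ij.1 ≠ ij.2} × K) | ∃ (a : {ij : Fin n × Fin n // ij.1 ≠ ij.2}) (t u : K),
            g = FreeGroup.of (a, t) * FreeGroup.of (a, u) * (FreeGroup.of (a, t + u))⁻¹} ∪
          {g | ∃ (a b : {ij : Fin n × Fin n // ij.1 ≠ ij.2}) (t u : K), a.1.1 ≠ b.1.2 ∧ a.1.2 ≠ b.1.1 ∧
            g = FreeGroup.of (a, t) * FreeGroup.of (b, u) * (FreeGroup.of (a, t))⁻¹ * (FreeGroup.of (b, u))⁻¹} ∪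
          {g | ∃ (a b : {ij : Fin n × Fin n // ij.1 ≠ ij.2}) (h : a.1.1 ≠ b.1.2) (t u : K), a.1.2 = b.1.1 ∧
            g = FreeGroup.of (a, t) * FreeGroup.of (b, u) * (FreeGroup.of (a, t))⁻¹ * (FreeGroup.of (b, u))⁻¹ *
              (FreeGroup.of (⟨(a.1.1, b.1.2), h⟩, t * u))⁻¹})

/-- The Steinberg group. -/
abbrev St (K : Type*) [Field K] (n : ℕ) := PresentedGroup (rels K n)

/-- The generator `x_ab(t)`, extended by `1` when `a = b`. -/
noncomputable def X (a b : Fin n) (t : K) : St K n :=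
  if h : a ≠ b then PresentedGroup.of (⟨(a, b), h⟩, t) else 1

theorem X_of {a b : Fin n} (h : a ≠ b) (t : K) :
    X a b t = PresentedGroup.of (⟨(a, b), h⟩, t) := by
  unfold X; rw [dif_pos h]

theorem X_self (a : Fin n) (t : K) : X a a t = (1 : St K n) := by
  unfold X; rw [dif_neg (by simp)]

theorem X_add {a b : Fin n} (t u : K) : X a b t * X a b u = (X a b (t + u) : St K n) := by
  by_cases h : a = b
  · subst h; simp [X_self]
  have hm : (FreeGroup.of ((⟨(a, b), h⟩ : Idx n), t) * FreeGroup.of ((⟨(a, b), h⟩ : Idx n), u) *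
      (FreeGroup.of ((⟨(a, b), h⟩ : Idx n), t + u))⁻¹ : FreeGroup (Idx n × K)) ∈ rels K n :=
    Or.inl (Or.inl ⟨⟨(a, b), h⟩, t, u, rfl⟩)
  have h1 := PresentedGroup.one_of_mem hm
  rw [map_mul, map_mul, map_inv] at h1
  rw [X_of h, X_of h, X_of h]
  exact mul_inv_eq_one.mp h1

theorem X_zero (a b : Fin n) : X a b (0 : K) = (1 : St K n) := by
  have := X_add (a := a) (b := b) (0 : K) 0
  rw [add_zero] at this
  exact mul_eq_left.mp this

theorem X_inv (a b : Fin n) (t : K) : (X a b t)⁻¹ = (X a b (-t) : St K n) := by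
  apply inv_eq_of_mul_eq_one_right
  rw [X_add, add_neg_cancel, X_zero]

/-- (R2a): commuting root elements. -/
theorem X_comm {a b c d : Fin n} (had : a ≠ d) (hbc : b ≠ c) (t u : K) :
    X a b t * X c d u = (X c d u * X a b t : St K n) := by
  by_cases hab : a = b
  · subst hab; simp [X_self]
  by_cases hcd : c = d
  · subst hcd; simp [X_self]
  have hm : (FreeGroup.of ((⟨(a, b), hab⟩ : Idx n), t) * FreeGroup.of ((⟨(c, d), hcd⟩ : Idx n), u) *
      (FreeGroup.of ((⟨(a, b), hab⟩ : Idx n), t))⁻¹ * (FreeGroup.of ((⟨(c, d), hcd⟩ : Idx n), u))⁻¹ :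
        FreeGroup (Idx n × K)) ∈ rels K n :=
    Or.inl (Or.inr ⟨⟨(a, b), hab⟩, ⟨(c, d), hcd⟩, t, u, had, hbc, rfl⟩)
  have h1 := PresentedGroup.one_of_mem hm
  rw [map_mul, map_mul, map_mul, map_inv, map_inv] at h1
  rw [X_of hab, X_of hcd]
  have h2 := mul_inv_eq_one.mp h1
  exact mul_inv_eq_iff_eq_mul.mp h2

/-- (R2b): the commutator relation. -/
theorem X_comm_mul {a b c : Fin n} (hab : a ≠ b) (hbc : b ≠ c) (hac : a ≠ c) (t u : K) :
    X a b t * X b c u * (X a b t)⁻¹ * (X b c u)⁻¹ = (X a c (t * u) : St K n) := by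
  have hm : (FreeGroup.of ((⟨(a, b), hab⟩ : Idx n), t) * FreeGroup.of ((⟨(b, c), hbc⟩ : Idx n), u) *
      (FreeGroup.of ((⟨(a, b), hab⟩ : Idx n), t))⁻¹ * (FreeGroup.of ((⟨(b, c), hbc⟩ : Idx n), u))⁻¹ *
      (FreeGroup.of ((⟨(a, c), hac⟩ : Idx n), t * u))⁻¹ : FreeGroup (Idx n × K)) ∈ rels K n :=
    Or.inr ⟨⟨(a, b), hab⟩, ⟨(b, c), hbc⟩, hac, t, u, rfl, rfl⟩
  have h1 := PresentedGroup.one_of_mem hm
  rw [map_mul, map_mul, map_mul, map_mul, map_inv, map_inv, map_inv] at h1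
  rw [X_of hab, X_of hbc, X_of hac]
  exact mul_inv_eq_one.mp h1

/-- conjugation (P0): commuting case -/
theorem conj_P0 {a b c d : Fin n} (had : a ≠ d) (hbc : b ≠ c) (t u : K) :
    X a b t * X c d u * (X a b t)⁻¹ = (X c d u : St K n) := by
  rw [X_comm had hbc, mul_assoc, mul_inv_cancel, mul_one]

/-- conjugation (P1): `x_ab(t) x_bc(u) x_ab(t)⁻¹ = x_ac(tu) x_bc(u)` -/
theorem conj_P1 {a b c : Fin n} (hab : a ≠ b) (hbc : b ≠ c) (hac : a ≠ c) (t u : K) :
    X a b t * X b c u * (X a b t)⁻¹ = (X a c (t * u) * X b c u : St K n) := by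
  rw [← X_comm_mul hab hbc hac t u]
  group

/-- conjugation (P2): `x_ab(t) x_ca(u) x_ab(t)⁻¹ = x_cb(-ut) x_ca(u)` -/
theorem conj_P2 {a b c : Fin n} (hab : a ≠ b) (hbc : b ≠ c) (hac : a ≠ c) (t u : K) :
    X a b t * X c a u * (X a b t)⁻¹ = (X c b (-(u * t)) * X c a u : St K n) := by
  have h := X_comm_mul (K := K) hac.symm hab hbc.symm u t
  -- X c a u * X a b t * (X c a u)⁻¹ * (X a b t)⁻¹ = X c b (u t)
  have h1 : X c b (-(u * t)) = (X a b t * X c a u * (X a b t)⁻¹ * (X c a u)⁻¹ : St K n) := by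
    rw [← X_inv, ← h]
    group
  rw [h1]
  group

end Cfsg.Agent.Lib.H1.StSL
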