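import Mathlib
import Cfsg.Agent.Lib.H1.StSLa

set_option autoImplicit false

/-!
# The elements `w_ab(s)` of the Steinberg group and their conjugation action on root elements
-/

namespace Cfsg.Agent.Lib.H1.StSL

variable {K : Type*} [Field K] {n : ℕ}

/-- `w_ab(s) = x_ab(s) x_ba(-s⁻¹) x_ab(s)` -/
noncomputable def w (a b : Fin n) (s : K) : St K n := X a b s * X b a (-s⁻¹) * X a b s

theorem conj_mul' {G : Type*} [Group G] (g x y : G) : g * (x * y) * g⁻¹ = (g * x * g⁻¹) * (g * y * g⁻¹) := by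
  group

theorem conj3 {G : Type*} [Group G] (g1 g2 g3 x : G) :
    (g1 * g2 * g3) * x * (g1 * g2 * g3)⁻¹ = g1 * (g2 * (g3 * x * g3⁻¹) * g2⁻¹) * g1⁻¹ := by
  group

theorem w_conj_A {a b d : Fin n} (hab : a ≠ b) (had : a ≠ d) (hbd : b ≠ d) {s : K} (hs : s ≠ 0) (t : K) :
    w a b s * X a d t * (w a b s)⁻¹ = (X b d (-s⁻¹ * t) : St K n) := by
  have h3 : X a b s * X a d t * (X a b s)⁻¹ = (X a d t : St K n) := conj_P0 had hab.symm s t
  have h2 : X b a (-s⁻¹) * X a d t * (X b a (-s⁻¹))⁻¹ = (X b d (-s⁻¹ * t) * X a d t : St K n) :=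
    conj_P1 hab.symm had hbd _ _
  have h1 : X a b s * (X b d (-s⁻¹ * t) * X a d t) * (X a b s)⁻¹ = (X b d (-s⁻¹ * t) : St K n) := by
    rw [conj_mul', conj_P1 hab hbd had, conj_P0 had hab.symm]
    rw [X_comm (a := a) (b := d) (c := b) (d := d) had hbd.symm, mul_assoc, X_add]
    have : s * (-s⁻¹ * t) + t = 0 := by field_simp; ring
    rw [this, X_zero, mul_one]
  unfold w
  rw [conj3, h3, h2, h1]

theorem w_conj_B {a b d : Fin n} (hab : a ≠ b) (had : a ≠ d) (hbd : b ≠ d) {s : K} (hs : s ≠ 0) (t : K) :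
    w a b s * X b d t * (w a b s)⁻¹ = (X a d (s * t) : St K n) := by
  have h3 : X a b s * X b d t * (X a b s)⁻¹ = (X a d (s * t) * X b d t : St K n) := conj_P1 hab hbd had s t
  have h2 : X b a (-s⁻¹) * (X a d (s * t) * X b d t) * (X b a (-s⁻¹))⁻¹ = (X a d (s * t) : St K n) := by
    rw [conj_mul', conj_P1 hab.symm had hbd, conj_P0 hbd hab]
    rw [X_comm (a := b) (b := d) (c := a) (d := d) hbd had.symm, mul_assoc, X_add]
    have : -s⁻¹ * (s * t) + t = 0 := by field_simp; ring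
    rw [this, X_zero, mul_one]
  have h1 : X a b s * X a d (s * t) * (X a b s)⁻¹ = (X a d (s * t) : St K n) := conj_P0 had hab.symm _ _
  unfold w
  rw [conj3, h3, h2, h1]

theorem w_conj_C {a b c : Fin n} (hab : a ≠ b) (hac : a ≠ c) (hbc : b ≠ c) {s : K} (hs : s ≠ 0) (t : K) :
    w a b s * X c a t * (w a b s)⁻¹ = (X c b (-(s * t)) : St K n) := by
  have h3 : X a b s * X c a t * (X a b s)⁻¹ = (X c b (-(t * s)) * X c a t : St K n) := conj_P2 hab hbc hac s t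
  have h2 : X b a (-s⁻¹) * (X c b (-(t * s)) * X c a t) * (X b a (-s⁻¹))⁻¹ = (X c b (-(t * s)) : St K n) := by
    rw [conj_mul', conj_P2 hab.symm hac hbc, conj_P0 hab.symm hac]
    rw [X_comm (a := c) (b := a) (c := c) (d := b) hbc.symm hac, mul_assoc, X_add]
    have : -(-(t * s) * -s⁻¹) + t = 0 := by field_simp; ring
    rw [this, X_zero, mul_one]
  have h1 : X a b s * X c b (-(t * s)) * (X a b s)⁻¹ = (X c b (-(t * s)) : St K n) := conj_P0 hab hbc _ _
  unfold w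
  rw [conj3, h3, h2, h1]
  congr 1; ring

theorem w_conj_D {a b c : Fin n} (hab : a ≠ b) (hac : a ≠ c) (hbc : b ≠ c) {s : K} (hs : s ≠ 0) (t : K) :
    w a b s * X c b t * (w a b s)⁻¹ = (X c a (s⁻¹ * t) : St K n) := by
  have h3 : X a b s * X c b t * (X a b s)⁻¹ = (X c b t : St K n) := conj_P0 hab hbc s t
  have h2 : X b a (-s⁻¹) * X c b t * (X b a (-s⁻¹))⁻¹ = (X c a (-(t * -s⁻¹)) * X c b t : St K n) :=
    conj_P2 hab.symm hac hbc _ _
  have h1 : X a b s * (X c a (-(t * -s⁻¹)) * X c b t) * (X a b s)⁻¹ = (X c a (-(t * -s⁻¹)) : St K n) := by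
    rw [conj_mul', conj_P2 hab hbc hac, conj_P0 hab hbc]
    rw [X_comm (a := c) (b := b) (c := c) (d := a) hac.symm hbc, mul_assoc, X_add]
    have : -(-(t * -s⁻¹) * s) + t = 0 := by field_simp; ring
    rw [this, X_zero, mul_one]
  unfold w
  rw [conj3, h3, h2, h1]
  congr 1; ring

theorem w_conj_E {a b c d : Fin n} (hac : a ≠ c) (had : a ≠ d) (hbc : b ≠ c) (hbd : b ≠ d) (s t : K) :
    w a b s * X c d t * (w a b s)⁻¹ = (X c d t : St K n) := by
  unfold w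
  rw [conj3, conj_P0 had hbc, conj_P0 hbd hac, conj_P0 had hbc]

theorem conj_comm' {G : Type*} [Group G] (g x y : G) :
    g * (x * y * x⁻¹ * y⁻¹) * g⁻¹ = (g * x * g⁻¹) * (g * y * g⁻¹) * (g * x * g⁻¹)⁻¹ * (g * y * g⁻¹)⁻¹ := by
  group

theorem w_conj_F {a b m : Fin n} (hab : a ≠ b) (ham : a ≠ m) (hbm : b ≠ m) {s : K} (hs : s ≠ 0) (t : K) :
    w a b s * X a b t * (w a b s)⁻¹ = (X b a (-(s⁻¹ * s⁻¹) * t) : St K n) := by
  have e : (X a b t : St K n) = X a m t * X m b 1 * (X a m t)⁻¹ * (X m b 1)⁻¹ := by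
    rw [X_comm_mul ham hbm.symm hab, mul_one]
  rw [e, conj_comm', w_conj_A hab ham hbm hs, w_conj_D hab ham hbm hs,
    X_comm_mul hbm ham.symm hab.symm]
  congr 1; ring

theorem w_conj_G {a b m : Fin n} (hab : a ≠ b) (ham : a ≠ m) (hbm : b ≠ m) {s : K} (hs : s ≠ 0) (t : K) :
    w a b s * X b a t * (w a b s)⁻¹ = (X a b (-(s * s) * t) : St K n) := by
  have e : (X b a t : St K n) = X b m t * X m a 1 * (X b m t)⁻¹ * (X m a 1)⁻¹ := by
    rw [X_comm_mul hbm ham.symm hab.symm, mul_one]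
  rw [e, conj_comm', w_conj_B hab ham hbm hs, w_conj_C hab ham hbm hs,
    X_comm_mul ham hbm.symm hab]
  congr 1; ring

end Cfsg.Agent.Lib.H1.StSL
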