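import Mathlib
import Cfsg.Agent.Lib.H1.StSLc

set_option autoImplicit false

/-!
# Elements of the Steinberg group acting monomially on the root elements
-/

namespace Cfsg.Agent.Lib.H1.StSL

variable {K : Type*} [Field K] {n : ℕ}

/-- `g` acts on the root elements like a monomial matrix with permutation `π` and coefficients `d` -/
def Mon (g : St K n) (π : Equiv.Perm (Fin n)) (d : Fin n → K) : Prop :=
  (∀ i, d i ≠ 0) ∧ ∀ c e t, g * X c e t * g⁻¹ = X (π c) (π e) (d c / d e * t)

theorem Mon.one : Mon (1 : St K n) 1 (fun _ => 1) := by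
  refine ⟨fun _ => one_ne_zero, fun c e t => ?_⟩
  simp

theorem Mon.mul {g g' : St K n} {π π' : Equiv.Perm (Fin n)} {d d' : Fin n → K}
    (h : Mon g π d) (h' : Mon g' π' d') : Mon (g * g') (π * π') (fun c => d' c * d (π' c)) := by
  refine ⟨fun i => mul_ne_zero (h'.1 i) (h.1 _), fun c e t => ?_⟩
  have e1 : g * g' * X c e t * (g * g')⁻¹ = g * (g' * X c e t * g'⁻¹) * g⁻¹ := by group
  rw [e1, h'.2, h.2]
  simp only [Equiv.Perm.coe_mul, Function.comp_apply]
  congr 1
  have := h'.1 c; have := h'.1 e; have := h.1 (π' c); have := h.1 (π' e)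
  field_simp

theorem perm_apply_inv {α : Type*} (f : Equiv.Perm α) (x : α) : f (f⁻¹ x) = x := f.apply_symm_apply x

theorem perm_inv_apply {α : Type*} (f : Equiv.Perm α) (x : α) : f⁻¹ (f x) = x := f.symm_apply_apply x

theorem Mon.inv {g : St K n} {π : Equiv.Perm (Fin n)} {d : Fin n → K}
    (h : Mon g π d) : Mon g⁻¹ π⁻¹ (fun c => (d (π⁻¹ c))⁻¹) := by
  refine ⟨fun i => inv_ne_zero (h.1 _), fun c e t => ?_⟩
  have e1 := h.2 (π⁻¹ c) (π⁻¹ e) ((d (π⁻¹ c))⁻¹ / (d (π⁻¹ e))⁻¹ * t)
  rw [perm_apply_inv, perm_apply_inv] at e1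
  have e2 : d (π⁻¹ c) / d (π⁻¹ e) * ((d (π⁻¹ c))⁻¹ / (d (π⁻¹ e))⁻¹ * t) = t := by
    have := h.1 (π⁻¹ c); have := h.1 (π⁻¹ e)
    field_simp
  rw [e2] at e1
  rw [← e1]
  group

theorem exists_third (hn : 3 ≤ n) (a b : Fin n) : ∃ m : Fin n, a ≠ m ∧ b ≠ m := by
  by_contra h
  push Not at h
  have h0 := h ⟨0, by omega⟩
  have h1 := h ⟨1, by omega⟩
  have h2 := h ⟨2, by omega⟩
  simp only [ne_eq, Fin.ext_iff] at h0 h1 h2
  omega

/-- the coefficients of `w_ab(s)` -/
def wd (a b : Fin n) (s : K) : Fin n → K := fun i => if i = a then -s⁻¹ else if i = b then s else 1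

theorem Mon_w (hn : 3 ≤ n) {a b : Fin n} (hab : a ≠ b) {s : K} (hs : s ≠ 0) :
    Mon (w a b s : St K n) (Equiv.swap a b) (wd a b s) := by
  constructor
  · intro i
    unfold wd
    split_ifs
    · exact neg_ne_zero.mpr (inv_ne_zero hs)
    · exact hs
    · exact one_ne_zero
  intro c e t
  by_cases hce : c = e
  · subst hce; simp [X_self]
  obtain ⟨m, ham, hbm⟩ := exists_third hn a b
  by_cases hca : c = a
  · subst hca
    by_cases heb : e = b
    · subst heb
      rw [w_conj_F hab ham hbm hs, Equiv.swap_apply_left, Equiv.swap_apply_right]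
      congr 1
      simp only [wd, if_true, if_neg hab.symm]
      field_simp
    · have hea : e ≠ c := fun h => hce h.symm
      rw [w_conj_A hab hce (Ne.symm heb) hs, Equiv.swap_apply_left, Equiv.swap_apply_of_ne_of_ne hea heb]
      congr 1
      simp only [wd, if_true, if_neg hea, if_neg heb]
      field_simp
  by_cases hcb : c = b
  · subst hcb
    by_cases hea : e = a
    · subst hea
      rw [w_conj_G hab ham hbm hs, Equiv.swap_apply_left, Equiv.swap_apply_right]
      congr 1
      simp only [wd, if_true, if_neg hab.symm]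
      field_simp
    · have heb : e ≠ c := fun h => hce h.symm
      rw [w_conj_B hab (Ne.symm hea) hce hs, Equiv.swap_apply_right, Equiv.swap_apply_of_ne_of_ne hea heb]
      congr 1
      simp only [wd, if_true, if_neg hea, if_neg heb, if_neg hab.symm]
      field_simp
  by_cases hea : e = a
  · subst hea
    rw [w_conj_C hab (Ne.symm hca) (Ne.symm hcb) hs, Equiv.swap_apply_left,
      Equiv.swap_apply_of_ne_of_ne hca hcb]
    congr 1
    simp only [wd, if_true, if_neg hca, if_neg hcb]
    field_simp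
  by_cases heb : e = b
  · subst heb
    rw [w_conj_D hab (Ne.symm hca) (Ne.symm hcb) hs, Equiv.swap_apply_right,
      Equiv.swap_apply_of_ne_of_ne hca hcb]
    congr 1
    simp only [wd, if_true, if_neg hca, if_neg hcb, if_neg hab.symm]
    field_simp
  rw [w_conj_E (Ne.symm hca) (Ne.symm hea) (Ne.symm hcb) (Ne.symm heb),
    Equiv.swap_apply_of_ne_of_ne hca hcb, Equiv.swap_apply_of_ne_of_ne hea heb]
  congr 1
  simp only [wd, if_neg hca, if_neg hcb, if_neg hea, if_neg heb]
  field_simp

/-- conjugating `w_ce(t)` by a monomially acting element -/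
theorem Mon.conj_w {g : St K n} {π : Equiv.Perm (Fin n)} {d : Fin n → K} (h : Mon g π d)
    (c e : Fin n) (t : K) : g * w c e t * g⁻¹ = w (π c) (π e) (d c / d e * t) := by
  have e1 : g * w c e t * g⁻¹ = (g * X c e t * g⁻¹) * (g * X e c (-t⁻¹) * g⁻¹) * (g * X c e t * g⁻¹) := by
    unfold w; group
  rw [e1, h.2, h.2]
  unfold w
  congr 3
  have := h.1 c; have := h.1 e
  rw [mul_inv, inv_div]
  ring

end Cfsg.Agent.Lib.H1.StSL
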