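import Mathlib
import Cfsg.Agent.Lib.H1.StSLa

set_option autoImplicit false

/-!
# The map `St_n(K) → SL_n(K)`
-/

namespace Cfsg.Agent.Lib.H1.StSL

open Matrix

variable {K : Type*} [Field K] {n : ℕ}

/-- images of the generators -/
def gen (p : Idx n × K) : SpecialLinearGroup (Fin n) K := SpecialLinearGroup.transvection p.1.2 p.2

theorem gen_inv (p : Idx n × K) : (gen p)⁻¹ = gen (p.1, -p.2) :=
  SpecialLinearGroup.transvection_inv _ _

theorem sl_ext {A B : SpecialLinearGroup (Fin n) K}
    (h : (A : Matrix (Fin n) (Fin n) K) = (B : Matrix (Fin n) (Fin n) K)) : A = B := Subtype.ext h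

theorem lift_gen_rels : ∀ r ∈ rels K n, FreeGroup.lift (gen (K := K) (n := n)) r = 1 := by
  rintro r ((⟨a, t, u, rfl⟩ | ⟨a, b, t, u, h1, h2, rfl⟩) | ⟨a, b, h, t, u, h1, rfl⟩)
  · simp only [map_mul, map_inv, FreeGroup.lift_apply_of]
    rw [mul_inv_eq_one]
    exact (SpecialLinearGroup.transvection_add a.2 t u).symm
  · simp only [map_mul, map_inv, FreeGroup.lift_apply_of]
    rw [gen_inv, gen_inv]
    apply SpecialLinearGroup.coeMonoidHom_injective
    obtain ⟨⟨a1, a2⟩, ha⟩ := a
    obtain ⟨⟨b1, b2⟩, hb⟩ := b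
    simp only at ha hb h1 h2
    simp only [gen, map_mul, map_one, SpecialLinearGroup.coeMonoidHom_apply, SpecialLinearGroup.transvection_coe]
    simp only [mul_add, add_mul, mul_one, one_mul, single_mul_single_of_ne _ _ _ _ h2,
      single_mul_single_of_ne _ _ _ _ h1.symm, single_mul_single_of_ne _ _ _ _ ha.symm,
      single_mul_single_of_ne _ _ _ _ hb.symm, add_zero]
    simp only [← single_neg]
    abel
  · simp only [map_mul, map_inv, FreeGroup.lift_apply_of]
    rw [gen_inv, gen_inv, gen_inv]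
    apply SpecialLinearGroup.coeMonoidHom_injective
    obtain ⟨⟨a1, a2⟩, ha⟩ := a
    obtain ⟨⟨b1, b2⟩, hb⟩ := b
    simp only at ha hb h h1
    subst h1
    simp only [gen, map_mul, map_one, SpecialLinearGroup.coeMonoidHom_apply, SpecialLinearGroup.transvection_coe]
    simp only [mul_add, add_mul, mul_one, one_mul, single_mul_single_same,
      single_mul_single_of_ne _ _ _ _ h.symm, single_mul_single_of_ne _ _ _ _ ha.symm,
      single_mul_single_of_ne _ _ _ _ hb.symm, add_zero, mul_neg, neg_mul, neg_neg]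
    simp only [← single_neg]
    abel

/-- the canonical map `St_n(K) → SL_n(K)` -/
def toSL : St K n →* SpecialLinearGroup (Fin n) K := PresentedGroup.toGroup lift_gen_rels

theorem toSL_of (p : Idx n × K) : toSL (PresentedGroup.of p : St K n) = gen p :=
  PresentedGroup.toGroup.of lift_gen_rels

theorem toSL_X {a b : Fin n} (h : a ≠ b) (t : K) :
    toSL (X a b t : St K n) = SpecialLinearGroup.transvection h t := by
  rw [X_of h, toSL_of]; rfl

theorem toSL_X_coe {a b : Fin n} (h : a ≠ b) (t : K) :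
    ((toSL (X a b t : St K n) : SpecialLinearGroup (Fin n) K) : Matrix (Fin n) (Fin n) K) =
      1 + single a b t := by
  rw [toSL_X h]; rfl

theorem toSL_surjective (hn : 2 ≤ n) : Function.Surjective (toSL (K := K) (n := n)) := by
  have : Nontrivial (Fin n) := Fin.nontrivial_iff_two_le.mpr hn
  rw [← MonoidHom.range_eq_top, eq_top_iff, ← Cfsg.Agent.Lib.H2.SL_closure_transvection,
    Subgroup.closure_le]
  rintro A ⟨i, j, h, c, rfl⟩
  exact ⟨X i j c, toSL_X h c⟩

end Cfsg.Agent.Lib.H1.StSL
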