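import Mathlib
import Cfsg.Agent.Lib.H1.StSLb

set_option autoImplicit false

/-!
# The upper unipotent subgroup of the Steinberg group maps injectively to `SL_n`
-/

namespace Cfsg.Agent.Lib.H1.StSL

open Matrix

variable {K : Type*} [Field K] {n : ℕ}

theorem closure_ind_left {G : Type*} [Group G] {S : Set G} (hS : ∀ x ∈ S, x⁻¹ ∈ S) {p : G → Prop}
    (one : p 1) (mul_left : ∀ x ∈ S, ∀ y, p y → p (x * y)) {g : G} (hg : g ∈ Subgroup.closure S) : p g := by
  induction hg using Subgroup.closure_induction_left with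
  | one => exact one
  | mul_left x hx y hy ih => exact mul_left x hx y ih
  | inv_mul_cancel x hx y hy ih => exact mul_left x⁻¹ (hS x hx) y ih

theorem closure_ind_right {G : Type*} [Group G] {S : Set G} (hS : ∀ x ∈ S, x⁻¹ ∈ S) {p : G → Prop}
    (one : p 1) (mul_right : ∀ y, ∀ x ∈ S, p y → p (y * x)) {g : G} (hg : g ∈ Subgroup.closure S) : p g := by
  induction hg using Subgroup.closure_induction_right with
  | one => exact one
  | mul_right x hx y hy ih => exact mul_right x y hy ih
  | mul_inv_cancel x hx y hy ih => exact mul_right x y⁻¹ (hS y hy) ih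

/-- the set of root elements `x_ce(t)` with `(c, e)` satisfying `P` -/
def rootSet (K : Type*) [Field K] {n : ℕ} (P : Fin n → Fin n → Prop) : Set (St K n) :=
  {g | ∃ c e, ∃ t : K, P c e ∧ g = X c e t}

theorem rootSet_inv {P : Fin n → Fin n → Prop} : ∀ x ∈ rootSet K P, x⁻¹ ∈ rootSet K P := by
  rintro x ⟨c, e, t, h, rfl⟩
  exact ⟨c, e, -t, h, X_inv c e t⟩

/-- the subgroup generated by the root elements `x_ce(t)` with `(c, e)` satisfying `P` -/
def rootGrp (K : Type*) [Field K] {n : ℕ} (P : Fin n → Fin n → Prop) : Subgroup (St K n) :=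
  Subgroup.closure (rootSet K P)

theorem X_mem_rootGrp {P : Fin n → Fin n → Prop} {c e : Fin n} (h : P c e) (t : K) : X c e t ∈ rootGrp K P :=
  Subgroup.subset_closure ⟨c, e, t, h, rfl⟩

theorem rootGrp_mono {P Q : Fin n → Fin n → Prop} (h : ∀ c e, P c e → Q c e) : rootGrp K P ≤ rootGrp K Q := by
  apply Subgroup.closure_mono
  rintro x ⟨c, e, t, hP, rfl⟩
  exact ⟨c, e, t, h c e hP, rfl⟩

/-- the matrix of an element -/
noncomputable def Mx (g : St K n) : Matrix (Fin n) (Fin n) K := (toSL g : SpecialLinearGroup (Fin n) K)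

theorem Mx_one : Mx (1 : St K n) = 1 := by simp [Mx]

theorem Mx_mul (g h : St K n) : Mx (g * h) = Mx g * Mx h := by simp [Mx]

theorem Mx_X {a b : Fin n} (h : a ≠ b) (t : K) : Mx (X a b t : St K n) = transvection a b t := by
  unfold Mx; rw [toSL_X h]; rfl

theorem Mx_eq_one_iff (g : St K n) : Mx g = 1 ↔ toSL g = 1 := by
  unfold Mx
  constructor
  · intro h; exact Subtype.ext h
  · intro h; rw [h]; rfl

/-- the upper unipotent subgroup -/
def U (K : Type*) [Field K] (n : ℕ) : Subgroup (St K n) := rootGrp K (fun c e => c < e)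

/-- the part of `U` in the first `m` columns -/
def Ucol (K : Type*) [Field K] (n : ℕ) (m : ℕ) : Subgroup (St K n) := rootGrp K (fun c e => c < e ∧ e.val < m)

/-- the part of the column group of column `e0` in the first `j` rows -/
def Vcol (K : Type*) [Field K] {n : ℕ} (e0 : Fin n) (j : ℕ) : Subgroup (St K n) :=
  rootGrp K (fun c e => e = e0 ∧ c < e0 ∧ c.val < j)

theorem Ucol_le_succ (m : ℕ) : Ucol K n m ≤ Ucol K n (m + 1) :=
  rootGrp_mono fun _ _ h => ⟨h.1, by omega⟩

theorem Vcol_le_succ (e0 : Fin n) (j : ℕ) : Vcol K e0 j ≤ Vcol K e0 (j + 1) :=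
  rootGrp_mono fun _ _ h => ⟨h.1, h.2.1, by omega⟩

theorem Vcol_le_Ucol (e0 : Fin n) (j : ℕ) : Vcol K e0 j ≤ Ucol K n (e0.val + 1) :=
  rootGrp_mono fun c e h => ⟨by rw [h.1]; exact h.2.1, by rw [h.1]; omega⟩

/-- entries of elements of `Vcol e0 j` -/
theorem Vcol_entries (e0 : Fin n) (j : ℕ) {v : St K n} (hv : v ∈ Vcol K e0 j) :
    (∀ i k, k ≠ e0 → Mx v i k = (1 : Matrix (Fin n) (Fin n) K) i k) ∧ Mx v e0 e0 = 1 ∧
      (∀ i, i ≠ e0 → j ≤ i.val → Mx v i e0 = 0) := by
  refine closure_ind_left (p := fun v => (∀ i k, k ≠ e0 → Mx v i k = (1 : Matrix (Fin n) (Fin n) K) i k) ∧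
      Mx v e0 e0 = 1 ∧ (∀ i, i ≠ e0 → j ≤ i.val → Mx v i e0 = 0)) rootSet_inv ?_ ?_ hv
  · rw [Mx_one]
    refine ⟨fun _ _ _ => rfl, by simp, fun i hi _ => by simp [hi]⟩
  · rintro x ⟨c, e, t, ⟨rfl, hc, hcj⟩, rfl⟩ y ⟨h1, h2, h3⟩
    have hce : c ≠ e := ne_of_lt hc
    rw [Mx_mul, Mx_X hce]
    refine ⟨fun i k hk => ?_, ?_, fun i hi hji => ?_⟩
    · by_cases hic : i = c
      · subst hic
        rw [transvection_mul_apply_same, h1 _ _ hk, h1 _ _ hk, one_apply_ne hk.symm, mul_zero, add_zero]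
      · rw [transvection_mul_apply_of_ne _ _ _ _ hic, h1 _ _ hk]
    · rw [transvection_mul_apply_of_ne _ _ _ _ hce.symm, h2]
    · have hic : i ≠ c := by
        rintro rfl; omega
      rw [transvection_mul_apply_of_ne _ _ _ _ hic, h3 i hi hji]

/-- `Vcol e0 j` maps injectively -/
theorem Vcol_inj (e0 : Fin n) : ∀ j : ℕ, ∀ v ∈ Vcol K e0 j, Mx v = 1 → v = 1 := by
  intro j
  induction j with
  | zero =>
    intro v hv _
    have : Vcol K e0 0 = ⊥ := by
      unfold Vcol rootGrp
      rw [Subgroup.closure_eq_bot_iff]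
      rintro x ⟨c, e, t, ⟨_, _, h⟩, rfl⟩
      omega
    rw [this] at hv
    exact Subgroup.mem_bot.mp hv
  | succ j ih =>
    intro v hv hv1
    by_cases hj : j < e0.val
    · -- decompose v = X c0 e0 t * v'
      let c0 : Fin n := ⟨j, by omega⟩
      have hc0 : c0 < e0 := hj
      have hc0e : c0 ≠ e0 := ne_of_lt hc0
      have hdec : ∃ t : K, ∃ v' ∈ Vcol K e0 j, v = X c0 e0 t * v' := by
        refine closure_ind_left (p := fun v => ∃ t : K, ∃ v' ∈ Vcol K e0 j, v = X c0 e0 t * v') rootSet_inv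
          ⟨0, 1, one_mem _, by rw [X_zero, one_mul]⟩ ?_ hv
        rintro x ⟨c, e, r, ⟨rfl, hc, hcj⟩, rfl⟩ y ⟨t, v', hv', rfl⟩
        by_cases hcc : c = c0
        · subst hcc
          exact ⟨r + t, v', hv', by rw [← mul_assoc, X_add]⟩
        · have hcj' : c.val < j := by
            have : c.val ≠ j := fun h => hcc (Fin.ext h)
            have h2 : c.val < j + 1 := hcj
            omega
          refine ⟨t, X c e r * v', mul_mem (X_mem_rootGrp ⟨rfl, hc, hcj'⟩ r) hv', ?_⟩
          rw [← mul_assoc, ← mul_assoc, X_comm (ne_of_lt hc) (ne_of_lt hc0).symm]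
      obtain ⟨t, v', hv', rfl⟩ := hdec
      obtain ⟨h1, h2, h3⟩ := Vcol_entries e0 j hv'
      have ht : t = 0 := by
        have := congrFun (congrFun hv1 c0) e0
        rw [Mx_mul, Mx_X hc0e, transvection_mul_apply_same, h2, h3 c0 hc0e (le_refl _), zero_add, mul_one,
          one_apply_ne hc0e] at this
        exact this
      rw [ht, X_zero, one_mul] at hv1 ⊢
      exact ih v' hv' hv1
    · have : Vcol K e0 (j + 1) ≤ Vcol K e0 j := by
        apply rootGrp_mono
        rintro c e ⟨h1, h2, _⟩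
        refine ⟨h1, h2, ?_⟩
        have : c.val < e0.val := h2
        omega
      exact ih v (this hv) hv1

/-- entries in the `e0`-th column of elements of `Ucol m`, `m ≤ e0` -/
theorem Ucol_entries (e0 : Fin n) {u : St K n} (hu : u ∈ Ucol K n e0.val) :
    ∀ i, Mx u i e0 = (1 : Matrix (Fin n) (Fin n) K) i e0 := by
  refine closure_ind_left (p := fun u => ∀ i, Mx u i e0 = (1 : Matrix (Fin n) (Fin n) K) i e0)
    rootSet_inv ?_ ?_ hu
  · rw [Mx_one]; intro i; rfl
  · rintro x ⟨c, e, t, ⟨hc, he⟩, rfl⟩ y h i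
    have hce : c ≠ e := ne_of_lt hc
    have hee0 : e ≠ e0 := fun h => by rw [h] at he; omega
    have hce0 : c ≠ e0 := fun h => by
      have : c.val < e.val := hc
      rw [h] at this; omega
    rw [Mx_mul, Mx_X hce]
    by_cases hic : i = c
    · subst hic
      rw [transvection_mul_apply_same, h, h, one_apply_ne hee0, mul_zero, add_zero]
    · rw [transvection_mul_apply_of_ne _ _ _ _ hic, h]

/-- `Ucol m` maps injectively -/
theorem Ucol_inj : ∀ m : ℕ, ∀ u ∈ Ucol K n m, Mx u = 1 → u = 1 := by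
  intro m
  induction m with
  | zero =>
    intro u hu _
    have : Ucol K n 0 = ⊥ := by
      unfold Ucol rootGrp
      rw [Subgroup.closure_eq_bot_iff]
      rintro x ⟨c, e, t, ⟨_, h⟩, rfl⟩
      omega
    rw [this] at hu
    exact Subgroup.mem_bot.mp hu
  | succ m ih =>
    intro u hu hu1
    by_cases hm : m < n
    · let e0 : Fin n := ⟨m, hm⟩
      -- the column group is normalized by Ucol m
      have hnorm : ∀ x ∈ rootSet K (fun c e : Fin n => c < e ∧ e.val < m), ∀ v ∈ Vcol K e0 n,
          x * v * x⁻¹ ∈ Vcol K e0 n := by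
        rintro x ⟨c, e, t, ⟨hc, he⟩, rfl⟩ v hv
        refine closure_ind_left (p := fun v => X c e t * v * (X c e t)⁻¹ ∈ Vcol K e0 n) rootSet_inv
          (by simp [one_mem]) ?_ hv
        rintro y ⟨c', e', r, ⟨he', hc', hc'n⟩, rfl⟩ z hz
        rw [he']
        have e1 : X c e t * (X c' e0 r * z) * (X c e t)⁻¹ =
            (X c e t * X c' e0 r * (X c e t)⁻¹) * (X c e t * z * (X c e t)⁻¹) := by group
        rw [e1]
        refine mul_mem ?_ hz
        have h2 : e0.val = m := rfl
        have hce' : c ≠ e0 := fun h => by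
          have h1 : c.val < e.val := hc
          rw [h] at h1; omega
        have hlt : c < e0 := by
          have h1 : c.val < e.val := hc
          exact Fin.lt_def.mpr (by omega)
        by_cases hec : e = c'
        · subst hec
          rw [conj_P1 (ne_of_lt hc) (ne_of_lt hc') hce']
          exact mul_mem (X_mem_rootGrp ⟨rfl, hlt, c.isLt⟩ _) (X_mem_rootGrp ⟨rfl, hc', hc'n⟩ _)
        · rw [conj_P0 hce' hec]
          exact X_mem_rootGrp ⟨rfl, hc', hc'n⟩ _
      have hdec : ∃ v ∈ Vcol K e0 n, ∃ u' ∈ Ucol K n m, u = v * u' := by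
        refine closure_ind_left (p := fun u => ∃ v ∈ Vcol K e0 n, ∃ u' ∈ Ucol K n m, u = v * u') rootSet_inv
          ⟨1, one_mem _, 1, one_mem _, by simp⟩ ?_ hu
        rintro x ⟨c, e, t, ⟨hc, he⟩, rfl⟩ y ⟨v, hv, u', hu', rfl⟩
        by_cases hee : e = e0
        · subst hee
          exact ⟨X c e0 t * v, mul_mem (X_mem_rootGrp ⟨rfl, hc, c.isLt⟩ _) hv, u', hu', by group⟩
        · have he' : e.val < m := by
            have : e.val ≠ m := fun h => hee (Fin.ext h)
            omega
          refine ⟨X c e t * v * (X c e t)⁻¹, hnorm _ ⟨c, e, t, ⟨hc, he'⟩, rfl⟩ v hv, X c e t * u',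
            mul_mem (X_mem_rootGrp ⟨hc, he'⟩ _) hu', by group⟩
      obtain ⟨v, hv, u', hu', rfl⟩ := hdec
      obtain ⟨h1, h2, h3⟩ := Vcol_entries e0 n hv
      have h4 := Ucol_entries e0 hu'
      have hv1 : Mx v = 1 := by
        ext i k
        by_cases hk : k = e0
        · subst hk
          have := congrFun (congrFun hu1 i) e0
          rw [Mx_mul, Matrix.mul_apply, Finset.sum_eq_single e0] at this
          · rw [h4, one_apply_eq, mul_one] at this
            exact this
          · intro b _ hb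
            rw [h4, one_apply_ne hb, mul_zero]
          · intro h; exact absurd (Finset.mem_univ _) h
        · exact h1 i k hk
      have hv0 : v = 1 := Vcol_inj e0 n v hv hv1
      rw [hv0, one_mul] at hu1 ⊢
      exact ih u' hu' hu1
    · have : Ucol K n (m + 1) ≤ Ucol K n m := by
        apply rootGrp_mono
        rintro c e ⟨h1, _⟩
        exact ⟨h1, by have := e.isLt; omega⟩
      exact ih u (this hu) hu1

theorem U_eq_Ucol : U K n = Ucol K n n := by
  apply le_antisymm
  · exact rootGrp_mono fun c e h => ⟨h, e.isLt⟩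
  · exact rootGrp_mono fun c e h => h.1

/-- the upper unipotent subgroup maps injectively to `SL_n` -/
theorem U_inj {u : St K n} (hu : u ∈ U K n) (h : toSL u = 1) : u = 1 := by
  rw [U_eq_Ucol] at hu
  exact Ucol_inj n u hu ((Mx_eq_one_iff u).mpr h)

end Cfsg.Agent.Lib.H1.StSL
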