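import Mathlib
import Cfsg.Agent.Lib.H1.StSLd
import Cfsg.Agent.Lib.H1.StSLe

set_option autoImplicit false

/-!
# The Bruhat decomposition `St = U W U` of the Steinberg group
-/

namespace Cfsg.Agent.Lib.H1.StSL

open Matrix

variable {K : Type*} [Field K] {n : ℕ}

theorem w_inv (a b : Fin n) (s : K) : (w a b s : St K n)⁻¹ = w a b (-s) := by
  unfold w
  rw [_root_.mul_inv_rev, _root_.mul_inv_rev, X_inv, X_inv, inv_neg, neg_neg, ← mul_assoc]

/-- the generators of `W` -/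
def Wset (K : Type*) [Field K] (n : ℕ) : Set (St K n) :=
  {g | ∃ a b : Fin n, ∃ s : K, a ≠ b ∧ s ≠ 0 ∧ g = w a b s}

theorem Wset_inv : ∀ x ∈ Wset K n, x⁻¹ ∈ Wset K n := by
  rintro x ⟨a, b, s, hab, hs, rfl⟩
  exact ⟨a, b, -s, hab, neg_ne_zero.mpr hs, w_inv a b s⟩

/-- the subgroup generated by the `w_ab(s)` -/
def W (K : Type*) [Field K] (n : ℕ) : Subgroup (St K n) := Subgroup.closure (Wset K n)

theorem w_mem_W {a b : Fin n} (hab : a ≠ b) {s : K} (hs : s ≠ 0) : w a b s ∈ W K n :=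
  Subgroup.subset_closure ⟨a, b, s, hab, hs, rfl⟩

theorem exists_Mon_of_mem_W (hn : 3 ≤ n) {g : St K n} (hg : g ∈ W K n) :
    ∃ π d, Mon g π d := by
  refine closure_ind_left (p := fun g => ∃ π d, Mon g π d) Wset_inv ⟨1, _, Mon.one⟩ ?_ hg
  rintro x ⟨a, b, s, hab, hs, rfl⟩ y ⟨π, d, h⟩
  exact ⟨_, _, (Mon_w hn hab hs).mul h⟩

/-- `U` without the root subgroup of the simple root `(a, b)` -/
def Uk (K : Type*) [Field K] {n : ℕ} (a b : Fin n) : Subgroup (St K n) :=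
  rootGrp K (fun c e => c < e ∧ ¬(c = a ∧ e = b))

theorem Uk_le_U (a b : Fin n) : Uk K a b ≤ U K n := rootGrp_mono fun _ _ h => h.1

theorem U_decomp {a b : Fin n} (hab : a.val + 1 = b.val) {u : St K n} (hu : u ∈ U K n) :
    ∃ v ∈ Uk K a b, ∃ t : K, u = v * X a b t := by
  have hlt : a < b := Fin.lt_def.mpr (by omega)
  have hne : a ≠ b := ne_of_lt hlt
  refine closure_ind_right (p := fun u => ∃ v ∈ Uk K a b, ∃ t : K, u = v * X a b t) rootSet_inv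
    ⟨1, one_mem _, 0, by rw [X_zero, one_mul]⟩ ?_ hu
  rintro y x ⟨c, e, r, hce, rfl⟩ ⟨v, hv, t, rfl⟩
  have hce' : c ≠ e := ne_of_lt hce
  by_cases h1 : c = a ∧ e = b
  · obtain ⟨rfl, rfl⟩ := h1
    exact ⟨v, hv, t + r, by rw [mul_assoc, X_add]⟩
  have key : X a b t * X c e r * (X a b t)⁻¹ ∈ Uk K a b := by
    by_cases hbc : b = c
    · subst hbc
      have hae : a ≠ e := ne_of_lt (lt_trans hlt hce)
      rw [conj_P1 hne hce' hae]
      refine mul_mem (X_mem_rootGrp ⟨lt_trans hlt hce, fun h => hce' h.2.symm⟩ _)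
        (X_mem_rootGrp ⟨hce, h1⟩ _)
    · by_cases hae : a = e
      · subst hae
        have hcb : c ≠ b := ne_of_lt (lt_trans hce hlt)
        rw [conj_P2 hne (Ne.symm hcb) hce'.symm]
        refine mul_mem (X_mem_rootGrp ⟨lt_trans hce hlt, fun h => hce' h.1⟩ _)
          (X_mem_rootGrp ⟨hce, h1⟩ _)
      · rw [conj_P0 hae hbc]
        exact X_mem_rootGrp ⟨hce, h1⟩ _
  refine ⟨v * (X a b t * X c e r * (X a b t)⁻¹), mul_mem hv key, t, by group⟩

theorem swap_adj_lt {a b c e : Fin n} (hab : a.val + 1 = b.val) (hce : c < e) (hne : ¬(c = a ∧ e = b)) :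
    Equiv.swap a b c < Equiv.swap a b e := by
  rw [Equiv.swap_apply_def, Equiv.swap_apply_def]
  rw [Fin.lt_def] at hce
  split_ifs with h1 h2 h3 h4 h5 h6 h7 h8 <;> simp only [Fin.lt_def, Fin.ext_iff, not_and] at * <;> omega

theorem Uk_conj (hn : 3 ≤ n) {a b : Fin n} (hab : a.val + 1 = b.val) {s : K} (hs : s ≠ 0)
    {v : St K n} (hv : v ∈ Uk K a b) : w a b s * v * (w a b s)⁻¹ ∈ U K n := by
  have hne : a ≠ b := fun h => by rw [h] at hab; omega
  have hM := Mon_w (K := K) hn hne hs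
  refine closure_ind_left (p := fun v => w a b s * v * (w a b s)⁻¹ ∈ U K n) rootSet_inv (by simp [one_mem]) ?_ hv
  rintro x ⟨c, e, r, ⟨hce, h1⟩, rfl⟩ y hy
  have e1 : w a b s * (X c e r * y) * (w a b s)⁻¹ =
      (w a b s * X c e r * (w a b s)⁻¹) * (w a b s * y * (w a b s)⁻¹) := by group
  rw [e1, hM.2]
  exact mul_mem (X_mem_rootGrp (swap_adj_lt hab hce h1) _) hy

/-- the big cell decomposition set `U W U` -/
def Y (K : Type*) [Field K] (n : ℕ) : Set (St K n) :=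
  {g | ∃ u ∈ U K n, ∃ w' ∈ W K n, ∃ u' ∈ U K n, g = u * w' * u'}

theorem Y_mul_left {u g : St K n} (hu : u ∈ U K n) (hg : g ∈ Y K n) : u * g ∈ Y K n := by
  obtain ⟨u1, hu1, w', hw', u2, hu2, rfl⟩ := hg
  exact ⟨u * u1, mul_mem hu hu1, w', hw', u2, hu2, by group⟩

theorem Y_mul_right {u g : St K n} (hu : u ∈ U K n) (hg : g ∈ Y K n) : g * u ∈ Y K n := by
  obtain ⟨u1, hu1, w', hw', u2, hu2, rfl⟩ := hg
  exact ⟨u1, hu1, w', hw', u2 * u, mul_mem hu2 hu, by group⟩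

theorem W_sub_Y {g : St K n} (hg : g ∈ W K n) : g ∈ Y K n :=
  ⟨1, one_mem _, g, hg, 1, one_mem _, by group⟩

/-- `x_ba(t) = x_ab(t⁻¹) w_ab(-t⁻¹) x_ab(t⁻¹)` -/
theorem X_eq_w {a b : Fin n} {t : K} (_ht : t ≠ 0) :
    (X b a t : St K n) = X a b t⁻¹ * w a b (-t⁻¹) * X a b t⁻¹ := by
  unfold w
  have e1 : -(-t⁻¹)⁻¹ = t := by rw [inv_neg, inv_inv, neg_neg]
  rw [e1]
  have e2 : X a b t⁻¹ * (X a b (-t⁻¹) * X b a t * X a b (-t⁻¹)) * X a b t⁻¹ =
      (X a b t⁻¹ * X a b (-t⁻¹)) * X b a t * (X a b (-t⁻¹) * X a b t⁻¹) := by group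
  rw [e2, X_add, X_add, add_neg_cancel, neg_add_cancel, X_zero, one_mul, mul_one]

theorem step_mem_Y (hn : 3 ≤ n) {a b : Fin n} (hab : a.val + 1 = b.val) {s : K} (hs : s ≠ 0)
    {w' : St K n} (hw' : w' ∈ W K n) (t : K) : w a b s * X a b t * w' ∈ Y K n := by
  have hlt : a < b := Fin.lt_def.mpr (by omega)
  have hne : a ≠ b := ne_of_lt hlt
  obtain ⟨π, d, hM⟩ := exists_Mon_of_mem_W hn hw'
  have hMi := hM.inv
  have hab' : π⁻¹ a ≠ π⁻¹ b := fun h => hne (π⁻¹.injective h)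
  obtain ⟨m, ham, hbm⟩ := exists_third hn a b
  rcases lt_or_gt_of_ne hab' with hlt' | hgt'
  · -- the root stays positive
    have e1 : w a b s * X a b t * w' = (w a b s * w') * (w'⁻¹ * X a b t * w'⁻¹⁻¹) := by group
    rw [e1, hMi.2]
    exact Y_mul_right (X_mem_rootGrp hlt' _) (W_sub_Y (mul_mem (w_mem_W hne hs) hw'))
  · by_cases ht : t = 0
    · rw [ht, X_zero, mul_one]
      exact W_sub_Y (mul_mem (w_mem_W hne hs) hw')
    · have e0 : w a b s * X a b t = X b a (-(s⁻¹ * s⁻¹) * t) * w a b s := by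
        rw [← w_conj_F hne ham hbm hs]; group
      have ht2 : -(s⁻¹ * s⁻¹) * t ≠ 0 :=
        mul_ne_zero (neg_ne_zero.mpr (mul_ne_zero (inv_ne_zero hs) (inv_ne_zero hs))) ht
      set t2 := -(s⁻¹ * s⁻¹) * t with ht2def
      -- conjugate x_ab(r) by (w_ab(s) w')⁻¹
      have hconj : ∀ r : K, ∃ r' : K, X a b r * (w a b s * w') = (w a b s * w') * X (π⁻¹ b) (π⁻¹ a) r' := by
        intro r
        have e3 : (w a b s)⁻¹ * X a b r * (w a b s)⁻¹⁻¹ = (X b a (-(s⁻¹ * s⁻¹) * r) : St K n) := by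
          rw [w_inv, w_conj_F hne ham hbm (neg_ne_zero.mpr hs)]
          congr 1
          rw [inv_neg]; ring
        refine ⟨(d (π⁻¹ b))⁻¹ / (d (π⁻¹ a))⁻¹ * (-(s⁻¹ * s⁻¹) * r), ?_⟩
        have e4 : X a b r * (w a b s * w') =
            (w a b s * w') * (w'⁻¹ * ((w a b s)⁻¹ * X a b r * (w a b s)⁻¹⁻¹) * w'⁻¹⁻¹) := by group
        rw [e4, e3, hMi.2]
      obtain ⟨r', hr'⟩ := hconj t2⁻¹
      have e5 : w a b s * X a b t * w' =
          X a b t2⁻¹ * (w a b (-t2⁻¹) * (w a b s * w')) * X (π⁻¹ b) (π⁻¹ a) r' := by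
        rw [e0, X_eq_w ht2]
        have : X a b t2⁻¹ * w a b (-t2⁻¹) * X a b t2⁻¹ * w a b s * w' =
            X a b t2⁻¹ * w a b (-t2⁻¹) * (X a b t2⁻¹ * (w a b s * w')) := by group
        rw [this, hr']
        group
      rw [e5]
      refine ⟨X a b t2⁻¹, X_mem_rootGrp hlt _, _, ?_, _, X_mem_rootGrp hgt' _, rfl⟩
      exact mul_mem (w_mem_W hne (neg_ne_zero.mpr (inv_ne_zero ht2))) (mul_mem (w_mem_W hne hs) hw')

theorem w_mul_mem_Y (hn : 3 ≤ n) {a b : Fin n} (hab : a.val + 1 = b.val) {s : K} (hs : s ≠ 0)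
    {g : St K n} (hg : g ∈ Y K n) : w a b s * g ∈ Y K n := by
  obtain ⟨u, hu, w', hw', u', hu', rfl⟩ := hg
  obtain ⟨v, hv, t, rfl⟩ := U_decomp hab hu
  have e1 : w a b s * (v * X a b t * w' * u') =
      (w a b s * v * (w a b s)⁻¹) * (w a b s * X a b t * w') * u' := by group
  rw [e1]
  exact Y_mul_right hu' (Y_mul_left (Uk_conj hn hab hs hv) (step_mem_Y hn hab hs hw' t))

end Cfsg.Agent.Lib.H1.StSL
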