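import Mathlib
import Cfsg.Agent.Lib.H1.StSLf

set_option autoImplicit false

/-!
# The kernel of `St_n(K) → SL_n(K)` is central and contained in `W`
-/

namespace Cfsg.Agent.Lib.H1.StSL

open Matrix

variable {K : Type*} [Field K] {n : ℕ}

/-- every root element lies in the subgroup generated by `U` and the simple `w`'s -/
def S0 (K : Type*) [Field K] (n : ℕ) : Set (St K n) :=
  rootSet K (fun c e : Fin n => c < e) ∪ {g | ∃ a b : Fin n, ∃ s : K, a.val + 1 = b.val ∧ s ≠ 0 ∧ g = w a b s}

theorem S0_inv : ∀ x ∈ S0 K n, x⁻¹ ∈ S0 K n := by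
  rintro x (hx | ⟨a, b, s, hab, hs, rfl⟩)
  · exact Or.inl (rootSet_inv x hx)
  · exact Or.inr ⟨a, b, -s, hab, neg_ne_zero.mpr hs, w_inv a b s⟩

theorem X_mem_closure_S0 (hn : 3 ≤ n) : ∀ k : ℕ, ∀ c e : Fin n, c.val = e.val + k → ∀ t : K,
    X c e t ∈ Subgroup.closure (S0 K n) := by
  intro k
  induction k using Nat.strong_induction_on with
  | _ k ih =>
    intro c e hk t
    rcases Nat.eq_zero_or_pos k with rfl | hpos
    · have : c = e := Fin.ext (by omega)
      subst this
      rw [X_self]; exact one_mem _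
    by_cases h1 : k = 1
    · subst h1
      have hne : e ≠ c := fun h => by rw [h] at hk; omega
      obtain ⟨m, hem, hcm⟩ := exists_third hn e c
      have e1 := w_conj_F (K := K) hne hem hcm one_ne_zero (-t)
      have e2 : (X c e t : St K n) = w e c 1 * X e c (-t) * (w e c 1)⁻¹ := by
        rw [e1]; congr 1; simp
      rw [e2]
      have hw : w e c (1 : K) ∈ Subgroup.closure (S0 K n) :=
        Subgroup.subset_closure (Or.inr ⟨e, c, 1, hk.symm, one_ne_zero, rfl⟩)
      have hx : X e c (-t) ∈ Subgroup.closure (S0 K n) :=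
        Subgroup.subset_closure (Or.inl ⟨e, c, -t, Fin.lt_def.mpr (by omega), rfl⟩)
      exact mul_mem (mul_mem hw hx) (inv_mem hw)
    · -- k ≥ 2
      have hc1 : c.val - 1 < n := by omega
      let c' : Fin n := ⟨c.val - 1, hc1⟩
      have hc'v : c'.val = c.val - 1 := rfl
      have hcc' : c ≠ c' := fun h => by
        have := congrArg Fin.val h
        omega
      have hc'e : c' ≠ e := fun h => by
        have := congrArg Fin.val h
        omega
      have hce : c ≠ e := fun h => by
        have := congrArg Fin.val h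
        omega
      have e1 := X_comm_mul (K := K) hcc' hc'e hce t 1
      rw [mul_one] at e1
      rw [← e1]
      have h1' := ih 1 (by omega) c c' (by omega) t
      have h2' := ih (k - 1) (by omega) c' e (by omega) (1 : K)
      exact mul_mem (mul_mem (mul_mem h1' h2') (inv_mem h1')) (inv_mem h2')

theorem closure_S0 (hn : 3 ≤ n) : Subgroup.closure (S0 K n) = ⊤ := by
  rw [eq_top_iff, ← PresentedGroup.closure_range_of, Subgroup.closure_le]
  rintro _ ⟨⟨⟨⟨c, e⟩, hce⟩, t⟩, rfl⟩
  simp only at hce
  rw [← X_of hce]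
  rcases lt_or_gt_of_ne hce with h | h
  · exact Subgroup.subset_closure (Or.inl ⟨c, e, t, h, rfl⟩)
  · exact X_mem_closure_S0 hn (c.val - e.val) c e (by have : e.val < c.val := h; omega) t

/-- the Bruhat decomposition -/
theorem mem_Y (hn : 3 ≤ n) (g : St K n) : g ∈ Y K n := by
  have hg : g ∈ Subgroup.closure (S0 K n) := by rw [closure_S0 hn]; trivial
  have key : ∀ y ∈ Y K n, g * y ∈ Y K n := by
    refine closure_ind_left (p := fun g => ∀ y ∈ Y K n, g * y ∈ Y K n) S0_inv (by simp) ?_ hg
    rintro x hx z hz y hy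
    rw [mul_assoc]
    rcases hx with hx | ⟨a, b, s, hab, hs, rfl⟩
    · exact Y_mul_left (Subgroup.subset_closure hx) (hz y hy)
    · exact w_mul_mem_Y hn hab hs (hz y hy)
  have := key 1 (W_sub_Y (one_mem _))
  rwa [mul_one] at this

/-- matrices of elements of `U` are upper unitriangular -/
theorem U_entries {u : St K n} (hu : u ∈ U K n) :
    (∀ i k, k < i → Mx u i k = 0) ∧ ∀ i, Mx u i i = 1 := by
  refine closure_ind_left (p := fun u => (∀ i k, k < i → Mx u i k = 0) ∧ ∀ i, Mx u i i = 1)
    rootSet_inv ?_ ?_ hu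
  · rw [Mx_one]
    exact ⟨fun i k h => one_apply_ne (ne_of_gt h), fun i => one_apply_eq i⟩
  · rintro x ⟨c, e, t, hce, rfl⟩ y ⟨h1, h2⟩
    have hne : c ≠ e := ne_of_lt hce
    rw [Mx_mul, Mx_X hne]
    refine ⟨fun i k hki => ?_, fun i => ?_⟩
    · by_cases hic : i = c
      · subst hic
        rw [transvection_mul_apply_same, h1 _ _ hki, h1 _ _ (lt_trans hki hce), mul_zero, add_zero]
      · rw [transvection_mul_apply_of_ne _ _ _ _ hic, h1 _ _ hki]
    · by_cases hic : i = c
      · subst hic
        rw [transvection_mul_apply_same, h2, h1 _ _ hce, mul_zero, add_zero]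
      · rw [transvection_mul_apply_of_ne _ _ _ _ hic, h2]

theorem perm_eq_one_of_lt {π : Equiv.Perm (Fin n)} (h : ∀ c e : Fin n, c < e → π c < π e) : π = 1 := by
  have h1 : StrictMono π := fun c e hce => h c e hce
  have h2 : StrictMono (π⁻¹ : Equiv.Perm (Fin n)) := by
    intro c e hce
    by_contra hnot
    rw [not_lt] at hnot
    rcases eq_or_lt_of_le hnot with heq | hlt
    · exact absurd ((π⁻¹).injective heq) (ne_of_gt hce)
    · have := h _ _ hlt
      rw [perm_apply_inv, perm_apply_inv] at this
      exact absurd this (not_lt.mpr (le_of_lt hce))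
  ext a
  have e1 := h1.id_le a
  have e2 := h2.id_le (π a)
  simp only [id] at e1 e2
  rw [perm_inv_apply] at e2
  rw [Equiv.Perm.one_apply]
  exact congrArg Fin.val (le_antisymm e2 e1)

theorem central_of_comm_X {g : St K n} (h : ∀ c e : Fin n, ∀ t : K, g * X c e t = X c e t * g) :
    g ∈ Subgroup.center (St K n) := by
  rw [Subgroup.mem_center_iff]
  intro y
  have hy : y ∈ Subgroup.closure (Set.range (PresentedGroup.of : Idx n × K → St K n)) := by
    rw [PresentedGroup.closure_range_of]; trivial
  induction hy using Subgroup.closure_induction with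
  | mem x hx =>
    obtain ⟨⟨⟨⟨c, e⟩, hce⟩, t⟩, rfl⟩ := hx
    simp only at hce
    rw [← X_of hce]
    exact (h c e t).symm
  | one => simp
  | mul x y _ _ hx hy => rw [mul_assoc, hy, ← mul_assoc, hx, mul_assoc]
  | inv x _ hx =>
    have : g = x * g * x⁻¹ := by rw [hx]; group
    calc x⁻¹ * g = x⁻¹ * (x * g * x⁻¹) := by rw [← this]
      _ = g * x⁻¹ := by group

/-- the kernel of `St_n(K) → SL_n(K)` is central and contained in `W` -/
theorem ker_central (hn : 3 ≤ n) {z : St K n} (hz : toSL z = 1) :
    z ∈ Subgroup.center (St K n) ∧ z ∈ W K n := by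
  obtain ⟨u, hu, w', hw', u', hu', rfl⟩ := mem_Y hn z
  obtain ⟨π, d, hM⟩ := exists_Mon_of_mem_W hn hw'
  -- the matrix of w' is that of an element of U
  set u'' := u⁻¹ * u'⁻¹ with hu''def
  have hu'' : u'' ∈ U K n := mul_mem (inv_mem hu) (inv_mem hu')
  have hB : toSL w' = toSL u'' := by
    have : toSL w' = (toSL u)⁻¹ * toSL (u * w' * u') * (toSL u')⁻¹ := by
      simp only [map_mul]; group
    rw [this, hz, hu''def, map_mul, map_inv, map_inv]; group
  have hBM : Mx w' = Mx u'' := by unfold Mx; rw [hB]
  obtain ⟨ht1, ht2⟩ := U_entries hu''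
  -- π preserves the order
  have hπ : π = 1 := by
    apply perm_eq_one_of_lt
    intro c e hce
    have hne : c ≠ e := ne_of_lt hce
    have hne' : π c ≠ π e := fun h => hne (π.injective h)
    have hk : d c / d e ≠ 0 := div_ne_zero (hM.1 c) (hM.1 e)
    by_contra hnot
    have hlt : π e < π c := lt_of_le_of_ne (not_lt.mp hnot) hne'.symm
    -- the element u'' x_ce(1) u''⁻¹ of U has the matrix of x_{πc,πe}(k)
    have hmem : u'' * X c e 1 * u''⁻¹ ∈ U K n := mul_mem (mul_mem hu'' (X_mem_rootGrp hce _)) (inv_mem hu'')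
    have hmat : Mx (u'' * X c e 1 * u''⁻¹) = Mx (X (π c) (π e) (d c / d e * 1) : St K n) := by
      rw [← hM.2]
      unfold Mx
      simp only [map_mul, map_inv, hB]
    have := (U_entries hmem).1 (π c) (π e) hlt
    rw [hmat, Mx_X hne', mul_one, transvection, Matrix.add_apply, one_apply_ne hne', zero_add,
      single_apply_same] at this
    exact hk this
  subst hπ
  -- the coefficients are trivial
  have hd : ∀ c e : Fin n, d c / d e = 1 := by
    intro c e
    by_cases hne : c = e
    · rw [hne, div_self (hM.1 e)]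
    have h1 := hM.2 c e 1
    simp only [Equiv.Perm.one_apply, mul_one] at h1
    have h2 : Mx w' * Mx (X c e 1 : St K n) = Mx (X c e (d c / d e) : St K n) * Mx w' := by
      rw [← Mx_mul, ← Mx_mul, ← h1]
      congr 1; group
    rw [Mx_X hne, Mx_X hne, hBM] at h2
    have h3 := congrFun (congrFun h2 c) e
    rw [mul_transvection_apply_same, transvection_mul_apply_same, ht2, ht2] at h3
    have : (1 : K) = d c / d e := by
      have := add_left_cancel h3
      simpa using this
    exact this.symm
  have hcomm : ∀ c e : Fin n, ∀ t : K, w' * X c e t = X c e t * w' := by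
    intro c e t
    have h1 := hM.2 c e t
    simp only [Equiv.Perm.one_apply, hd c e, one_mul] at h1
    calc w' * X c e t = (w' * X c e t * w'⁻¹) * w' := by group
      _ = X c e t * w' := by rw [h1]
  have hw'c : w' ∈ Subgroup.center (St K n) := central_of_comm_X hcomm
  -- the matrix of w' is trivial
  have hB1 : Mx w' = 1 := by
    ext a c
    by_cases hac : a = c
    · subst hac; rw [hBM, ht2, one_apply_eq]
    · rw [one_apply_ne hac]
      have h2 : Mx w' * Mx (X c a 1 : St K n) = Mx (X c a 1 : St K n) * Mx w' := by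
        rw [← Mx_mul, ← Mx_mul, hcomm]
      rw [Mx_X (Ne.symm hac)] at h2
      have h3 := congrFun (congrFun h2 a) a
      rw [mul_transvection_apply_same, transvection_mul_apply_of_ne _ _ _ _ hac] at h3
      have : (1 : K) * Mx w' a c = 0 := by
        have := add_left_cancel (a := Mx w' a a) (b := 1 * Mx w' a c) (c := 0) (by rw [add_zero]; exact h3)
        exact this
      simpa using this
  have hw1 : toSL w' = 1 := (Mx_eq_one_iff w').mp hB1
  have huu : toSL (u * u') = 1 := by
    have : toSL (u * w' * u') = toSL u * toSL w' * toSL u' := by simp only [map_mul]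
    rw [this, hw1, mul_one] at hz
    rw [map_mul, hz]
  have huu1 : u * u' = 1 := U_inj (mul_mem hu hu') huu
  have hz' : u * w' * u' = w' := by
    rw [Subgroup.mem_center_iff] at hw'c
    rw [hw'c u, mul_assoc, huu1, mul_one]
  rw [hz']
  exact ⟨hw'c, hw'⟩

end Cfsg.Agent.Lib.H1.StSL
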