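import Mathlib
import Cfsg.Agent.Lib.H1.StSLg
import Cfsg.Agent.Lib.H29.ChevStR1

set_option autoImplicit false

/-!
# The torus elements `h_ab(t)` of the Steinberg group over a finite field
-/

namespace Cfsg.Agent.Lib.H1.StSL

open Matrix
open Cfsg.Agent.Lib.H29.Chev

variable {K : Type*} [Field K] {n : ℕ}

/-- `h_ab(t) = w_ab(t) w_ab(-1)` -/
noncomputable def hh (a b : Fin n) (t : K) : St K n := w a b t * w a b (-1)

theorem w_eq_Rk1 (a b : Fin n) (t : K) :
    (w a b t : St K n) = Rk1.w (fun r => (X a b r : St K n)) (fun r => X b a r) t := rfl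

theorem hh_eq_Rk1 (a b : Fin n) (t : K) :
    (hh a b t : St K n) = Rk1.h (fun r => (X a b r : St K n)) (fun r => X b a r) t := rfl

theorem Ax_pair (hn : 3 ≤ n) {a b : Fin n} (hab : a ≠ b) :
    Rk1.Ax (fun r => (X a b r : St K n)) (fun r => X b a r) := by
  obtain ⟨m, ham, hbm⟩ := exists_third hn a b
  refine ⟨fun r s => X_add r s, fun r s => X_add r s, fun t ht u => ?_, fun t ht u => ?_⟩
  · exact w_conj_F hab ham hbm ht u
  · exact w_conj_G hab ham hbm ht u

/-- the coefficients of `h_ab(t)` -/
def hd (a b : Fin n) (t : K) : Fin n → K := fun i => if i = a then t else if i = b then t⁻¹ else 1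

theorem hd_ne_zero {a b : Fin n} {t : K} (ht : t ≠ 0) (i : Fin n) : hd a b t i ≠ 0 := by
  unfold hd
  split_ifs
  · exact ht
  · exact inv_ne_zero ht
  · exact one_ne_zero

theorem hd_mul (a b : Fin n) (t u : K) (i : Fin n) : hd a b (t * u) i = hd a b t i * hd a b u i := by
  unfold hd
  split_ifs
  · rfl
  · rw [mul_inv]
  · rw [one_mul]

theorem Mon_h (hn : 3 ≤ n) {a b : Fin n} (hab : a ≠ b) {t : K} (ht : t ≠ 0) :
    Mon (hh a b t : St K n) 1 (hd a b t) := by
  have h1 := (Mon_w (K := K) hn hab ht).mul (Mon_w hn hab (neg_ne_zero.mpr (one_ne_zero (α := K))))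
  have e1 : Equiv.swap a b * Equiv.swap a b = 1 := Equiv.swap_mul_self a b
  have e2 : (fun c => wd a b (-1 : K) c * wd a b t (Equiv.swap a b c)) = hd a b t := by
    funext c
    unfold wd hd
    by_cases hca : c = a
    · subst hca
      simp [hab, hab.symm]
    · by_cases hcb : c = b
      · subst hcb
        simp [hab, hab.symm]
      · simp [hca, hcb, Equiv.swap_apply_of_ne_of_ne hca hcb]
  rw [e1, e2] at h1
  exact h1

theorem Mon_one_comm {g : St K n} {π : Equiv.Perm (Fin n)} {d : Fin n → K} (h : Mon g π d) (hπ : π = 1)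
    (hd1 : ∀ c e, d c / d e = 1) (c e : Fin n) (t : K) : g * X c e t = X c e t * g := by
  subst hπ
  have h1 := h.2 c e t
  simp only [Equiv.Perm.one_apply, hd1 c e, one_mul] at h1
  calc g * X c e t = (g * X c e t * g⁻¹) * g := by group
    _ = X c e t * g := by rw [h1]

/-- the defects of multiplicativity are central -/
theorem f_central (hn : 3 ≤ n) {a b : Fin n} (hab : a ≠ b) {t u : K} (ht : t ≠ 0) (hu : u ≠ 0) (g : St K n) :
    g * (hh a b t * hh a b u * (hh a b (t * u))⁻¹) = (hh a b t * hh a b u * (hh a b (t * u))⁻¹) * g := by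
  have hM := ((Mon_h (K := K) hn hab ht).mul (Mon_h hn hab hu)).mul (Mon_h hn hab (mul_ne_zero ht hu)).inv
  have hc := central_of_comm_X (Mon_one_comm hM (by simp) (fun c e => ?_))
  · rw [Subgroup.mem_center_iff] at hc
    exact hc g
  · simp only [inv_one, Equiv.Perm.one_apply]
    have h1 := hd_ne_zero (a := a) (b := b) ht c
    have h2 := hd_ne_zero (a := a) (b := b) ht e
    have h3 := hd_ne_zero (a := a) (b := b) hu c
    have h4 := hd_ne_zero (a := a) (b := b) hu e
    rw [hd_mul, hd_mul]
    field_simp

/-- over a finite field the elements `h_ab(t)` are multiplicative in `t` -/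
theorem hh_mul [Finite K] (hn : 3 ≤ n) {a b : Fin n} (hab : a ≠ b) {t u : K} (ht : t ≠ 0) (hu : u ≠ 0) :
    (hh a b t * hh a b u : St K n) = hh a b (t * u) := by
  have hcen : ∀ t u : K, t ≠ 0 → u ≠ 0 → ∀ g : St K n,
      g * Rk1.f (fun r => (X a b r : St K n)) (fun r => X b a r) t u =
        Rk1.f (fun r => (X a b r : St K n)) (fun r => X b a r) t u * g := by
    intro t u ht hu g
    exact f_central hn hab ht hu g
  exact Rk1.h_mul (Ax_pair hn hab) hcen t u ht hu

theorem hh_one (hn : 3 ≤ n) {a b : Fin n} (hab : a ≠ b) : (hh a b 1 : St K n) = 1 :=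
  Rk1.h_one (Ax_pair hn hab)

theorem hh_self (a : Fin n) (t : K) : (hh a a t : St K n) = 1 := by
  unfold hh w; simp [X_self]

/-- the matrix of `w_ab(s)` -/
theorem Mx_w {a b : Fin n} (hab : a ≠ b) {s : K} (hs : s ≠ 0) :
    Mx (w a b s : St K n) =
      Matrix.of (fun i k : Fin n => if i = a then (if k = b then s else 0) else
        if i = b then (if k = a then -s⁻¹ else 0) else if i = k then 1 else 0) := by
  unfold w
  rw [Mx_mul, Mx_mul, Mx_X hab, Mx_X hab.symm, Matrix.mul_assoc]
  ext i k
  by_cases hia : i = a
  · subst hia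
    rw [transvection_mul_apply_same, transvection_mul_apply_of_ne _ _ _ _ hab, transvection_mul_apply_same]
    simp only [transvection, Matrix.add_apply, Matrix.one_apply, Matrix.single_apply, of_apply, if_true]
    by_cases hkb : k = b
    · subst hkb
      simp [hab, hab.symm]
      right
      field_simp
      ring
    · by_cases hka : k = i
      · subst hka
        simp [hab, hab.symm, hkb]
        field_simp
        ring
      · simp [hab, hab.symm, hkb, hka, Ne.symm hka, Ne.symm hkb]
  · by_cases hib : i = b
    · subst hib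
      rw [transvection_mul_apply_of_ne _ _ _ _ hia, transvection_mul_apply_same]
      simp only [transvection, Matrix.add_apply, Matrix.one_apply, Matrix.single_apply, of_apply, if_neg hia, if_true]
      by_cases hka : k = a
      · subst hka
        simp [hab, hab.symm]
      · by_cases hkb : k = i
        · subst hkb
          simp [hab, hab.symm, hka]
          field_simp
          ring
        · simp [hab, hab.symm, hka, hkb, Ne.symm hka, Ne.symm hkb]
    · rw [transvection_mul_apply_of_ne _ _ _ _ hia, transvection_mul_apply_of_ne _ _ _ _ hib]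
      simp only [transvection, Matrix.add_apply, Matrix.one_apply, Matrix.single_apply, of_apply, if_neg hia, if_neg hib]
      simp [Ne.symm hia, Ne.symm hib]

/-- the matrix of `h_ab(t)` -/
theorem Mx_h {a b : Fin n} (hab : a ≠ b) {t : K} (ht : t ≠ 0) :
    Mx (hh a b t : St K n) = Matrix.diagonal (hd a b t) := by
  unfold hh
  rw [Mx_mul, Mx_w hab ht, Mx_w hab (neg_ne_zero.mpr (one_ne_zero (α := K)))]
  ext i k
  rw [Matrix.mul_apply]
  simp only [of_apply]
  by_cases hia : i = a
  · subst hia
    rw [Finset.sum_eq_single b]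
    · by_cases hki : k = i
      · subst hki
        simp [hab, hab.symm, hd]
      · simp [hab, hab.symm, hd, hki, Ne.symm hki, Matrix.diagonal_apply_ne]
    · intro j _ hj
      simp [hj]
    · intro h; exact absurd (Finset.mem_univ _) h
  · by_cases hib : i = b
    · subst hib
      rw [Finset.sum_eq_single a]
      · by_cases hki : k = i
        · subst hki
          simp [hab, hab.symm, hd, hia]
        · simp [hab, hab.symm, hd, hki, Ne.symm hki, hia, Matrix.diagonal_apply_ne]
      · intro j _ hj
        simp [hj, hia]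
      · intro h; exact absurd (Finset.mem_univ _) h
    · rw [Finset.sum_eq_single i]
      · by_cases hki : k = i
        · subst hki
          simp [hd, hia, hib]
        · simp [hd, hki, Ne.symm hki, hia, hib, Matrix.diagonal_apply_ne]
      · intro j _ hj
        simp [hia, hib, Ne.symm hj]
      · intro h; exact absurd (Finset.mem_univ _) h

end Cfsg.Agent.Lib.H1.StSL
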