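import Mathlib
import Cfsg.Agent.Lib.H1.StSLh

set_option autoImplicit false

/-!
# The torus of the Steinberg group over a finite field maps injectively to `SL_n`
-/

namespace Cfsg.Agent.Lib.H1.StSL

open Matrix
open Cfsg.Agent.Lib.H29.Chev

variable {K : Type*} [Field K] {n : ℕ}

/-- `w_ba(-s⁻¹) = w_ab(s)` -/
theorem w_swap (hn : 3 ≤ n) {a b : Fin n} (hab : a ≠ b) {s : K} (hs : s ≠ 0) :
    (w b a (-s⁻¹) : St K n) = w a b s := by
  have h1 := Rk1.wm_eq (Ax_pair (K := K) hn hab) s hs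
  rw [← w_eq_Rk1] at h1
  rw [← h1]
  unfold w
  rw [inv_neg, inv_inv, neg_neg]

theorem w_eq_hh (a b : Fin n) (s : K) : (w a b s : St K n) = hh a b s * w a b 1 := by
  have e : (w a b 1 : St K n) = (w a b (-1))⁻¹ := by rw [w_inv, neg_neg]
  rw [e]
  unfold hh
  group

theorem hh_inv [Finite K] (hn : 3 ≤ n) (a b : Fin n) {t : K} (ht : t ≠ 0) :
    (hh a b t : St K n)⁻¹ = hh a b t⁻¹ := by
  by_cases hab : a = b
  · subst hab; rw [hh_self, hh_self, inv_one]
  · apply inv_eq_of_mul_eq_one_right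
    rw [hh_mul hn hab ht (inv_ne_zero ht), mul_inv_cancel₀ ht, hh_one hn hab]

/-- conjugating `h_ce(t)` by a monomially acting element -/
theorem conj_hh [Finite K] (hn : 3 ≤ n) {g : St K n} {π : Equiv.Perm (Fin n)} {d : Fin n → K} (h : Mon g π d)
    {c e : Fin n} (hce : c ≠ e) {t : K} (ht : t ≠ 0) : g * hh c e t * g⁻¹ = hh (π c) (π e) t := by
  have hne : π c ≠ π e := fun h' => hce (π.injective h')
  have hk : d c / d e ≠ 0 := div_ne_zero (h.1 c) (h.1 e)
  have e1 : g * hh c e t * g⁻¹ = (g * w c e t * g⁻¹) * (g * w c e (-1) * g⁻¹) := by unfold hh; group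
  rw [e1, h.conj_w, h.conj_w]
  have e2 : hh (π c) (π e) (t * (d c / d e)) * (hh (π c) (π e) (d c / d e))⁻¹ =
      (w (π c) (π e) (d c / d e * t) * w (π c) (π e) (d c / d e * -1) : St K n) := by
    unfold hh
    rw [mul_comm t (d c / d e), mul_neg_one (d c / d e), ← w_inv (π c) (π e) (d c / d e)]
    group
  rw [← e2, ← hh_mul hn hne ht hk]
  group

theorem hh_comm [Finite K] (hn : 3 ≤ n) (a b c e : Fin n) {t u : K} (ht : t ≠ 0) (hu : u ≠ 0) :
    (hh a b t * hh c e u : St K n) = hh c e u * hh a b t := by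
  by_cases hab : a = b
  · subst hab; rw [hh_self, one_mul, mul_one]
  by_cases hce : c = e
  · subst hce; rw [hh_self, one_mul, mul_one]
  have h1 := conj_hh hn (Mon_h (K := K) hn hab ht) hce hu
  simp only [Equiv.Perm.one_apply] at h1
  calc hh a b t * hh c e u = (hh a b t * hh c e u * (hh a b t)⁻¹) * hh a b t := by group
    _ = hh c e u * hh a b t := by rw [h1]

/-- `h_ba(t) = h_ab(t)⁻¹` -/
theorem hh_symm [Finite K] (hn : 3 ≤ n) (a b : Fin n) {t : K} (ht : t ≠ 0) :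
    (hh b a t : St K n) = (hh a b t)⁻¹ := by
  by_cases hab : a = b
  · subst hab; rw [hh_self, inv_one]
  have h1 := conj_hh hn (Mon_w (K := K) hn hab one_ne_zero) hab ht
  rw [Equiv.swap_apply_left, Equiv.swap_apply_right] at h1
  rw [← h1, hh_inv hn a b ht]
  have h2 := Rk1.w1_conj_h (Ax_pair (K := K) hn hab) t ht
  rw [← w_eq_Rk1, ← hh_eq_Rk1, ← hh_eq_Rk1] at h2
  exact h2

/-- `h_ac(t) = h_ab(t) h_bc(t)` -/
theorem hh_trans [Finite K] (hn : 3 ≤ n) {a b c : Fin n} (hab : a ≠ b) (hbc : b ≠ c) (hac : a ≠ c)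
    {t : K} (ht : t ≠ 0) : (hh a c t : St K n) = hh a b t * hh b c t := by
  have h1 := conj_hh hn (Mon_w (K := K) hn hbc one_ne_zero) hab ht
  rw [Equiv.swap_apply_left, Equiv.swap_apply_of_ne_of_ne hab hac] at h1
  rw [← h1]
  have hMi := (Mon_h (K := K) hn hab ht).inv
  have h2 := hMi.conj_w b c 1
  simp only [inv_one, Equiv.Perm.one_apply, mul_one] at h2
  have h3 : (hd a b t b)⁻¹ / (hd a b t c)⁻¹ = t := by
    unfold hd
    simp [hab.symm, hac.symm, hbc.symm]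
  rw [h3, inv_inv] at h2
  have e1 : w b c 1 * hh a b t * (w b c 1)⁻¹ =
      hh a b t * ((hh a b t)⁻¹ * w b c 1 * hh a b t) * (w b c (1:K))⁻¹ := by group
  rw [e1, h2, w_inv, mul_assoc]
  rfl

/-- the generators of the torus indexed by `S` -/
def HSset (K : Type*) [Field K] {n : ℕ} (j0 : Fin n) (S : Finset (Fin n)) : Set (St K n) :=
  {g | ∃ j ∈ S, ∃ t : K, t ≠ 0 ∧ g = hh j j0 t}

/-- the part of the torus indexed by `S` -/
def HS (K : Type*) [Field K] {n : ℕ} (j0 : Fin n) (S : Finset (Fin n)) : Subgroup (St K n) :=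
  Subgroup.closure (HSset K j0 S)

theorem HSset_inv [Finite K] (hn : 3 ≤ n) (j0 : Fin n) (S : Finset (Fin n)) :
    ∀ x ∈ HSset K j0 S, x⁻¹ ∈ HSset K j0 S := by
  rintro x ⟨j, hj, t, ht, rfl⟩
  exact ⟨j, hj, t⁻¹, inv_ne_zero ht, hh_inv hn j j0 ht⟩

theorem HS_mono (j0 : Fin n) {S T : Finset (Fin n)} (h : S ⊆ T) : HS K j0 S ≤ HS K j0 T := by
  apply Subgroup.closure_mono
  rintro x ⟨j, hj, t, ht, rfl⟩
  exact ⟨j, h hj, t, ht, rfl⟩

theorem hh_mem_HS {j0 : Fin n} {S : Finset (Fin n)} {j : Fin n} (hj : j ∈ S) {t : K} (ht : t ≠ 0) :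
    hh j j0 t ∈ HS K j0 S := Subgroup.subset_closure ⟨j, hj, t, ht, rfl⟩

theorem HS_decomp [Finite K] (hn : 3 ≤ n) (j0 : Fin n) (S : Finset (Fin n)) (m : Fin n) {h : St K n}
    (hh' : h ∈ HS K j0 (insert m S)) : ∃ t : K, t ≠ 0 ∧ ∃ h' ∈ HS K j0 S, h = hh m j0 t * h' := by
  refine closure_ind_left (p := fun h => ∃ t : K, t ≠ 0 ∧ ∃ h' ∈ HS K j0 S, h = hh m j0 t * h')
    (HSset_inv hn j0 _) ⟨1, one_ne_zero, 1, one_mem _, ?_⟩ ?_ hh'
  · by_cases hm : m = j0
    · subst hm; rw [hh_self, one_mul]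
    · rw [hh_one hn hm, one_mul]
  · rintro x ⟨j, hj, s, hs, rfl⟩ y ⟨t, ht, h', hh'', rfl⟩
    rcases Finset.mem_insert.mp hj with rfl | hjS
    · refine ⟨s * t, mul_ne_zero hs ht, h', hh'', ?_⟩
      by_cases hm : j = j0
      · subst hm; simp only [hh_self, one_mul]
      · rw [← mul_assoc, hh_mul hn hm hs ht]
    · refine ⟨t, ht, hh j j0 s * h', mul_mem (hh_mem_HS hjS hs) hh'', ?_⟩
      rw [← mul_assoc, hh_comm hn j j0 m j0 hs ht, mul_assoc]

theorem HS_diag (j0 : Fin n) (S : Finset (Fin n)) {h : St K n} (hh' : h ∈ HS K j0 S) :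
    ∃ δ : Fin n → K, Mx h = Matrix.diagonal δ ∧ ∀ i, i ∉ S → i ≠ j0 → δ i = 1 := by
  induction hh' using Subgroup.closure_induction with
  | mem x hx =>
    obtain ⟨j, hj, t, ht, rfl⟩ := hx
    by_cases hjj : j = j0
    · subst hjj
      refine ⟨fun _ => 1, ?_, fun _ _ _ => rfl⟩
      rw [hh_self, Mx_one, Matrix.diagonal_one]
    · refine ⟨hd j j0 t, Mx_h hjj ht, fun i hi hi0 => ?_⟩
      have hij : i ≠ j := fun h => hi (h ▸ hj)
      unfold hd
      rw [if_neg hij, if_neg hi0]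
  | one => exact ⟨fun _ => 1, by rw [Mx_one, Matrix.diagonal_one], fun _ _ _ => rfl⟩
  | mul x y _ _ hx hy =>
    obtain ⟨δ1, h1, h1'⟩ := hx
    obtain ⟨δ2, h2, h2'⟩ := hy
    refine ⟨fun i => δ1 i * δ2 i, ?_, fun i hi hi0 => ?_⟩
    · rw [Mx_mul, h1, h2, Matrix.diagonal_mul_diagonal]
    · simp only [h1' i hi hi0, h2' i hi hi0, mul_one]
  | inv x _ hx =>
    obtain ⟨δ1, h1, h1'⟩ := hx
    refine ⟨fun i => (δ1 i)⁻¹, ?_, fun i hi hi0 => ?_⟩
    · have hdet : (Mx x).det = 1 := (toSL x).2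
      have hunit : ∀ i, δ1 i ≠ 0 := by
        intro i hi
        rw [h1, Matrix.det_diagonal] at hdet
        have : ∏ i, δ1 i = 0 := Finset.prod_eq_zero (Finset.mem_univ i) hi
        rw [this] at hdet
        exact zero_ne_one hdet
      have e1 : Mx x⁻¹ * Mx x = 1 := by rw [← Mx_mul, inv_mul_cancel, Mx_one]
      have e2 : Matrix.diagonal (fun i => (δ1 i)⁻¹) * Mx x = 1 := by
        rw [h1, Matrix.diagonal_mul_diagonal]
        have : (fun i => (δ1 i)⁻¹ * δ1 i) = fun _ => (1 : K) := by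
          funext i; exact inv_mul_cancel₀ (hunit i)
        rw [this, Matrix.diagonal_one]
      have e3 : Mx x * Mx x⁻¹ = 1 := by rw [← Mx_mul, mul_inv_cancel, Mx_one]
      calc Mx x⁻¹ = (Matrix.diagonal (fun i => (δ1 i)⁻¹) * Mx x) * Mx x⁻¹ := by rw [e2, Matrix.one_mul]
        _ = Matrix.diagonal (fun i => (δ1 i)⁻¹) := by rw [Matrix.mul_assoc, e3, Matrix.mul_one]
    · simp only [h1' i hi hi0, inv_one]

/-- the torus maps injectively -/
theorem HS_inj [Finite K] (hn : 3 ≤ n) (j0 : Fin n) (S : Finset (Fin n)) :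
    ∀ h ∈ HS K j0 S, Mx h = 1 → h = 1 := by
  induction S using Finset.induction_on with
  | empty =>
    intro h hh' _
    have : HS K j0 (∅ : Finset (Fin n)) = ⊥ := by
      unfold HS
      rw [Subgroup.closure_eq_bot_iff]
      rintro x ⟨j, hj, _⟩
      exact absurd hj (Finset.notMem_empty j)
    rw [this] at hh'
    exact Subgroup.mem_bot.mp hh'
  | insert m S hm ih =>
    intro h hh' hM
    obtain ⟨t, ht, h', hh'', rfl⟩ := HS_decomp hn j0 S m hh'
    by_cases hm0 : m = j0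
    · subst hm0
      rw [hh_self, one_mul] at hM ⊢
      exact ih h' hh'' hM
    · obtain ⟨δ, hδ, hδ'⟩ := HS_diag j0 S hh''
      have h1 : Mx (hh m j0 t * h') m m = t * δ m := by
        rw [Mx_mul, Mx_h hm0 ht, hδ, Matrix.diagonal_mul_diagonal, Matrix.diagonal_apply_eq]
        unfold hd
        rw [if_pos rfl]
      rw [hM, Matrix.one_apply_eq, hδ' m hm hm0, mul_one] at h1
      rw [← h1, hh_one hn hm0, one_mul] at hM ⊢
      exact ih h' hh'' hM

/-- every `h_ab(t)` lies in the torus -/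
theorem hh_mem_HS_univ [Finite K] (hn : 3 ≤ n) (j0 : Fin n) (a b : Fin n) {t : K} (ht : t ≠ 0) :
    hh a b t ∈ HS K j0 Finset.univ := by
  by_cases hab : a = b
  · subst hab; rw [hh_self]; exact one_mem _
  by_cases hb : b = j0
  · subst hb; exact hh_mem_HS (Finset.mem_univ _) ht
  by_cases ha : a = j0
  · subst ha
    rw [hh_symm hn b a ht]
    exact inv_mem (hh_mem_HS (Finset.mem_univ _) ht)
  rw [hh_trans hn ha (Ne.symm hb) hab ht, hh_symm hn b j0 ht]
  exact mul_mem (hh_mem_HS (Finset.mem_univ _) ht) (inv_mem (hh_mem_HS (Finset.mem_univ _) ht))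

/-- the torus is normalized by monomially acting elements -/
theorem HS_conj [Finite K] (hn : 3 ≤ n) (j0 : Fin n) {g : St K n} {π : Equiv.Perm (Fin n)} {d : Fin n → K}
    (hM : Mon g π d) {h : St K n} (hh' : h ∈ HS K j0 Finset.univ) : g * h * g⁻¹ ∈ HS K j0 Finset.univ := by
  induction hh' using Subgroup.closure_induction with
  | mem x hx =>
    obtain ⟨j, _, t, ht, rfl⟩ := hx
    by_cases hjj : j = j0
    · subst hjj; rw [hh_self]; simp [one_mem]
    · rw [conj_hh hn hM hjj ht]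
      exact hh_mem_HS_univ hn j0 _ _ ht
  | one => simp [one_mem]
  | mul x y _ _ hx hy =>
    have : g * (x * y) * g⁻¹ = (g * x * g⁻¹) * (g * y * g⁻¹) := by group
    rw [this]; exact mul_mem hx hy
  | inv x _ hx =>
    have : g * x⁻¹ * g⁻¹ = (g * x * g⁻¹)⁻¹ := by group
    rw [this]; exact inv_mem hx

theorem HS_Mon (hn : 3 ≤ n) (j0 : Fin n) (S : Finset (Fin n)) {h : St K n} (hh' : h ∈ HS K j0 S) :
    ∃ d, Mon h 1 d := by
  induction hh' using Subgroup.closure_induction with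
  | mem x hx =>
    obtain ⟨j, _, t, ht, rfl⟩ := hx
    by_cases hjj : j = j0
    · subst hjj; rw [hh_self]; exact ⟨_, Mon.one⟩
    · exact ⟨_, Mon_h hn hjj ht⟩
  | one => exact ⟨_, Mon.one⟩
  | mul x y _ _ hx hy =>
    obtain ⟨d1, h1⟩ := hx
    obtain ⟨d2, h2⟩ := hy
    have := h1.mul h2
    rw [mul_one] at this
    exact ⟨_, this⟩
  | inv x _ hx =>
    obtain ⟨d1, h1⟩ := hx
    have := h1.inv
    rw [inv_one] at this
    exact ⟨_, this⟩

end Cfsg.Agent.Lib.H1.StSL
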