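import Mathlib
import Cfsg.Agent.Lib.H1.StSLi

set_option autoImplicit false

/-!
# `St_n(K) → SL_n(K)` is injective for a finite field `K` and `n ≥ 3`
-/

namespace Cfsg.Agent.Lib.H1.StSL

open Matrix

variable {K : Type*} [Field K] {n : ℕ}

/-- the generators `w_ab(s)` with `a, b ∈ S` -/
def WSset (K : Type*) [Field K] {n : ℕ} (S : Finset (Fin n)) : Set (St K n) :=
  {g | ∃ a ∈ S, ∃ b ∈ S, ∃ s : K, a ≠ b ∧ s ≠ 0 ∧ g = w a b s}

/-- the subgroup generated by the `w_ab(s)` with `a, b ∈ S` -/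
def WS (K : Type*) [Field K] {n : ℕ} (S : Finset (Fin n)) : Subgroup (St K n) :=
  Subgroup.closure (WSset K S)

theorem WSset_inv (S : Finset (Fin n)) : ∀ x ∈ WSset K S, x⁻¹ ∈ WSset K S := by
  rintro x ⟨a, ha, b, hb, s, hab, hs, rfl⟩
  exact ⟨a, ha, b, hb, -s, hab, neg_ne_zero.mpr hs, w_inv a b s⟩

theorem w_mem_WS {S : Finset (Fin n)} {a b : Fin n} (ha : a ∈ S) (hb : b ∈ S) (hab : a ≠ b) {s : K}
    (hs : s ≠ 0) : w a b s ∈ WS K S := Subgroup.subset_closure ⟨a, ha, b, hb, s, hab, hs, rfl⟩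

theorem WS_univ : WS K (Finset.univ : Finset (Fin n)) = W K n := by
  unfold WS W
  congr 1
  ext g
  constructor
  · rintro ⟨a, _, b, _, s, hab, hs, rfl⟩
    exact ⟨a, b, s, hab, hs, rfl⟩
  · rintro ⟨a, b, s, hab, hs, rfl⟩
    exact ⟨a, Finset.mem_univ _, b, Finset.mem_univ _, s, hab, hs, rfl⟩

theorem WS_Mon (hn : 3 ≤ n) (S : Finset (Fin n)) {g : St K n} (hg : g ∈ WS K S) :
    ∃ π d, Mon g π d := by
  refine closure_ind_left (p := fun g => ∃ π d, Mon g π d) (WSset_inv S) ⟨1, _, Mon.one⟩ ?_ hg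
  rintro x ⟨a, _, b, _, s, hab, hs, rfl⟩ y ⟨π, d, h⟩
  exact ⟨_, _, (Mon_w hn hab hs).mul h⟩

/-- the set `H W_S ∪ ⋃ H w_am(1) W_S` -/
def TS (K : Type*) [Field K] {n : ℕ} (j0 : Fin n) (S : Finset (Fin n)) (m : Fin n) : Set (St K n) :=
  {g | (∃ h ∈ HS K j0 Finset.univ, ∃ q ∈ WS K S, g = h * q) ∨
    (∃ a ∈ S, ∃ h ∈ HS K j0 Finset.univ, ∃ q ∈ WS K S, g = h * w a m 1 * q)}

theorem TS_mul_left {j0 : Fin n} {S : Finset (Fin n)} {m : Fin n} {h g : St K n}
    (hh' : h ∈ HS K j0 Finset.univ) (hg : g ∈ TS K j0 S m) : h * g ∈ TS K j0 S m := by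
  rcases hg with ⟨h1, hh1, q, hq, rfl⟩ | ⟨a, ha, h1, hh1, q, hq, rfl⟩
  · exact Or.inl ⟨h * h1, mul_mem hh' hh1, q, hq, by group⟩
  · exact Or.inr ⟨a, ha, h * h1, mul_mem hh' hh1, q, hq, by group⟩

/-- left multiplication by a monomially acting element: move the torus part to the left -/
theorem TS_reduce [Finite K] (hn : 3 ≤ n) {j0 : Fin n} {S : Finset (Fin n)} {m : Fin n} {x : St K n}
    {π : Equiv.Perm (Fin n)} {d : Fin n → K} (hM : Mon x π d)
    (h1 : ∀ q ∈ WS K S, x * q ∈ TS K j0 S m)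
    (h2 : ∀ a ∈ S, ∀ q ∈ WS K S, x * (w a m 1 * q) ∈ TS K j0 S m)
    {g : St K n} (hg : g ∈ TS K j0 S m) : x * g ∈ TS K j0 S m := by
  rcases hg with ⟨h, hh', q, hq, rfl⟩ | ⟨a, ha, h, hh', q, hq, rfl⟩
  · have e : x * (h * q) = (x * h * x⁻¹) * (x * q) := by group
    rw [e]
    exact TS_mul_left (HS_conj hn j0 hM hh') (h1 q hq)
  · have e : x * (h * w a m 1 * q) = (x * h * x⁻¹) * (x * (w a m 1 * q)) := by group
    rw [e]
    exact TS_mul_left (HS_conj hn j0 hM hh') (h2 a ha q hq)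

/-- case A: `x = w_ce(r)` with `c, e ∈ S` -/
theorem TS_stepA [Finite K] (hn : 3 ≤ n) {j0 : Fin n} {S : Finset (Fin n)} {m : Fin n} (hm : m ∉ S)
    {c e : Fin n} (hc : c ∈ S) (he : e ∈ S) (hce : c ≠ e) {r : K} (hr : r ≠ 0)
    {g : St K n} (hg : g ∈ TS K j0 S m) : w c e r * g ∈ TS K j0 S m := by
  have hM := Mon_w (K := K) hn hce hr
  have hx : w c e r ∈ WS K S := w_mem_WS hc he hce hr
  refine TS_reduce hn hM (fun q hq => ?_) (fun a ha q hq => ?_) hg
  · exact Or.inl ⟨1, one_mem _, _, mul_mem hx hq, by group⟩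
  · have hmc : m ≠ c := fun h => hm (h ▸ hc)
    have hme : m ≠ e := fun h => hm (h ▸ he)
    have e1 : w c e r * (w a m 1 * q) = (w c e r * w a m 1 * (w c e r)⁻¹) * (w c e r * q) := by group
    rw [e1, hM.conj_w, Equiv.swap_apply_of_ne_of_ne hmc hme, w_eq_hh]
    have ha' : Equiv.swap c e a ∈ S := by
      rw [Equiv.swap_apply_def]
      split_ifs
      · exact he
      · exact hc
      · exact ha
    have hk : wd c e r a / wd c e r m * 1 ≠ 0 := by
      rw [mul_one]
      exact div_ne_zero (hM.1 a) (hM.1 m)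
    exact Or.inr ⟨_, ha', _, hh_mem_HS_univ hn j0 _ _ hk, _, mul_mem hx hq, rfl⟩

/-- case B: `x = w_cm(r)` with `c ∈ S` -/
theorem TS_stepB [Finite K] (hn : 3 ≤ n) {j0 : Fin n} {S : Finset (Fin n)} {m : Fin n} (hm : m ∉ S)
    {c : Fin n} (hc : c ∈ S) {r : K} (hr : r ≠ 0)
    {g : St K n} (hg : g ∈ TS K j0 S m) : w c m r * g ∈ TS K j0 S m := by
  have hcm : c ≠ m := fun h => hm (h ▸ hc)
  have hM := Mon_w (K := K) hn hcm hr
  refine TS_reduce hn hM (fun q hq => ?_) (fun a ha q hq => ?_) hg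
  · rw [w_eq_hh]
    exact Or.inr ⟨c, hc, _, hh_mem_HS_univ hn j0 _ _ hr, q, hq, rfl⟩
  · by_cases hac : a = c
    · subst hac
      have e1 : w a m r * (w a m 1 * q) = (hh a m r * (hh a m (-1))⁻¹) * q := by
        rw [w_eq_hh a m r]
        unfold hh
        rw [_root_.mul_inv_rev, w_inv, neg_neg]
        group
      rw [e1]
      refine Or.inl ⟨_, mul_mem (hh_mem_HS_univ hn j0 _ _ hr)
        (inv_mem (hh_mem_HS_univ hn j0 _ _ (neg_ne_zero.mpr one_ne_zero))), q, hq, rfl⟩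
    · have ham : a ≠ m := fun h => hm (h ▸ ha)
      have hMa := (Mon_w (K := K) hn ham one_ne_zero).inv
      have e2 := hMa.conj_w c m r
      have hca : c ≠ a := Ne.symm hac
      rw [Equiv.swap_inv, Equiv.swap_apply_of_ne_of_ne hca hcm, Equiv.swap_apply_right] at e2
      have hwd := (Mon_w (K := K) hn ham one_ne_zero).1
      have hk : (wd a m (1:K) c)⁻¹ / (wd a m (1:K) a)⁻¹ * r ≠ 0 :=
        mul_ne_zero (div_ne_zero (inv_ne_zero (hwd c)) (inv_ne_zero (hwd a))) hr
      have e1 : w c m r * (w a m 1 * q) = 1 * w a m 1 * (((w a m 1)⁻¹ * w c m r * (w a m 1)⁻¹⁻¹) * q) := by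
        group
      rw [e1, e2]
      exact Or.inr ⟨a, ha, 1, one_mem _, _, mul_mem (w_mem_WS hc ha hca hk) hq, rfl⟩

/-- the coset decomposition of `W_{S ∪ {m}}` -/
theorem WS_decomp [Finite K] (hn : 3 ≤ n) (j0 : Fin n) {S : Finset (Fin n)} {m : Fin n} (hm : m ∉ S)
    {g : St K n} (hg : g ∈ WS K (insert m S)) : g ∈ TS K j0 S m := by
  refine closure_ind_left (p := fun g => g ∈ TS K j0 S m) (WSset_inv _)
    (Or.inl ⟨1, one_mem _, 1, one_mem _, by group⟩) ?_ hg
  rintro x ⟨c, hc, e, he, r, hce, hr, rfl⟩ y hy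
  rcases Finset.mem_insert.mp hc with rfl | hcS
  · rcases Finset.mem_insert.mp he with rfl | heS
    · exact absurd rfl hce
    · -- `w_me(r) = w_em(-r⁻¹)`
      have hr' : -r⁻¹ ≠ 0 := neg_ne_zero.mpr (inv_ne_zero hr)
      have e1 : (w c e r : St K n) = w e c (-r⁻¹) := by
        have := w_swap (K := K) hn hce.symm hr'
        rw [inv_neg, inv_inv, neg_neg] at this
        exact this
      rw [e1]
      exact TS_stepB hn hm heS hr' hy
  · rcases Finset.mem_insert.mp he with rfl | heS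
    · exact TS_stepB hn hm hcS hr hy
    · exact TS_stepA hn hm hcS heS hce hr hy

/-- elements of `W_S` with trivial permutation lie in the torus -/
theorem WS_main [Finite K] (hn : 3 ≤ n) (j0 : Fin n) (S : Finset (Fin n)) :
    ∀ g ∈ WS K S, ∃ π d, Mon g π d ∧ (∀ i, i ∉ S → π i = i) ∧ (π = 1 → g ∈ HS K j0 Finset.univ) := by
  induction S using Finset.induction_on with
  | empty =>
    intro g hg
    have : WS K (∅ : Finset (Fin n)) = ⊥ := by
      unfold WS
      rw [Subgroup.closure_eq_bot_iff]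
      rintro x ⟨a, ha, _⟩
      exact absurd ha (Finset.notMem_empty a)
    rw [this] at hg
    rw [Subgroup.mem_bot.mp hg]
    exact ⟨1, _, Mon.one, fun _ _ => rfl, fun _ => one_mem _⟩
  | insert m S hm ih =>
    intro g hg
    rcases WS_decomp hn j0 hm hg with ⟨h, hh', q, hq, rfl⟩ | ⟨a, ha, h, hh', q, hq, rfl⟩
    · obtain ⟨π, d, hMq, hfix, hone⟩ := ih q hq
      obtain ⟨dh, hMh⟩ := HS_Mon hn j0 _ hh'
      refine ⟨1 * π, _, hMh.mul hMq, fun i hi => ?_, fun hπ => ?_⟩
      · rw [one_mul]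
        exact hfix i (fun h => hi (Finset.mem_insert_of_mem h))
      · rw [one_mul] at hπ
        exact mul_mem hh' (hone hπ)
    · obtain ⟨π, d, hMq, hfix, hone⟩ := ih q hq
      obtain ⟨dh, hMh⟩ := HS_Mon hn j0 _ hh'
      have ham : a ≠ m := fun h => hm (h ▸ ha)
      refine ⟨1 * Equiv.swap a m * π, _, (hMh.mul (Mon_w hn ham one_ne_zero)).mul hMq, fun i hi => ?_,
        fun hπ => ?_⟩
      · have hiS : i ∉ S := fun h => hi (Finset.mem_insert_of_mem h)
        have him : i ≠ m := fun h => hi (h ▸ Finset.mem_insert_self m S)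
        have hia : i ≠ a := fun h => hiS (h ▸ ha)
        rw [one_mul, Equiv.Perm.mul_apply, hfix i hiS, Equiv.swap_apply_of_ne_of_ne hia him]
      · exfalso
        have := congrArg (fun σ : Equiv.Perm (Fin n) => σ m) hπ
        simp only [one_mul, Equiv.Perm.mul_apply, hfix m hm, Equiv.swap_apply_right,
          Equiv.Perm.one_apply] at this
        exact ham this

/-- a central element acting monomially has trivial permutation -/
theorem perm_eq_one_of_central (hn : 3 ≤ n) {z : St K n} (hz : z ∈ Subgroup.center (St K n))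
    {π : Equiv.Perm (Fin n)} {d : Fin n → K} (hM : Mon z π d) : π = 1 := by
  have key : ∀ c e : Fin n, c ≠ e → π c = c := by
    intro c e hce
    have hne : π c ≠ π e := fun h => hce (π.injective h)
    have h1 := hM.2 c e 1
    rw [Subgroup.mem_center_iff] at hz
    have h2 : z * X c e 1 * z⁻¹ = X c e 1 := by
      rw [← hz (X c e 1)]; group
    rw [h2] at h1
    have h3 := congrArg Mx h1
    rw [Mx_X hce, Mx_X hne] at h3
    have h4 := congrFun (congrFun h3 c) e
    simp only [transvection, Matrix.add_apply, Matrix.one_apply_ne hce, Matrix.single_apply_same,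
      zero_add] at h4
    by_contra hc
    rw [Matrix.single_apply, if_neg (fun h => hc h.1)] at h4
    exact one_ne_zero h4
  ext c
  obtain ⟨e, hce, _⟩ := exists_third hn c c
  rw [key c e hce, Equiv.Perm.one_apply]

/-- `St_n(K) → SL_n(K)` is injective -/
theorem toSL_injective [Finite K] (hn : 3 ≤ n) : Function.Injective (toSL : St K n →* _) := by
  rw [injective_iff_map_eq_one]
  intro z hz
  obtain ⟨hzc, hzW⟩ := ker_central hn hz
  have j0 : Fin n := ⟨0, by omega⟩
  rw [← WS_univ] at hzW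
  obtain ⟨π, d, hM, _, hone⟩ := WS_main hn j0 Finset.univ z hzW
  have hπ := perm_eq_one_of_central hn hzc hM
  exact HS_inj hn j0 _ z (hone hπ) ((Mx_eq_one_iff z).mpr hz)

/-- the Steinberg presentation of `SL_n(K)` -/
theorem exists_mulEquiv [Finite K] (hn : 3 ≤ n) :
    ∃ e : St K n ≃* SpecialLinearGroup (Fin n) K, ∀ (a : Idx n) (t : K),
      ((e (PresentedGroup.of (a, t)) : SpecialLinearGroup (Fin n) K) : Matrix (Fin n) (Fin n) K) =
        Matrix.transvection a.1.1 a.1.2 t := by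
  have hbij : Function.Bijective (toSL (K := K) (n := n)) := ⟨toSL_injective hn, toSL_surjective (by omega)⟩
  refine ⟨MulEquiv.ofBijective (toSL (K := K) (n := n)) hbij, ?_⟩
  intro a t
  have h1 : (MulEquiv.ofBijective (toSL (K := K) (n := n)) hbij) (PresentedGroup.of (a, t)) =
      toSL (PresentedGroup.of (a, t)) := rfl
  rw [h1, toSL_of]
  rfl

end Cfsg.Agent.Lib.H1.StSL
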