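import Mathlib
import Cfsg.Agent.Lib.H1.StSLj
import Cfsg.Agent.Lib.H1.CExt1

set_option autoImplicit false

/-!
# Central extensions of the Steinberg group `St_n(K)`: the general lifting argument (after Milnor)
-/

namespace Cfsg.Agent.Lib.H1.CExt

open scoped commutatorElement
open Cfsg.Agent.Lib.H1.StSL

variable {K : Type*} [Field K] {n : ℕ} {E : Type*} [Group E]

/-- homomorphisms out of the Steinberg group -/
theorem exists_hom_of_rels (s : Fin n → Fin n → K → E)
    (hadd : ∀ i j, i ≠ j → ∀ t u, s i j t * s i j u = s i j (t + u))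
    (hc1 : ∀ i j k l, i ≠ j → k ≠ l → i ≠ l → j ≠ k → ∀ t u, s i j t * s k l u = s k l u * s i j t)
    (hc2 : ∀ i j l, i ≠ j → j ≠ l → i ≠ l → ∀ t u,
      s i j t * s j l u * (s i j t)⁻¹ * (s j l u)⁻¹ = s i l (t * u)) :
    ∃ φ : St K n →* E, ∀ i j, i ≠ j → ∀ t, φ (X i j t) = s i j t := by
  let f : Idx n × K → E := fun p => s p.1.1.1 p.1.1.2 p.2
  have hrel : ∀ r ∈ rels K n, FreeGroup.lift f r = 1 := by
    rintro r ((⟨a, t, u, rfl⟩ | ⟨a, b, t, u, h1, h2, rfl⟩) | ⟨a, b, h, t, u, h1, rfl⟩)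
    · simp only [map_mul, map_inv, FreeGroup.lift_apply_of, f]
      rw [mul_inv_eq_one]
      exact hadd _ _ a.2 t u
    · simp only [map_mul, map_inv, FreeGroup.lift_apply_of, f]
      rw [hc1 _ _ _ _ a.2 b.2 h1 h2]
      group
    · simp only [map_mul, map_inv, FreeGroup.lift_apply_of, f]
      rw [mul_inv_eq_one]
      obtain ⟨⟨a1, a2⟩, ha⟩ := a
      obtain ⟨⟨b1, b2⟩, hb⟩ := b
      simp only at ha hb h h1
      subst h1
      exact hc2 a1 a2 b2 ha hb h t u
  refine ⟨PresentedGroup.toGroup hrel, fun i j hij t => ?_⟩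
  rw [X_of hij, PresentedGroup.toGroup.of]

/-- two endomorphism-like maps of `St_n(K)` agreeing on the generators -/
theorem hom_eq_id_of_X (ψ : St K n →* St K n) (h : ∀ i j, i ≠ j → ∀ t : K, ψ (X i j t) = X i j t) :
    ∀ g, ψ g = g := by
  intro g
  have hg : g ∈ Subgroup.closure (Set.range (PresentedGroup.of : Idx n × K → St K n)) := by
    rw [PresentedGroup.closure_range_of]; trivial
  induction hg using Subgroup.closure_induction with
  | mem x hx =>
    obtain ⟨⟨⟨⟨c, e⟩, hce⟩, t⟩, rfl⟩ := hx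
    simp only at hce
    rw [← X_of hce]
    exact h c e hce t
  | one => simp
  | mul x y _ _ hx hy => rw [map_mul, hx, hy]
  | inv x _ hx => rw [map_inv, hx]

/-- a pure group identity (Milnor) -/
theorem three_comm {G : Type*} [Group G] {u v w : G} (huw : u * w = w * u)
    (hxy : ⁅u, v⁆ * ⁅v, w⁆ = ⁅v, w⁆ * ⁅u, v⁆)
    (hy : ⁅v, w⁆ * ⁅⁅u, v⁆, w⁆ = ⁅⁅u, v⁆, w⁆ * ⁅v, w⁆) : ⁅u, ⁅v, w⁆⁆ = ⁅⁅u, v⁆, w⁆ := by
  -- u y u⁻¹ = x y x⁻¹ [x, w]
  have e1 : u * ⁅v, w⁆ * u⁻¹ = ⁅u, v⁆ * ⁅v, w⁆ * ⁅u, v⁆⁻¹ * ⁅⁅u, v⁆, w⁆ := by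
    have hw : u * w * u⁻¹ = w := by rw [huw]; group
    have hw' : u * w⁻¹ * u⁻¹ = w⁻¹ := by
      calc u * w⁻¹ * u⁻¹ = (u * w * u⁻¹)⁻¹ := by group
        _ = w⁻¹ := by rw [hw]
    calc u * ⁅v, w⁆ * u⁻¹ = (u * v * u⁻¹) * (u * w * u⁻¹) * (u * v * u⁻¹)⁻¹ * (u * w⁻¹ * u⁻¹) := by
          simp only [commutatorElement_def]; group
      _ = (u * v * u⁻¹) * w * (u * v * u⁻¹)⁻¹ * w⁻¹ := by rw [hw, hw']
      _ = ⁅u, v⁆ * ⁅v, w⁆ * ⁅u, v⁆⁻¹ * ⁅⁅u, v⁆, w⁆ := by
          simp only [commutatorElement_def]; group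
  have e2 : ⁅u, v⁆ * ⁅v, w⁆ * ⁅u, v⁆⁻¹ = ⁅v, w⁆ := by rw [hxy]; group
  rw [e2] at e1
  calc ⁅u, ⁅v, w⁆⁆ = (u * ⁅v, w⁆ * u⁻¹) * ⁅v, w⁆⁻¹ := by
        rw [commutatorElement_def u]
    _ = ⁅v, w⁆ * ⁅⁅u, v⁆, w⁆ * ⁅v, w⁆⁻¹ := by rw [e1]
    _ = ⁅⁅u, v⁆, w⁆ := by rw [hy]; group

variable {π : E →* St K n}

theorem comm_X {a b c d : Fin n} (had : a ≠ d) (hbc : b ≠ c) (t u : K) :
    ⁅(X a b t : St K n), X c d u⁆ = 1 := comm_iff.mpr (X_comm had hbc t u)

theorem X_eq_comm {a m b : Fin n} (ham : a ≠ m) (hmb : m ≠ b) (hab : a ≠ b) (t u : K) :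
    ⁅(X a m t : St K n), X m b u⁆ = X a b (t * u) := by
  rw [commutatorElement_def]
  exact X_comm_mul ham hmb hab t u

/-- Milnor's trick: lifts of commuting root elements commute as soon as there is an index not involved -/
theorem br_X_of_free (h : IsCE π) {i j k l m : Fin n} (hij : i ≠ j) (hjk : j ≠ k) (hil : i ≠ l)
    (hmi : m ≠ i) (hmj : m ≠ j) (hmk : m ≠ k) (hml : m ≠ l) (t u : K) :
    br h (X i j t) (X k l u) = 1 := by
  -- x_ij(t) = [x_im(t), x_mj(1)], and x_kl(u) commutes with both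
  have e1 : (X i j t : St K n) = ⁅X i m t, X m j 1⁆ := by
    rw [X_eq_comm hmi.symm hmj hij, mul_one]
  have h1 : ⁅π (lift h (X k l u)), (X i m t : St K n)⁆ = 1 := by
    rw [π_lift]; exact comm_X hmk.symm hil.symm u t
  have h2 : ⁅π (lift h (X k l u)), (X m j 1 : St K n)⁆ = 1 := by
    rw [π_lift]; exact comm_X hjk.symm hml.symm u 1
  have h3 := comm_br h h1 h2
  have h4 : π (br h (X i m t) (X m j 1)) = X i j t := by rw [π_br, ← e1]
  rw [br_eq h h4 (π_lift h (X k l u))]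
  rw [comm_iff]
  exact h3.symm

/-- the hypotheses under which the lifting argument works -/
structure Good (h : IsCE π) : Prop where
  comm : ∀ i j k l : Fin n, i ≠ j → k ≠ l → j ≠ k → i ≠ l → ∀ t u : K, br h (X i j t) (X k l u) = 1
  prod : ∀ i m m' j : Fin n, i ≠ m → m ≠ j → i ≠ m' → m' ≠ j → i ≠ j → ∀ t u : K,
    br h (X i m t) (X m j u) = br h (X i m' 1) (X m' j (t * u))

/-- lifts of commuting root elements commute -/
theorem Good.comm_lift {h : IsCE π} (G : Good h) {i j k l : Fin n} (hij : i ≠ j) (hkl : k ≠ l) (hjk : j ≠ k)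
    (hil : i ≠ l) {t u : K} {a b : E} (ha : π a = X i j t) (hb : π b = X k l u) : a * b = b * a := by
  have := G.comm i j k l hij hkl hjk hil t u
  rw [br_eq h ha hb, comm_iff] at this
  exact this

/-- the splitting of a good central extension -/
theorem Good.exists_section (hn : 3 ≤ n) {h : IsCE π} (G : Good h) :
    ∃ φ : St K n →* E, ∀ g, π (φ g) = g := by
  -- a third index
  have hthird : ∀ i j : Fin n, ∃ m : Fin n, i ≠ m ∧ j ≠ m := fun i j => exists_third hn i j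
  choose thd hthd1 hthd2 using hthird
  let s : Fin n → Fin n → K → E := fun i j t => br h (X i (thd i j) 1) (X (thd i j) j t)
  have hs : ∀ i j, i ≠ j → ∀ t, π (s i j t) = X i j t := by
    intro i j hij t
    show π (br h (X i (thd i j) 1) (X (thd i j) j t)) = X i j t
    rw [π_br, X_eq_comm (hthd1 i j) (hthd2 i j).symm hij, one_mul]
  have hP : ∀ i m j, i ≠ m → m ≠ j → i ≠ j → ∀ t u, br h (X i m t) (X m j u) = s i j (t * u) := by
    intro i m j him hmj hij t u
    exact G.prod i m (thd i j) j him hmj (hthd1 i j) (hthd2 i j).symm hij t u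
  have hadd : ∀ i j, i ≠ j → ∀ t u, s i j t * s i j u = s i j (t + u) := by
    intro i j hij t u
    set m := thd i j with hm
    have him : i ≠ m := hthd1 i j
    have hmj : m ≠ j := (hthd2 i j).symm
    -- [a, b b'] = [a, b] b [a, b'] b⁻¹
    have e1 : s i j (t + u) = ⁅lift h (X i m 1), lift h (X m j t) * lift h (X m j u)⁆ := by
      show br h (X i m 1) (X m j (t + u)) = _
      rw [← X_add]
      exact br_eq h (π_lift h _) (by rw [map_mul, π_lift, π_lift])
    have e2 : ⁅lift h (X i m 1), lift h (X m j t) * lift h (X m j u)⁆ =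
        s i j t * (lift h (X m j t) * s i j u * (lift h (X m j t))⁻¹) := by
      show _ = ⁅lift h (X i m 1), lift h (X m j t)⁆ * (lift h (X m j t) *
        ⁅lift h (X i m 1), lift h (X m j u)⁆ * (lift h (X m j t))⁻¹)
      simp only [commutatorElement_def]; group
    have e3 : lift h (X m j t) * s i j u = s i j u * lift h (X m j t) :=
      G.comm_lift hmj hij (Ne.symm hij) hmj (π_lift h _) (hs i j hij u)
    rw [e1, e2, e3]
    group
  have hc1 : ∀ i j k l, i ≠ j → k ≠ l → i ≠ l → j ≠ k → ∀ t u, s i j t * s k l u = s k l u * s i j t := by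
    intro i j k l hij hkl hil hjk t u
    exact G.comm_lift hij hkl hjk hil (hs i j hij t) (hs k l hkl u)
  have hc2 : ∀ i j l, i ≠ j → j ≠ l → i ≠ l → ∀ t u,
      s i j t * s j l u * (s i j t)⁻¹ * (s j l u)⁻¹ = s i l (t * u) := by
    intro i j l hij hjl hil t u
    rw [← hP i j l hij hjl hil t u, br_eq h (hs i j hij t) (hs j l hjl u), commutatorElement_def]
  obtain ⟨φ, hφ⟩ := exists_hom_of_rels s hadd hc1 hc2
  refine ⟨φ, ?_⟩
  apply hom_eq_id_of_X (π.comp φ)
  intro i j hij t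
  rw [MonoidHom.comp_apply, hφ i j hij, hs i j hij]

/-- for `n ≥ 4` the product condition follows from the commutation condition -/
theorem good_of_comm (hn : 4 ≤ n) (h : IsCE π)
    (hcomm : ∀ i j k l : Fin n, i ≠ j → k ≠ l → j ≠ k → i ≠ l → ∀ t u : K, br h (X i j t) (X k l u) = 1) :
    Good h := by
  have hcl : ∀ {i j k l : Fin n}, i ≠ j → k ≠ l → j ≠ k → i ≠ l → ∀ {t u : K} {a b : E},
      π a = X i j t → π b = X k l u → a * b = b * a := by
    intro i j k l hij hkl hjk hil t u a b ha hb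
    have := hcomm i j k l hij hkl hjk hil t u
    rw [br_eq h ha hb, comm_iff] at this
    exact this
  -- the key identity for four distinct indices
  have key : ∀ a b c d : Fin n, a ≠ b → a ≠ c → a ≠ d → b ≠ c → b ≠ d → c ≠ d → ∀ t u : K,
      br h (X a b 1) (X b d (t * u)) = br h (X a c t) (X c d u) := by
    intro a b c d hab hac had hbc hbd hcd t u
    set u' := lift h (X a b (1 : K)) with hu'
    set v' := lift h (X b c t) with hv'
    set w' := lift h (X c d u) with hw'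
    have hx : π ⁅u', v'⁆ = X a c t := by
      rw [map_commutatorElement, π_lift, π_lift, X_eq_comm hab hbc hac, one_mul]
    have hy : π ⁅v', w'⁆ = X b d (t * u) := by
      rw [map_commutatorElement, π_lift, π_lift, X_eq_comm hbc hcd hbd]
    have hxw : π ⁅⁅u', v'⁆, w'⁆ = X a d (t * u) := by
      rw [map_commutatorElement, hx, π_lift, X_eq_comm hac hcd had]
    have h1 : u' * w' = w' * u' := hcl hab hcd hbc had (π_lift h _) (π_lift h _)
    have h2 : ⁅u', v'⁆ * ⁅v', w'⁆ = ⁅v', w'⁆ * ⁅u', v'⁆ := hcl hac hbd hbc.symm had hx hy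
    have h3 : ⁅v', w'⁆ * ⁅⁅u', v'⁆, w'⁆ = ⁅⁅u', v'⁆, w'⁆ * ⁅v', w'⁆ := hcl hbd had had.symm hbd hy hxw
    have h4 := three_comm h1 h2 h3
    rw [br_eq h (π_lift h _) hy, ← hu', h4, br_eq h hx (π_lift h _)]
  refine ⟨hcomm, ?_⟩
  intro i m m' j him hmj him' hm'j hij t u
  -- first: independence of the middle index when the first entry is 1
  have indep : ∀ b c : Fin n, i ≠ b → b ≠ j → i ≠ c → c ≠ j → ∀ v : K,
      br h (X i b 1) (X b j v) = br h (X i c 1) (X c j v) := by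
    intro b c hib hbj hic hcj v
    by_cases hbc : b = c
    · subst hbc; rfl
    have := key i b c j hib hic hij hbc hbj hcj 1 v
    rw [one_mul] at this
    exact this
  by_cases hmm : m = m'
  · subst hmm
    -- need an auxiliary index
    obtain ⟨b, hb⟩ : ∃ b : Fin n, b ≠ i ∧ b ≠ m ∧ b ≠ j := by
      by_contra hcon
      push Not at hcon
      have h0 := hcon ⟨0, by omega⟩
      have h1 := hcon ⟨1, by omega⟩
      have h2 := hcon ⟨2, by omega⟩
      have h3 := hcon ⟨3, by omega⟩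
      simp only [ne_eq, Fin.ext_iff] at h0 h1 h2 h3 him hmj hij
      omega
    have e1 := key i b m j hb.1.symm him hij hb.2.1 hb.2.2 hmj t u
    rw [← e1]
    exact indep b m hb.1.symm hb.2.2 him hmj (t * u)
  · have e1 := key i m' m j him' him hij (Ne.symm hmm) hm'j hmj t u
    exact e1.symm

end Cfsg.Agent.Lib.H1.CExt
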