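import Mathlib
import Cfsg.Agent.Lib.H1.CExt2

set_option autoImplicit false

/-!
# `St_n(K)` is centrally closed (with the usual small exceptions)
-/

namespace Cfsg.Agent.Lib.H1.CExt

open scoped commutatorElement
open Cfsg.Agent.Lib.H1.StSL

variable {K : Type*} [Field K] {n : ℕ} {E : Type*} [Group E] {π : E →* St K n}

/-- bracket of commuting root elements: additivity in the first variable -/
theorem br_X_add_left (h : IsCE π) {i j k l : Fin n} (hjk : j ≠ k) (hil : i ≠ l) (t t' u : K) :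
    br h (X i j (t + t')) (X k l u) = br h (X i j t') (X k l u) * br h (X i j t) (X k l u) := by
  rw [← X_add]
  exact br_mul_left h (comm_X hil hjk t' u)

/-- bracket of commuting root elements: additivity in the second variable -/
theorem br_X_add_right (h : IsCE π) {i j k l : Fin n} (hjk : j ≠ k) (hil : i ≠ l) (t u u' : K) :
    br h (X i j t) (X k l (u + u')) = br h (X i j t) (X k l u) * br h (X i j t) (X k l u') := by
  rw [← X_add]
  exact br_mul_right h (comm_X hil hjk t u')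

theorem br_X_zero_left (h : IsCE π) (i j k l : Fin n) (u : K) :
    br h (X i j (0 : K)) (X k l u) = 1 := by
  rw [X_zero, br_one_left]

theorem br_X_neg_left (h : IsCE π) {i j k l : Fin n} (hjk : j ≠ k) (hil : i ≠ l) (t u : K) :
    br h (X i j (-t)) (X k l u) = (br h (X i j t) (X k l u))⁻¹ := by
  have := br_X_add_left h hjk hil t (-t) u
  rw [add_neg_cancel, br_X_zero_left] at this
  exact eq_inv_of_mul_eq_one_left this.symm

theorem br_X_zero_right (h : IsCE π) (i j k l : Fin n) (t : K) :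
    br h (X i j t) (X k l (0 : K)) = 1 := by
  rw [X_zero, br_one_right]

theorem br_X_neg_right (h : IsCE π) {i j k l : Fin n} (hjk : j ≠ k) (hil : i ≠ l) (t u : K) :
    br h (X i j t) (X k l (-u)) = (br h (X i j t) (X k l u))⁻¹ := by
  have := br_X_add_right h hjk hil t u (-u)
  rw [add_neg_cancel, br_X_zero_right] at this
  exact (inv_eq_of_mul_eq_one_right this.symm).symm

/-- a bracket of commuting root elements invariant under scaling the first variable by `c ≠ 1` is trivial -/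
theorem br_X_eq_one_of_scale_left (h : IsCE π) {i j k l : Fin n} (hjk : j ≠ k) (hil : i ≠ l) {c : K}
    (hc : c ≠ 1) (hinv : ∀ t u : K, br h (X i j (c * t)) (X k l u) = br h (X i j t) (X k l u)) (t u : K) :
    br h (X i j t) (X k l u) = 1 := by
  have hc' : c - 1 ≠ 0 := sub_ne_zero.mpr hc
  have e1 : t = c * (t / (c - 1)) + -(t / (c - 1)) := by field_simp; ring
  rw [e1, br_X_add_left h hjk hil, br_X_neg_left h hjk hil, hinv]
  group

/-- the same for the second variable -/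
theorem br_X_eq_one_of_scale_right (h : IsCE π) {i j k l : Fin n} (hjk : j ≠ k) (hil : i ≠ l) {c : K}
    (hc : c ≠ 1) (hinv : ∀ t u : K, br h (X i j t) (X k l (c * u)) = br h (X i j t) (X k l u)) (t u : K) :
    br h (X i j t) (X k l u) = 1 := by
  have hc' : c - 1 ≠ 0 := sub_ne_zero.mpr hc
  have e1 : u = c * (u / (c - 1)) + -(u / (c - 1)) := by field_simp; ring
  rw [e1, br_X_add_right h hjk hil, br_X_neg_right h hjk hil, hinv]
  group

/-- a central bracket is invariant under the action of a monomially acting element with trivial permutation -/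
theorem br_X_torus (h : IsCE π) {i j k l : Fin n} (hjk : j ≠ k) (hil : i ≠ l) {g : St K n} {d : Fin n → K}
    (hM : Mon g 1 d) (t u : K) :
    br h (X i j (d i / d j * t)) (X k l (d k / d l * u)) = br h (X i j t) (X k l u) := by
  have h1 := conj_br h (lift h g) (X i j t) (X k l u)
  rw [π_lift, hM.2, hM.2] at h1
  simp only [Equiv.Perm.one_apply] at h1
  rw [← h1]
  have hc := br_comm_all h (comm_X hil hjk t u) (lift h g)
  rw [hc]
  group

section FiveUp

theorem exists_free5 (hn : 5 ≤ n) (i j k l : Fin n) : ∃ m : Fin n, m ≠ i ∧ m ≠ j ∧ m ≠ k ∧ m ≠ l := by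
  by_contra hcon
  push Not at hcon
  have h0 := hcon ⟨0, by omega⟩
  have h1 := hcon ⟨1, by omega⟩
  have h2 := hcon ⟨2, by omega⟩
  have h3 := hcon ⟨3, by omega⟩
  have h4 := hcon ⟨4, by omega⟩
  simp only [ne_eq, Fin.ext_iff] at h0 h1 h2 h3 h4
  omega

theorem comm_of_five (hn : 5 ≤ n) (h : IsCE π) (i j k l : Fin n) (hij : i ≠ j) (_hkl : k ≠ l) (hjk : j ≠ k)
    (hil : i ≠ l) (t u : K) : br h (X i j t) (X k l u) = 1 := by
  obtain ⟨m, h1, h2, h3, h4⟩ := exists_free5 hn i j k l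
  exact br_X_of_free h hij hjk hil h1 h2 h3 h4 t u

end FiveUp

section Four

/-- three indices in a set of at least four leave one free -/
theorem exists_free4 (hn : 4 ≤ n) (i j k : Fin n) : ∃ m : Fin n, m ≠ i ∧ m ≠ j ∧ m ≠ k := by
  by_contra hcon
  push Not at hcon
  have h0 := hcon ⟨0, by omega⟩
  have h1 := hcon ⟨1, by omega⟩
  have h2 := hcon ⟨2, by omega⟩
  have h3 := hcon ⟨3, by omega⟩
  simp only [ne_eq, Fin.ext_iff] at h0 h1 h2 h3
  omega

/-- first relation between the obstructions -/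
theorem omega_rel1 (h : IsCE π) {i j k l : Fin n} (hij : i ≠ j) (hik : i ≠ k) (hil : i ≠ l) (hjk : j ≠ k)
    (hjl : j ≠ l) (hkl : k ≠ l) (t u : K) :
    br h (X k l u) (X i j t) = br h (X i l (-(t * u))) (X k j 1) := by
  set a := lift h (X i k t) with ha
  set b := lift h (X k j (1 : K)) with hb
  set c := lift h (X k l u) with hc
  have hab : π ⁅a, b⁆ = X i j t := by
    rw [map_commutatorElement, π_lift, π_lift, X_eq_comm hik hjk.symm hij, mul_one]
  have hca : π ⁅c, a⁆ = X i l (-(t * u)) := by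
    rw [map_commutatorElement, π_lift, π_lift, ← X_inv, ← X_eq_comm hik hkl hil, commutatorElement_inv]
  -- b and c commute
  have hbc : c * b = b * c := by
    have := br_X_of_free h hkl hkl.symm hjk.symm hik hil hik hij u (1 : K)
    rw [br_eq h (π_lift h _) (π_lift h _), comm_iff] at this
    exact this
  -- [c,a] commutes with [a,b]
  have hcomm1 : ⁅c, a⁆ * ⁅a, b⁆ = ⁅a, b⁆ * ⁅c, a⁆ := by
    have := br_X_of_free h hil hil.symm hij hik.symm hkl hik.symm hjk.symm (-(t * u)) t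
    rw [br_eq h hca hab, comm_iff] at this
    exact this
  have e1 : c * ⁅a, b⁆ * c⁻¹ = ⁅⁅c, a⁆ * a, b⁆ := by
    have hb' : c * b * c⁻¹ = b := by rw [hbc]; group
    have hb'' : c * b⁻¹ * c⁻¹ = b⁻¹ := by
      calc c * b⁻¹ * c⁻¹ = (c * b * c⁻¹)⁻¹ := by group
        _ = b⁻¹ := by rw [hb']
    calc c * ⁅a, b⁆ * c⁻¹ = (c * a * c⁻¹) * (c * b * c⁻¹) * (c * a * c⁻¹)⁻¹ * (c * b⁻¹ * c⁻¹) := by
          simp only [commutatorElement_def]; group
      _ = (c * a * c⁻¹) * b * (c * a * c⁻¹)⁻¹ * b⁻¹ := by rw [hb', hb'']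
      _ = ⁅⁅c, a⁆ * a, b⁆ := by simp only [commutatorElement_def]; group
  have e2 : ⁅⁅c, a⁆ * a, b⁆ = ⁅c, a⁆ * ⁅a, b⁆ * ⁅c, a⁆⁻¹ * ⁅⁅c, a⁆, b⁆ := by
    simp only [commutatorElement_def]; group
  have e3 : ⁅c, a⁆ * ⁅a, b⁆ * ⁅c, a⁆⁻¹ = ⁅a, b⁆ := by rw [hcomm1]; group
  rw [br_eq h (π_lift h _) hab, br_eq h hca (π_lift h _), ← hc, ← hb]
  have hcen : ⁅⁅c, a⁆, b⁆ ∈ Subgroup.center E := by
    apply h.cen
    rw [MonoidHom.mem_ker, map_commutatorElement, hca, hb, π_lift]
    exact comm_X hij hkl.symm _ _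
  rw [Subgroup.mem_center_iff] at hcen
  calc ⁅c, ⁅a, b⁆⁆ = (c * ⁅a, b⁆ * c⁻¹) * ⁅a, b⁆⁻¹ := by rw [commutatorElement_def c]
    _ = ⁅a, b⁆ * ⁅⁅c, a⁆, b⁆ * ⁅a, b⁆⁻¹ := by rw [e1, e2, e3]
    _ = ⁅⁅c, a⁆, b⁆ := by rw [hcen ⁅a, b⁆]; group

/-- second relation between the obstructions -/
theorem omega_rel2 (h : IsCE π) {i j k l : Fin n} (hij : i ≠ j) (hik : i ≠ k) (hil : i ≠ l) (hjk : j ≠ k)
    (hjl : j ≠ l) (hkl : k ≠ l) (t u : K) :
    br h (X k l u) (X i j t) = br h (X i l t) (X k j u) := by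
  set a := lift h (X i l t) with ha
  set b := lift h (X l j (1 : K)) with hb
  set c := lift h (X k l u) with hc
  have hab : π ⁅a, b⁆ = X i j t := by
    rw [map_commutatorElement, π_lift, π_lift, X_eq_comm hil hjl.symm hij, mul_one]
  have hcb : π ⁅c, b⁆ = X k j u := by
    rw [map_commutatorElement, π_lift, π_lift, X_eq_comm hkl hjl.symm hjk.symm, mul_one]
  -- a and c commute
  have hac : c * a = a * c := by
    have := br_X_of_free h hkl hil.symm hkl hjk hjl hij.symm hjl u t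
    rw [br_eq h (π_lift h _) (π_lift h _), comm_iff] at this
    exact this
  -- [c,b] commutes with [a,b]
  have hcomm1 : ⁅c, b⁆ * ⁅a, b⁆ = ⁅a, b⁆ * ⁅c, b⁆ := by
    have := br_X_of_free h hjk.symm hij.symm hjk.symm hkl.symm hjl.symm hil.symm hjl.symm u t
    rw [br_eq h hcb hab, comm_iff] at this
    exact this
  have e1 : c * ⁅a, b⁆ * c⁻¹ = ⁅a, ⁅c, b⁆ * b⁆ := by
    have ha' : c * a * c⁻¹ = a := by rw [hac]; group
    have ha'' : c * a⁻¹ * c⁻¹ = a⁻¹ := by
      calc c * a⁻¹ * c⁻¹ = (c * a * c⁻¹)⁻¹ := by group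
        _ = a⁻¹ := by rw [ha']
    calc c * ⁅a, b⁆ * c⁻¹ = (c * a * c⁻¹) * (c * b * c⁻¹) * (c * a⁻¹ * c⁻¹) * (c * b * c⁻¹)⁻¹ := by
          simp only [commutatorElement_def]; group
      _ = a * (c * b * c⁻¹) * a⁻¹ * (c * b * c⁻¹)⁻¹ := by rw [ha', ha'']
      _ = ⁅a, ⁅c, b⁆ * b⁆ := by simp only [commutatorElement_def]; group
  have e2 : ⁅a, ⁅c, b⁆ * b⁆ = ⁅a, ⁅c, b⁆⁆ * (⁅c, b⁆ * ⁅a, b⁆ * ⁅c, b⁆⁻¹) := by
    simp only [commutatorElement_def]; group
  have e3 : ⁅c, b⁆ * ⁅a, b⁆ * ⁅c, b⁆⁻¹ = ⁅a, b⁆ := by rw [hcomm1]; group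
  rw [br_eq h (π_lift h _) hab, br_eq h (π_lift h _) hcb, ← hc, ← ha]
  calc ⁅c, ⁅a, b⁆⁆ = (c * ⁅a, b⁆ * c⁻¹) * ⁅a, b⁆⁻¹ := by rw [commutatorElement_def c]
    _ = ⁅a, ⁅c, b⁆⁆ * ⁅a, b⁆ * ⁅a, b⁆⁻¹ := by rw [e1, e2, e3, mul_assoc]
    _ = ⁅a, ⁅c, b⁆⁆ := by group

/-- the obstruction has order at most two -/
theorem omega_sq (h : IsCE π) {i j k l : Fin n} (hij : i ≠ j) (hik : i ≠ k) (hil : i ≠ l) (hjk : j ≠ k)
    (hjl : j ≠ l) (hkl : k ≠ l) (t u : K) :
    br h (X i l t) (X k j u) * br h (X i l t) (X k j u) = 1 := by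
  -- Ω(t,u) = Ω(-(t u), 1)
  have e1 : ∀ t u : K, br h (X i l t) (X k j u) = br h (X i l (-(t * u))) (X k j 1) := by
    intro t u
    rw [← omega_rel2 h hij hik hil hjk hjl hkl, omega_rel1 h hij hik hil hjk hjl hkl]
  have e2 : br h (X i l (t * u)) (X k j 1) = (br h (X i l (t * u)) (X k j 1))⁻¹ := by
    have := e1 (t * u) 1
    rw [mul_one, br_X_neg_left h hkl.symm hij] at this
    exact this
  rw [e1 t u, br_X_neg_left h hkl.symm hij]
  rw [← e2]
  exact mul_eq_one_iff_eq_inv.mpr e2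

theorem comm_of_four (hn : 4 ≤ n) (hK : (2 : K) ≠ 0 ∨ ∃ b : K, b ≠ 0 ∧ b * b ≠ 1) (h : IsCE π)
    (i j k l : Fin n) (hij : i ≠ j) (hkl : k ≠ l) (hjk : j ≠ k) (hil : i ≠ l) (t u : K) :
    br h (X i j t) (X k l u) = 1 := by
  by_cases hd : i ≠ k ∧ j ≠ l
  · obtain ⟨hik, hjl⟩ := hd
    rcases hK with h2 | ⟨b, hb0, hb1⟩
    · -- characteristic not two
      have e1 : t = t / 2 + t / 2 := by field_simp; ring
      rw [e1, br_X_add_left h hjk hil]
      -- apply omega_sq with the roles (i, l, k, j) ↦ (i, j, k, l): the statement is about X i l, X k j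
      exact omega_sq h hil hik hij hkl.symm.symm.symm hjl.symm hjk.symm (t / 2) u
    · -- a torus element
      have hM := Mon_h (K := K) (by omega : 3 ≤ n) hij hb0
      apply br_X_eq_one_of_scale_left h hjk hil (c := b * b) hb1
      intro t u
      have := br_X_torus h hjk hil hM t u
      have e1 : hd i j b i / hd i j b j = b * b := by
        unfold hd; simp [hij.symm]
      have e2 : hd i j b k / hd i j b l = 1 := by
        unfold hd; simp [hik.symm, hjk.symm, hil.symm, hjl.symm]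
      rw [e1, e2, one_mul] at this
      exact this
  · -- at most three indices are involved
    have : i = k ∨ j = l := by
      by_contra hcon
      push Not at hcon
      exact hd hcon
    obtain ⟨m, h1, h2, h3⟩ : ∃ m : Fin n, m ≠ i ∧ m ≠ j ∧ m ≠ k ∧ m ≠ l := by
      rcases this with rfl | rfl
      · obtain ⟨m, h1, h2, h3⟩ := exists_free4 hn i j l
        exact ⟨m, h1, h2, h1, h3⟩
      · obtain ⟨m, h1, h2, h3⟩ := exists_free4 hn i j k
        exact ⟨m, h1, h2, h3, h2⟩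
    exact br_X_of_free h hij hjk hil h1 h2 h3.1 h3.2 t u

end Four

end Cfsg.Agent.Lib.H1.CExt
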