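import Mathlib
import Cfsg.Agent.Lib.H1.CExt3

set_option autoImplicit false
set_option linter.unusedSimpArgs false
set_option linter.unreachableTactic false
set_option linter.unusedTactic false
set_option linter.unnecessarySeqFocus false

/-!
# `St_3(K)` is centrally closed when `K` has an element `a ≠ 0` with `a³ ≠ 1`; the final statement
-/

namespace Cfsg.Agent.Lib.H1.CExt

open scoped commutatorElement
open Cfsg.Agent.Lib.H1.StSL

variable {K : Type*} [Field K] {n : ℕ} {E : Type*} [Group E] {π : E →* St K n}

theorem eq_one_of_add_of_scale {G : Type*} [Group G] (z : K → G) (hadd : ∀ u u', z (u + u') = z u * z u')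
    {c : K} (hc : c ≠ 1) (hs : ∀ u, z (c * u) = z u) : ∀ u, z u = 1 := by
  have h0 : z 0 = 1 := by
    have := hadd 0 0
    rw [add_zero] at this
    exact mul_eq_left.mp this.symm |>.symm ▸ rfl
  have hneg : ∀ u, z (-u) = (z u)⁻¹ := by
    intro u
    have := hadd u (-u)
    rw [add_neg_cancel, h0] at this
    exact (inv_eq_of_mul_eq_one_right this.symm).symm
  intro u
  have hc' : c - 1 ≠ 0 := sub_ne_zero.mpr hc
  have e1 : u = c * (u / (c - 1)) + -(u / (c - 1)) := by field_simp; ring
  rw [e1, hadd, hneg, hs, mul_inv_cancel]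

section Three

variable (hn : 3 ≤ n) (h : IsCE π) {a : K} (ha0 : a ≠ 0) (ha3 : a * a * a ≠ 1)
include hn ha0 ha3

/-- roots with the same first index -/
theorem br_shared_first {i j k : Fin n} (hij : i ≠ j) (hik : i ≠ k) (hjk : j ≠ k) (t u : K) :
    br h (X i j t) (X i k u) = 1 := by
  have hM := (Mon_h (K := K) hn hij ha0).mul (Mon_h hn hjk.symm ha0)
  rw [mul_one] at hM
  apply br_X_eq_one_of_scale_left h hij.symm hik (c := a * a * a) ha3
  intro t u
  have := br_X_torus h hij.symm hik hM t u
  simp only [Equiv.Perm.one_apply] at this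
  have e1 : hd k j a i * hd i j a i / (hd k j a j * hd i j a j) = a * a * a := by
    unfold hd
    simp [hij, hij.symm, hik, hik.symm, hjk, hjk.symm] <;> first | exact ha0 | field_simp
  have e2 : hd k j a i * hd i j a i / (hd k j a k * hd i j a k) = 1 := by
    unfold hd
    simp [hij, hij.symm, hik, hik.symm, hjk, hjk.symm] <;> first | exact ha0 | field_simp
  rw [e1, e2, one_mul] at this
  exact this

/-- roots with the same second index -/
theorem br_shared_second {i j k : Fin n} (hij : i ≠ j) (hik : i ≠ k) (hjk : j ≠ k) (t u : K) :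
    br h (X i j t) (X k j u) = 1 := by
  have hM := (Mon_h (K := K) hn hij ha0).mul (Mon_h hn hik ha0)
  rw [mul_one] at hM
  apply br_X_eq_one_of_scale_left h hjk hij (c := a * a * a) ha3
  intro t u
  have := br_X_torus h hjk hij hM t u
  simp only [Equiv.Perm.one_apply] at this
  have e1 : hd i k a i * hd i j a i / (hd i k a j * hd i j a j) = a * a * a := by
    unfold hd
    simp [hij, hij.symm, hik, hik.symm, hjk, hjk.symm] <;> first | exact ha0 | field_simp
  have e2 : hd i k a k * hd i j a k / (hd i k a j * hd i j a j) = 1 := by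
    unfold hd
    simp [hij, hij.symm, hik, hik.symm, hjk, hjk.symm] <;> first | exact ha0 | field_simp
  rw [e1, e2, one_mul] at this
  exact this

/-- the product condition -/
theorem br_prod {i m j : Fin n} (him : i ≠ m) (hmj : m ≠ j) (hij : i ≠ j) (t u : K) :
    br h (X i m t) (X m j u) = br h (X i m 1) (X m j (t * u)) := by
  -- additivity in the second variable
  have hPadd : ∀ t u u' : K, br h (X i m t) (X m j (u + u')) =
      br h (X i m t) (X m j u) * br h (X i m t) (X m j u') := by
    intro t u u'
    have e1 : br h (X i m t) (X m j (u + u')) =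
        ⁅lift h (X i m t), lift h (X m j u) * lift h (X m j u')⁆ := by
      rw [← X_add]
      exact br_eq h (π_lift h _) (by rw [map_mul, π_lift, π_lift])
    have e2 : ⁅lift h (X i m t), lift h (X m j u) * lift h (X m j u')⁆ =
        br h (X i m t) (X m j u) * (lift h (X m j u) * br h (X i m t) (X m j u') * (lift h (X m j u))⁻¹) := by
      unfold br
      simp only [commutatorElement_def]; group
    have e3 : lift h (X m j u) * br h (X i m t) (X m j u') =
        br h (X i m t) (X m j u') * lift h (X m j u) := by
      have h1 : π (br h (X i m t) (X m j u')) = X i j (t * u') := by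
        rw [π_br, X_eq_comm him hmj hij]
      have := br_shared_second hn h ha0 ha3 hmj him.symm hij.symm u (t * u')
      rw [br_eq h (π_lift h _) h1, comm_iff] at this
      exact this
    rw [e1, e2, e3]
    group
  -- the defect
  let ζ : K → K → E := fun t u => br h (X i m t) (X m j u) * (br h (X i m 1) (X m j (t * u)))⁻¹
  have hζc : ∀ t u, ζ t u ∈ Subgroup.center E := by
    intro t u
    apply h.cen
    rw [MonoidHom.mem_ker, map_mul, map_inv, π_br, π_br, X_eq_comm him hmj hij, X_eq_comm him hmj hij,
      one_mul, mul_inv_cancel]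
  have hζadd : ∀ t u u', ζ t (u + u') = ζ t u * ζ t u' := by
    intro t u u'
    have hc := Subgroup.mem_center_iff.mp (hζc t u')
    show br h (X i m t) (X m j (u + u')) * (br h (X i m 1) (X m j (t * (u + u'))))⁻¹ = _
    rw [mul_add, hPadd, hPadd, _root_.mul_inv_rev]
    have e : br h (X i m t) (X m j u) * br h (X i m t) (X m j u') *
        ((br h (X i m 1) (X m j (t * u')))⁻¹ * (br h (X i m 1) (X m j (t * u)))⁻¹) =
        br h (X i m t) (X m j u) * ζ t u' * (br h (X i m 1) (X m j (t * u)))⁻¹ := by
      show _ = br h (X i m t) (X m j u) * (br h (X i m t) (X m j u') *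
        (br h (X i m 1) (X m j (t * u')))⁻¹) * (br h (X i m 1) (X m j (t * u)))⁻¹
      group
    rw [e]
    calc br h (X i m t) (X m j u) * ζ t u' * (br h (X i m 1) (X m j (t * u)))⁻¹
        = br h (X i m t) (X m j u) * (ζ t u' * (br h (X i m 1) (X m j (t * u)))⁻¹) := by group
      _ = br h (X i m t) (X m j u) * ((br h (X i m 1) (X m j (t * u)))⁻¹ * ζ t u') := by rw [hc]
      _ = ζ t u * ζ t u' := by
        show _ = br h (X i m t) (X m j u) * (br h (X i m 1) (X m j (t * u)))⁻¹ * ζ t u'
        group
  -- invariance under the torus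
  have hζs : ∀ t u, ζ t (a * a * a * u) = ζ t u := by
    intro t u
    have hM := (Mon_h (K := K) hn hij ha0).mul (Mon_h hn hmj ha0)
    rw [mul_one] at hM
    have e1 : hd m j a i * hd i j a i / (hd m j a m * hd i j a m) = 1 := by
      unfold hd
      simp [hij, hij.symm, him, him.symm, hmj, hmj.symm] <;> first | exact ha0 | field_simp
    have e2 : hd m j a m * hd i j a m / (hd m j a j * hd i j a j) = a * a * a := by
      unfold hd
      simp [hij, hij.symm, him, him.symm, hmj, hmj.symm] <;> first | exact ha0 | field_simp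
    have hconj : ∀ t u : K, lift h (hh i j a * hh m j a) * br h (X i m t) (X m j u) *
        (lift h (hh i j a * hh m j a))⁻¹ = br h (X i m t) (X m j (a * a * a * u)) := by
      intro t u
      rw [conj_br, π_lift, hM.2, hM.2]
      simp only [Equiv.Perm.one_apply]
      rw [e1, e2, one_mul]
    have hc := Subgroup.mem_center_iff.mp (hζc t u) (lift h (hh i j a * hh m j a))
    have e3 : ζ t u = lift h (hh i j a * hh m j a) * ζ t u * (lift h (hh i j a * hh m j a))⁻¹ := by
      rw [hc]; group
    rw [e3]
    show _ = lift h (hh i j a * hh m j a) * (br h (X i m t) (X m j u) *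
      (br h (X i m 1) (X m j (t * u)))⁻¹) * (lift h (hh i j a * hh m j a))⁻¹
    have e4 : lift h (hh i j a * hh m j a) * (br h (X i m t) (X m j u) *
        (br h (X i m 1) (X m j (t * u)))⁻¹) * (lift h (hh i j a * hh m j a))⁻¹ =
        (lift h (hh i j a * hh m j a) * br h (X i m t) (X m j u) * (lift h (hh i j a * hh m j a))⁻¹) *
        (lift h (hh i j a * hh m j a) * br h (X i m 1) (X m j (t * u)) *
          (lift h (hh i j a * hh m j a))⁻¹)⁻¹ := by group
    rw [e4, hconj, hconj]
    show br h (X i m t) (X m j (a * a * a * u)) * (br h (X i m 1) (X m j (t * (a * a * a * u))))⁻¹ = _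
    have e5 : t * (a * a * a * u) = a * a * a * (t * u) := by ring
    rw [e5]
  have hζ1 := eq_one_of_add_of_scale (ζ t) (hζadd t) ha3 (hζs t) u
  exact mul_inv_eq_one.mp hζ1

end Three

/-- the field condition under which `St_n(K)` is centrally closed -/
def FieldCond (K : Type*) [Field K] (n : ℕ) : Prop :=
  5 ≤ n ∨ (n = 4 ∧ ((2 : K) ≠ 0 ∨ ∃ b : K, b ≠ 0 ∧ b * b ≠ 1)) ∨ (n = 3 ∧ ∃ a : K, a ≠ 0 ∧ a * a * a ≠ 1)

/-- every central extension of `St_n(K)` splits -/
theorem exists_section (hK : FieldCond K n) (h : IsCE π) :
    ∃ φ : St K n →* E, ∀ g, π (φ g) = g := by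
  rcases hK with h5 | ⟨h4, hK4⟩ | ⟨h3, a, ha0, ha3⟩
  · exact (good_of_comm (by omega) h (comm_of_five h5 h)).exists_section (by omega)
  · exact (good_of_comm (by omega) h (comm_of_four (by omega) hK4 h)).exists_section (by omega)
  · have hn : 3 ≤ n := by omega
    have hthree : ∀ i j k l : Fin n, i ≠ j → i ≠ k → j ≠ k → l ≠ i → l ≠ k → l = j := by
      intro i j k l hij hik hjk hli hlk
      have := i.isLt; have := j.isLt; have := k.isLt; have := l.isLt
      simp only [ne_eq, Fin.ext_iff] at *
      omega
    have G : Good h := by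
      refine ⟨?_, ?_⟩
      · intro i j k l hij hkl hjk hil t u
        by_cases hki : k = i
        · subst hki
          by_cases hlj : l = j
          · subst hlj
            obtain ⟨m, hm1, hm2⟩ := exists_third hn k l
            exact br_X_of_free h hij hjk hil hm1.symm hm2.symm hm1.symm hm2.symm t u
          · exact br_shared_first hn h ha0 ha3 hij hil (Ne.symm hlj) t u
        · have hlj : l = j := hthree i j k l hij (Ne.symm hki) hjk hil.symm hkl.symm
          subst hlj
          exact br_shared_second hn h ha0 ha3 hij (Ne.symm hki) hjk t u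
      · intro i m m' j him hmj him' hm'j hij t u
        have : m' = m := hthree i m j m' him hij hmj him'.symm hm'j
        subst this
        exact br_prod hn h ha0 ha3 him hmj hij t u
    exact G.exists_section hn

end Cfsg.Agent.Lib.H1.CExt
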