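import Mathlib
import Cfsg.Prelude.Def_KGroupFacts
import Cfsg.Agent.Lib.H1.CExt4
import Cfsg.Agent.Lib.H18.StemCompose
import Cfsg.Agent.Lib.H18.SchurCover2

set_option autoImplicit false

/-!
# From central closedness to the Schur multiplier of a central quotient
-/

namespace Cfsg.Agent.Lib.H1.CExt

open scoped commutatorElement
open Cfsg.Agent.Lib.H18.StemCompose

universe u

/-- every finite central extension of `S` (in the same universe) splits -/
def HasSections (S : Type u) [Group S] : Prop :=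
  ∀ (P : Type u) [Group P] [Finite P] (ρ : P →* S), IsCE ρ → ∃ s : S →* P, ∀ x, ρ (s x) = x

/-- a perfect group all of whose finite stem extensions are trivial has sections -/
theorem hasSections_of_stem_trivial {S : Type u} [Group S] (hperf : commutator S = ⊤)
    (htriv : ∀ (Γ : Type u) [Group Γ] [Finite Γ] (σ : Γ →* S), Cfsg.IsStemExtension σ → σ.ker = ⊥) :
    HasSections S := by
  intro P _ _ ρ hρ
  -- restrict to the commutator subgroup
  let ρ' : commutator P →* S := ρ.comp (commutator P).subtype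
  have hs : ∀ x : P, ∃ c ∈ commutator P, ρ c = ρ x := exists_mem_commutator_map_eq ρ hρ.surj hperf
  have hsurj : Function.Surjective ρ' := by
    intro x
    obtain ⟨p, rfl⟩ := hρ.surj x
    obtain ⟨c, hc, hcp⟩ := hs p
    exact ⟨⟨c, hc⟩, hcp⟩
  have hperf' : commutator (commutator P) = ⊤ := by
    have h1 := Cfsg.Agent.Lib.H18.commutator_isPerfect_of_central ρ hρ.cen hs
    have h2 := Subgroup.map_subtype_commutator (commutator P)
    rw [h1] at h2
    apply Subgroup.map_injective (Subgroup.subtype_injective (commutator P))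
    rw [h2, ← MonoidHom.range_eq_map, Subgroup.range_subtype]
  have hstem : Cfsg.IsStemExtension ρ' := by
    refine ⟨hsurj, ?_, ?_⟩
    · intro x hx
      have hx' : (x : P) ∈ ρ.ker := hx
      have hc := Subgroup.mem_center_iff.mp (hρ.cen hx')
      rw [Subgroup.mem_center_iff]
      intro g
      apply Subtype.ext
      exact hc g
    · rw [hperf']; exact le_top
  have hker := htriv (commutator P) ρ' hstem
  have hinj : Function.Injective ρ' := (MonoidHom.ker_eq_bot_iff ρ').mp hker
  let e := MulEquiv.ofBijective ρ' ⟨hinj, hsurj⟩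
  refine ⟨(commutator P).subtype.comp e.symm.toMonoidHom, fun x => ?_⟩
  have : ρ' (e.symm x) = x := e.apply_symm_apply x
  exact this

/-- the Schur multiplier of a central quotient of a group with sections -/
theorem hasSchurMultiplier_of_hasSections {S G : Type u} [Group S] [Group G] [Finite S]
    (hsec : HasSections S) (τ : S →* G) (hτ : Cfsg.IsStemExtension τ) (A : Type*) [CommGroup A]
    (e : A ≃* τ.ker) : Cfsg.HasSchurMultiplier G A := by
  refine ⟨⟨S, inferInstance, inferInstance, τ, hτ, ⟨e.symm⟩⟩, ?_⟩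
  intro Γ _ _ σ hσ
  -- the fibre product
  have hρ : IsCE (pullSnd σ τ) := ⟨pullSnd_surjective hσ.1, ker_pullSnd_le_center hσ.2.1⟩
  obtain ⟨s₀, hs₀⟩ := hsec (pull σ τ) (pullSnd σ τ) hρ
  let φ : S →* Γ := (pullFst σ τ).comp s₀
  have hφ : ∀ x, σ (φ x) = τ x := by
    intro x
    have h1 : σ (s₀ x).1.1 = τ (s₀ x).1.2 := (mem_pull σ τ).mp (s₀ x).2
    have h2 : (s₀ x).1.2 = x := hs₀ x
    show σ (s₀ x).1.1 = τ x
    rw [h1, h2]
  -- every element is a kernel element times an element of the range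
  have hdec : ∀ γ : Γ, ∃ k ∈ σ.ker, ∃ x : S, γ = φ x * k := by
    intro γ
    obtain ⟨x, hx⟩ := hτ.1 (σ γ)
    refine ⟨(φ x)⁻¹ * γ, ?_, x, by group⟩
    rw [MonoidHom.mem_ker, map_mul, map_inv, hφ, hx, inv_mul_cancel]
  -- the commutator subgroup lies in the range
  have hcomm : commutator Γ ≤ φ.range := by
    rw [commutator_eq_closure, Subgroup.closure_le]
    rintro _ ⟨a, b, rfl⟩
    obtain ⟨k, hk, x, rfl⟩ := hdec a
    obtain ⟨k', hk', y, rfl⟩ := hdec b
    rw [comm_central (hσ.2.1 hk) (hσ.2.1 hk'), ← map_commutatorElement]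
    exact ⟨_, rfl⟩
  have hφs : Function.Surjective φ := by
    intro γ
    obtain ⟨k, hk, x, rfl⟩ := hdec γ
    obtain ⟨y, hy⟩ := hcomm (hσ.2.2 hk)
    exact ⟨x * y, by rw [map_mul, hy]⟩
  -- the map on the kernels
  have hmem : ∀ a : A, φ ((e a : τ.ker) : S) ∈ σ.ker := by
    intro a
    rw [MonoidHom.mem_ker, hφ]
    exact (e a).2
  let π : A →* σ.ker := (φ.comp (τ.ker.subtype.comp e.toMonoidHom)).codRestrict σ.ker hmem
  refine ⟨π, ?_⟩
  rintro ⟨k, hk⟩
  obtain ⟨x, rfl⟩ := hφs k
  have hx : x ∈ τ.ker := by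
    rw [MonoidHom.mem_ker, ← hφ]
    exact hk
  refine ⟨e.symm ⟨x, hx⟩, ?_⟩
  apply Subtype.ext
  show φ ((e (e.symm ⟨x, hx⟩) : τ.ker) : S) = φ x
  rw [MulEquiv.apply_symm_apply]

end Cfsg.Agent.Lib.H1.CExt
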