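import Mathlib
import Cfsg.Prelude.Def_Solvable

set_option autoImplicit false
open Pointwise

namespace Cfsg.Agent.Lib.H1

variable {G : Type*} [Group G]

/-! ### membership in conjugates -/

theorem mem_conj_smul_iff {H : Subgroup G} {g x : G} :
    x ∈ MulAut.conj g • H ↔ g⁻¹ * x * g ∈ H := by
  rw [Subgroup.mem_pointwise_smul_iff_inv_smul_mem]
  simp [MulAut.smul_def, mul_assoc]

theorem conj_smul_eq_self_of_normal {H : Subgroup G} [hH : H.Normal] (g : G) :
    MulAut.conj g • H = H := by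
  ext x
  rw [mem_conj_smul_iff]
  constructor
  · intro h
    have := hH.conj_mem _ h g
    simpa [mul_assoc] using this
  · intro h
    have := hH.conj_mem _ h g⁻¹
    simpa [mul_assoc] using this

/-! ### p-core -/

theorem pCore_normal (p : ℕ) (G : Type*) [Group G] : (Cfsg.pCore p G).Normal :=
  Subgroup.sSup_normal _ (fun _ hH => hH.1)

theorem pCore_isPGroup (p : ℕ) [Fact p.Prime] (G : Type*) [Group G] :
    IsPGroup p (Cfsg.pCore p G) :=
  Sylow.sSup_of_normal _ (fun _ hH => hH.2) (fun _ hH => hH.1)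

theorem le_pCore {p : ℕ} {N : Subgroup G} (hN : N.Normal) (hp : IsPGroup p N) :
    N ≤ Cfsg.pCore p G :=
  le_sSup ⟨hN, hp⟩

theorem pCore_le_sylow {p : ℕ} [Fact p.Prime] (P : Sylow p G) : Cfsg.pCore p G ≤ P := by
  have := pCore_normal p G
  exact (pCore_isPGroup p G).le_sylow_of_normal P

theorem pCore_characteristic (p : ℕ) (G : Type*) [Group G] : (Cfsg.pCore p G).Characteristic := by
  rw [Subgroup.characteristic_iff_map_le]
  intro φ
  change Subgroup.map φ.toMonoidHom (sSup {N : Subgroup G | N.Normal ∧ IsPGroup p N}) ≤ _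
  rw [Subgroup.map_le_iff_le_comap]
  apply sSup_le
  intro N hN
  rw [← Subgroup.map_le_iff_le_comap]
  have h1 : (Subgroup.map φ.toMonoidHom N).Normal :=
    Subgroup.Normal.map hN.1 φ.toMonoidHom φ.surjective
  have h2 : IsPGroup p (Subgroup.map φ.toMonoidHom N) := hN.2.map _
  exact le_sSup (show Subgroup.map φ.toMonoidHom N ∈ {N : Subgroup G | N.Normal ∧ IsPGroup p N} from ⟨h1, h2⟩)

theorem iInf_sylow_normal (p : ℕ) [Fact p.Prime] (G : Type*) [Group G] [Finite G] :
    (⨅ P : Sylow p G, (P : Subgroup G)).Normal := by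
  constructor
  intro n hn g
  rw [Subgroup.mem_iInf] at hn ⊢
  intro P
  have h := hn (g⁻¹ • P)
  have h' : n ∈ MulAut.conj g⁻¹ • (P : Subgroup G) := h
  rw [mem_conj_smul_iff] at h'
  simpa using h'

theorem pCore_eq_iInf_sylow (p : ℕ) [Fact p.Prime] (G : Type*) [Group G] [Finite G] :
    Cfsg.pCore p G = ⨅ P : Sylow p G, (P : Subgroup G) := by
  apply le_antisymm
  · exact le_iInf (fun P => pCore_le_sylow P)
  · apply le_pCore (iInf_sylow_normal p G)
    obtain ⟨P⟩ : Nonempty (Sylow p G) := inferInstance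
    exact P.isPGroup'.to_le (iInf_le _ P)

end Cfsg.Agent.Lib.H1
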