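import Mathlib
import Cfsg.Agent.Lib.H1.PCore

set_option autoImplicit false
open Pointwise

namespace Cfsg.Agent.Lib.H1

variable {G : Type*} [Group G]

theorem isComplement'_of_disjoint_of_forall_mul {H K : Subgroup G} (hd : Disjoint H K)
    (h : ∀ g : G, ∃ x ∈ H, ∃ y ∈ K, g = x * y) : Subgroup.IsComplement' H K := by
  apply Subgroup.isComplement'_of_disjoint_and_mul_eq_univ hd
  rw [Set.eq_univ_iff_forall]
  intro g
  obtain ⟨x, hx, y, hy, rfl⟩ := h g
  exact Set.mul_mem_mul hx hy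

theorem isComplement'_exists_mul {H K : Subgroup G} (h : Subgroup.IsComplement' H K) (g : G) :
    ∃ x ∈ H, ∃ y ∈ K, g = x * y := by
  obtain ⟨⟨x, y⟩, hxy⟩ := h.2 g
  exact ⟨x, x.2, y, y.2, hxy.symm⟩

theorem conj_smul_le_iff {H K : Subgroup G} {g : G} :
    MulAut.conj g • H ≤ K ↔ ∀ h ∈ H, g * h * g⁻¹ ∈ K := by
  constructor
  · intro hle h hh
    apply hle
    rw [mem_conj_smul_iff]
    simpa [mul_assoc] using hh
  · intro hall x hx
    rw [mem_conj_smul_iff] at hx
    have := hall _ hx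
    simpa [mul_assoc] using this

theorem conj_mem_conj_smul {H : Subgroup G} {g h : G} (hh : h ∈ H) :
    g * h * g⁻¹ ∈ MulAut.conj g • H := by
  rw [mem_conj_smul_iff]; simpa [mul_assoc] using hh

theorem card_conj_smul (H : Subgroup G) (g : G) :
    Nat.card (MulAut.conj g • H : Subgroup G) = Nat.card H :=
  (Nat.card_congr (Subgroup.equivSMul (MulAut.conj g) H).toEquiv).symm

theorem isComplement'_conj {N H : Subgroup G} [hN : N.Normal] (h : Subgroup.IsComplement' N H)
    (g : G) : Subgroup.IsComplement' N (MulAut.conj g • H) := by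
  apply isComplement'_of_disjoint_of_forall_mul
  · rw [Subgroup.disjoint_def]
    intro x hxN hxH
    rw [mem_conj_smul_iff] at hxH
    have hxN' : g⁻¹ * x * g ∈ N := by
      have := hN.conj_mem x hxN g⁻¹
      simpa using this
    have := (Subgroup.disjoint_def.mp h.disjoint) hxN' hxH
    calc x = g * (g⁻¹ * x * g) * g⁻¹ := by group
      _ = 1 := by rw [this]; group
  · intro y
    obtain ⟨n, hn, k, hk, hy⟩ := isComplement'_exists_mul h (g⁻¹ * y * g)
    refine ⟨g * n * g⁻¹, hN.conj_mem n hn g, g * k * g⁻¹, conj_mem_conj_smul hk, ?_⟩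
    calc y = g * (g⁻¹ * y * g) * g⁻¹ := by group
      _ = g * (n * k) * g⁻¹ := by rw [hy]
      _ = g * n * g⁻¹ * (g * k * g⁻¹) := by group

theorem isComplement'_map_of_coprime [Finite G] {N H : Subgroup G}
    (h : Subgroup.IsComplement' N H) (hcop : (Nat.card N).Coprime (Nat.card H))
    {Q : Type*} [Group Q] (π : G →* Q) (hπ : Function.Surjective π) :
    Subgroup.IsComplement' (N.map π) (H.map π) := by
  apply isComplement'_of_disjoint_of_forall_mul
  · apply Subgroup.disjoint_of_coprime_natCard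
    exact Nat.Coprime.coprime_dvd_left (Subgroup.card_map_dvd N π)
      (Nat.Coprime.coprime_dvd_right (Subgroup.card_map_dvd H π) hcop)
  · intro q
    obtain ⟨g, rfl⟩ := hπ q
    obtain ⟨n, hn, k, hk, rfl⟩ := isComplement'_exists_mul h g
    exact ⟨π n, Subgroup.mem_map_of_mem π hn, π k, Subgroup.mem_map_of_mem π hk, map_mul π n k⟩

theorem isComplement'_subgroupOf {N H L : Subgroup G} (h : Subgroup.IsComplement' N H)
    (hHL : H ≤ L) : Subgroup.IsComplement' (N.subgroupOf L) (H.subgroupOf L) := by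
  apply isComplement'_of_disjoint_of_forall_mul
  · rw [Subgroup.disjoint_def]
    intro x hxN hxH
    rw [Subgroup.mem_subgroupOf] at hxN hxH
    exact Subtype.ext ((Subgroup.disjoint_def.mp h.disjoint) hxN hxH)
  · intro l
    obtain ⟨n, hn, k, hk, hl⟩ := isComplement'_exists_mul h (l : G)
    have hnL : n ∈ L := by
      have : n = (l : G) * k⁻¹ := by rw [hl]; group
      rw [this]
      exact L.mul_mem l.2 (L.inv_mem (hHL hk))
    exact ⟨⟨n, hnL⟩, Subgroup.mem_subgroupOf.mpr hn, ⟨k, hHL hk⟩, Subgroup.mem_subgroupOf.mpr hk,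
      Subtype.ext hl⟩

theorem isComplement'_subgroupOf_sup {X Y : Subgroup G} [hX : X.Normal] (hd : Disjoint X Y) :
    Subgroup.IsComplement' (X.subgroupOf (X ⊔ Y)) (Y.subgroupOf (X ⊔ Y)) := by
  apply isComplement'_of_disjoint_of_forall_mul
  · rw [Subgroup.disjoint_def]
    intro x hxX hxY
    rw [Subgroup.mem_subgroupOf] at hxX hxY
    exact Subtype.ext ((Subgroup.disjoint_def.mp hd) hxX hxY)
  · intro l
    obtain ⟨x, hx, y, hy, hl⟩ := Subgroup.mem_sup_of_normal_left.mp l.2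
    exact ⟨⟨x, (le_sup_left : X ≤ X ⊔ Y) hx⟩, Subgroup.mem_subgroupOf.mpr hx,
      ⟨y, (le_sup_right : Y ≤ X ⊔ Y) hy⟩, Subgroup.mem_subgroupOf.mpr hy, Subtype.ext hl.symm⟩

theorem conj_smul_eq_of_subgroupOf {L H K : Subgroup G} (hH : H ≤ L) (hK : K ≤ L) (l : L)
    (h : MulAut.conj l • H.subgroupOf L = K.subgroupOf L) : MulAut.conj (l : G) • H = K := by
  ext x
  constructor
  · intro hx
    have hxL : x ∈ L := by
      rw [mem_conj_smul_iff] at hx
      have : x = (l : G) * ((l : G)⁻¹ * x * l) * (l : G)⁻¹ := by group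
      rw [this]
      exact L.mul_mem (L.mul_mem l.2 (hH hx)) (L.inv_mem l.2)
    have : (⟨x, hxL⟩ : L) ∈ MulAut.conj l • H.subgroupOf L := by
      rw [mem_conj_smul_iff, Subgroup.mem_subgroupOf]
      rw [mem_conj_smul_iff] at hx
      exact hx
    rw [h, Subgroup.mem_subgroupOf] at this
    exact this
  · intro hx
    have hxL : x ∈ L := hK hx
    have : (⟨x, hxL⟩ : L) ∈ K.subgroupOf L := Subgroup.mem_subgroupOf.mpr hx
    rw [← h, mem_conj_smul_iff, Subgroup.mem_subgroupOf] at this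
    rw [mem_conj_smul_iff]
    exact this

theorem conj_smul_conj_smul (g h : G) (H : Subgroup G) :
    MulAut.conj g • MulAut.conj h • H = MulAut.conj (g * h) • H := by
  rw [map_mul, mul_smul]

theorem map_conj_smul {Q : Type*} [Group Q] (π : G →* Q) (g : G) (H : Subgroup G) :
    (MulAut.conj g • H).map π = MulAut.conj (π g) • H.map π := by
  ext q
  constructor
  · rintro ⟨x, hx, rfl⟩
    rw [SetLike.mem_coe, mem_conj_smul_iff] at hx
    rw [mem_conj_smul_iff]
    exact ⟨g⁻¹ * x * g, hx, by simp⟩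
  · intro hq
    rw [mem_conj_smul_iff] at hq
    obtain ⟨h, hh, hq⟩ := hq
    refine ⟨g * h * g⁻¹, conj_mem_conj_smul hh, ?_⟩
    rw [map_mul, map_mul, map_inv, hq]
    group

/-- complement inside an intermediate subgroup `L` with `X, Y ≤ L ≤ X ⊔ Y`. -/
theorem isComplement'_subgroupOf_of_le_sup {X Y L : Subgroup G} [hX : X.Normal]
    (hd : Disjoint X Y) (hXL : X ≤ L) (hYL : Y ≤ L) (hL : L ≤ X ⊔ Y) :
    Subgroup.IsComplement' (X.subgroupOf L) (Y.subgroupOf L) := by
  apply isComplement'_of_disjoint_of_forall_mul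
  · rw [Subgroup.disjoint_def]
    intro x hxX hxY
    rw [Subgroup.mem_subgroupOf] at hxX hxY
    exact Subtype.ext ((Subgroup.disjoint_def.mp hd) hxX hxY)
  · intro l
    obtain ⟨x, hx, y, hy, hl⟩ := Subgroup.mem_sup_of_normal_left.mp (hL l.2)
    exact ⟨⟨x, hXL hx⟩, Subgroup.mem_subgroupOf.mpr hx,
      ⟨y, hYL hy⟩, Subgroup.mem_subgroupOf.mpr hy, Subtype.ext hl.symm⟩

theorem mem_sup_of_le_normalizer {X Y : Subgroup G} (hY : Y ≤ Subgroup.normalizer (X : Set G))
    {l : G} (hl : l ∈ X ⊔ Y) : ∃ x ∈ X, ∃ y ∈ Y, l = x * y := by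
  have h := Subgroup.coe_mul_of_right_le_normalizer_left X Y hY
  have hl' : l ∈ ((X ⊔ Y : Subgroup G) : Set G) := hl
  rw [h] at hl'
  obtain ⟨x, hx, y, hy, rfl⟩ := hl'
  exact ⟨x, hx, y, hy, rfl⟩

/-- complement inside an intermediate subgroup `L` with `X, Y ≤ L ≤ X ⊔ Y`, `Y` normalizing `X`. -/
theorem isComplement'_subgroupOf_of_le_sup' {X Y L : Subgroup G}
    (hY : Y ≤ Subgroup.normalizer (X : Set G))
    (hd : Disjoint X Y) (hXL : X ≤ L) (hYL : Y ≤ L) (hL : L ≤ X ⊔ Y) :
    Subgroup.IsComplement' (X.subgroupOf L) (Y.subgroupOf L) := by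
  apply isComplement'_of_disjoint_of_forall_mul
  · rw [Subgroup.disjoint_def]
    intro x hxX hxY
    rw [Subgroup.mem_subgroupOf] at hxX hxY
    exact Subtype.ext ((Subgroup.disjoint_def.mp hd) hxX hxY)
  · intro l
    obtain ⟨x, hx, y, hy, hl⟩ := mem_sup_of_le_normalizer hY (hL l.2)
    exact ⟨⟨x, hXL hx⟩, Subgroup.mem_subgroupOf.mpr hx,
      ⟨y, hYL hy⟩, Subgroup.mem_subgroupOf.mpr hy, Subtype.ext hl⟩

/-- complement inside an overgroup `M` of the first factor. -/
theorem isComplement'_subgroupOf_of_left_le {N K M : Subgroup G}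
    (h : Subgroup.IsComplement' N K) (hNM : N ≤ M) :
    Subgroup.IsComplement' (N.subgroupOf M) (K.subgroupOf M) := by
  apply isComplement'_of_disjoint_of_forall_mul
  · rw [Subgroup.disjoint_def]
    intro x hxN hxK
    rw [Subgroup.mem_subgroupOf] at hxN hxK
    exact Subtype.ext ((Subgroup.disjoint_def.mp h.disjoint) hxN hxK)
  · intro m
    obtain ⟨n, hn, k, hk, hm⟩ := isComplement'_exists_mul h (m : G)
    have hkM : k ∈ M := by
      have : k = n⁻¹ * (m : G) := by rw [hm]; group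
      rw [this]
      exact M.mul_mem (M.inv_mem (hNM hn)) m.2
    exact ⟨⟨n, hNM hn⟩, Subgroup.mem_subgroupOf.mpr hn, ⟨k, hkM⟩, Subgroup.mem_subgroupOf.mpr hk,
      Subtype.ext hm⟩

/-- Dedekind: `(N ⊔ R) ⊓ H = R` when `R ≤ H`, `N ⊓ H = ⊥`, `N` normal. -/
theorem sup_inf_eq_of_disjoint {N R H : Subgroup G} [hN : N.Normal] (hd : Disjoint N H)
    (hRH : R ≤ H) : (N ⊔ R) ⊓ H = R := by
  apply le_antisymm
  · rintro x ⟨hx1, hx2⟩
    obtain ⟨n, hn, r, hr, rfl⟩ := Subgroup.mem_sup_of_normal_left.mp hx1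
    have hnH : n ∈ H := by
      have : n = (n * r) * r⁻¹ := by group
      rw [this]
      exact H.mul_mem hx2 (H.inv_mem (hRH hr))
    have := (Subgroup.disjoint_def.mp hd) hn hnH
    rw [this, one_mul]
    exact hr
  · exact le_inf le_sup_right hRH

/-- If `M` is normal then `X` normalizes `M ⊓ X`. -/
theorem le_normalizer_inf_of_normal {M X : Subgroup G} [hM : M.Normal] :
    X ≤ Subgroup.normalizer ((M ⊓ X : Subgroup G) : Set G) := by
  intro x hx
  rw [Subgroup.mem_normalizer_iff]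
  intro y
  constructor
  · rintro ⟨hyM, hyX⟩
    exact ⟨hM.conj_mem y hyM x, X.mul_mem (X.mul_mem hx hyX) (X.inv_mem hx)⟩
  · rintro ⟨hyM, hyX⟩
    have h1 : y = x⁻¹ * (x * y * x⁻¹) * x := by group
    constructor
    · rw [h1]
      have := hM.conj_mem _ hyM x⁻¹
      simpa using this
    · rw [h1]
      exact X.mul_mem (X.mul_mem (X.inv_mem hx) hyX) hx

theorem conj_smul_inf_of_normal {M X : Subgroup G} [hM : M.Normal] (g : G) :
    MulAut.conj g • (M ⊓ X) = M ⊓ MulAut.conj g • X := by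
  ext x
  simp only [mem_conj_smul_iff, Subgroup.mem_inf]
  constructor
  · rintro ⟨h1, h2⟩
    refine ⟨?_, h2⟩
    have := hM.conj_mem _ h1 g
    have e : g * (g⁻¹ * x * g) * g⁻¹ = x := by group
    rwa [e] at this
  · rintro ⟨h1, h2⟩
    refine ⟨?_, h2⟩
    have := hM.conj_mem _ h1 g⁻¹
    simpa using this

theorem card_subgroupOf_of_le {X L : Subgroup G} (h : X ≤ L) :
    Nat.card (X.subgroupOf L) = Nat.card X :=
  Nat.card_congr (Subgroup.subgroupOfEquivOfLe h).toEquiv

end Cfsg.Agent.Lib.H1
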