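import Mathlib
import Cfsg.Agent.Lib.H1.Complement

set_option autoImplicit false
open Pointwise

namespace Cfsg.Agent.Lib.H1

variable {G : Type*} [Group G]

/-- A subgroup of index prime to `p` contains a Sylow `p`-subgroup of `G`. -/
theorem exists_sylow_le_of_not_dvd_index [Finite G] {p : ℕ} [hp : Fact p.Prime] {H : Subgroup G}
    (hH : ¬ p ∣ H.index) : ∃ P : Sylow p G, (P : Subgroup G) ≤ H := by
  obtain ⟨Q⟩ : Nonempty (Sylow p H) := inferInstance
  have hG0 : Nat.card G ≠ 0 := Nat.card_pos.ne'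
  have hcard : Nat.card ((Q : Subgroup H).map H.subtype) = p ^ (Nat.card G).factorization p := by
    rw [Subgroup.card_map_of_injective H.subtype_injective, Q.card_eq_multiplicity]
    have h1 : Nat.card G = Nat.card H * H.index := (H.card_mul_index).symm
    have h2 : H.index ≠ 0 := by
      intro h0
      rw [h0, mul_zero] at h1
      exact hG0 h1
    rw [h1, Nat.factorization_mul Nat.card_pos.ne' h2, Finsupp.add_apply,
      Nat.factorization_eq_zero_of_not_dvd hH, add_zero]
  refine ⟨Sylow.ofCard _ hcard, ?_⟩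
  rw [Sylow.coe_ofCard]
  exact Subgroup.map_subtype_le _

/-- A `p`-subgroup is conjugate into any subgroup of index prime to `p`. -/
theorem exists_conj_le_of_not_dvd_index [Finite G] {p : ℕ} [hp : Fact p.Prime] {H N : Subgroup G}
    (hH : ¬ p ∣ H.index) (hN : IsPGroup p N) : ∃ g : G, ∀ n ∈ N, g * n * g⁻¹ ∈ H := by
  obtain ⟨P₂, hP₂⟩ := exists_sylow_le_of_not_dvd_index hH
  obtain ⟨P, hNP⟩ := hN.exists_le_sylow
  obtain ⟨g, hg⟩ := MulAction.exists_smul_eq G P P₂
  refine ⟨g, fun n hn => hP₂ ?_⟩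
  rw [← hg, Sylow.coe_subgroup_smul]
  exact conj_mem_conj_smul (hNP hn)

end Cfsg.Agent.Lib.H1
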