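import Mathlib

set_option autoImplicit false

namespace Cfsg.Agent.Lib.H1

variable {G : Type*} [Group G]

section
variable {x y : G} (hx : x * x = 1) (hy : y * y = 1)
include hx hy

omit hy in
theorem twoInv_inv_x : x⁻¹ = x := inv_eq_of_mul_eq_one_right hx

theorem twoInv_conj_r : x * (x * y) * x⁻¹ = (x * y)⁻¹ := by
  have hx' : x⁻¹ = x := inv_eq_of_mul_eq_one_right hx
  have hy' : y⁻¹ = y := inv_eq_of_mul_eq_one_right hy
  rw [mul_inv_rev, hx', hy', ← mul_assoc, hx, one_mul]

theorem twoInv_conj_zpow (k : ℤ) : x * (x * y) ^ k * x⁻¹ = ((x * y) ^ k)⁻¹ := by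
  have h := twoInv_conj_r hx hy
  have h2 : x * (x * y) ^ k * x⁻¹ = (x * (x * y) * x⁻¹) ^ k := by
    rw [conj_zpow]
  rw [h2, h, inv_zpow]

theorem twoInv_conj_mem {z : G} (hz : z ∈ Subgroup.zpowers (x * y)) :
    x * z * x⁻¹ = z⁻¹ := by
  obtain ⟨k, rfl⟩ := Subgroup.mem_zpowers_iff.mp hz
  exact twoInv_conj_zpow hx hy k

/-- Every element of `⟨x, y⟩` lies in `⟨xy⟩` or in `x⟨xy⟩`. -/
theorem twoInv_closure_cases {d : G} (hd : d ∈ Subgroup.closure ({x, y} : Set G)) :
    d ∈ Subgroup.zpowers (x * y) ∨ x * d ∈ Subgroup.zpowers (x * y) := by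
  have hx' : x⁻¹ = x := inv_eq_of_mul_eq_one_right hx
  set Z := Subgroup.zpowers (x * y) with hZ
  have hconj : ∀ z ∈ Z, x * z * x ∈ Z := by
    intro z hz
    have := twoInv_conj_mem hx hy hz
    rw [hx'] at this
    rw [this]
    exact Z.inv_mem hz
  induction hd using Subgroup.closure_induction with
  | mem a ha =>
    rcases ha with rfl | ha
    · right; rw [hx]; exact Z.one_mem
    · rw [Set.mem_singleton_iff] at ha
      subst ha
      right; exact Subgroup.mem_zpowers _
  | one => left; exact Z.one_mem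
  | mul a b _ _ iha ihb =>
    rcases iha with ha | ha <;> rcases ihb with hb | hb
    · left; exact Z.mul_mem ha hb
    · right
      have : x * (a * b) = (x * a * x) * (x * b) := by
        simp only [mul_assoc]; rw [← mul_assoc x x b, hx, one_mul]
      rw [this]; exact Z.mul_mem (hconj a ha) hb
    · right
      rw [← mul_assoc]; exact Z.mul_mem ha hb
    · left
      have : a * b = (x * (x * a) * x) * (x * b) := by
        simp only [mul_assoc]
        rw [← mul_assoc x x (b), hx, one_mul, ← mul_assoc x x, hx, one_mul]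
      rw [this]; exact Z.mul_mem (hconj _ ha) hb
  | inv a _ iha =>
    rcases iha with ha | ha
    · left; exact Z.inv_mem ha
    · right
      have : x * a⁻¹ = x * (x * a)⁻¹ * x := by
        rw [mul_inv_rev, hx']; simp only [mul_assoc]; rw [hx, mul_one]
      rw [this]; exact hconj _ (Z.inv_mem ha)

/-- Elements of `⟨x, y⟩` outside `⟨xy⟩` are involutions. -/
theorem twoInv_orderOf_eq_two {d : G} (hd : d ∈ Subgroup.closure ({x, y} : Set G))
    (hd' : d ∉ Subgroup.zpowers (x * y)) : orderOf d = 2 := by
  have hx' : x⁻¹ = x := inv_eq_of_mul_eq_one_right hx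
  rcases twoInv_closure_cases hx hy hd with h | h
  · exact absurd h hd'
  · have hd1 : d ≠ 1 := fun h1 => hd' (h1 ▸ Subgroup.one_mem _)
    have hc := twoInv_conj_mem hx hy h
    rw [hx'] at hc
    -- x * (x*d) * x = (x*d)⁻¹, i.e. d * x = d⁻¹ * x  hence d*d = 1
    have hdd : d * d = 1 := by
      have h1 : x * (x * d) * x = d * x := by rw [← mul_assoc x x d, hx, one_mul]
      rw [h1, mul_inv_rev, hx'] at hc
      have h2 : d = d⁻¹ := mul_right_cancel hc
      calc d * d = d * d⁻¹ := by rw [← h2]
        _ = 1 := mul_inv_cancel d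
    exact orderOf_eq_prime (by rw [pow_two]; exact hdd) hd1

end

theorem mul_self_eq_one_of_orderOf_eq_two {x : G} (hx : orderOf x = 2) : x * x = 1 := by
  have := pow_orderOf_eq_one x
  rwa [hx, pow_two] at this

section Dihedral

/-- the map `i ↦ r ^ i` from `ZMod n`, when `r ^ n = 1`. -/
noncomputable def zmodPowHom (n : ℕ) [NeZero n] (r : G) (hr : r ^ n = 1) :
    Multiplicative (ZMod n) →* G where
  toFun i := r ^ (Multiplicative.toAdd i).val
  map_one' := by simp
  map_mul' i j := by
    rw [← pow_add]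
    simp only [toAdd_mul]
    rw [ZMod.val_add]
    conv_rhs => rw [← Nat.mod_add_div ((Multiplicative.toAdd i).val + (Multiplicative.toAdd j).val) n,
      pow_add, pow_mul, hr, one_pow, mul_one]

theorem zmodPowHom_apply (n : ℕ) [NeZero n] (r : G) (hr : r ^ n = 1) (i : ZMod n) :
    zmodPowHom n r hr (Multiplicative.ofAdd i) = r ^ i.val := rfl

theorem zmodPowHom_mem_zpowers (n : ℕ) [NeZero n] (r : G) (hr : r ^ n = 1)
    (i : Multiplicative (ZMod n)) : zmodPowHom n r hr i ∈ Subgroup.zpowers r :=
  Subgroup.npow_mem_zpowers r _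

/-- The universal map out of the dihedral group. -/
noncomputable def dihedralLift (n : ℕ) [NeZero n] (r s : G) (hr : r ^ n = 1) (hs : s * s = 1)
    (hsr : s * r * s⁻¹ = r⁻¹) : DihedralGroup n →* G :=
  have hs' : s⁻¹ = s := inv_eq_of_mul_eq_one_right hs
  have hconj : ∀ i : Multiplicative (ZMod n),
      s * zmodPowHom n r hr i * s = (zmodPowHom n r hr i)⁻¹ := by
    intro i
    show s * r ^ _ * s = (r ^ _)⁻¹
    have : s * r ^ (Multiplicative.toAdd i).val * s⁻¹ = (s * r * s⁻¹) ^ (Multiplicative.toAdd i).val := by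
      rw [conj_pow]
    rw [hsr, inv_pow, hs'] at this
    exact this
  { toFun := fun d => match d with
      | DihedralGroup.r i => zmodPowHom n r hr (Multiplicative.ofAdd i)
      | DihedralGroup.sr i => s * zmodPowHom n r hr (Multiplicative.ofAdd i)
    map_one' := by
      show zmodPowHom n r hr (Multiplicative.ofAdd 0) = 1
      simp
    map_mul' := by
      rintro (i | i) (j | j)
      · show zmodPowHom n r hr (Multiplicative.ofAdd (i + j)) = _
        rw [ofAdd_add, map_mul]
      · show s * zmodPowHom n r hr (Multiplicative.ofAdd (j - i)) =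
          zmodPowHom n r hr (Multiplicative.ofAdd i) * (s * zmodPowHom n r hr (Multiplicative.ofAdd j))
        rw [ofAdd_sub, map_div, div_eq_mul_inv]
        have h1 := hconj (Multiplicative.ofAdd i)
        -- zi * s = s * zi⁻¹
        have h2 : zmodPowHom n r hr (Multiplicative.ofAdd i) * s
            = s * (zmodPowHom n r hr (Multiplicative.ofAdd i))⁻¹ := by
          rw [← h1]; simp only [← mul_assoc]; rw [hs, one_mul]
        rw [← mul_assoc _ s, h2, mul_assoc]
        congr 1
        have hc : Commute (zmodPowHom n r hr (Multiplicative.ofAdd j))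
            (zmodPowHom n r hr (Multiplicative.ofAdd i))⁻¹ := by
          rw [← map_inv]
          exact (Commute.all (Multiplicative.ofAdd j) (Multiplicative.ofAdd i)⁻¹).map _
        exact hc.eq
      · show s * zmodPowHom n r hr (Multiplicative.ofAdd (i + j)) = _
        rw [ofAdd_add, map_mul, mul_assoc]
      · show zmodPowHom n r hr (Multiplicative.ofAdd (j - i)) =
          (s * zmodPowHom n r hr (Multiplicative.ofAdd i)) * (s * zmodPowHom n r hr (Multiplicative.ofAdd j))
        rw [ofAdd_sub, map_div, div_eq_mul_inv]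
        have h1 := hconj (Multiplicative.ofAdd i)
        rw [← mul_assoc, h1]
        have hc : Commute (zmodPowHom n r hr (Multiplicative.ofAdd j))
            (zmodPowHom n r hr (Multiplicative.ofAdd i))⁻¹ := by
          rw [← map_inv]
          exact (Commute.all (Multiplicative.ofAdd j) (Multiplicative.ofAdd i)⁻¹).map _
        exact hc.eq }

theorem dihedralLift_r (n : ℕ) [NeZero n] (r s : G) (hr : r ^ n = 1) (hs : s * s = 1)
    (hsr : s * r * s⁻¹ = r⁻¹) (i : ZMod n) :
    dihedralLift n r s hr hs hsr (DihedralGroup.r i) = r ^ i.val := rfl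

theorem dihedralLift_sr (n : ℕ) [NeZero n] (r s : G) (hr : r ^ n = 1) (hs : s * s = 1)
    (hsr : s * r * s⁻¹ = r⁻¹) (i : ZMod n) :
    dihedralLift n r s hr hs hsr (DihedralGroup.sr i) = s * r ^ i.val := rfl

/-- Two distinct involutions of a finite group generate a dihedral group. -/
theorem twoInv_closure_equiv_dihedral [Finite G] {x y : G} (hx : orderOf x = 2)
    (hy : orderOf y = 2) (hxy : x ≠ y) :
    Nonempty (↥(Subgroup.closure ({x, y} : Set G)) ≃* DihedralGroup (orderOf (x * y))) := by
  have hxx := mul_self_eq_one_of_orderOf_eq_two hx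
  have hyy := mul_self_eq_one_of_orderOf_eq_two hy
  have hx' : x⁻¹ = x := inv_eq_of_mul_eq_one_right hxx
  have hy' : y⁻¹ = y := inv_eq_of_mul_eq_one_right hyy
  have hx1 : x ≠ 1 := by
    intro h; rw [h, orderOf_one] at hx; omega
  have hy1 : y ≠ 1 := by
    intro h; rw [h, orderOf_one] at hy; omega
  set n := orderOf (x * y) with hn
  haveI : NeZero n := ⟨(orderOf_pos (x * y)).ne'⟩
  have hn1 : n ≠ 1 := by
    intro h
    rw [hn, orderOf_eq_one_iff] at h
    apply hxy
    calc x = x * (y * y) := by rw [hyy, mul_one]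
      _ = (x * y) * y := by rw [mul_assoc]
      _ = y := by rw [h, one_mul]
  set f := dihedralLift n (x * y) x (pow_orderOf_eq_one _) hxx (twoInv_conj_r hxx hyy) with hf
  have hxZ : x ∉ Subgroup.zpowers (x * y) := by
    intro hxZ
    have h1 := twoInv_conj_mem hxx hyy (Subgroup.mem_zpowers (x * y))
    -- x commutes with x*y since both in Z
    have hcomm : x * (x * y) = (x * y) * x := by
      obtain ⟨k, hk⟩ := Subgroup.mem_zpowers_iff.mp hxZ
      have := ((Commute.refl (x * y)).zpow_left k).eq
      rw [hk] at this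
      exact this
    rw [hcomm, mul_inv_cancel_right] at h1
    -- (x*y) = (x*y)⁻¹
    have hsq : (x * y) ^ 2 = 1 := by
      rw [pow_two]
      nth_rewrite 2 [h1]
      exact mul_inv_cancel _
    obtain ⟨k, hk⟩ := Subgroup.mem_zpowers_iff.mp hxZ
    rcases Int.even_or_odd' k with ⟨m, hm | hm⟩
    · apply hx1
      rw [← hk, hm, zpow_mul, zpow_ofNat, hsq, one_zpow]
    · apply hy1
      have h3 : (x * y) ^ k = x * y := by
        rw [hm, zpow_add, zpow_mul, zpow_ofNat, hsq, one_zpow, one_mul, zpow_one]
      have h2 : x * 1 = x * y := by rw [mul_one, ← h3, hk]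
      exact (mul_left_cancel h2).symm
  have hinj : Function.Injective f := by
    rw [injective_iff_map_eq_one]
    rintro (i | i) hi
    · rw [hf, dihedralLift_r] at hi
      have hdvd := orderOf_dvd_of_pow_eq_one hi
      have hlt : i.val < n := ZMod.val_lt i
      have h0 : i.val = 0 := Nat.eq_zero_of_dvd_of_lt hdvd hlt
      rw [(ZMod.val_eq_zero i).mp h0]
      rfl
    · exfalso
      rw [hf, dihedralLift_sr] at hi
      apply hxZ
      have : x = ((x * y) ^ i.val)⁻¹ := eq_inv_of_mul_eq_one_left hi
      have h4 : ((x * y) ^ i.val)⁻¹ ∈ Subgroup.zpowers (x * y) :=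
        Subgroup.inv_mem _ (Subgroup.npow_mem_zpowers _ _)
      rw [← this] at h4
      exact h4
  have hrange : f.range = Subgroup.closure ({x, y} : Set G) := by
    apply le_antisymm
    · rintro _ ⟨a, rfl⟩
      have hxc : x ∈ Subgroup.closure ({x, y} : Set G) := Subgroup.subset_closure (by simp)
      have hyc : y ∈ Subgroup.closure ({x, y} : Set G) := Subgroup.subset_closure (by simp)
      rcases a with i | i
      · rw [hf, dihedralLift_r]
        exact Subgroup.pow_mem _ (Subgroup.mul_mem _ hxc hyc) _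
      · rw [hf, dihedralLift_sr]
        exact Subgroup.mul_mem _ hxc (Subgroup.pow_mem _ (Subgroup.mul_mem _ hxc hyc) _)
    · rw [Subgroup.closure_le]
      rintro a (rfl | ha)
      · refine ⟨DihedralGroup.sr 0, ?_⟩
        rw [hf, dihedralLift_sr, ZMod.val_zero, pow_zero, mul_one]
      · rw [Set.mem_singleton_iff] at ha
        subst ha
        refine ⟨DihedralGroup.sr 1, ?_⟩
        rw [hf, dihedralLift_sr, ZMod.val_one'' hn1, pow_one, ← mul_assoc, hxx, one_mul]
  exact ⟨((MonoidHom.ofInjective hinj).trans (MulEquiv.subgroupCongr hrange)).symm⟩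

end Dihedral

end Cfsg.Agent.Lib.H1
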