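import Mathlib
import Cfsg.Prelude.Def_KGroupFacts
import Cfsg.Agent.Lib.H1.CExt5
import Cfsg.Agent.Lib.H18.SL2Mult
import Cfsg.Agent.Lib.H2.SLCenterCard

set_option autoImplicit false

/-!
# The Schur multiplier of `PSL_n(q)`
-/

namespace Cfsg.Agent.Lib.H1.CExt

open scoped commutatorElement
open Matrix
open Cfsg.Agent.Lib.H1.StSL

universe u

section Field

variable {F : Type u} [Field F] [Fintype F]

/-- all nonzero elements satisfy `x ^ k = 1` only in a field with at most `k + 1` elements -/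
theorem card_le_of_forall_pow (k : ℕ) (hk : 0 < k) (h : ∀ b : F, b ≠ 0 → b ^ k = 1) :
    Fintype.card F - 1 ∣ k := by
  classical
  obtain ⟨g, hg⟩ := IsCyclic.exists_generator (α := Fˣ)
  have hord : orderOf g = Fintype.card F - 1 := by
    rw [orderOf_eq_card_of_forall_mem_zpowers hg, Nat.card_eq_fintype_card, Fintype.card_units]
  rw [← hord]
  apply orderOf_dvd_of_pow_eq_one
  apply Units.ext
  rw [Units.val_pow_eq_pow_val, h _ (Units.ne_zero g), Units.val_one]

theorem fieldCond_of_card {n : ℕ} (hn : 3 ≤ n)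
    (hexc : (n, Fintype.card F) ∉ ({(3, 2), (3, 4), (4, 2)} : Set (ℕ × ℕ))) : FieldCond F n := by
  have hq2 : 2 ≤ Fintype.card F := by
    have := Fintype.one_lt_card (α := F)
    omega
  by_cases h5 : 5 ≤ n
  · exact Or.inl h5
  have hn34 : n = 3 ∨ n = 4 := by omega
  rcases hn34 with rfl | rfl
  · refine Or.inr (Or.inr ⟨rfl, ?_⟩)
    by_contra hcon
    push Not at hcon
    have h1 : ∀ b : F, b ≠ 0 → b ^ 3 = 1 := by
      intro b hb
      have := hcon b hb
      rw [← this]; ring
    have h2 := card_le_of_forall_pow 3 (by norm_num) h1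
    have h3 : Fintype.card F - 1 = 1 ∨ Fintype.card F - 1 = 3 := (Nat.dvd_prime Nat.prime_three).mp h2
    apply hexc
    simp only [Set.mem_insert_iff, Set.mem_singleton_iff, Prod.mk.injEq]
    rcases h3 with h3 | h3
    · left; exact ⟨trivial, by omega⟩
    · right; left; exact ⟨trivial, by omega⟩
  · refine Or.inr (Or.inl ⟨rfl, ?_⟩)
    by_contra hcon
    push Not at hcon
    obtain ⟨h20, hb⟩ := hcon
    -- every nonzero element equals one
    have h1 : ∀ b : F, b ≠ 0 → b = 1 := by
      intro b hb0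
      have hbb := hb b hb0
      have e : (b - 1) * (b - 1) = 0 := by
        have : (b - 1) * (b - 1) = b * b - 2 * b + 1 := by ring
        rw [this, hbb, h20]; ring_nf
        rw [show (2 : F) = 0 from h20]
      have := mul_self_eq_zero.mp e
      exact sub_eq_zero.mp this
    have h2 : ∀ b : F, b ≠ 0 → b ^ 1 = 1 := by
      intro b hb0; rw [pow_one]; exact h1 b hb0
    have h3 := card_le_of_forall_pow 1 (by norm_num) h2
    have h4 : Fintype.card F - 1 = 1 := Nat.dvd_one.mp h3
    apply hexc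
    simp only [Set.mem_insert_iff, Set.mem_singleton_iff, Prod.mk.injEq]
    right; right; exact ⟨trivial, by omega⟩

/-- `SL_n(F)` is centrally closed among finite groups, `n ≥ 3` -/
theorem hasSections_SL {n : ℕ} (hn : 3 ≤ n) (hK : FieldCond F n) :
    HasSections (SpecialLinearGroup (Fin n) F) := by
  intro P _ _ ρ hρ
  obtain ⟨ι, -⟩ := exists_mulEquiv (K := F) (n := n) hn
  have hπ : IsCE (ι.symm.toMonoidHom.comp ρ) := by
    refine ⟨?_, ?_⟩
    · rw [MonoidHom.coe_comp]
      exact ι.symm.surjective.comp hρ.surj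
    · intro x hx
      apply hρ.cen
      rw [MonoidHom.mem_ker] at hx ⊢
      have : ι.symm (ρ x) = 1 := hx
      exact (MulEquiv.map_eq_one_iff ι.symm).mp this
  obtain ⟨φ, hφ⟩ := exists_section hK hπ
  refine ⟨φ.comp ι.symm.toMonoidHom, fun x => ?_⟩
  have h1 : ι.symm (ρ (φ (ι.symm x))) = ι.symm x := hφ (ι.symm x)
  exact ι.symm.injective h1

/-- `SL_2(F)` is centrally closed among finite groups, `|F| ≥ 4`, `|F| ≠ 4, 9` -/
theorem hasSections_SL2 (h4 : 4 ≤ Fintype.card F) (h4' : Fintype.card F ≠ 4) (h9 : Fintype.card F ≠ 9) :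
    HasSections (SpecialLinearGroup (Fin 2) F) := by
  apply hasSections_of_stem_trivial
  · -- perfect
    by_contra hcon
    have h1 : ∀ b : F, b ≠ 0 → b ^ 2 = 1 := by
      intro b hb
      by_contra hb2
      exact hcon (Matrix.SL2.commutator_eq_top hb hb2)
    have h2 := card_le_of_forall_pow 2 (by norm_num) h1
    have h3 := Nat.le_of_dvd (by norm_num) h2
    omega
  · intro Γ _ _ σ hσ
    exact Cfsg.Agent.Lib.H18.SL2Mult.sl2_stem_ker_eq_bot h4' h9 Γ σ hσ

/-- `SL_n(F) → PSL_n(F)` is a stem extension when `SL_n(F)` is perfect -/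
theorem isStem_mk (n : ℕ) (hperf : commutator (SpecialLinearGroup (Fin n) F) = ⊤) :
    Cfsg.IsStemExtension (QuotientGroup.mk' (Subgroup.center (SpecialLinearGroup (Fin n) F))) := by
  refine ⟨QuotientGroup.mk'_surjective _, ?_, ?_⟩
  · rw [QuotientGroup.ker_mk']
  · rw [hperf]; exact le_top

/-- the kernel of `SL_n(F) → PSL_n(F)` is cyclic of order `gcd(n, q - 1)` -/
theorem exists_equiv_ker (n : ℕ) (hn : 1 ≤ n) :
    Nonempty (Multiplicative (ZMod (Nat.gcd n (Fintype.card F - 1))) ≃*
      (QuotientGroup.mk' (Subgroup.center (SpecialLinearGroup (Fin n) F))).ker) := by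
  have hcard := Cfsg.Agent.Lib.H2.card_center_SL (F := F) n hn
  rw [Nat.card_eq_fintype_card (α := F)] at hcard
  have hcyc : IsCyclic (Subgroup.center (SpecialLinearGroup (Fin n) F)) := by
    have e := SpecialLinearGroup.center_equiv_rootsOfUnity (n := Fin n) (R := F)
    exact isCyclic_of_surjective e.symm.toMonoidHom e.symm.surjective
  have e1 := zmodCyclicMulEquiv hcyc
  rw [hcard] at e1
  exact ⟨e1.trans (MulEquiv.subgroupCongr (QuotientGroup.ker_mk' _).symm)⟩

/-- the Schur multiplier of `PSL_n(q)` -/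
theorem psl_multiplier {q : ℕ} (hF : Fintype.card F = q) (n : ℕ) (hn : 2 ≤ n) (h2 : n = 2 → 4 ≤ q)
    (hexc : (n, q) ∉ ({(2, 4), (2, 9), (3, 2), (3, 4), (4, 2)} : Set (ℕ × ℕ))) :
    Cfsg.HasCyclicSchurMultiplier (Matrix.ProjectiveSpecialLinearGroup (Fin n) F) (Nat.gcd n (q - 1)) := by
  subst hF
  simp only [Set.mem_insert_iff, Set.mem_singleton_iff, Prod.mk.injEq, not_or, not_and] at hexc
  obtain ⟨e1, e2, e3, e4, e5⟩ := hexc
  obtain ⟨e⟩ := exists_equiv_ker (F := F) n (by omega)
  have hsec : HasSections (SpecialLinearGroup (Fin n) F) := by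
    by_cases hn2 : n = 2
    · subst hn2
      exact hasSections_SL2 (h2 rfl) (e1 rfl) (e2 rfl)
    · apply hasSections_SL (by omega)
      apply fieldCond_of_card (by omega)
      simp only [Set.mem_insert_iff, Set.mem_singleton_iff, Prod.mk.injEq, not_or, not_and]
      exact ⟨e3, e4, e5⟩
  have hperf : commutator (SpecialLinearGroup (Fin n) F) = ⊤ := by
    by_cases hn2 : n = 2
    · subst hn2
      by_contra hcon
      have h1 : ∀ b : F, b ≠ 0 → b ^ 2 = 1 := by
        intro b hb
        by_contra hb2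
        exact hcon (Matrix.SL2.commutator_eq_top hb hb2)
      have h3 := Nat.le_of_dvd (by norm_num) (card_le_of_forall_pow 2 (by norm_num) h1)
      have := h2 rfl
      omega
    · exact Cfsg.Agent.Lib.H2.SL_commutator_eq_top (by rw [Fintype.card_fin]; omega)
  exact hasSchurMultiplier_of_hasSections hsec _ (isStem_mk n hperf) _ e

end Field

end Cfsg.Agent.Lib.H1.CExt
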