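import Mathlib

set_option autoImplicit false
open Pointwise

namespace Cfsg.Agent.Lib.H1

variable {G : Type*} [Group G]

/-- A nontrivial solvable group has a nontrivial normal abelian subgroup (the last nontrivial term
of the derived series; it is even characteristic). -/
theorem exists_characteristic_commutative_ne_bot_of_isSolvable [hG : Group.IsSolvable G]
    [Nontrivial G] :
    ∃ D : Subgroup G, D.Characteristic ∧ IsMulCommutative D ∧ D ≠ ⊥ := by
  classical
  have hex : ∃ n, derivedSeries G n = ⊥ := hG.solvable
  let n := Nat.find hex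
  have hn : derivedSeries G n = ⊥ := Nat.find_spec hex
  have hn0 : n ≠ 0 := by
    intro h0
    rw [h0, derivedSeries_zero] at hn
    exact top_ne_bot hn
  obtain ⟨k, hk⟩ := Nat.exists_eq_succ_of_ne_zero hn0
  have hkne : derivedSeries G k ≠ ⊥ := Nat.find_min hex (by omega : k < n)
  refine ⟨derivedSeries G k, inferInstance, ?_, hkne⟩
  rw [← Subgroup.commutator_self_eq_bot_iff]
  have : derivedSeries G (k + 1) = ⊥ := by rw [← Nat.succ_eq_add_one, ← hk]; exact hn
  rwa [derivedSeries_succ] at this

/-- A nontrivial finite solvable group has a nontrivial normal `p`-subgroup for some prime `p`. -/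
theorem exists_normal_isPGroup_ne_bot_of_isSolvable [Finite G] [hG : Group.IsSolvable G]
    [Nontrivial G] :
    ∃ (p : ℕ) (_ : Fact p.Prime) (R : Subgroup G), R.Normal ∧ IsPGroup p R ∧ R ≠ ⊥ := by
  obtain ⟨D, hDc, hDcomm, hDne⟩ := exists_characteristic_commutative_ne_bot_of_isSolvable (G := G)
  have hDn : D.Normal := inferInstance
  have hcard : Nat.card D ≠ 1 := fun h => hDne (Subgroup.card_eq_one.mp h)
  obtain ⟨p, hp, hpd⟩ := Nat.exists_prime_and_dvd hcard
  haveI : Fact p.Prime := ⟨hp⟩
  obtain ⟨P⟩ : Nonempty (Sylow p D) := inferInstance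
  have hPn : (P : Subgroup D).Normal := by
    constructor
    intro n hn g
    have : g * n * g⁻¹ = n := by
      rw [mul_comm' g n, mul_inv_cancel_right]
    rw [this]; exact hn
  have hPc : (P : Subgroup D).Characteristic := Sylow.characteristic_of_normal P hPn
  refine ⟨p, ⟨hp⟩, (P : Subgroup D).map D.subtype, ConjAct.normal_of_characteristic_of_normal,
    P.isPGroup'.map _, ?_⟩
  intro h
  rw [Subgroup.map_eq_bot_iff_of_injective _ D.subtype_injective] at h
  exact P.ne_bot_of_dvd_card hpd h

end Cfsg.Agent.Lib.H1
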