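import Mathlib
import Cfsg.Agent.Lib.H1.Complement
import Cfsg.Agent.Lib.H1.SolvableBasic

set_option autoImplicit false
open Pointwise

namespace Cfsg.Agent.Lib.H1

universe u

section Abelian
variable {G : Type*} [Group G]

/-- the class of the transversal given by a complement -/
noncomputable def complClass {A : Subgroup G} [IsMulCommutative A] [A.FiniteIndex] {H : Subgroup G}
    (hH : Subgroup.IsComplement' A H) : A.QuotientDiff :=
  Quotient.mk'' (⟨(H : Set G), hH.symm⟩ : A.LeftTransversal)

open MulOpposite in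
/-- A complement `H` of the abelian normal Hall subgroup `A` is the stabilizer of its own class of
transversals. -/
theorem sz_stabilizer_eq [Finite G] {A : Subgroup G} [A.Normal] [IsMulCommutative A]
    (hcop : (Nat.card A).Coprime A.index) {H : Subgroup G} (hH : Subgroup.IsComplement' A H) :
    MulAction.stabilizer G (complClass hH) = H := by
  have hle : H ≤ MulAction.stabilizer G (complClass hH) := by
    intro h hh
    rw [MulAction.mem_stabilizer_iff]
    show Quotient.mk'' (op h⁻¹ • (⟨(H : Set G), hH.symm⟩ : A.LeftTransversal)) = complClass hH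
    unfold complClass
    congr 1
    apply Subtype.ext
    show op h⁻¹ • (H : Set G) = (H : Set G)
    ext x
    rw [Set.mem_smul_set]
    constructor
    · rintro ⟨y, hy, rfl⟩
      exact H.mul_mem hy (H.inv_mem hh)
    · intro hx
      refine ⟨x * h, H.mul_mem hx hh, ?_⟩
      simp
  have hcompl : Subgroup.IsComplement' A (MulAction.stabilizer G (complClass hH)) :=
    Subgroup.isComplement'_stabilizer_of_coprime hcop
  have hc1 := hcompl.card_mul_card
  have hc2 := hH.card_mul_card
  have hcard : Nat.card (MulAction.stabilizer G (complClass hH)) = Nat.card H := by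
    have : Nat.card A * Nat.card (MulAction.stabilizer G (complClass hH)) =
        Nat.card A * Nat.card H := by
      rw [hc1, hc2]
    exact Nat.eq_of_mul_eq_mul_left Nat.card_pos this
  exact (Subgroup.eq_of_le_of_card_ge hle hcard.le).symm

/-- Schur–Zassenhaus, conjugacy part, abelian normal Hall subgroup. -/
theorem sz_conj_abelian [Finite G] {A : Subgroup G} [A.Normal] [IsMulCommutative A]
    (hcop : (Nat.card A).Coprime A.index) {H K : Subgroup G}
    (hH : Subgroup.IsComplement' A H) (hK : Subgroup.IsComplement' A K) :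
    ∃ a ∈ A, MulAut.conj a • H = K := by
  obtain ⟨a, ha⟩ := Subgroup.exists_smul_eq hcop (complClass hH) (complClass hK)
  refine ⟨a, a.2, ?_⟩
  have h1 : MulAction.stabilizer G ((a : G) • complClass hH) =
      (MulAction.stabilizer G (complClass hH)).map (MulAut.conj (a : G)).toMonoidHom :=
    MulAction.stabilizer_smul_eq_stabilizer_map_conj (a : G) (complClass hH)
  have h2 : (a : G) • complClass hH = complClass hK := ha
  rw [h2, sz_stabilizer_eq hcop hK, sz_stabilizer_eq hcop hH] at h1
  rw [h1]
  rfl

end Abelian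

section General

theorem card_lt_of_ne_top {G : Type*} [Group G] [Finite G] {L : Subgroup G} (h : L ≠ ⊤) :
    Nat.card L < Nat.card G :=
  lt_of_le_of_ne (Subgroup.card_le_card_group L) (fun h' => h (Subgroup.eq_top_of_card_eq L h'))

theorem card_quotient_lt {G : Type*} [Group G] [Finite G] {R : Subgroup G} [R.Normal]
    (h : R ≠ ⊥) : Nat.card (G ⧸ R) < Nat.card G := by
  rw [Subgroup.card_eq_card_quotient_mul_card_subgroup R]
  have h1 : 1 < Nat.card R := by
    rcases Nat.lt_or_ge 1 (Nat.card R) with h1 | h1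
    · exact h1
    · exfalso
      have : Nat.card R = 1 := le_antisymm h1 Nat.card_pos
      exact h (Subgroup.card_eq_one.mp this)
  exact lt_mul_of_one_lt_right Nat.card_pos h1

theorem commutator_lt_of_isSolvable {G : Type*} [Group G] {N : Subgroup G}
    (hs : Group.IsSolvable N) (hN : N ≠ ⊥) : ⁅N, N⁆ < N := by
  haveI : Nontrivial N := (Subgroup.nontrivial_iff_ne_bot N).mpr hN
  have h := Group.IsSolvable.commutator_lt_top_of_nontrivial N
  have h2 : (commutator N).map N.subtype < (⊤ : Subgroup N).map N.subtype :=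
    (Subgroup.map_subtype_lt_map_subtype).mpr h
  rw [Subgroup.map_subtype_commutator, ← MonoidHom.range_eq_map, Subgroup.range_subtype] at h2
  exact h2

/-- The induction hypothesis used in the proof of Schur–Zassenhaus conjugacy. -/
def SZHyp (G : Type u) [Group G] : Prop :=
  ∀ (G' : Type u) [Group G'] [Finite G'], Nat.card G' < Nat.card G →
    ∀ (N H K : Subgroup G'), N.Normal → (Nat.card N).Coprime (Nat.card H) →
      Subgroup.IsComplement' N H → Subgroup.IsComplement' N K →
      (Group.IsSolvable N ∨ Group.IsSolvable H) → ∃ g : G', MulAut.conj g • H = K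

theorem card_eq_of_isComplement' {G : Type*} [Group G] [Finite G] {N H K : Subgroup G}
    (hH : Subgroup.IsComplement' N H) (hK : Subgroup.IsComplement' N K) :
    Nat.card K = Nat.card H := by
  have h1 := hH.card_mul_card
  have h2 := hK.card_mul_card
  have : Nat.card N * Nat.card K = Nat.card N * Nat.card H := by rw [h1, h2]
  exact Nat.eq_of_mul_eq_mul_left Nat.card_pos this

theorem sz_case1 {G : Type u} [Group G] [Finite G] (IH : SZHyp G)
    (N H K : Subgroup G) (hN : N.Normal) (hcop : (Nat.card N).Coprime (Nat.card H))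
    (hH : Subgroup.IsComplement' N H) (hK : Subgroup.IsComplement' N K)
    (hsN : Group.IsSolvable N) : ∃ g : G, MulAut.conj g • H = K := by
  have hKH : Nat.card K = Nat.card H := card_eq_of_isComplement' hH hK
  by_cases hNbot : N = ⊥
  · subst hNbot
    rw [Subgroup.isComplement'_bot_left] at hH hK
    exact ⟨1, by rw [hH, hK]; simp⟩
  set N' : Subgroup G := ⁅N, N⁆ with hN'
  have hN'n : N'.Normal := Subgroup.commutator_normal N N
  have hN'lt : N' < N := commutator_lt_of_isSolvable hsN hNbot
  set π := QuotientGroup.mk' N' with hπ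
  have hπs : Function.Surjective π := QuotientGroup.mk'_surjective N'
  have hH' := isComplement'_map_of_coprime hH hcop π hπs
  have hK' := isComplement'_map_of_coprime hK (hKH ▸ hcop) π hπs
  have hcomm : IsMulCommutative (N.map π) := by
    rw [← Subgroup.commutator_self_eq_bot_iff, ← Subgroup.map_commutator, ← hN',
      Subgroup.map_eq_bot_iff, hπ, QuotientGroup.ker_mk']
  have hNπn : (N.map π).Normal := hN.map π hπs
  have hcop' : (Nat.card (N.map π)).Coprime (N.map π).index := by
    rw [hH'.symm.index_eq_card]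
    exact Nat.Coprime.coprime_dvd_left (Subgroup.card_map_dvd N π)
      (Nat.Coprime.coprime_dvd_right (Subgroup.card_map_dvd H π) hcop)
  obtain ⟨q, _, hq⟩ := sz_conj_abelian hcop' hH' hK'
  obtain ⟨g, rfl⟩ := hπs q
  rw [← map_conj_smul] at hq
  set H₁ := MulAut.conj g • H with hH₁
  have hsup : H₁ ⊔ N' = K ⊔ N' := by
    have := congrArg (Subgroup.comap π) hq
    rwa [Subgroup.comap_map_eq, Subgroup.comap_map_eq, hπ, QuotientGroup.ker_mk'] at this
  set L := N' ⊔ K with hL
  have hH₁c : Subgroup.IsComplement' N H₁ := isComplement'_conj hH g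
  have hH₁card : Nat.card H₁ = Nat.card H := card_conj_smul H g
  have hN'L : N' ≤ L := le_sup_left
  have hKL : K ≤ L := le_sup_right
  have hLH₁ : L = N' ⊔ H₁ := by rw [hL, sup_comm N' K, ← hsup, sup_comm]
  have hH₁L : H₁ ≤ L := by rw [hLH₁]; exact le_sup_right
  have hdK : Disjoint N' K := hK.disjoint.mono_left hN'lt.le
  have hdH₁ : Disjoint N' H₁ := hH₁c.disjoint.mono_left hN'lt.le
  have c1 : Subgroup.IsComplement' (N'.subgroupOf L) (K.subgroupOf L) :=
    isComplement'_subgroupOf_of_le_sup hdK hN'L hKL le_rfl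
  have c2 : Subgroup.IsComplement' (N'.subgroupOf L) (H₁.subgroupOf L) :=
    isComplement'_subgroupOf_of_le_sup hdH₁ hN'L hH₁L hLH₁.le
  have hLtop : L ≠ ⊤ := by
    intro htop
    apply hN'lt.not_ge
    intro n hn
    have hnL : n ∈ N' ⊔ K := by rw [← hL, htop]; trivial
    obtain ⟨x, hx, k, hk, rfl⟩ := Subgroup.mem_sup_of_normal_left.mp hnL
    have hkN : k ∈ N := by
      have : k = x⁻¹ * (x * k) := by group
      rw [this]
      exact N.mul_mem (N.inv_mem (hN'lt.le hx)) hn
    have := (Subgroup.disjoint_def.mp hK.disjoint) hkN hk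
    rw [this, mul_one]; exact hx
  have hcardL : Nat.card L < Nat.card G := card_lt_of_ne_top hLtop
  have hsolv : Group.IsSolvable (N'.subgroupOf L) := by
    have hf : Function.Injective
        ((Subgroup.inclusion hN'lt.le).comp (Subgroup.subgroupOfEquivOfLe hN'L).toMonoidHom) := by
      rw [MonoidHom.coe_comp]
      exact (Subgroup.inclusion_injective hN'lt.le).comp
        (Subgroup.subgroupOfEquivOfLe hN'L).injective
    exact Group.isSolvable_of_isSolvable_injective hf
  have hcopL : (Nat.card (N'.subgroupOf L)).Coprime (Nat.card (H₁.subgroupOf L)) := by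
    rw [card_subgroupOf_of_le hN'L, card_subgroupOf_of_le hH₁L, hH₁card]
    exact Nat.Coprime.coprime_dvd_left (Subgroup.card_dvd_of_le hN'lt.le) hcop
  obtain ⟨l, hl⟩ := IH L hcardL (N'.subgroupOf L) (H₁.subgroupOf L) (K.subgroupOf L)
    (Subgroup.Normal.subgroupOf hN'n L) hcopL c2 c1 (Or.inl hsolv)
  have := conj_smul_eq_of_subgroupOf hH₁L hKL l hl
  refine ⟨(l : G) * g, ?_⟩
  rw [← conj_smul_conj_smul]
  exact this

theorem isSolvable_conj_smul {G : Type*} [Group G] {H : Subgroup G} (hs : Group.IsSolvable H)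
    (g : G) : Group.IsSolvable (MulAut.conj g • H : Subgroup G) :=
  Group.isSolvable_of_surjective (f := (Subgroup.equivSMul (MulAut.conj g) H).toMonoidHom)
    (Subgroup.equivSMul (MulAut.conj g) H).surjective

/-- Second half of case 2: the two complements share the nontrivial subgroup `R = M ⊓ H = M ⊓ K`
for a normal subgroup `M`. -/
theorem sz_case2_aux {G : Type u} [Group G] [Finite G] (IH : SZHyp G)
    (N H K : Subgroup G) (hN : N.Normal) (hcop : (Nat.card N).Coprime (Nat.card H))
    (hH : Subgroup.IsComplement' N H) (hK : Subgroup.IsComplement' N K)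
    (hsH : Group.IsSolvable H) (M : Subgroup G) (hM : M.Normal) (hMHK : M ⊓ H = M ⊓ K)
    (hne : M ⊓ K ≠ ⊥) : ∃ g : G, MulAut.conj g • H = K := by
  have hKH : Nat.card K = Nat.card H := card_eq_of_isComplement' hH hK
  set R := M ⊓ K with hR
  have hRH : R ≤ H := by rw [← hMHK]; exact inf_le_right
  have hRK : R ≤ K := inf_le_right
  have hHn : H ≤ Subgroup.normalizer (R : Set G) := by
    rw [← hMHK]; exact le_normalizer_inf_of_normal
  have hKn : K ≤ Subgroup.normalizer (R : Set G) := le_normalizer_inf_of_normal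
  set L := Subgroup.normalizer (R : Set G) with hL
  by_cases hLtop : L = ⊤
  · -- `R` is normal in `G`; pass to the quotient
    have hRn : R.Normal := Subgroup.normalizer_eq_top_iff.mp hLtop
    set π := QuotientGroup.mk' R with hπ
    have hπs : Function.Surjective π := QuotientGroup.mk'_surjective R
    have hH' := isComplement'_map_of_coprime hH hcop π hπs
    have hK' := isComplement'_map_of_coprime hK (hKH ▸ hcop) π hπs
    have hcop' : (Nat.card (N.map π)).Coprime (Nat.card (H.map π)) :=
      Nat.Coprime.coprime_dvd_left (Subgroup.card_map_dvd N π)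
        (Nat.Coprime.coprime_dvd_right (Subgroup.card_map_dvd H π) hcop)
    have hsolv : Group.IsSolvable (H.map π) :=
      Group.isSolvable_of_surjective (f := (π.subgroupMap H)) (π.subgroupMap_surjective H)
    obtain ⟨q, hq⟩ := IH (G ⧸ R) (card_quotient_lt hne) (N.map π) (H.map π) (K.map π)
      (hN.map π hπs) hcop' hH' hK' (Or.inr hsolv)
    obtain ⟨g, rfl⟩ := hπs q
    rw [← map_conj_smul] at hq
    have hsup : MulAut.conj g • H ⊔ R = K ⊔ R := by
      have := congrArg (Subgroup.comap π) hq
      rwa [Subgroup.comap_map_eq, Subgroup.comap_map_eq, hπ, QuotientGroup.ker_mk'] at this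
    have hR1 : R ≤ MulAut.conj g • H := by
      have : MulAut.conj g • R = R := conj_smul_eq_self_of_normal g
      rw [← this]
      exact Subgroup.pointwise_smul_le_pointwise_smul_iff.mpr hRH
    refine ⟨g, ?_⟩
    rw [sup_eq_left.mpr hR1, sup_eq_left.mpr hRK] at hsup
    exact hsup
  · -- work inside the normalizer `L` of `R`
    have hcardL : Nat.card L < Nat.card G := card_lt_of_ne_top hLtop
    have c1 := isComplement'_subgroupOf hH hHn
    have c2 := isComplement'_subgroupOf hK hKn
    have hcopL : (Nat.card (N.subgroupOf L)).Coprime (Nat.card (H.subgroupOf L)) := by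
      rw [card_subgroupOf_of_le hHn]
      have : Nat.card (N.subgroupOf L) ∣ Nat.card N := by
        rw [← Subgroup.inf_subgroupOf_right, card_subgroupOf_of_le inf_le_right]
        exact Subgroup.card_dvd_of_le inf_le_left
      exact Nat.Coprime.coprime_dvd_left this hcop
    have hsolv : Group.IsSolvable (H.subgroupOf L) :=
      Group.isSolvable_of_isSolvable_injective
        (f := (Subgroup.subgroupOfEquivOfLe hHn).toMonoidHom)
        (Subgroup.subgroupOfEquivOfLe hHn).injective
    obtain ⟨l, hl⟩ := IH L hcardL (N.subgroupOf L) (H.subgroupOf L) (K.subgroupOf L)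
      (Subgroup.Normal.subgroupOf hN L) hcopL c1 c2 (Or.inr hsolv)
    exact ⟨l, conj_smul_eq_of_subgroupOf hHn hKn l hl⟩

theorem sz_case2 {G : Type u} [Group G] [Finite G] (IH : SZHyp G)
    (N H K : Subgroup G) (hN : N.Normal) (hcop : (Nat.card N).Coprime (Nat.card H))
    (hH : Subgroup.IsComplement' N H) (hK : Subgroup.IsComplement' N K)
    (hsH : Group.IsSolvable H) : ∃ g : G, MulAut.conj g • H = K := by
  have hKH : Nat.card K = Nat.card H := card_eq_of_isComplement' hH hK
  by_cases hHbot : H = ⊥
  · subst hHbot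
    rw [Subgroup.isComplement'_bot_right] at hH
    subst hH
    rw [Subgroup.isComplement'_top_left] at hK
    exact ⟨1, by rw [hK]; simp⟩
  haveI : Nontrivial H := (Subgroup.nontrivial_iff_ne_bot H).mpr hHbot
  obtain ⟨p, hp, R₀, hR₀n, hR₀p, hR₀ne⟩ := exists_normal_isPGroup_ne_bot_of_isSolvable (G := H)
  set R := R₀.map H.subtype with hR
  have hRH : R ≤ H := Subgroup.map_subtype_le R₀
  have hRp : IsPGroup p R := hR₀p.map _
  have hRne : R ≠ ⊥ := by
    intro h
    rw [hR, Subgroup.map_eq_bot_iff_of_injective _ H.subtype_injective] at h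
    exact hR₀ne h
  have hRconj : ∀ h ∈ H, ∀ r ∈ R, h * r * h⁻¹ ∈ R := by
    rintro h hh _ ⟨r, hr, rfl⟩
    exact ⟨⟨h, hh⟩ * r * ⟨h, hh⟩⁻¹, hR₀n.conj_mem r hr ⟨h, hh⟩, rfl⟩
  set M := N ⊔ R with hM
  have hNM : N ≤ M := le_sup_left
  have hRM : R ≤ M := le_sup_right
  have hMn : M.Normal := by
    constructor
    intro x hx g
    obtain ⟨n, hn, h, hh, rfl⟩ := isComplement'_exists_mul hH g
    obtain ⟨n', hn', r', hr', rfl⟩ := Subgroup.mem_sup_of_normal_left.mp hx
    have e : n * h * (n' * r') * (n * h)⁻¹ =
        n * ((h * n' * h⁻¹) * (h * r' * h⁻¹)) * n⁻¹ := by group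
    rw [e]
    have h1 : h * n' * h⁻¹ ∈ M := hNM (hN.conj_mem n' hn' h)
    have h2 : h * r' * h⁻¹ ∈ M := hRM (hRconj h hh r' hr')
    exact M.mul_mem (M.mul_mem (hNM hn) (M.mul_mem h1 h2)) (M.inv_mem (hNM hn))
  have hMH : M ⊓ H = R := sup_inf_eq_of_disjoint hH.disjoint hRH
  -- cardinalities in `M`
  have cR : Subgroup.IsComplement' (N.subgroupOf M) (R.subgroupOf M) :=
    isComplement'_subgroupOf_of_le_sup (hH.disjoint.mono_right hRH) hNM hRM le_rfl
  have cK : Subgroup.IsComplement' (N.subgroupOf M) (K.subgroupOf M) :=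
    isComplement'_subgroupOf_of_left_le hK hNM
  have hcardRK : Nat.card (K.subgroupOf M) = Nat.card (R.subgroupOf M) :=
    card_eq_of_isComplement' cR cK
  have hRMp : IsPGroup p (R.subgroupOf M) := hRp.comap_subtype
  have hKMp : IsPGroup p (K.subgroupOf M) := by
    obtain ⟨k, hk⟩ := IsPGroup.iff_card.mp hRMp
    exact IsPGroup.of_card (hcardRK.trans hk)
  have hpN : ¬ p ∣ Nat.card (N.subgroupOf M) := by
    rw [card_subgroupOf_of_le hNM]
    intro hdvd
    have hpR : p ∣ Nat.card R := by
      obtain ⟨k, hk⟩ := IsPGroup.iff_card.mp hRp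
      rcases Nat.eq_zero_or_pos k with rfl | hk0
      · rw [pow_zero] at hk
        exact absurd (Subgroup.card_eq_one.mp hk) hRne
      · rw [hk]; exact dvd_pow_self p hk0.ne'
    have hpH : p ∣ Nat.card H := hpR.trans (Subgroup.card_dvd_of_le hRH)
    exact hp.out.one_lt.ne' (Nat.eq_one_of_dvd_coprimes hcop hdvd hpH)
  have hidxR : ¬ p ∣ (R.subgroupOf M).index := by rw [cR.index_eq_card]; exact hpN
  have hidxK : ¬ p ∣ (K.subgroupOf M).index := by rw [cK.index_eq_card]; exact hpN
  obtain ⟨m, hm⟩ := MulAction.exists_smul_eq M (hRMp.toSylow hidxR) (hKMp.toSylow hidxK)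
  have hm' : MulAut.conj m • R.subgroupOf M = K.subgroupOf M := by
    have := congrArg (fun P : Sylow p M => (P : Subgroup M)) hm
    rw [Sylow.coe_subgroup_smul] at this
    exact this
  have hconjR : MulAut.conj (m : G) • R = M ⊓ K := by
    apply conj_smul_eq_of_subgroupOf hRM inf_le_left m
    rw [hm', inf_comm, Subgroup.inf_subgroupOf_right]
  -- replace `H` by its conjugate
  set H₁ := MulAut.conj (m : G) • H with hH₁
  have hH₁c : Subgroup.IsComplement' N H₁ := isComplement'_conj hH m
  have hH₁card : Nat.card H₁ = Nat.card H := card_conj_smul H m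
  have hMH₁ : M ⊓ H₁ = M ⊓ K := by
    rw [hH₁, ← conj_smul_inf_of_normal, hMH, hconjR]
  have hne : M ⊓ K ≠ ⊥ := by
    rw [← hconjR]
    intro h
    apply hRne
    have := congrArg (fun S : Subgroup G => MulAut.conj (m : G)⁻¹ • S) h
    simpa using this
  obtain ⟨g, hg⟩ := sz_case2_aux IH N H₁ K hN (hH₁card.symm ▸ hcop) hH₁c hK
    (isSolvable_conj_smul hsH m) M hMn hMH₁ hne
  refine ⟨g * m, ?_⟩
  rw [← conj_smul_conj_smul]
  exact hg

theorem sz_conj_aux (n : ℕ) : ∀ (G : Type u) [Group G] [Finite G], Nat.card G = n →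
    ∀ (N H K : Subgroup G), N.Normal → (Nat.card N).Coprime (Nat.card H) →
      Subgroup.IsComplement' N H → Subgroup.IsComplement' N K →
      (Group.IsSolvable N ∨ Group.IsSolvable H) → ∃ g : G, MulAut.conj g • H = K := by
  induction n using Nat.strong_induction_on with
  | _ n ih =>
    intro G _ _ hG N H K hN hcop hH hK hsolv
    have IH : SZHyp G := fun G' _ _ hlt => ih (Nat.card G') (hG ▸ hlt) G' rfl
    rcases hsolv with hs | hs
    · exact sz_case1 IH N H K hN hcop hH hK hs
    · exact sz_case2 IH N H K hN hcop hH hK hs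

/-- **Schur–Zassenhaus, conjugacy part**: complements of a normal Hall subgroup `N` are conjugate,
provided `N` or the complement is solvable. -/
theorem sz_conj {G : Type u} [Group G] [Finite G] {N H K : Subgroup G} [hN : N.Normal]
    (hcop : (Nat.card N).Coprime (Nat.card H))
    (hH : Subgroup.IsComplement' N H) (hK : Subgroup.IsComplement' N K)
    (hsolv : Group.IsSolvable N ∨ Group.IsSolvable H) : ∃ g : G, MulAut.conj g • H = K :=
  sz_conj_aux _ G rfl N H K hN hcop hH hK hsolv

theorem conj_smul_eq_self_of_mem {G : Type*} [Group G] {H : Subgroup G} {h : G} (hh : h ∈ H) :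
    MulAut.conj h • H = H := by
  ext x
  rw [mem_conj_smul_iff]
  constructor
  · intro hx
    have : x = h * (h⁻¹ * x * h) * h⁻¹ := by group
    rw [this]
    exact H.mul_mem (H.mul_mem hh hx) (H.inv_mem hh)
  · intro hx
    exact H.mul_mem (H.mul_mem (H.inv_mem hh) hx) hh

/-- Schur–Zassenhaus conjugacy with the conjugating element in `N`. -/
theorem sz_conj_mem {G : Type u} [Group G] [Finite G] {N H K : Subgroup G} [hN : N.Normal]
    (hcop : (Nat.card N).Coprime (Nat.card H))
    (hH : Subgroup.IsComplement' N H) (hK : Subgroup.IsComplement' N K)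
    (hsolv : Group.IsSolvable N ∨ Group.IsSolvable H) : ∃ n ∈ N, MulAut.conj n • H = K := by
  obtain ⟨g, hg⟩ := sz_conj hcop hH hK hsolv
  obtain ⟨n, hn, h, hh, rfl⟩ := isComplement'_exists_mul hH g
  refine ⟨n, hn, ?_⟩
  rw [← conj_smul_conj_smul, conj_smul_eq_self_of_mem hh] at hg
  exact hg

/-- Schur–Zassenhaus conjugacy in the form with `G ⧸ N`. -/
theorem sz_conj_quotient {G : Type u} [Group G] [Finite G] {N H K : Subgroup G} [hN : N.Normal]
    (hcop : (Nat.card N).Coprime N.index)
    (hH : Subgroup.IsComplement' N H) (hK : Subgroup.IsComplement' N K)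
    (hsolv : Group.IsSolvable N ∨ Group.IsSolvable (G ⧸ N)) :
    ∃ n ∈ N, MulAut.conj n • H = K := by
  have hidx : N.index = Nat.card H := hH.symm.index_eq_card
  rw [hidx] at hcop
  apply sz_conj_mem hcop hH hK
  rcases hsolv with hs | hs
  · exact Or.inl hs
  · right
    exact Group.isSolvable_of_surjective (f := (hH.symm.QuotientMulEquiv).toMonoidHom)
      (hH.symm.QuotientMulEquiv).surjective

/-- Internal form of Schur–Zassenhaus conjugacy: `H`, `K` normalize `N`, meet it trivially, and
`N ⊔ H = N ⊔ K`. -/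
theorem sz_conj_internal {G : Type u} [Group G] [Finite G] {N H K : Subgroup G}
    (hHN : H ≤ Subgroup.normalizer (N : Set G)) (hKN : K ≤ Subgroup.normalizer (N : Set G))
    (hcop : (Nat.card N).Coprime (Nat.card H))
    (hdH : Disjoint N H) (hdK : Disjoint N K) (hsup : N ⊔ H = N ⊔ K)
    (hsolv : Group.IsSolvable N ∨ Group.IsSolvable H) :
    ∃ n ∈ N, MulAut.conj n • H = K := by
  set L := N ⊔ H with hL
  have hNL : N ≤ L := le_sup_left
  have hHL : H ≤ L := le_sup_right
  have hKL : K ≤ L := by rw [hsup]; exact le_sup_right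
  have hLn : L ≤ Subgroup.normalizer (N : Set G) := sup_le Subgroup.le_normalizer hHN
  haveI hNn : (N.subgroupOf L).Normal :=
    (Subgroup.normal_subgroupOf_iff_le_normalizer hNL).mpr hLn
  have c1 : Subgroup.IsComplement' (N.subgroupOf L) (H.subgroupOf L) :=
    isComplement'_subgroupOf_of_le_sup' hHN hdH hNL hHL le_rfl
  have c2 : Subgroup.IsComplement' (N.subgroupOf L) (K.subgroupOf L) :=
    isComplement'_subgroupOf_of_le_sup' hKN hdK hNL hKL hsup.le
  have hcopL : (Nat.card (N.subgroupOf L)).Coprime (Nat.card (H.subgroupOf L)) := by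
    rw [card_subgroupOf_of_le hNL, card_subgroupOf_of_le hHL]; exact hcop
  have hsolvL : Group.IsSolvable (N.subgroupOf L) ∨ Group.IsSolvable (H.subgroupOf L) := by
    rcases hsolv with hs | hs
    · left
      exact Group.isSolvable_of_isSolvable_injective
        (f := (Subgroup.subgroupOfEquivOfLe hNL).toMonoidHom)
        (Subgroup.subgroupOfEquivOfLe hNL).injective
    · right
      exact Group.isSolvable_of_isSolvable_injective
        (f := (Subgroup.subgroupOfEquivOfLe hHL).toMonoidHom)
        (Subgroup.subgroupOfEquivOfLe hHL).injective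
  obtain ⟨n, hn, hconj⟩ := sz_conj_mem hcopL c1 c2 hsolvL
  exact ⟨n, Subgroup.mem_subgroupOf.mp hn, conj_smul_eq_of_subgroupOf hHL hKL n hconj⟩

end General

end Cfsg.Agent.Lib.H1
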