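import Mathlib
import Cfsg.Agent.Lib.H1.SchurZassenhaus

set_option autoImplicit false
open Pointwise

namespace Cfsg.Agent.Lib.H1

universe u

section TypeLevel
variable {G : Type u} [Group G] [Finite G] {X : Type*} [MulAction G X]

/-- **Glauberman's lemma**, existence of a fixed point. `K` normal, `H` a complement, coprime
orders, one of them solvable, `K` transitive on `X`. -/
theorem glauberman_exists_fixed [Nonempty X] {K H : Subgroup G} [hKn : K.Normal]
    (hc : Subgroup.IsComplement' K H) (hcop : (Nat.card K).Coprime (Nat.card H))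
    (hsolv : Group.IsSolvable K ∨ Group.IsSolvable H)
    (htrans : ∀ x y : X, ∃ k ∈ K, k • x = y) : ∃ x : X, ∀ h ∈ H, h • x = x := by
  obtain ⟨x₀⟩ : Nonempty X := inferInstance
  set S := MulAction.stabilizer G x₀ with hS
  -- Schur–Zassenhaus existence inside the stabilizer `S`
  haveI : (K.subgroupOf S).Normal := Subgroup.Normal.subgroupOf hKn S
  have hidx : H.index = Nat.card K := hc.index_eq_card
  have hKidx : K.index = Nat.card H := hc.symm.index_eq_card
  have hcopS : (Nat.card (K.subgroupOf S)).Coprime (K.subgroupOf S).index := by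
    have h1 : Nat.card (K.subgroupOf S) ∣ Nat.card K := by
      rw [← Subgroup.inf_subgroupOf_right, card_subgroupOf_of_le inf_le_right]
      exact Subgroup.card_dvd_of_le inf_le_left
    have h2 : (K.subgroupOf S).index ∣ Nat.card H := by
      rw [← hKidx]
      exact Subgroup.relIndex_dvd_index_of_normal K S
    exact Nat.Coprime.coprime_dvd_left h1 (Nat.Coprime.coprime_dvd_right h2 hcop)
  obtain ⟨H₁', hH₁'⟩ := Subgroup.exists_right_complement'_of_coprime hcopS
  set H₁ := H₁'.map S.subtype with hH₁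
  have hH₁S : H₁ ≤ S := Subgroup.map_subtype_le H₁'
  -- `H₁` is a complement of `K` in `G`
  have hH₁c : Subgroup.IsComplement' K H₁ := by
    apply isComplement'_of_disjoint_of_forall_mul
    · rw [Subgroup.disjoint_def]
      rintro x hxK ⟨s, hs, rfl⟩
      have h1 : s ∈ K.subgroupOf S := Subgroup.mem_subgroupOf.mpr hxK
      have := (Subgroup.disjoint_def.mp hH₁'.disjoint) h1 hs
      rw [this]; rfl
    · intro g
      obtain ⟨k, hk, hkx⟩ := htrans x₀ (g • x₀)
      have hs : k⁻¹ * g ∈ S := by
        rw [hS, MulAction.mem_stabilizer_iff, mul_smul, ← hkx, inv_smul_smul]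
      obtain ⟨n, hn, h₁, hh₁, hnh⟩ := isComplement'_exists_mul hH₁' ⟨k⁻¹ * g, hs⟩
      refine ⟨k * n, K.mul_mem hk (Subgroup.mem_subgroupOf.mp hn), h₁,
        Subgroup.mem_map_of_mem _ hh₁, ?_⟩
      have : k⁻¹ * g = (n : G) * (h₁ : G) := by
        have := congrArg (fun s : S => (s : G)) hnh
        simpa using this
      calc g = k * (k⁻¹ * g) := by group
        _ = k * n * h₁ := by rw [this, mul_assoc]
  obtain ⟨g, hg⟩ := sz_conj (N := K) (H := H₁) (K := H)
    ((card_eq_of_isComplement' hc hH₁c) ▸ hcop) hH₁c hc (by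
      rcases hsolv with hs | hs
      · exact Or.inl hs
      · right
        have e : G ⧸ K ≃* H₁ := hH₁c.symm.QuotientMulEquiv
        have e' : G ⧸ K ≃* H := hc.symm.QuotientMulEquiv
        exact Group.isSolvable_of_surjective (f := (e'.symm.trans e).toMonoidHom)
          (e'.symm.trans e).surjective)
  refine ⟨g • x₀, ?_⟩
  intro h hh
  rw [← hg, mem_conj_smul_iff] at hh
  have hfix : (g⁻¹ * h * g) • x₀ = x₀ := hH₁S hh
  calc h • g • x₀ = g • ((g⁻¹ * h * g) • x₀) := by simp only [← mul_smul]; congr 1; group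
    _ = g • x₀ := by rw [hfix]

omit [Finite G] in
/-- If `k ∈ K` normalizes the complement `H` of the normal subgroup `K`, it centralizes `H`. -/
theorem mem_centralizer_of_conj_smul_eq {K H : Subgroup G} [hKn : K.Normal]
    (hd : Disjoint K H) {k : G} (hk : k ∈ K) (hkH : MulAut.conj k • H = H) :
    k ∈ Subgroup.centralizer (H : Set G) := by
  rw [Subgroup.mem_centralizer_iff]
  intro h hh
  -- k h k⁻¹ h⁻¹ ∈ K ∩ H
  have h1 : k * h * k⁻¹ ∈ H := by
    rw [← hkH]; exact conj_mem_conj_smul hh
  have h2 : k * h * k⁻¹ * h⁻¹ ∈ H := H.mul_mem h1 (H.inv_mem hh)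
  have h3 : k * h * k⁻¹ * h⁻¹ ∈ K := by
    have : k * h * k⁻¹ * h⁻¹ = k * (h * k⁻¹ * h⁻¹) := by group
    rw [this]
    exact K.mul_mem hk (hKn.conj_mem _ (K.inv_mem hk) h)
  have h4 := (Subgroup.disjoint_def.mp hd) h3 h2
  have : k * h = h * k := by
    calc k * h = (k * h * k⁻¹ * h⁻¹) * (h * k) := by group
      _ = h * k := by rw [h4, one_mul]
  exact this.symm

/-- **Glauberman's lemma**, transitivity of `C_K(H)` on the fixed points of `H`. -/
theorem glauberman_fixed_trans {K H : Subgroup G} [hKn : K.Normal]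
    (hc : Subgroup.IsComplement' K H) (hcop : (Nat.card K).Coprime (Nat.card H))
    (hsolv : Group.IsSolvable K ∨ Group.IsSolvable H)
    (htrans : ∀ x y : X, ∃ k ∈ K, k • x = y) (x y : X)
    (hx : ∀ h ∈ H, h • x = x) (hy : ∀ h ∈ H, h • y = y) :
    ∃ k ∈ K ⊓ Subgroup.centralizer (H : Set G), k • x = y := by
  obtain ⟨k, hk, hkx⟩ := htrans x y
  set S := MulAction.stabilizer G y with hS
  have hHS : H ≤ S := fun h hh => hy h hh
  set H₂ := MulAut.conj k • H with hH₂
  have hH₂S : H₂ ≤ S := by
    rw [conj_smul_le_iff]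
    intro h hh
    rw [hS, MulAction.mem_stabilizer_iff, mul_smul, mul_smul, ← hkx, inv_smul_smul, hx h hh]
  have hH₂c : Subgroup.IsComplement' K H₂ := isComplement'_conj hc k
  have c1 := isComplement'_subgroupOf hc hHS
  have c2 := isComplement'_subgroupOf hH₂c hH₂S
  haveI : (K.subgroupOf S).Normal := Subgroup.Normal.subgroupOf hKn S
  have hcopS : (Nat.card (K.subgroupOf S)).Coprime (Nat.card (H₂.subgroupOf S)) := by
    rw [card_subgroupOf_of_le hH₂S, card_conj_smul]
    have h1 : Nat.card (K.subgroupOf S) ∣ Nat.card K := by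
      rw [← Subgroup.inf_subgroupOf_right, card_subgroupOf_of_le inf_le_right]
      exact Subgroup.card_dvd_of_le inf_le_left
    exact Nat.Coprime.coprime_dvd_left h1 hcop
  have hsolvS : Group.IsSolvable (K.subgroupOf S) ∨ Group.IsSolvable (H₂.subgroupOf S) := by
    rcases hsolv with hs | hs
    · left
      have hle : K ⊓ S ≤ K := inf_le_left
      have : Group.IsSolvable ((K ⊓ S : Subgroup G)) :=
        Group.isSolvable_of_isSolvable_injective (Subgroup.inclusion_injective hle)
      rw [← Subgroup.inf_subgroupOf_right]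
      exact Group.isSolvable_of_isSolvable_injective
        (f := (Subgroup.subgroupOfEquivOfLe (inf_le_right : K ⊓ S ≤ S)).toMonoidHom)
        (Subgroup.subgroupOfEquivOfLe (inf_le_right : K ⊓ S ≤ S)).injective
    · right
      have : Group.IsSolvable H₂ := isSolvable_conj_smul hs k
      exact Group.isSolvable_of_isSolvable_injective
        (f := (Subgroup.subgroupOfEquivOfLe hH₂S).toMonoidHom)
        (Subgroup.subgroupOfEquivOfLe hH₂S).injective
  obtain ⟨c, hcK, hconj⟩ := sz_conj_mem hcopS c2 c1 hsolvS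
  have hconj' : MulAut.conj (c : G) • H₂ = H := conj_smul_eq_of_subgroupOf hH₂S hHS c hconj
  rw [hH₂, conj_smul_conj_smul] at hconj'
  have hcK' : (c : G) ∈ K := Subgroup.mem_subgroupOf.mp hcK
  have hckK : (c : G) * k ∈ K := K.mul_mem hcK' hk
  refine ⟨(c : G) * k, ⟨hckK, mem_centralizer_of_conj_smul_eq hc.disjoint hckK hconj'⟩, ?_⟩
  rw [mul_smul, hkx]
  exact c.2

end TypeLevel

end Cfsg.Agent.Lib.H1
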