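import Mathlib
import Cfsg.Agent.Lib.H1.Glauberman

set_option autoImplicit false
open Pointwise
open scoped commutatorElement

namespace Cfsg.Agent.Lib.H1

universe u

variable {G : Type u} [Group G]

/-- `A` acts coprimely (by conjugation inside `G`) on `K`, and one of them is solvable. -/
structure CoprimeAction (A K : Subgroup G) : Prop where
  normalizes : A ≤ Subgroup.normalizer (K : Set G)
  coprime : (Nat.card A).Coprime (Nat.card K)
  solvable : Group.IsSolvable A ∨ Group.IsSolvable K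

namespace CoprimeAction

variable {A K : Subgroup G}

theorem conj_mem (h : CoprimeAction A K) {a k : G} (ha : a ∈ A) (hk : k ∈ K) :
    a * k * a⁻¹ ∈ K :=
  (Subgroup.mem_normalizer_iff.mp (h.normalizes ha) k).mp hk

theorem conj_mem' (h : CoprimeAction A K) {a k : G} (ha : a ∈ A) (hk : k ∈ K) :
    a⁻¹ * k * a ∈ K := by
  have := h.conj_mem (A.inv_mem ha) hk
  simpa using this

theorem disjoint [Finite G] (h : CoprimeAction A K) : Disjoint K A :=
  Subgroup.disjoint_of_coprime_natCard h.coprime.symm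

/-- restriction to an `A`-invariant subgroup -/
theorem mono [Finite G] (h : CoprimeAction A K) {D : Subgroup G} (hDK : D ≤ K)
    (hAD : A ≤ Subgroup.normalizer (D : Set G)) : CoprimeAction A D where
  normalizes := hAD
  coprime := Nat.Coprime.coprime_dvd_right (Subgroup.card_dvd_of_le hDK) h.coprime
  solvable := by
    rcases h.solvable with hs | hs
    · exact Or.inl hs
    · exact Or.inr (Group.isSolvable_of_isSolvable_injective (Subgroup.inclusion_injective hDK))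

end CoprimeAction

/-- **Coset lemma**: if the coset `x D` is `A`-invariant then it contains an element centralizing
`A`. -/
theorem coprime_coset_fixed [Finite G] {A D : Subgroup G} (h : CoprimeAction A D) (x : G)
    (hx : ∀ a ∈ A, x⁻¹ * a * x * a⁻¹ ∈ D) :
    ∃ d ∈ D, x * d ∈ Subgroup.centralizer (A : Set G) := by
  set A₂ := MulAut.conj x⁻¹ • A with hA₂
  have hdA : Disjoint D A := h.disjoint
  have hA₂card : Nat.card A₂ = Nat.card A := card_conj_smul A x⁻¹
  have hdA₂ : Disjoint D A₂ :=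
    Subgroup.disjoint_of_coprime_natCard (hA₂card ▸ h.coprime.symm)
  have hDAn : D ⊔ A ≤ Subgroup.normalizer (D : Set G) := sup_le Subgroup.le_normalizer h.normalizes
  have hA₂le : A₂ ≤ D ⊔ A := by
    rw [conj_smul_le_iff]
    intro a ha
    have : x⁻¹ * a * x⁻¹⁻¹ = (x⁻¹ * a * x * a⁻¹) * a := by group
    rw [this]
    exact Subgroup.mul_mem_sup (hx a ha) ha
  have hA₂n : A₂ ≤ Subgroup.normalizer (D : Set G) := hA₂le.trans hDAn
  have hsup : D ⊔ A₂ = D ⊔ A := by
    apply le_antisymm (sup_le le_sup_left hA₂le)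
    apply sup_le le_sup_left
    intro a ha
    have : a = (x⁻¹ * a * x * a⁻¹)⁻¹ * (x⁻¹ * a * x⁻¹⁻¹) := by group
    rw [this]
    exact Subgroup.mul_mem_sup (D.inv_mem (hx a ha)) (conj_mem_conj_smul ha)
  have hsolv : Group.IsSolvable D ∨ Group.IsSolvable A₂ := by
    rcases h.solvable with hs | hs
    · exact Or.inr (isSolvable_conj_smul hs x⁻¹)
    · exact Or.inl hs
  obtain ⟨n, hn, hconj⟩ := sz_conj_internal hA₂n h.normalizes (hA₂card ▸ h.coprime.symm)
    hdA₂ hdA hsup hsolv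
  rw [hA₂, conj_smul_conj_smul] at hconj
  -- `y = n * x⁻¹` normalizes `A`; `x * n⁻¹ = y⁻¹`
  refine ⟨n⁻¹, D.inv_mem hn, ?_⟩
  rw [Subgroup.mem_centralizer_iff]
  intro a ha
  -- the commutator lies in `D ∩ A`
  have h1 : (n * x⁻¹) * a * (n * x⁻¹)⁻¹ ∈ A := by
    rw [← hconj]; exact conj_mem_conj_smul ha
  have h2 : (n * x⁻¹) * a * (n * x⁻¹)⁻¹ * a⁻¹ ∈ A := A.mul_mem h1 (A.inv_mem ha)
  have h3 : (n * x⁻¹) * a * (n * x⁻¹)⁻¹ * a⁻¹ ∈ D := by
    have : (n * x⁻¹) * a * (n * x⁻¹)⁻¹ * a⁻¹ = n * (x⁻¹ * a * x * a⁻¹) * (a * n⁻¹ * a⁻¹) := by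
      group
    rw [this]
    exact D.mul_mem (D.mul_mem hn (hx a ha)) (h.conj_mem ha (D.inv_mem hn))
  have h4 := (Subgroup.disjoint_def.mp hdA) h3 h2
  have h5 : (n * x⁻¹) * a = a * (n * x⁻¹) := by
    calc (n * x⁻¹) * a = ((n * x⁻¹) * a * (n * x⁻¹)⁻¹ * a⁻¹) * (a * (n * x⁻¹)) := by group
      _ = a * (n * x⁻¹) := by rw [h4, one_mul]
  calc a * (x * n⁻¹) = (x * n⁻¹) * ((n * x⁻¹) * a) * (x * n⁻¹) := by group
    _ = (x * n⁻¹) * (a * (n * x⁻¹)) * (x * n⁻¹) := by rw [h5]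
    _ = x * n⁻¹ * a := by group

/-- `C_{K/N}(A) = C_K(A) N / N` in internal form. -/
theorem coprime_centralizer_quotient [Finite G] {A K : Subgroup G} (h : CoprimeAction A K)
    {N : Subgroup G} (hNK : N ≤ K) (hKN : K ≤ Subgroup.normalizer (N : Set G))
    (hAN : A ≤ Subgroup.normalizer (N : Set G)) {k : G} (hk : k ∈ K)
    (hfix : ∀ a ∈ A, a * k * a⁻¹ * k⁻¹ ∈ N) :
    ∃ c ∈ K ⊓ Subgroup.centralizer (A : Set G), k⁻¹ * c ∈ N := by
  have hN : CoprimeAction A N := h.mono hNK hAN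
  have hx : ∀ a ∈ A, k⁻¹ * a * k * a⁻¹ ∈ N := by
    intro a ha
    have h1 := hfix a⁻¹ (A.inv_mem ha)
    rw [inv_inv] at h1
    -- conjugate by k⁻¹
    have h2 : k⁻¹ * (a⁻¹ * k * a * k⁻¹) * k⁻¹⁻¹ ∈ N :=
      (Subgroup.mem_normalizer_iff.mp (hKN (K.inv_mem hk)) _).mp h1
    have h3 := N.inv_mem h2
    have h4 : a * (k⁻¹ * (a⁻¹ * k * a * k⁻¹) * k⁻¹⁻¹)⁻¹ * a⁻¹ ∈ N :=
      (Subgroup.mem_normalizer_iff.mp (hAN ha) _).mp h3
    have e : a * (k⁻¹ * (a⁻¹ * k * a * k⁻¹) * k⁻¹⁻¹)⁻¹ * a⁻¹ = k⁻¹ * a * k * a⁻¹ := by group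
    rwa [e] at h4
  obtain ⟨d, hd, hc⟩ := coprime_coset_fixed hN k hx
  refine ⟨k * d, ⟨K.mul_mem hk (hNK hd), hc⟩, ?_⟩
  rw [← mul_assoc, inv_mul_cancel, one_mul]
  exact hd

theorem CoprimeAction.commutator_le {A K : Subgroup G} (h : CoprimeAction A K) : ⁅K, A⁆ ≤ K :=
  (Subgroup.le_normalizer_iff_commutator_le_left).mp h.normalizes

/-- `K = [K, A] C_K(A)` for a coprime action. -/
theorem coprime_commutator_sup_centralizer [Finite G] {A K : Subgroup G}
    (h : CoprimeAction A K) : ⁅K, A⁆ ⊔ (K ⊓ Subgroup.centralizer (A : Set G)) = K := by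
  apply le_antisymm
  · exact sup_le h.commutator_le inf_le_left
  · intro k hk
    have hfix : ∀ a ∈ A, a * k * a⁻¹ * k⁻¹ ∈ ⁅K, A⁆ := by
      intro a ha
      have : a * k * a⁻¹ * k⁻¹ = ⁅a, k⁆ := rfl
      rw [this, Subgroup.commutator_comm]
      exact Subgroup.commutator_mem_commutator ha hk
    obtain ⟨c, hc, hkc⟩ := coprime_centralizer_quotient h h.commutator_le
      (Subgroup.normalizer_commutator_ge_left K A) (Subgroup.normalizer_commutator_ge_right K A)
      hk hfix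
    have : k = c * (k⁻¹ * c)⁻¹ := by group
    rw [this, sup_comm]
    exact Subgroup.mul_mem_sup hc (Subgroup.inv_mem _ hkc)

/-- `[K, A, A] = [K, A]` for a coprime action. -/
theorem coprime_commutator_commutator [Finite G] {A K : Subgroup G}
    (h : CoprimeAction A K) : ⁅⁅K, A⁆, A⁆ = ⁅K, A⁆ := by
  apply le_antisymm
  · exact (Subgroup.le_normalizer_iff_commutator_le_left).mp
      (Subgroup.normalizer_commutator_ge_right K A)
  · rw [Subgroup.commutator_le]
    intro k hk a ha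
    have hk' : k ∈ ⁅K, A⁆ ⊔ (K ⊓ Subgroup.centralizer (A : Set G)) := by
      rw [coprime_commutator_sup_centralizer h]; exact hk
    -- `[K, A]` is normalized by `K ⊓ C(A) ≤ K`
    have hnorm : K ⊓ Subgroup.centralizer (A : Set G) ≤
        Subgroup.normalizer ((⁅K, A⁆ : Subgroup G) : Set G) :=
      inf_le_left.trans (Subgroup.normalizer_commutator_ge_left K A)
    obtain ⟨l, hl, c, hc, rfl⟩ := mem_sup_of_le_normalizer hnorm hk'
    have hca : c * a = a * c := by
      have := (Subgroup.mem_centralizer_iff.mp hc.2) a ha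
      exact this.symm
    have : ⁅l * c, a⁆ = ⁅l, a⁆ := by
      rw [commutatorElement_def, commutatorElement_def]
      calc l * c * a * (l * c)⁻¹ * a⁻¹ = l * (c * a) * c⁻¹ * l⁻¹ * a⁻¹ := by group
        _ = l * (a * c) * c⁻¹ * l⁻¹ * a⁻¹ := by rw [hca]
        _ = l * a * l⁻¹ * a⁻¹ := by group
    rw [this]
    exact Subgroup.commutator_mem_commutator hl ha

/-- `C_{XY}(A) = C_X(A) C_Y(A)` for `A`-invariant `X`, `Y` with `K = XY`. -/
theorem coprime_centralizer_mul [Finite G] {A K : Subgroup G} (h : CoprimeAction A K)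
    {X Y : Subgroup G} (hX : X ≤ K) (_hY : Y ≤ K)
    (hXA : A ≤ Subgroup.normalizer (X : Set G)) (hYA : A ≤ Subgroup.normalizer (Y : Set G))
    (hXY : ∀ k ∈ K, ∃ x ∈ X, ∃ y ∈ Y, k = x * y) {k : G}
    (hk : k ∈ K ⊓ Subgroup.centralizer (A : Set G)) :
    ∃ x ∈ X ⊓ Subgroup.centralizer (A : Set G), ∃ y ∈ Y ⊓ Subgroup.centralizer (A : Set G),
      k = x * y := by
  obtain ⟨x, hx, y, hy, rfl⟩ := hXY k hk.1
  have hDn : A ≤ Subgroup.normalizer ((X ⊓ Y : Subgroup G) : Set G) := by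
    intro a ha
    rw [Subgroup.mem_normalizer_iff]
    intro g
    rw [Subgroup.mem_inf, Subgroup.mem_inf, ← Subgroup.mem_normalizer_iff.mp (hXA ha) g,
      ← Subgroup.mem_normalizer_iff.mp (hYA ha) g]
  have hD : CoprimeAction A (X ⊓ Y) := h.mono (inf_le_left.trans hX) hDn
  have hxD : ∀ a ∈ A, x⁻¹ * a * x * a⁻¹ ∈ X ⊓ Y := by
    intro a ha
    constructor
    · have h1 : a * x * a⁻¹ ∈ X := (Subgroup.mem_normalizer_iff.mp (hXA ha) x).mp hx
      have : x⁻¹ * a * x * a⁻¹ = x⁻¹ * (a * x * a⁻¹) := by group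
      rw [this]
      exact X.mul_mem (X.inv_mem hx) h1
    · have hcomm : (x * y) * a = a * (x * y) := by
        have := (Subgroup.mem_centralizer_iff.mp hk.2) a ha
        exact this.symm
      have h1 : a * y * a⁻¹ ∈ Y := (Subgroup.mem_normalizer_iff.mp (hYA ha) y).mp hy
      have : x⁻¹ * a * x * a⁻¹ = y * (a * y * a⁻¹)⁻¹ := by
        have e1 : a * x * a⁻¹ * (a * y * a⁻¹) = x * y := by
          calc a * x * a⁻¹ * (a * y * a⁻¹) = (a * (x * y)) * a⁻¹ := by group
            _ = ((x * y) * a) * a⁻¹ := by rw [hcomm]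
            _ = x * y := by group
        calc x⁻¹ * a * x * a⁻¹ = x⁻¹ * (a * x * a⁻¹ * (a * y * a⁻¹)) * (a * y * a⁻¹)⁻¹ := by group
          _ = x⁻¹ * (x * y) * (a * y * a⁻¹)⁻¹ := by rw [e1]
          _ = y * (a * y * a⁻¹)⁻¹ := by group
      rw [this]
      exact Y.mul_mem hy (Y.inv_mem h1)
  obtain ⟨d, hd, hc⟩ := coprime_coset_fixed hD x hxD
  refine ⟨x * d, ⟨X.mul_mem hx hd.1, hc⟩, d⁻¹ * y, ⟨Y.mul_mem (Y.inv_mem hd.2) hy, ?_⟩, by group⟩
  have : d⁻¹ * y = (x * d)⁻¹ * (x * y) := by group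
  rw [this]
  exact Subgroup.mul_mem _ (Subgroup.inv_mem _ hc) hk.2

section GlaubermanSet

variable [Finite G] {X : Type*} [MulAction G X]

/-- Glauberman's lemma for a coprime action inside `G` and an invariant subset `Y` of a `G`-set
on which `K` is transitive: existence of an `A`-fixed point. -/
theorem glauberman_set_exists_fixed {A K : Subgroup G} (h : CoprimeAction A K) (Y : Set X)
    (hYne : Y.Nonempty) (hYK : ∀ k ∈ K, ∀ y ∈ Y, k • y ∈ Y) (hYA : ∀ a ∈ A, ∀ y ∈ Y, a • y ∈ Y)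
    (htrans : ∀ y ∈ Y, ∀ y' ∈ Y, ∃ k ∈ K, k • y = y') :
    ∃ y ∈ Y, ∀ a ∈ A, a • y = y := by
  set L := K ⊔ A with hL
  have hKL : K ≤ L := le_sup_left
  have hAL : A ≤ L := le_sup_right
  have hinv : ∀ l ∈ L, ∀ y ∈ Y, l • y ∈ Y := by
    intro l hl y hy
    obtain ⟨k, hk, a, ha, rfl⟩ := mem_sup_of_le_normalizer h.normalizes hl
    rw [mul_smul]
    exact hYK k hk _ (hYA a ha y hy)
  let inst : MulAction L Y :=
    { smul := fun l y => ⟨(l : G) • (y : X), hinv l l.2 y y.2⟩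
      one_smul := fun y => Subtype.ext (one_smul G (y : X))
      mul_smul := fun a b y => Subtype.ext (mul_smul (a : G) (b : G) (y : X)) }
  have hsmul : ∀ (l : L) (y : Y), ((l • y : Y) : X) = (l : G) • (y : X) := fun _ _ => rfl
  haveI : Nonempty Y := hYne.to_subtype
  haveI : (K.subgroupOf L).Normal :=
    (Subgroup.normal_subgroupOf_iff_le_normalizer hKL).mpr (sup_le Subgroup.le_normalizer h.normalizes)
  have hc : Subgroup.IsComplement' (K.subgroupOf L) (A.subgroupOf L) :=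
    isComplement'_subgroupOf_of_le_sup' h.normalizes h.disjoint hKL hAL le_rfl
  have hcop : (Nat.card (K.subgroupOf L)).Coprime (Nat.card (A.subgroupOf L)) := by
    rw [card_subgroupOf_of_le hKL, card_subgroupOf_of_le hAL]; exact h.coprime.symm
  have hsolv : Group.IsSolvable (K.subgroupOf L) ∨ Group.IsSolvable (A.subgroupOf L) := by
    rcases h.solvable with hs | hs
    · right
      exact Group.isSolvable_of_isSolvable_injective
        (f := (Subgroup.subgroupOfEquivOfLe hAL).toMonoidHom)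
        (Subgroup.subgroupOfEquivOfLe hAL).injective
    · left
      exact Group.isSolvable_of_isSolvable_injective
        (f := (Subgroup.subgroupOfEquivOfLe hKL).toMonoidHom)
        (Subgroup.subgroupOfEquivOfLe hKL).injective
  have htrans' : ∀ x y : Y, ∃ k ∈ K.subgroupOf L, k • x = y := by
    intro x y
    obtain ⟨k, hk, hkxy⟩ := htrans x x.2 y y.2
    exact ⟨⟨k, hKL hk⟩, Subgroup.mem_subgroupOf.mpr hk, Subtype.ext hkxy⟩
  obtain ⟨y, hy⟩ := glauberman_exists_fixed hc hcop hsolv htrans'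
  refine ⟨y, y.2, ?_⟩
  intro a ha
  have := hy ⟨a, hAL ha⟩ (Subgroup.mem_subgroupOf.mpr ha)
  exact congrArg Subtype.val this

/-- Glauberman's lemma for a coprime action inside `G` and an invariant subset: `C_K(A)` is
transitive on the `A`-fixed points. -/
theorem glauberman_set_fixed_trans {A K : Subgroup G} (h : CoprimeAction A K) (Y : Set X)
    (hYK : ∀ k ∈ K, ∀ y ∈ Y, k • y ∈ Y) (hYA : ∀ a ∈ A, ∀ y ∈ Y, a • y ∈ Y)
    (htrans : ∀ y ∈ Y, ∀ y' ∈ Y, ∃ k ∈ K, k • y = y')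
    {y y' : X} (hy : y ∈ Y) (hy' : y' ∈ Y) (hfy : ∀ a ∈ A, a • y = y)
    (hfy' : ∀ a ∈ A, a • y' = y') :
    ∃ c ∈ K ⊓ Subgroup.centralizer (A : Set G), c • y = y' := by
  set L := K ⊔ A with hL
  have hKL : K ≤ L := le_sup_left
  have hAL : A ≤ L := le_sup_right
  have hinv : ∀ l ∈ L, ∀ y ∈ Y, l • y ∈ Y := by
    intro l hl y hy
    obtain ⟨k, hk, a, ha, rfl⟩ := mem_sup_of_le_normalizer h.normalizes hl
    rw [mul_smul]
    exact hYK k hk _ (hYA a ha y hy)
  let inst : MulAction L Y :=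
    { smul := fun l y => ⟨(l : G) • (y : X), hinv l l.2 y y.2⟩
      one_smul := fun y => Subtype.ext (one_smul G (y : X))
      mul_smul := fun a b y => Subtype.ext (mul_smul (a : G) (b : G) (y : X)) }
  haveI : (K.subgroupOf L).Normal :=
    (Subgroup.normal_subgroupOf_iff_le_normalizer hKL).mpr (sup_le Subgroup.le_normalizer h.normalizes)
  have hc : Subgroup.IsComplement' (K.subgroupOf L) (A.subgroupOf L) :=
    isComplement'_subgroupOf_of_le_sup' h.normalizes h.disjoint hKL hAL le_rfl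
  have hcop : (Nat.card (K.subgroupOf L)).Coprime (Nat.card (A.subgroupOf L)) := by
    rw [card_subgroupOf_of_le hKL, card_subgroupOf_of_le hAL]; exact h.coprime.symm
  have hsolv : Group.IsSolvable (K.subgroupOf L) ∨ Group.IsSolvable (A.subgroupOf L) := by
    rcases h.solvable with hs | hs
    · right
      exact Group.isSolvable_of_isSolvable_injective
        (f := (Subgroup.subgroupOfEquivOfLe hAL).toMonoidHom)
        (Subgroup.subgroupOfEquivOfLe hAL).injective
    · left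
      exact Group.isSolvable_of_isSolvable_injective
        (f := (Subgroup.subgroupOfEquivOfLe hKL).toMonoidHom)
        (Subgroup.subgroupOfEquivOfLe hKL).injective
  have htrans' : ∀ x y : Y, ∃ k ∈ K.subgroupOf L, k • x = y := by
    intro x y
    obtain ⟨k, hk, hkxy⟩ := htrans x x.2 y y.2
    exact ⟨⟨k, hKL hk⟩, Subgroup.mem_subgroupOf.mpr hk, Subtype.ext hkxy⟩
  have hf : ∀ a ∈ A.subgroupOf L, a • (⟨y, hy⟩ : Y) = ⟨y, hy⟩ := fun a ha =>
    Subtype.ext (hfy a (Subgroup.mem_subgroupOf.mp ha))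
  have hf' : ∀ a ∈ A.subgroupOf L, a • (⟨y', hy'⟩ : Y) = ⟨y', hy'⟩ := fun a ha =>
    Subtype.ext (hfy' a (Subgroup.mem_subgroupOf.mp ha))
  obtain ⟨c, ⟨hcK, hcC⟩, hcy⟩ := glauberman_fixed_trans hc hcop hsolv htrans' _ _ hf hf'
  have hcK' : c ∈ K.subgroupOf L := hcK
  have hcC' : c ∈ Subgroup.centralizer ((A.subgroupOf L : Subgroup L) : Set L) := hcC
  have hcC2 : (c : G) ∈ Subgroup.centralizer (A : Set G) := by
    rw [Subgroup.mem_centralizer_iff]
    intro a ha
    have := (Subgroup.mem_centralizer_iff.mp hcC') ⟨a, hAL ha⟩ (Subgroup.mem_subgroupOf.mpr ha)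
    exact congrArg Subtype.val this
  exact ⟨c, ⟨Subgroup.mem_subgroupOf.mp hcK', hcC2⟩, congrArg Subtype.val hcy⟩

end GlaubermanSet

end Cfsg.Agent.Lib.H1
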