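import Mathlib
import Cfsg.Agent.Lib.H1.CoprimeAction

set_option autoImplicit false
open Pointwise

namespace Cfsg.Agent.Lib.H1

universe u

variable {G : Type u} [Group G]

/-- `P` is a Sylow `p`-subgroup of the subgroup `K` (all inside `G`). -/
def IsSylowOf (p : ℕ) (K P : Subgroup G) : Prop :=
  P ≤ K ∧ Nat.card P = p ^ (Nat.card K).factorization p

theorem conj_smul_eq_self_iff_mem_normalizer {H : Subgroup G} {g : G} :
    MulAut.conj g • H = H ↔ g ∈ Subgroup.normalizer (H : Set G) := by
  rw [Subgroup.mem_normalizer_iff]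
  constructor
  · intro h x
    constructor
    · intro hx
      rw [← h]
      exact conj_mem_conj_smul hx
    · intro hx
      rw [← h, mem_conj_smul_iff] at hx
      have : g⁻¹ * (g * x * g⁻¹) * g = x := by group
      rwa [this] at hx
  · intro h
    ext x
    rw [mem_conj_smul_iff, h (g⁻¹ * x * g)]
    have : g * (g⁻¹ * x * g) * g⁻¹ = x := by group
    rw [this]

namespace IsSylowOf

variable {p : ℕ} {K P Q : Subgroup G}

theorem le (h : IsSylowOf p K P) : P ≤ K := h.1

theorem card_eq (h : IsSylowOf p K P) : Nat.card P = p ^ (Nat.card K).factorization p := h.2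

theorem isPGroup [Fact p.Prime] (h : IsSylowOf p K P) : IsPGroup p P :=
  IsPGroup.of_card h.2

theorem conj (h : IsSylowOf p K P) {g : G} (hg : g ∈ Subgroup.normalizer (K : Set G)) :
    IsSylowOf p K (MulAut.conj g • P) := by
  refine ⟨?_, ?_⟩
  · rw [conj_smul_le_iff]
    intro x hx
    exact (Subgroup.mem_normalizer_iff.mp hg x).mp (h.1 hx)
  · rw [card_conj_smul]
    exact h.2

/-- The corresponding `Sylow p K`. -/
noncomputable def toSylow [Finite G] [Fact p.Prime] (h : IsSylowOf p K P) : Sylow p K :=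
  Sylow.ofCard (P.subgroupOf K) (by rw [card_subgroupOf_of_le h.1]; exact h.2)

theorem coe_toSylow [Finite G] [Fact p.Prime] (h : IsSylowOf p K P) :
    (h.toSylow : Subgroup K) = P.subgroupOf K := rfl

theorem map_toSylow [Finite G] [Fact p.Prime] (h : IsSylowOf p K P) :
    (h.toSylow : Subgroup K).map K.subtype = P := by
  rw [coe_toSylow, Subgroup.subgroupOf_map_subtype, inf_eq_left.mpr h.1]

theorem exists_conj [Finite G] [Fact p.Prime] (hP : IsSylowOf p K P) (hQ : IsSylowOf p K Q) :
    ∃ k ∈ K, MulAut.conj k • P = Q := by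
  obtain ⟨k, hk⟩ := MulAction.exists_smul_eq K hP.toSylow hQ.toSylow
  refine ⟨k, k.2, ?_⟩
  apply conj_smul_eq_of_subgroupOf hP.1 hQ.1 k
  have := congrArg (fun S : Sylow p K => (S : Subgroup K)) hk
  rw [Sylow.coe_subgroup_smul] at this
  exact this

end IsSylowOf

theorem isSylowOf_map_sylow [Finite G] {p : ℕ} [Fact p.Prime] {K : Subgroup G} (P : Sylow p K) :
    IsSylowOf p K ((P : Subgroup K).map K.subtype) := by
  refine ⟨Subgroup.map_subtype_le _, ?_⟩
  rw [Subgroup.card_map_of_injective K.subtype_injective]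
  exact P.card_eq_multiplicity

theorem toSylow_map_sylow [Finite G] {p : ℕ} [Fact p.Prime] {K : Subgroup G} (P : Sylow p K) :
    (isSylowOf_map_sylow P).toSylow = P := by
  apply Sylow.ext
  rw [IsSylowOf.coe_toSylow]
  ext x
  rw [Subgroup.mem_subgroupOf]
  constructor
  · rintro ⟨y, hy, hxy⟩
    have : y = x := Subtype.ext hxy
    rwa [← this]
  · intro hx
    exact ⟨x, hx, rfl⟩

theorem exists_isSylowOf [Finite G] (p : ℕ) [Fact p.Prime] (K : Subgroup G) :
    ∃ P, IsSylowOf p K P := by
  obtain ⟨P⟩ : Nonempty (Sylow p K) := inferInstance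
  exact ⟨_, isSylowOf_map_sylow P⟩

section Coprime

variable [Finite G] {A K : Subgroup G} {p : ℕ} [Fact p.Prime]

/-- Under coprime action there is an `A`-invariant Sylow `p`-subgroup of `K`. -/
theorem coprime_exists_invariant_sylow (h : CoprimeAction A K) (p : ℕ) [Fact p.Prime] :
    ∃ P, IsSylowOf p K P ∧ A ≤ Subgroup.normalizer (P : Set G) := by
  let _ : MulAction G (Subgroup G) :=
    MulAction.compHom (Subgroup G) (MulAut.conj : G →* MulAut G)
  have hsmul : ∀ (g : G) (H : Subgroup G), g • H = MulAut.conj g • H := fun _ _ => rfl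
  obtain ⟨P, hP, hfix⟩ := glauberman_set_exists_fixed h {P | IsSylowOf p K P}
    (exists_isSylowOf p K)
    (fun k hk P hP => by
      rw [hsmul]; exact IsSylowOf.conj hP (Subgroup.le_normalizer hk))
    (fun a ha P hP => by
      rw [hsmul]; exact IsSylowOf.conj hP (h.normalizes ha))
    (fun P hP Q hQ => by
      obtain ⟨k, hk, hkPQ⟩ := IsSylowOf.exists_conj hP hQ
      exact ⟨k, hk, hkPQ⟩)
  refine ⟨P, hP, ?_⟩
  intro a ha
  rw [← conj_smul_eq_self_iff_mem_normalizer]
  exact hfix a ha

/-- Under coprime action, two `A`-invariant Sylow `p`-subgroups of `K` are conjugate under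
`C_K(A)`. -/
theorem coprime_invariant_sylow_conj (h : CoprimeAction A K) {P Q : Subgroup G}
    (hP : IsSylowOf p K P) (hQ : IsSylowOf p K Q)
    (hPA : A ≤ Subgroup.normalizer (P : Set G)) (hQA : A ≤ Subgroup.normalizer (Q : Set G)) :
    ∃ c ∈ K ⊓ Subgroup.centralizer (A : Set G), MulAut.conj c • P = Q := by
  let _ : MulAction G (Subgroup G) :=
    MulAction.compHom (Subgroup G) (MulAut.conj : G →* MulAut G)
  have hsmul : ∀ (g : G) (H : Subgroup G), g • H = MulAut.conj g • H := fun _ _ => rfl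
  obtain ⟨c, hc, hcPQ⟩ := glauberman_set_fixed_trans h {P | IsSylowOf p K P}
    (fun k hk P hP => by
      rw [hsmul]; exact IsSylowOf.conj hP (Subgroup.le_normalizer hk))
    (fun a ha P hP => by
      rw [hsmul]; exact IsSylowOf.conj hP (h.normalizes ha))
    (fun P hP Q hQ => by
      obtain ⟨k, hk, hkPQ⟩ := IsSylowOf.exists_conj hP hQ
      exact ⟨k, hk, hkPQ⟩) hP hQ
    (fun a ha => by rw [hsmul]; exact conj_smul_eq_self_iff_mem_normalizer.mpr (hPA ha))
    (fun a ha => by rw [hsmul]; exact conj_smul_eq_self_iff_mem_normalizer.mpr (hQA ha))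
  exact ⟨c, hc, hcPQ⟩

/-- An `A`-invariant `p`-subgroup of `K` lies in an `A`-invariant Sylow `p`-subgroup of `K`. -/
theorem coprime_invariant_psubgroup_le_sylow (h : CoprimeAction A K) {U : Subgroup G}
    (hUK : U ≤ K) (hU : IsPGroup p U) (hUA : A ≤ Subgroup.normalizer (U : Set G)) :
    ∃ P, IsSylowOf p K P ∧ U ≤ P ∧ A ≤ Subgroup.normalizer (P : Set G) := by
  have hp : p.Prime := Fact.out
  obtain ⟨V, hUV, hV⟩ := Finite.exists_le_maximal
    (p := fun V : Subgroup G => V ≤ K ∧ IsPGroup p V ∧ A ≤ Subgroup.normalizer (V : Set G))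
    (a := U) ⟨hUK, hU, hUA⟩
  obtain ⟨⟨hVK, hVp, hVA⟩, hVmax⟩ := hV
  refine ⟨V, ?_, hUV, hVA⟩
  set N := K ⊓ Subgroup.normalizer (V : Set G) with hN
  have hVN : V ≤ N := le_inf hVK Subgroup.le_normalizer
  have hNA : A ≤ Subgroup.normalizer (N : Set G) := by
    intro a ha
    rw [Subgroup.mem_normalizer_iff]
    intro n
    rw [hN, Subgroup.mem_inf, Subgroup.mem_inf,
      ← Subgroup.mem_normalizer_iff.mp (h.normalizes ha) n]
    have haV := hVA ha
    constructor
    · rintro ⟨h1, h2⟩
      exact ⟨h1, Subgroup.mul_mem _ (Subgroup.mul_mem _ haV h2) (Subgroup.inv_mem _ haV)⟩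
    · rintro ⟨h1, h2⟩
      refine ⟨h1, ?_⟩
      have : n = a⁻¹ * (a * n * a⁻¹) * a := by group
      rw [this]
      exact Subgroup.mul_mem _ (Subgroup.mul_mem _ (Subgroup.inv_mem _ haV) h2) haV
  have hcN : CoprimeAction A N := h.mono inf_le_left hNA
  obtain ⟨S, hS, hSA⟩ := coprime_exists_invariant_sylow hcN p
  have hVS : V ≤ S := by
    haveI : (V.subgroupOf N).Normal :=
      (Subgroup.normal_subgroupOf_iff_le_normalizer hVN).mpr inf_le_right
    have hp' : IsPGroup p (V.subgroupOf N) := hVp.comap_subtype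
    have hle := hp'.le_sylow_of_normal hS.toSylow
    intro v hv
    have := hle (show (⟨v, hVN hv⟩ : N) ∈ V.subgroupOf N from hv)
    exact this
  have hSV : S ≤ V := hVmax ⟨hS.le.trans inf_le_left, hS.isPGroup, hSA⟩ hVS
  have hSeq : S = V := le_antisymm hSV hVS
  rw [hSeq] at hS
  refine ⟨hVK, ?_⟩
  by_contra hne
  have hK0 : Nat.card K ≠ 0 := Nat.card_pos.ne'
  have hN0 : Nat.card N ≠ 0 := Nat.card_pos.ne'
  have hcardV : Nat.card V = p ^ (Nat.card N).factorization p := hS.2
  have hdvd : p ^ (Nat.card N).factorization p ∣ Nat.card K :=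
    hcardV ▸ Subgroup.card_dvd_of_le hVK
  have hle : (Nat.card N).factorization p ≤ (Nat.card K).factorization p :=
    (hp.pow_dvd_iff_le_factorization hK0).mp hdvd
  have hlt : (Nat.card N).factorization p < (Nat.card K).factorization p :=
    lt_of_le_of_ne hle (fun heq => hne (by rw [hcardV, heq]))
  have hdvd' : p ^ ((Nat.card N).factorization p + 1) ∣ Nat.card K :=
    (hp.pow_dvd_iff_le_factorization hK0).mpr hlt
  have h1 := Sylow.prime_pow_dvd_card_normalizer (G := K) hdvd' (H := V.subgroupOf K)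
    (by rw [card_subgroupOf_of_le hVK]; exact hcardV)
  rw [← Subgroup.subgroupOf_normalizer_eq hVK, ← Subgroup.inf_subgroupOf_left,
    card_subgroupOf_of_le inf_le_left] at h1
  exact Nat.pow_succ_factorization_not_dvd hN0 hp h1

end Coprime

end Cfsg.Agent.Lib.H1
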