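import Mathlib
import Cfsg.Agent.Lib.H1.QuotientBasic
import Cfsg.Agent.Lib.H1.SolvableBasic
import Cfsg.Agent.Lib.H1.SchurZassenhaus

set_option autoImplicit false
open Pointwise

namespace Cfsg.Agent.Lib.H1

universe u

/-- A normal `p`-subgroup lies in every subgroup of index prime to `p`. -/
theorem le_of_normal_isPGroup_of_not_dvd_index {G : Type*} [Group G] [Finite G] {p : ℕ}
    [hp : Fact p.Prime] {R H : Subgroup G} [R.Normal] (hR : IsPGroup p R) (hH : ¬ p ∣ H.index) :
    R ≤ H := by
  obtain ⟨Q⟩ : Nonempty (Sylow p H) := inferInstance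
  have hG0 : Nat.card G ≠ 0 := Nat.card_pos.ne'
  have hcard : Nat.card ((Q : Subgroup H).map H.subtype) = p ^ (Nat.card G).factorization p := by
    rw [Subgroup.card_map_of_injective H.subtype_injective, Q.card_eq_multiplicity]
    have h1 : Nat.card G = Nat.card H * H.index := (H.card_mul_index).symm
    have h2 : H.index ≠ 0 := by
      intro h0
      rw [h0, mul_zero] at h1
      exact hG0 h1
    rw [h1, Nat.factorization_mul Nat.card_pos.ne' h2, Finsupp.add_apply,
      Nat.factorization_eq_zero_of_not_dvd hH, add_zero]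
  have h3 := hR.le_sylow_of_normal (Sylow.ofCard _ hcard)
  rw [Sylow.coe_ofCard] at h3
  exact h3.trans (Subgroup.map_subtype_le _)

theorem normalizer_eq_top_of_normal {G : Type*} [Group G] (R : Subgroup G) [hR : R.Normal] :
    Subgroup.normalizer (R : Set G) = ⊤ :=
  Subgroup.normalizer_eq_top_iff.mpr hR

theorem le_normalizer_of_normal {G : Type*} [Group G] (R H : Subgroup G) [R.Normal] :
    H ≤ Subgroup.normalizer (R : Set G) := by
  rw [normalizer_eq_top_of_normal]
  exact le_top

/-- Core of Hall's theorem (containment), by induction on the order. -/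
theorem hall_contain_aux : ∀ (N : ℕ) (G : Type u) [Group G] [Finite G] [Group.IsSolvable G]
    (m n : ℕ), Nat.card G = N → Nat.card G = m * n → m.Coprime n →
    ∀ K : Subgroup G, (Nat.card K).Coprime n → ∃ H : Subgroup G, Nat.card H = m ∧ K ≤ H := by
  intro N
  induction N using Nat.strong_induction_on with
  | _ N ih =>
  intro G _ _ _ m n hN hG hmn K hK
  by_cases hnt : Nontrivial G
  · obtain ⟨p, hp, R, hRn, hRp, hRne⟩ := exists_normal_isPGroup_ne_bot_of_isSolvable (G := G)
    obtain ⟨k, hk⟩ := IsPGroup.iff_card.mp hRp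
    have hlt : Nat.card (G ⧸ R) < N := hN ▸ card_quotient_lt hRne
    have hquot : Nat.card (G ⧸ R) * p ^ k = m * n := by
      rw [← hk, ← hG]
      exact (Subgroup.card_eq_card_quotient_mul_card_subgroup R).symm
    have hpk0 : 0 < p ^ k := pow_pos hp.out.pos k
    have hRdvd : p ^ k ∣ m * n := Dvd.intro_left _ hquot
    by_cases hpm : p ∣ m
    · -- Case A
      have hpn : Nat.Coprime p n := Nat.Coprime.coprime_dvd_left hpm hmn
      have hpkn : Nat.Coprime (p ^ k) n := Nat.Coprime.pow_left k hpn
      obtain ⟨m', rfl⟩ : p ^ k ∣ m := hpkn.dvd_of_dvd_mul_right hRdvd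
      have hq : Nat.card (G ⧸ R) = m' * n := by
        have : Nat.card (G ⧸ R) * p ^ k = (m' * n) * p ^ k := by rw [hquot]; ring
        exact Nat.eq_of_mul_eq_mul_right hpk0 this
      have hm'n : m'.Coprime n := Nat.Coprime.coprime_mul_left hmn
      have hK' : (Nat.card (K.map (QuotientGroup.mk' R))).Coprime n :=
        Nat.Coprime.coprime_dvd_left (Subgroup.card_map_dvd K _) hK
      obtain ⟨X, hX, hKX⟩ := ih _ hlt (G ⧸ R) m' n rfl hq hm'n _ hK'
      refine ⟨X.comap (QuotientGroup.mk' R), ?_, Subgroup.map_le_iff_le_comap.mp hKX⟩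
      rw [card_comap_mk', hX, hk, mul_comm]
    · -- Case B
      have hpm' : Nat.Coprime p m := (Nat.Prime.coprime_iff_not_dvd hp.out).mpr hpm
      have hpkm : Nat.Coprime (p ^ k) m := Nat.Coprime.pow_left k hpm'
      obtain ⟨n', rfl⟩ : p ^ k ∣ n := hpkm.dvd_of_dvd_mul_left hRdvd
      have hq : Nat.card (G ⧸ R) = m * n' := by
        have : Nat.card (G ⧸ R) * p ^ k = (m * n') * p ^ k := by rw [hquot]; ring
        exact Nat.eq_of_mul_eq_mul_right hpk0 this
      have hmn' : m.Coprime n' := Nat.Coprime.coprime_mul_left_right hmn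
      have hKR : (Nat.card K).Coprime (Nat.card R) := by
        rw [hk]
        exact Nat.Coprime.coprime_mul_right_right hK
      have hK' : (Nat.card (K.map (QuotientGroup.mk' R))).Coprime n' := by
        rw [card_map_mk'_of_coprime hKR]
        exact Nat.Coprime.coprime_mul_left_right hK
      obtain ⟨X, hX, hKX⟩ := ih _ hlt (G ⧸ R) m n' rfl hq hmn' _ hK'
      set H₁ := X.comap (QuotientGroup.mk' R) with hH₁
      have hH₁card : Nat.card H₁ = m * p ^ k := by rw [hH₁, card_comap_mk', hX, hk]
      have hRH₁ : R ≤ H₁ := le_comap_mk' R X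
      have hKH₁ : K ≤ H₁ := Subgroup.map_le_iff_le_comap.mp hKX
      -- Schur–Zassenhaus inside `H₁`
      have hR'n : (R.subgroupOf H₁).Normal := Subgroup.Normal.subgroupOf hRn H₁
      have hR'card : Nat.card (R.subgroupOf H₁) = p ^ k := by
        rw [card_subgroupOf_of_le hRH₁, hk]
      have hR'idx : (R.subgroupOf H₁).index = m := by
        have := (R.subgroupOf H₁).card_mul_index
        rw [hR'card, hH₁card, mul_comm] at this
        exact Nat.eq_of_mul_eq_mul_right hpk0 this
      have hcop' : (Nat.card (R.subgroupOf H₁)).Coprime (R.subgroupOf H₁).index := by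
        rw [hR'card, hR'idx]
        exact hpkm
      obtain ⟨C', hC'⟩ := Subgroup.exists_right_complement'_of_coprime hcop'
      set H₀ := C'.map H₁.subtype with hH₀
      have hC'card : Nat.card C' = m := by
        have := hC'.card_mul_card
        rw [hR'card, hH₁card, mul_comm] at this
        exact Nat.eq_of_mul_eq_mul_right hpk0 this
      have hH₀card : Nat.card H₀ = m := by
        rw [hH₀, Subgroup.card_map_of_injective H₁.subtype_injective, hC'card]
      have hRH₀ : Disjoint R H₀ := by
        apply Subgroup.disjoint_of_coprime_natCard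
        rw [hk, hH₀card]
        exact hpkm
      have hH₁le : ∀ x ∈ H₁, ∃ r ∈ R, ∃ c ∈ H₀, x = r * c := by
        intro x hx
        obtain ⟨r', hr', c', hc', hxrc⟩ := isComplement'_exists_mul hC' ⟨x, hx⟩
        refine ⟨r', Subgroup.mem_subgroupOf.mp hr', c', ⟨c', hc', rfl⟩, ?_⟩
        have := congrArg Subtype.val hxrc
        simpa using this
      set D := (K ⊔ R) ⊓ H₀ with hD
      have hsup : R ⊔ D = R ⊔ K := by
        apply le_antisymm
        · apply sup_le le_sup_left
          rw [sup_comm]
          exact inf_le_left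
        · apply sup_le le_sup_left
          intro x hx
          obtain ⟨r, hr, c, hc, rfl⟩ := hH₁le x (hKH₁ hx)
          have hcD : c ∈ D := by
            refine ⟨?_, hc⟩
            have : c = r⁻¹ * (r * c) := by group
            rw [this]
            exact Subgroup.mul_mem _ (Subgroup.mem_sup_right (R.inv_mem hr))
              (Subgroup.mem_sup_left hx)
          exact Subgroup.mul_mem _ (Subgroup.mem_sup_left hr) (Subgroup.mem_sup_right hcD)
      have hDH₀ : D ≤ H₀ := inf_le_right
      have hcopD : (Nat.card R).Coprime (Nat.card D) := by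
        rw [hk]
        exact Nat.Coprime.coprime_dvd_right (hH₀card ▸ Subgroup.card_dvd_of_le hDH₀) hpkm
      obtain ⟨r, -, hr⟩ := sz_conj_internal (N := R) (H := D) (K := K)
        (le_normalizer_of_normal R D) (le_normalizer_of_normal R K) hcopD
        (hRH₀.mono_right hDH₀) (Subgroup.disjoint_of_coprime_natCard hKR.symm) hsup
        (Or.inl inferInstance)
      refine ⟨MulAut.conj r • H₀, ?_, ?_⟩
      · rw [card_conj_smul, hH₀card]
      · rw [← hr]
        exact Subgroup.pointwise_smul_le_pointwise_smul_iff.mpr hDH₀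
  · rw [not_nontrivial_iff_subsingleton] at hnt
    have h1 : Nat.card G = 1 := Nat.card_eq_one_iff_unique.mpr ⟨hnt, ⟨1⟩⟩
    have hm : m = 1 := by
      rw [h1] at hG
      exact Nat.eq_one_of_mul_eq_one_right hG.symm
    refine ⟨K, ?_, le_rfl⟩
    have := Subgroup.card_subgroup_dvd_card K
    rw [h1] at this
    rw [hm]
    exact Nat.dvd_one.mp this

/-- Core of Hall's theorem (conjugacy), by induction on the order. -/
theorem hall_conj_aux : ∀ (N : ℕ) (G : Type u) [Group G] [Finite G] [Group.IsSolvable G]
    (m n : ℕ), Nat.card G = N → Nat.card G = m * n → m.Coprime n →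
    ∀ H K : Subgroup G, Nat.card H = m → Nat.card K = m → ∃ g : G, MulAut.conj g • H = K := by
  intro N
  induction N using Nat.strong_induction_on with
  | _ N ih =>
  intro G _ _ _ m n hN hG hmn H K hH hK
  by_cases hnt : Nontrivial G
  · obtain ⟨p, hp, R, hRn, hRp, hRne⟩ := exists_normal_isPGroup_ne_bot_of_isSolvable (G := G)
    obtain ⟨k, hk⟩ := IsPGroup.iff_card.mp hRp
    have hlt : Nat.card (G ⧸ R) < N := hN ▸ card_quotient_lt hRne
    have hquot : Nat.card (G ⧸ R) * p ^ k = m * n := by
      rw [← hk, ← hG]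
      exact (Subgroup.card_eq_card_quotient_mul_card_subgroup R).symm
    have hpk0 : 0 < p ^ k := pow_pos hp.out.pos k
    have hRdvd : p ^ k ∣ m * n := Dvd.intro_left _ hquot
    have hm0 : 0 < m := by
      rw [← hH]
      exact Nat.card_pos
    have hidx : ∀ L : Subgroup G, Nat.card L = m → L.index = n := by
      intro L hL
      have := L.card_mul_index
      rw [hL, hG] at this
      exact Nat.eq_of_mul_eq_mul_left hm0 this
    by_cases hpm : p ∣ m
    · -- Case A
      have hpn : Nat.Coprime p n := Nat.Coprime.coprime_dvd_left hpm hmn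
      have hpkn : Nat.Coprime (p ^ k) n := Nat.Coprime.pow_left k hpn
      obtain ⟨m', rfl⟩ : p ^ k ∣ m := hpkn.dvd_of_dvd_mul_right hRdvd
      have hq : Nat.card (G ⧸ R) = m' * n := by
        have : Nat.card (G ⧸ R) * p ^ k = (m' * n) * p ^ k := by rw [hquot]; ring
        exact Nat.eq_of_mul_eq_mul_right hpk0 this
      have hm'n : m'.Coprime n := Nat.Coprime.coprime_mul_left hmn
      have hnd : ¬ p ∣ n := (Nat.Prime.coprime_iff_not_dvd hp.out).mp hpn
      have hRle : ∀ L : Subgroup G, Nat.card L = p ^ k * m' → R ≤ L := by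
        intro L hL
        apply le_of_normal_isPGroup_of_not_dvd_index hRp
        rw [hidx L hL]
        exact hnd
      have hcard' : ∀ L : Subgroup G, Nat.card L = p ^ k * m' →
          Nat.card (L.map (QuotientGroup.mk' R)) = m' := by
        intro L hL
        have := card_map_mk'_mul_of_le (hRle L hL)
        rw [hk, hL, mul_comm] at this
        exact Nat.eq_of_mul_eq_mul_left hpk0 this
      obtain ⟨x, hx⟩ := ih _ hlt (G ⧸ R) m' n rfl hq hm'n _ _ (hcard' H hH) (hcard' K hK)
      obtain ⟨g, rfl⟩ := QuotientGroup.mk'_surjective R x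
      refine ⟨g, ?_⟩
      rw [← map_conj_smul] at hx
      have hRgH : R ≤ MulAut.conj g • H := by
        rw [← conj_smul_eq_self_of_normal (H := R) g]
        exact Subgroup.pointwise_smul_le_pointwise_smul_iff.mpr (hRle H hH)
      rw [← comap_map_mk'_of_le hRgH, hx, comap_map_mk'_of_le (hRle K hK)]
    · -- Case B
      have hpm' : Nat.Coprime p m := (Nat.Prime.coprime_iff_not_dvd hp.out).mpr hpm
      have hpkm : Nat.Coprime (p ^ k) m := Nat.Coprime.pow_left k hpm'
      obtain ⟨n', rfl⟩ : p ^ k ∣ n := hpkm.dvd_of_dvd_mul_left hRdvd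
      have hq : Nat.card (G ⧸ R) = m * n' := by
        have : Nat.card (G ⧸ R) * p ^ k = (m * n') * p ^ k := by rw [hquot]; ring
        exact Nat.eq_of_mul_eq_mul_right hpk0 this
      have hmn' : m.Coprime n' := Nat.Coprime.coprime_mul_left_right hmn
      have hcop : ∀ L : Subgroup G, Nat.card L = m → (Nat.card L).Coprime (Nat.card R) := by
        intro L hL
        rw [hk, hL]
        exact hpkm.symm
      have hcard' : ∀ L : Subgroup G, Nat.card L = m →
          Nat.card (L.map (QuotientGroup.mk' R)) = m := by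
        intro L hL
        rw [card_map_mk'_of_coprime (hcop L hL), hL]
      obtain ⟨x, hx⟩ := ih _ hlt (G ⧸ R) m n' rfl hq hmn' _ _ (hcard' H hH) (hcard' K hK)
      obtain ⟨g, rfl⟩ := QuotientGroup.mk'_surjective R x
      rw [← map_conj_smul] at hx
      have hsup : R ⊔ MulAut.conj g • H = R ⊔ K := by
        have := congrArg (Subgroup.comap (QuotientGroup.mk' R)) hx
        rw [comap_map_mk', comap_map_mk'] at this
        rw [sup_comm, this, sup_comm]
      have hgH : Nat.card (MulAut.conj g • H : Subgroup G) = m := by rw [card_conj_smul, hH]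
      obtain ⟨r, -, hr⟩ := sz_conj_internal (N := R) (H := MulAut.conj g • H) (K := K)
        (le_normalizer_of_normal R _) (le_normalizer_of_normal R K) (hcop _ hgH).symm
        (Subgroup.disjoint_of_coprime_natCard (hcop _ hgH).symm)
        (Subgroup.disjoint_of_coprime_natCard (hcop K hK).symm) hsup (Or.inl inferInstance)
      refine ⟨r * g, ?_⟩
      rw [← conj_smul_conj_smul]
      exact hr
  · rw [not_nontrivial_iff_subsingleton] at hnt
    refine ⟨1, ?_⟩
    rw [map_one, one_smul]
    exact Subsingleton.elim _ _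

section Main

variable {G : Type u} [Group G] [Finite G] [Group.IsSolvable G]

/-- **Hall's theorem**, containment: a subgroup of order prime to `n` lies in a Hall subgroup of
order `m`. -/
theorem hall_contain {m n : ℕ} (hG : Nat.card G = m * n) (hmn : m.Coprime n) (K : Subgroup G)
    (hK : (Nat.card K).Coprime n) : ∃ H : Subgroup G, Nat.card H = m ∧ K ≤ H :=
  hall_contain_aux _ G m n rfl hG hmn K hK

/-- **Hall's theorem**, existence. -/
theorem hall_exists {m n : ℕ} (hG : Nat.card G = m * n) (hmn : m.Coprime n) :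
    ∃ H : Subgroup G, Nat.card H = m := by
  obtain ⟨H, hH, -⟩ := hall_contain hG hmn ⊥ (by rw [Subgroup.card_bot]; exact Nat.coprime_one_left n)
  exact ⟨H, hH⟩

/-- **Hall's theorem**, conjugacy. -/
theorem hall_conj {m n : ℕ} (hG : Nat.card G = m * n) (hmn : m.Coprime n) (H K : Subgroup G)
    (hH : Nat.card H = m) (hK : Nat.card K = m) : ∃ g : G, MulAut.conj g • H = K :=
  hall_conj_aux _ G m n rfl hG hmn H K hH hK

end Main

end Cfsg.Agent.Lib.H1
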