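import Mathlib
import Cfsg.Agent.Lib.H1.CoprimeSylow
import Cfsg.Agent.Lib.H1.Hall

set_option autoImplicit false
open Pointwise

namespace Cfsg.Agent.Lib.H1

variable {G : Type*} [Group G]

/-- **Frattini argument** for a Sylow subgroup `P` of a normal subgroup `K`. -/
theorem IsSylowOf.normalizer_sup_eq_top [Finite G] {p : ℕ} [Fact p.Prime] {K P : Subgroup G}
    [hK : K.Normal] (h : IsSylowOf p K P) : Subgroup.normalizer (P : Set G) ⊔ K = ⊤ := by
  rw [eq_top_iff]
  intro g _
  have hg : g ∈ Subgroup.normalizer (K : Set G) := by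
    rw [normalizer_eq_top_of_normal]
    exact Subgroup.mem_top g
  obtain ⟨k, hk, hkP⟩ := IsSylowOf.exists_conj h (h.conj hg)
  have h4 : MulAut.conj (k⁻¹ * g) • P = P := by
    rw [← conj_smul_conj_smul, ← hkP, conj_smul_conj_smul, inv_mul_cancel, map_one, one_smul]
  have h5 : k⁻¹ * g ∈ Subgroup.normalizer (P : Set G) :=
    conj_smul_eq_self_iff_mem_normalizer.mp h4
  have : g = k * (k⁻¹ * g) := by group
  rw [this, sup_comm]
  exact Subgroup.mul_mem _ (Subgroup.mem_sup_left hk) (Subgroup.mem_sup_right h5)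

theorem card_mul_relIndex_of_le {H K : Subgroup G} (h : H ≤ K) :
    Nat.card H * H.relIndex K = Nat.card K := by
  have := Subgroup.relIndex_mul_relIndex ⊥ H K bot_le h
  rwa [Subgroup.relIndex_bot_left, Subgroup.relIndex_bot_left] at this

/-- The index of a Sylow subgroup of `K` in `K` is prime to `p`. -/
theorem IsSylowOf.not_dvd_relIndex [Finite G] {p : ℕ} [hp : Fact p.Prime] {K P : Subgroup G}
    (h : IsSylowOf p K P) : ¬ p ∣ P.relIndex K := by
  intro hdvd
  have h1 := card_mul_relIndex_of_le h.le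
  rw [h.card_eq] at h1
  have h2 : p ^ ((Nat.card K).factorization p + 1) ∣ Nat.card K := by
    have h3 : p ^ ((Nat.card K).factorization p + 1) ∣
        p ^ (Nat.card K).factorization p * P.relIndex K := by
      rw [pow_succ]
      exact mul_dvd_mul_left _ hdvd
    rwa [h1] at h3
  exact Nat.pow_succ_factorization_not_dvd Nat.card_pos.ne' hp.out h2

end Cfsg.Agent.Lib.H1
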