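import Mathlib
import Cfsg.Agent.Lib.H1.Hall

set_option autoImplicit false
open Pointwise

namespace Cfsg.Agent.Lib.H1

universe u

variable {G : Type u} [Group G] [Finite G]

/-- Subgroups of coprime index: the index of the intersection is the product. -/
theorem index_inf_of_coprime {H K : Subgroup G} (h : H.index.Coprime K.index) :
    (H ⊓ K).index = H.index * K.index := by
  apply le_antisymm Subgroup.index_inf_le
  apply Nat.le_of_dvd (Nat.pos_of_ne_zero Subgroup.index_ne_zero_of_finite)
  exact Nat.Coprime.mul_dvd_of_dvd_of_dvd h (Subgroup.index_dvd_of_le inf_le_left)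
    (Subgroup.index_dvd_of_le inf_le_right)

/-- In a finite solvable group, Hall `p`-complements exist. -/
theorem exists_pComplement [Group.IsSolvable G] (p : ℕ) (hp : p.Prime) :
    ∃ K : Subgroup G, K.index = p ^ (Nat.card G).factorization p := by
  have hG0 : Nat.card G ≠ 0 := Nat.card_pos.ne'
  have h1 := Nat.ordProj_mul_ordCompl_eq_self (Nat.card G) p
  have hcop : (Nat.card G / p ^ (Nat.card G).factorization p).Coprime
      (p ^ (Nat.card G).factorization p) :=
    ((Nat.coprime_ordCompl hp hG0).pow_left _).symm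
  obtain ⟨K, hK⟩ := hall_exists (G := G) (m := Nat.card G / p ^ (Nat.card G).factorization p)
    (n := p ^ (Nat.card G).factorization p) (by rw [mul_comm]; exact h1.symm) hcop
  refine ⟨K, ?_⟩
  have h2 := K.card_mul_index
  have hK0 : 0 < Nat.card K := Nat.card_pos
  have h3 : Nat.card K * K.index = Nat.card K * p ^ (Nat.card G).factorization p := by
    rw [h2]
    conv_lhs => rw [← h1]
    rw [hK, mul_comm]
  exact Nat.eq_of_mul_eq_mul_left hK0 h3

theorem prod_erase_mul_of {f : ℕ → ℕ} (T : Finset ℕ) (q : ℕ) (h : q ∉ T → f q = 1) :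
    f q * ∏ r ∈ T.erase q, f r = ∏ r ∈ T, f r := by
  by_cases hq : q ∈ T
  · exact Finset.mul_prod_erase T f hq
  · rw [h hq, one_mul, Finset.erase_eq_of_notMem hq]

/-- **Sylow systems** exist in finite solvable groups. -/
theorem exists_sylow_system [Group.IsSolvable G] :
    ∃ S : (p : Nat.Primes) → Sylow (p : ℕ) G,
      ∀ p q : Nat.Primes, (S p : Set G) * (S q : Set G) = (S q : Set G) * (S p : Set G) := by
  classical
  have hG0 : Nat.card G ≠ 0 := Nat.card_pos.ne'
  set f : ℕ → ℕ := fun p => p ^ (Nat.card G).factorization p with hf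
  have hex : ∀ p : ℕ, ∃ K : Subgroup G, p.Prime → K.index = f p := by
    intro p
    by_cases hp : p.Prime
    · obtain ⟨K, hK⟩ := exists_pComplement (G := G) p hp
      exact ⟨K, fun _ => hK⟩
    · exact ⟨⊤, fun h => absurd h hp⟩
  choose K hK using hex
  set π := (Nat.card G).primeFactors with hπ
  have hπprime : ∀ p ∈ π, p.Prime := fun p hp => Nat.prime_of_mem_primeFactors hp
  -- index of intersections
  have hidx : ∀ T : Finset ℕ, (∀ p ∈ T, p.Prime) → (⨅ p ∈ T, K p).index = ∏ p ∈ T, f p := by
    intro T
    induction T using Finset.induction_on with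
    | empty => intro _; simp
    | insert a T ha ih =>
      intro hT
      have hTp : ∀ p ∈ T, p.Prime := fun p hp => hT p (Finset.mem_insert_of_mem hp)
      have hap : a.Prime := hT a (Finset.mem_insert_self a T)
      rw [Finset.iInf_insert, Finset.prod_insert ha, index_inf_of_coprime, hK a hap, ih hTp]
      rw [hK a hap, ih hTp]
      apply Nat.Coprime.prod_right
      intro r hr
      apply Nat.coprime_pow_primes _ _ hap (hTp r hr)
      rintro rfl
      exact ha hr
  have hprod : ∏ p ∈ π, f p = Nat.card G := by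
    have := Nat.prod_factorization_pow_eq_self hG0
    rw [Finsupp.prod, Nat.support_factorization] at this
    exact this
  have hf1 : ∀ q : ℕ, q ∉ π → f q = 1 := by
    intro q hq
    have : (Nat.card G).factorization q = 0 := by
      rw [← Finsupp.notMem_support_iff, Nat.support_factorization]
      exact hq
    simp only [hf, this, pow_zero]
  -- the Sylow subgroups
  set Sq : ℕ → Subgroup G := fun q => ⨅ p ∈ π.erase q, K p with hSq
  have hSqidx : ∀ q : ℕ, (Sq q).index = ∏ p ∈ π.erase q, f p := by
    intro q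
    exact hidx _ (fun p hp => hπprime p (Finset.mem_of_mem_erase hp))
  have hSqcard : ∀ q : ℕ, Nat.card (Sq q) = f q := by
    intro q
    have h1 := (Sq q).card_mul_index
    rw [hSqidx q, ← hprod, ← prod_erase_mul_of π q (hf1 q)] at h1
    have hpos : 0 < ∏ p ∈ π.erase q, f p := by
      apply Finset.prod_pos
      intro p hp
      exact pow_pos (hπprime p (Finset.mem_of_mem_erase hp)).pos _
    exact Nat.eq_of_mul_eq_mul_right hpos h1
  -- the `{p, q}`-Hall subgroups
  set E : ℕ → ℕ → Subgroup G := fun p q => ⨅ r ∈ (π.erase p).erase q, K r with hE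
  have hEcard : ∀ p q : ℕ, p ≠ q → Nat.card (E p q) = f p * f q := by
    intro p q hpq
    have hidxE : (E p q).index = ∏ r ∈ (π.erase p).erase q, f r :=
      hidx _ (fun r hr => hπprime r (Finset.mem_of_mem_erase (Finset.mem_of_mem_erase hr)))
    have h1 := (E p q).card_mul_index
    have hq1 : q ∉ π.erase p → f q = 1 := by
      intro hq
      apply hf1
      intro hqπ
      exact hq (Finset.mem_erase.mpr ⟨fun h => hpq h.symm, hqπ⟩)
    rw [hidxE, ← hprod, ← prod_erase_mul_of π p (hf1 p),
      ← prod_erase_mul_of (π.erase p) q hq1, ← mul_assoc] at h1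
    have hpos : 0 < ∏ r ∈ (π.erase p).erase q, f r := by
      apply Finset.prod_pos
      intro r hr
      exact pow_pos (hπprime r (Finset.mem_of_mem_erase (Finset.mem_of_mem_erase hr))).pos _
    exact Nat.eq_of_mul_eq_mul_right hpos h1
  have hSpE : ∀ p q : ℕ, Sq p ≤ E p q := by
    intro p q
    exact le_iInf₂ (fun r hr => iInf₂_le r (Finset.mem_of_mem_erase hr))
  have hSqE : ∀ p q : ℕ, Sq q ≤ E p q := by
    intro p q
    refine le_iInf₂ (fun r hr => iInf₂_le r ?_)
    rw [Finset.mem_erase] at hr ⊢
    exact ⟨hr.1, Finset.mem_of_mem_erase hr.2⟩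
  -- products
  have hmul : ∀ p q : ℕ, p.Prime → q.Prime → p ≠ q →
      (Sq p : Set G) * (Sq q : Set G) = (E p q : Set G) := by
    intro p q hp hq hpq
    apply Set.Subset.antisymm
    · rintro x ⟨a, ha, b, hb, rfl⟩
      exact (E p q).mul_mem (hSpE p q ha) (hSqE p q hb)
    · intro x hx
      have hc : Subgroup.IsComplement' ((Sq p).subgroupOf (E p q)) ((Sq q).subgroupOf (E p q)) := by
        apply Subgroup.isComplement'_of_coprime
        · rw [card_subgroupOf_of_le (hSpE p q), card_subgroupOf_of_le (hSqE p q), hSqcard,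
            hSqcard, hEcard p q hpq]
        · rw [card_subgroupOf_of_le (hSpE p q), card_subgroupOf_of_le (hSqE p q), hSqcard,
            hSqcard]
          exact Nat.coprime_pow_primes _ _ hp hq hpq
      obtain ⟨a, ha, b, hb, hab⟩ := isComplement'_exists_mul hc ⟨x, hx⟩
      refine ⟨a, Subgroup.mem_subgroupOf.mp ha, b, Subgroup.mem_subgroupOf.mp hb, ?_⟩
      have := congrArg Subtype.val hab
      simpa using this.symm
  have hEsymm : ∀ p q : ℕ, E p q = E q p := by
    intro p q
    simp only [hE, Finset.erase_right_comm]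
  -- assemble
  have hcardS : ∀ p : Nat.Primes, Nat.card (Sq p) = (p : ℕ) ^ (Nat.card G).factorization p :=
    fun p => hSqcard p
  have hS : ∀ p : Nat.Primes, ∃ P : Sylow (p : ℕ) G, (P : Subgroup G) = Sq p := by
    intro p
    have : Fact (p : ℕ).Prime := ⟨p.2⟩
    exact ⟨Sylow.ofCard (Sq p) (hcardS p), Sylow.coe_ofCard _ _⟩
  choose S hS using hS
  refine ⟨S, ?_⟩
  intro p q
  rw [← Sylow.coe_coe, ← Sylow.coe_coe, hS p, hS q]
  by_cases hpq : (p : ℕ) = q
  · rw [hpq]
  · rw [hmul p q p.2 q.2 hpq, hmul q p q.2 p.2 (fun h => hpq h.symm), hEsymm]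

end Cfsg.Agent.Lib.H1
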