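import Mathlib
import Cfsg.Agent.Lib.H1.QuotientBasic
import Cfsg.Agent.Lib.H1.SylowSystem
import Cfsg.Agent.Lib.H1.FrattiniArg

set_option autoImplicit false
open Pointwise

namespace Cfsg.Agent.Lib.H1

variable {G : Type*} [Group G]

/-- `|KN| · |N ∩ K| = |K| · |N|` for `N` normal. -/
theorem card_sup_mul_card_inf (K N : Subgroup G) [N.Normal] :
    Nat.card (K ⊔ N : Subgroup G) * Nat.card (N ⊓ K : Subgroup G) = Nat.card K * Nat.card N := by
  have h1 := card_map_mk'_mul N K
  have h2 : Nat.card (K ⊔ N : Subgroup G) = Nat.card (K.map (QuotientGroup.mk' N)) * Nat.card N := by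
    rw [← comap_map_mk', card_comap_mk']
  rw [h2, ← h1]
  ring

/-- For `N` normal, `[N : N ∩ K]` divides `[G : K]`. -/
theorem relIndex_dvd_index_of_normal_right [Finite G] (K N : Subgroup G) [N.Normal] :
    K.relIndex N ∣ K.index := by
  have key : K.relIndex N = K.relIndex (K ⊔ N) := by
    have e1 := card_sup_mul_card_inf K N
    have e3 := card_mul_relIndex_of_le (le_sup_left : K ≤ K ⊔ N)
    have e4 := card_mul_relIndex_of_le (inf_le_left : N ⊓ K ≤ N)
    rw [Subgroup.inf_relIndex_left] at e4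
    have hpos : 0 < Nat.card K * Nat.card (N ⊓ K : Subgroup G) :=
      Nat.mul_pos Nat.card_pos Nat.card_pos
    apply Nat.eq_of_mul_eq_mul_left hpos
    calc Nat.card K * Nat.card (N ⊓ K : Subgroup G) * K.relIndex N
        = Nat.card K * (Nat.card (N ⊓ K : Subgroup G) * K.relIndex N) := by ring
      _ = Nat.card K * Nat.card N := by rw [e4]
      _ = Nat.card (K ⊔ N : Subgroup G) * Nat.card (N ⊓ K : Subgroup G) := e1.symm
      _ = Nat.card K * K.relIndex (K ⊔ N) * Nat.card (N ⊓ K : Subgroup G) := by rw [e3]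
      _ = Nat.card K * Nat.card (N ⊓ K : Subgroup G) * K.relIndex (K ⊔ N) := by ring
  rw [key]
  exact Subgroup.relIndex_dvd_index_of_le le_sup_left

/-- Subgroups of coprime index: `G = H K`. -/
theorem exists_mul_of_coprime_index [Finite G] {H K : Subgroup G}
    (h : H.index.Coprime K.index) (g : G) : ∃ x ∈ H, ∃ y ∈ K, g = x * y := by
  have hrel : K.relIndex H = K.index := by
    have h1 := Subgroup.relIndex_mul_index (inf_le_left : H ⊓ K ≤ H)
    rw [index_inf_of_coprime h, Subgroup.inf_relIndex_left] at h1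
    have hpos : 0 < H.index := Nat.pos_of_ne_zero Subgroup.index_ne_zero_of_finite
    apply Nat.eq_of_mul_eq_mul_right hpos
    rw [h1, mul_comm]
  have hsm : ∀ (x : H) (a : G),
      x • (QuotientGroup.mk a : G ⧸ K) = QuotientGroup.mk ((x : G) * a) := fun _ _ => rfl
  have hstab : MulAction.stabilizer H ((1 : G) : G ⧸ K) = K.subgroupOf H := by
    ext x
    rw [MulAction.mem_stabilizer_iff, hsm, Subgroup.mem_subgroupOf, QuotientGroup.eq]
    constructor
    · intro hx
      have : (x : G) = (((x : G) * 1)⁻¹ * 1)⁻¹ := by group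
      rw [this]
      exact K.inv_mem hx
    · intro hx
      have : ((x : G) * 1)⁻¹ * 1 = (x : G)⁻¹ := by group
      rw [this]
      exact K.inv_mem hx
  have horb : (MulAction.orbit H ((1 : G) : G ⧸ K)).ncard = Nat.card (G ⧸ K) := by
    rw [← MulAction.index_stabilizer, hstab, ← Subgroup.index_eq_card, ← hrel]
    rfl
  have huniv : MulAction.orbit H ((1 : G) : G ⧸ K) = Set.univ := by
    apply Set.eq_of_subset_of_ncard_le (Set.subset_univ _) _ (Set.toFinite _)
    rw [Set.ncard_univ, horb]
  have hg : (QuotientGroup.mk g : G ⧸ K) ∈ MulAction.orbit H ((1 : G) : G ⧸ K) := by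
    rw [huniv]
    exact Set.mem_univ _
  obtain ⟨x, hx⟩ := hg
  have hx' : (QuotientGroup.mk ((x : G) * 1) : G ⧸ K) = QuotientGroup.mk g := hx
  rw [QuotientGroup.eq] at hx'
  refine ⟨x, x.2, ((x : G) * 1)⁻¹ * g, hx', ?_⟩
  group

/-- If `[G : Y]` is a power of `p` and `|Y|` is prime to `p`, then `[G : Y]` is the full
`p`-part of `|G|`. -/
theorem index_eq_pow_factorization [Finite G] {p : ℕ} (hp : p.Prime) {Y : Subgroup G} {j : ℕ}
    (hidx : Y.index = p ^ j) (hcop : (Nat.card Y).Coprime p) :
    Y.index = p ^ (Nat.card G).factorization p := by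
  have h1 := Y.card_mul_index
  rw [hidx] at h1 ⊢
  congr 1
  have hnd : ¬ p ∣ Nat.card Y := by
    intro hd
    have := Nat.dvd_gcd hd (dvd_refl p)
    rw [Nat.Coprime.gcd_eq_one hcop] at this
    exact hp.one_lt.ne' (Nat.dvd_one.mp this)
  rw [← h1, Nat.factorization_mul Nat.card_pos.ne' (pow_pos hp.pos j).ne', Finsupp.add_apply,
    Nat.factorization_eq_zero_of_not_dvd hnd, zero_add, hp.factorization_pow,
    Finsupp.single_eq_same]

/-- The order of a subgroup whose index is the full `p`-part of `|G|` is prime to `p`. -/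
theorem card_coprime_of_index_eq [Finite G] {p : ℕ} (hp : p.Prime) {Y : Subgroup G}
    (hidx : Y.index = p ^ (Nat.card G).factorization p) : (Nat.card Y).Coprime p := by
  have h1 := Y.card_mul_index
  rw [hidx] at h1
  have h2 := Nat.ordProj_mul_ordCompl_eq_self (Nat.card G) p
  have h3 : Nat.card Y = Nat.card G / p ^ (Nat.card G).factorization p := by
    have hpos : 0 < p ^ (Nat.card G).factorization p := pow_pos hp.pos _
    apply Nat.eq_of_mul_eq_mul_right hpos
    rw [h1, mul_comm]
    exact h2.symm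
  rw [h3]
  exact (Nat.coprime_ordCompl hp Nat.card_pos.ne').symm

end Cfsg.Agent.Lib.H1
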