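import Mathlib
import Cfsg.Prelude.Def_Solvable
import Cfsg.Agent.Lib.H1.PCore

set_option autoImplicit false
open Pointwise

namespace Cfsg.Agent.Lib.H1

variable {G : Type*} [Group G]

theorem pCore_eq_bot_of_not_dvd [Finite G] {p : ℕ} [hp : Fact p.Prime] (h : ¬ p ∣ Nat.card G) :
    Cfsg.pCore p G = ⊥ := by
  obtain ⟨k, hk⟩ := IsPGroup.iff_card.mp (pCore_isPGroup p G)
  rcases Nat.eq_zero_or_pos k with rfl | hk0
  · rw [pow_zero] at hk
    exact Subgroup.card_eq_one.mp hk
  · exfalso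
    apply h
    have h1 : p ∣ Nat.card (Cfsg.pCore p G) := by
      rw [hk]; exact dvd_pow_self p hk0.ne'
    exact h1.trans (Subgroup.card_subgroup_dvd_card _)

theorem iSup_primes_pCore_eq [Finite G] :
    (⨆ p : Nat.Primes, Cfsg.pCore (p : ℕ) G) =
      ⨆ p : {p : ℕ // p ∈ (Nat.card G).primeFactors}, Cfsg.pCore (p : ℕ) G := by
  apply le_antisymm
  · apply iSup_le
    intro p
    by_cases h : (p : ℕ) ∣ Nat.card G
    · have hmem : (p : ℕ) ∈ (Nat.card G).primeFactors :=
        Nat.mem_primeFactors.mpr ⟨p.2, h, Nat.card_pos.ne'⟩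
      exact le_iSup (fun q : {p : ℕ // p ∈ (Nat.card G).primeFactors} => Cfsg.pCore (q : ℕ) G)
        ⟨p, hmem⟩
    · have : Fact (p : ℕ).Prime := ⟨p.2⟩
      rw [pCore_eq_bot_of_not_dvd h]
      exact bot_le
  · apply iSup_le
    intro p
    exact le_iSup (fun q : Nat.Primes => Cfsg.pCore (q : ℕ) G)
      ⟨p, Nat.prime_of_mem_primeFactors p.2⟩

theorem pCore_commute {p q : ℕ} [Fact p.Prime] [Fact q.Prime] (hpq : p ≠ q)
    (x y : G) (hx : x ∈ Cfsg.pCore p G) (hy : y ∈ Cfsg.pCore q G) : Commute x y :=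
  Subgroup.commute_of_normal_of_disjoint _ _ (pCore_normal p G) (pCore_normal q G)
    (IsPGroup.disjoint_of_ne p q hpq _ _ (pCore_isPGroup p G) (pCore_isPGroup q G)) x y hx hy

/-- The join of the `p`-cores is nilpotent. -/
theorem iSup_pCore_isNilpotent [Finite G] :
    Group.IsNilpotent (⨆ p : Nat.Primes, Cfsg.pCore (p : ℕ) G : Subgroup G) := by
  rw [iSup_primes_pCore_eq]
  let ι := {p : ℕ // p ∈ (Nat.card G).primeFactors}
  let H : ι → Subgroup G := fun p => Cfsg.pCore (p : ℕ) G
  have hcomm : Pairwise fun i j : ι => ∀ x y : G, x ∈ H i → y ∈ H j → Commute x y := by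
    intro i j hij x y hx hy
    have : Fact (i : ℕ).Prime := ⟨Nat.prime_of_mem_primeFactors i.2⟩
    have : Fact (j : ℕ).Prime := ⟨Nat.prime_of_mem_primeFactors j.2⟩
    exact pCore_commute (fun h => hij (Subtype.ext h)) x y hx hy
  have hnil : ∀ i : ι, Group.IsNilpotent (H i) := by
    intro i
    have : Fact (i : ℕ).Prime := ⟨Nat.prime_of_mem_primeFactors i.2⟩
    exact (pCore_isPGroup (i : ℕ) G).isNilpotent
  have hpi : Group.IsNilpotent (∀ i : ι, H i) := Group.isNilpotent_pi
  have hrange : (Subgroup.noncommPiCoprod hcomm).range = ⨆ i : ι, H i :=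
    Subgroup.noncommPiCoprod_range
  have : Group.IsNilpotent (Subgroup.noncommPiCoprod hcomm).range :=
    Group.nilpotent_of_surjective (Subgroup.noncommPiCoprod hcomm).rangeRestrict
      (MonoidHom.rangeRestrict_surjective _)
  rw [hrange] at this
  exact this

/-- A subgroup containing a Sylow `p`-subgroup for every prime `p` is everything. -/
theorem eq_top_of_forall_sylow_le [Finite G] (S : Subgroup G)
    (h : ∀ p : ℕ, ∀ _hp : Fact p.Prime, ∃ P : Sylow p G, (P : Subgroup G) ≤ S) : S = ⊤ := by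
  apply Subgroup.eq_top_of_card_eq
  apply Nat.dvd_antisymm (Subgroup.card_subgroup_dvd_card S)
  rw [← Nat.factorization_prime_le_iff_dvd Nat.card_pos.ne' Nat.card_pos.ne']
  intro p hp
  haveI : Fact p.Prime := ⟨hp⟩
  obtain ⟨P, hP⟩ := h p ⟨hp⟩
  rw [← hp.pow_dvd_iff_le_factorization Nat.card_pos.ne', ← P.card_eq_multiplicity]
  exact Subgroup.card_dvd_of_le hP

/-- A normal nilpotent subgroup lies in the join of the `p`-cores. -/
theorem le_iSup_pCore_of_normal_of_isNilpotent [Finite G] (N : Subgroup G) (hN : N.Normal)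
    (hnil : Group.IsNilpotent N) : N ≤ ⨆ p : Nat.Primes, Cfsg.pCore (p : ℕ) G := by
  -- the subgroup of `N` generated by (the unique) Sylow subgroups of `N`
  let T : Subgroup N := (⨆ p : Nat.Primes, Cfsg.pCore (p : ℕ) G).subgroupOf N
  have hT : T = ⊤ := by
    apply eq_top_of_forall_sylow_le
    intro p hp
    obtain ⟨P⟩ : Nonempty (Sylow p N) := inferInstance
    refine ⟨P, ?_⟩
    have hPn : (P : Subgroup N).Normal := inferInstance
    have hPc : (P : Subgroup N).Characteristic := Sylow.characteristic_of_normal P hPn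
    have hnorm : ((P : Subgroup N).map N.subtype).Normal :=
      ConjAct.normal_of_characteristic_of_normal
    have hpg : IsPGroup p ((P : Subgroup N).map N.subtype) := P.isPGroup'.map _
    have hle : (P : Subgroup N).map N.subtype ≤ Cfsg.pCore p G := le_pCore hnorm hpg
    have hle' : (P : Subgroup N).map N.subtype ≤ ⨆ p : Nat.Primes, Cfsg.pCore (p : ℕ) G :=
      hle.trans (le_iSup (fun q : Nat.Primes => Cfsg.pCore (q : ℕ) G) ⟨p, hp.out⟩)
    intro x hx
    rw [Subgroup.mem_subgroupOf]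
    exact hle' (Subgroup.mem_map_of_mem _ hx)
  intro x hx
  have : (⟨x, hx⟩ : N) ∈ T := by rw [hT]; trivial
  exact Subgroup.mem_subgroupOf.mp this

theorem fittingSubgroup_eq_iSup_pCore [Finite G] :
    Cfsg.fittingSubgroup G = ⨆ p : Nat.Primes, Cfsg.pCore (p : ℕ) G := by
  apply le_antisymm
  · apply sSup_le
    intro N hN
    exact le_iSup_pCore_of_normal_of_isNilpotent N hN.1 hN.2
  · apply iSup_le
    intro p
    haveI : Fact (p : ℕ).Prime := ⟨p.2⟩
    exact le_sSup ⟨pCore_normal p G, (pCore_isPGroup (p : ℕ) G).isNilpotent⟩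

theorem fittingSubgroup_normal (G : Type*) [Group G] : (Cfsg.fittingSubgroup G).Normal :=
  Subgroup.sSup_normal _ (fun _ hH => hH.1)

theorem fittingSubgroup_isNilpotent [Finite G] : Group.IsNilpotent (Cfsg.fittingSubgroup G) := by
  rw [fittingSubgroup_eq_iSup_pCore]
  exact iSup_pCore_isNilpotent

theorem le_fittingSubgroup {N : Subgroup G} (hN : N.Normal) (hnil : Group.IsNilpotent N) :
    N ≤ Cfsg.fittingSubgroup G :=
  le_sSup ⟨hN, hnil⟩

end Cfsg.Agent.Lib.H1
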