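import Mathlib
import Cfsg.Agent.Lib.H5.CS4a
import Cfsg.Agent.Lib.H5.CS4b
import Cfsg.Agent.Lib.H16.CS4_T1

/-!
# S4146, task T3: structure of `C(h)` for a good element `h`
(helper1, for helper5's blueprint `tools/blueprints/S4146.md`)
-/

set_option autoImplicit false

namespace Cfsg.Agent.Lib.H5.CS4

open Cfsg.Agent.Lib.H20.BHM (cs)
open Subgroup

variable {G : Type*} [Group G] [Finite G] {n m : ℕ}

set_option linter.unusedSectionVars false

/-- `Nat.card H * H.relIndex K = Nat.card K` for `H ≤ K`. -/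
theorem t3_card_mul_relIndex {H K : Subgroup G} (h : H ≤ K) :
    Nat.card H * H.relIndex K = Nat.card K := by
  have := Subgroup.relIndex_mul_relIndex ⊥ H K bot_le h
  rwa [Subgroup.relIndex_bot_left, Subgroup.relIndex_bot_left] at this

/-- `Nat.card (C ⊓ K) * C.relIndex K = Nat.card K`. -/
theorem t3_card_inf_mul_relIndex (C K : Subgroup G) :
    Nat.card ↥(C ⊓ K) * C.relIndex K = Nat.card K := by
  have := t3_card_mul_relIndex (inf_le_right : C ⊓ K ≤ K)
  rwa [Subgroup.inf_relIndex_right] at this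

/-- If `Y = P K` with `K` normalized by `Y` and `P ≤ C`, the relative indices of `C` in `K` and
in `Y` agree. -/
theorem t3_relIndex_eq {P K Y C : Subgroup G} (hKY : K ≤ Y) (hPC : P ≤ C) (hPY : P ≤ Y)
    (hdec : ∀ y ∈ Y, ∃ a ∈ P, ∃ b ∈ K, y = a * b)
    (hnorm : Y ≤ normalizer (K : Set G)) : C.relIndex K = C.relIndex Y := by
  set A : Subgroup G := C ⊓ Y with hA
  have hAn : A ≤ normalizer (K : Set G) := inf_le_right.trans hnorm
  have hsup : A ⊔ K = Y := by
    apply le_antisymm (sup_le inf_le_right hKY)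
    intro y hy
    obtain ⟨a, ha, b, hb, rfl⟩ := hdec y hy
    exact Subgroup.mul_mem _ (Subgroup.mem_sup_left ⟨hPC ha, hPY ha⟩) (Subgroup.mem_sup_right hb)
  have hinf : A ⊓ K = C ⊓ K := by
    rw [hA, inf_assoc, inf_eq_right.2 hKY]
  -- second isomorphism theorem
  have := Subgroup.normal_subgroupOf_of_le_normalizer hAn
  have := Subgroup.normal_subgroupOf_sup_of_le_normalizer hAn
  have h0 : K.relIndex (A ⊔ K) = K.relIndex A := by
    unfold Subgroup.relIndex Subgroup.index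
    exact (Nat.card_congr (QuotientGroup.quotientInfEquivProdNormalizerQuotient A K hAn).toEquiv).symm
  rw [hsup] at h0
  have h1 : Nat.card K * K.relIndex Y = Nat.card Y := t3_card_mul_relIndex hKY
  have h2 : Nat.card ↥(K ⊓ A) * K.relIndex A = Nat.card A := t3_card_inf_mul_relIndex K A
  have h3 : Nat.card ↥(C ⊓ K) * C.relIndex K = Nat.card K := t3_card_inf_mul_relIndex C K
  have h4 : Nat.card ↥(C ⊓ Y) * C.relIndex Y = Nat.card Y := t3_card_inf_mul_relIndex C Y
  rw [inf_comm, hinf] at h2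
  rw [← hA] at h4
  -- |Y| |B| = |A| |K|
  have hB : 0 < Nat.card ↥(C ⊓ K) := Nat.card_pos
  have hApos : 0 < Nat.card A := Nat.card_pos
  have key : Nat.card A * Nat.card ↥(C ⊓ K) * C.relIndex K =
      Nat.card A * Nat.card ↥(C ⊓ K) * C.relIndex Y := by
    calc Nat.card A * Nat.card ↥(C ⊓ K) * C.relIndex K
        = Nat.card A * (Nat.card ↥(C ⊓ K) * C.relIndex K) := by ring
      _ = Nat.card A * Nat.card K := by rw [h3]
      _ = (Nat.card ↥(C ⊓ K) * K.relIndex A) * Nat.card K := by rw [h2]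
      _ = Nat.card ↥(C ⊓ K) * (Nat.card K * K.relIndex Y) := by rw [h0]; ring
      _ = Nat.card ↥(C ⊓ K) * Nat.card Y := by rw [h1]
      _ = Nat.card ↥(C ⊓ K) * (Nat.card A * C.relIndex Y) := by rw [h4]
      _ = Nat.card A * Nat.card ↥(C ⊓ K) * C.relIndex Y := by ring
  exact Nat.eq_of_mul_eq_mul_left (Nat.mul_pos hApos hB) key

theorem t3_orderOf_conj (g x : G) : orderOf (g * x * g⁻¹) = orderOf x := by
  have := (MulAut.conj g).orderOf_eq x
  rwa [MulAut.conj_apply] at this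

/-- An element of `K` of order prime to `r`, some `r`-power power of which is central in `K`, is
central in `K`. -/
theorem t3_central_of_pow {K : Subgroup G} {r : ℕ} (hr : r.Prime) {x : G}
    (hcop : ¬ r ∣ orderOf x) {k : ℕ} (hk : ∀ u ∈ K, Commute (x ^ r ^ k) u) :
    ∀ u ∈ K, Commute x u := by
  have hc : (r ^ k).Coprime (orderOf x) :=
    Nat.Coprime.pow_left k ((Nat.Prime.coprime_iff_not_dvd hr).2 hcop)
  obtain ⟨i, hi⟩ := exists_pow_eq_self_of_coprime hc
  intro u hu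
  rw [← hi]
  exact (hk u hu).pow_left i

theorem t3_relIndex_eq_one {K : Subgroup G} {x : G} (h : ∀ u ∈ K, Commute x u) :
    (centralizer ({x} : Set G)).relIndex K = 1 := by
  rw [Subgroup.relIndex_eq_one]
  intro u hu
  rw [mem_centralizer_singleton_comm]
  exact (h u hu).symm

/-- T3 with T1 and T2 as hypotheses. -/
theorem Hyp.good_struct_aux
    (T1 : ∀ (p : ℕ) [Fact p.Prime] (Y : Subgroup G),
      (∀ u ∈ Y, ¬ p ∣ orderOf u → ¬ p ∣ (centralizer ({u} : Set G)).relIndex Y) →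
      ∃ P K : Subgroup G, P ≤ Y ∧ K ≤ Y ∧
        (∀ u ∈ Y, PE p u → u ∈ P) ∧ (∀ u ∈ P, PE p u) ∧
        (∀ u ∈ Y, ¬ p ∣ orderOf u → u ∈ K) ∧ (∀ u ∈ K, ¬ p ∣ orderOf u) ∧
        (∀ a ∈ P, ∀ b ∈ K, Commute a b) ∧ Nat.card P * Nat.card K = Nat.card Y)
    (T2 : ∀ (H : Subgroup G) (n : ℕ), 1 < n →
      (∀ u ∈ H, (centralizer ({u} : Set G)).relIndex H = 1 ∨
        (centralizer ({u} : Set G)).relIndex H = n) →
      ∃ r : ℕ, r.Prime ∧ (∀ g ∈ H, ∃ k : ℕ, ∀ u ∈ H, Commute (g ^ r ^ k) u) ∧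
        ((∃ u ∈ H, (centralizer ({u} : Set G)).relIndex H = n) → ∃ a : ℕ, n = r ^ a))
    (H : Hyp G n m) {p : ℕ} [Fact p.Prime] (hpm : p ∣ m) {h : G}
    (hh : cs h = m) (hp : PE p h) :
    (∀ u ∈ centralizer ({h} : Set G), ∀ v ∈ centralizer ({h} : Set G),
        PE p u → ¬ p ∣ orderOf v → Commute u v) ∧
    (∀ x : G, cs x = n → ¬ PE p x) ∧
    ∃ q : ℕ, q.Prime ∧ (∃ a : ℕ, n = q ^ a) ∧
      (∀ x : G, cs x = n → ∀ t : ℕ, t.Prime → PE t x → t = q) ∧
      ∃ Q : Subgroup G, Q ≤ centralizer ({h} : Set G) ∧ IsPGroup q Q ∧ ¬ q ∣ Q.index ∧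
        ∀ u ∈ centralizer ({h} : Set G), PE q u → u ∈ Q := by
  classical
  have hpp : p.Prime := Fact.out
  have hmpos : 0 < m := by have := H.hm; omega
  have hnpos : 0 < n := by have := H.hn; omega
  have hpn : ¬ p ∣ n := fun hd => by
    have h1 : p ∣ Nat.gcd n m := Nat.dvd_gcd hd hpm
    rw [H.cop] at h1
    exact hpp.one_lt.ne' (Nat.dvd_one.1 h1)
  set Y : Subgroup G := centralizer ({h} : Set G) with hY
  have hYidx : Y.index = m := hh
  -- (a)
  have hcs : ∀ u ∈ Y, ¬ p ∣ orderOf u →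
      cs (h * u) = (centralizer ({u} : Set G)).relIndex Y * m := by
    intro u hu hpu
    have hc : Commute h u := (mem_centralizer_singleton_comm.1 hu).symm
    have hcop := hp.coprime hpp hpu
    have h1 := Cfsg.Agent.Lib.H20.centralizer_mul_of_coprime hc hcop
    unfold cs
    rw [h1, ← Subgroup.relIndex_mul_index (inf_le_left : Y ⊓ centralizer ({u} : Set G) ≤ Y),
      Subgroup.inf_relIndex_left, hYidx]
  have hrel : ∀ u ∈ Y, ¬ p ∣ orderOf u → (centralizer ({u} : Set G)).relIndex Y = 1 ∨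
      (centralizer ({u} : Set G)).relIndex Y = n := by
    intro u hu hpu
    have h2 := hcs u hu hpu
    have h3 : m ∣ cs (h * u) := ⟨_, by rw [h2, mul_comm]⟩
    rcases H.of_m_dvd h3 with h4 | h4
    · left
      rw [h2] at h4
      exact Nat.eq_of_mul_eq_mul_right hmpos (by rw [h4, one_mul])
    · right
      rw [h2] at h4
      exact Nat.eq_of_mul_eq_mul_right hmpos h4
  have hT1hyp : ∀ u ∈ Y, ¬ p ∣ orderOf u → ¬ p ∣ (centralizer ({u} : Set G)).relIndex Y := by
    intro u hu hpu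
    rcases hrel u hu hpu with h1 | h1 <;> rw [h1]
    · exact fun hd => hpp.one_lt.ne' (Nat.dvd_one.1 hd)
    · exact hpn
  obtain ⟨P, K, hPY, hKY, hP3, hP4, hK5, hK6, hcomm, hcard⟩ := T1 p Y hT1hyp
  -- decomposition
  have hdec : ∀ y ∈ Y, ∃ a ∈ P, ∃ b ∈ K, y = a * b := by
    intro y hy
    obtain ⟨k, l, hkl, ⟨e, he⟩, hcop⟩ :=
      Cfsg.Agent.Lib.H20.exists_pPart_pPrimePart y (isOfFinOrder_of_finite y) p hpp
    refine ⟨y ^ k, hP3 _ (Y.pow_mem hy k) (pe_of_orderOf he), y ^ l,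
      hK5 _ (Y.pow_mem hy l) ?_, hkl.symm⟩
    intro hd
    have := Nat.Coprime.eq_one_of_dvd hcop.symm hd
    exact hpp.one_lt.ne' this
  have hKnorm : Y ≤ normalizer (K : Set G) := by
    intro y hy
    rw [Subgroup.mem_normalizer_iff]
    intro b
    constructor
    · intro hb
      refine hK5 _ (Y.mul_mem (Y.mul_mem hy (hKY hb)) (Y.inv_mem hy)) ?_
      rw [t3_orderOf_conj]
      exact hK6 b hb
    · intro hb
      have h1 : b = y⁻¹ * (y * b * y⁻¹) * y⁻¹⁻¹ := by group
      rw [h1]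
      refine hK5 _ (Y.mul_mem (Y.mul_mem (Y.inv_mem hy) (hKY hb)) (Y.inv_mem (Y.inv_mem hy))) ?_
      rw [t3_orderOf_conj]
      exact hK6 _ hb
  have hrelK : ∀ u ∈ K, (centralizer ({u} : Set G)).relIndex K =
      (centralizer ({u} : Set G)).relIndex Y := by
    intro u hu
    apply t3_relIndex_eq hKY ?_ hPY hdec hKnorm
    intro a ha
    rw [mem_centralizer_singleton_comm]
    exact hcomm a ha u hu
  -- `P` is a `p`-group
  have hPp : IsPGroup p P := fun g => by
    obtain ⟨k, hk⟩ := hP4 g g.2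
    exact ⟨k, Subtype.ext (by simpa using hk)⟩
  obtain ⟨i, hi⟩ := IsPGroup.iff_card.1 hPp
  have hGcard : m * (Nat.card P * Nat.card K) = Nat.card G := by
    have h1 : Y.index * Nat.card Y = Nat.card G := Subgroup.index_mul_card Y
    rwa [hYidx, ← hcard] at h1
  -- (b)
  have hb : ∀ x : G, cs x = n → ¬ PE p x := by
    intro x hx hpx
    have hc : Commute h x := H.commute_of_pe hh hp hpn hx
    have hxY : x ∈ Y := mem_centralizer_singleton_comm.2 hc.symm
    have hxP : x ∈ P := hP3 x hxY hpx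
    have hKC : K ≤ centralizer ({x} : Set G) := by
      intro b hb
      rw [mem_centralizer_singleton_comm]
      exact (hcomm x hxP b hb).symm
    have h2 : (centralizer ({x} : Set G)).index * Nat.card (centralizer ({x} : Set G)) =
        Nat.card G := Subgroup.index_mul_card _
    obtain ⟨c, hc'⟩ := Subgroup.card_dvd_of_le hKC
    have hx' : (centralizer ({x} : Set G)).index = n := hx
    rw [hx', hc'] at h2
    have h4 : m * Nat.card P = n * c := by
      have hKpos : 0 < Nat.card K := Nat.card_pos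
      apply Nat.eq_of_mul_eq_mul_right hKpos
      calc m * Nat.card P * Nat.card K = m * (Nat.card P * Nat.card K) := by ring
        _ = Nat.card G := hGcard
        _ = n * (Nat.card K * c) := h2.symm
        _ = n * c * Nat.card K := by ring
    have h5 : n ∣ m * Nat.card P := ⟨c, h4⟩
    have h6 : n.Coprime (m * Nat.card P) := by
      apply Nat.Coprime.mul_right H.cop
      rw [hi]
      exact Nat.Coprime.pow_right i ((Nat.Prime.coprime_iff_not_dvd hpp).2 hpn).symm
    exact H.hn.ne' (Nat.Coprime.eq_one_of_dvd h6 h5)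
  -- T2 on `K`
  have hT2hyp : ∀ u ∈ K, (centralizer ({u} : Set G)).relIndex K = 1 ∨
      (centralizer ({u} : Set G)).relIndex K = n := fun u hu => by
    rw [hrelK u hu]; exact hrel u (hKY hu) (hK6 u hu)
  obtain ⟨r, hr, hrpow, hrn⟩ := T2 K n H.hn hT2hyp
  have hkey : ∀ x : G, cs x = n → ∀ t : ℕ, t.Prime → PE t x →
      x ∈ K ∧ (centralizer ({x} : Set G)).relIndex K = n ∧ t = r := by
    intro x hx t ht htx
    have htp : t ≠ p := by
      rintro rfl
      exact hb x hx htx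
    have hc : Commute h x := H.commute_of_pe hh hp hpn hx
    have hxY : x ∈ Y := mem_centralizer_singleton_comm.2 hc.symm
    have hpx : ¬ p ∣ orderOf x := htx.not_dvd_orderOf ht hpp htp
    have hxK : x ∈ K := hK5 x hxY hpx
    have hrelx : (centralizer ({x} : Set G)).relIndex K = n := by
      rw [hrelK x hxK]
      have h1 := hcs x hxY hpx
      have h2 : cs x ∣ cs (h * x) := cs_dvd_cs_mul_right hc (hp.coprime hpp hpx)
      rw [hx, h1] at h2
      have h3 : n ∣ (centralizer ({x} : Set G)).relIndex Y :=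
        Nat.Coprime.dvd_of_dvd_mul_right H.cop h2
      rcases hrel x hxY hpx with h4 | h4
      · rw [h4] at h3
        exact absurd (Nat.dvd_one.1 h3) H.hn.ne'
      · exact h4
    refine ⟨hxK, hrelx, ?_⟩
    by_contra htr
    have hrx : ¬ r ∣ orderOf x := htx.not_dvd_orderOf ht hr htr
    obtain ⟨k, hk⟩ := hrpow x hxK
    have h1 := t3_relIndex_eq_one (t3_central_of_pow hr hrx hk)
    rw [hrelx] at h1
    exact H.hn.ne' h1
  -- a prime power element of `S_n`
  obtain ⟨g, hg⟩ := H.ex_n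
  obtain ⟨t, ht, y, hy, hyt, hyZ⟩ :=
    exists_pe_part (center G) (orderOf g) g rfl (H.not_central_n hg)
  have hyn : cs y = n := H.cs_of_mem_zpowers_n hg hy hyZ
  obtain ⟨hyK, hyrel, -⟩ := hkey y hyn t ht hyt
  obtain ⟨a, ha⟩ := hrn ⟨y, hyK, hyrel⟩
  have ha0 : a ≠ 0 := by
    rintro rfl
    rw [pow_zero] at ha
    exact H.hn.ne' ha
  have hrn' : r ∣ n := by rw [ha]; exact dvd_pow_self r ha0
  have hrm : ¬ r ∣ m := fun hd => by
    have h1 : r ∣ Nat.gcd n m := Nat.dvd_gcd hrn' hd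
    rw [H.cop] at h1
    exact hr.one_lt.ne' (Nat.dvd_one.1 h1)
  have hrp : r ≠ p := by
    rintro rfl
    exact hpn hrn'
  -- T1 on `K` with the prime `r`
  have : Fact r.Prime := ⟨hr⟩
  have hT1hyp' : ∀ u ∈ K, ¬ r ∣ orderOf u →
      ¬ r ∣ (centralizer ({u} : Set G)).relIndex K := by
    intro u hu hru
    obtain ⟨k, hk⟩ := hrpow u hu
    rw [t3_relIndex_eq_one (t3_central_of_pow hr hru hk)]
    exact fun hd => hr.one_lt.ne' (Nat.dvd_one.1 hd)
  obtain ⟨Q, K', hQK, hK'K, hQ3, hQ4, hK'5, hK'6, hcomm', hcard'⟩ := T1 r K hT1hyp'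
  refine ⟨?_, hb, r, hr, ⟨a, ha⟩, fun x hx t ht htx => (hkey x hx t ht htx).2.2, Q,
    hQK.trans hKY, ?_, ?_, ?_⟩
  · intro u hu v hv hpu hpv
    exact hcomm u (hP3 u hu hpu) v (hK5 v hv hpv)
  · intro g
    obtain ⟨k, hk⟩ := hQ4 g g.2
    exact ⟨k, Subtype.ext (by simpa using hk)⟩
  · -- the index of `Q`
    have h1 : Q.index * Nat.card Q = Nat.card G := Subgroup.index_mul_card Q
    have h2 : Q.index = m * Nat.card P * Nat.card K' := by
      have hQpos : 0 < Nat.card Q := Nat.card_pos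
      apply Nat.eq_of_mul_eq_mul_right hQpos
      rw [h1, ← hGcard, ← hcard']
      ring
    rw [h2]
    intro hd
    rcases (Nat.Prime.dvd_mul hr).1 hd with hd | hd
    · rcases (Nat.Prime.dvd_mul hr).1 hd with hd | hd
      · exact hrm hd
      · rw [hi] at hd
        exact hrp ((Nat.prime_dvd_prime_iff_eq hr hpp).1 (hr.dvd_of_dvd_pow hd))
    · obtain ⟨x, hx⟩ := exists_prime_orderOf_dvd_card' (G := K') r hd
      apply hK'6 (x : G) x.2
      rw [Subgroup.orderOf_coe, hx]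
  · intro u hu hru
    have hpu : ¬ p ∣ orderOf u := hru.not_dvd_orderOf hr hpp hrp
    exact hQ3 u (hK5 u hu hpu) hru

/-- T3 (structure of `C(h)` for a "good" `h`: a `p`-element of `S_m` with `p ∣ m`). -/
theorem Hyp.good_struct (H : Hyp G n m) {p : ℕ} [Fact p.Prime] (hpm : p ∣ m) {h : G}
    (hh : cs h = m) (hp : PE p h) :
    (∀ u ∈ centralizer ({h} : Set G), ∀ v ∈ centralizer ({h} : Set G),
        PE p u → ¬ p ∣ orderOf v → Commute u v) ∧
    (∀ x : G, cs x = n → ¬ PE p x) ∧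
    ∃ q : ℕ, q.Prime ∧ (∃ a : ℕ, n = q ^ a) ∧
      (∀ x : G, cs x = n → ∀ t : ℕ, t.Prime → PE t x → t = q) ∧
      ∃ Q : Subgroup G, Q ≤ centralizer ({h} : Set G) ∧ IsPGroup q Q ∧ ¬ q ∣ Q.index ∧
        ∀ u ∈ centralizer ({h} : Set G), PE q u → u ∈ Q :=
  Hyp.good_struct_aux (fun p _ Y hY => camina_split p Y hY)
    (fun K n hn hK => ito_rel K n hn hK) H hpm hh hp

end Cfsg.Agent.Lib.H5.CS4
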