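import Mathlib
import Cfsg.Agent.Lib.H28.CSL2Defs

/-!
# S3211 (architect helper28), piece E (helper1, twin): the hypotheses give the configuration `Cfg`.
-/

set_option autoImplicit false

namespace Cfsg.Agent.Lib.H1.CSL2

open Cfsg.Agent.Lib.H28.CSL2

variable {G : Type*} [Group G]

/-- the product set of two elementwise commuting subgroups, as a subgroup -/
def prodSub (L₁ L₂ : Subgroup G) (hc : ∀ x ∈ L₁, ∀ y ∈ L₂, x * y = y * x) : Subgroup G where
  carrier := {g | ∃ a ∈ L₁, ∃ b ∈ L₂, g = a * b}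
  one_mem' := ⟨1, L₁.one_mem, 1, L₂.one_mem, (mul_one 1).symm⟩
  mul_mem' := by
    rintro _ _ ⟨a, ha, b, hb, rfl⟩ ⟨a', ha', b', hb', rfl⟩
    refine ⟨a * a', L₁.mul_mem ha ha', b * b', L₂.mul_mem hb hb', ?_⟩
    calc a * b * (a' * b') = a * (b * a') * b' := by group
      _ = a * (a' * b) * b' := by rw [hc a' ha' b hb]
      _ = a * a' * (b * b') := by group
  inv_mem' := by
    rintro _ ⟨a, ha, b, hb, rfl⟩
    refine ⟨a⁻¹, L₁.inv_mem ha, b⁻¹, L₂.inv_mem hb, ?_⟩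
    rw [mul_inv_rev, hc a⁻¹ (L₁.inv_mem ha) b⁻¹ (L₂.inv_mem hb)]

theorem sup_le_prodSub (L₁ L₂ : Subgroup G) (hc : ∀ x ∈ L₁, ∀ y ∈ L₂, x * y = y * x) :
    L₁ ⊔ L₂ ≤ prodSub L₁ L₂ hc := by
  apply sup_le
  · intro a ha
    exact ⟨a, ha, 1, L₂.one_mem, (mul_one a).symm⟩
  · intro b hb
    exact ⟨1, L₁.one_mem, b, hb, (one_mul b).symm⟩

/-- **E**. -/
theorem cfg_of_hyp {G : Type*} [Group G] [Finite G] (L₁ L₂ : Subgroup G) (j n : G)
    (hs1 : SLike L₁ j) (hs2 : SLike L₂ j) (h24 : 2 < Nat.card L₁)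
    (hc : ∀ x ∈ L₁, ∀ y ∈ L₂, x * y = y * x) (hm : L₁ ⊓ L₂ = Subgroup.zpowers j)
    (hle : L₁ ⊔ L₂ ≤ Subgroup.centralizer ({j} : Set G))
    (hi : (L₁ ⊔ L₂).relIndex (Subgroup.centralizer ({j} : Set G)) = 2)
    (hn : n ∈ Subgroup.centralizer ({j} : Set G)) (hn2 : n ^ 2 = j)
    (hswap : L₁.map (MulAut.conj n).toMonoidHom = L₂) : Cfg L₁ L₂ j n := by
  have hnj : n * j = j * n := (Subgroup.mem_centralizer_singleton_iff.mp hn)
  have hnn : n * n = j := by rw [← sq]; exact hn2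
  have hn12 : ∀ a ∈ L₁, n * a * n⁻¹ ∈ L₂ := by
    intro a ha
    rw [← hswap]
    exact ⟨a, ha, rfl⟩
  have hn21 : ∀ b ∈ L₂, n * b * n⁻¹ ∈ L₁ := by
    intro b hb
    rw [← hswap] at hb
    obtain ⟨a, ha, rfl⟩ := hb
    have e : n * ((MulAut.conj n).toMonoidHom a) * n⁻¹ = (n * n) * a * (n * n)⁻¹ := by
      show n * (n * a * n⁻¹) * n⁻¹ = _
      group
    rw [e, hnn]
    have := hs1.cen a ha
    have e2 : j * a * j⁻¹ = a := by rw [← this]; group
    rw [e2]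
    exact ha
  have hmeet : ∀ g, g ∈ L₁ → g ∈ L₂ → g = 1 ∨ g = j := by
    intro g h1 h2
    have hg : g ∈ L₁ ⊓ L₂ := ⟨h1, h2⟩
    rw [hm, Subgroup.mem_zpowers_iff] at hg
    obtain ⟨k, rfl⟩ := hg
    have hjsq : j ^ 2 = 1 := by rw [sq]; exact hs1.jj
    rcases Int.emod_two_eq_zero_or_one k with hk | hk
    · left
      have : k = 2 * (k / 2) := by omega
      rw [this, zpow_mul, zpow_ofNat, hjsq, one_zpow]
    · right
      have : k = 2 * (k / 2) + 1 := by omega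
      rw [this, zpow_add, zpow_mul, zpow_ofNat, hjsq, one_zpow, one_mul, zpow_one]
  -- `n ∉ L₁ ⊔ L₂`
  have hnY : n ∉ L₁ ⊔ L₂ := by
    intro hmem
    obtain ⟨a, ha, b, hb, hab⟩ := sup_le_prodSub L₁ L₂ hc hmem
    -- conjugation by `n` maps `L₁` into `L₁`
    have h1 : ∀ u ∈ L₁, n * u * n⁻¹ ∈ L₁ := by
      intro u hu
      have e : n * u * n⁻¹ = a * u * a⁻¹ := by
        rw [hab]
        calc a * b * u * (a * b)⁻¹ = a * (b * u) * b⁻¹ * a⁻¹ := by group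
          _ = a * (u * b) * b⁻¹ * a⁻¹ := by rw [hc u hu b hb]
          _ = a * u * a⁻¹ := by group
      rw [e]
      exact L₁.mul_mem (L₁.mul_mem ha hu) (L₁.inv_mem ha)
    -- so `L₁ ≤ ⟨j⟩`
    have h2 : ∀ u ∈ L₁, u = 1 ∨ u = j := by
      intro u hu
      have hu2 : n * u * n⁻¹ ∈ L₂ := hn12 u hu
      rcases hmeet _ (h1 u hu) hu2 with h3 | h3
      · left
        have : u = n⁻¹ * (n * u * n⁻¹) * n := by group
        rw [this, h3]; group
      · right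
        have : u = n⁻¹ * (n * u * n⁻¹) * n := by group
        rw [this, h3]
        rw [mul_assoc, ← hnj]; group
    have hcard : Nat.card L₁ ≤ 2 := by
      classical
      have hsub : (L₁ : Set G) ⊆ ({1, j} : Set G) := by
        intro u hu
        rcases h2 u hu with h3 | h3
        · left; exact h3
        · right; exact h3
      calc Nat.card L₁ = Nat.card (L₁ : Set G) := rfl
        _ ≤ Nat.card ({1, j} : Set G) := Nat.card_mono (Set.toFinite _) hsub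
        _ ≤ 2 := by
          rw [Nat.card_coe_set_eq]
          exact (Set.ncard_insert_le _ _).trans (by rw [Set.ncard_singleton])
    omega
  refine ⟨hs1, hs2, hc, hmeet, ?_, hnj, hnn, hn12, hn21⟩
  -- cover
  intro g hg
  have hgC : g ∈ Subgroup.centralizer ({j} : Set G) := Subgroup.mem_centralizer_singleton_iff.mpr hg
  have hidx : ((L₁ ⊔ L₂).subgroupOf (Subgroup.centralizer ({j} : Set G))).index = 2 := hi
  by_cases hgY : g ∈ L₁ ⊔ L₂
  · obtain ⟨a, ha, b, hb, hab⟩ := sup_le_prodSub L₁ L₂ hc hgY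
    exact ⟨a, ha, b, hb, Or.inl hab⟩
  · have hmul := Subgroup.mul_mem_iff_of_index_two hidx
      (a := ⟨g, hgC⟩) (b := (⟨n, hn⟩ : Subgroup.centralizer ({j} : Set G))⁻¹)
    have h1 : (⟨g, hgC⟩ : Subgroup.centralizer ({j} : Set G)) ∉
        (L₁ ⊔ L₂).subgroupOf (Subgroup.centralizer ({j} : Set G)) := by
      rw [Subgroup.mem_subgroupOf]; exact hgY
    have h2 : (⟨n, hn⟩ : Subgroup.centralizer ({j} : Set G))⁻¹ ∉
        (L₁ ⊔ L₂).subgroupOf (Subgroup.centralizer ({j} : Set G)) := by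
      rw [Subgroup.inv_mem_iff, Subgroup.mem_subgroupOf]; exact hnY
    have h3 : (⟨g, hgC⟩ : Subgroup.centralizer ({j} : Set G)) *
        (⟨n, hn⟩ : Subgroup.centralizer ({j} : Set G))⁻¹ ∈
        (L₁ ⊔ L₂).subgroupOf (Subgroup.centralizer ({j} : Set G)) := by
      rw [hmul]
      exact ⟨fun h => absurd h h1, fun h => absurd h h2⟩
    rw [Subgroup.mem_subgroupOf] at h3
    have h4 : g * n⁻¹ ∈ L₁ ⊔ L₂ := h3
    obtain ⟨a, ha, b, hb, hab⟩ := sup_le_prodSub L₁ L₂ hc h4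
    refine ⟨a, ha, b, hb, Or.inr ?_⟩
    rw [← hab]; group

end Cfsg.Agent.Lib.H1.CSL2
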