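import Mathlib

set_option autoImplicit false
open Pointwise
open scoped commutatorElement

namespace Cfsg.Agent.Lib.H1

variable {G : Type*} [Group G]

/-- iterated commutators `[N, G, G, ..., G]` -/
def iterComm (N : Subgroup G) : ℕ → Subgroup G
  | 0 => N
  | n + 1 => ⁅iterComm N n, (⊤ : Subgroup G)⁆

theorem iterComm_le_lcs (N : Subgroup G) (n : ℕ) :
    iterComm N n ≤ (⊤ : Subgroup G).lowerCentralSeries n := by
  induction n with
  | zero => exact le_top
  | succ k ih => exact Subgroup.commutator_mono ih le_rfl

theorem iterComm_normal (N : Subgroup G) [hN : N.Normal] (n : ℕ) : (iterComm N n).Normal := by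
  induction n with
  | zero => exact hN
  | succ k ih =>
    haveI := ih
    exact Subgroup.commutator_normal (iterComm N k) ⊤

theorem iterComm_le (N : Subgroup G) [hN : N.Normal] (n : ℕ) : iterComm N n ≤ N := by
  induction n with
  | zero => exact le_rfl
  | succ k ih =>
    haveI := iterComm_normal N k
    exact (Subgroup.commutator_le_left (iterComm N k) ⊤).trans ih

/-- A nontrivial normal subgroup of a nilpotent group meets the centre nontrivially. -/
theorem normal_inf_center_ne_bot [hG : Group.IsNilpotent G] (N : Subgroup G) [N.Normal]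
    (hN : N ≠ ⊥) : N ⊓ Subgroup.center G ≠ ⊥ := by
  obtain ⟨n, hn⟩ := Subgroup.nilpotent_iff_lowerCentralSeries.mp hG
  have hex : ∃ k, iterComm N k = ⊥ := ⟨n, le_bot_iff.mp (hn ▸ iterComm_le_lcs N n)⟩
  classical
  let k := Nat.find hex
  have hk : iterComm N k = ⊥ := Nat.find_spec hex
  have hk0 : k ≠ 0 := by
    intro h0
    rw [h0] at hk
    exact hN hk
  obtain ⟨j, hj⟩ := Nat.exists_eq_succ_of_ne_zero hk0
  have hjne : iterComm N j ≠ ⊥ := Nat.find_min hex (by omega : j < k)
  have hjc : iterComm N j ≤ Subgroup.center G := by
    rw [← Subgroup.commutator_top_right_eq_bot_iff_le_center]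
    have : iterComm N (j + 1) = ⊥ := by rw [← Nat.succ_eq_add_one, ← hj]; exact hk
    exact this
  intro hbot
  apply hjne
  rw [eq_bot_iff, ← hbot]
  exact le_inf (iterComm_le N j) hjc

/-- In a nilpotent group a maximal normal abelian subgroup is self-centralizing. -/
theorem centralizer_eq_of_max_normal_abelian [hG : Group.IsNilpotent G]
    (N : Subgroup G) [hNn : N.Normal] [hNc : IsMulCommutative N]
    (hmax : ∀ M : Subgroup G, M.Normal → IsMulCommutative M → N ≤ M → M = N) :
    Subgroup.centralizer (N : Set G) = N := by
  have hNC : N ≤ Subgroup.centralizer (N : Set G) := Subgroup.le_centralizer N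
  by_contra hne
  have hlt : N < Subgroup.centralizer (N : Set G) := lt_of_le_of_ne hNC (Ne.symm hne)
  set C := Subgroup.centralizer (N : Set G) with hC
  have hCn : C.Normal := Subgroup.normal_centralizer
  set π := QuotientGroup.mk' N with hπ
  have hπs : Function.Surjective π := QuotientGroup.mk'_surjective N
  have hCπn : (C.map π).Normal := Subgroup.Normal.map hCn π hπs
  have hCπne : C.map π ≠ ⊥ := by
    intro h
    rw [Subgroup.map_eq_bot_iff, hπ, QuotientGroup.ker_mk'] at h
    exact hlt.not_ge h
  have hnil : Group.IsNilpotent (G ⧸ N) := inferInstance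
  have hne2 := normal_inf_center_ne_bot (C.map π) hCπne
  obtain ⟨⟨x', hx'⟩, hx'1'⟩ := (Subgroup.ne_bot_iff_exists_ne_one).mp hne2
  have hx'1 : x' ≠ 1 := fun h => hx'1' (Subtype.ext h)
  obtain ⟨⟨x, hxC, hx⟩, hx'Z⟩ := hx'
  -- the subgroup `M = N ⊔ ⟨x⟩`
  let M := (Subgroup.zpowers x').comap π
  have hMn : M.Normal := by
    have : (Subgroup.zpowers x').Normal := by
      constructor
      intro n hn g
      have hcomm : g * n = n * g := by
        obtain ⟨k, rfl⟩ := Subgroup.mem_zpowers_iff.mp hn
        have h1 : g * x' = x' * g := (Subgroup.mem_center_iff.mp hx'Z g)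
        exact ((Commute.zpow_right (show Commute g x' from h1)) k).eq
      rw [hcomm, mul_inv_cancel_right]
      exact hn
    exact Subgroup.Normal.comap this π
  have hNM : N ≤ M := by
    intro n hn
    show π n ∈ Subgroup.zpowers x'
    have : π n = 1 := by rw [hπ]; exact (QuotientGroup.eq_one_iff n).mpr hn
    rw [this]; exact Subgroup.one_mem _
  have hxM : x ∈ M := by
    show π x ∈ Subgroup.zpowers x'
    rw [hx]; exact Subgroup.mem_zpowers x'
  have hxN : x ∉ N := by
    intro h
    apply hx'1
    rw [← hx, hπ]
    exact (QuotientGroup.eq_one_iff x).mpr h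
  have hMeq : M = N ⊔ Subgroup.zpowers x := by
    have h1 : M = (Subgroup.map π (Subgroup.zpowers x)).comap π := by
      show (Subgroup.zpowers x').comap π = _
      rw [MonoidHom.map_zpowers, hx]
    rw [h1, Subgroup.comap_map_eq, hπ, QuotientGroup.ker_mk', sup_comm]
  have hMc : IsMulCommutative M := by
    rw [hMeq, Subgroup.sup_eq_closure]
    apply Subgroup.isMulCommutative_closure
    have hcx : ∀ a ∈ N, Commute a x := fun a ha => hxC a ha
    rintro a (ha | ha) b (hb | hb)
    · exact (hNC ha b hb).symm
    · obtain ⟨k, rfl⟩ := Subgroup.mem_zpowers_iff.mp hb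
      exact ((hcx a ha).zpow_right k).eq
    · obtain ⟨k, rfl⟩ := Subgroup.mem_zpowers_iff.mp ha
      exact ((hcx b hb).zpow_right k).eq.symm
    · obtain ⟨k, rfl⟩ := Subgroup.mem_zpowers_iff.mp ha
      obtain ⟨l, rfl⟩ := Subgroup.mem_zpowers_iff.mp hb
      exact (((Commute.refl x).zpow_right l).zpow_left k).eq
  have := hmax M hMn hMc hNM
  exact hxN (this ▸ hxM)

/-- A group of order `p ^ m` has class at most `max (m - 1) 1`. -/
theorem nilpotencyClass_le_of_card_eq_prime_pow {p : ℕ} [hp : Fact p.Prime] :
    ∀ (m : ℕ) (G : Type*) [Group G] [Finite G], Nat.card G = p ^ m →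
      Group.nilpotencyClass G ≤ max (m - 1) 1 := by
  intro m
  induction m using Nat.strong_induction_on with
  | _ m ih =>
    intro G _ _ hG
    by_cases hcomm : IsMulCommutative G
    · have : Group.IsNilpotent G := (IsPGroup.of_card hG).isNilpotent
      exact (Group.IsNilpotent.nilpotencyClass_le_one_iff.mpr hcomm).trans (le_max_right _ _)
    · have hpG : IsPGroup p G := IsPGroup.of_card hG
      obtain ⟨k, hk⟩ := IsPGroup.iff_card.mp (hpG.to_subgroup (Subgroup.center G))
      have hquot : Nat.card (G ⧸ Subgroup.center G) * p ^ k = p ^ m := by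
        rw [← hk, ← hG]
        exact (Subgroup.card_eq_card_quotient_mul_card_subgroup (Subgroup.center G)).symm
      have hkm : k ≤ m := by
        have hdvd : p ^ k ∣ p ^ m := by rw [← hk, ← hG]; exact Subgroup.card_subgroup_dvd_card _
        exact (Nat.pow_dvd_pow_iff_le_right hp.out.one_lt).mp hdvd
      have hq : Nat.card (G ⧸ Subgroup.center G) = p ^ (m - k) := by
        have : p ^ m = p ^ (m - k) * p ^ k := by rw [← pow_add]; congr 1; omega
        rw [this] at hquot
        exact Nat.eq_of_mul_eq_mul_right (pow_pos hp.out.pos k) hquot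
      have hk1 : 1 ≤ k := by
        by_contra h
        have hk0 : k = 0 := by omega
        rw [hk0, pow_zero] at hk
        have hbot : Subgroup.center G = ⊥ := Subgroup.card_eq_one.mp hk
        have hnt : Nontrivial G := by
          by_contra hnt
          rw [not_nontrivial_iff_subsingleton] at hnt
          exact hcomm ⟨⟨fun a b => Subsingleton.elim _ _⟩⟩
        exact (hpG.bot_lt_center).ne' hbot
      have hmk2 : 2 ≤ m - k := by
        by_contra h
        have hle : m - k ≤ 1 := by omega
        have hcyc : IsCyclic (G ⧸ Subgroup.center G) := by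
          rcases Nat.le_one_iff_eq_zero_or_eq_one.mp hle with h0 | h1
          · rw [h0, pow_zero] at hq
            have : Subsingleton (G ⧸ Subgroup.center G) := (Nat.card_eq_one_iff_unique.mp hq).1
            exact isCyclic_of_subsingleton
          · rw [h1, pow_one] at hq
            exact isCyclic_of_prime_card hq
        exact hcomm (MonoidHom.isMulCommutative_of_isCyclic_of_ker_le_center
          (QuotientGroup.mk' (Subgroup.center G)) (by rw [QuotientGroup.ker_mk']))
      have hih := ih (m - k) (by omega) (G ⧸ Subgroup.center G) hq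
      rw [Group.nilpotencyClass_quotient_center] at hih
      have hmax : max (m - k - 1) 1 = m - k - 1 := max_eq_left (by omega)
      rw [hmax] at hih
      have : Group.nilpotencyClass G ≤ m - 1 := by omega
      exact this.trans (le_max_left _ _)

/-- A finite group is nilpotent iff all its subgroups are subnormal. -/
theorem isNilpotent_iff_forall_isSubnormal [Finite G] :
    Group.IsNilpotent G ↔ ∀ H : Subgroup G, H.IsSubnormal := by
  constructor
  · intro hnil
    have hnc : NormalizerCondition G := Group.normalizerCondition_of_isNilpotent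
    intro H
    induction H using WellFoundedGT.induction with
    | _ H ih =>
      by_cases hH : H = ⊤
      · rw [hH]; exact Subgroup.IsSubnormal.top
      · have hlt : H < Subgroup.normalizer (H : Set G) := hnc H (lt_top_iff_ne_top.mpr hH)
        exact Subgroup.IsSubnormal.step H _ Subgroup.le_normalizer (ih _ hlt)
          Subgroup.normal_in_normalizer
  · intro h
    apply (Group.isNilpotent_of_finite_tfae.out 0 2 rfl rfl).mpr
    intro M hM
    obtain ⟨K, hKn, hMK, hKtop⟩ := (h M).exists_normal_and_le_and_lt_top_of_ne hM.1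
    have : M = K := by
      by_contra hne
      exact hKtop.ne (hM.2 K (lt_of_le_of_ne hMK hne))
    rw [this]; exact hKn

end Cfsg.Agent.Lib.H1
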