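import Mathlib
import Cfsg.Agent.Lib.H1.PCore
import Cfsg.Agent.Lib.H1.Complement
import Cfsg.Agent.Lib.H1.CoprimeSylow
import Cfsg.Agent.Lib.H1.SchurZassenhaus
import Cfsg.Agent.Lib.H1.SolvableBasic
import Cfsg.Agent.Lib.H1.NilpotentBasic
import Cfsg.Agent.Lib.H1.QuotientBasic
import Cfsg.Agent.Lib.H1.IndexBasic

/-! Carter subgroups of finite solvable groups: existence and conjugacy (helper1). -/

set_option autoImplicit false
open Pointwise

namespace Cfsg.Agent.Lib.H1

universe u

variable {G : Type u} [Group G]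

/-- `C` is a Carter subgroup of the subgroup `K`. -/
def IsCarterIn (K C : Subgroup G) : Prop :=
  C ≤ K ∧ Group.IsNilpotent C ∧ Subgroup.normalizer (C : Set G) ⊓ K = C

theorem isCarterIn_top_iff {C : Subgroup G} :
    IsCarterIn ⊤ C ↔ Group.IsNilpotent C ∧ Subgroup.normalizer (C : Set G) = C := by
  unfold IsCarterIn
  rw [inf_top_eq]
  exact ⟨fun h => ⟨h.2.1, h.2.2⟩, fun h => ⟨le_top, h.1, h.2⟩⟩

theorem normalizer_conj_smul (C : Subgroup G) (g : G) :
    Subgroup.normalizer ((MulAut.conj g • C : Subgroup G) : Set G) =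
      MulAut.conj g • Subgroup.normalizer (C : Set G) := by
  ext x
  rw [mem_conj_smul_iff, Subgroup.mem_normalizer_iff, Subgroup.mem_normalizer_iff]
  constructor
  · intro h y
    have := h (g * y * g⁻¹)
    rw [mem_conj_smul_iff, mem_conj_smul_iff] at this
    have e1 : g⁻¹ * (g * y * g⁻¹) * g = y := by group
    have e2 : g⁻¹ * (x * (g * y * g⁻¹) * x⁻¹) * g = g⁻¹ * x * g * y * (g⁻¹ * x * g)⁻¹ := by group
    rw [e1, e2] at this
    exact this
  · intro h y
    rw [mem_conj_smul_iff, mem_conj_smul_iff]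
    have := h (g⁻¹ * y * g)
    have e2 : g⁻¹ * (x * y * x⁻¹) * g = g⁻¹ * x * g * (g⁻¹ * y * g) * (g⁻¹ * x * g)⁻¹ := by group
    rw [e2]
    exact this

theorem conj_smul_eq_of_mem_normalizer {K : Subgroup G} {g : G}
    (hg : g ∈ Subgroup.normalizer (K : Set G)) : MulAut.conj g • K = K :=
  conj_smul_eq_self_iff_mem_normalizer.mpr hg

theorem IsCarterIn.conj {K C : Subgroup G} (h : IsCarterIn K C) {g : G}
    (hg : g ∈ Subgroup.normalizer (K : Set G)) : IsCarterIn K (MulAut.conj g • C) := by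
  obtain ⟨hCK, hnil, hnorm⟩ := h
  have hK : MulAut.conj g • K = K := conj_smul_eq_of_mem_normalizer hg
  refine ⟨?_, ?_, ?_⟩
  · rw [← hK]
    exact Subgroup.pointwise_smul_le_pointwise_smul_iff.mpr hCK
  · exact Group.nilpotent_of_mulEquiv (Subgroup.equivSMul (MulAut.conj g) C)
  · rw [normalizer_conj_smul]
    nth_rewrite 1 [← hK]
    rw [← Subgroup.smul_inf, hnorm]

/-- the statement of Carter's theorem for a group -/
def CarterProp (H : Type u) [Group H] : Prop :=
  (∃ C : Subgroup H, Group.IsNilpotent C ∧ Subgroup.normalizer (C : Set H) = C) ∧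
    ∀ C D : Subgroup H, Group.IsNilpotent C → Subgroup.normalizer (C : Set H) = C →
      Group.IsNilpotent D → Subgroup.normalizer (D : Set H) = D → ∃ g : H, MulAut.conj g • C = D

theorem isCarterIn_iff_subgroupOf {K C : Subgroup G} (hCK : C ≤ K) :
    IsCarterIn K C ↔ Group.IsNilpotent (C.subgroupOf K) ∧
      Subgroup.normalizer ((C.subgroupOf K : Subgroup K) : Set K) = C.subgroupOf K := by
  have e : C.subgroupOf K ≃* C := Subgroup.subgroupOfEquivOfLe hCK
  have hn : Subgroup.normalizer ((C.subgroupOf K : Subgroup K) : Set K) =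
      (Subgroup.normalizer (C : Set G)).subgroupOf K := (Subgroup.subgroupOf_normalizer_eq hCK).symm
  rw [hn]
  constructor
  · rintro ⟨-, hnil, hnorm⟩
    refine ⟨Group.nilpotent_of_mulEquiv e.symm, ?_⟩
    rw [← Subgroup.inf_subgroupOf_right, hnorm]
  · rintro ⟨hnil, hnorm⟩
    refine ⟨hCK, Group.nilpotent_of_mulEquiv e, ?_⟩
    have h1 := congrArg (Subgroup.map K.subtype) hnorm
    rw [Subgroup.subgroupOf_map_subtype, Subgroup.subgroupOf_map_subtype,
      inf_eq_left.mpr hCK] at h1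
    exact h1

theorem carterProp_subgroup (K : Subgroup G) (h : CarterProp K) :
    (∃ C, IsCarterIn K C) ∧
      ∀ C D, IsCarterIn K C → IsCarterIn K D → ∃ g ∈ K, MulAut.conj g • C = D := by
  obtain ⟨⟨C', hC'nil, hC'norm⟩, hconj⟩ := h
  constructor
  · refine ⟨C'.map K.subtype, ?_⟩
    have hle : C'.map K.subtype ≤ K := Subgroup.map_subtype_le C'
    rw [isCarterIn_iff_subgroupOf hle]
    have e : (C'.map K.subtype).subgroupOf K = C' :=
      Subgroup.comap_map_eq_self_of_injective K.subtype_injective C'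
    rw [e]
    exact ⟨hC'nil, hC'norm⟩
  · intro C D hC hD
    have hC' := (isCarterIn_iff_subgroupOf hC.1).mp hC
    have hD' := (isCarterIn_iff_subgroupOf hD.1).mp hD
    obtain ⟨k, hk⟩ := hconj _ _ hC'.1 hC'.2 hD'.1 hD'.2
    refine ⟨(k : G), k.2, ?_⟩
    ext x
    rw [mem_conj_smul_iff]
    constructor
    · intro hx
      have hxK : x ∈ K := by
        have h1 : (k : G)⁻¹ * x * (k : G) ∈ K := hC.1 hx
        have : x = (k : G) * ((k : G)⁻¹ * x * (k : G)) * (k : G)⁻¹ := by group
        rw [this]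
        exact K.mul_mem (K.mul_mem k.2 h1) (K.inv_mem k.2)
      have h2 : (⟨x, hxK⟩ : K) ∈ MulAut.conj k • C.subgroupOf K := by
        rw [mem_conj_smul_iff, Subgroup.mem_subgroupOf]
        exact hx
      rw [hk, Subgroup.mem_subgroupOf] at h2
      exact h2
    · intro hx
      have hxK : x ∈ K := hD.1 hx
      have h2 : (⟨x, hxK⟩ : K) ∈ D.subgroupOf K := by
        rw [Subgroup.mem_subgroupOf]; exact hx
      rw [← hk, mem_conj_smul_iff, Subgroup.mem_subgroupOf] at h2
      exact h2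

/-- Lemma A (internal form): `C N` is self-normalizing in `K`. -/
theorem carter_sup_self_normalizing {K C N : Subgroup G} (hC : IsCarterIn K C) (hNK : N ≤ K)
    (IHconj : ∀ L : Subgroup G, L ≤ K → L ≠ K → ∀ C D, IsCarterIn L C → IsCarterIn L D →
      ∃ g ∈ L, MulAut.conj g • C = D)
    {x : G} (hxK : x ∈ K) (hx : x ∈ Subgroup.normalizer ((C ⊔ N : Subgroup G) : Set G)) :
    x ∈ C ⊔ N := by
  set L := C ⊔ N with hL
  have hLK : L ≤ K := sup_le hC.1 hNK
  by_cases hLeq : L = K
  · rw [hLeq]; exact hxK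
  · have hCL : IsCarterIn L C := by
      refine ⟨le_sup_left, hC.2.1, le_antisymm ?_ ?_⟩
      · exact (inf_le_inf_left _ hLK).trans hC.2.2.le
      · exact le_inf Subgroup.le_normalizer le_sup_left
    have hDL : IsCarterIn L (MulAut.conj x • C) := hCL.conj hx
    obtain ⟨l, hl, hlC⟩ := IHconj L hLK hLeq _ _ hCL hDL
    have h1 : MulAut.conj (l⁻¹ * x) • C = C := by
      rw [← conj_smul_conj_smul, ← hlC, conj_smul_conj_smul, inv_mul_cancel, map_one, one_smul]
    have h2 : l⁻¹ * x ∈ Subgroup.normalizer (C : Set G) := conj_smul_eq_self_iff_mem_normalizer.mp h1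
    have h3 : l⁻¹ * x ∈ K := K.mul_mem (K.inv_mem (hLK hl)) hxK
    have h4 : l⁻¹ * x ∈ C := hC.2.2.le ⟨h2, h3⟩
    have : x = l * (l⁻¹ * x) := by group
    rw [this]
    exact L.mul_mem hl (le_sup_left (a := C) h4)

/-- a minimal abelian normal subgroup, chosen central if the centre is nontrivial -/
theorem exists_min_normal_abelian [Finite G] [Group.IsSolvable G] [Nontrivial G] :
    ∃ N : Subgroup G, N.Normal ∧ N ≠ ⊥ ∧ (∀ x ∈ N, ∀ y ∈ N, x * y = y * x) ∧
      (Subgroup.center G ≠ ⊥ → N ≤ Subgroup.center G) ∧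
      ∀ M : Subgroup G, M.Normal → M ≤ N → M = ⊥ ∨ M = N := by
  classical
  let P : Subgroup G → Prop := fun N => N.Normal ∧ N ≠ ⊥ ∧ (∀ x ∈ N, ∀ y ∈ N, x * y = y * x) ∧
      (Subgroup.center G ≠ ⊥ → N ≤ Subgroup.center G)
  have hex : ∃ N, P N := by
    by_cases hZ : Subgroup.center G = ⊥
    · obtain ⟨D, hDc, hDcomm, hDne⟩ := exists_characteristic_commutative_ne_bot_of_isSolvable (G := G)
      refine ⟨D, inferInstance, hDne, ?_, fun h => absurd hZ h⟩
      intro x hx y hy
      have := mul_comm' (⟨x, hx⟩ : D) ⟨y, hy⟩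
      exact congrArg Subtype.val this
    · refine ⟨Subgroup.center G, inferInstance, hZ, ?_, fun _ => le_rfl⟩
      intro x hx y _
      exact (Subgroup.mem_center_iff.mp hx y).symm
  obtain ⟨N, hPN, hmin⟩ := exists_minimalFor_of_wellFoundedLT P (fun N => Nat.card N) hex
  refine ⟨N, hPN.1, hPN.2.1, hPN.2.2.1, hPN.2.2.2, ?_⟩
  intro M hMn hMN
  by_cases hM : M = ⊥
  · exact Or.inl hM
  · right
    have hPM : P M := ⟨hMn, hM, fun x hx y hy => hPN.2.2.1 x (hMN hx) y (hMN hy),
      fun h => hMN.trans (hPN.2.2.2 h)⟩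
    have h1 : Nat.card N ≤ Nat.card M := hmin hPM (Subgroup.card_le_of_le hMN)
    exact Subgroup.eq_of_le_of_card_ge hMN h1

/-- if `H ⊔ N = ⊤` with `N` abelian normal then `H ⊓ N` is normal -/
theorem inf_normal_of_sup_eq_top {H N : Subgroup G} [hN : N.Normal]
    (hNab : ∀ x ∈ N, ∀ y ∈ N, x * y = y * x) (hsup : H ⊔ N = ⊤) : (H ⊓ N).Normal := by
  rw [← Subgroup.normalizer_eq_top_iff, eq_top_iff, ← hsup]
  apply sup_le
  · intro h hh
    rw [Subgroup.mem_normalizer_iff]
    intro x
    constructor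
    · rintro ⟨hx1, hx2⟩
      exact ⟨H.mul_mem (H.mul_mem hh hx1) (H.inv_mem hh), hN.conj_mem x hx2 h⟩
    · rintro ⟨hx1, hx2⟩
      constructor
      · have := H.mul_mem (H.mul_mem (H.inv_mem hh) hx1) hh
        simpa [mul_assoc] using this
      · have := hN.conj_mem _ hx2 h⁻¹
        simpa [mul_assoc] using this
  · intro n hn
    rw [Subgroup.mem_normalizer_iff]
    intro x
    constructor
    · rintro ⟨hx1, hx2⟩
      have : n * x * n⁻¹ = x := by rw [hNab n hn x hx2]; group
      rw [this]; exact ⟨hx1, hx2⟩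
    · rintro ⟨hx1, hx2⟩
      have hxN : x ∈ N := by
        have := hN.conj_mem _ hx2 n⁻¹
        simpa [mul_assoc] using this
      have : n * x * n⁻¹ = x := by rw [hNab n hn x hxN]; group
      rw [this] at hx1
      exact ⟨hx1, hxN⟩

/-- existence when `G/N` is nilpotent but `G` is not -/
theorem exists_carter_of_quotient_nilpotent [Finite G] {N : Subgroup G} [hN : N.Normal]
    (hNab : ∀ x ∈ N, ∀ y ∈ N, x * y = y * x)
    (hNmin : ∀ M : Subgroup G, M.Normal → M ≤ N → M = ⊥ ∨ M = N)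
    (hQ : Group.IsNilpotent (G ⧸ N)) (hG : ¬ Group.IsNilpotent G) :
    ∃ C : Subgroup G, Group.IsNilpotent C ∧ Subgroup.normalizer (C : Set G) = C := by
  have h13 := (Group.isNilpotent_of_finite_tfae (G := G)).out 0 2
  have hex : ∃ M : Subgroup G, IsCoatom M ∧ ¬ M.Normal := by
    by_contra hcon
    push Not at hcon
    exact hG (h13.mpr hcon)
  obtain ⟨M, hM, hMn⟩ := hex
  have hNM : ¬ N ≤ M := by
    intro hle
    have h1 := isCoatom_map_mk' hle hM
    have h13' := (Group.isNilpotent_of_finite_tfae (G := G ⧸ N)).out 0 2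
    have h2 : (M.map (QuotientGroup.mk' N)).Normal := h13'.mp hQ _ h1
    have h3 : ((M.map (QuotientGroup.mk' N)).comap (QuotientGroup.mk' N)).Normal := h2.comap _
    rw [comap_map_mk'_of_le hle] at h3
    exact hMn h3
  have hsup : M ⊔ N = ⊤ := by
    apply hM.2
    apply lt_of_le_of_ne le_sup_left
    intro h
    exact hNM (h ▸ le_sup_right)
  have hinfn : (M ⊓ N).Normal := inf_normal_of_sup_eq_top hNab hsup
  have hinf : M ⊓ N = ⊥ := by
    rcases hNmin _ hinfn inf_le_right with h | h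
    · exact h
    · exact absurd (h ▸ inf_le_left : N ≤ M) hNM
  refine ⟨M, ?_, ?_⟩
  · let f : M →* G ⧸ N := (QuotientGroup.mk' N).comp M.subtype
    apply Subgroup.isNilpotent_of_ker_le_center f
    intro x hx
    have h1 : (x : G) ∈ N := by
      have : (QuotientGroup.mk' N) (x : G) = 1 := hx
      exact (QuotientGroup.eq_one_iff _).mp this
    have h2 : (x : G) ∈ M ⊓ N := ⟨x.2, h1⟩
    rw [hinf, Subgroup.mem_bot] at h2
    have : x = 1 := Subtype.ext h2
    rw [this]
    exact Subgroup.one_mem _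
  · by_contra hne
    have hlt : M < Subgroup.normalizer (M : Set G) :=
      lt_of_le_of_ne Subgroup.le_normalizer (fun h => hne h.symm)
    have := hM.2 _ hlt
    exact hMn (Subgroup.normalizer_eq_top_iff.mp this)

/-- the image of a Carter subgroup in a quotient is a Carter subgroup (given conjugacy in proper
subgroups) -/
theorem carter_map_quotient {N C : Subgroup G} [hN : N.Normal] (hC : IsCarterIn ⊤ C)
    (IHconj : ∀ L : Subgroup G, L ≠ ⊤ → ∀ C D, IsCarterIn L C → IsCarterIn L D →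
      ∃ g ∈ L, MulAut.conj g • C = D) :
    Group.IsNilpotent (C.map (QuotientGroup.mk' N)) ∧
      Subgroup.normalizer ((C.map (QuotientGroup.mk' N) : Subgroup (G ⧸ N)) : Set (G ⧸ N)) =
        C.map (QuotientGroup.mk' N) := by
  constructor
  · haveI := hC.2.1
    exact Group.nilpotent_of_surjective ((QuotientGroup.mk' N).subgroupMap C)
      ((QuotientGroup.mk' N).subgroupMap_surjective C)
  · apply le_antisymm
    · intro y hy
      obtain ⟨x, rfl⟩ := QuotientGroup.mk'_surjective N y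
      have h1 : x ∈ (Subgroup.normalizer ((C.map (QuotientGroup.mk' N) : Subgroup (G ⧸ N)) :
          Set (G ⧸ N))).comap (QuotientGroup.mk' N) := Subgroup.mem_comap.mpr hy
      rw [Subgroup.comap_normalizer_eq_of_surjective _ (QuotientGroup.mk'_surjective N),
        comap_map_mk'] at h1
      have h2 := carter_sup_self_normalizing hC le_top
        (fun L _ hL => IHconj L hL) (Subgroup.mem_top x) h1
      have h3 : (QuotientGroup.mk' N) x ∈ (C ⊔ N).map (QuotientGroup.mk' N) :=
        Subgroup.mem_map_of_mem _ h2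
      rw [Subgroup.map_sup, QuotientGroup.map_mk'_self, sup_bot_eq] at h3
      exact h3
    · exact Subgroup.le_normalizer

/-- existence step -/
theorem exists_carter_step [Finite G] {N : Subgroup G} [hN : N.Normal]
    (hNab : ∀ x ∈ N, ∀ y ∈ N, x * y = y * x)
    (hNmin : ∀ M : Subgroup G, M.Normal → M ≤ N → M = ⊥ ∨ M = N)
    (hG : ¬ Group.IsNilpotent G)
    (IHsub : ∀ K : Subgroup G, K ≠ ⊤ → ((∃ C, IsCarterIn K C) ∧
      ∀ C D, IsCarterIn K C → IsCarterIn K D → ∃ g ∈ K, MulAut.conj g • C = D))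
    {X : Subgroup (G ⧸ N)} (hXnil : Group.IsNilpotent X)
    (hXnorm : Subgroup.normalizer (X : Set (G ⧸ N)) = X) :
    ∃ C : Subgroup G, Group.IsNilpotent C ∧ Subgroup.normalizer (C : Set G) = C := by
  set π := QuotientGroup.mk' N with hπ
  have hπs : Function.Surjective π := QuotientGroup.mk'_surjective N
  set K := X.comap π with hK
  have hNK : N ≤ K := by
    intro n hn
    rw [hK, Subgroup.mem_comap]
    have : π n = 1 := (QuotientGroup.eq_one_iff n).mpr hn
    rw [this]; exact X.one_mem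
  have hKnorm : Subgroup.normalizer (K : Set G) = K := by
    rw [hK, ← Subgroup.comap_normalizer_eq_of_surjective _ hπs, hXnorm]
  by_cases hKtop : K = ⊤
  · have hXtop : X = ⊤ := by
      rw [eq_top_iff]
      intro y _
      obtain ⟨x, rfl⟩ := hπs y
      have : x ∈ K := hKtop ▸ Subgroup.mem_top x
      exact this
    have hQ : Group.IsNilpotent (G ⧸ N) := by
      subst hXtop
      exact Group.nilpotent_of_mulEquiv (Subgroup.topEquiv : (⊤ : Subgroup (G ⧸ N)) ≃* G ⧸ N)
    exact exists_carter_of_quotient_nilpotent hNab hNmin hQ hG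
  · obtain ⟨⟨C, hC⟩, hconjK⟩ := IHsub K hKtop
    have hIH : ∀ L : Subgroup G, L ≤ K → L ≠ K → ∀ C D, IsCarterIn L C → IsCarterIn L D →
        ∃ g ∈ L, MulAut.conj g • C = D := by
      intro L hLK hLne
      have hLtop : L ≠ ⊤ := by
        intro h
        apply hKtop
        rw [eq_top_iff, ← h]; exact hLK
      exact (IHsub L hLtop).2
    have hCN : C ⊔ N = K := by
      by_contra hne
      have hle : C ⊔ N ≤ K := sup_le hC.1 hNK
      set Y := (C ⊔ N).map π with hY
      have hYX : Y ≤ X := by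
        rw [hY, Subgroup.map_le_iff_le_comap]; exact hle
      have hcomapY : Y.comap π = C ⊔ N := by
        rw [hY, comap_map_mk', sup_eq_left.mpr le_sup_right]
      have hY'ne : Y.subgroupOf X ≠ ⊤ := by
        intro h
        rw [Subgroup.subgroupOf_eq_top] at h
        apply hne
        apply le_antisymm hle
        rw [← hcomapY, hK]
        exact Subgroup.comap_mono h
      have hnc := (normalizerCondition_iff_only_full_group_self_normalizing (G := X)).mp
        Group.normalizerCondition_of_isNilpotent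
      have h1 : Subgroup.normalizer ((Y.subgroupOf X : Subgroup X) : Set X) ≠ Y.subgroupOf X :=
        fun h => hY'ne (hnc _ h)
      rw [← Subgroup.subgroupOf_normalizer_eq hYX] at h1
      have h2 : ¬ (Subgroup.normalizer (Y : Set (G ⧸ N))).subgroupOf X ≤ Y.subgroupOf X := by
        intro hle'
        apply h1
        apply le_antisymm hle'
        exact Subgroup.subgroupOf_mono X Subgroup.le_normalizer
      rw [SetLike.not_le_iff_exists] at h2
      obtain ⟨y, hy1, hy2⟩ := h2
      rw [Subgroup.mem_subgroupOf] at hy1 hy2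
      obtain ⟨x, hx⟩ := hπs (y : G ⧸ N)
      have hxK : x ∈ K := by
        rw [hK, Subgroup.mem_comap, hx]; exact y.2
      have hxn : x ∈ Subgroup.normalizer ((C ⊔ N : Subgroup G) : Set G) := by
        rw [← hcomapY, ← Subgroup.comap_normalizer_eq_of_surjective _ hπs, Subgroup.mem_comap, hx]
        exact hy1
      have h3 := carter_sup_self_normalizing hC hNK hIH hxK hxn
      apply hy2
      rw [← hx, hY]
      exact Subgroup.mem_map_of_mem _ h3
    refine ⟨C, hC.2.1, ?_⟩
    have h1 : Subgroup.normalizer (C : Set G) ≤ K := by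
      rw [← hKnorm, ← hCN]
      intro x hx
      rw [Subgroup.mem_normalizer_iff] at hx
      have hconj : MulAut.conj x • (C ⊔ N) = C ⊔ N := by
        rw [Subgroup.smul_sup]
        have e1 : MulAut.conj x • C = C := conj_smul_eq_self_iff_mem_normalizer.mpr
          (Subgroup.mem_normalizer_iff.mpr hx)
        have e2 : MulAut.conj x • N = N := conj_smul_eq_self_of_normal x
        rw [e1, e2]
      exact conj_smul_eq_self_iff_mem_normalizer.mp hconj
    have h2 := hC.2.2
    rw [inf_eq_left.mpr h1] at h2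
    exact h2

/-- conjugacy of two Carter subgroups complementing the minimal normal subgroup `N` -/
theorem carter_conj_complement [Finite G] [Nontrivial G] {N : Subgroup G} [hN : N.Normal]
    (hNne : N ≠ ⊥) (hNab : ∀ x ∈ N, ∀ y ∈ N, x * y = y * x)
    (hNcen : Subgroup.center G ≠ ⊥ → N ≤ Subgroup.center G)
    (hNmin : ∀ M : Subgroup G, M.Normal → M ≤ N → M = ⊥ ∨ M = N)
    (hG : ¬ Group.IsNilpotent G)
    {C D : Subgroup G} (hC : IsCarterIn ⊤ C) (hD : IsCarterIn ⊤ D)
    (hCN : C ⊔ N = ⊤) (hDN : D ⊔ N = ⊤) : ∃ g : G, MulAut.conj g • C = D := by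
  classical
  obtain ⟨hCnil, hCnorm⟩ := isCarterIn_top_iff.mp hC
  obtain ⟨hDnil, hDnorm⟩ := isCarterIn_top_iff.mp hD
  have hinf : ∀ E : Subgroup G, Group.IsNilpotent E → E ⊔ N = ⊤ → E ⊓ N = ⊥ := by
    intro E hEnil hEN
    have hn : (E ⊓ N).Normal := inf_normal_of_sup_eq_top hNab hEN
    rcases hNmin _ hn inf_le_right with h | h
    · exact h
    · exfalso
      have hNE : N ≤ E := h ▸ inf_le_left
      have hE : E = ⊤ := by rw [← hEN]; exact (sup_eq_left.mpr hNE).symm
      apply hG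
      subst hE
      exact Group.nilpotent_of_mulEquiv (Subgroup.topEquiv : (⊤ : Subgroup G) ≃* G)
  have hCinf := hinf C hCnil hCN
  have hDinf := hinf D hDnil hDN
  have hZ : Subgroup.center G = ⊥ := by
    by_contra hZ
    have hNZ := hNcen hZ
    have hNC : N ≤ C := by
      intro n hn
      rw [← hCnorm, Subgroup.mem_normalizer_iff]
      intro x
      have h1 : n * x * n⁻¹ = x := by
        have := Subgroup.mem_center_iff.mp (hNZ hn) x
        rw [← this]; group
      rw [h1]
    apply hNne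
    rw [eq_bot_iff, ← hCinf]
    exact le_inf hNC le_rfl
  have hCne : C ≠ ⊥ := by
    intro h
    have h1 : Subgroup.normalizer ((⊥ : Subgroup G) : Set G) = ⊤ :=
      Subgroup.normalizer_eq_top_iff.mpr inferInstance
    rw [h] at hCnorm
    rw [hCnorm] at h1
    obtain ⟨x, hx⟩ := exists_ne (1 : G)
    have : x ∈ (⊥ : Subgroup G) := h1 ▸ Subgroup.mem_top x
    exact hx (Subgroup.mem_bot.mp this)
  -- a nontrivial central element of `C`
  obtain ⟨z, hzC, hz1, hzc⟩ : ∃ z ∈ C, z ≠ 1 ∧ ∀ c ∈ C, c * z = z * c := by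
    haveI := hCnil
    haveI : Nontrivial C := (Subgroup.nontrivial_iff_ne_bot C).mpr hCne
    have h1 := normal_inf_center_ne_bot (⊤ : Subgroup C) top_ne_bot
    rw [top_inf_eq] at h1
    obtain ⟨z', hz'⟩ := (Subgroup.ne_bot_iff_exists_ne_one).mp h1
    refine ⟨((z' : C) : G), (z' : C).2, ?_, ?_⟩
    · intro h
      apply hz'
      apply Subtype.ext
      apply Subtype.ext
      exact h
    · intro c hc
      have := Subgroup.mem_center_iff.mp z'.2 ⟨c, hc⟩
      exact congrArg Subtype.val this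
  -- `z` acts without fixed points on `N`
  set W : Subgroup G := N ⊓ Subgroup.centralizer ({z} : Set G) with hW
  have hmemW : ∀ x, x ∈ W ↔ x ∈ N ∧ z * x = x * z := by
    intro x
    rw [hW, Subgroup.mem_inf, Subgroup.mem_centralizer_iff]
    simp only [Set.mem_singleton_iff, forall_eq]
  have hWC : ∀ c ∈ C, ∀ x ∈ W, c * x * c⁻¹ ∈ W := by
    intro c hc x hx
    rw [hmemW] at hx ⊢
    refine ⟨hN.conj_mem x hx.1 c, ?_⟩
    have h1 := hzc c hc
    have h2 : c⁻¹ * z = z * c⁻¹ := by
      have : c⁻¹ * (c * z) * c⁻¹ = c⁻¹ * (z * c) * c⁻¹ := by rw [h1]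
      simpa [mul_assoc] using this.symm
    calc z * (c * x * c⁻¹) = (z * c) * x * c⁻¹ := by group
      _ = (c * z) * x * c⁻¹ := by rw [h1]
      _ = c * (z * x) * c⁻¹ := by group
      _ = c * (x * z) * c⁻¹ := by rw [hx.2]
      _ = c * x * (z * c⁻¹) := by group
      _ = c * x * (c⁻¹ * z) := by rw [h2]
      _ = c * x * c⁻¹ * z := by group
  have hWn : W.Normal := by
    rw [← Subgroup.normalizer_eq_top_iff, eq_top_iff, ← hCN]
    apply sup_le
    · intro c hc
      rw [Subgroup.mem_normalizer_iff]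
      intro x
      refine ⟨hWC c hc x, fun h => ?_⟩
      have := hWC c⁻¹ (C.inv_mem hc) _ h
      simpa [mul_assoc] using this
    · intro n hn
      rw [Subgroup.mem_normalizer_iff]
      intro x
      constructor
      · intro hx
        have : n * x * n⁻¹ = x := by rw [hNab n hn x ((hmemW x).mp hx).1]; group
        rw [this]; exact hx
      · intro hx
        have hxN : x ∈ N := by
          have := hN.conj_mem _ ((hmemW _).mp hx).1 n⁻¹
          simpa [mul_assoc] using this
        have : n * x * n⁻¹ = x := by rw [hNab n hn x hxN]; group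
        rw [this] at hx
        exact hx
  have hWbot : W = ⊥ := by
    rcases hNmin W hWn inf_le_left with h | h
    · exact h
    · exfalso
      apply hz1
      have hzcen : z ∈ Subgroup.center G := by
        rw [Subgroup.mem_center_iff]
        intro g
        have hg : g ∈ C ⊔ N := hCN ▸ Subgroup.mem_top g
        rw [Subgroup.mem_sup_of_normal_right] at hg
        obtain ⟨c, hc, m, hm, rfl⟩ := hg
        have hmW : m ∈ W := h ▸ hm
        have h2 := ((hmemW m).mp hmW).2
        calc c * m * z = c * (m * z) := by group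
          _ = c * (z * m) := by rw [h2]
          _ = (c * z) * m := by group
          _ = (z * c) * m := by rw [hzc c hc]
          _ = z * (c * m) := by group
      rw [hZ, Subgroup.mem_bot] at hzcen
      exact hzcen
  have hfix : ∀ m ∈ N, z * m = m * z → m = 1 := by
    intro m hm hmz
    have : m ∈ W := (hmemW m).mpr ⟨hm, hmz⟩
    rw [hWbot, Subgroup.mem_bot] at this
    exact this
  -- the element of `D` corresponding to `z`
  obtain ⟨z₂, hz₂D, m', hm', hz₂⟩ : ∃ z₂ ∈ D, ∃ m' ∈ N, z₂ = z * m' := by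
    have hz : z ∈ D ⊔ N := hDN ▸ Subgroup.mem_top z
    rw [Subgroup.mem_sup_of_normal_right] at hz
    obtain ⟨d, hd, n', hn', hdn⟩ := hz
    refine ⟨d, hd, n'⁻¹, N.inv_mem hn', ?_⟩
    rw [← hdn]; group
  -- surjectivity of `n ↦ n z n⁻¹ z⁻¹`
  let f : N → N := fun n => ⟨(n : G) * z * (n : G)⁻¹ * z⁻¹, by
    have h1 : z * (n : G)⁻¹ * z⁻¹ ∈ N := hN.conj_mem _ (N.inv_mem n.2) z
    have : (n : G) * z * (n : G)⁻¹ * z⁻¹ = (n : G) * (z * (n : G)⁻¹ * z⁻¹) := by group
    rw [this]
    exact N.mul_mem n.2 h1⟩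
  have hfinj : Function.Injective f := by
    intro a b hab
    have h1 : (a : G) * z * (a : G)⁻¹ * z⁻¹ = (b : G) * z * (b : G)⁻¹ * z⁻¹ :=
      congrArg Subtype.val hab
    have h2 : (a : G) * z * (a : G)⁻¹ = (b : G) * z * (b : G)⁻¹ := mul_right_cancel h1
    have h3 : z * ((b : G)⁻¹ * (a : G)) = ((b : G)⁻¹ * (a : G)) * z := by
      calc z * ((b : G)⁻¹ * (a : G)) = (b : G)⁻¹ * ((b : G) * z * (b : G)⁻¹) * (a : G) := by group
        _ = (b : G)⁻¹ * ((a : G) * z * (a : G)⁻¹) * (a : G) := by rw [h2]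
        _ = ((b : G)⁻¹ * (a : G)) * z := by group
    have h4 := hfix _ (N.mul_mem (N.inv_mem b.2) a.2) h3
    apply Subtype.ext
    rw [inv_mul_eq_one] at h4
    exact h4.symm
  have hfsurj : Function.Surjective f := Finite.injective_iff_surjective.mp hfinj
  have htarget : z₂ * z⁻¹ ∈ N := by
    rw [hz₂]
    exact hN.conj_mem m' hm' z
  obtain ⟨n, hn⟩ := hfsurj ⟨z₂ * z⁻¹, htarget⟩
  have hnz : (n : G) * z * (n : G)⁻¹ = z₂ := by
    have h1 : (n : G) * z * (n : G)⁻¹ * z⁻¹ = z₂ * z⁻¹ := congrArg Subtype.val hn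
    exact mul_right_cancel h1
  -- `z` is central modulo `N`
  have hcentral : ∀ g : G, g⁻¹ * z⁻¹ * g * z ∈ N := by
    intro g
    have hg : g ∈ C ⊔ N := hCN ▸ Subgroup.mem_top g
    rw [Subgroup.mem_sup_of_normal_right] at hg
    obtain ⟨c, hc, m, hm, rfl⟩ := hg
    have h1 : c⁻¹ * z⁻¹ * c = z⁻¹ := by
      have := hzc c hc
      have h2 : z⁻¹ * c = c * z⁻¹ := by
        have : z⁻¹ * (c * z) * z⁻¹ = z⁻¹ * (z * c) * z⁻¹ := by rw [this]
        simpa [mul_assoc] using this
      rw [mul_assoc, h2]; group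
    have h2 : (c * m)⁻¹ * z⁻¹ * (c * m) * z = m⁻¹ * (c⁻¹ * z⁻¹ * c) * m * z := by group
    rw [h2, h1]
    have h3 : z⁻¹ * m * z ∈ N := by
      have := hN.conj_mem m hm z⁻¹
      simpa using this
    have h4 : m⁻¹ * z⁻¹ * m * z = m⁻¹ * (z⁻¹ * m * z) := by group
    rw [h4]
    exact N.mul_mem (N.inv_mem hm) h3
  have hz₂c : ∀ d ∈ D, d * z₂ = z₂ * d := by
    intro d hd
    have hw : d⁻¹ * z₂⁻¹ * d * z₂ ∈ D ⊓ N := by
      constructor
      · exact D.mul_mem (D.mul_mem (D.mul_mem (D.inv_mem hd) (D.inv_mem hz₂D)) hd) hz₂D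
      · rw [hz₂]
        have e : d⁻¹ * (z * m')⁻¹ * d * (z * m') =
            (d⁻¹ * m'⁻¹ * d) * (d⁻¹ * z⁻¹ * d * z) * m' := by group
        rw [e]
        have h1 : d⁻¹ * m'⁻¹ * d ∈ N := by
          have := hN.conj_mem _ (N.inv_mem hm') d⁻¹
          simpa using this
        exact N.mul_mem (N.mul_mem h1 (hcentral d)) hm'
    rw [hDinf, Subgroup.mem_bot] at hw
    have : d * z₂ = z₂ * d * (d⁻¹ * z₂⁻¹ * d * z₂) := by group
    rw [this, hw, mul_one]
  have hDle : D ≤ MulAut.conj (n : G) • C := by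
    intro d hd
    rw [mem_conj_smul_iff]
    set y := (n : G)⁻¹ * d * (n : G) with hy
    have hyz : z * y = y * z := by
      have h1 := hz₂c d hd
      rw [← hnz] at h1
      calc z * y = (n : G)⁻¹ * (((n : G) * z * (n : G)⁻¹) * d) * (n : G) := by rw [hy]; group
        _ = (n : G)⁻¹ * (d * ((n : G) * z * (n : G)⁻¹)) * (n : G) := by rw [h1]
        _ = y * z := by rw [hy]; group
    have hyCN : y ∈ C ⊔ N := hCN ▸ Subgroup.mem_top y
    rw [Subgroup.mem_sup_of_normal_right] at hyCN
    obtain ⟨c, hc, m, hm, hcm⟩ := hyCN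
    have hmz : z * m = m * z := by
      have hm' : m = c⁻¹ * y := by rw [← hcm]; group
      have h1 := hzc c hc
      have h2 : z * c⁻¹ = c⁻¹ * z := by
        have : c⁻¹ * (c * z) * c⁻¹ = c⁻¹ * (z * c) * c⁻¹ := by rw [h1]
        simpa [mul_assoc] using this
      rw [hm']
      calc z * (c⁻¹ * y) = (z * c⁻¹) * y := by group
        _ = (c⁻¹ * z) * y := by rw [h2]
        _ = c⁻¹ * (z * y) := by group
        _ = c⁻¹ * (y * z) := by rw [hyz]
        _ = c⁻¹ * y * z := by group
    have hm1 := hfix m hm hmz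
    rw [hm1, mul_one] at hcm
    rw [← hcm]
    exact hc
  have hcardC : Nat.card G = Nat.card C * Nat.card N := by
    have := card_sup_mul_card_inf C N
    rw [hCN, inf_comm, hCinf, Subgroup.card_top, Subgroup.card_bot, mul_one] at this
    exact this
  have hcardD : Nat.card G = Nat.card D * Nat.card N := by
    have := card_sup_mul_card_inf D N
    rw [hDN, inf_comm, hDinf, Subgroup.card_top, Subgroup.card_bot, mul_one] at this
    exact this
  have hcard : Nat.card C = Nat.card D := by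
    have hNpos : 0 < Nat.card N := Nat.card_pos
    exact Nat.eq_of_mul_eq_mul_right hNpos (hcardC.symm.trans hcardD)
  refine ⟨(n : G), ?_⟩
  symm
  apply Subgroup.eq_of_le_of_card_ge hDle
  rw [card_conj_smul, hcard]

/-- conjugacy step -/
theorem carter_conj_step [Finite G] [Nontrivial G] {N : Subgroup G} [hN : N.Normal]
    (hNne : N ≠ ⊥) (hNab : ∀ x ∈ N, ∀ y ∈ N, x * y = y * x)
    (hNcen : Subgroup.center G ≠ ⊥ → N ≤ Subgroup.center G)
    (hNmin : ∀ M : Subgroup G, M.Normal → M ≤ N → M = ⊥ ∨ M = N)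
    (hG : ¬ Group.IsNilpotent G)
    (IHsub : ∀ K : Subgroup G, K ≠ ⊤ → ((∃ C, IsCarterIn K C) ∧
      ∀ C D, IsCarterIn K C → IsCarterIn K D → ∃ g ∈ K, MulAut.conj g • C = D))
    (IHquot : CarterProp (G ⧸ N))
    {C D : Subgroup G} (hC : IsCarterIn ⊤ C) (hD : IsCarterIn ⊤ D) :
    ∃ g : G, MulAut.conj g • C = D := by
  set π := QuotientGroup.mk' N with hπ
  have hπs : Function.Surjective π := QuotientGroup.mk'_surjective N
  have IHconj : ∀ L : Subgroup G, L ≠ ⊤ → ∀ C D, IsCarterIn L C → IsCarterIn L D →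
      ∃ g ∈ L, MulAut.conj g • C = D := fun L hL => (IHsub L hL).2
  obtain ⟨hC1, hC2⟩ := carter_map_quotient (N := N) hC IHconj
  obtain ⟨hD1, hD2⟩ := carter_map_quotient (N := N) hD IHconj
  obtain ⟨y, hy⟩ := IHquot.2 _ _ hC1 hC2 hD1 hD2
  obtain ⟨g, rfl⟩ := hπs y
  set C₁ := MulAut.conj g • C with hC₁
  have hC₁car : IsCarterIn ⊤ C₁ := hC.conj (by
    rw [Subgroup.normalizer_eq_top_iff.mpr inferInstance]; exact Subgroup.mem_top g)
  have hmap : C₁.map π = D.map π := by
    rw [hC₁, map_conj_smul]; exact hy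
  have hsup : C₁ ⊔ N = D ⊔ N := by
    rw [← comap_map_mk' N C₁, ← comap_map_mk' N D]
    exact congrArg (Subgroup.comap (QuotientGroup.mk' N)) hmap
  obtain ⟨hC₁nil, hC₁norm⟩ := isCarterIn_top_iff.mp hC₁car
  obtain ⟨hDnil, hDnorm⟩ := isCarterIn_top_iff.mp hD
  by_cases hK : C₁ ⊔ N = ⊤
  · obtain ⟨n, hn⟩ := carter_conj_complement hNne hNab hNcen hNmin hG hC₁car hD hK (hsup ▸ hK)
    refine ⟨n * g, ?_⟩
    rw [← conj_smul_conj_smul]; exact hn
  · have hC₁K : IsCarterIn (C₁ ⊔ N) C₁ := by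
      refine ⟨le_sup_left, hC₁nil, ?_⟩
      rw [hC₁norm]; exact inf_eq_left.mpr le_sup_left
    have hDK : IsCarterIn (C₁ ⊔ N) D := by
      refine ⟨hsup ▸ le_sup_left, hDnil, ?_⟩
      rw [hDnorm]; exact inf_eq_left.mpr (hsup ▸ le_sup_left)
    obtain ⟨k, -, hk⟩ := (IHsub _ hK).2 _ _ hC₁K hDK
    refine ⟨k * g, ?_⟩
    rw [← conj_smul_conj_smul]; exact hk

/-- **Carter subgroups**: existence and conjugacy in finite solvable groups. -/
theorem carterProp_of_solvable : ∀ n : ℕ, ∀ (G : Type u) [Group G] [Finite G]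
    [Group.IsSolvable G], Nat.card G = n → CarterProp G := by
  intro n
  induction n using Nat.strong_induction_on with
  | _ n IH =>
  intro G _ _ _ hn
  have IHsub : ∀ K : Subgroup G, K ≠ ⊤ → ((∃ C, IsCarterIn K C) ∧
      ∀ C D, IsCarterIn K C → IsCarterIn K D → ∃ g ∈ K, MulAut.conj g • C = D) :=
    fun K hK => carterProp_subgroup K (IH _ (hn ▸ card_lt_of_ne_top hK) K rfl)
  by_cases hnil : Group.IsNilpotent G
  · have hnc := (normalizerCondition_iff_only_full_group_self_normalizing (G := G)).mp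
      Group.normalizerCondition_of_isNilpotent
    refine ⟨⟨⊤, ?_, Subgroup.normalizer_eq_top_iff.mpr inferInstance⟩, ?_⟩
    · exact Group.nilpotent_of_mulEquiv (Subgroup.topEquiv : (⊤ : Subgroup G) ≃* G).symm
    · intro C D _ hC _ hD
      refine ⟨1, ?_⟩
      rw [map_one, one_smul, hnc C hC, hnc D hD]
  · haveI : Nontrivial G := by
      by_contra h
      rw [not_nontrivial_iff_subsingleton] at h
      exact hnil inferInstance
    obtain ⟨N, hNn, hNne, hNab, hNcen, hNmin⟩ := exists_min_normal_abelian (G := G)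
    haveI := hNn
    have IHquot : CarterProp (G ⧸ N) := IH _ (hn ▸ card_quotient_lt hNne) (G ⧸ N) rfl
    constructor
    · obtain ⟨X, hX1, hX2⟩ := IHquot.1
      exact exists_carter_step hNab hNmin hnil IHsub hX1 hX2
    · intro C D hC1 hC2 hD1 hD2
      exact carter_conj_step hNne hNab hNcen hNmin hnil IHsub IHquot
        (isCarterIn_top_iff.mpr ⟨hC1, hC2⟩) (isCarterIn_top_iff.mpr ⟨hD1, hD2⟩)

end Cfsg.Agent.Lib.H1
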