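import Mathlib
import Cfsg.Agent.Lib.H14.Qd
import Cfsg.Agent.Lib.H26.Involves

/-!
# Recognising `Qd(p)` as a section (helper1)

`involves_qd_of_data`: a subgroup `V₀` with coordinates onto `𝔽_p²` normalized by a subgroup `M` mapping
onto `SL₂(p)` compatibly, with `V₀ ∩ M` killed by both maps, exhibits `Qd(p)` as a section.
`involves_of_hom_pair`: a group mapping to `X` and onto `H` compatibly exhibits `H` as a section of `X`.
-/

set_option autoImplicit false

namespace Cfsg.Agent.Lib.H1.QdRecog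

variable {R : Type*} [CommRing R]

/-- translation matrix in the affine group -/
def transl (x : Fin 2 → R) : Matrix.SpecialLinearGroup (Fin 3) R :=
  ⟨!![1, 0, x 0; 0, 1, x 1; 0, 0, 1], by simp [Matrix.det_fin_three]⟩

/-- the linear part in the affine group -/
def blk (A : Matrix.SpecialLinearGroup (Fin 2) R) : Matrix.SpecialLinearGroup (Fin 3) R :=
  ⟨!![A.1 0 0, A.1 0 1, 0; A.1 1 0, A.1 1 1, 0; 0, 0, 1], by
    have := A.det_coe
    rw [Matrix.det_fin_two] at this
    simp [Matrix.det_fin_three]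
    linear_combination this⟩

theorem transl_add (x y : Fin 2 → R) : transl (x + y) = transl x * transl y := by
  apply Matrix.SpecialLinearGroup.ext
  intro i j
  rw [Matrix.SpecialLinearGroup.coe_mul]
  fin_cases i <;> fin_cases j <;>
    simp [transl, Matrix.mul_apply, Fin.sum_univ_three, add_comm]

theorem transl_zero : transl (0 : Fin 2 → R) = 1 := by
  apply Matrix.SpecialLinearGroup.ext
  intro i j
  fin_cases i <;> fin_cases j <;> simp [transl]

theorem blk_mul (A B : Matrix.SpecialLinearGroup (Fin 2) R) : blk (A * B) = blk A * blk B := by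
  apply Matrix.SpecialLinearGroup.ext
  intro i j
  rw [Matrix.SpecialLinearGroup.coe_mul]
  fin_cases i <;> fin_cases j <;>
    simp [blk, Matrix.mul_apply, Fin.sum_univ_three, Fin.sum_univ_two]

theorem blk_one : blk (1 : Matrix.SpecialLinearGroup (Fin 2) R) = 1 := by
  apply Matrix.SpecialLinearGroup.ext
  intro i j
  fin_cases i <;> fin_cases j <;> simp [blk]

theorem blk_mul_transl (A : Matrix.SpecialLinearGroup (Fin 2) R) (x : Fin 2 → R) :
    blk A * transl x = transl (A.1.mulVec x) * blk A := by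
  apply Matrix.SpecialLinearGroup.ext
  intro i j
  rw [Matrix.SpecialLinearGroup.coe_mul, Matrix.SpecialLinearGroup.coe_mul]
  fin_cases i <;> fin_cases j <;>
    simp [blk, transl, Matrix.mul_apply, Fin.sum_univ_three, Matrix.mulVec, dotProduct,
      Fin.sum_univ_two]

/-- translations as a homomorphism -/
def translHom (R : Type*) [CommRing R] :
    Multiplicative (Fin 2 → R) →* Matrix.SpecialLinearGroup (Fin 3) R where
  toFun x := transl (Multiplicative.toAdd x)
  map_one' := transl_zero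
  map_mul' x y := transl_add _ _

/-- the linear part as a homomorphism -/
def blkHom (R : Type*) [CommRing R] :
    Matrix.SpecialLinearGroup (Fin 2) R →* Matrix.SpecialLinearGroup (Fin 3) R where
  toFun := blk
  map_one' := blk_one
  map_mul' := blk_mul

/-- every element of the affine group is a translation times a linear part -/
theorem exists_transl_blk (N : Matrix.SpecialLinearGroup (Fin 3) R)
    (h0 : N.1 2 0 = 0) (h1 : N.1 2 1 = 0) (h2 : N.1 2 2 = 1) :
    ∃ (x : Fin 2 → R) (A : Matrix.SpecialLinearGroup (Fin 2) R), N = transl x * blk A := by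
  have hdet : Matrix.det !![N.1 0 0, N.1 0 1; N.1 1 0, N.1 1 1] = 1 := by
    have := N.det_coe
    rw [Matrix.det_fin_three, h0, h1, h2] at this
    rw [Matrix.det_fin_two]
    simp only [Matrix.of_apply, Matrix.cons_val', Matrix.cons_val_zero, Matrix.cons_val_one]
    linear_combination this
  refine ⟨![N.1 0 2, N.1 1 2], ⟨!![N.1 0 0, N.1 0 1; N.1 1 0, N.1 1 1], hdet⟩, ?_⟩
  apply Matrix.SpecialLinearGroup.ext
  intro i j
  rw [Matrix.SpecialLinearGroup.coe_mul]
  fin_cases i <;> fin_cases j <;>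
    simp [blk, transl, Matrix.mul_apply, Fin.sum_univ_three, h0, h1, h2]

end Cfsg.Agent.Lib.H1.QdRecog

namespace Cfsg.Agent.Lib.H1.QdRecog

/-- a group `S` mapping to `X` and onto `H`, compatibly, exhibits `H` as a section of `X` -/
theorem involves_of_hom_pair {S X H : Type*} [Group S] [Group X] [Group H] (μ : S →* X)
    (Ψ : S →* H) (hker : μ.ker ≤ Ψ.ker) (hΨ : Function.Surjective Ψ) : Cfsg.Involves H X := by
  rw [Cfsg.Agent.Lib.H26.involves_iff]
  refine ⟨μ.range, (QuotientGroup.lift μ.ker Ψ (fun x hx => hker hx)).comp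
    (QuotientGroup.quotientKerEquivRange μ).symm.toMonoidHom, ?_⟩
  intro h
  obtain ⟨s, rfl⟩ := hΨ h
  refine ⟨(QuotientGroup.quotientKerEquivRange μ) (QuotientGroup.mk s), ?_⟩
  simp only [MonoidHom.comp_apply, MulEquiv.coe_toMonoidHom, MulEquiv.symm_apply_apply]
  rfl

variable {X : Type*} [Group X] {p : ℕ}

/-- **recognition of `Qd(p)` as a section**: a subgroup `V₀` with coordinates onto `𝔽_p²`, normalized
by a subgroup `M` mapping onto `SL₂(p)` compatibly, such that `V₀ ∩ M` is killed by both maps. -/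
theorem involves_qd_of_data (V₀ M : Subgroup X) (hMV : M ≤ Subgroup.normalizer (V₀ : Set X))
    (coords : ↥V₀ →* Multiplicative (Fin 2 → ZMod p)) (hcs : Function.Surjective coords)
    (φ : ↥M →* Matrix.SpecialLinearGroup (Fin 2) (ZMod p)) (hφ : Function.Surjective φ)
    (heq : ∀ (m : M) (w : V₀),
      coords ((V₀.normalizerMonoidHom.comp (Subgroup.inclusion hMV)) m w) =
        Multiplicative.ofAdd ((φ m).1.mulVec (Multiplicative.toAdd (coords w))))
    (hint : ∀ x (hxV : x ∈ V₀) (hxM : x ∈ M), coords ⟨x, hxV⟩ = 1 ∧ φ ⟨x, hxM⟩ = 1) :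
    Cfsg.Involves ↥(Cfsg.qd p) X := by
  obtain ⟨f₁, hf₁⟩ : ∃ f₁ : ↥V₀ →* Matrix.SpecialLinearGroup (Fin 3) (ZMod p),
    f₁ = (translHom (ZMod p)).comp coords := ⟨_, rfl⟩
  obtain ⟨f₂, hf₂⟩ : ∃ f₂ : ↥M →* Matrix.SpecialLinearGroup (Fin 3) (ZMod p),
    f₂ = (blkHom (ZMod p)).comp φ := ⟨_, rfl⟩
  have hlift : ∀ g : M, f₁.comp ((V₀.normalizerMonoidHom.comp (Subgroup.inclusion hMV)) g).toMonoidHom =
      (MulAut.conj (f₂ g)).toMonoidHom.comp f₁ := by
    intro g
    ext1 w
    simp only [MonoidHom.comp_apply, MulEquiv.coe_toMonoidHom, MulAut.conj_apply]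
    rw [hf₁, hf₂]
    simp only [MonoidHom.comp_apply]
    have hh := heq g w
    simp only [MonoidHom.comp_apply] at hh
    rw [hh]
    show transl _ = blk _ * transl _ * (blk _)⁻¹
    rw [blk_mul_transl, mul_assoc, mul_inv_cancel, mul_one]
    rfl
  obtain ⟨Ψ, hΨ⟩ : ∃ Ψ, Ψ = SemidirectProduct.lift f₁ f₂ hlift := ⟨_, rfl⟩
  have hΨmem : ∀ s, Ψ s ∈ Cfsg.qd p := by
    intro s
    rw [Cfsg.Agent.Lib.H14.mem_qd_iff, hΨ]
    have e1 : SemidirectProduct.lift f₁ f₂ hlift s = f₁ s.1 * f₂ s.2 := rfl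
    rw [e1, hf₁, hf₂]
    simp only [MonoidHom.comp_apply]
    have e2 : ∀ (x : Multiplicative (Fin 2 → ZMod p)) (A : Matrix.SpecialLinearGroup (Fin 2) (ZMod p)),
        (translHom (ZMod p)) x * (blkHom (ZMod p)) A = transl (Multiplicative.toAdd x) * blk A :=
      fun _ _ => rfl
    rw [e2, Matrix.SpecialLinearGroup.coe_mul]
    refine ⟨?_, ?_, ?_⟩ <;> simp [transl, blk, Matrix.mul_apply, Fin.sum_univ_three]
  apply involves_of_hom_pair (SemidirectProduct.monoidHomSubgroup hMV) (Ψ.codRestrict (Cfsg.qd p) hΨmem)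
  · intro s hs
    rw [MonoidHom.mem_ker] at hs ⊢
    apply Subtype.ext
    show Ψ s = 1
    -- `s = (w, m)` with `w * m = 1`
    have h1 : (s.1 : X) * (s.2 : X) = 1 := hs
    have h2 : (s.2 : X) = (s.1 : X)⁻¹ := (eq_inv_of_mul_eq_one_right h1)
    have hxM : (s.1 : X) ∈ M := by
      have : (s.1 : X) = ((s.2)⁻¹ : M) := by
        rw [Subgroup.coe_inv, h2, inv_inv]
      rw [this]; exact (s.2⁻¹).2
    obtain ⟨hc, hp⟩ := hint (s.1 : X) s.1.2 hxM
    have h3 : s.2 = (⟨(s.1 : X), hxM⟩ : M)⁻¹ := by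
      apply Subtype.ext
      rw [Subgroup.coe_inv, h2]
    rw [hΨ]
    show f₁ s.1 * f₂ s.2 = 1
    rw [hf₁, hf₂]
    simp only [MonoidHom.comp_apply]
    rw [h3, map_inv, hp, hc, inv_one, map_one, map_one, one_mul]
  · rintro ⟨N, hN⟩
    rw [Cfsg.Agent.Lib.H14.mem_qd_iff] at hN
    obtain ⟨x, A, hxA⟩ := exists_transl_blk N hN.1 hN.2.1 hN.2.2
    obtain ⟨w, hw⟩ := hcs (Multiplicative.ofAdd x)
    obtain ⟨m, hm⟩ := hφ A
    refine ⟨⟨w, m⟩, ?_⟩
    apply Subtype.ext
    show Ψ ⟨w, m⟩ = N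
    rw [hΨ]
    show f₁ w * f₂ m = N
    rw [hf₁, hf₂]
    simp only [MonoidHom.comp_apply]
    rw [hw, hm, hxA]
    rfl

end Cfsg.Agent.Lib.H1.QdRecog
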