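import Mathlib

/-!
# Two quadratic elements over a finite field (helper1)

Kurzweil–Stellmacher 9.1.3 in abstract form (`main_induction`): if a group `G = ⟨a, b⟩` acts linearly on a
finite dimensional `K`-space (`K` finite of characteristic `p`) with `a`, `b` quadratic, the image not a
`p`-group and `(ab)^(p^e (q-1)) = 1`, then some homomorphism `G → SL₂(K)` has an image that is not a
`p`-group.
-/

set_option autoImplicit false

namespace Cfsg.Agent.Lib.H1.QuadPair

open Polynomial

variable {K : Type*} [Field K] [Fintype K] {p : ℕ} [hp : Fact p.Prime] [CharP K p]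
variable {W : Type*} [AddCommGroup W] [Module K W]

theorem splits_X_pow_card_sub_X : Splits (X ^ Fintype.card K - X : K[X]) := by
  rw [splits_iff_card_roots, FiniteField.roots_X_pow_card_sub_X,
    FiniteField.X_pow_card_sub_X_natDegree_eq K Fintype.one_lt_card]
  simp

/-- an endomorphism of finite `p' ∣ q - 1` type order has an eigenvector over `K` -/
theorem exists_eigenvector [FiniteDimensional K W] [Nontrivial W] (f : Module.End K W) (e : ℕ)
    (hf : f ^ (p ^ e * (Fintype.card K - 1)) = 1) :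
    ∃ (μ : K) (w : W), w ≠ 0 ∧ f w = μ • w := by
  obtain ⟨q, hq⟩ : ∃ q, q = Fintype.card K := ⟨_, rfl⟩
  have hq1 : 1 ≤ q := by rw [hq]; exact Fintype.card_pos
  rw [← hq] at hf
  obtain ⟨P, hPdef⟩ : ∃ P : K[X], P = (X ^ q - X) ^ (p ^ e) := ⟨_, rfl⟩
  have hPsplit : Splits P := by
    rw [hPdef, hq]; exact (splits_X_pow_card_sub_X).pow _
  have hPne : P ≠ 0 := by
    rw [hPdef, hq]
    exact pow_ne_zero _ (FiniteField.X_pow_card_sub_X_ne_zero K Fintype.one_lt_card)
  have hPf : aeval f P = 0 := by
    have h1 : (X ^ q - X : K[X]) = X * (X ^ (q - 1) - 1) := by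
      rw [mul_sub, mul_one, ← pow_succ', Nat.sub_add_cancel hq1]
    rw [hPdef, h1, mul_pow, map_mul, map_pow, map_pow, map_sub, map_pow, aeval_X, map_one]
    have hcomm : Commute (f ^ (q - 1)) 1 := Commute.one_right _
    have : CharP (Module.End K W) p :=
      charP_of_injective_algebraMap (algebraMap K (Module.End K W)).injective p
    rw [sub_pow_char_pow_of_commute (p := p) (n := e) hcomm, one_pow, ← pow_mul, mul_comm (q - 1),
      hf, sub_self, mul_zero]
  have hdvd : minpoly K f ∣ P := minpoly.dvd K f hPf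
  have hms : Splits (minpoly K f) := hPsplit.of_dvd hPne hdvd
  have hint : IsIntegral K f := Algebra.IsIntegral.isIntegral f
  have hdeg : degree (minpoly K f) ≠ 0 := (minpoly.degree_pos hint).ne'
  obtain ⟨μ, hμ⟩ := hms.exists_eval_eq_zero hdeg
  have hev : f.HasEigenvalue μ := Module.End.hasEigenvalue_of_isRoot hμ
  obtain ⟨w, hw⟩ := hev.exists_hasEigenvector
  exact ⟨μ, w, hw.2, hw.apply_eq_smul⟩

end Cfsg.Agent.Lib.H1.QuadPair

namespace Cfsg.Agent.Lib.H1.QuadPair

variable {K : Type*} [Field K] {p : ℕ} [hp : Fact p.Prime] [CharP K p]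
variable {W : Type*} [AddCommGroup W] [Module K W]

/-- quadratic action: `(a - 1)² = 0` -/
def Quad (a : W ≃ₗ[K] W) : Prop := ∀ w, a (a w - w) = a w - w

variable {a : W ≃ₗ[K] W}

theorem Quad.apply_apply (h : Quad a) (w : W) : a (a w) = a w + a w - w := by
  have := h w
  rw [map_sub] at this
  rw [sub_eq_iff_eq_add] at this
  rw [this]; abel

theorem Quad.symm_apply (h : Quad a) (w : W) : a.symm w = w + w - a w := by
  rw [LinearEquiv.symm_apply_eq, map_sub, map_add, h.apply_apply]
  abel

theorem Quad.pow_apply (h : Quad a) (n : ℕ) (w : W) : (a ^ n) w = w + n • (a w - w) := by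
  induction n with
  | zero => simp
  | succ n ih =>
    rw [pow_succ', LinearEquiv.mul_apply, ih, map_add, map_nsmul, h w, succ_nsmul]
    abel

omit hp in
theorem Quad.pow_p (h : Quad a) : a ^ p = 1 := by
  ext w
  rw [h.pow_apply, LinearEquiv.coe_one, id_eq, ← Nat.cast_smul_eq_nsmul K, CharP.cast_eq_zero,
    zero_smul, add_zero]

theorem Quad.one : Quad (1 : W ≃ₗ[K] W) := by
  intro w; simp

end Cfsg.Agent.Lib.H1.QuadPair

namespace Cfsg.Agent.Lib.H1.QuadPair

variable {K : Type*} [Field K] {p : ℕ} [hp : Fact p.Prime] [CharP K p]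
variable {W : Type*} [AddCommGroup W] [Module K W]

/-- the stabilizer of a subspace in the group of linear automorphisms -/
def stab (U : Submodule K W) : Subgroup (W ≃ₗ[K] W) where
  carrier := {g | ∀ w, g w ∈ U ↔ w ∈ U}
  mul_mem' := by
    intro g h hg hh w
    rw [LinearEquiv.mul_apply, hg, hh]
  one_mem' := by intro w; rfl
  inv_mem' := by
    intro g hg w
    rw [← hg (g⁻¹ w)]
    have : g (g⁻¹ w) = w := by
      rw [LinearEquiv.coe_inv]; exact g.apply_symm_apply w
    rw [this]

theorem mem_stab {U : Submodule K W} {g : W ≃ₗ[K] W} : g ∈ stab U ↔ ∀ w, g w ∈ U ↔ w ∈ U :=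
  Iff.rfl

/-- a quadratic element leaving `U` invariant stabilizes `U` -/
theorem Quad.mem_stab {a : W ≃ₗ[K] W} (h : Quad a) {U : Submodule K W}
    (hU : ∀ u ∈ U, a u ∈ U) : a ∈ stab U := by
  intro w
  constructor
  · intro hw
    have h1 := h.symm_apply (a w)
    rw [LinearEquiv.symm_apply_apply] at h1
    rw [h1]
    exact U.sub_mem (U.add_mem hw hw) (hU _ hw)
  · exact hU w

/-- restriction to a stable subspace -/
def resU (U : Submodule K W) : stab U →* (U ≃ₗ[K] U) where
  toFun g :=
    { toFun := fun u => ⟨g.1 u, (g.2 u).mpr u.2⟩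
      invFun := fun u => ⟨g.1.symm u, by
        have := (g.2 (g.1.symm u))
        rw [LinearEquiv.apply_symm_apply] at this
        exact this.mp u.2⟩
      map_add' := by intro u v; ext; simp
      map_smul' := by intro c u; ext; simp
      left_inv := by intro u; ext; simp
      right_inv := by intro u; ext; simp }
  map_one' := by ext u; rfl
  map_mul' := by intro g h; ext u; rfl

@[simp] theorem resU_apply (U : Submodule K W) (g : stab U) (u : U) :
    ((resU U g) u : W) = g.1 u := rfl

/-- action on the quotient by a stable subspace -/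
def resQ (U : Submodule K W) : stab U →* ((W ⧸ U) ≃ₗ[K] (W ⧸ U)) where
  toFun g := Submodule.Quotient.equiv U U g.1 (by
    ext w
    constructor
    · rintro ⟨u, hu, rfl⟩
      exact (g.2 u).mpr hu
    · intro hw
      refine ⟨g.1.symm w, ?_, g.1.apply_symm_apply w⟩
      have := (g.2 (g.1.symm w))
      rw [LinearEquiv.apply_symm_apply] at this
      exact this.mp hw)
  map_one' := by
    ext x
    obtain ⟨w, rfl⟩ := Submodule.Quotient.mk_surjective U x
    rfl
  map_mul' := by
    intro g h
    ext x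
    obtain ⟨w, rfl⟩ := Submodule.Quotient.mk_surjective U x
    rfl

@[simp] theorem resQ_apply (U : Submodule K W) (g : stab U) (w : W) :
    (resQ U g) (Submodule.Quotient.mk w) = Submodule.Quotient.mk (g.1 w) := rfl

end Cfsg.Agent.Lib.H1.QuadPair

namespace Cfsg.Agent.Lib.H1.QuadPair

variable {K : Type*} [Field K] {p : ℕ} [hp : Fact p.Prime] [CharP K p]
variable {W : Type*} [AddCommGroup W] [Module K W]

/-- the image of a homomorphism is a `p`-group (elementwise form) -/
def PImg (p : ℕ) {G X : Type*} [Group G] [Monoid X] (ρ : G →* X) : Prop :=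
  ∀ g, ∃ k : ℕ, ρ g ^ p ^ k = 1

variable {G : Type*} [Group G]

omit hp in
theorem pImg_iff_range {X : Type*} [Group X] (ρ : G →* X) : PImg p ρ ↔ IsPGroup p ρ.range := by
  constructor
  · rintro h ⟨_, g, rfl⟩
    obtain ⟨k, hk⟩ := h g
    exact ⟨k, Subtype.ext (by simpa using hk)⟩
  · intro h g
    obtain ⟨k, hk⟩ := h ⟨ρ g, g, rfl⟩
    refine ⟨k, ?_⟩
    have := congrArg Subtype.val hk
    simpa using this

omit hp in
/-- if both the restriction and the quotient action have `p`-group images, so does `ρ` -/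
theorem pImg_of_res (U : Submodule K W) (ρ : G →* stab U)
    (h1 : PImg p ((resU U).comp ρ)) (h2 : PImg p ((resQ U).comp ρ)) :
    PImg p ((stab U).subtype.comp ρ) := by
  intro g
  obtain ⟨k₁, hk₁⟩ := h1 g
  obtain ⟨k₂, hk₂⟩ := h2 g
  simp only [MonoidHom.comp_apply] at hk₁ hk₂
  obtain ⟨y, hydef⟩ : ∃ y : stab U, y = ρ g ^ p ^ (k₁ + k₂) := ⟨_, rfl⟩
  have hy1 : resU U y = 1 := by
    rw [hydef, pow_add, pow_mul, map_pow, map_pow, hk₁, one_pow]
  have hy2 : resQ U y = 1 := by
    rw [hydef, pow_add, mul_comm, pow_mul, map_pow, map_pow, hk₂, one_pow]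
  have hfix : ∀ u ∈ U, y.1 u = u := by
    intro u hu
    have := congrArg (fun f : U ≃ₗ[K] U => ((f ⟨u, hu⟩ : U) : W)) hy1
    simpa using this
  have hmod : ∀ w, y.1 w - w ∈ U := by
    intro w
    have := congrArg (fun f : (W ⧸ U) ≃ₗ[K] (W ⧸ U) => f (Submodule.Quotient.mk w)) hy2
    simp only [resQ_apply, LinearEquiv.coe_one, id_eq] at this
    exact (Submodule.Quotient.eq U).mp this
  have hq : Quad y.1 := fun w => hfix _ (hmod w)
  refine ⟨k₁ + k₂ + 1, ?_⟩
  have h3 := hq.pow_p (p := p)
  rw [hydef] at h3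
  simp only [MonoidHom.comp_apply, Subgroup.subtype_apply]
  rw [pow_succ, pow_mul]
  simpa using h3

end Cfsg.Agent.Lib.H1.QuadPair

namespace Cfsg.Agent.Lib.H1.QuadPair

variable {K : Type*} [Field K] {p : ℕ} [hp : Fact p.Prime] [CharP K p]
variable {W : Type*} [AddCommGroup W] [Module K W]
variable {G : Type*} [Group G]

/-- in dimension at most one, quadratic elements are trivial -/
theorem Quad.eq_one_of_finrank_le_one [FiniteDimensional K W] {a : W ≃ₗ[K] W} (h : Quad a)
    (hd : Module.finrank K W ≤ 1) : a = 1 := by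
  ext w
  rw [LinearEquiv.coe_one, id_eq]
  rcases Nat.lt_or_ge (Module.finrank K W) 1 with h0 | h1
  · have h00 : Module.finrank K W = 0 := by omega
    have : Subsingleton W := (Module.finrank_zero_iff (R := K)).mp h00
    exact Subsingleton.elim _ _
  · have h1' : Module.finrank K W = 1 := le_antisymm hd h1
    obtain ⟨v, hv0, hv⟩ := finrank_eq_one_iff'.mp h1'
    obtain ⟨c, hc⟩ := hv (a v)
    -- (c - 1)^2 v = 0
    have h2 := h v
    rw [← hc, ← one_smul K v, ← smul_assoc, ← sub_smul, map_smul] at h2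
    simp only [smul_eq_mul, mul_one] at h2
    rw [← hc, smul_smul, ← sub_eq_zero, ← sub_smul] at h2
    have h3 : (c - 1) * c - (c - 1) = 0 := by
      rcases smul_eq_zero.mp h2 with h | h
      · exact h
      · exact absurd h hv0
    have hc1 : c = 1 := by
      have : (c - 1) * (c - 1) = 0 := by linear_combination h3
      have := mul_self_eq_zero.mp this
      exact sub_eq_zero.mp this
    rw [hc1, one_smul] at hc
    obtain ⟨d, hd⟩ := hv w
    rw [← hd, map_smul, ← hc]

/-- the determinant of a quadratic element is one -/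
theorem Quad.det_eq_one (p : ℕ) [hp : Fact p.Prime] [CharP K p] {a : W ≃ₗ[K] W} (h : Quad a) :
    LinearMap.det (a : W →ₗ[K] W) = 1 := by
  have h1 : (LinearMap.det (a : W →ₗ[K] W)) ^ p = 1 := by
    rw [← map_pow]
    have : ((a : W →ₗ[K] W)) ^ p = ((a ^ p : W ≃ₗ[K] W) : W →ₗ[K] W) := by
      exact (map_pow (LinearEquiv.automorphismGroup.toLinearMapMonoidHom (R := K) (M := W)) a p).symm
    rw [this, h.pow_p (p := p), LinearEquiv.coe_toLinearMap_one]
    exact LinearMap.det_id
  have h2 : (LinearMap.det (a : W →ₗ[K] W) - 1) ^ p = 0 := by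
    rw [sub_pow_char, h1, one_pow, sub_self]
  exact sub_eq_zero.mp (pow_eq_zero_iff hp.out.ne_zero |>.mp h2)

end Cfsg.Agent.Lib.H1.QuadPair

namespace Cfsg.Agent.Lib.H1.QuadPair

variable {K : Type*} [Field K] {p : ℕ} [hp : Fact p.Prime] [CharP K p]
variable {W : Type*} [AddCommGroup W] [Module K W]
variable {G : Type*} [Group G] {a b : G}

/-- a property holding on two generators and closed under the group operations holds everywhere -/
theorem forall_of_gen (hgen : Subgroup.closure ({a, b} : Set G) = ⊤) (S : Subgroup G)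
    (ha : a ∈ S) (hb : b ∈ S) (g : G) : g ∈ S := by
  have : Subgroup.closure ({a, b} : Set G) ≤ S := by
    rw [Subgroup.closure_le]
    rintro z (rfl | rfl)
    · exact ha
    · exact hb
  rw [hgen] at this
  exact this (Subgroup.mem_top g)

/-- **dimension two**: the matrix homomorphism -/
theorem exists_hom_of_finrank_two [FiniteDimensional K W]
    (hgen : Subgroup.closure ({a, b} : Set G) = ⊤) (ρ : G →* (W ≃ₗ[K] W))
    (h2 : Module.finrank K W = 2) (hqa : Quad (ρ a)) (hqb : Quad (ρ b)) (hnp : ¬ PImg p ρ) :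
    ∃ φ : G →* Matrix.SpecialLinearGroup (Fin 2) K, ¬ PImg p φ := by
  classical
  let bas : Module.Basis (Fin 2) K W := Module.finBasisOfFinrankEq K W h2
  have hdet : ∀ g : G, LinearMap.det ((ρ g : W ≃ₗ[K] W) : W →ₗ[K] W) = 1 := by
    let δ : G →* K :=
      (LinearMap.det (M := W) (A := K)).comp
        ((LinearEquiv.automorphismGroup.toLinearMapMonoidHom (R := K) (M := W)).comp ρ)
    let S : Subgroup G :=
      { carrier := {g | δ g = 1}
        mul_mem' := by intro x y hx hy; show δ (x * y) = 1; rw [map_mul, hx, hy, one_mul]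
        one_mem' := map_one δ
        inv_mem' := by
          intro x hx
          show δ x⁻¹ = 1
          have : δ x * δ x⁻¹ = 1 := by rw [← map_mul, mul_inv_cancel, map_one]
          rw [hx, one_mul] at this
          exact this }
    intro g
    exact forall_of_gen hgen S (hqa.det_eq_one p) (hqb.det_eq_one p) g
  let f : G → Matrix.SpecialLinearGroup (Fin 2) K := fun g =>
    ⟨LinearMap.toMatrix bas bas ((ρ g : W ≃ₗ[K] W) : W →ₗ[K] W), by
        rw [LinearMap.det_toMatrix]; exact hdet g⟩
  have hf : ∀ g, ((f g : Matrix.SpecialLinearGroup (Fin 2) K) : Matrix (Fin 2) (Fin 2) K) =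
      LinearMap.toMatrix bas bas ((ρ g : W ≃ₗ[K] W) : W →ₗ[K] W) := fun g => rfl
  let φ : G →* Matrix.SpecialLinearGroup (Fin 2) K := MonoidHom.mk' f (by
    intro g h
    apply Subtype.ext
    rw [Matrix.SpecialLinearGroup.coe_mul, hf, hf, hf, map_mul, LinearEquiv.coe_toLinearMap_mul,
      Module.End.mul_eq_comp, LinearMap.toMatrix_comp bas bas bas])
  have hφ' : ∀ g, ((φ g : Matrix.SpecialLinearGroup (Fin 2) K) : Matrix (Fin 2) (Fin 2) K) =
      LinearMap.toMatrix bas bas ((ρ g : W ≃ₗ[K] W) : W →ₗ[K] W) := fun g => rfl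
  refine ⟨φ, fun hφ => hnp ?_⟩
  intro g
  obtain ⟨k, hk⟩ := hφ g
  refine ⟨k, ?_⟩
  rw [← map_pow] at hk ⊢
  have h3 := congrArg (fun m : Matrix.SpecialLinearGroup (Fin 2) K => (m : Matrix (Fin 2) (Fin 2) K)) hk
  simp only [Matrix.SpecialLinearGroup.coe_one] at h3
  rw [hφ'] at h3
  have h4 : ((ρ (g ^ p ^ k) : W ≃ₗ[K] W) : W →ₗ[K] W) = LinearMap.id := by
    apply (LinearMap.toMatrix bas bas).injective
    rw [h3, LinearMap.toMatrix_id]
  ext w
  have := congrArg (fun f : W →ₗ[K] W => f w) h4
  simpa using this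

end Cfsg.Agent.Lib.H1.QuadPair

namespace Cfsg.Agent.Lib.H1.QuadPair

universe v

variable {K : Type*} [Field K] [Fintype K] {p : ℕ} [hp : Fact p.Prime] [CharP K p]
variable {G : Type*} [Group G] {a b : G}

omit [Fintype K] hp [CharP K p] in
/-- the span of `w, A w` is invariant under `A` and `B` when `w` is an eigenvector of `A B` -/
theorem invariant_span {W : Type v} [AddCommGroup W] [Module K W] {A B : W ≃ₗ[K] W}
    (hA : Quad A) (hB : Quad B) {μ : K} {w : W} (hw : w ≠ 0) (hAB : A (B w) = μ • w) :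
    (∀ u ∈ Submodule.span K ({w, A w} : Set W), A u ∈ Submodule.span K ({w, A w} : Set W)) ∧
    (∀ u ∈ Submodule.span K ({w, A w} : Set W), B u ∈ Submodule.span K ({w, A w} : Set W)) := by
  obtain ⟨U, hU⟩ : ∃ U : Submodule K W, U = Submodule.span K ({w, A w} : Set W) := ⟨_, rfl⟩
  rw [← hU]
  have hwU : w ∈ U := by rw [hU]; exact Submodule.subset_span (by simp)
  have hAwU : A w ∈ U := by rw [hU]; exact Submodule.subset_span (by simp)
  have hμ : μ ≠ 0 := by
    rintro rfl
    rw [zero_smul] at hAB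
    have h1 : B w = 0 := by
      have := A.map_eq_zero_iff.mp hAB
      exact this
    exact hw (B.map_eq_zero_iff.mp h1)
  -- `B w = μ (2 w - A w)`
  have hBw : B w = μ • (w + w - A w) := by
    have h1 : B w = A.symm (μ • w) := by rw [← hAB, LinearEquiv.symm_apply_apply]
    rw [h1, map_smul, hA.symm_apply]
  have hBwU : B w ∈ U := by
    rw [hBw]; exact U.smul_mem _ (U.sub_mem (U.add_mem hwU hwU) hAwU)
  have hAw : A w = w + w - μ⁻¹ • B w := by
    rw [hBw, smul_smul, inv_mul_cancel₀ hμ, one_smul]; abel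
  constructor
  · intro u hu
    have hle : U ≤ U.comap (A : W →ₗ[K] W) := by
      rw [hU, Submodule.span_le]
      rintro z (rfl | rfl)
      · rw [← hU]; exact hAwU
      · rw [← hU]
        show A (A w) ∈ U
        rw [hA.apply_apply]
        exact U.sub_mem (U.add_mem hAwU hAwU) hwU
    exact hle hu
  · intro u hu
    have hle : U ≤ U.comap (B : W →ₗ[K] W) := by
      rw [hU, Submodule.span_le]
      rintro z (rfl | rfl)
      · rw [← hU]; exact hBwU
      · rw [← hU]
        show B (A w) ∈ U
        rw [hAw, map_sub, map_add, map_smul, hB.apply_apply]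
        exact U.sub_mem (U.add_mem hBwU hBwU)
          (U.smul_mem _ (U.sub_mem (U.add_mem hBwU hBwU) hwU))
    exact hle hu

/-- **K–S 9.1.3, abstract form**: the main induction on the dimension -/
theorem main_induction (hgen : Subgroup.closure ({a, b} : Set G) = ⊤) (n : ℕ) :
    ∀ (W : Type v) [AddCommGroup W] [Module K W] [FiniteDimensional K W]
      (ρ : G →* (W ≃ₗ[K] W)), Module.finrank K W = n → Quad (ρ a) → Quad (ρ b) →
      (∃ e : ℕ, ρ (a * b) ^ (p ^ e * (Fintype.card K - 1)) = 1) → ¬ PImg p ρ →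
      ∃ φ : G →* Matrix.SpecialLinearGroup (Fin 2) K, ¬ PImg p φ := by
  induction n using Nat.strong_induction_on with
  | _ n ih =>
  intro W _ _ _ ρ hn hqa hqb hN hnp
  -- small dimensions
  rcases Nat.lt_or_ge n 2 with hlt | hge
  · exfalso
    apply hnp
    have h1 : ∀ g, ρ g = 1 := by
      intro g
      have ha1 := hqa.eq_one_of_finrank_le_one (by omega)
      have hb1 := hqb.eq_one_of_finrank_le_one (by omega)
      exact forall_of_gen hgen ρ.ker ha1 hb1 g
    intro g
    exact ⟨0, by rw [h1 g, one_pow]⟩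
  rcases Nat.eq_or_lt_of_le hge with h2 | h3
  · exact exists_hom_of_finrank_two hgen ρ (by omega) hqa hqb hnp
  -- dimension at least three
  have hnt : Nontrivial W := Module.nontrivial_of_finrank_pos (R := K) (by omega)
  obtain ⟨e, he⟩ := hN
  obtain ⟨μ, w, hw0, hw⟩ := exists_eigenvector (p := p)
    ((ρ (a * b) : W ≃ₗ[K] W) : W →ₗ[K] W) e (by
      have := congrArg (LinearEquiv.automorphismGroup.toLinearMapMonoidHom (R := K) (M := W)) he
      rw [map_pow, map_one] at this
      exact this)
  have hAB : (ρ a) ((ρ b) w) = μ • w := by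
    rw [map_mul] at hw
    exact hw
  obtain ⟨U, hU⟩ : ∃ U : Submodule K W, U = Submodule.span K ({w, (ρ a) w} : Set W) := ⟨_, rfl⟩
  obtain ⟨hUa, hUb⟩ := invariant_span hqa hqb hw0 hAB
  rw [← hU] at hUa hUb
  have hwU : w ∈ U := by rw [hU]; exact Submodule.subset_span (by simp)
  have hUbot : U ≠ ⊥ := fun h => hw0 (by rw [h] at hwU; exact (Submodule.mem_bot K).mp hwU)
  have hUdim : Module.finrank K U ≤ 2 := by
    classical
    rw [hU]
    have := finrank_span_le_card (R := K) ({w, (ρ a) w} : Set W)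
    refine this.trans ?_
    rw [Set.toFinset_card]
    exact (Fintype.card_le_of_surjective (fun i : Fin 2 => (⟨![w, (ρ a) w] i, by
      fin_cases i <;> simp⟩ : ({w, (ρ a) w} : Set W))) (by
        rintro ⟨z, hz⟩
        rcases hz with rfl | rfl
        · exact ⟨0, rfl⟩
        · exact ⟨1, rfl⟩)).trans (by simp)
  have hUpos : 0 < Module.finrank K U := by
    rw [Module.finrank_pos_iff (R := K)]
    exact (Submodule.nontrivial_iff_ne_bot).mpr hUbot
  have hquot := Submodule.finrank_quotient_add_finrank U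
  -- `ρ` lands in the stabilizer
  have hstab : ∀ g, ρ g ∈ stab U :=
    forall_of_gen hgen ((stab U).comap ρ) (hqa.mem_stab hUa) (hqb.mem_stab hUb)
  obtain ⟨ρS, hρS⟩ : ∃ ρS : G →* stab U, ρS = ρ.codRestrict (stab U) hstab := ⟨_, rfl⟩
  have hρSv : ∀ g, (ρS g : W ≃ₗ[K] W) = ρ g := by
    intro g; rw [hρS]; rfl
  have hcase : ¬ PImg p ((resU U).comp ρS) ∨ ¬ PImg p ((resQ U).comp ρS) := by
    by_contra hcon
    push Not at hcon
    apply hnp
    have := pImg_of_res U ρS hcon.1 hcon.2
    intro g
    obtain ⟨k, hk⟩ := this g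
    refine ⟨k, ?_⟩
    simp only [MonoidHom.comp_apply, Subgroup.subtype_apply, hρSv] at hk
    exact hk
  rcases hcase with hc | hc
  · -- restrict to `U`
    refine ih (Module.finrank K U) (by omega) U ((resU U).comp ρS) rfl ?_ ?_ ⟨e, ?_⟩ hc
    · intro u
      apply Subtype.ext
      simp only [MonoidHom.comp_apply, resU_apply, hρSv, Submodule.coe_sub]
      exact hqa u.1
    · intro u
      apply Subtype.ext
      simp only [MonoidHom.comp_apply, resU_apply, hρSv, Submodule.coe_sub]
      exact hqb u.1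
    · rw [← map_pow]
      have : ρS (a * b) ^ (p ^ e * (Fintype.card K - 1)) = 1 := by
        apply Subtype.ext
        rw [Subgroup.coe_pow, hρSv, he]; rfl
      rw [MonoidHom.comp_apply, map_pow, this, map_one]
  · -- pass to `W ⧸ U`
    refine ih (Module.finrank K (W ⧸ U)) (by omega) (W ⧸ U) ((resQ U).comp ρS) rfl ?_ ?_ ⟨e, ?_⟩ hc
    · intro x
      obtain ⟨z, rfl⟩ := Submodule.Quotient.mk_surjective U x
      simp only [MonoidHom.comp_apply, resQ_apply, hρSv, ← Submodule.Quotient.mk_sub]
      rw [hqa z]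
    · intro x
      obtain ⟨z, rfl⟩ := Submodule.Quotient.mk_surjective U x
      simp only [MonoidHom.comp_apply, resQ_apply, hρSv, ← Submodule.Quotient.mk_sub]
      rw [hqb z]
    · rw [← map_pow]
      have : ρS (a * b) ^ (p ^ e * (Fintype.card K - 1)) = 1 := by
        apply Subtype.ext
        rw [Subgroup.coe_pow, hρSv, he]; rfl
      rw [MonoidHom.comp_apply, map_pow, this, map_one]

end Cfsg.Agent.Lib.H1.QuadPair
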