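import Mathlib

/-!
# Elementary facts on `SL₂(K)` (helper1)

Cayley–Hamilton for 2×2 matrices and its consequences: commuting elements of equal trace, the unique
involution, centralizers of transvections, odd-order elements normalizing abelian `p'`-subgroups.
-/

set_option autoImplicit false

namespace Cfsg.Agent.Lib.H1.SL2

open Matrix

variable {K : Type*} [Field K]

/-- notation: 2×2 matrices -/
abbrev M2 (K : Type*) := Matrix (Fin 2) (Fin 2) K

/-- notation: `SL₂(K)` -/
abbrev SL (K : Type*) [Field K] := Matrix.SpecialLinearGroup (Fin 2) K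

/-- the trace of an element of `SL₂(K)` -/
def tr (g : SL K) : K := Matrix.trace (g : M2 K)

theorem tr_def (g : SL K) : tr g = Matrix.trace (g : M2 K) := rfl

/-- Cayley–Hamilton for general 2×2 matrices. -/
theorem ch_gen (m : M2 K) : m * m = Matrix.trace m • m - Matrix.det m • (1 : M2 K) := by
  rw [Matrix.det_fin_two]
  ext i j
  fin_cases i <;> fin_cases j <;>
    simp [Matrix.mul_apply, Fin.sum_univ_two, Matrix.trace_fin_two] <;> ring

/-- Cayley–Hamilton for `SL₂`. -/
theorem ch (g : SL K) : (g : M2 K) * (g : M2 K) = tr g • (g : M2 K) - 1 := by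
  have h := ch_gen (g : M2 K)
  rw [g.det_coe, one_smul] at h
  exact h

theorem coe_inv_eq (g : SL K) :
    ((g⁻¹ : SL K) : M2 K) = tr g • (1 : M2 K) - (g : M2 K) := by
  have h := Matrix.SpecialLinearGroup.coe_inv g
  rw [h, Matrix.adjugate_fin_two]
  ext i j
  fin_cases i <;> fin_cases j <;>
    simp [Matrix.trace_fin_two, tr]

theorem tr_inv (g : SL K) : tr g⁻¹ = tr g := by
  rw [tr_def, coe_inv_eq, Matrix.trace_sub, Matrix.trace_smul, tr_def]
  simp [Matrix.trace_fin_two]
  ring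

theorem tr_conj (g x : SL K) : tr (g * x * g⁻¹) = tr x := by
  rw [tr_def, tr_def, Matrix.SpecialLinearGroup.coe_mul, Matrix.SpecialLinearGroup.coe_mul,
    Matrix.trace_mul_comm, ← Matrix.mul_assoc, ← Matrix.SpecialLinearGroup.coe_mul, inv_mul_cancel,
    Matrix.SpecialLinearGroup.coe_one, Matrix.one_mul]

theorem tr_one : tr (1 : SL K) = 2 := by
  rw [tr_def, Matrix.SpecialLinearGroup.coe_one, Matrix.trace_one]
  simp

/-- the key identity: commuting elements of equal trace -/
theorem key_identity (x y : SL K) (hc : x * y = y * x) (ht : tr x = tr y) :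
    ((y : M2 K) - (x : M2 K)) * ((y : M2 K) - ((x⁻¹ : SL K) : M2 K)) = 0 := by
  have hx := ch x
  have hy := ch y
  have hcm : (x : M2 K) * (y : M2 K) = (y : M2 K) * (x : M2 K) := by
    rw [← Matrix.SpecialLinearGroup.coe_mul, hc, Matrix.SpecialLinearGroup.coe_mul]
  rw [coe_inv_eq, sub_mul, mul_sub, mul_sub, mul_sub, mul_sub, hy, hx, ← ht, hcm]
  simp only [Matrix.mul_smul, Matrix.mul_one]
  abel

theorem det_sub_one (u : SL K) : Matrix.det ((u : M2 K) - 1) = 2 - tr u := by
  have hd := u.det_coe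
  rw [Matrix.det_fin_two] at hd
  rw [Matrix.det_fin_two, tr_def, Matrix.trace_fin_two]
  simp only [Matrix.sub_apply, Matrix.one_apply_eq, Matrix.one_apply_ne, ne_eq, one_ne_zero,
    not_false_eq_true, zero_ne_one, sub_zero]
  linear_combination hd

theorem sub_one_sq (u : SL K) :
    ((u : M2 K) - 1) * ((u : M2 K) - 1) = (tr u - 2) • (u : M2 K) := by
  rw [sub_mul, mul_sub, mul_sub, ch u, sub_smul]
  simp only [Matrix.mul_one, Matrix.one_mul, two_smul]
  abel

end Cfsg.Agent.Lib.H1.SL2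

namespace Cfsg.Agent.Lib.H1.SL2

open Matrix

variable {K : Type*} [Field K] {p : ℕ} [hp : Fact p.Prime] [CharP K p]

theorem coe_pow' (u : SL K) (n : ℕ) : ((u ^ n : SL K) : M2 K) = (u : M2 K) ^ n :=
  Matrix.SpecialLinearGroup.coe_pow u n

/-- trace `2` forces order dividing `p` -/
theorem pow_p_eq_one_of_tr (u : SL K) (h : tr u = 2) : u ^ p = 1 := by
  have hsq := sub_one_sq u
  rw [h, sub_self, zero_smul] at hsq
  have h2 : 2 ≤ p := hp.out.two_le
  have hn : ((u : M2 K) - 1) ^ p = 0 := by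
    obtain ⟨k, rfl⟩ := Nat.exists_eq_add_of_le h2
    rw [pow_add, pow_two, hsq, zero_mul]
  have hcomm : Commute ((u : M2 K) - 1) 1 := Commute.one_right _
  have h1 : ((u : M2 K)) ^ p = 1 := by
    have := add_pow_char_of_commute (p := p) hcomm
    rw [sub_add_cancel, hn, one_pow, zero_add] at this
    exact this
  apply Matrix.SpecialLinearGroup.ext
  intro i j
  rw [coe_pow', h1, Matrix.SpecialLinearGroup.coe_one]

/-- `p`-elements have trace `2` -/
theorem tr_eq_two_of_pow (u : SL K) (k : ℕ) (h : u ^ (p ^ k) = 1) : tr u = 2 := by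
  have hcomm : Commute (u : M2 K) 1 := Commute.one_right _
  have h1 : ((u : M2 K) - 1) ^ (p ^ k) = 0 := by
    rw [sub_pow_char_pow_of_commute (p := p) (n := k) hcomm, one_pow, ← coe_pow', h,
      Matrix.SpecialLinearGroup.coe_one, sub_self]
  have h2 : Matrix.det ((u : M2 K) - 1) ^ (p ^ k) = 0 := by
    rw [← Matrix.det_pow, h1, Matrix.det_zero]
  have h3 : Matrix.det ((u : M2 K) - 1) = 0 := pow_eq_zero_iff (pow_ne_zero k hp.out.ne_zero) |>.mp h2
  rw [det_sub_one] at h3
  exact (sub_eq_zero.mp h3).symm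

/-- left cancellation by `u - 1` when `tr u ≠ 2` -/
theorem cancel (u : SL K) (hu : tr u ≠ 2) (m : M2 K) (h : ((u : M2 K) - 1) * m = 0) : m = 0 := by
  have hdet : IsUnit (Matrix.det ((u : M2 K) - 1)) := by
    rw [det_sub_one, isUnit_iff_ne_zero]
    intro h0
    exact hu (sub_eq_zero.mp h0).symm
  have hunit : IsUnit ((u : M2 K) - 1) := (Matrix.isUnit_iff_isUnit_det _).mpr hdet
  exact (hunit.mul_right_eq_zero).mp h

/-- an element that is `p`-regular (`u ^ p = 1 → u = 1`) and non-trivial has trace `≠ 2` -/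
theorem tr_ne_two {u : SL K} (hreg : u ^ p = 1 → u = 1) (hu : u ≠ 1) : tr u ≠ 2 :=
  fun h => hu (hreg (pow_p_eq_one_of_tr u h))

/-- **Lemma A**: commuting elements of equal trace with `p`-regular quotient are equal or inverse. -/
theorem eq_or_eq_inv {x y : SL K} (hc : x * y = y * x) (ht : tr x = tr y)
    (hreg : (y * x⁻¹) ^ p = 1 → y * x⁻¹ = 1) : y = x ∨ y = x⁻¹ := by
  by_cases hyx : y = x
  · exact Or.inl hyx
  right
  have hu : y * x⁻¹ ≠ 1 := fun h => hyx (mul_inv_eq_one.mp h)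
  have htr := tr_ne_two hreg hu
  have hkey := key_identity x y hc ht
  have h1 : (y : M2 K) - (x : M2 K) = (((y * x⁻¹ : SL K) : M2 K) - 1) * (x : M2 K) := by
    rw [sub_mul, one_mul, ← Matrix.SpecialLinearGroup.coe_mul, inv_mul_cancel_right]
  rw [h1, Matrix.mul_assoc] at hkey
  have h2 := cancel _ htr _ hkey
  have h3 : ((x⁻¹ : SL K) : M2 K) * ((x : M2 K) * ((y : M2 K) - ((x⁻¹ : SL K) : M2 K))) = 0 := by
    rw [h2, Matrix.mul_zero]
  rw [← Matrix.mul_assoc, ← Matrix.SpecialLinearGroup.coe_mul, inv_mul_cancel,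
    Matrix.SpecialLinearGroup.coe_one, Matrix.one_mul] at h3
  apply Matrix.SpecialLinearGroup.ext
  intro i j
  rw [sub_eq_zero.mp h3]

end Cfsg.Agent.Lib.H1.SL2

namespace Cfsg.Agent.Lib.H1.SL2

open Matrix

variable {K : Type*} [Field K] {p : ℕ} [hp : Fact p.Prime] [CharP K p]

/-- **Lemma B** (squared form): if `g` normalizes an abelian `p`-regular subgroup `A`, then `g ^ 2`
centralizes it. -/
theorem sq_commute_of_normalizes (A : Subgroup (SL K))
    (hab : ∀ a ∈ A, ∀ b ∈ A, a * b = b * a) (hreg : ∀ u ∈ A, u ^ p = 1 → u = 1)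
    (g : SL K) (hg : ∀ x ∈ A, g * x * g⁻¹ ∈ A) (x : SL K) (hx : x ∈ A) :
    g ^ 2 * x = x * g ^ 2 := by
  have hy := hg x hx
  have hc : x * (g * x * g⁻¹) = (g * x * g⁻¹) * x := hab x hx _ hy
  have ht : tr x = tr (g * x * g⁻¹) := (tr_conj g x).symm
  have hu : g * x * g⁻¹ * x⁻¹ ∈ A := A.mul_mem hy (A.inv_mem hx)
  rcases eq_or_eq_inv hc ht (hreg _ hu) with h | h
  · have h1 : g * x = x * g := by
      calc g * x = g * x * g⁻¹ * g := by group
        _ = x * g := by rw [h]
    rw [pow_two, mul_assoc, h1, ← mul_assoc, h1, mul_assoc]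
  · have h1 : g * x = x⁻¹ * g := by
      calc g * x = g * x * g⁻¹ * g := by group
        _ = x⁻¹ * g := by rw [h]
    have h2 : g * x⁻¹ = x * g := by
      calc g * x⁻¹ = (x * x⁻¹) * g * x⁻¹ := by group
        _ = x * (x⁻¹ * g) * x⁻¹ := by group
        _ = x * (g * x) * x⁻¹ := by rw [h1]
        _ = x * g := by group
    rw [pow_two, mul_assoc, h1, ← mul_assoc, h2, mul_assoc]

/-- odd-order elements: from `g ^ 2` to `g` -/
theorem commute_of_sq_commute {G : Type*} [Group G] {g x : G} (hodd : Odd (orderOf g))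
    (h : g ^ 2 * x = x * g ^ 2) : g * x = x * g := by
  obtain ⟨k, hk⟩ := hodd
  have h1 : g = (g ^ 2) ^ (k + 1) := by
    rw [← pow_mul, show 2 * (k + 1) = orderOf g + 1 by omega, pow_succ, pow_orderOf_eq_one,
      one_mul]
  have h2 : Commute (g ^ 2) x := h
  have h3 : Commute ((g ^ 2) ^ (k + 1)) x := h2.pow_left _
  rw [← h1] at h3
  exact h3

/-- **Lemma B**: an odd-order element normalizing an abelian `p`-regular subgroup centralizes it. -/
theorem commute_of_normalizes (A : Subgroup (SL K))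
    (hab : ∀ a ∈ A, ∀ b ∈ A, a * b = b * a) (hreg : ∀ u ∈ A, u ^ p = 1 → u = 1)
    (g : SL K) (hodd : Odd (orderOf g)) (hg : ∀ x ∈ A, g * x * g⁻¹ ∈ A) (x : SL K) (hx : x ∈ A) :
    g * x = x * g :=
  commute_of_sq_commute hodd (sq_commute_of_normalizes A hab hreg g hg x hx)

/-- elements of square one are `± 1` -/
theorem coe_eq_of_sq_eq_one (h2 : (2 : K) ≠ 0) (g : SL K) (hg : g ^ 2 = 1) :
    (g : M2 K) = 1 ∨ (g : M2 K) = -1 := by
  have h := ch g
  have hgg : (g : M2 K) * (g : M2 K) = 1 := by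
    rw [← Matrix.SpecialLinearGroup.coe_mul, ← pow_two, hg, Matrix.SpecialLinearGroup.coe_one]
  rw [hgg] at h
  have h3 : tr g • (g : M2 K) = (2 : K) • (1 : M2 K) := by
    rw [two_smul]
    rw [eq_sub_iff_add_eq] at h
    exact h.symm
  have ht : tr g ≠ 0 := by
    intro h0
    rw [h0, zero_smul] at h3
    have := congrFun (congrFun h3 0) 0
    simp at this
    exact h2 this.symm
  have h4 : (g : M2 K) = ((tr g)⁻¹ * 2) • (1 : M2 K) := by
    rw [mul_smul, ← h3, smul_smul, inv_mul_cancel₀ ht, one_smul]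
  have hdet := g.det_coe
  rw [h4, Matrix.det_smul, Matrix.det_one, mul_one, Fintype.card_fin] at hdet
  have h5 : ((tr g)⁻¹ * 2 - 1) * ((tr g)⁻¹ * 2 + 1) = 0 := by
    linear_combination hdet
  rcases mul_eq_zero.mp h5 with h6 | h6
  · left
    rw [h4, sub_eq_zero.mp h6, one_smul]
  · right
    rw [h4, eq_neg_of_add_eq_zero_left h6, neg_smul, one_smul]

/-- elements of square one are central -/
theorem commute_of_sq_eq_one (h2 : (2 : K) ≠ 0) (g : SL K) (hg : g ^ 2 = 1) (x : SL K) :
    g * x = x * g := by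
  apply Matrix.SpecialLinearGroup.ext
  intro i j
  rw [Matrix.SpecialLinearGroup.coe_mul, Matrix.SpecialLinearGroup.coe_mul]
  rcases coe_eq_of_sq_eq_one h2 g hg with h | h <;> rw [h] <;> simp

/-- the involution is unique -/
theorem eq_of_sq_eq_one (h2 : (2 : K) ≠ 0) (g h : SL K) (hg : g ^ 2 = 1) (hh : h ^ 2 = 1)
    (hg1 : g ≠ 1) (hh1 : h ≠ 1) : g = h := by
  apply Matrix.SpecialLinearGroup.ext
  intro i j
  have hg' : (g : M2 K) = -1 := by
    rcases coe_eq_of_sq_eq_one h2 g hg with h | h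
    · exfalso; apply hg1
      apply Matrix.SpecialLinearGroup.ext
      intro i j
      rw [h, Matrix.SpecialLinearGroup.coe_one]
    · exact h
  have hh' : (h : M2 K) = -1 := by
    rcases coe_eq_of_sq_eq_one h2 h hh with h' | h'
    · exfalso; apply hh1
      apply Matrix.SpecialLinearGroup.ext
      intro i j
      rw [h', Matrix.SpecialLinearGroup.coe_one]
    · exact h'
  rw [hg', hh']

/-- a 2×2 matrix of square zero has trace zero -/
theorem trace_eq_zero_of_sq (m : M2 K) (h : m * m = 0) : Matrix.trace m = 0 := by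
  have hc := ch_gen m
  rw [h] at hc
  have hdet : Matrix.det m = 0 := by
    have : Matrix.det m * Matrix.det m = 0 := by
      rw [← Matrix.det_mul, h, Matrix.det_zero]
    exact mul_self_eq_zero.mp this
  rw [hdet, zero_smul, sub_zero] at hc
  by_contra ht
  have hm : m = 0 := by
    have := congrArg (fun z => (Matrix.trace m)⁻¹ • z) hc
    simp only [smul_zero, smul_smul, inv_mul_cancel₀ ht, one_smul] at this
    exact this.symm
  rw [hm, Matrix.trace_zero] at ht
  exact ht rfl

/-- **Centralizer of a transvection**: an element commuting with `a ≠ 1` of trace `2` whose square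
is `p`-regular has square one. -/
theorem sq_eq_one_of_commute {a h : SL K} (ha : tr a = 2) (ha1 : a ≠ 1) (hc : h * a = a * h)
    (hreg : (h ^ 2) ^ p = 1 → h ^ 2 = 1) : h ^ 2 = 1 := by
  by_contra hne
  have htr := tr_ne_two hreg hne
  -- n = a - 1
  have hnn : ((a : M2 K) - 1) * ((a : M2 K) - 1) = 0 := by
    rw [sub_one_sq, ha, sub_self, zero_smul]
  have hcm : (h : M2 K) * (a : M2 K) = (a : M2 K) * (h : M2 K) := by
    rw [← Matrix.SpecialLinearGroup.coe_mul, hc, Matrix.SpecialLinearGroup.coe_mul]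
  have hcn : (h : M2 K) * ((a : M2 K) - 1) = ((a : M2 K) - 1) * (h : M2 K) := by
    rw [mul_sub, sub_mul, hcm, mul_one, one_mul]
  -- tr (h a) = tr h
  have hhn : ((h : M2 K) * ((a : M2 K) - 1)) * ((h : M2 K) * ((a : M2 K) - 1)) = 0 := by
    rw [Matrix.mul_assoc, ← Matrix.mul_assoc ((a : M2 K) - 1), ← hcn, Matrix.mul_assoc,
      hnn, Matrix.mul_zero, Matrix.mul_zero]
  have ht0 := trace_eq_zero_of_sq _ hhn
  have ht : tr h = tr (h * a) := by
    rw [tr_def, tr_def, Matrix.SpecialLinearGroup.coe_mul]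
    have : (h : M2 K) * (a : M2 K) = (h : M2 K) + (h : M2 K) * ((a : M2 K) - 1) := by
      rw [mul_sub, mul_one]; abel
    rw [this, Matrix.trace_add, ht0, add_zero]
  have hc' : h * (h * a) = (h * a) * h := by
    rw [mul_assoc, ← hc]
  have hkey := key_identity h (h * a) hc' ht
  have h1 : ((h * a : SL K) : M2 K) - (h : M2 K) = (h : M2 K) * ((a : M2 K) - 1) := by
    rw [Matrix.SpecialLinearGroup.coe_mul, mul_sub, mul_one]
  rw [h1, Matrix.mul_assoc] at hkey
  -- cancel h
  have h2 : ((a : M2 K) - 1) * (((h * a : SL K) : M2 K) - ((h⁻¹ : SL K) : M2 K)) = 0 := by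
    have := congrArg (fun z => ((h⁻¹ : SL K) : M2 K) * z) hkey
    simp only [Matrix.mul_zero] at this
    rw [← Matrix.mul_assoc, ← Matrix.SpecialLinearGroup.coe_mul, inv_mul_cancel,
      Matrix.SpecialLinearGroup.coe_one, Matrix.one_mul] at this
    exact this
  -- multiply by h on the right
  have h3 : ((a : M2 K) - 1) * (((h ^ 2 : SL K) : M2 K) * (a : M2 K) - 1) = 0 := by
    have e1 : (((h * a : SL K) : M2 K) - ((h⁻¹ : SL K) : M2 K)) * (h : M2 K) =
        ((h ^ 2 : SL K) : M2 K) * (a : M2 K) - 1 := by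
      rw [sub_mul, ← Matrix.SpecialLinearGroup.coe_mul, ← Matrix.SpecialLinearGroup.coe_mul,
        inv_mul_cancel, Matrix.SpecialLinearGroup.coe_one, ← Matrix.SpecialLinearGroup.coe_mul]
      have : h * a * h = h ^ 2 * a := by rw [mul_assoc, ← hc, ← mul_assoc, pow_two]
      rw [this]
    have := congrArg (fun z => z * (h : M2 K)) h2
    simp only [Matrix.zero_mul] at this
    rw [Matrix.mul_assoc, e1] at this
    exact this
  have hcn2 : ((h ^ 2 : SL K) : M2 K) * ((a : M2 K) - 1) = ((a : M2 K) - 1) * ((h ^ 2 : SL K) : M2 K) := by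
    rw [pow_two, Matrix.SpecialLinearGroup.coe_mul, Matrix.mul_assoc, hcn, ← Matrix.mul_assoc, hcn,
      Matrix.mul_assoc]
  have h4 : (((h ^ 2 : SL K) : M2 K) - 1) * ((a : M2 K) - 1) = 0 := by
    have e : ((h ^ 2 : SL K) : M2 K) * (a : M2 K) - 1 =
        (((h ^ 2 : SL K) : M2 K) - 1) + ((h ^ 2 : SL K) : M2 K) * ((a : M2 K) - 1) := by
      rw [mul_sub, mul_one]; abel
    rw [e, mul_add] at h3
    have h0 : ((a : M2 K) - 1) * (((h ^ 2 : SL K) : M2 K) * ((a : M2 K) - 1)) = 0 := by
      rw [← Matrix.mul_assoc, ← hcn2, Matrix.mul_assoc, hnn, Matrix.mul_zero]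
    rw [h0, add_zero] at h3
    have : (((h ^ 2 : SL K) : M2 K) - 1) * ((a : M2 K) - 1) =
        ((a : M2 K) - 1) * (((h ^ 2 : SL K) : M2 K) - 1) := by
      rw [sub_mul, one_mul, hcn2, mul_sub, mul_one]
    rw [this]
    exact h3
  have h5 := cancel _ htr _ h4
  apply ha1
  apply Matrix.SpecialLinearGroup.ext
  intro i j
  rw [sub_eq_zero.mp h5, Matrix.SpecialLinearGroup.coe_one]

end Cfsg.Agent.Lib.H1.SL2
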