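import Mathlib
import Cfsg.Agent.Lib.H1.SL2Basic
import Cfsg.Agent.Lib.H2.SLGen
import Cfsg.Agent.Lib.H16.MatrixUnits
import Cfsg.Agent.Lib.H1.QuadPair

/-!
# Natural `SL₂(p)`-sections from quadratic pairs (helper1)

For a group `G = ⟨a, b⟩` acting on a finite `𝔽_p`-module `V` (`p` odd) with `a, b` quadratic and the image
not a `p`-group, and given Dickson's theorem on `SL₂` (`DicksonHyp`, the statement of S0274), there is a
subgroup `G₁ ≤ G` mapping onto `SL₂(p)` and a `G₁`-invariant section of `V` which is the natural module: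
`natSec_of_not_pImg`.

Route: irreducible section `W`; `α = a - 1`, `β = b - 1`, `c = αβ + βα` is invertible and `L = 𝔽_p[c]` is a
field; matrix units give `θ : M₂(L) → End W` with `a = θ(u(1))`, `b = θ(l(c))`; Dickson gives `SL₂(p) ≅ K ≤
⟨u(1), l(c)⟩`; the relation `(u l⁻¹ u)² = -1` forces the images `a', b'` of the standard generators to satisfy
`(a'-1)(b'-1) + (b'-1)(a'-1) = 1`, so they give matrix units over `𝔽_p` and a natural submodule.
-/

set_option autoImplicit false
set_option linter.style.haveILetI false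
set_option linter.unusedSectionVars false

namespace Cfsg.Agent.Lib.H1.QdSec

open Cfsg.Agent.Lib.H1.SL2

variable {K : Type*} [Field K]

/-- for unipotent `a, b ∈ SL₂(K)`: `(a-1)(b-1) + (b-1)(a-1)` is the scalar `tr((a-1)(b-1))` -/
theorem anticomm_eq_smul (a b : SL K) (h2 : (2 : K) ≠ 0) (ha : tr a = 2) (hb : tr b = 2) :
    ((a : M2 K) - 1) * ((b : M2 K) - 1) + ((b : M2 K) - 1) * ((a : M2 K) - 1) =
      Matrix.trace (((a : M2 K) - 1) * ((b : M2 K) - 1)) • (1 : M2 K) := by
  have hA : ((a : M2 K) - 1) * ((a : M2 K) - 1) = 0 := by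
    rw [sub_one_sq, ha, sub_self, zero_smul]
  have hB : ((b : M2 K) - 1) * ((b : M2 K) - 1) = 0 := by
    rw [sub_one_sq, hb, sub_self, zero_smul]
  set A : M2 K := (a : M2 K) - 1 with hAdef
  set B : M2 K := (b : M2 K) - 1 with hBdef
  have htA : Matrix.trace A = 0 := trace_eq_zero_of_sq A hA
  have htB : Matrix.trace B = 0 := trace_eq_zero_of_sq B hB
  have hsq : (A + B) * (A + B) = A * B + B * A := by
    rw [add_mul, mul_add, mul_add, hA, hB]; abel
  have hch := ch_gen (A + B)
  rw [Matrix.trace_add, htA, htB, add_zero, zero_smul, zero_sub, hsq] at hch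
  -- take traces
  have htr := congrArg Matrix.trace hch
  rw [Matrix.trace_add, Matrix.trace_mul_comm B A, Matrix.trace_neg, Matrix.trace_smul,
    Matrix.trace_one] at htr
  simp only [Fintype.card_fin, smul_eq_mul] at htr
  have hdet : -Matrix.det (A + B) = Matrix.trace (A * B) := by
    have h3 : (2 : K) * Matrix.trace (A * B) = 2 * (-Matrix.det (A + B)) := by
      have : Matrix.trace (A * B) + Matrix.trace (A * B) = -(Matrix.det (A + B) * ((2 : ℕ) : K)) := htr
      push_cast at this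
      linear_combination this
    exact (mul_left_cancel₀ h2 h3).symm
  rw [hch, ← hdet, neg_smul]

/-- the relation `(a b⁻¹ a)² = -1` forces `(a-1)(b-1) + (b-1)(a-1) = 1` -/
theorem anticomm_eq_one (a b : SL K) (h2 : (2 : K) ≠ 0) (ha : tr a = 2) (hb : tr b = 2)
    (hw2 : (a * b⁻¹ * a) ^ 2 ≠ 1) (hw4 : (a * b⁻¹ * a) ^ 4 = 1) :
    ((a : M2 K) - 1) * ((b : M2 K) - 1) + ((b : M2 K) - 1) * ((a : M2 K) - 1) = 1 := by
  obtain ⟨w, hw⟩ : ∃ w : SL K, w = a * b⁻¹ * a := ⟨_, rfl⟩
  rw [← hw] at hw2 hw4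
  have hww : ((w ^ 2 : SL K) : M2 K) = -1 := by
    have h4 : (w ^ 2) ^ 2 = 1 := by rw [← pow_mul]; exact hw4
    rcases coe_eq_of_sq_eq_one h2 (w ^ 2) h4 with h | h
    · exfalso; apply hw2
      apply Matrix.SpecialLinearGroup.ext
      intro i j
      rw [h, Matrix.SpecialLinearGroup.coe_one]
    · exact h
  have htw : tr w = 0 := by
    have hc := ch w
    rw [← Matrix.SpecialLinearGroup.coe_mul, ← pow_two, hww] at hc
    have h0 : tr w • (w : M2 K) = 0 := by
      have : (-1 : M2 K) = tr w • (w : M2 K) - 1 := hc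
      have h5 : tr w • (w : M2 K) = (-1 : M2 K) + 1 := by rw [this]; abel
      rw [h5]; simp
    by_contra hne
    have hw0 : (w : M2 K) = 0 := by
      have := congrArg (fun m => (tr w)⁻¹ • m) h0
      simpa [smul_smul, inv_mul_cancel₀ hne] using this
    have hd := w.det_coe
    rw [hw0] at hd
    simp at hd
  have hA : ((a : M2 K) - 1) * ((a : M2 K) - 1) = 0 := by
    rw [sub_one_sq, ha, sub_self, zero_smul]
  have hB : ((b : M2 K) - 1) * ((b : M2 K) - 1) = 0 := by
    rw [sub_one_sq, hb, sub_self, zero_smul]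
  have hmain := anticomm_eq_smul a b h2 ha hb
  set A : M2 K := (a : M2 K) - 1 with hAdef
  set B : M2 K := (b : M2 K) - 1 with hBdef
  have htA : Matrix.trace A = 0 := trace_eq_zero_of_sq A hA
  have htB : Matrix.trace B = 0 := trace_eq_zero_of_sq B hB
  have ha' : (a : M2 K) = 1 + A := by rw [hAdef]; abel
  have hbinv : ((b⁻¹ : SL K) : M2 K) = 1 - B := by
    rw [coe_inv_eq, hb, hBdef, two_smul]; abel
  -- trace of w
  have htw2 : tr w = 2 - 2 * Matrix.trace (A * B) := by
    rw [tr_def, hw, Matrix.SpecialLinearGroup.coe_mul, Matrix.SpecialLinearGroup.coe_mul,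
      Matrix.trace_mul_comm, ← Matrix.mul_assoc, hbinv, ha']
    have : (1 + A) * (1 + A) * (1 - B) = 1 + (2 : K) • A - B - (2 : K) • (A * B) := by
      have h1 : (1 + A) * (1 + A) = 1 + (2 : K) • A := by
        rw [add_mul, mul_add, mul_add, hA, two_smul]; simp; abel
      rw [h1, mul_sub, mul_one, add_mul, one_mul, Matrix.smul_mul]
      abel
    rw [this, Matrix.trace_sub, Matrix.trace_sub, Matrix.trace_add, Matrix.trace_smul,
      Matrix.trace_smul, htA, htB, Matrix.trace_one]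
    simp
  have hτ : Matrix.trace (A * B) = 1 := by
    rw [htw] at htw2
    have : (2 : K) * Matrix.trace (A * B) = 2 * 1 := by linear_combination htw2
    exact mul_left_cancel₀ h2 this
  rw [hmain, hτ, one_smul]

end Cfsg.Agent.Lib.H1.QdSec

namespace Cfsg.Agent.Lib.H1.QdSec

open Cfsg.Agent.Lib.H1.SL2

/-- upper unitriangular element of `SL₂` -/
def uu {R : Type*} [CommRing R] (t : R) : Matrix.SpecialLinearGroup (Fin 2) R :=
  ⟨!![1, t; 0, 1], by simp [Matrix.det_fin_two]⟩

/-- lower unitriangular element of `SL₂` -/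
def ll {R : Type*} [CommRing R] (t : R) : Matrix.SpecialLinearGroup (Fin 2) R :=
  ⟨!![1, 0; t, 1], by simp [Matrix.det_fin_two]⟩

variable {R : Type*} [CommRing R]

@[simp] theorem uu_coe (t : R) : ((uu t : Matrix.SpecialLinearGroup (Fin 2) R) : Matrix (Fin 2) (Fin 2) R) =
    !![1, t; 0, 1] := rfl

@[simp] theorem ll_coe (t : R) : ((ll t : Matrix.SpecialLinearGroup (Fin 2) R) : Matrix (Fin 2) (Fin 2) R) =
    !![1, 0; t, 1] := rfl

theorem uu_add (s t : R) : uu (s + t) = uu s * uu t := by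
  apply Matrix.SpecialLinearGroup.ext
  intro i j
  rw [Matrix.SpecialLinearGroup.coe_mul]
  fin_cases i <;> fin_cases j <;> simp [Matrix.mul_apply, Fin.sum_univ_two, add_comm]

theorem ll_add (s t : R) : ll (s + t) = ll s * ll t := by
  apply Matrix.SpecialLinearGroup.ext
  intro i j
  rw [Matrix.SpecialLinearGroup.coe_mul]
  fin_cases i <;> fin_cases j <;> simp [Matrix.mul_apply, Fin.sum_univ_two, add_comm]

theorem uu_zero : uu (0 : R) = 1 := by
  apply Matrix.SpecialLinearGroup.ext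
  intro i j
  fin_cases i <;> fin_cases j <;> simp

theorem ll_zero : ll (0 : R) = 1 := by
  apply Matrix.SpecialLinearGroup.ext
  intro i j
  fin_cases i <;> fin_cases j <;> simp

theorem uu_natCast (n : ℕ) : uu (n : R) = uu 1 ^ n := by
  induction n with
  | zero => simp [uu_zero]
  | succ n ih => rw [Nat.cast_succ, uu_add, ih, pow_succ]

theorem ll_natCast (n : ℕ) : ll (n : R) = ll 1 ^ n := by
  induction n with
  | zero => simp [ll_zero]
  | succ n ih => rw [Nat.cast_succ, ll_add, ih, pow_succ]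

theorem transvection_zero_one {F : Type*} [Field F] (h : (0 : Fin 2) ≠ 1) (c : F) :
    Matrix.SpecialLinearGroup.transvection h c = uu c := by
  apply Matrix.SpecialLinearGroup.ext
  intro i j
  rw [Matrix.SpecialLinearGroup.transvection_coe]
  fin_cases i <;> fin_cases j <;> simp [Matrix.single]

theorem transvection_one_zero {F : Type*} [Field F] (h : (1 : Fin 2) ≠ 0) (c : F) :
    Matrix.SpecialLinearGroup.transvection h c = ll c := by
  apply Matrix.SpecialLinearGroup.ext
  intro i j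
  rw [Matrix.SpecialLinearGroup.transvection_coe]
  fin_cases i <;> fin_cases j <;> simp [Matrix.single]

/-- `SL₂(𝔽_p)` is generated by the two elementary matrices -/
theorem closure_uu_ll (p : ℕ) [Fact p.Prime] :
    Subgroup.closure ({uu (1 : ZMod p), ll (1 : ZMod p)} : Set (Matrix.SpecialLinearGroup (Fin 2) (ZMod p))) = ⊤ := by
  rw [eq_top_iff, ← Cfsg.Agent.Lib.H2.SL_closure_transvection, Subgroup.closure_le]
  rintro A ⟨i, j, h, c, rfl⟩
  have hc : c = ((c.val : ℕ) : ZMod p) := (ZMod.natCast_zmod_val c).symm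
  fin_cases i <;> fin_cases j
  · exact absurd rfl h
  · rw [transvection_zero_one, hc, uu_natCast]
    exact Subgroup.pow_mem _ (Subgroup.subset_closure (by simp)) _
  · rw [transvection_one_zero, hc, ll_natCast]
    exact Subgroup.pow_mem _ (Subgroup.subset_closure (by simp)) _
  · exact absurd rfl h

theorem uu_pow_p {F : Type*} [Field F] (p : ℕ) [Fact p.Prime] [CharP F p] (t : F) : uu t ^ p = 1 := by
  apply pow_p_eq_one_of_tr
  rw [tr_def, uu_coe, Matrix.trace_fin_two]
  simp; norm_num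

theorem ll_pow_p {F : Type*} [Field F] (p : ℕ) [Fact p.Prime] [CharP F p] (t : F) : ll t ^ p = 1 := by
  apply pow_p_eq_one_of_tr
  rw [tr_def, ll_coe, Matrix.trace_fin_two]
  simp; norm_num

/-- the Weyl element -/
def ww {R : Type*} [CommRing R] : Matrix.SpecialLinearGroup (Fin 2) R :=
  ⟨!![0, 1; -1, 0], by simp [Matrix.det_fin_two]⟩

/-- the relation `(u l⁻¹ u)² = -1`, in the form: fourth power `1`, square not `1` -/
theorem uu_ll_rel (p : ℕ) [Fact p.Prime] (hp2 : p ≠ 2) :
    (uu (1 : ZMod p) * (ll (1 : ZMod p))⁻¹ * uu 1) ^ 4 = 1 ∧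
      (uu (1 : ZMod p) * (ll (1 : ZMod p))⁻¹ * uu 1) ^ 2 ≠ 1 := by
  have hinv : (ll (1 : ZMod p))⁻¹ = ll (-1) := by
    rw [inv_eq_iff_mul_eq_one, ← ll_add]; simp [ll_zero]
  have hw : (uu (1 : ZMod p) * ll (-1) * uu 1 : Matrix.SpecialLinearGroup (Fin 2) (ZMod p)) = ww := by
    apply Matrix.SpecialLinearGroup.ext
    intro i j
    rw [Matrix.SpecialLinearGroup.coe_mul, Matrix.SpecialLinearGroup.coe_mul]
    fin_cases i <;> fin_cases j <;> simp [Matrix.mul_apply, Fin.sum_univ_two, ww]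
  have hw2 : (uu (1 : ZMod p) * ll (-1) * uu 1 : Matrix.SpecialLinearGroup (Fin 2) (ZMod p)) ^ 2 = -1 := by
    rw [hw, sq]
    apply Matrix.SpecialLinearGroup.ext
    intro i j
    rw [Matrix.SpecialLinearGroup.coe_mul, Matrix.SpecialLinearGroup.coe_neg,
      Matrix.SpecialLinearGroup.coe_one]
    fin_cases i <;> fin_cases j <;> simp [Matrix.mul_apply, Fin.sum_univ_two, ww]
  rw [hinv]
  constructor
  · rw [show 4 = 2 * 2 from rfl, pow_mul, hw2]
    simp
  · rw [hw2]
    intro h
    have := congrArg (fun g : Matrix.SpecialLinearGroup (Fin 2) (ZMod p) => (g : Matrix (Fin 2) (Fin 2) (ZMod p)) 0 0) h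
    simp only [Matrix.SpecialLinearGroup.coe_neg, Matrix.SpecialLinearGroup.coe_one, Matrix.neg_apply,
      Matrix.one_apply_eq] at this
    have h2 : (2 : ZMod p) = 0 := by linear_combination -this
    have h3 : ((2 : ℕ) : ZMod p) = 0 := by exact_mod_cast h2
    rw [ZMod.natCast_eq_zero_iff] at h3
    have := (Nat.prime_dvd_prime_iff_eq (Fact.out : p.Prime) Nat.prime_two).mp h3
    exact hp2 this

end Cfsg.Agent.Lib.H1.QdSec

namespace Cfsg.Agent.Lib.H1.QdSec

open Cfsg.Agent.Lib.H1.QuadPair Cfsg.Agent.Lib.H16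

variable {p : ℕ} [hp : Fact p.Prime]

/-- natural `SL₂(p)`-section of a representation over `𝔽_p` -/
structure NatSec {G V : Type*} [Group G] [AddCommGroup V] [Module (ZMod p) V]
    (ρ : G →* (V ≃ₗ[ZMod p] V)) where
  /-- the subgroup acting -/
  G₁ : Subgroup G
  /-- the action on the section -/
  φ : G₁ →* Matrix.SpecialLinearGroup (Fin 2) (ZMod p)
  hφ : Function.Surjective φ
  /-- the top of the section -/
  U₀ : Submodule (ZMod p) V
  /-- coordinates on the section (extended to all of `V`) -/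
  κ : V →ₗ[ZMod p] (Fin 2 → ZMod p)
  hκ : ∀ y, ∃ x ∈ U₀, κ x = y
  inv : ∀ g ∈ G₁, ∀ x ∈ U₀, ρ g x ∈ U₀
  equiv : ∀ (g : G₁), ∀ x ∈ U₀, κ (ρ g x) = (φ g).1.mulVec (κ x)

section thetaU

variable {L : Type*} [CommRing L] {R : Type*} [CommRing R] {W : Type*} [AddCommGroup W] [Module R W]

/-- the group homomorphism `SL₂(L) → GL(W)` induced by a ring homomorphism `M₂(L) → End(W)` -/
def thetaU (θ : Matrix (Fin 2) (Fin 2) L →+* Module.End R W) :
    Matrix.SpecialLinearGroup (Fin 2) L →* (W ≃ₗ[R] W) where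
  toFun M := LinearEquiv.ofLinearMap (θ M.1) (θ (M⁻¹).1)
    (by
      rw [← Module.End.mul_eq_comp, ← map_mul, ← Matrix.SpecialLinearGroup.coe_mul, mul_inv_cancel,
        Matrix.SpecialLinearGroup.coe_one, map_one]; rfl)
    (by
      rw [← Module.End.mul_eq_comp, ← map_mul, ← Matrix.SpecialLinearGroup.coe_mul, inv_mul_cancel,
        Matrix.SpecialLinearGroup.coe_one, map_one]; rfl)
  map_one' := by
    ext w
    simp
  map_mul' M N := by
    ext w
    simp [map_mul]

@[simp] theorem thetaU_apply (θ : Matrix (Fin 2) (Fin 2) L →+* Module.End R W)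
    (M : Matrix.SpecialLinearGroup (Fin 2) L) (w : W) : thetaU θ M w = θ M.1 w := rfl

theorem thetaU_injective (θ : Matrix (Fin 2) (Fin 2) L →+* Module.End R W)
    (hθ : Function.Injective θ) : Function.Injective (thetaU θ) := by
  intro M N h
  apply Subtype.ext
  apply hθ
  ext w
  have := congrArg (fun e : W ≃ₗ[R] W => e w) h
  simpa using this

end thetaU

end Cfsg.Agent.Lib.H1.QdSec

namespace Cfsg.Agent.Lib.H1.QdSec

open Cfsg.Agent.Lib.H1.QuadPair Cfsg.Agent.Lib.H16

section natural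

variable {R : Type*} [Field R] {W : Type*} [AddCommGroup W] [Module R W]

/-- the ring homomorphism `M₂(R) → End(W)` attached to a pair `N₁, N₂` with `N₁² = N₂² = 0`,
`N₁ N₂ + N₂ N₁ = 1` -/
noncomputable def xiHom (N₁ N₂ : Module.End R W) (h11 : N₁ * N₁ = 0) (h22 : N₂ * N₂ = 0)
    (h12 : N₁ * N₂ + N₂ * N₁ = 1) : Matrix (Fin 2) (Fin 2) R →+* Module.End R W :=
  matrixUnitsHom₂ (algebraMap R (Module.End R W)) N₁ N₂ h11 h22 h12
    (fun a => Algebra.commutes a N₁) (fun a => Algebra.commutes a N₂)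

theorem xiHom_apply (N₁ N₂ : Module.End R W) (h11 : N₁ * N₁ = 0) (h22 : N₂ * N₂ = 0)
    (h12 : N₁ * N₂ + N₂ * N₁ = 1) (M : Matrix (Fin 2) (Fin 2) R) (w : W) :
    xiHom N₁ N₂ h11 h22 h12 M w =
      M 0 0 • N₁ (N₂ w) + M 0 1 • N₁ w + (M 1 0 • N₂ w + M 1 1 • N₂ (N₁ w)) := by
  unfold xiHom
  rw [matrixUnitsHom₂_apply]
  simp [Module.End.mul_apply]

/-- a natural two-dimensional submodule for the matrix units -/
theorem exists_natural [Nontrivial W] (N₁ N₂ : Module.End R W) (h11 : N₁ * N₁ = 0)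
    (h22 : N₂ * N₂ = 0) (h12 : N₁ * N₂ + N₂ * N₁ = 1) :
    ∃ j : (Fin 2 → R) →ₗ[R] W, Function.Injective j ∧
      ∀ (M : Matrix (Fin 2) (Fin 2) R) (y : Fin 2 → R),
        xiHom N₁ N₂ h11 h22 h12 M (j y) = j (M.mulVec y) := by
  have e11 : ∀ w, N₁ (N₁ w) = 0 := fun w => by
    have := congrArg (fun f : Module.End R W => f w) h11
    simpa [Module.End.mul_apply] using this
  have e22 : ∀ w, N₂ (N₂ w) = 0 := fun w => by
    have := congrArg (fun f : Module.End R W => f w) h22
    simpa [Module.End.mul_apply] using this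
  have e12 : ∀ w, N₁ (N₂ w) + N₂ (N₁ w) = w := fun w => by
    have := congrArg (fun f : Module.End R W => f w) h12
    simpa [Module.End.mul_apply] using this
  -- `N₁ N₂ ≠ 0`
  have hne : ∃ m₀, N₁ (N₂ m₀) ≠ 0 := by
    by_contra hcon
    push Not at hcon
    obtain ⟨w, hw⟩ := exists_ne (0 : W)
    apply hw
    have h1 : N₂ (N₁ w) = w := by have := e12 w; rwa [hcon, zero_add] at this
    have h2 : N₁ w = 0 := by
      have := e12 (N₁ w)
      rw [e11, map_zero, add_zero, hcon] at this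
      exact this.symm
    rw [← h1, h2, map_zero]
  obtain ⟨m₀, hm₀⟩ := hne
  obtain ⟨u, hu⟩ : ∃ u, u = N₁ (N₂ m₀) := ⟨_, rfl⟩
  obtain ⟨v, hv⟩ : ∃ v, v = N₂ u := ⟨_, rfl⟩
  have hu0 : u ≠ 0 := hu ▸ hm₀
  have hN1u : N₁ u = 0 := by rw [hu, e11]
  have hN12u : N₁ (N₂ u) = u := by
    have := e12 u
    rwa [hN1u, map_zero, add_zero] at this
  have hN1v : N₁ v = u := by rw [hv, hN12u]
  have hN2v : N₂ v = 0 := by rw [hv, e22]
  refine ⟨(LinearMap.proj 0).smulRight u + (LinearMap.proj 1).smulRight v, ?_, ?_⟩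
  · rw [injective_iff_map_eq_zero]
    intro y hy
    simp only [LinearMap.add_apply, LinearMap.smulRight_apply, LinearMap.proj_apply] at hy
    have h0 : y 0 = 0 := by
      have := congrArg (fun w => N₁ (N₂ w)) hy
      simp only [map_add, map_smul, hN2v, map_zero, smul_zero, add_zero, ← hv, hN1v] at this
      rcases smul_eq_zero.mp this with h | h
      · exact h
      · exact absurd h hu0
    have h1 : y 1 = 0 := by
      have := congrArg (fun w => N₁ w) hy
      simp only [map_add, map_smul, hN1u, map_zero, smul_zero, zero_add, hN1v] at this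
      rcases smul_eq_zero.mp this with h | h
      · exact h
      · exact absurd h hu0
    funext i
    fin_cases i
    · exact h0
    · exact h1
  · intro M y
    rw [xiHom_apply]
    simp only [LinearMap.add_apply, LinearMap.smulRight_apply, LinearMap.proj_apply, map_add,
      map_smul, hN1u, hN2v, hN1v, ← hv, smul_zero, add_zero, zero_add,
      Matrix.mulVec, dotProduct, Fin.sum_univ_two]
    simp only [smul_smul, add_smul]

end natural

end Cfsg.Agent.Lib.H1.QdSec

namespace Cfsg.Agent.Lib.H1.QdSec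

universe u

variable {p : ℕ} [hp : Fact p.Prime]

/-- elements of `𝔽_p[c]` commute with everything commuting with `c` -/
theorem adjoin_commute {W : Type*} [AddCommGroup W] [Module (ZMod p) W]
    (c : Module.End (ZMod p) W) {d : Module.End (ZMod p) W}
    (hd : d ∈ Algebra.adjoin (ZMod p) ({c} : Set (Module.End (ZMod p) W)))
    {x : Module.End (ZMod p) W} (hx : x * c = c * x) : d * x = x * d := by
  have h1 := Algebra.adjoin_le_centralizer_centralizer (ZMod p) ({c} : Set (Module.End (ZMod p) W)) hd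
  rw [Subalgebra.mem_centralizer_iff] at h1
  refine (h1 x ?_).symm
  show x ∈ Subalgebra.centralizer (ZMod p) ({c} : Set (Module.End (ZMod p) W))
  rw [Subalgebra.mem_centralizer_iff]
  intro g hg
  rw [Set.mem_singleton_iff] at hg
  rw [hg, hx]

/-- when its nonzero elements are injective, `𝔽_p[c]` is a finite field -/
theorem exists_field_of_adjoin {W : Type u} [AddCommGroup W] [Module (ZMod p) W] [Finite W]
    [Nontrivial W] (c : Module.End (ZMod p) W)
    (hinj : ∀ d ∈ Algebra.adjoin (ZMod p) ({c} : Set (Module.End (ZMod p) W)), d ≠ 0 →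
      Function.Injective d) :
    ∃ (L : Type u) (_ : Field L) (_ : Fintype L) (_ : CharP L p)
      (ι : L →+* Module.End (ZMod p) W) (cL : L),
      ι cL = c ∧ ∀ l, ι l ∈ Algebra.adjoin (ZMod p) ({c} : Set (Module.End (ZMod p) W)) := by
  classical
  obtain ⟨A, hA⟩ : ∃ A : Subalgebra (ZMod p) (Module.End (ZMod p) W),
    A = Algebra.adjoin (ZMod p) ({c} : Set (Module.End (ZMod p) W)) := ⟨_, rfl⟩
  letI : CommRing A := { (inferInstance : Ring A) with
    mul_comm := by
      rintro ⟨x, hx⟩ ⟨y, hy⟩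
      apply Subtype.ext
      rw [hA] at hx hy
      show x * y = y * x
      have hyc : y * c = c * y := by
        have := adjoin_commute c hy (x := c) rfl
        exact this
      exact adjoin_commute c hx hyc }
  haveI : Finite (Module.End (ZMod p) W) := DFunLike.finite _
  haveI : Finite A := inferInstance
  haveI : Nontrivial A := by
    refine ⟨⟨0, 1, ?_⟩⟩
    intro h
    have h1 := congrArg Subtype.val h
    obtain ⟨w, hw⟩ := exists_ne (0 : W)
    apply hw
    have := congrArg (fun f : Module.End (ZMod p) W => f w) h1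
    simpa using this.symm
  haveI : NoZeroDivisors A := by
    constructor
    rintro ⟨x, hx⟩ ⟨y, hy⟩ hxy
    by_cases hx0 : x = 0
    · left; exact Subtype.ext hx0
    · right
      apply Subtype.ext
      have h1 : x * y = 0 := congrArg Subtype.val hxy
      have hxi := hinj x (hA ▸ hx) hx0
      show y = 0
      ext w
      apply hxi
      have := congrArg (fun f : Module.End (ZMod p) W => f w) h1
      simpa [Module.End.mul_apply] using this
  haveI : IsDomain A := NoZeroDivisors.to_isDomain A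
  letI : Fintype A := Fintype.ofFinite A
  letI : Field A := Fintype.fieldOfDomain A
  have hchar : CharP A p := by
    have hinjA : Function.Injective (algebraMap (ZMod p) A) := (algebraMap (ZMod p) A).injective
    exact charP_of_injective_ringHom hinjA p
  refine ⟨A, inferInstance, inferInstance, hchar, A.val.toRingHom, ⟨c, hA ▸ Algebra.subset_adjoin rfl⟩,
    rfl, fun l => hA ▸ l.2⟩

end Cfsg.Agent.Lib.H1.QdSec

namespace Cfsg.Agent.Lib.H1.QdSec

open Cfsg.Agent.Lib.H1.QuadPair Cfsg.Agent.Lib.H16 Cfsg.Agent.Lib.H1.SL2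

universe u

variable {p : ℕ} [hp : Fact p.Prime]

/-- the statement of Dickson's theorem on `SL₂` (statement S0274), at a fixed universe -/
def DicksonHyp (p : ℕ) [Fact p.Prime] : Prop :=
  ∀ (F : Type u) [Field F] [Fintype F] [CharP F p]
    (H : Subgroup (Matrix.SpecialLinearGroup (Fin 2) F)), 1 < Nat.card (Sylow p H) →
    ∃ K : Subgroup (Matrix.SpecialLinearGroup (Fin 2) F), K ≤ H ∧
      Nonempty (K ≃* Matrix.SpecialLinearGroup (Fin 2) (ZMod p))

/-- generators of `closure {a, b}` as elements of that subgroup -/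
theorem closure_pair_subtype {G : Type*} [Group G] (a b : G) (H : Subgroup G)
    (hH : H = Subgroup.closure {a, b}) (haH : a ∈ H) (hbH : b ∈ H) :
    Subgroup.closure ({⟨a, haH⟩, ⟨b, hbH⟩} : Set ↥H) = ⊤ := by
  have h1 : (Subgroup.closure ({⟨a, haH⟩, ⟨b, hbH⟩} : Set ↥H)).map H.subtype = H := by
    rw [MonoidHom.map_closure, Set.image_insert_eq, Set.image_singleton]
    exact hH.symm
  rw [eq_top_iff]
  intro x _
  have hx : (x : G) ∈ (Subgroup.closure ({⟨a, haH⟩, ⟨b, hbH⟩} : Set ↥H)).map H.subtype := by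
    rw [h1]; exact x.2
  obtain ⟨y, hy, hyx⟩ := hx
  have : y = x := Subtype.ext hyx
  rw [← this]; exact hy

/-- a finite group generated by two `p`-elements with a unique Sylow `p`-subgroup is a `p`-group -/
theorem isPGroup_of_card_sylow_le_one {Λ : Type*} [Group Λ] [Finite Λ] {x y : Λ}
    (hgen : Subgroup.closure ({x, y} : Set Λ) = ⊤) (hx : x ^ p = 1) (hy : y ^ p = 1)
    (h : Nat.card (Sylow p Λ) ≤ 1) : IsPGroup p Λ := by
  have hsub : Subsingleton (Sylow p Λ) := by
    rw [← Finite.card_le_one_iff_subsingleton]; exact h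
  obtain ⟨P⟩ : Nonempty (Sylow p Λ) := inferInstance
  have key : ∀ z : Λ, z ^ p = 1 → z ∈ (P : Subgroup Λ) := by
    intro z hz
    have hzp : IsPGroup p (Subgroup.zpowers z) := by
      rintro ⟨w, hw⟩
      obtain ⟨k, rfl⟩ := Subgroup.mem_zpowers_iff.mp hw
      refine ⟨1, Subtype.ext ?_⟩
      simp only [pow_one, Subgroup.coe_pow, Subgroup.coe_one]
      rw [← zpow_natCast, ← zpow_mul, mul_comm, zpow_mul, zpow_natCast, hz, one_zpow]
    obtain ⟨Q, hQ⟩ := hzp.exists_le_sylow
    rw [Subsingleton.elim P Q]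
    exact hQ (Subgroup.mem_zpowers z)
  have htop : (P : Subgroup Λ) = ⊤ := by
    rw [eq_top_iff, ← hgen, Subgroup.closure_le]
    rintro z (rfl | rfl)
    · exact key _ hx
    · exact key _ hy
  have := P.2
  rw [htop] at this
  exact IsPGroup.of_surjective this (Subgroup.topEquiv (G := Λ)).toMonoidHom
    (Subgroup.topEquiv (G := Λ)).surjective

end Cfsg.Agent.Lib.H1.QdSec

namespace Cfsg.Agent.Lib.H1.QdSec

open Cfsg.Agent.Lib.H1.QuadPair Cfsg.Agent.Lib.H16 Cfsg.Agent.Lib.H1.SL2

universe u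

variable {p : ℕ} [hp : Fact p.Prime]

section irreducible

variable {W : Type u} [AddCommGroup W] [Module (ZMod p) W] {G : Type*} [Group G]

/-- the linear map of a group element -/
def rr (ρ : G →* (W ≃ₗ[ZMod p] W)) (g : G) : Module.End (ZMod p) W := (ρ g : W →ₗ[ZMod p] W)

theorem rr_apply (ρ : G →* (W ≃ₗ[ZMod p] W)) (g : G) (w : W) : rr ρ g w = ρ g w := rfl

theorem rr_mul (ρ : G →* (W ≃ₗ[ZMod p] W)) (g h : G) : rr ρ (g * h) = rr ρ g * rr ρ h := by
  ext w; simp [rr, Module.End.mul_apply]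

theorem rr_one (ρ : G →* (W ≃ₗ[ZMod p] W)) : rr ρ 1 = 1 := by
  ext w; simp [rr]

/-- the elements whose action commutes with `c` -/
def commSub (ρ : G →* (W ≃ₗ[ZMod p] W)) (c : Module.End (ZMod p) W) : Subgroup G where
  carrier := {g | rr ρ g * c = c * rr ρ g}
  mul_mem' := by
    intro g h hg hh
    show rr ρ (g * h) * c = c * rr ρ (g * h)
    rw [rr_mul, mul_assoc, hh, ← mul_assoc, hg, mul_assoc]
  one_mem' := by
    show rr ρ 1 * c = c * rr ρ 1
    rw [rr_one, one_mul, mul_one]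
  inv_mem' := by
    intro g hg
    show rr ρ g⁻¹ * c = c * rr ρ g⁻¹
    have h1 : rr ρ g⁻¹ * rr ρ g = 1 := by rw [← rr_mul, inv_mul_cancel, rr_one]
    have h2 : rr ρ g * rr ρ g⁻¹ = 1 := by rw [← rr_mul, mul_inv_cancel, rr_one]
    calc rr ρ g⁻¹ * c = rr ρ g⁻¹ * c * (rr ρ g * rr ρ g⁻¹) := by rw [h2, mul_one]
      _ = rr ρ g⁻¹ * (c * rr ρ g) * rr ρ g⁻¹ := by simp only [mul_assoc]
      _ = rr ρ g⁻¹ * (rr ρ g * c) * rr ρ g⁻¹ := by
          have : rr ρ g * c = c * rr ρ g := hg
          rw [this]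
      _ = (rr ρ g⁻¹ * rr ρ g) * c * rr ρ g⁻¹ := by simp only [mul_assoc]
      _ = c * rr ρ g⁻¹ := by rw [h1, one_mul]

theorem quad_sq_zero {ρ : G →* (W ≃ₗ[ZMod p] W)} {a : G} (ha : Quad (ρ a)) :
    (rr ρ a - 1) * (rr ρ a - 1) = 0 := by
  ext w
  simp only [Module.End.mul_apply, LinearMap.sub_apply, rr_apply, Module.End.one_apply,
    LinearMap.zero_apply]
  have := ha w
  rw [map_sub] at this ⊢
  rw [sub_eq_zero]
  exact this

/-- kernels of maps commuting with the action are invariant -/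
theorem ker_invariant {ρ : G →* (W ≃ₗ[ZMod p] W)} {d : Module.End (ZMod p) W}
    (hd : ∀ g, rr ρ g * d = d * rr ρ g) (g : G) (u : W) (hu : u ∈ LinearMap.ker d) :
    ρ g u ∈ LinearMap.ker d := by
  rw [LinearMap.mem_ker] at hu ⊢
  have := congrArg (fun f : Module.End (ZMod p) W => f u) (hd g)
  simp only [Module.End.mul_apply, rr_apply] at this
  rw [← this, hu, map_zero]

end irreducible

end Cfsg.Agent.Lib.H1.QdSec

namespace Cfsg.Agent.Lib.H1.QdSec

open Cfsg.Agent.Lib.H1.QuadPair Cfsg.Agent.Lib.H16 Cfsg.Agent.Lib.H1.SL2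

universe u

variable {p : ℕ} [hp : Fact p.Prime]

variable {W : Type u} [AddCommGroup W] [Module (ZMod p) W] {G : Type*} [Group G]

/-- Step 1: the element `c = αβ + βα` is injective on an irreducible module where the group does not
act as a `p`-group -/
theorem c_injective [Nontrivial W] (ρ : G →* (W ≃ₗ[ZMod p] W)) {a b : G}
    (hgen : Subgroup.closure ({a, b} : Set G) = ⊤) (ha : Quad (ρ a)) (hb : Quad (ρ b))
    (hnp : ¬ PImg p ρ)
    (hirr : ∀ U : Submodule (ZMod p) W, (∀ g, ∀ u ∈ U, ρ g u ∈ U) → U = ⊥ ∨ U = ⊤)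
    (c : Module.End (ZMod p) W)
    (hc : c = (rr ρ a - 1) * (rr ρ b - 1) + (rr ρ b - 1) * (rr ρ a - 1)) :
    (∀ g, rr ρ g * c = c * rr ρ g) ∧ Function.Injective c := by
  have hα := quad_sq_zero ha
  have hβ := quad_sq_zero hb
  obtain ⟨α, hαdef⟩ : ∃ α, α = rr ρ a - 1 := ⟨_, rfl⟩
  obtain ⟨β, hβdef⟩ : ∃ β, β = rr ρ b - 1 := ⟨_, rfl⟩
  rw [← hαdef] at hα hc
  rw [← hβdef] at hβ hc
  have hcα : c * α = α * c := by
    rw [hc, add_mul, mul_add, mul_assoc, mul_assoc, hα, mul_zero, add_zero, ← mul_assoc α α β, hα,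
      zero_mul, zero_add]
  have hcβ : c * β = β * c := by
    rw [hc, add_mul, mul_add, mul_assoc, mul_assoc, hβ, mul_zero, zero_add, ← mul_assoc β β α, hβ,
      zero_mul, add_zero]
  have hra : rr ρ a = 1 + α := by rw [hαdef]; abel
  have hrb : rr ρ b = 1 + β := by rw [hβdef]; abel
  have hcomm : ∀ g, rr ρ g * c = c * rr ρ g := by
    intro g
    have : g ∈ commSub ρ c := by
      apply forall_of_gen hgen (commSub ρ c)
      · show rr ρ a * c = c * rr ρ a
        rw [hra, add_mul, mul_add, one_mul, mul_one, hcα]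
      · show rr ρ b * c = c * rr ρ b
        rw [hrb, add_mul, mul_add, one_mul, mul_one, hcβ]
    exact this
  refine ⟨hcomm, ?_⟩
  rcases hirr (LinearMap.ker c) (fun g u hu => ker_invariant hcomm g u hu) with h | h
  · exact LinearMap.ker_eq_bot.mp h
  · exfalso
    have hc0 : c = 0 := LinearMap.ker_eq_top.mp h
    -- `ker α` is invariant
    have hstabα : ∀ g, ρ g ∈ stab (LinearMap.ker α) := by
      apply forall_of_gen hgen ((stab (LinearMap.ker α)).comap ρ)
      · apply ha.mem_stab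
        intro u hu
        rw [LinearMap.mem_ker] at hu ⊢
        have h1 : ρ a u = u + α u := by
          have := congrArg (fun f : Module.End (ZMod p) W => f u) hra
          simpa [rr_apply] using this
        rw [h1, hu, add_zero, hu]
      · apply hb.mem_stab
        intro u hu
        rw [LinearMap.mem_ker] at hu ⊢
        have h1 : ρ b u = u + β u := by
          have := congrArg (fun f : Module.End (ZMod p) W => f u) hrb
          simpa [rr_apply] using this
        have h2 : α (β u) + β (α u) = 0 := by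
          have := congrArg (fun f : Module.End (ZMod p) W => f u) hc
          rw [hc0] at this
          simpa [Module.End.mul_apply] using this.symm
        rw [h1, map_add, hu]
        rw [hu, map_zero, add_zero] at h2
        rw [h2, add_zero]
    have hstabβ : ∀ g, ρ g ∈ stab (LinearMap.ker β) := by
      apply forall_of_gen hgen ((stab (LinearMap.ker β)).comap ρ)
      · apply ha.mem_stab
        intro u hu
        rw [LinearMap.mem_ker] at hu ⊢
        have h1 : ρ a u = u + α u := by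
          have := congrArg (fun f : Module.End (ZMod p) W => f u) hra
          simpa [rr_apply] using this
        have h2 : α (β u) + β (α u) = 0 := by
          have := congrArg (fun f : Module.End (ZMod p) W => f u) hc
          rw [hc0] at this
          simpa [Module.End.mul_apply] using this.symm
        rw [h1, map_add, hu]
        rw [hu, map_zero, zero_add] at h2
        rw [h2, add_zero]
      · apply hb.mem_stab
        intro u hu
        rw [LinearMap.mem_ker] at hu ⊢
        have h1 : ρ b u = u + β u := by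
          have := congrArg (fun f : Module.End (ZMod p) W => f u) hrb
          simpa [rr_apply] using this
        rw [h1, hu, add_zero, hu]
    have key : ∀ γ : Module.End (ZMod p) W, γ * γ = 0 → (∀ g, ρ g ∈ stab (LinearMap.ker γ)) →
        γ = 0 := by
      intro γ hγ hst
      rcases hirr (LinearMap.ker γ) (fun g u hu => ((mem_stab.mp (hst g)) u).mpr hu) with h | h
      · exfalso
        obtain ⟨w, hw⟩ := exists_ne (0 : W)
        apply hw
        have h1 : γ w ∈ LinearMap.ker γ := by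
          rw [LinearMap.mem_ker]
          have := congrArg (fun f : Module.End (ZMod p) W => f w) hγ
          simpa [Module.End.mul_apply] using this
        rw [h, Submodule.mem_bot] at h1
        have h2 : w ∈ LinearMap.ker γ := LinearMap.mem_ker.mpr h1
        rw [h, Submodule.mem_bot] at h2
        exact h2
      · exact LinearMap.ker_eq_top.mp h
    have hα0 := key α hα hstabα
    have hβ0 := key β hβ hstabβ
    apply hnp
    intro g
    refine ⟨0, ?_⟩
    rw [pow_zero, pow_one]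
    have : g ∈ ρ.ker := by
      apply forall_of_gen hgen ρ.ker
      · rw [MonoidHom.mem_ker]
        ext w
        have := congrArg (fun f : Module.End (ZMod p) W => f w) hra
        simpa [rr_apply, hα0] using this
      · rw [MonoidHom.mem_ker]
        ext w
        have := congrArg (fun f : Module.End (ZMod p) W => f w) hrb
        simpa [rr_apply, hβ0] using this
    exact this

end Cfsg.Agent.Lib.H1.QdSec

namespace Cfsg.Agent.Lib.H1.QdSec

open Cfsg.Agent.Lib.H1.QuadPair Cfsg.Agent.Lib.H16 Cfsg.Agent.Lib.H1.SL2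

universe u

variable {p : ℕ} [hp : Fact p.Prime]

variable {W : Type u} [AddCommGroup W] [Module (ZMod p) W] {G : Type*} [Group G]

/-- Step 2: realize the action through `SL₂(L)` for a finite field `L` -/
theorem exists_theta [Finite W] [Nontrivial W] (ρ : G →* (W ≃ₗ[ZMod p] W)) {a b : G}
    (hgen : Subgroup.closure ({a, b} : Set G) = ⊤) (ha : Quad (ρ a)) (hb : Quad (ρ b))
    (hnp : ¬ PImg p ρ)
    (hirr : ∀ U : Submodule (ZMod p) W, (∀ g, ∀ u ∈ U, ρ g u ∈ U) → U = ⊥ ∨ U = ⊤) :
    ∃ (L : Type u) (_ : Field L) (_ : Fintype L) (_ : CharP L p)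
      (θ : Matrix (Fin 2) (Fin 2) L →+* Module.End (ZMod p) W) (cL : L),
      thetaU θ (uu 1) = ρ a ∧ thetaU θ (ll cL) = ρ b := by
  obtain ⟨c, hc⟩ : ∃ c, c = (rr ρ a - 1) * (rr ρ b - 1) + (rr ρ b - 1) * (rr ρ a - 1) := ⟨_, rfl⟩
  obtain ⟨hcomm, hcinj⟩ := c_injective ρ hgen ha hb hnp hirr c hc
  have hadj : ∀ d ∈ Algebra.adjoin (ZMod p) ({c} : Set (Module.End (ZMod p) W)),
      ∀ g, rr ρ g * d = d * rr ρ g := fun d hd g => (adjoin_commute c hd (hcomm g)).symm
  have hinj : ∀ d ∈ Algebra.adjoin (ZMod p) ({c} : Set (Module.End (ZMod p) W)), d ≠ 0 →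
      Function.Injective d := by
    intro d hd hd0
    rcases hirr (LinearMap.ker d) (fun g u hu => ker_invariant (hadj d hd) g u hu) with h | h
    · exact LinearMap.ker_eq_bot.mp h
    · exact absurd (LinearMap.ker_eq_top.mp h) hd0
  obtain ⟨L, instF, instFt, instC, ι, cL, hιc, hιmem⟩ := exists_field_of_adjoin c hinj
  have hα := quad_sq_zero ha
  have hβ := quad_sq_zero hb
  obtain ⟨α, hαdef⟩ : ∃ α, α = rr ρ a - 1 := ⟨_, rfl⟩
  obtain ⟨β, hβdef⟩ : ∃ β, β = rr ρ b - 1 := ⟨_, rfl⟩
  rw [← hαdef] at hα hc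
  rw [← hβdef] at hβ hc
  have hra : rr ρ a = 1 + α := by rw [hαdef]; abel
  have hrb : rr ρ b = 1 + β := by rw [hβdef]; abel
  have hαc : α * c = c * α := by
    have := hcomm a
    rw [hra, add_mul, mul_add, one_mul, mul_one] at this
    exact add_left_cancel this
  have hβc : β * c = c * β := by
    have := hcomm b
    rw [hrb, add_mul, mul_add, one_mul, mul_one] at this
    exact add_left_cancel this
  have hια : ∀ l, ι l * α = α * ι l := fun l => adjoin_commute c (hιmem l) hαc
  have hιβ : ∀ l, ι l * β = β * ι l := fun l => adjoin_commute c (hιmem l) hβc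
  have hcL0 : cL ≠ 0 := by
    intro h
    rw [h, map_zero] at hιc
    obtain ⟨w, hw⟩ := exists_ne (0 : W)
    apply hw
    apply hcinj
    rw [← hιc]; simp
  obtain ⟨k, hk⟩ : ∃ k : L, k = cL⁻¹ := ⟨_, rfl⟩
  have hck : ι cL * ι k = 1 := by rw [← map_mul, hk, mul_inv_cancel₀ hcL0, map_one]
  obtain ⟨N₂, hN₂⟩ : ∃ N₂, N₂ = β * ι k := ⟨_, rfl⟩
  have h22 : N₂ * N₂ = 0 := by
    rw [hN₂, mul_assoc, ← mul_assoc (ι k), hιβ, mul_assoc, ← mul_assoc, ← mul_assoc, hβ, zero_mul,
      zero_mul]
  have h12 : α * N₂ + N₂ * α = 1 := by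
    rw [hN₂, mul_assoc β, hια k, ← mul_assoc, ← mul_assoc, ← add_mul, ← hc, ← hιc, hck]
  have hc2 : ∀ l, ι l * N₂ = N₂ * ι l := by
    intro l
    rw [hN₂, ← mul_assoc, hιβ, mul_assoc, mul_assoc, ← map_mul, ← map_mul, mul_comm]
  refine ⟨L, instF, instFt, instC, matrixUnitsHom₂ ι α N₂ hα h22 h12 hια hc2, cL, ?_, ?_⟩
  · ext w
    rw [thetaU_apply, matrixUnitsHom₂_apply]
    have h1 : rr ρ a w = w + α w := by rw [hra]; rfl
    rw [← rr_apply, h1]
    simp only [uu_coe, Matrix.cons_val', Matrix.cons_val_zero, Matrix.cons_val_one,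
      Matrix.of_apply, map_one, map_zero, one_mul, zero_mul, zero_add]
    have h3 : α * N₂ + α + N₂ * α = 1 + α := by rw [← h12]; abel
    have := congrArg (fun f : Module.End (ZMod p) W => f w) h3
    simpa [add_assoc] using this
  · ext w
    rw [thetaU_apply, matrixUnitsHom₂_apply]
    have h1 : rr ρ b w = w + β w := by rw [hrb]; rfl
    rw [← rr_apply, h1]
    simp only [ll_coe, Matrix.cons_val', Matrix.cons_val_zero, Matrix.cons_val_one,
      Matrix.of_apply, map_one, map_zero, one_mul, zero_mul, add_zero]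
    have h4 : ι cL * N₂ = β := by
      rw [hN₂, ← mul_assoc, hιβ, mul_assoc, hck, mul_one]
    have h3 : α * N₂ + (ι cL * N₂ + N₂ * α) = 1 + β := by rw [h4, ← h12]; abel
    have := congrArg (fun f : Module.End (ZMod p) W => f w) h3
    simpa [add_assoc] using this

end Cfsg.Agent.Lib.H1.QdSec

namespace Cfsg.Agent.Lib.H1.QdSec

open Cfsg.Agent.Lib.H1.QuadPair Cfsg.Agent.Lib.H16 Cfsg.Agent.Lib.H1.SL2

universe u

variable {p : ℕ} [hp : Fact p.Prime]

variable {W : Type u} [AddCommGroup W] [Module (ZMod p) W] {G : Type*} [Group G]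

/-- Step 3: from Dickson's theorem, a pair of matrix units over `𝔽_p` inside the image of `ρ` -/
theorem exists_xi [Finite W] [Nontrivial W] (hp2 : p ≠ 2) (hD : DicksonHyp.{u} p)
    (ρ : G →* (W ≃ₗ[ZMod p] W)) {a b : G}
    (hgen : Subgroup.closure ({a, b} : Set G) = ⊤) (ha : Quad (ρ a)) (hb : Quad (ρ b))
    (hnp : ¬ PImg p ρ)
    (hirr : ∀ U : Submodule (ZMod p) W, (∀ g, ∀ u ∈ U, ρ g u ∈ U) → U = ⊥ ∨ U = ⊤) :
    ∃ (N₁ N₂ : Module.End (ZMod p) W) (h11 : N₁ * N₁ = 0) (h22 : N₂ * N₂ = 0)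
      (h12 : N₁ * N₂ + N₂ * N₁ = 1),
      (thetaU (xiHom N₁ N₂ h11 h22 h12)).range ≤ ρ.range := by
  obtain ⟨L, instF, instFt, instC, θ, cL, hθa, hθb⟩ := exists_theta ρ hgen ha hb hnp hirr
  obtain ⟨Λ, hΛ⟩ : ∃ Λ : Subgroup (Matrix.SpecialLinearGroup (Fin 2) L),
    Λ = Subgroup.closure {uu 1, ll cL} := ⟨_, rfl⟩
  have hΛmap : Λ.map (thetaU θ) = ρ.range := by
    rw [hΛ, MonoidHom.map_closure, Set.image_insert_eq, Set.image_singleton, hθa, hθb,
      MonoidHom.range_eq_map, ← hgen, MonoidHom.map_closure, Set.image_insert_eq,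
      Set.image_singleton]
  have huΛ : uu (1 : L) ∈ Λ := by rw [hΛ]; exact Subgroup.subset_closure (by simp)
  have hlΛ : ll cL ∈ Λ := by rw [hΛ]; exact Subgroup.subset_closure (by simp)
  have hsyl : 1 < Nat.card (Sylow p Λ) := by
    by_contra hcon
    push Not at hcon
    have hΛp : IsPGroup p Λ := by
      refine isPGroup_of_card_sylow_le_one (x := ⟨uu 1, huΛ⟩) (y := ⟨ll cL, hlΛ⟩)
        (closure_pair_subtype _ _ Λ hΛ huΛ hlΛ) ?_ ?_ hcon
      · exact Subtype.ext (uu_pow_p p 1)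
      · exact Subtype.ext (ll_pow_p p cL)
    apply hnp
    rw [pImg_iff_range, ← hΛmap]
    exact hΛp.map _
  obtain ⟨K, hKΛ, ⟨e⟩⟩ := hD L Λ hsyl
  obtain ⟨a', ha'⟩ : ∃ a' : Matrix.SpecialLinearGroup (Fin 2) L, a' = (e.symm (uu 1) : K) := ⟨_, rfl⟩
  obtain ⟨b', hb'⟩ : ∃ b' : Matrix.SpecialLinearGroup (Fin 2) L, b' = (e.symm (ll 1) : K) := ⟨_, rfl⟩
  have ha'Λ : a' ∈ Λ := ha' ▸ hKΛ (e.symm (uu 1)).2
  have hb'Λ : b' ∈ Λ := hb' ▸ hKΛ (e.symm (ll 1)).2
  have ha'p : a' ^ p = 1 := by
    have : (e.symm (uu 1)) ^ p = 1 := by rw [← map_pow, uu_pow_p, map_one]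
    rw [ha', ← Subgroup.coe_pow, this, Subgroup.coe_one]
  have hb'p : b' ^ p = 1 := by
    have : (e.symm (ll 1)) ^ p = 1 := by rw [← map_pow, ll_pow_p, map_one]
    rw [hb', ← Subgroup.coe_pow, this, Subgroup.coe_one]
  have hta : tr a' = 2 := tr_eq_two_of_pow a' 1 (by rwa [pow_one])
  have htb : tr b' = 2 := tr_eq_two_of_pow b' 1 (by rwa [pow_one])
  have hw : a' * b'⁻¹ * a' = ((e.symm (uu 1 * (ll 1)⁻¹ * uu 1) : K) : Matrix.SpecialLinearGroup (Fin 2) L) := by
    rw [map_mul, map_mul, map_inv, ha', hb']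
    rfl
  obtain ⟨hrel4, hrel2⟩ := uu_ll_rel p hp2
  have hw4 : (a' * b'⁻¹ * a') ^ 4 = 1 := by
    rw [hw, ← Subgroup.coe_pow, ← map_pow, hrel4, map_one, Subgroup.coe_one]
  have hw2 : (a' * b'⁻¹ * a') ^ 2 ≠ 1 := by
    rw [hw, ← Subgroup.coe_pow, ← map_pow]
    intro h
    apply hrel2
    have h1 : e.symm ((uu 1 * (ll 1)⁻¹ * uu 1) ^ 2) = 1 := Subtype.ext h
    rw [← map_one e.symm] at h1
    exact e.symm.injective h1
  have h2L : (2 : L) ≠ 0 := by
    intro h
    have h3 : ((2 : ℕ) : L) = 0 := by exact_mod_cast h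
    rw [CharP.cast_eq_zero_iff L p] at h3
    exact hp2 ((Nat.prime_dvd_prime_iff_eq hp.out Nat.prime_two).mp h3)
  have hrel := anticomm_eq_one a' b' h2L hta htb hw2 hw4
  have hsqa : ((a' : M2 L) - 1) * ((a' : M2 L) - 1) = 0 := by
    rw [sub_one_sq, hta, sub_self, zero_smul]
  have hsqb : ((b' : M2 L) - 1) * ((b' : M2 L) - 1) = 0 := by
    rw [sub_one_sq, htb, sub_self, zero_smul]
  obtain ⟨N₁, hN₁⟩ : ∃ N₁, N₁ = θ ((a' : M2 L) - 1) := ⟨_, rfl⟩
  obtain ⟨N₂, hN₂⟩ : ∃ N₂, N₂ = θ ((b' : M2 L) - 1) := ⟨_, rfl⟩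
  have h11 : N₁ * N₁ = 0 := by rw [hN₁, ← map_mul, hsqa, map_zero]
  have h22 : N₂ * N₂ = 0 := by rw [hN₂, ← map_mul, hsqb, map_zero]
  have h12 : N₁ * N₂ + N₂ * N₁ = 1 := by
    rw [hN₁, hN₂, ← map_mul, ← map_mul, ← map_add, hrel, map_one]
  refine ⟨N₁, N₂, h11, h22, h12, ?_⟩
  have h1 : thetaU (xiHom N₁ N₂ h11 h22 h12) (uu 1) = thetaU θ a' := by
    ext w
    rw [thetaU_apply, thetaU_apply, xiHom_apply]
    simp only [uu_coe, Matrix.cons_val', Matrix.cons_val_zero, Matrix.cons_val_one,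
      Matrix.of_apply, one_smul, zero_smul, zero_add]
    have h3 : N₁ * N₂ + N₁ + N₂ * N₁ = θ (a' : M2 L) := by
      have : θ (a' : M2 L) = 1 + N₁ := by rw [hN₁, map_sub, map_one]; abel
      rw [this, ← h12]; abel
    have := congrArg (fun f : Module.End (ZMod p) W => f w) h3
    simpa [add_assoc] using this
  have h2 : thetaU (xiHom N₁ N₂ h11 h22 h12) (ll 1) = thetaU θ b' := by
    ext w
    rw [thetaU_apply, thetaU_apply, xiHom_apply]
    simp only [ll_coe, Matrix.cons_val', Matrix.cons_val_zero, Matrix.cons_val_one,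
      Matrix.of_apply, one_smul, zero_smul, add_zero]
    have h3 : N₁ * N₂ + (N₂ + N₂ * N₁) = θ (b' : M2 L) := by
      have : θ (b' : M2 L) = 1 + N₂ := by rw [hN₂, map_sub, map_one]; abel
      rw [this, ← h12]; abel
    have := congrArg (fun f : Module.End (ZMod p) W => f w) h3
    simpa [add_assoc] using this
  rw [MonoidHom.range_eq_map, ← closure_uu_ll p, MonoidHom.map_closure, Set.image_insert_eq,
    Set.image_singleton, h1, h2, ← hΛmap, Subgroup.closure_le]
  rintro x (rfl | rfl)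
  · exact ⟨a', ha'Λ, rfl⟩
  · exact ⟨b', hb'Λ, rfl⟩

end Cfsg.Agent.Lib.H1.QdSec

namespace Cfsg.Agent.Lib.H1.QdSec

open Cfsg.Agent.Lib.H1.QuadPair Cfsg.Agent.Lib.H16 Cfsg.Agent.Lib.H1.SL2

universe u

variable {p : ℕ} [hp : Fact p.Prime]

variable {W : Type u} [AddCommGroup W] [Module (ZMod p) W] {G : Type*} [Group G]

/-- **irreducible case**: a natural `SL₂(p)`-section -/
theorem natSec_of_irreducible [Finite W] [Nontrivial W] (hp2 : p ≠ 2) (hD : DicksonHyp.{u} p)
    (ρ : G →* (W ≃ₗ[ZMod p] W)) {a b : G}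
    (hgen : Subgroup.closure ({a, b} : Set G) = ⊤) (ha : Quad (ρ a)) (hb : Quad (ρ b))
    (hnp : ¬ PImg p ρ)
    (hirr : ∀ U : Submodule (ZMod p) W, (∀ g, ∀ u ∈ U, ρ g u ∈ U) → U = ⊥ ∨ U = ⊤) :
    Nonempty (NatSec ρ) := by
  obtain ⟨N₁, N₂, h11, h22, h12, hrange⟩ := exists_xi hp2 hD ρ hgen ha hb hnp hirr
  obtain ⟨Ξ, hΞ⟩ : ∃ Ξ, Ξ = xiHom N₁ N₂ h11 h22 h12 := ⟨_, rfl⟩
  rw [← hΞ] at hrange
  have hnt : Nontrivial (Module.End (ZMod p) W) := by
    refine ⟨⟨0, 1, ?_⟩⟩
    intro h
    obtain ⟨w, hw⟩ := exists_ne (0 : W)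
    apply hw
    have := congrArg (fun f : Module.End (ZMod p) W => f w) h
    simpa using this.symm
  have hΞinj : Function.Injective Ξ := RingHom.injective Ξ
  have hUinj : Function.Injective (thetaU Ξ) := thetaU_injective Ξ hΞinj
  obtain ⟨j, hj, hjM⟩ := exists_natural N₁ N₂ h11 h22 h12
  rw [← hΞ] at hjM
  obtain ⟨φ, hφ⟩ : ∃ φ : ((thetaU Ξ).range.comap ρ : Subgroup G) →*
      Matrix.SpecialLinearGroup (Fin 2) (ZMod p),
      φ = (MonoidHom.ofInjective hUinj).symm.toMonoidHom.comp (ρ.subgroupComap (thetaU Ξ).range) :=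
    ⟨_, rfl⟩
  have key : ∀ g : ((thetaU Ξ).range.comap ρ : Subgroup G), thetaU Ξ (φ g) = ρ g := by
    intro g
    rw [hφ]
    simp only [MonoidHom.comp_apply, MulEquiv.coe_toMonoidHom]
    have := (MonoidHom.ofInjective hUinj).apply_symm_apply (ρ.subgroupComap (thetaU Ξ).range g)
    have h2 := congrArg Subtype.val this
    rw [MonoidHom.ofInjective_apply] at h2
    exact h2
  have hinv : ∀ g ∈ ((thetaU Ξ).range.comap ρ : Subgroup G), ∀ x ∈ LinearMap.range j,
      ρ g x ∈ LinearMap.range j := by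
    rintro g hg _ ⟨y, rfl⟩
    rw [← key ⟨g, hg⟩, thetaU_apply, hjM]
    exact ⟨_, rfl⟩
  obtain ⟨κ, hκ⟩ := LinearMap.exists_extend
    ((LinearEquiv.ofInjective j hj).symm.toLinearMap)
  have hκj : ∀ y, κ (j y) = y := by
    intro y
    have := congrArg (fun f : LinearMap.range j →ₗ[ZMod p] (Fin 2 → ZMod p) => f ⟨j y, ⟨y, rfl⟩⟩) hκ
    simp only [LinearMap.comp_apply, Submodule.subtype_apply, LinearEquiv.coe_coe] at this
    rw [this, LinearEquiv.symm_apply_eq]
    apply Subtype.ext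
    rw [LinearEquiv.ofInjective_apply]
  refine ⟨{ G₁ := (thetaU Ξ).range.comap ρ
            φ := φ
            hφ := ?_
            U₀ := LinearMap.range j
            κ := κ
            hκ := fun y => ⟨j y, ⟨y, rfl⟩, hκj y⟩
            inv := hinv
            equiv := ?_ }⟩
  · intro M
    have hM : thetaU Ξ M ∈ ρ.range := hrange ⟨M, rfl⟩
    obtain ⟨g, hg⟩ := hM
    have hgG : g ∈ ((thetaU Ξ).range.comap ρ : Subgroup G) := by
      rw [Subgroup.mem_comap, hg]; exact ⟨M, rfl⟩
    refine ⟨⟨g, hgG⟩, ?_⟩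
    apply hUinj
    rw [key]
    exact hg
  · rintro g _ ⟨y, rfl⟩
    rw [← key g, thetaU_apply, hjM, hκj, hκj]

end Cfsg.Agent.Lib.H1.QdSec

namespace Cfsg.Agent.Lib.H1.QdSec

open Cfsg.Agent.Lib.H1.QuadPair Cfsg.Agent.Lib.H16 Cfsg.Agent.Lib.H1.SL2

universe u

variable {p : ℕ} [hp : Fact p.Prime]

variable {V : Type u} [AddCommGroup V] [Module (ZMod p) V] {G : Type*} [Group G]

/-- transport a natural section from an invariant submodule -/
theorem NatSec.ofSub {ρ : G →* (V ≃ₗ[ZMod p] V)} (U : Submodule (ZMod p) V) (ρS : G →* stab U)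
    (hρS : ∀ g, (ρS g : V ≃ₗ[ZMod p] V) = ρ g) (s : NatSec ((resU U).comp ρS)) :
    Nonempty (NatSec ρ) := by
  obtain ⟨κ, hκ⟩ := LinearMap.exists_extend s.κ
  have hκU : ∀ y : U, κ (y : V) = s.κ y := by
    intro y
    have := congrArg (fun f : U →ₗ[ZMod p] (Fin 2 → ZMod p) => f y) hκ
    simpa using this
  have hact : ∀ (g : G) (y : U), ρ g (y : V) = ((resU U (ρS g)) y : V) := by
    intro g y
    rw [resU_apply, hρS]
  refine ⟨{ G₁ := s.G₁
            φ := s.φ
            hφ := s.hφ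
            U₀ := s.U₀.map U.subtype
            κ := κ
            hκ := ?_
            inv := ?_
            equiv := ?_ }⟩
  · intro y
    obtain ⟨x, hx, hxy⟩ := s.hκ y
    exact ⟨(x : V), ⟨x, hx, rfl⟩, by rw [hκU, hxy]⟩
  · rintro g hg _ ⟨y, hy, rfl⟩
    refine ⟨(resU U (ρS g)) y, s.inv g hg y hy, ?_⟩
    rw [Submodule.subtype_apply, Submodule.subtype_apply, hact]
  · rintro g _ ⟨y, hy, rfl⟩
    rw [Submodule.subtype_apply, hact, hκU, hκU]
    exact s.equiv g y hy

/-- transport a natural section from the quotient by an invariant submodule -/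
theorem NatSec.ofQuot {ρ : G →* (V ≃ₗ[ZMod p] V)} (U : Submodule (ZMod p) V) (ρS : G →* stab U)
    (hρS : ∀ g, (ρS g : V ≃ₗ[ZMod p] V) = ρ g) (s : NatSec ((resQ U).comp ρS)) :
    Nonempty (NatSec ρ) := by
  have hact : ∀ (g : G) (x : V), U.mkQ (ρ g x) = (resQ U (ρS g)) (U.mkQ x) := by
    intro g x
    rw [Submodule.mkQ_apply, Submodule.mkQ_apply, resQ_apply, hρS]
  refine ⟨{ G₁ := s.G₁
            φ := s.φ
            hφ := s.hφ
            U₀ := s.U₀.comap U.mkQ
            κ := s.κ.comp U.mkQ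
            hκ := ?_
            inv := ?_
            equiv := ?_ }⟩
  · intro y
    obtain ⟨x, hx, hxy⟩ := s.hκ y
    obtain ⟨z, rfl⟩ := U.mkQ_surjective x
    exact ⟨z, hx, hxy⟩
  · intro g hg x hx
    rw [Submodule.mem_comap] at hx ⊢
    rw [hact]
    exact s.inv g hg _ hx
  · intro g x hx
    rw [Submodule.mem_comap] at hx
    rw [LinearMap.comp_apply, LinearMap.comp_apply, hact]
    exact s.equiv g _ hx

/-- **natural `SL₂(p)`-section** for a group generated by two quadratic elements which does not act as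
a `p`-group (given Dickson's theorem) -/
theorem natSec_of_not_pImg_aux (hp2 : p ≠ 2) (hD : DicksonHyp.{u} p) {a b : G}
    (hgen : Subgroup.closure ({a, b} : Set G) = ⊤) :
    ∀ n : ℕ, ∀ (V : Type u) [AddCommGroup V] [Module (ZMod p) V] [Module.Finite (ZMod p) V]
      (ρ : G →* (V ≃ₗ[ZMod p] V)), Module.finrank (ZMod p) V = n → Quad (ρ a) → Quad (ρ b) →
      ¬ PImg p ρ → Nonempty (NatSec ρ) := by
  intro n
  induction n using Nat.strong_induction_on with
  | _ n ih =>
  intro V _ _ _ ρ hn ha hb hnp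
  have hfinV : Finite V := Module.finite_of_finite (ZMod p)
  by_cases hirr : ∀ U : Submodule (ZMod p) V, (∀ g, ∀ u ∈ U, ρ g u ∈ U) → U = ⊥ ∨ U = ⊤
  · have hnt : Nontrivial V := by
      by_contra hcon
      rw [not_nontrivial_iff_subsingleton] at hcon
      apply hnp
      intro g
      refine ⟨0, ?_⟩
      ext v
      exact Subsingleton.elim _ _
    exact natSec_of_irreducible hp2 hD ρ hgen ha hb hnp hirr
  · push Not at hirr
    obtain ⟨U, hUinv, hUbot, hUtop⟩ := hirr
    have hstab : ∀ g, ρ g ∈ stab U := by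
      apply forall_of_gen hgen ((stab U).comap ρ)
      · exact ha.mem_stab (hUinv a)
      · exact hb.mem_stab (hUinv b)
    have hUpos : 0 < Module.finrank (ZMod p) U := by
      rw [Module.finrank_pos_iff (R := ZMod p)]
      exact (Submodule.nontrivial_iff_ne_bot).mpr hUbot
    have hUlt : Module.finrank (ZMod p) U < Module.finrank (ZMod p) V := Submodule.finrank_lt hUtop
    have hquot := Submodule.finrank_quotient_add_finrank U
    obtain ⟨ρS, hρS⟩ : ∃ ρS : G →* stab U, ρS = ρ.codRestrict (stab U) hstab := ⟨_, rfl⟩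
    have hρSv : ∀ g, (ρS g : V ≃ₗ[ZMod p] V) = ρ g := by
      intro g; rw [hρS]; rfl
    have hcase : ¬ PImg p ((resU U).comp ρS) ∨ ¬ PImg p ((resQ U).comp ρS) := by
      by_contra hcon
      push Not at hcon
      apply hnp
      have := pImg_of_res U ρS hcon.1 hcon.2
      intro g
      obtain ⟨k, hk⟩ := this g
      refine ⟨k, ?_⟩
      simp only [MonoidHom.comp_apply, Subgroup.subtype_apply, hρSv] at hk
      exact hk
    rcases hcase with hc | hc
    · obtain ⟨s⟩ := ih (Module.finrank (ZMod p) U) (by omega) U ((resU U).comp ρS) rfl (by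
        intro u
        apply Subtype.ext
        simp only [MonoidHom.comp_apply, resU_apply, hρSv, Submodule.coe_sub]
        exact ha u.1) (by
        intro u
        apply Subtype.ext
        simp only [MonoidHom.comp_apply, resU_apply, hρSv, Submodule.coe_sub]
        exact hb u.1) hc
      exact NatSec.ofSub U ρS hρSv s
    · obtain ⟨s⟩ := ih (Module.finrank (ZMod p) (V ⧸ U)) (by omega) (V ⧸ U) ((resQ U).comp ρS) rfl (by
        intro x
        obtain ⟨z, rfl⟩ := Submodule.Quotient.mk_surjective U x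
        simp only [MonoidHom.comp_apply, resQ_apply, hρSv, ← Submodule.Quotient.mk_sub]
        rw [ha z]) (by
        intro x
        obtain ⟨z, rfl⟩ := Submodule.Quotient.mk_surjective U x
        simp only [MonoidHom.comp_apply, resQ_apply, hρSv, ← Submodule.Quotient.mk_sub]
        rw [hb z]) hc
      exact NatSec.ofQuot U ρS hρSv s

/-- **natural `SL₂(p)`-section** -/
theorem natSec_of_not_pImg [Module.Finite (ZMod p) V] (hp2 : p ≠ 2) (hD : DicksonHyp.{u} p)
    (ρ : G →* (V ≃ₗ[ZMod p] V)) {a b : G} (hgen : Subgroup.closure ({a, b} : Set G) = ⊤)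
    (ha : Quad (ρ a)) (hb : Quad (ρ b)) (hnp : ¬ PImg p ρ) : Nonempty (NatSec ρ) :=
  natSec_of_not_pImg_aux hp2 hD hgen _ V ρ rfl ha hb hnp

end Cfsg.Agent.Lib.H1.QdSec

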