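import Mathlib
import Cfsg.Agent.Lib.H1.SL2Basic
import Cfsg.Agent.Lib.H8.PGroup

/-!
# Finite subgroups of `SL₂(K)` generated by `p`-elements (helper1)

`isPGroup_of_abelian_sylow_two`: a finite subgroup of `SL₂(K)`, `char K = p` odd, generated by
elements of order dividing `p` and with abelian Sylow 2-subgroups is a `p`-group (Burnside transfer).
-/

set_option autoImplicit false

namespace Cfsg.Agent.Lib.H1.SL2

open Matrix

variable {K : Type*} [Field K] {p : ℕ} [hp : Fact p.Prime] [CharP K p]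

theorem eq_one_of_pow_coprime {G : Type*} [Group G] {x : G} {m n : ℕ} (hm : x ^ m = 1)
    (hn : x ^ n = 1) (hmn : m.Coprime n) : x = 1 := by
  have h1 : orderOf x ∣ m := orderOf_dvd_of_pow_eq_one hm
  have h2 : orderOf x ∣ n := orderOf_dvd_of_pow_eq_one hn
  exact orderOf_eq_one_iff.mp (Nat.eq_one_of_dvd_coprimes hmn h1 h2)

/-- **finite `r`-subgroups of `SL₂(K)`, `r` odd and `r ≠ p`, are abelian** -/
theorem comm_of_isPGroup_odd {R : Type*} [Group R] [Finite R] (ι : R →* SL K)
    (hι : Function.Injective ι) {r : ℕ} [hr : Fact r.Prime] (hR : IsPGroup r R) (hr2 : r ≠ 2)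
    (hrp : r ≠ p) (a b : R) : a * b = b * a := by
  have hbotc : IsMulCommutative (⊥ : Subgroup R) := ⟨⟨fun a b => Subsingleton.elim _ _⟩⟩
  obtain ⟨A, -, hAn, hAc, hCA⟩ := Cfsg.Agent.Lib.H8.exists_normal_selfCentralizing hR ⊥
  have hcop : ∀ k : ℕ, (r ^ k).Coprime p := fun k =>
    Nat.Coprime.pow_left k ((Nat.coprime_primes hr.out hp.out).mpr hrp)
  have hAtop : ∀ s : R, s ∈ A := by
    intro s
    rw [← hCA, Subgroup.mem_centralizer_iff]
    intro x hx
    obtain ⟨k, hk⟩ := hR s
    have hodd : Odd (orderOf (ι s)) := by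
      rw [orderOf_injective ι hι]
      have hdvd : orderOf s ∣ r ^ k := orderOf_dvd_of_pow_eq_one hk
      have hrodd : Odd r := hr.out.odd_of_ne_two hr2
      exact (hrodd.pow).of_dvd_nat hdvd
    have := commute_of_normalizes (p := p) (A.map ι)
      (by
        rintro _ ⟨u, hu, rfl⟩ _ ⟨v, hv, rfl⟩
        rw [← map_mul, ← map_mul]
        congr 1
        have := hAc.is_comm.comm ⟨u, hu⟩ ⟨v, hv⟩
        exact congrArg Subtype.val this)
      (by
        rintro _ ⟨u, hu, rfl⟩ hup
        rw [← map_pow] at hup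
        have hup' : u ^ p = 1 := hι (by rw [hup, map_one])
        obtain ⟨j, hj⟩ := hR u
        rw [eq_one_of_pow_coprime hj hup' (hcop j), map_one])
      (ι s) hodd
      (by
        rintro _ ⟨u, hu, rfl⟩
        refine ⟨s * u * s⁻¹, hAn.conj_mem u hu s, ?_⟩
        rw [map_mul, map_mul, map_inv])
      (ι x) ⟨x, hx, rfl⟩
    rw [← map_mul, ← map_mul] at this
    exact (hι this).symm
  have := hAc.is_comm.comm ⟨a, hAtop a⟩ ⟨b, hAtop b⟩
  exact congrArg Subtype.val this

/-- normalizer ≤ centralizer criterion for abelian Sylow subgroups of finite subgroups of `SL₂` -/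
theorem mem_centralizer_of_mem_normalizer {L : Type*} [Group L] [Finite L] (ι : L →* SL K)
    (hι : Function.Injective ι) {r : ℕ} [hr : Fact r.Prime] (hrp : r ≠ p) (R : Sylow r L)
    (hab : ∀ a ∈ R, ∀ b ∈ R, a * b = b * a) (g : L)
    (hg : g ∈ Subgroup.normalizer ((R : Subgroup L) : Set L)) (m : ℕ) (hm : Odd m)
    (hgm : g ^ m ∈ R) : g ∈ Subgroup.centralizer ((R : Subgroup L) : Set L) := by
  have hcop : ∀ k : ℕ, (r ^ k).Coprime p := fun k =>
    Nat.Coprime.pow_left k ((Nat.coprime_primes hr.out hp.out).mpr hrp)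
  rw [Subgroup.mem_centralizer_iff]
  intro x hx
  have h2 : g ^ 2 * x = x * g ^ 2 := by
    have := sq_commute_of_normalizes (p := p) ((R : Subgroup L).map ι)
      (by
        rintro _ ⟨u, hu, rfl⟩ _ ⟨v, hv, rfl⟩
        rw [← map_mul, ← map_mul, hab u hu v hv])
      (by
        rintro _ ⟨u, hu, rfl⟩ hup
        rw [← map_pow] at hup
        have hup' : u ^ p = 1 := hι (by rw [hup, map_one])
        obtain ⟨j, hj⟩ := R.isPGroup' ⟨u, hu⟩
        have hj' : u ^ r ^ j = 1 := by
          have := congrArg Subtype.val hj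
          simpa using this
        rw [eq_one_of_pow_coprime hj' hup' (hcop j), map_one])
      (ι g)
      (by
        rintro _ ⟨u, hu, rfl⟩
        refine ⟨g * u * g⁻¹, (Subgroup.mem_normalizer_iff.mp hg u).mp hu, ?_⟩
        rw [map_mul, map_mul, map_inv])
      (ι x) ⟨x, hx, rfl⟩
    rw [← map_pow, ← map_mul, ← map_mul] at this
    exact hι this
  have hm' : g ^ m * x = x * g ^ m := hab _ hgm x hx
  -- g = (g^2)^u * (g^m)^v
  have hcop2 : Nat.Coprime 2 m := (Nat.coprime_two_left).mpr hm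
  have hgcd : ((2 : ℕ) : ℤ) * Nat.gcdA 2 m + (m : ℤ) * Nat.gcdB 2 m = 1 := by
    have := Nat.gcd_eq_gcd_ab 2 m
    rw [hcop2.gcd_eq_one] at this
    exact_mod_cast this.symm
  have hg1 : g = (g ^ 2) ^ (Nat.gcdA 2 m) * (g ^ m) ^ (Nat.gcdB 2 m) := by
    rw [← zpow_natCast g 2, ← zpow_natCast g m, ← _root_.zpow_mul, ← _root_.zpow_mul, ← _root_.zpow_add, hgcd, _root_.zpow_one]
  have c1 : Commute (g ^ 2) x := h2
  have c2 : Commute (g ^ m) x := hm'
  have c3 : Commute ((g ^ 2) ^ (Nat.gcdA 2 m) * (g ^ m) ^ (Nat.gcdB 2 m)) x :=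
    (c1.zpow_left _).mul_left (c2.zpow_left _)
  rw [← hg1] at c3
  exact c3.eq.symm

/-- Sylow subgroups with `N ≤ C` are trivial in a group generated by elements of order `p` -/
theorem sylow_eq_bot_of_generated {L : Type*} [Group L] [Finite L] {r : ℕ} [hr : Fact r.Prime]
    (hrp : r ≠ p) (S : Set L) (hS : Subgroup.closure S = ⊤) (hSp : ∀ s ∈ S, s ^ p = 1)
    (R : Sylow r L)
    (hNC : Subgroup.normalizer ((R : Subgroup L) : Set L) ≤
      Subgroup.centralizer ((R : Subgroup L) : Set L)) : (R : Subgroup L) = ⊥ := by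
  have hcop : ∀ k : ℕ, (r ^ k).Coprime p := fun k =>
    Nat.Coprime.pow_left k ((Nat.coprime_primes hr.out hp.out).mpr hrp)
  have hker : (MonoidHom.transferSylow R hNC).ker = ⊤ := by
    rw [eq_top_iff, ← hS, Subgroup.closure_le]
    intro s hs
    rw [SetLike.mem_coe, MonoidHom.mem_ker]
    have h1 : (MonoidHom.transferSylow R hNC s) ^ p = 1 := by
      rw [← map_pow, hSp s hs, map_one]
    obtain ⟨j, hj⟩ := R.isPGroup' (MonoidHom.transferSylow R hNC s)
    exact eq_one_of_pow_coprime hj h1 (hcop j)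
  have hc := MonoidHom.ker_transferSylow_isComplement' R hNC
  rw [hker] at hc
  exact Subgroup.isComplement'_top_left.mp hc

end Cfsg.Agent.Lib.H1.SL2

namespace Cfsg.Agent.Lib.H1.SL2

open Matrix

variable {K : Type*} [Field K] {p : ℕ} [hp : Fact p.Prime] [CharP K p]

/-- **Theorem E**: a finite subgroup of `SL₂(K)` (`char K = p` odd) generated by elements of order
dividing `p` whose Sylow 2-subgroups are abelian is a `p`-group. -/
theorem isPGroup_of_abelian_sylow_two {L : Type*} [Group L] [Finite L] (ι : L →* SL K)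
    (hι : Function.Injective ι) (hp2 : p ≠ 2) (S : Set L) (hS : Subgroup.closure S = ⊤)
    (hSp : ∀ s ∈ S, s ^ p = 1) (T : Sylow 2 L) (hT : ∀ a ∈ T, ∀ b ∈ T, a * b = b * a) :
    IsPGroup p L := by
  have : Fact (Nat.Prime 2) := ⟨Nat.prime_two⟩
  -- Step 1: the Sylow 2-subgroup is trivial
  have hT1 : (T : Subgroup L) = ⊥ := by
    apply sylow_eq_bot_of_generated (p := p) (Ne.symm hp2) S hS hSp T
    intro g hg
    have hpos : orderOf g ≠ 0 := (orderOf_pos g).ne'
    obtain ⟨k, m, hm, hkm⟩ := Nat.exists_eq_two_pow_mul_odd hpos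
    refine mem_centralizer_of_mem_normalizer ι hι (Ne.symm hp2) T hT g hg m hm ?_
    have hz : IsPGroup 2 (Subgroup.zpowers (g ^ m)) := by
      rintro ⟨y, hy⟩
      obtain ⟨z, rfl⟩ := Subgroup.mem_zpowers_iff.mp hy
      refine ⟨k, Subtype.ext ?_⟩
      show ((g ^ m) ^ z) ^ 2 ^ k = 1
      rw [← zpow_natCast, ← _root_.zpow_mul, mul_comm, _root_.zpow_mul, zpow_natCast, ← pow_mul,
        mul_comm m, ← hkm, pow_orderOf_eq_one, _root_.one_zpow]
    have h1 := hz.inf_normalizer_sylow T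
    have h2 : g ^ m ∈ Subgroup.zpowers (g ^ m) ⊓ Subgroup.normalizer (T : Set L) :=
      ⟨Subgroup.mem_zpowers _, Subgroup.pow_mem _ hg m⟩
    rw [h1] at h2
    exact h2.2
  have hodd : ¬ 2 ∣ Nat.card L := fun h => T.ne_bot_of_dvd_card h hT1
  have hoddL : Odd (Nat.card L) := Nat.odd_iff.mpr (Nat.two_dvd_ne_zero.mp hodd)
  -- Step 2: every prime divisor is `p`
  have hprime : ∀ {r : ℕ}, r.Prime → r ∣ Nat.card L → r = p := by
    intro r hr hdvd
    by_contra hrp
    have : Fact r.Prime := ⟨hr⟩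
    have hr2 : r ≠ 2 := by
      rintro rfl
      exact hodd hdvd
    obtain ⟨R⟩ : Nonempty (Sylow r L) := inferInstance
    have hab : ∀ a ∈ R, ∀ b ∈ R, a * b = b * a := by
      intro a ha b hb
      have := comm_of_isPGroup_odd (p := p) (ι.comp (R : Subgroup L).subtype)
        (hι.comp Subtype.val_injective) R.isPGroup' hr2 hrp ⟨a, ha⟩ ⟨b, hb⟩
      exact congrArg Subtype.val this
    apply R.ne_bot_of_dvd_card hdvd
    apply sylow_eq_bot_of_generated (p := p) hrp S hS hSp R
    intro g hg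
    refine mem_centralizer_of_mem_normalizer ι hι hrp R hab g hg (orderOf g) ?_ ?_
    · exact hoddL.of_dvd_nat (orderOf_dvd_natCard g)
    · rw [pow_orderOf_eq_one]; exact Subgroup.one_mem _
  have hcard := Nat.eq_prime_pow_of_unique_prime_dvd (Nat.card_pos (α := L)).ne' hprime
  exact IsPGroup.of_card hcard

end Cfsg.Agent.Lib.H1.SL2
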