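import Mathlib
import Cfsg.Agent.Lib.H1.SL2Group
import Cfsg.Agent.Lib.H1.CoprimeSylow
import Cfsg.Agent.Lib.H19.ProdCard
import Cfsg.Agent.Lib.H22.Q8Aut
import Cfsg.Agent.Lib.H22.SL23Recog

/-!
# `p`-elements of `SL₂(K)` acting on `p'`-subgroups (helper1)

`sl23_of_action`: a `p`-element `a` of `SL₂(K)` (`K` a finite field of odd characteristic `p`) acting
nontrivially on an invariant `p'`-subgroup `R` forces `p = 3`, `R ≅ Q₈` and `R⟨a⟩ ≅ SL₂(3)`.
-/

set_option autoImplicit false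

namespace Cfsg.Agent.Lib.H1.SL2

open Matrix

variable {K : Type*} [Field K] {p : ℕ} [hp : Fact p.Prime] [CharP K p]

/-- `A` is a normal abelian self-centralizing subgroup of `R` -/
structure SelfCent (R A : Subgroup (SL K)) : Prop where
  le : A ≤ R
  ab : ∀ x ∈ A, ∀ y ∈ A, x * y = y * x
  norm : ∀ s ∈ R, ∀ x ∈ A, s * x * s⁻¹ ∈ A
  cent : ∀ s ∈ R, (∀ x ∈ A, x * s = s * x) → s ∈ A

theorem exists_selfCent (R : Subgroup (SL K)) [Finite R] {r : ℕ} [Fact r.Prime]
    (hR : IsPGroup r R) : ∃ A, SelfCent R A := by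
  have hbotc : IsMulCommutative (⊥ : Subgroup R) := ⟨⟨fun a b => Subsingleton.elim _ _⟩⟩
  obtain ⟨A, -, hAn, hAc, hCA⟩ := Cfsg.Agent.Lib.H8.exists_normal_selfCentralizing hR ⊥
  refine ⟨A.map R.subtype, ?_, ?_, ?_, ?_⟩
  · rintro _ ⟨u, -, rfl⟩
    exact u.2
  · rintro _ ⟨u, hu, rfl⟩ _ ⟨v, hv, rfl⟩
    have := hAc.is_comm.comm ⟨u, hu⟩ ⟨v, hv⟩
    have h2 := congrArg Subtype.val this
    exact congrArg Subtype.val h2
  · rintro s hs _ ⟨u, hu, rfl⟩
    refine Subgroup.mem_map.mpr ⟨(⟨s, hs⟩ : R) * u * (⟨s, hs⟩ : R)⁻¹,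
      hAn.conj_mem u hu ⟨s, hs⟩, ?_⟩
    rw [map_mul, map_mul, map_inv]
    simp only [Subgroup.subtype_apply]
  · intro s hs hcs
    refine Subgroup.mem_map.mpr ⟨(⟨s, hs⟩ : R), ?_, rfl⟩
    rw [← hCA, Subgroup.mem_centralizer_iff]
    intro x hx
    exact Subtype.ext (hcs x ⟨x, hx, rfl⟩)

variable {R A : Subgroup (SL K)}

/-- conjugates inside `A` are equal or inverse -/
theorem SelfCent.conj_eq_or (h : SelfCent R A) (hreg : ∀ u ∈ R, u ^ p = 1 → u = 1)
    {s x : SL K} (hs : s ∈ R) (hx : x ∈ A) : s * x * s⁻¹ = x ∨ s * x * s⁻¹ = x⁻¹ := by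
  have hy := h.norm s hs x hx
  exact eq_or_eq_inv (h.ab x hx _ hy) (tr_conj s x).symm
    (hreg _ (h.le (A.mul_mem hy (A.inv_mem hx))))

/-- elements outside `A` invert `A` -/
theorem SelfCent.inverts (h : SelfCent R A) (hreg : ∀ u ∈ R, u ^ p = 1 → u = 1)
    {s : SL K} (hs : s ∈ R) (hsA : s ∉ A) {y : SL K} (hy : y ∈ A) : s * y * s⁻¹ = y⁻¹ := by
  have hex : ∃ x₀ ∈ A, x₀ * s ≠ s * x₀ := by
    by_contra hcon
    push Not at hcon
    exact hsA (h.cent s hs hcon)
  obtain ⟨x₀, hx₀, hne⟩ := hex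
  have h0 : s * x₀ * s⁻¹ = x₀⁻¹ := by
    rcases h.conj_eq_or hreg hs hx₀ with h1 | h1
    · exfalso
      apply hne
      calc x₀ * s = s * x₀ * s⁻¹ * s := by rw [h1]
        _ = s * x₀ := by group
    · exact h1
  have hx0ne : x₀⁻¹ ≠ x₀ := by
    intro he
    apply hne
    rw [he] at h0
    calc x₀ * s = s * x₀ * s⁻¹ * s := by rw [h0]
      _ = s * x₀ := by group
  rcases h.conj_eq_or hreg hs hy with h1 | h1
  · -- σ y = y
    have h2 : s * (x₀ * y) * s⁻¹ = x₀⁻¹ * y := by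
      calc s * (x₀ * y) * s⁻¹ = (s * x₀ * s⁻¹) * (s * y * s⁻¹) := by group
        _ = x₀⁻¹ * y := by rw [h0, h1]
    rcases h.conj_eq_or hreg hs (A.mul_mem hx₀ hy) with h3 | h3
    · exfalso
      apply hx0ne
      rw [h2] at h3
      exact mul_right_cancel h3
    · rw [h2, _root_.mul_inv_rev, h.ab _ (A.inv_mem hy) _ (A.inv_mem hx₀)] at h3
      rw [h1]
      exact mul_left_cancel h3
  · exact h1

/-- `A` has index at most two -/
theorem SelfCent.mul_mem (h : SelfCent R A) (hreg : ∀ u ∈ R, u ^ p = 1 → u = 1)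
    {s t : SL K} (hs : s ∈ R) (hsA : s ∉ A) (ht : t ∈ R) (htA : t ∉ A) : s * t ∈ A := by
  apply h.cent _ (R.mul_mem hs ht)
  intro x hx
  have h1 := h.inverts hreg ht htA hx
  have h2 := h.inverts hreg hs hsA (A.inv_mem hx)
  rw [inv_inv] at h2
  have : (s * t) * x * (s * t)⁻¹ = x := by
    calc (s * t) * x * (s * t)⁻¹ = s * (t * x * t⁻¹) * s⁻¹ := by group
      _ = x := by rw [h1, h2]
  calc x * (s * t) = ((s * t) * x * (s * t)⁻¹) * (s * t) := by rw [this]
    _ = s * t * x := by group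

end Cfsg.Agent.Lib.H1.SL2

namespace Cfsg.Agent.Lib.H1.SL2

open Matrix

variable {K : Type*} [Field K] {p : ℕ} [hp : Fact p.Prime] [CharP K p]

theorem two_ne_zero' (hp2 : p ≠ 2) : (2 : K) ≠ 0 := by
  intro h
  have h2 : ((2 : ℕ) : K) = 0 := by exact_mod_cast h
  rw [CharP.cast_eq_zero_iff K p] at h2
  exact hp2 ((Nat.prime_dvd_prime_iff_eq hp.out Nat.prime_two).mp h2)

omit hp [CharP K p] in
theorem reg_of_coprime {R : Subgroup (SL K)} [Finite R] (hR : (Nat.card R).Coprime p) :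
    ∀ u ∈ R, u ^ p = 1 → u = 1 := by
  intro u hu hup
  have h1 : u ^ Nat.card R = 1 := by
    have := pow_card_eq_one' (G := R) (x := ⟨u, hu⟩)
    have h2 := congrArg Subtype.val this
    simpa only [Subgroup.coe_pow, Subgroup.coe_one] using h2
  exact eq_one_of_pow_coprime h1 hup hR

/-- fixed points of a transvection `a` on a `p'`-subgroup `R` have square one -/
theorem fixed_sq {a : SL K} (ha : a ^ p = 1) (ha1 : a ≠ 1) {R : Subgroup (SL K)} [Finite R]
    (hR : (Nat.card R).Coprime p) (h : SL K) (hh : h ∈ R) (hc : h * a = a * h) : h ^ 2 = 1 :=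
  sq_eq_one_of_commute (p := p) (tr_eq_two_of_pow (p := p) a 1 (by rw [pow_one]; exact ha)) ha1 hc
    (reg_of_coprime hR _ (R.pow_mem hh 2))

/-- **Step 2**: `R` is a 2-group -/
theorem isPGroup_two_of_action [Finite K] (hp2 : p ≠ 2) {a : SL K} (ha : a ^ p = 1) (ha1 : a ≠ 1)
    {R : Subgroup (SL K)} (hR : (Nat.card R).Coprime p)
    (haR : a ∈ Subgroup.normalizer (R : Set (SL K))) : IsPGroup 2 R := by
  have hord : orderOf a = p := orderOf_eq_prime ha ha1
  have hodd : Odd (orderOf a) := by rw [hord]; exact hp.out.odd_of_ne_two hp2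
  have hco : CoprimeAction (Subgroup.zpowers a) R :=
    { normalizes := by rw [Subgroup.zpowers_le]; exact haR
      coprime := by rw [Nat.card_zpowers, hord]; exact hR.symm
      solvable := Or.inl inferInstance }
  have hprime : ∀ {r : ℕ}, r.Prime → r ∣ Nat.card R → r = 2 := by
    intro r hr hdvd
    by_contra hr2
    have : Fact r.Prime := ⟨hr⟩
    have hrp : r ≠ p := by
      rintro rfl
      exact hp.out.one_lt.ne' (Nat.Coprime.eq_one_of_dvd hR.symm hdvd)
    obtain ⟨P, hP, hAP⟩ := coprime_exists_invariant_sylow hco r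
    have hPab : ∀ x ∈ P, ∀ y ∈ P, x * y = y * x := by
      intro x hx y hy
      have := comm_of_isPGroup_odd (p := p) P.subtype Subtype.val_injective hP.isPGroup hr2 hrp
        ⟨x, hx⟩ ⟨y, hy⟩
      exact congrArg Subtype.val this
    have hregP : ∀ u ∈ P, u ^ p = 1 → u = 1 := fun u hu => reg_of_coprime hR u (hP.le hu)
    have haP : ∀ x ∈ P, a * x * a⁻¹ ∈ P := fun x hx =>
      (Subgroup.mem_normalizer_iff.mp (hAP (Subgroup.mem_zpowers a)) x).mp hx
    have hPbot : ∀ x ∈ P, x = 1 := by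
      intro x hx
      have hc := commute_of_normalizes (p := p) P hPab hregP a hodd haP x hx
      have h2 := fixed_sq ha ha1 hR x (hP.le hx) hc.symm
      obtain ⟨k, hk⟩ := hP.isPGroup ⟨x, hx⟩
      have hk' : x ^ r ^ k = 1 := by
        have := congrArg Subtype.val hk
        simpa only [Subgroup.coe_pow, Subgroup.coe_one] using this
      exact eq_one_of_pow_coprime hk' h2
        (Nat.Coprime.pow_left k ((Nat.coprime_primes hr Nat.prime_two).mpr hr2))
    have hPcard : Nat.card P = 1 := by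
      rw [Nat.card_eq_one_iff_unique]
      exact ⟨⟨fun x y => Subtype.ext ((hPbot x x.2).trans (hPbot y y.2).symm)⟩, ⟨1⟩⟩
    have h3 := hP.card_eq
    rw [hPcard] at h3
    have h4 : (Nat.card R).factorization r = 0 := by
      by_contra h0
      have := Nat.one_lt_pow h0 hr.one_lt
      omega
    have hRpos : Nat.card R ≠ 0 := Nat.card_pos.ne'
    exact (Nat.factorization_eq_zero_iff _ _).mp h4 |>.elim (fun h => h hr)
      (fun h => h.elim (fun h => h hdvd) (fun h => hRpos h))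
  have hcard := Nat.eq_prime_pow_of_unique_prime_dvd (Nat.card_pos (α := R)).ne' hprime
  exact IsPGroup.of_card hcard

end Cfsg.Agent.Lib.H1.SL2

namespace Cfsg.Agent.Lib.H1.SL2

open Matrix

variable {K : Type*} [Field K] {p : ℕ} [hp : Fact p.Prime] [CharP K p]

/-- if `a` normalizes the self-centralizing `A`, then `a` centralizes `R` -/
theorem centralizes_of_normalizes_selfCent (hp2 : p ≠ 2) {a : SL K} (ha : a ^ p = 1) (ha1 : a ≠ 1)
    {R A : Subgroup (SL K)} [Finite R] (hR : (Nat.card R).Coprime p)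
    (haR : a ∈ Subgroup.normalizer (R : Set (SL K))) (h : SelfCent R A)
    (haA : ∀ x ∈ A, a * x * a⁻¹ ∈ A) : ∀ s ∈ R, a * s = s * a := by
  have hord : orderOf a = p := orderOf_eq_prime ha ha1
  have hodd : Odd (orderOf a) := by rw [hord]; exact hp.out.odd_of_ne_two hp2
  have hreg := reg_of_coprime hR
  have hregA : ∀ u ∈ A, u ^ p = 1 → u = 1 := fun u hu => hreg u (h.le hu)
  have hcA : ∀ x ∈ A, a * x = x * a := commute_of_normalizes (p := p) A h.ab hregA a hodd haA
  intro s hs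
  by_cases hsA : s ∈ A
  · exact hcA s hsA
  have ht : a * s * a⁻¹ ∈ R := (Subgroup.mem_normalizer_iff.mp haR s).mp hs
  have htA : a * s * a⁻¹ ∉ A := by
    intro hmem
    apply hsA
    have := hcA _ hmem
    have h2 : a * s * a⁻¹ = s := by
      have h3 : a * (a * s * a⁻¹) * a⁻¹ = a * s * a⁻¹ := by rw [this]; group
      calc a * s * a⁻¹ = a⁻¹ * (a * (a * s * a⁻¹) * a⁻¹) * a := by group
        _ = a⁻¹ * (a * s * a⁻¹) * a := by rw [h3]
        _ = s := by group
    rw [h2] at hmem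
    exact hmem
  have hsinv : s⁻¹ ∉ A := fun hm => hsA (by simpa using A.inv_mem hm)
  have hc : s⁻¹ * (a * s * a⁻¹) ∈ A := h.mul_mem hreg (R.inv_mem hs) hsinv ht htA
  obtain ⟨c, hcdef⟩ : ∃ c, c = s⁻¹ * (a * s * a⁻¹) := ⟨_, rfl⟩
  rw [← hcdef] at hc
  have hac : a * c = c * a := hcA c hc
  have hasa : a * s * a⁻¹ = s * c := by rw [hcdef]; group
  have hpow : ∀ n : ℕ, a ^ n * s * (a ^ n)⁻¹ = s * c ^ n := by
    intro n
    induction n with
    | zero => simp
    | succ n ih =>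
      have hacn : a * c ^ n * a⁻¹ = c ^ n := by
        have : Commute a (c ^ n) := (show Commute a c from hac).pow_right n
        rw [this.eq]; group
      calc a ^ (n + 1) * s * (a ^ (n + 1))⁻¹ = a * (a ^ n * s * (a ^ n)⁻¹) * a⁻¹ := by
            rw [pow_succ']; group
        _ = a * (s * c ^ n) * a⁻¹ := by rw [ih]
        _ = (a * s * a⁻¹) * (a * c ^ n * a⁻¹) := by group
        _ = s * c ^ (n + 1) := by rw [hasa, hacn, pow_succ', mul_assoc]
  have h1 := hpow p
  rw [ha] at h1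
  have hcp : c ^ p = 1 := by
    have : s * c ^ p = s := by rw [← h1]; group
    exact mul_left_cancel (this.trans (mul_one s).symm)
  have hc1 : c = 1 := hreg c (h.le hc) hcp
  rw [hc1, mul_one] at hasa
  calc a * s = a * s * a⁻¹ * a := by group
    _ = s * a := by rw [hasa]

end Cfsg.Agent.Lib.H1.SL2

namespace Cfsg.Agent.Lib.H1.SL2

open Matrix

variable {K : Type*} [Field K] {p : ℕ} [hp : Fact p.Prime] [CharP K p]

/-- a subgroup all of whose elements have square one has at most two elements -/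
theorem card_le_two_of_sq (hp2 : p ≠ 2) (B : Subgroup (SL K)) [Finite B]
    (hB : ∀ z ∈ B, z ^ 2 = 1) : Nat.card B ≤ 2 := by
  have h2 := two_ne_zero' (K := K) hp2
  by_cases hbot : ∀ z ∈ B, z = 1
  · have : Nat.card B = 1 := by
      rw [Nat.card_eq_one_iff_unique]
      exact ⟨⟨fun x y => Subtype.ext ((hbot x x.2).trans (hbot y y.2).symm)⟩, ⟨1⟩⟩
    omega
  push Not at hbot
  obtain ⟨z₀, hz₀, hz₀1⟩ := hbot
  have hsub : (B : Set (SL K)) ⊆ {1, z₀} := by
    intro z hz
    by_cases hz1 : z = 1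
    · left; exact hz1
    · right
      exact eq_of_sq_eq_one h2 z z₀ (hB z hz) (hB z₀ hz₀) hz1 hz₀1
  have hfin : ({1, z₀} : Set (SL K)).Finite := Set.toFinite _
  calc Nat.card B = (B : Set (SL K)).ncard := Nat.card_coe_set_eq _
    _ ≤ ({1, z₀} : Set (SL K)).ncard := Set.ncard_le_ncard hsub hfin
    _ ≤ 2 := by
        have := Set.ncard_insert_le (1 : SL K) {z₀}
        rw [Set.ncard_singleton] at this
        exact this

end Cfsg.Agent.Lib.H1.SL2

namespace Cfsg.Agent.Lib.H1.SL2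

open Matrix

variable {K : Type*} [Field K] {p : ℕ} [hp : Fact p.Prime] [CharP K p]

/-- index at most two, as a cardinality bound -/
theorem SelfCent.card_le (R A : Subgroup (SL K)) [Finite R] (h : SelfCent R A)
    (hreg : ∀ u ∈ R, u ^ p = 1 → u = 1) {y : SL K} (hy : y ∈ R) (hyA : y ∉ A) :
    Nat.card R ≤ 2 * Nat.card A := by
  classical
  have hyinv : y⁻¹ ∉ A := fun hm => hyA (by simpa using A.inv_mem hm)
  have hAfin : Finite A := Finite.of_injective (fun x : A => (⟨x.1, h.le x.2⟩ : R))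
    (fun x y hxy => Subtype.ext (congrArg (fun z : R => z.1) hxy))
  let f : R → A × Bool := fun t =>
    if ht : t.1 ∈ A then (⟨t.1, ht⟩, true)
    else (⟨y⁻¹ * t.1, h.mul_mem hreg (R.inv_mem hy) hyinv t.2 ht⟩, false)
  have hf : Function.Injective f := by
    intro s t hst
    by_cases hs : s.1 ∈ A <;> by_cases ht : t.1 ∈ A
    · simp only [f, dif_pos hs, dif_pos ht, Prod.mk.injEq, Subtype.mk.injEq, and_true] at hst
      exact Subtype.ext hst
    · simp only [f, dif_pos hs, dif_neg ht, Prod.mk.injEq] at hst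
      exact absurd hst.2 (by decide)
    · simp only [f, dif_neg hs, dif_pos ht, Prod.mk.injEq] at hst
      exact absurd hst.2 (by decide)
    · simp only [f, dif_neg hs, dif_neg ht, Prod.mk.injEq, Subtype.mk.injEq, and_true] at hst
      exact Subtype.ext (mul_left_cancel hst)
  have := Nat.card_le_card_of_injective f hf
  rw [Nat.card_prod, Nat.card_eq_fintype_card (α := Bool), Fintype.card_bool] at this
  omega

end Cfsg.Agent.Lib.H1.SL2

namespace Cfsg.Agent.Lib.H1.SL2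

open Matrix

variable {K : Type*} [Field K] {p : ℕ} [hp : Fact p.Prime] [CharP K p]

/-- **quaternion generators** for a `p'`-subgroup of `SL₂(K)` on which a `p`-element acts
nontrivially -/
theorem exists_q8_gens [Finite K] (hp2 : p ≠ 2) {a : SL K} (ha : a ^ p = 1)
    {R : Subgroup (SL K)} (hR : (Nat.card R).Coprime p)
    (haR : a ∈ Subgroup.normalizer (R : Set (SL K))) (hnt : ¬ ∀ x ∈ R, a * x = x * a) :
    ∃ x y : SL K, x ^ 4 = 1 ∧ x ^ 2 ≠ 1 ∧ y * y = x ^ 2 ∧ y * x * y⁻¹ = x⁻¹ ∧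
      R = Subgroup.closure {x, y} ∧ Nat.card R = 8 ∧ Nonempty (↥R ≃* QuaternionGroup 2) := by
  have ha1 : a ≠ 1 := by
    rintro rfl
    exact hnt (fun x _ => by rw [one_mul, mul_one])
  have h2K := two_ne_zero' (K := K) hp2
  have hR2 := isPGroup_two_of_action hp2 ha ha1 hR haR
  have : Fact (Nat.Prime 2) := ⟨Nat.prime_two⟩
  obtain ⟨A, hA⟩ := exists_selfCent R hR2
  have hreg := reg_of_coprime hR
  have hnn : ¬ ∀ x ∈ A, a * x * a⁻¹ ∈ A := fun hn =>
    hnt (centralizes_of_normalizes_selfCent hp2 ha ha1 hR haR hA hn)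
  push Not at hnn
  obtain ⟨x₁, hx₁, hyA⟩ := hnn
  obtain ⟨y, hydef⟩ : ∃ y, y = a * x₁ * a⁻¹ := ⟨_, rfl⟩
  rw [← hydef] at hyA
  have hyR : y ∈ R := by
    rw [hydef]; exact (Subgroup.mem_normalizer_iff.mp haR x₁).mp (hA.le hx₁)
  -- the conjugate subgroup
  obtain ⟨A', hA'def⟩ : ∃ A' : Subgroup (SL K), A' = A.map (MulAut.conj a).toMonoidHom := ⟨_, rfl⟩
  have hyA' : y ∈ A' := by
    rw [hA'def]; exact ⟨x₁, hx₁, by rw [hydef]; rfl⟩
  have hA'R : A' ≤ R := by
    rw [hA'def]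
    rintro _ ⟨u, hu, rfl⟩
    exact (Subgroup.mem_normalizer_iff.mp haR u).mp (hA.le hu)
  have hA'ab : ∀ u ∈ A', ∀ v ∈ A', u * v = v * u := by
    rw [hA'def]
    rintro _ ⟨u, hu, rfl⟩ _ ⟨v, hv, rfl⟩
    rw [← map_mul, ← map_mul, hA.ab u hu v hv]
  have hinf : ∀ z ∈ A ⊓ A', z ^ 2 = 1 := by
    rintro z ⟨hz1, hz2⟩
    have h1 := hA.inverts hreg hyR hyA hz1
    have h2 : y * z * y⁻¹ = z := by rw [hA'ab y hyA' z hz2]; group
    rw [h2] at h1
    calc z ^ 2 = z * z := pow_two z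
      _ = z * z⁻¹ := by rw [← h1]
      _ = 1 := mul_inv_cancel z
  have hRfin : Finite R := inferInstance
  have hAfin : Finite A := Finite.of_injective (fun x : A => (⟨x.1, hA.le x.2⟩ : R))
    (fun x y hxy => Subtype.ext (congrArg (fun z : R => z.1) hxy))
  have hc1 : Nat.card ↥(A ⊓ A') ≤ 2 := card_le_two_of_sq hp2 _ hinf
  have hc2 : Nat.card A' = Nat.card A := by
    rw [hA'def]; exact Subgroup.card_map_of_injective (MulAut.conj a).injective
  have hc3 : Nat.card R ≤ 2 * Nat.card A := SelfCent.card_le R A hA hreg hyR hyA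
  have hc4 : Nat.card ↥(A ⊔ A') ≤ Nat.card R := Subgroup.card_le_of_le (sup_le hA.le hA'R)
  have hc5 := Cfsg.Agent.Lib.H19.card_mul_card_le_sup_mul_inf A A'
  rw [hc2] at hc5
  have hApos : 0 < Nat.card A := Nat.card_pos
  have hA4 : Nat.card A ≤ 4 := by
    have h6 : Nat.card A * Nat.card A ≤ Nat.card R * 2 :=
      hc5.trans (Nat.mul_le_mul hc4 hc1)
    have h7 : Nat.card A * Nat.card A ≤ 4 * Nat.card A := by omega
    by_contra hgt
    push Not at hgt
    have : 4 * Nat.card A < Nat.card A * Nat.card A := Nat.mul_lt_mul_of_pos_right hgt hApos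
    omega
  have hR8 : Nat.card R ≤ 8 := by omega
  -- `card A ∣ 4`
  have hAdvd : Nat.card A ∣ 4 := by
    obtain ⟨k, hk⟩ := (IsPGroup.iff_card.mp hR2)
    have h1 : Nat.card A ∣ Nat.card R := Subgroup.card_dvd_of_le hA.le
    rw [hk] at h1
    obtain ⟨j, -, hj⟩ := (Nat.dvd_prime_pow Nat.prime_two).mp h1
    rw [hj] at hA4 ⊢
    have hj2 : j ≤ 2 := by
      by_contra hj3
      push Not at hj3
      have : 2 ^ 3 ≤ 2 ^ j := Nat.pow_le_pow_right (by norm_num) hj3
      omega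
    exact pow_dvd_pow 2 hj2
  -- pick `x`
  have hex : ∃ x ∈ A, x * y ≠ y * x := by
    by_contra hcon
    push Not at hcon
    exact hyA (hA.cent y hyR hcon)
  obtain ⟨x, hx, hxy⟩ := hex
  have hyx : y * x * y⁻¹ = x⁻¹ := hA.inverts hreg hyR hyA hx
  have hx4 : x ^ 4 = 1 := by
    have h1 : x ^ Nat.card A = 1 := by
      have := pow_card_eq_one' (G := A) (x := ⟨x, hx⟩)
      have h2 := congrArg Subtype.val this
      simpa only [Subgroup.coe_pow, Subgroup.coe_one] using h2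
    obtain ⟨c, hc⟩ := hAdvd
    rw [hc, pow_mul, h1, one_pow]
  have hx2 : x ^ 2 ≠ 1 := by
    intro h
    apply hxy
    have hxinv : x⁻¹ = x := by
      rw [inv_eq_iff_mul_eq_one, ← pow_two]; exact h
    rw [hxinv] at hyx
    calc x * y = y * x * y⁻¹ * y := by rw [hyx]
      _ = y * x := by group
  have hyyA : y * y ∈ A := hA.mul_mem hreg hyR hyA hyR hyA
  have hyy2 : (y * y) ^ 2 = 1 := by
    have h1 := hA.inverts hreg hyR hyA hyyA
    have h2 : y * (y * y) * y⁻¹ = y * y := by group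
    rw [h2] at h1
    calc (y * y) ^ 2 = (y * y) * (y * y) := pow_two _
      _ = (y * y) * (y * y)⁻¹ := by rw [← h1]
      _ = 1 := mul_inv_cancel _
  have hyy1 : y * y ≠ 1 := by
    intro h
    apply hyA
    apply hA.cent y hyR
    intro u _
    exact (commute_of_sq_eq_one h2K y (by rw [pow_two]; exact h) u).symm
  have hx22 : (x ^ 2) ^ 2 = 1 := by rw [← pow_mul]; exact hx4
  have hyy : y * y = x ^ 2 := eq_of_sq_eq_one h2K _ _ hyy2 hx22 hyy1 hx2
  obtain ⟨Q, ⟨e⟩, hxQ, hyQ, hQle, -⟩ := Cfsg.Agent.Lib.H22.q8_exists_subgroup hx4 hx2 hyy hyx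
  have hQcard : Nat.card Q = 8 := by
    rw [Nat.card_congr e.toEquiv, Nat.card_eq_fintype_card, QuaternionGroup.card]
  have hcl : Subgroup.closure {x, y} ≤ R := by
    rw [Subgroup.closure_le]
    rintro z (rfl | rfl)
    · exact hA.le hx
    · exact hyR
  have h8 : 8 ≤ Nat.card R := by
    rw [← hQcard]; exact Subgroup.card_le_of_le (hQle.trans hcl)
  have hQR : Q = R := Subgroup.eq_of_le_of_card_ge (hQle.trans hcl) (by omega)
  refine ⟨x, y, hx4, hx2, hyy, hyx, ?_, by omega, ?_⟩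
  · apply le_antisymm _ hcl
    rw [← hQR]; exact hQle
  · rw [← hQR]; exact ⟨e⟩

end Cfsg.Agent.Lib.H1.SL2

namespace Cfsg.Agent.Lib.H1.SL2

open Matrix

variable {K : Type*} [Field K] {p : ℕ} [hp : Fact p.Prime] [CharP K p]

/-- **S3740 core**: a `p`-element of `SL₂(K)` acting nontrivially on an invariant `p'`-subgroup `R`
forces `p = 3`, `R ≅ Q₈` and `R⟨a⟩ ≅ SL₂(3)`. -/
theorem sl23_of_action [Finite K] (hp2 : p ≠ 2) {a : SL K} (ha : a ^ p = 1)
    {R : Subgroup (SL K)} (hR : (Nat.card R).Coprime p)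
    (haR : a ∈ Subgroup.normalizer (R : Set (SL K))) (hnt : ¬ ∀ x ∈ R, a * x = x * a) :
    p = 3 ∧ Nonempty (↥R ≃* QuaternionGroup 2) ∧
      Nonempty (↥(R ⊔ Subgroup.zpowers a) ≃* Matrix.SpecialLinearGroup (Fin 2) (ZMod 3)) := by
  have ha1 : a ≠ 1 := by
    rintro rfl
    exact hnt (fun x _ => by rw [one_mul, mul_one])
  have hord : orderOf a = p := orderOf_eq_prime ha ha1
  have hodd : Odd (orderOf a) := by rw [hord]; exact hp.out.odd_of_ne_two hp2
  obtain ⟨x, y, hx4, hx2, hyy, hyx, hRcl, hR8, hQ8⟩ := exists_q8_gens hp2 ha hR haR hnt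
  have hxR : x ∈ R := by rw [hRcl]; exact Subgroup.subset_closure (by simp)
  have hyR : y ∈ R := by rw [hRcl]; exact Subgroup.subset_closure (by simp)
  have hconj : ∀ u ∈ R, a * u * a⁻¹ ∈ R := fun u hu =>
    (Subgroup.mem_normalizer_iff.mp haR u).mp hu
  -- centralizing generators centralizes the closure
  have hcent : ∀ (g u v : SL K), g * u = u * g → g * v = v * g →
      ∀ w ∈ Subgroup.closure ({u, v} : Set (SL K)), g * w = w * g := by
    intro g u v hu hv w hw
    have hle : Subgroup.closure ({u, v} : Set (SL K)) ≤ Subgroup.centralizer {g} := by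
      rw [Subgroup.closure_le]
      rintro z (rfl | rfl)
      · exact Subgroup.mem_centralizer_singleton_iff.mpr hu.symm
      · exact Subgroup.mem_centralizer_singleton_iff.mpr hv.symm
    exact (Subgroup.mem_centralizer_singleton_iff.mp (hle hw)).symm
  have hnc : ¬ (Commute a x ∧ Commute a y) := by
    rintro ⟨h1, h2⟩
    apply hnt
    intro w hw
    rw [hRcl] at hw
    exact hcent a x y h1.eq h2.eq w hw
  obtain ⟨i, j, hi, hj, hi4, hi2, hjj, hji, hai, haj⟩ :=
    Cfsg.Agent.Lib.H22.exists_sl23_gens hx4 hx2 hyy hyx hodd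
      (by rw [← hRcl]; exact hconj x hxR) (by rw [← hRcl]; exact hconj y hyR) hnc
  rw [← hRcl] at hi hj
  -- `closure {i, j} = R`
  have hRij : Subgroup.closure ({i, j} : Set (SL K)) = R := by
    obtain ⟨Q, ⟨e⟩, -, -, hQle, -⟩ := Cfsg.Agent.Lib.H22.q8_exists_subgroup hi4 hi2 hjj hji
    have hQcard : Nat.card Q = 8 := by
      rw [Nat.card_congr e.toEquiv, Nat.card_eq_fintype_card, QuaternionGroup.card]
    have hcl : Subgroup.closure ({i, j} : Set (SL K)) ≤ R := by
      rw [Subgroup.closure_le]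
      rintro z (rfl | rfl)
      · exact hi
      · exact hj
    have hQR : Q = R := Subgroup.eq_of_le_of_card_ge (hQle.trans hcl) (by omega)
    apply le_antisymm hcl
    rw [← hQR]; exact hQle
  -- `a ^ 3` centralizes `i` and `j`
  have hjij : j * i * j = i := by
    calc j * i * j = (j * i * j⁻¹) * (j * j) := by group
      _ = i⁻¹ * i ^ 2 := by rw [hji, hjj]
      _ = i := by group
  have h3i : a ^ 3 * i * (a ^ 3)⁻¹ = i := by
    calc a ^ 3 * i * (a ^ 3)⁻¹ = a * (a * (a * i * a⁻¹) * a⁻¹) * a⁻¹ := by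
          rw [pow_succ, pow_two]; group
      _ = a * (a * j * a⁻¹) * a⁻¹ := by rw [hai]
      _ = a * (i * j) * a⁻¹ := by rw [haj]
      _ = (a * i * a⁻¹) * (a * j * a⁻¹) := by group
      _ = j * (i * j) := by rw [hai, haj]
      _ = i := by rw [← mul_assoc, hjij]
  have h3j : a ^ 3 * j * (a ^ 3)⁻¹ = j := by
    calc a ^ 3 * j * (a ^ 3)⁻¹ = a ^ 3 * (a * i * a⁻¹) * (a ^ 3)⁻¹ := by rw [hai]
      _ = a * (a ^ 3 * i * (a ^ 3)⁻¹) * a⁻¹ := by rw [pow_succ, pow_two]; group
      _ = a * i * a⁻¹ := by rw [h3i]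
      _ = j := hai
  have hp3 : p = 3 := by
    by_contra hne
    have hcop : Nat.Coprime 3 p := (Nat.coprime_primes Nat.prime_three hp.out).mpr (Ne.symm hne)
    have hgcd : ((3 : ℕ) : ℤ) * Nat.gcdA 3 p + (p : ℤ) * Nat.gcdB 3 p = 1 := by
      have := Nat.gcd_eq_gcd_ab 3 p
      rw [hcop.gcd_eq_one] at this
      exact_mod_cast this.symm
    have hg1 : a = (a ^ 3) ^ (Nat.gcdA 3 p) := by
      have : a = (a ^ 3) ^ (Nat.gcdA 3 p) * (a ^ p) ^ (Nat.gcdB 3 p) := by
        rw [← zpow_natCast a 3, ← zpow_natCast a p, ← _root_.zpow_mul, ← _root_.zpow_mul,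
          ← _root_.zpow_add, hgcd, _root_.zpow_one]
      rw [ha, _root_.one_zpow, mul_one] at this
      exact this
    have c1 : Commute (a ^ 3) i := by
      show a ^ 3 * i = i * a ^ 3
      calc a ^ 3 * i = (a ^ 3 * i * (a ^ 3)⁻¹) * a ^ 3 := by group
        _ = i * a ^ 3 := by rw [h3i]
    have c2 : Commute (a ^ 3) j := by
      show a ^ 3 * j = j * a ^ 3
      calc a ^ 3 * j = (a ^ 3 * j * (a ^ 3)⁻¹) * a ^ 3 := by group
        _ = j * a ^ 3 := by rw [h3j]
    have c1' : Commute a i := by rw [hg1]; exact c1.zpow_left _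
    have c2' : Commute a j := by rw [hg1]; exact c2.zpow_left _
    apply hnt
    intro w hw
    rw [← hRij] at hw
    exact hcent a i j c1'.eq c2'.eq w hw
  refine ⟨hp3, hQ8, ?_⟩
  have ha3 : a ^ 3 = 1 := by rw [← hp3]; exact ha
  have htriple : Cfsg.Agent.Lib.H22.SL23Triple i j a :=
    { i4 := hi4, i2 := hi2, jj := hjj, ji := hji, w3 := ha3, w1 := ha1, wi := hai, wj := haj }
  obtain ⟨X, hXdef⟩ : ∃ X : Subgroup (SL K), X = R ⊔ Subgroup.zpowers a := ⟨_, rfl⟩
  rw [← hXdef]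
  have hXcl : Subgroup.closure ({i, j, a} : Set (SL K)) = X := by
    rw [Cfsg.Agent.Lib.H22.SL23Triple.closure_eq, hRij, hXdef]
  have hiX : i ∈ X := by rw [← hXcl]; exact Subgroup.subset_closure (by simp)
  have hjX : j ∈ X := by rw [← hXcl]; exact Subgroup.subset_closure (by simp)
  have haX : a ∈ X := by rw [← hXcl]; exact Subgroup.subset_closure (by simp)
  have htriple' : Cfsg.Agent.Lib.H22.SL23Triple (⟨i, hiX⟩ : X) ⟨j, hjX⟩ ⟨a, haX⟩ :=
    { i4 := Subtype.ext htriple.i4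
      i2 := fun hh => htriple.i2 (congrArg Subtype.val hh)
      jj := Subtype.ext htriple.jj
      ji := Subtype.ext htriple.ji
      w3 := Subtype.ext htriple.w3
      w1 := fun hh => htriple.w1 (congrArg Subtype.val hh)
      wi := Subtype.ext htriple.wi
      wj := Subtype.ext htriple.wj }
  have hgen : Subgroup.closure ({(⟨i, hiX⟩ : X), ⟨j, hjX⟩, ⟨a, haX⟩} : Set X) = ⊤ := by
    apply Subgroup.map_injective X.subtype_injective
    rw [MonoidHom.map_closure, ← MonoidHom.range_eq_map, Subgroup.range_subtype]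
    have : (X.subtype '' ({(⟨i, hiX⟩ : X), ⟨j, hjX⟩, ⟨a, haX⟩} : Set X)) = {i, j, a} := by
      rw [Set.image_insert_eq, Set.image_insert_eq, Set.image_singleton]
      rfl
    rw [this, hXcl]
  have hXfin : Finite X := inferInstance
  exact htriple'.nonempty_mulEquiv_sl23 hgen

end Cfsg.Agent.Lib.H1.SL2
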