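import Mathlib
import Cfsg.Agent.Lib.H1.QuadPair
import Cfsg.Agent.Lib.H1.SL2Q8

/-!
# Quadratic action on `𝔽_p`-modules: abstract p-stability (helper1)

Base change of a faithful `𝔽_p`-representation to a finite field `K` containing enough roots of unity,
K–S 9.1.3 (`QuadPair.main_induction`) and the analysis of `SL₂(K)` give, for a group acting faithfully:

* `sylow_two_not_comm` (K–S 9.1.4(a)): a non-`p`-group generated by two quadratic elements has
  non-abelian Sylow 2-subgroups;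
* `sl23_section` (K–S 9.1.4(b)): a quadratic element acting nontrivially on an invariant `p'`-subgroup
  forces `p = 3` and an `SL₂(3)` section.
-/

set_option autoImplicit false

namespace Cfsg.Agent.Lib.H1.QuadStable

open scoped TensorProduct
open Cfsg.Agent.Lib.H1.QuadPair

variable {p : ℕ} [hp : Fact p.Prime]
variable {V : Type*} [AddCommGroup V] [Module (ZMod p) V]
variable {G : Type*} [Group G]

/-- base change of a representation over `𝔽_p` to `K` -/
noncomputable def bc (K : Type*) [Field K] [Algebra (ZMod p) K] (ρ : G →* (V ≃ₗ[ZMod p] V)) :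
    G →* ((K ⊗[ZMod p] V) ≃ₗ[K] (K ⊗[ZMod p] V)) where
  toFun g := LinearEquiv.baseChange (ZMod p) K V V (ρ g)
  map_one' := by rw [map_one]; exact LinearEquiv.baseChange_one ..
  map_mul' g h := by rw [map_mul]; exact LinearEquiv.baseChange_mul ..

variable (K : Type*) [Field K] [Algebra (ZMod p) K] (ρ : G →* (V ≃ₗ[ZMod p] V))

@[simp] theorem bc_tmul (g : G) (k : K) (v : V) : bc K ρ g (k ⊗ₜ v) = k ⊗ₜ (ρ g v) :=
  LinearEquiv.baseChange_tmul ..

theorem bc_quad {g : G} (h : Quad (ρ g)) : Quad (bc K ρ g) := by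
  intro w
  induction w using TensorProduct.induction_on with
  | zero => simp
  | tmul k v =>
    rw [bc_tmul, ← TensorProduct.tmul_sub, bc_tmul, h v]
  | add x y hx hy =>
    rw [map_add, add_sub_add_comm, map_add, hx, hy]

theorem bc_eq_one {g : G} (h : bc K ρ g = 1) : ρ g = 1 := by
  have h1 : ((ρ g : V ≃ₗ[ZMod p] V) : V →ₗ[ZMod p] V).baseChange K =
      (LinearMap.id : V →ₗ[ZMod p] V).baseChange K := by
    rw [LinearMap.baseChange_id]
    have := congrArg (fun e : (K ⊗[ZMod p] V) ≃ₗ[K] (K ⊗[ZMod p] V) =>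
      (e : (K ⊗[ZMod p] V) →ₗ[K] (K ⊗[ZMod p] V))) h
    simp only [LinearEquiv.coe_toLinearMap_one] at this
    rw [← this]
    rfl
  have h2 := LinearMap.baseChangeHom_injective (R := ZMod p) (S := K) (M := V) (N := V) h1
  ext v
  have := congrArg (fun f : V →ₗ[ZMod p] V => f v) h2
  simpa using this

end Cfsg.Agent.Lib.H1.QuadStable

namespace Cfsg.Agent.Lib.H1.QuadStable

open scoped TensorProduct
open Cfsg.Agent.Lib.H1.QuadPair

variable {p : ℕ} [hp : Fact p.Prime]
variable {V : Type*} [AddCommGroup V] [Module (ZMod p) V]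
variable {G : Type*} [Group G]

/-- **hom to `SL₂` over a suitable finite field** for a faithful `𝔽_p`-representation of a group
generated by two quadratic elements which is not a `p`-group -/
theorem exists_hom_sl2 [Finite G] [Module.Finite (ZMod p) V] (ρ : G →* (V ≃ₗ[ZMod p] V))
    (hρ : Function.Injective ρ) {a b : G} (hgen : Subgroup.closure ({a, b} : Set G) = ⊤)
    (ha : Quad (ρ a)) (hb : Quad (ρ b)) (hnp : ¬ IsPGroup p G) :
    ∃ (m : ℕ) (φ : G →* Matrix.SpecialLinearGroup (Fin 2) (GaloisField p m)), ¬ PImg p φ := by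
  have hN0 : Nat.card G ≠ 0 := Nat.card_pos.ne'
  obtain ⟨e, n', hn', hN⟩ := Nat.exists_eq_pow_mul_and_not_dvd hN0 p hp.out.ne_one
  have hcop : Nat.Coprime p n' := (Nat.Prime.coprime_iff_not_dvd hp.out).mpr hn'
  have hn'pos : 0 < n' := by
    rcases Nat.eq_zero_or_pos n' with h | h
    · rw [h, mul_zero] at hN; exact absurd hN hN0
    · exact h
  obtain ⟨m, hm⟩ : ∃ m, m = Nat.totient n' := ⟨_, rfl⟩
  have hm0 : m ≠ 0 := by rw [hm]; exact (Nat.totient_pos.mpr hn'pos).ne'
  have hdvd : n' ∣ p ^ m - 1 := by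
    have h1 : p ^ m ≡ 1 [MOD n'] := by rw [hm]; exact Nat.ModEq.pow_totient hcop
    exact (Nat.modEq_iff_dvd' (Nat.one_le_pow _ _ hp.out.pos)).mp h1.symm
  let _ : Fintype (GaloisField p m) := Fintype.ofFinite _
  have hq : Fintype.card (GaloisField p m) = p ^ m := by
    rw [← Nat.card_eq_fintype_card, GaloisField.card p m hm0]
  have hpow : (bc (GaloisField p m) ρ (a * b)) ^
      (p ^ e * (Fintype.card (GaloisField p m) - 1)) = 1 := by
    rw [← map_pow, hq]
    have : (a * b) ^ (p ^ e * (p ^ m - 1)) = 1 := by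
      obtain ⟨c, hc⟩ := hdvd
      rw [hc, ← mul_assoc, ← hN, pow_mul, pow_card_eq_one', one_pow]
    rw [this, map_one]
  have hnp' : ¬ PImg p (bc (GaloisField p m) ρ) := by
    intro h
    apply hnp
    intro g
    obtain ⟨k, hk⟩ := h g
    refine ⟨k, hρ ?_⟩
    rw [← map_pow] at hk
    rw [bc_eq_one _ ρ hk, map_one]
  obtain ⟨φ, hφ⟩ := main_induction (p := p) hgen _ ((GaloisField p m) ⊗[ZMod p] V)
    (bc (GaloisField p m) ρ) rfl (bc_quad _ ρ ha) (bc_quad _ ρ hb) ⟨e, hpow⟩ hnp'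
  exact ⟨m, φ, hφ⟩

end Cfsg.Agent.Lib.H1.QuadStable

namespace Cfsg.Agent.Lib.H1.QuadStable

open scoped TensorProduct
open Cfsg.Agent.Lib.H1.QuadPair

variable {p : ℕ} [hp : Fact p.Prime]
variable {V : Type*} [AddCommGroup V] [Module (ZMod p) V]
variable {G : Type*} [Group G]

/-- quadratic elements of a faithful representation have order dividing `p` -/
theorem pow_p_of_quad (ρ : G →* (V ≃ₗ[ZMod p] V)) (hρ : Function.Injective ρ) {a : G}
    (ha : Quad (ρ a)) : a ^ p = 1 := by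
  apply hρ
  rw [map_pow, ha.pow_p (p := p), map_one]

/-- **abstract form of K–S 9.1.4(a)**: Sylow 2-subgroups are non-abelian -/
theorem sylow_two_not_comm [Finite G] [Module.Finite (ZMod p) V] (hp2 : p ≠ 2)
    (ρ : G →* (V ≃ₗ[ZMod p] V)) (hρ : Function.Injective ρ) {a b : G}
    (hgen : Subgroup.closure ({a, b} : Set G) = ⊤) (ha : Quad (ρ a)) (hb : Quad (ρ b))
    (hnp : ¬ IsPGroup p G) (T : Sylow 2 G) : ¬ ∀ x ∈ T, ∀ y ∈ T, x * y = y * x := by
  intro hT
  obtain ⟨m, φ, hφ⟩ := exists_hom_sl2 ρ hρ hgen ha hb hnp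
  apply hφ
  rw [pImg_iff_range]
  have hsurj : Function.Surjective φ.rangeRestrict := φ.rangeRestrict_surjective
  have hgen' : Subgroup.closure ({φ.rangeRestrict a, φ.rangeRestrict b} : Set φ.range) = ⊤ := by
    have := congrArg (Subgroup.map φ.rangeRestrict) hgen
    rw [MonoidHom.map_closure, Set.image_insert_eq, Set.image_singleton,
      ← MonoidHom.range_eq_map, MonoidHom.range_eq_top.mpr hsurj] at this
    exact this
  have hfin : Finite φ.range := inferInstance
  have : Fact (Nat.Prime 2) := ⟨Nat.prime_two⟩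
  refine Cfsg.Agent.Lib.H1.SL2.isPGroup_of_abelian_sylow_two (p := p) φ.range.subtype
    Subtype.val_injective hp2 _ hgen' ?_ (T.mapSurjective hsurj) ?_
  · rintro s (rfl | rfl)
    · rw [← map_pow, pow_p_of_quad ρ hρ ha, map_one]
    · rw [← map_pow, pow_p_of_quad ρ hρ hb, map_one]
  · intro x hx y hy
    have hcoe := Sylow.coe_mapSurjective hsurj T
    have hx2 : x ∈ ((T.mapSurjective hsurj : Sylow 2 φ.range) : Subgroup φ.range) := hx
    have hy2 : y ∈ ((T.mapSurjective hsurj : Sylow 2 φ.range) : Subgroup φ.range) := hy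
    rw [hcoe] at hx2 hy2
    obtain ⟨x', hx', rfl⟩ := hx2
    obtain ⟨y', hy', rfl⟩ := hy2
    rw [← map_mul, ← map_mul, hT x' hx' y' hy']

end Cfsg.Agent.Lib.H1.QuadStable

namespace Cfsg.Agent.Lib.H1.QuadStable

open scoped TensorProduct
open Cfsg.Agent.Lib.H1.QuadPair

variable {p : ℕ} [hp : Fact p.Prime]
variable {V : Type*} [AddCommGroup V] [Module (ZMod p) V]
variable {G : Type*} [Group G]

theorem quad_conj {K : Type*} [Field K] {W : Type*} [AddCommGroup W] [Module K W]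
    {A : W ≃ₗ[K] W} (hA : Quad A) (B : W ≃ₗ[K] W) : Quad (B⁻¹ * A * B) := by
  intro w
  simp only [LinearEquiv.mul_apply]
  have h1 : B (B⁻¹ (A (B w))) = A (B w) := by
    rw [LinearEquiv.coe_inv]; exact B.apply_symm_apply _
  rw [map_sub, h1, hA (B w), map_sub]
  congr 1
  rw [LinearEquiv.coe_inv]; exact B.symm_apply_apply w

/-- **abstract form of K–S 9.1.4(b)**: a quadratic element acting nontrivially on an invariant
`p'`-subgroup forces `p = 3` and an `SL₂(3)` quotient of a subgroup of `Q⟨a⟩` -/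
theorem sl23_section [Finite G] [Module.Finite (ZMod p) V] (hp2 : p ≠ 2)
    (ρ : G →* (V ≃ₗ[ZMod p] V)) (hρ : Function.Injective ρ) {a : G} (ha : Quad (ρ a))
    (Q : Subgroup G) (hQ : (Nat.card Q).Coprime p)
    (haQ : a ∈ Subgroup.normalizer (Q : Set G)) (hnt : ¬ ∀ x ∈ Q, a * x = x * a) :
    p = 3 ∧ ∃ (X : Subgroup G) (ψ : X →* Matrix.SpecialLinearGroup (Fin 2) (ZMod 3)),
      X ≤ Q ⊔ Subgroup.zpowers a ∧ Function.Surjective ψ := by
  push Not at hnt
  obtain ⟨x, hxQ, hax⟩ := hnt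
  obtain ⟨b, hbdef⟩ : ∃ b, b = x⁻¹ * a * x := ⟨_, rfl⟩
  obtain ⟨c, hcdef⟩ : ∃ c, c = a⁻¹ * b := ⟨_, rfl⟩
  have hcQ : c ∈ Q := by
    rw [hcdef, hbdef]
    have h1 : a⁻¹ * x⁻¹ * a⁻¹⁻¹ ∈ Q :=
      (Subgroup.mem_normalizer_iff.mp (Subgroup.inv_mem _ haQ) x⁻¹).mp (Q.inv_mem hxQ)
    have : a⁻¹ * (x⁻¹ * a * x) = (a⁻¹ * x⁻¹ * a⁻¹⁻¹) * x := by group
    rw [this]
    exact Q.mul_mem h1 hxQ
  have hbac : b = a * c := by rw [hcdef]; group
  obtain ⟨X, hXdef⟩ : ∃ X : Subgroup G, X = Subgroup.closure {a, b} := ⟨_, rfl⟩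
  have haX : a ∈ X := by rw [hXdef]; exact Subgroup.subset_closure (by simp)
  have hbX : b ∈ X := by rw [hXdef]; exact Subgroup.subset_closure (by simp)
  have hcX : c ∈ X := by rw [hcdef]; exact X.mul_mem (X.inv_mem haX) hbX
  have hXle : X ≤ Q ⊔ Subgroup.zpowers a := by
    rw [hXdef, Subgroup.closure_le]
    rintro z (rfl | rfl)
    · exact Subgroup.mem_sup_right (Subgroup.mem_zpowers z)
    · rw [hbac]
      exact Subgroup.mul_mem _ (Subgroup.mem_sup_right (Subgroup.mem_zpowers a))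
        (Subgroup.mem_sup_left hcQ)
  have hregQ : ∀ u ∈ Q, ∀ k : ℕ, u ^ p ^ k = 1 → u = 1 := by
    intro u hu k huk
    have h1 : u ^ Nat.card Q = 1 := by
      have := pow_card_eq_one' (G := Q) (x := ⟨u, hu⟩)
      have h2 := congrArg Subtype.val this
      simpa only [Subgroup.coe_pow, Subgroup.coe_one] using h2
    exact Cfsg.Agent.Lib.H1.SL2.eq_one_of_pow_coprime h1 huk (Nat.Coprime.pow_right k hQ)
  -- `X` is not a `p`-group
  have hXnp : ¬ IsPGroup p X := by
    intro hX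
    obtain ⟨k, hk⟩ := hX ⟨c, hcX⟩
    have hk' : c ^ p ^ k = 1 := by
      have := congrArg Subtype.val hk
      simpa only [Subgroup.coe_pow, Subgroup.coe_one] using this
    have hc1 := hregQ c hcQ k hk'
    rw [hc1, mul_one] at hbac
    apply hax
    rw [hbdef] at hbac
    calc a * x = x * (x⁻¹ * a * x) := by group
      _ = x * a := by rw [hbac]
  -- the representation of `X`
  have hρX : Function.Injective (ρ.comp X.subtype) := hρ.comp Subtype.val_injective
  have hgen : Subgroup.closure ({(⟨a, haX⟩ : X), ⟨b, hbX⟩} : Set X) = ⊤ := by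
    apply Subgroup.map_injective X.subtype_injective
    rw [MonoidHom.map_closure, ← MonoidHom.range_eq_map, Subgroup.range_subtype,
      Set.image_insert_eq, Set.image_singleton]
    exact hXdef.symm
  have hqa : Quad ((ρ.comp X.subtype) ⟨a, haX⟩) := ha
  have hqb : Quad ((ρ.comp X.subtype) ⟨b, hbX⟩) := by
    show Quad (ρ b)
    rw [hbdef, map_mul, map_mul, map_inv]
    exact quad_conj ha _
  obtain ⟨m, φ, hφ⟩ := exists_hom_sl2 (ρ.comp X.subtype) hρX hgen hqa hqb hXnp
  obtain ⟨α, hα⟩ : ∃ α, α = φ ⟨a, haX⟩ := ⟨_, rfl⟩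
  have hap : a ^ p = 1 := pow_p_of_quad ρ hρ ha
  have hbp : b ^ p = 1 := by
    rw [hbdef]
    have : (x⁻¹ * a * x) ^ p = x⁻¹ * a ^ p * x := by
      have := map_pow (MulAut.conj x⁻¹).toMonoidHom a p
      simpa using this.symm
    rw [this, hap]; group
  have hαp : α ^ p = 1 := by
    rw [hα, ← map_pow]
    have : (⟨a, haX⟩ : X) ^ p = 1 := Subtype.ext (by simpa using hap)
    rw [this, map_one]
  obtain ⟨R, hRdef⟩ : ∃ R, R = (Q.subgroupOf X).map φ := ⟨_, rfl⟩
  have hRcard : (Nat.card R).Coprime p := by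
    have h1 : Nat.card R ∣ Nat.card (Q.subgroupOf X) := by
      rw [hRdef]; exact Subgroup.card_map_dvd _ φ
    have h2 : Nat.card (Q.subgroupOf X) ∣ Nat.card Q := by
      have : Nat.card (Q.subgroupOf X) = Nat.card ↥(Q ⊓ X) := by
        rw [← Subgroup.subgroupOf_map_subtype]
        exact (Subgroup.card_map_of_injective X.subtype_injective).symm
      rw [this]
      exact Subgroup.card_dvd_of_le inf_le_left
    exact Nat.Coprime.coprime_dvd_left (h1.trans h2) hQ
  have hαR : α ∈ Subgroup.normalizer (R : Set (Matrix.SpecialLinearGroup (Fin 2) (GaloisField p m))) := by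
    apply Subgroup.mem_normalizer_fintype
    rintro _ hn
    rw [SetLike.mem_coe, hRdef] at hn ⊢
    obtain ⟨y, hy, rfl⟩ := hn
    refine ⟨⟨a, haX⟩ * y * ⟨a, haX⟩⁻¹, ?_, ?_⟩
    · rw [SetLike.mem_coe, Subgroup.mem_subgroupOf] at hy ⊢
      exact (Subgroup.mem_normalizer_iff.mp haQ y.1).mp hy
    · rw [map_mul, map_mul, map_inv, hα]
  have hc'R : φ ⟨c, hcX⟩ ∈ R := by
    rw [hRdef]; exact ⟨⟨c, hcX⟩, Subgroup.mem_subgroupOf.mpr hcQ, rfl⟩
  have hφb : φ ⟨b, hbX⟩ = α * φ ⟨c, hcX⟩ := by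
    rw [hα, ← map_mul]
    congr 1
    exact Subtype.ext hbac
  have hregR := Cfsg.Agent.Lib.H1.SL2.reg_of_coprime hRcard
  have hnt' : ¬ ∀ r ∈ R, α * r = r * α := by
    intro hcen
    apply hφ
    have hcomm : Commute α (φ ⟨c, hcX⟩) := hcen _ hc'R
    have hbp' : (φ ⟨b, hbX⟩) ^ p = 1 := by
      rw [← map_pow]
      have : (⟨b, hbX⟩ : X) ^ p = 1 := Subtype.ext (by simpa using hbp)
      rw [this, map_one]
    have hc1 : φ ⟨c, hcX⟩ = 1 := by
      apply hregR _ hc'R
      rw [hφb, hcomm.mul_pow, hαp, one_mul] at hbp'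
      exact hbp'
    rw [hc1, mul_one] at hφb
    have hall : ∀ g : X, φ g ∈ Subgroup.zpowers α :=
      forall_of_gen hgen ((Subgroup.zpowers α).comap φ)
        (by rw [Subgroup.mem_comap, ← hα]; exact Subgroup.mem_zpowers α)
        (by rw [Subgroup.mem_comap, hφb]; exact Subgroup.mem_zpowers α)
    intro g
    obtain ⟨k, hk⟩ := Subgroup.mem_zpowers_iff.mp (hall g)
    refine ⟨1, ?_⟩
    rw [pow_one, ← hk, ← zpow_natCast, ← zpow_mul, mul_comm, zpow_mul, zpow_natCast, hαp, one_zpow]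
  obtain ⟨hp3, -, ⟨e⟩⟩ := Cfsg.Agent.Lib.H1.SL2.sl23_of_action hp2 hαp hRcard hαR hnt'
  have hrange : φ.range = R ⊔ Subgroup.zpowers α := by
    apply le_antisymm
    · rw [MonoidHom.range_eq_map, ← hgen, MonoidHom.map_closure, Subgroup.closure_le]
      rintro _ ⟨z, (rfl | rfl), rfl⟩
      · rw [← hα]; exact Subgroup.mem_sup_right (Subgroup.mem_zpowers α)
      · rw [hφb]
        exact Subgroup.mul_mem _ (Subgroup.mem_sup_right (Subgroup.mem_zpowers α))
          (Subgroup.mem_sup_left hc'R)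
    · apply sup_le
      · rw [hRdef]; exact Subgroup.map_le_range _ _
      · rw [Subgroup.zpowers_le, hα]; exact ⟨_, rfl⟩
  refine ⟨hp3, X, e.toMonoidHom.comp
    ((MulEquiv.subgroupCongr hrange).toMonoidHom.comp φ.rangeRestrict), hXle, ?_⟩
  intro y
  obtain ⟨z, hz⟩ := e.surjective y
  obtain ⟨z', hz'⟩ := (MulEquiv.subgroupCongr hrange).surjective z
  obtain ⟨g, hg⟩ := φ.rangeRestrict_surjective z'
  exact ⟨g, by simp only [MonoidHom.comp_apply, MulEquiv.coe_toMonoidHom, hg, hz', hz]⟩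

end Cfsg.Agent.Lib.H1.QuadStable
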