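import Mathlib
import Cfsg.Agent.Lib.H1.QuadStable
import Cfsg.Prelude.Def_Transfer

/-!
# Multiplicative form of the quadratic-action results (helper1)

An elementary abelian `p`-group `V` (written multiplicatively) is turned into an `𝔽_p`-vector space
`EA p V`; automorphisms become linear maps, so the abstract K–S 9.1.4 results of `QuadStable`
apply to subgroups `H ≤ N(V)` acting faithfully by conjugation.
-/

set_option autoImplicit false

namespace Cfsg.Agent.Lib.H1.QuadMul

open Cfsg.Agent.Lib.H1.QuadPair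

universe u

/-- `V` is an elementary abelian `p`-group (as a mixin) -/
class IsEA (p : ℕ) (V : Type*) [Group V] : Prop where
  comm : ∀ x y : V, x * y = y * x
  exp : ∀ v : V, v ^ p = 1

/-- the additive version of an elementary abelian `p`-group -/
def EA (_p : ℕ) (V : Type*) := Additive V

variable {p : ℕ} {V : Type u} [Group V]

/-- the element of `EA p V` corresponding to `v` -/
def EA.of (p : ℕ) (v : V) : EA p V := Additive.ofMul v

/-- the element of `V` corresponding to `x` -/
def EA.val (x : EA p V) : V := Additive.toMul x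

@[simp] theorem EA.val_of (v : V) : (EA.of p v).val = v := rfl
@[simp] theorem EA.of_val (x : EA p V) : EA.of p x.val = x := rfl

instance [IsEA p V] : AddCommGroup (EA p V) :=
  @Additive.addCommGroup V { ‹Group V› with mul_comm := IsEA.comm p }

theorem EA.val_add [IsEA p V] (x y : EA p V) : (x + y).val = x.val * y.val := rfl
theorem EA.val_zero [IsEA p V] : (0 : EA p V).val = 1 := rfl
theorem EA.val_neg [IsEA p V] (x : EA p V) : (-x).val = x.val⁻¹ := rfl
theorem EA.val_sub [IsEA p V] (x y : EA p V) : (x - y).val = x.val * y.val⁻¹ := by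
  rw [sub_eq_add_neg, EA.val_add, EA.val_neg]
theorem EA.ext {x y : EA p V} (h : x.val = y.val) : x = y := h

theorem EA.val_nsmul [IsEA p V] (n : ℕ) (x : EA p V) : (n • x).val = x.val ^ n := by
  induction n with
  | zero => rw [zero_smul, pow_zero]; rfl
  | succ n ih => rw [succ_nsmul, EA.val_add, ih, pow_succ]

instance [IsEA p V] : Module (ZMod p) (EA p V) :=
  AddCommGroup.zmodModule (n := p) (by
    intro x
    apply EA.ext
    rw [EA.val_nsmul, (IsEA.exp x.val : x.val ^ p = 1), EA.val_zero])

instance [Finite V] : Finite (EA p V) := inferInstanceAs (Finite V)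

/-- multiplicative automorphisms are `𝔽_p`-linear -/
def mulAutToLin (p : ℕ) (V : Type u) [Group V] [IsEA p V] :
    MulAut V →* (EA p V ≃ₗ[ZMod p] EA p V) where
  toFun f :=
    { toFun := fun x => EA.of p (f x.val)
      invFun := fun x => EA.of p (f.symm x.val)
      map_add' := fun x y => by
        apply EA.ext
        exact map_mul f _ _
      map_smul' := fun c x => by
        let F : EA p V →+ EA p V :=
          { toFun := fun x => EA.of p (f x.val)
            map_zero' := by
              apply EA.ext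
              exact map_one f
            map_add' := fun x y => by
              apply EA.ext
              exact map_mul f _ _ }
        exact ZMod.map_smul F c x
      left_inv := fun x => by simp
      right_inv := fun x => by simp }
  map_one' := by
    refine LinearEquiv.ext (fun x => ?_)
    rfl
  map_mul' f g := by
    refine LinearEquiv.ext (fun x => ?_)
    rfl

@[simp] theorem mulAutToLin_apply [IsEA p V] (f : MulAut V) (x : EA p V) :
    mulAutToLin p V f x = EA.of p (f x.val) := rfl

theorem mulAutToLin_injective [IsEA p V] : Function.Injective (mulAutToLin p V) := by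
  intro f g h
  ext v
  have := congrArg (fun e : EA p V ≃ₗ[ZMod p] EA p V => (e (EA.of p v)).val) h
  simpa using this

/-- multiplicative form of quadratic action: `[v, f, f] = 1` -/
def QuadM (f : MulAut V) : Prop := ∀ v, f (f v * v⁻¹) = f v * v⁻¹

variable {G : Type*} [Group G] [hp : Fact p.Prime]

theorem quad_of_quadM [IsEA p V] {f : MulAut V} (h : QuadM f) : Quad (mulAutToLin p V f) := by
  intro x
  apply EA.ext
  rw [mulAutToLin_apply, mulAutToLin_apply, EA.val_of, EA.val_sub, EA.val_of]
  exact h x.val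

/-- K–S 9.1.4(a), multiplicative form -/
theorem sylow_two_not_comm_mul [Finite G] [Finite V] [IsEA p V] (hp2 : p ≠ 2)
    (σ : G →* MulAut V) (hσ : Function.Injective σ) {a b : G}
    (hgen : Subgroup.closure ({a, b} : Set G) = ⊤) (ha : QuadM (σ a)) (hb : QuadM (σ b))
    (hnp : ¬ IsPGroup p G) (T : Sylow 2 G) : ¬ ∀ x ∈ T, ∀ y ∈ T, x * y = y * x := by
  have : Module.Finite (ZMod p) (EA p V) := Module.Finite.of_finite
  exact Cfsg.Agent.Lib.H1.QuadStable.sylow_two_not_comm hp2 ((mulAutToLin p V).comp σ)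
    (mulAutToLin_injective.comp hσ) hgen (quad_of_quadM ha) (quad_of_quadM hb) hnp T

/-- K–S 9.1.4(b), multiplicative form -/
theorem sl23_section_mul [Finite G] [Finite V] [IsEA p V] (hp2 : p ≠ 2)
    (σ : G →* MulAut V) (hσ : Function.Injective σ) {a : G} (ha : QuadM (σ a))
    (Q : Subgroup G) (hQ : (Nat.card Q).Coprime p)
    (haQ : a ∈ Subgroup.normalizer (Q : Set G)) (hnt : ¬ ∀ x ∈ Q, a * x = x * a) :
    p = 3 ∧ ∃ (X : Subgroup G) (ψ : X →* Matrix.SpecialLinearGroup (Fin 2) (ZMod 3)),
      X ≤ Q ⊔ Subgroup.zpowers a ∧ Function.Surjective ψ := by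
  have : Module.Finite (ZMod p) (EA p V) := Module.Finite.of_finite
  exact Cfsg.Agent.Lib.H1.QuadStable.sl23_section hp2 ((mulAutToLin p V).comp σ)
    (mulAutToLin_injective.comp hσ) (quad_of_quadM ha) Q hQ haQ hnt

theorem pow_p_of_quadM [Finite V] [IsEA p V] (σ : G →* MulAut V) (hσ : Function.Injective σ)
    {a : G} (ha : QuadM (σ a)) : a ^ p = 1 :=
  Cfsg.Agent.Lib.H1.QuadStable.pow_p_of_quad ((mulAutToLin p V).comp σ)
    (mulAutToLin_injective.comp hσ) (quad_of_quadM ha)

end Cfsg.Agent.Lib.H1.QuadMul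

namespace Cfsg.Agent.Lib.H1.QuadMul

open Cfsg.Agent.Lib.H1.QuadPair
open scoped commutatorElement

variable {G₀ : Type*} [Group G₀] {p : ℕ}

theorem isEA_of {V : Subgroup G₀} (hV : Cfsg.IsElementaryAbelian p V) : IsEA p ↥V where
  comm x y := hV.1.is_comm.comm x y
  exp v := Subtype.ext (by simpa using hV.2 v.1 v.2)

/-- the conjugation action of `H ≤ N(V)` on `V` -/
def act (V H : Subgroup G₀) (hHV : H ≤ Subgroup.normalizer (V : Set G₀)) : ↥H →* MulAut ↥V :=
  V.normalizerMonoidHom.comp (Subgroup.inclusion hHV)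

theorem act_apply {V H : Subgroup G₀} (hHV : H ≤ Subgroup.normalizer (V : Set G₀)) (h : H) (v : V) :
    ((act V H hHV h v : V) : G₀) = h * v * (h : G₀)⁻¹ := rfl

theorem act_injective {V H : Subgroup G₀} (hHV : H ≤ Subgroup.normalizer (V : Set G₀))
    (hf : H ⊓ Subgroup.centralizer (V : Set G₀) = ⊥) : Function.Injective (act V H hHV) := by
  rw [injective_iff_map_eq_one]
  intro h hh
  have h1 : (h : G₀) ∈ H ⊓ Subgroup.centralizer (V : Set G₀) := by
    refine Subgroup.mem_inf.mpr ⟨h.2, ?_⟩
    rw [Subgroup.mem_centralizer_iff]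
    intro v hv
    have := congrArg (fun f : MulAut ↥V => ((f ⟨v, hv⟩ : V) : G₀)) hh
    simp only [act_apply, MulAut.one_apply] at this
    calc v * (h : G₀) = ((h : G₀) * v * (h : G₀)⁻¹) * h := by rw [this]
      _ = h * v := by group
  rw [hf, Subgroup.mem_bot] at h1
  exact Subtype.ext h1

theorem quadM_act {V H : Subgroup G₀} (hHV : H ≤ Subgroup.normalizer (V : Set G₀)) {a : G₀}
    (haH : a ∈ H) (hq : ⁅⁅V, Subgroup.zpowers a⁆, Subgroup.zpowers a⁆ = ⊥) :
    QuadM (act V H hHV ⟨a, haH⟩) := by
  intro v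
  apply Subtype.ext
  rw [act_apply]
  simp only [Subgroup.coe_mul, Subgroup.coe_inv, act_apply]
  set c : G₀ := a * v * a⁻¹ * (v : G₀)⁻¹ with hc
  have h1 : c⁻¹ ∈ ⁅V, Subgroup.zpowers a⁆ := by
    have : c⁻¹ = ⁅(v : G₀), a⁆ := by rw [hc, commutatorElement_def]; group
    rw [this]
    exact Subgroup.commutator_mem_commutator v.2 (Subgroup.mem_zpowers a)
  have h2 : ⁅c, a⁆ ∈ ⁅⁅V, Subgroup.zpowers a⁆, Subgroup.zpowers a⁆ :=
    Subgroup.commutator_mem_commutator (by simpa using Subgroup.inv_mem _ h1) (Subgroup.mem_zpowers a)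
  rw [hq, Subgroup.mem_bot, commutatorElement_def] at h2
  have h3 : c * a = a * c := by
    have := congrArg (· * (a * c)) h2
    simpa [mul_assoc] using this
  rw [← h3]; group

end Cfsg.Agent.Lib.H1.QuadMul

namespace Cfsg.Agent.Lib.H1.QuadMul

variable {G₀ : Type*} [Group G₀] {p : ℕ}

/-- a surjection from a subgroup of `↥H` gives a section of the ambient group inside `H` -/
theorem section_of_surj {S : Type*} [Group S] (H : Subgroup G₀) (X : Subgroup ↥H) (ψ : ↥X →* S)
    (hψ : Function.Surjective ψ) :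
    ∃ (K L : Subgroup G₀) (hL : (L.subgroupOf K).Normal), K ≤ H ∧
      Nonempty ((K ⧸ L.subgroupOf K) ≃* S) := by
  let K : Subgroup G₀ := X.map H.subtype
  let e : ↥X ≃* ↥K := X.equivMapOfInjective H.subtype H.subtype_injective
  let ψ' : ↥K →* S := ψ.comp e.symm.toMonoidHom
  have hψ' : Function.Surjective ψ' := hψ.comp e.symm.surjective
  let L : Subgroup G₀ := ψ'.ker.map K.subtype
  have heq : L.subgroupOf K = ψ'.ker := by
    ext x
    rw [Subgroup.mem_subgroupOf]
    constructor
    · rintro ⟨y, hy, hxy⟩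
      have : y = x := Subtype.ext hxy
      rw [← this]; exact hy
    · intro hx
      exact ⟨x, hx, rfl⟩
  have hn : (L.subgroupOf K).Normal := by rw [heq]; infer_instance
  refine ⟨K, L, hn, ?_, ⟨?_⟩⟩
  · rintro _ ⟨y, _, rfl⟩
    exact y.2
  · exact (QuotientGroup.quotientMulEquivOfEq heq).trans
      (QuotientGroup.quotientKerEquivOfSurjective ψ' hψ')

end Cfsg.Agent.Lib.H1.QuadMul

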