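import Mathlib
import Cfsg.Agent.Lib.H1.QuadMul
import Cfsg.Agent.Lib.H1.PCore
import Cfsg.Agent.S0199

/-!
# Quadratic elements outside `O_p` (helper1)

Baer–Suzuki plus K–S 9.1.4(a): a quadratically acting element of a faithful group on an elementary
abelian `p`-group that is not in `O_p` forces non-abelian Sylow 2-subgroups.
-/

set_option autoImplicit false
namespace Cfsg.Agent.Lib.H1.QuadMul

variable {p : ℕ} {V : Type*} [Group V] {G : Type*} [Group G] [hp : Fact p.Prime]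

theorem QuadM.conj {f : MulAut V} (h : QuadM f) (g : MulAut V) : QuadM (g * f * g⁻¹) := by
  intro v
  simp only [MulAut.mul_apply]
  have h1 : g (f (g⁻¹ v)) * v⁻¹ = g (f (g⁻¹ v) * (g⁻¹ v)⁻¹) := by
    rw [map_mul, map_inv, MulAut.apply_inv_self]
  rw [h1, MulAut.inv_apply_self, h]

/-- abstract form of K–S 9.4.x: a quadratic element outside `O_p` forces non-abelian Sylow 2-subgroups -/
theorem sylow_two_not_comm_of_not_mem_pCore [Finite G] [Finite V] [IsEA p V] (hp2 : p ≠ 2)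
    (σ : G →* MulAut V) (hσ : Function.Injective σ) {a : G} (ha : QuadM (σ a))
    (hna : a ∉ Cfsg.pCore p G) (T : Sylow 2 G) : ¬ ∀ x ∈ T, ∀ y ∈ T, x * y = y * x := by
  intro hT
  have hap : a ^ p = 1 := pow_p_of_quadM σ hσ ha
  have hX : IsPGroup p (Subgroup.zpowers a) := by
    rintro ⟨x, hx⟩
    obtain ⟨k, rfl⟩ := Subgroup.mem_zpowers_iff.mp hx
    refine ⟨1, Subtype.ext ?_⟩
    simp only [pow_one, Subgroup.coe_pow, Subgroup.coe_one]
    rw [← zpow_natCast, ← zpow_mul, mul_comm, zpow_mul, zpow_natCast, hap, one_zpow]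
  -- Baer–Suzuki
  have hBS : ∃ g : G, ¬ IsPGroup p
      ↥(Subgroup.zpowers a ⊔ (Subgroup.zpowers a).map (MulAut.conj g).toMonoidHom) := by
    by_contra hcon
    push Not at hcon
    obtain ⟨N, hN, hNp, hXN⟩ := Cfsg.Agent.S0199.result (Subgroup.zpowers a) hX hcon
    exact hna (Cfsg.Agent.Lib.H1.le_pCore hN hNp (hXN (Subgroup.mem_zpowers a)))
  obtain ⟨g, hg⟩ := hBS
  obtain ⟨b, hb⟩ : ∃ b, b = g * a * g⁻¹ := ⟨_, rfl⟩
  have hH1 : Subgroup.zpowers a ⊔ (Subgroup.zpowers a).map (MulAut.conj g).toMonoidHom =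
      Subgroup.closure {a, b} := by
    rw [MonoidHom.map_zpowers, Subgroup.zpowers_eq_closure, Subgroup.zpowers_eq_closure,
      ← Subgroup.closure_union, hb]
    rfl
  rw [hH1] at hg
  set H₁ : Subgroup G := Subgroup.closure {a, b} with hH₁
  have haH : a ∈ H₁ := Subgroup.subset_closure (by simp)
  have hbH : b ∈ H₁ := Subgroup.subset_closure (by simp)
  have hgen : Subgroup.closure ({⟨a, haH⟩, ⟨b, hbH⟩} : Set ↥H₁) = ⊤ := by
    have h1 : (Subgroup.closure ({⟨a, haH⟩, ⟨b, hbH⟩} : Set ↥H₁)).map H₁.subtype = H₁ := by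
      rw [MonoidHom.map_closure, Set.image_insert_eq, Set.image_singleton]
      rfl
    rw [eq_top_iff]
    intro x _
    have hx : (x : G) ∈ (Subgroup.closure ({⟨a, haH⟩, ⟨b, hbH⟩} : Set ↥H₁)).map H₁.subtype := by
      rw [h1]; exact x.2
    obtain ⟨y, hy, hyx⟩ := hx
    have : y = x := Subtype.ext hyx
    rw [← this]; exact hy
  have hbq : QuadM (σ b) := by
    rw [hb, map_mul, map_mul, map_inv]
    exact ha.conj _
  have : Fact (Nat.Prime 2) := ⟨Nat.prime_two⟩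
  obtain ⟨T₁⟩ : Nonempty (Sylow 2 H₁) := inferInstance
  refine sylow_two_not_comm_mul hp2 (σ.comp H₁.subtype) (hσ.comp H₁.subtype_injective) hgen
    ha hbq hg T₁ ?_
  -- `T₁` is commutative
  have h2 : IsPGroup 2 ((T₁ : Subgroup H₁).map H₁.subtype) := T₁.2.map _
  obtain ⟨P, hP⟩ := h2.exists_le_sylow
  obtain ⟨c, hc⟩ := MulAction.exists_smul_eq G T P
  intro x hx y hy
  have hx' : (x : G) ∈ (P : Subgroup G) := hP ⟨x, hx, rfl⟩
  have hy' : (y : G) ∈ (P : Subgroup G) := hP ⟨y, hy, rfl⟩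
  rw [← hc, Sylow.smul_def, Sylow.pointwise_smul_def, Subgroup.mem_pointwise_smul_iff_inv_smul_mem] at hx' hy'
  have := hT _ hx' _ hy'
  simp only [MulAut.smul_def] at this
  apply Subtype.ext
  simp only [Subgroup.coe_mul]
  have h3 : c⁻¹ * (↑x * ↑y) * c = c⁻¹ * (↑y * ↑x) * c := by
    calc c⁻¹ * (↑x * ↑y) * c = c⁻¹ * ↑x * c * (c⁻¹ * ↑y * c) := by group
      _ = c⁻¹ * ↑y * c * (c⁻¹ * ↑x * c) := this
      _ = c⁻¹ * (↑y * ↑x) * c := by group
  exact mul_left_cancel (mul_right_cancel h3)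

end Cfsg.Agent.Lib.H1.QuadMul
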