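import Mathlib
import Cfsg.Prelude.Def_Local
import Cfsg.Agent.Lib.H1.PCore
import Cfsg.Agent.Lib.H22.PPrimeCore

/-!
# Dual Hall–Higman lemma (helper1)

For a finite `p`-solvable group with `O_p(G) = 1`: `C_G(O_{p'}(G)) ≤ O_{p'}(G)`.
-/
set_option autoImplicit false
open Cfsg

namespace Cfsg.Agent.Lib.H1.PSolvDual

variable {G : Type*} [Group G] [Finite G]

/-- A normal subgroup `M` with a central (in `M`) `p'`-subgroup `Z` of `p`-power index is a
`p'`-group, provided `O_p(G) = 1`. -/
theorem coprime_card_of_central_of_pCore_eq_bot (p : ℕ) [hp : Fact p.Prime]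
    (hO : Cfsg.pCore p G = ⊥) (M Z : Subgroup G) [hM : M.Normal]
    (hZc : M ≤ Subgroup.centralizer (Z : Set G))
    (hZi : ∃ k, Z.relIndex M = p ^ k) : (Nat.card M).Coprime p := by
  have hcen : Z.subgroupOf M ≤ Subgroup.center M := by
    intro z hz
    rw [Subgroup.mem_center_iff]
    intro m
    apply Subtype.ext
    have := Subgroup.mem_centralizer_iff.1 (hZc m.2) z (Subgroup.mem_subgroupOf.1 hz)
    exact this.symm
  have hZn : (Z.subgroupOf M).Normal := by
    constructor
    intro z hz m
    have h1 := Subgroup.mem_center_iff.1 (hcen hz) m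
    have : m * z * m⁻¹ = z := by rw [h1]; group
    rw [this]; exact hz
  have hq : IsPGroup p (↥M ⧸ Z.subgroupOf M) := by
    obtain ⟨k, hk⟩ := hZi
    apply IsPGroup.of_card (n := k)
    rw [← hk]
    rfl
  have hnq : Group.IsNilpotent (↥M ⧸ Z.subgroupOf M) := hq.isNilpotent
  have hnil : Group.IsNilpotent ↥M := by
    apply Subgroup.isNilpotent_of_ker_le_center (QuotientGroup.mk' (Z.subgroupOf M))
    rw [QuotientGroup.ker_mk']
    exact hcen
  -- `O_p(M) = 1`
  have hOM : Cfsg.pCore p ↥M = ⊥ := by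
    have hchar := Cfsg.Agent.Lib.H1.pCore_characteristic p ↥M
    have hn : ((Cfsg.pCore p ↥M).map M.subtype).Normal := inferInstance
    have hpg : IsPGroup p ((Cfsg.pCore p ↥M).map M.subtype) :=
      (Cfsg.Agent.Lib.H1.pCore_isPGroup p ↥M).map _
    have := Cfsg.Agent.Lib.H1.le_pCore hn hpg
    rw [hO, le_bot_iff, Subgroup.map_eq_bot_iff_of_injective _ M.subtype_injective] at this
    exact this
  rw [Nat.coprime_comm, Nat.Prime.coprime_iff_not_dvd hp.out]
  intro hdvd
  obtain ⟨P⟩ : Nonempty (Sylow p ↥M) := inferInstance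
  have hPn : (P : Subgroup ↥M).Normal := inferInstance
  have := Cfsg.Agent.Lib.H1.le_pCore hPn P.2
  rw [hOM, le_bot_iff] at this
  exact P.ne_bot_of_dvd_card hdvd this

/-- **dual of Hall–Higman Lemma 1.2.3** for `p`-solvable groups: if `O_p(G) = 1` then
`C_G(O_{p'}(G)) ≤ O_{p'}(G)`. -/
theorem centralizer_pPrimeCore_le_of_isPSolvable (p : ℕ) [hp : Fact p.Prime]
    (hG : Cfsg.IsPSolvable p G) (hO : Cfsg.pCore p G = ⊥) :
    Subgroup.centralizer (Cfsg.pPrimeCore p G : Set G) ≤ Cfsg.pPrimeCore p G := by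
  obtain ⟨n, H, h0, hlast, hmono, hnorm, hstep⟩ := hG
  have hPn : (Cfsg.pPrimeCore p G).Normal := Cfsg.Agent.Lib.H22.pPrimeCore_normal p
  have hPp : (Nat.card (Cfsg.pPrimeCore p G)).Coprime p := Cfsg.Agent.Lib.H22.card_pPrimeCore_coprime p
  set P := Cfsg.pPrimeCore p G with hP
  set C := Subgroup.centralizer (P : Set G) with hC
  have hCn : C.Normal := inferInstance
  have key : ∀ i : ℕ, ∀ hi : i < n + 1, C ⊓ H ⟨i, hi⟩ ≤ P := by
    intro i
    induction i with
    | zero =>
      intro hi
      have : H ⟨0, hi⟩ = ⊥ := h0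
      rw [this, inf_bot_eq]; exact bot_le
    | succ i ih =>
      intro hi
      have hi' : i < n := Nat.lt_of_succ_lt_succ hi
      have ih' := ih (Nat.lt_succ_of_lt hi')
      set j : Fin n := ⟨i, hi'⟩ with hj
      have e1 : (⟨i, Nat.lt_succ_of_lt hi'⟩ : Fin (n + 1)) = j.castSucc := rfl
      have e2 : (⟨i + 1, hi⟩ : Fin (n + 1)) = j.succ := rfl
      rw [e1] at ih'
      rw [e2]
      set H0 := H j.castSucc with hH0
      set H1 := H j.succ with hH1
      have hH0n : H0.Normal := hnorm _
      have hH1n : H1.Normal := hnorm _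
      have hle : H0 ≤ H1 := hmono (Fin.castSucc_lt_succ.le)
      set M := C ⊓ H1 with hMdef
      have hMn : M.Normal := Subgroup.normal_inf_normal C H1
      set Z := C ⊓ H0 with hZdef
      have hZM : Z ≤ M := inf_le_inf_left C hle
      have hZeq : Z = H0 ⊓ M := by
        rw [hZdef, hMdef]
        apply le_antisymm
        · exact le_inf inf_le_right (le_inf inf_le_left (inf_le_right.trans hle))
        · exact le_inf (inf_le_right.trans inf_le_left) inf_le_left
      have hZp : (Nat.card Z).Coprime p :=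
        Nat.Coprime.coprime_dvd_left (Subgroup.card_dvd_of_le ih') hPp
      -- `|M : Z|` divides `|H1 : H0|`
      have hdvd : Z.relIndex M ∣ H0.relIndex H1 := by
        rw [hZeq, Subgroup.inf_relIndex_right, ← Subgroup.relIndex_sup_right M H0]
        have h2 : M ⊔ H0 ≤ H1 := sup_le inf_le_right hle
        exact Dvd.intro _ (Subgroup.relIndex_mul_relIndex H0 (M ⊔ H0) H1 le_sup_right h2)
      have hcard : Nat.card Z * Z.relIndex M = Nat.card M := by
        have := Subgroup.relIndex_mul_relIndex ⊥ Z M bot_le hZM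
        rwa [Subgroup.relIndex_bot_left, Subgroup.relIndex_bot_left] at this
      have hMp : (Nat.card M).Coprime p := by
        rcases hstep j with ⟨m, hm⟩ | hcop
        · -- `p`-power step
          rw [← hH0, ← hH1] at hm
          rw [hm] at hdvd
          obtain ⟨k, _, hk⟩ := (Nat.dvd_prime_pow hp.out).1 hdvd
          apply coprime_card_of_central_of_pCore_eq_bot p hO M Z _ ⟨k, hk⟩
          intro m hm
          rw [Subgroup.mem_centralizer_iff]
          intro z hz
          have hzP : z ∈ P := ih' hz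
          have hmC : m ∈ C := hm.1
          exact Subgroup.mem_centralizer_iff.1 hmC z hzP
        · rw [← hH0, ← hH1] at hcop
          have hZi : (Z.relIndex M).Coprime p := Nat.Coprime.coprime_dvd_left hdvd hcop
          rw [← hcard]
          exact Nat.Coprime.mul_left hZp hZi
      exact Cfsg.Agent.Lib.H22.le_pPrimeCore p M hMn hMp
  have := key n (Nat.lt_succ_self n)
  have e : (⟨n, Nat.lt_succ_self n⟩ : Fin (n + 1)) = Fin.last n := rfl
  rw [e, hlast, inf_top_eq] at this
  exact this

end Cfsg.Agent.Lib.H1.PSolvDual
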