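import Mathlib
import Cfsg.Agent.Lib.H1.QuadStable
import Cfsg.Agent.Lib.H1.PSolvDual
import Cfsg.Agent.Lib.H26.PSolvableExt

/-!
# `p`-solvable groups with a quadratic element outside `O_p` (helper1)

Abstract, non-faithful linear form of K–S 9.4.5: `sl23_of_pSolvable_aux`.
-/
set_option autoImplicit false

namespace Cfsg.Agent.Lib.H1.QuadStable

open Cfsg.Agent.Lib.H1.QuadPair

variable {p : ℕ} [hp : Fact p.Prime]

/-- a `p`-group of linear automorphisms of a nonzero finite `𝔽_p`-space fixes a nonzero vector -/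
theorem exists_fixed_ne_zero {V : Type*} [AddCommGroup V] [Module (ZMod p) V] [Finite V]
    [Nontrivial V] (P : Subgroup (V ≃ₗ[ZMod p] V)) (hP : IsPGroup p P) :
    ∃ v : V, v ≠ 0 ∧ ∀ g ∈ P, g v = v := by
  have hdvd : p ∣ Nat.card V := by
    obtain ⟨v, hv⟩ := exists_ne (0 : V)
    have h1 : addOrderOf v = p := by
      apply addOrderOf_eq_prime
      · rw [← Nat.cast_smul_eq_nsmul (ZMod p)]
        simp
      · exact hv
    rw [← h1]; exact addOrderOf_dvd_natCard v
  have h0 : (0 : V) ∈ MulAction.fixedPoints P V := fun g => by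
    rw [Subgroup.smul_def]; exact smul_zero _
  obtain ⟨b, hb, hne⟩ := hP.exists_fixed_point_of_prime_dvd_card_of_fixed_point V hdvd h0
  exact ⟨b, hne.symm, fun g hg => hb ⟨g, hg⟩⟩

/-- the image of `a` does not lie in `O_p` of the image of `ρ`: no normal subgroup containing `a`
acts as a `p`-group -/
def NotInOp {V : Type*} [AddCommGroup V] [Module (ZMod p) V] {G : Type*} [Group G]
    (ρ : G →* (V ≃ₗ[ZMod p] V)) (a : G) : Prop :=
  ∀ N : Subgroup G, N.Normal → a ∈ N → ¬ PImg p (ρ.comp N.subtype)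

/-- base case: `O_p` of the image is trivial -/
theorem sl23_of_pCore_range_eq_bot {V : Type*} [AddCommGroup V] [Module (ZMod p) V]
    [Module.Finite (ZMod p) V] {G : Type*} [Group G] [Finite G] (hp2 : p ≠ 2)
    (hG : Cfsg.IsPSolvable p G) (ρ : G →* (V ≃ₗ[ZMod p] V)) (a : G) (ha : Quad (ρ a))
    (hna : ρ a ≠ 1) (hO : Cfsg.pCore p ρ.range = ⊥) :
    p = 3 ∧ ∃ (X : Subgroup G) (ψ : X →* Matrix.SpecialLinearGroup (Fin 2) (ZMod 3)),
      Function.Surjective ψ := by
  have hsurj : Function.Surjective ρ.rangeRestrict := ρ.rangeRestrict_surjective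
  have hfin : Finite ρ.range := Finite.of_surjective _ hsurj
  have hR : Cfsg.IsPSolvable p ρ.range :=
    Cfsg.Agent.Lib.H26.isPSolvable_of_surjective ρ.rangeRestrict hsurj hG
  have hHH := Cfsg.Agent.Lib.H1.PSolvDual.centralizer_pPrimeCore_le_of_isPSolvable p hR hO
  obtain ⟨b, hb⟩ : ∃ b : ρ.range, b = ρ.rangeRestrict a := ⟨_, rfl⟩
  have hbq : Quad (ρ.range.subtype b) := by rw [hb]; exact ha
  have hbp : b ^ p = 1 := pow_p_of_quad ρ.range.subtype ρ.range.subtype_injective hbq
  have hb1 : b ≠ 1 := fun h => hna (by rw [hb] at h; exact congrArg Subtype.val h)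
  have hQc : (Nat.card (Cfsg.pPrimeCore p ρ.range)).Coprime p :=
    Cfsg.Agent.Lib.H22.card_pPrimeCore_coprime p
  have hQn : (Cfsg.pPrimeCore p ρ.range).Normal := Cfsg.Agent.Lib.H22.pPrimeCore_normal p
  have hbQ : b ∈ Subgroup.normalizer ((Cfsg.pPrimeCore p ρ.range : Subgroup ρ.range) : Set ρ.range) := by
    rw [Subgroup.normalizer_eq_top]; trivial
  have hnt : ¬ ∀ x ∈ Cfsg.pPrimeCore p ρ.range, b * x = x * b := by
    intro h
    have h1 : b ∈ Subgroup.centralizer ((Cfsg.pPrimeCore p ρ.range : Subgroup ρ.range) : Set ρ.range) := by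
      rw [Subgroup.mem_centralizer_iff]; intro x hx; exact (h x hx).symm
    have h2 : b ∈ Cfsg.pPrimeCore p ρ.range := hHH h1
    have h3 : orderOf b ∣ p := orderOf_dvd_of_pow_eq_one hbp
    have h4 : orderOf b ∣ Nat.card (Cfsg.pPrimeCore p ρ.range) := by
      have := orderOf_dvd_natCard (⟨b, h2⟩ : Cfsg.pPrimeCore p ρ.range)
      rwa [Subgroup.orderOf_mk] at this
    have h5 : orderOf b = 1 := Nat.eq_one_of_dvd_coprimes hQc h4 h3
    exact hb1 (orderOf_eq_one_iff.mp h5)
  obtain ⟨h3, X, ψ, _, hψ⟩ := sl23_section hp2 ρ.range.subtype ρ.range.subtype_injective hbq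
    (Cfsg.pPrimeCore p ρ.range) hQc hbQ hnt
  exact ⟨h3, X.comap ρ.rangeRestrict, ψ.comp (ρ.rangeRestrict.subgroupComap X),
    hψ.comp (ρ.rangeRestrict.subgroupComap_surjective_of_surjective X hsurj)⟩

universe u

/-- **abstract, non-faithful form of K–S 9.4.5**: a `p`-solvable group with a quadratic element whose
image is not in `O_p` of the image involves `SL₂(3)` and `p = 3` -/
theorem sl23_of_pSolvable_aux {G : Type*} [Group G] [Finite G] (hp2 : p ≠ 2)
    (hG : Cfsg.IsPSolvable p G) (a : G) :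
    ∀ n : ℕ, ∀ (V : Type u) [AddCommGroup V] [Module (ZMod p) V] [Module.Finite (ZMod p) V]
      (ρ : G →* (V ≃ₗ[ZMod p] V)), Module.finrank (ZMod p) V = n → Quad (ρ a) → NotInOp ρ a →
      p = 3 ∧ ∃ (X : Subgroup G) (ψ : X →* Matrix.SpecialLinearGroup (Fin 2) (ZMod 3)),
        Function.Surjective ψ := by
  intro n
  induction n using Nat.strong_induction_on with
  | _ n ih =>
  intro V _ _ _ ρ hn ha hna
  by_cases hO : Cfsg.pCore p ρ.range = ⊥
  · refine sl23_of_pCore_range_eq_bot hp2 hG ρ a ha ?_ hO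
    intro h1
    apply hna ρ.ker inferInstance (show a ∈ ρ.ker from h1)
    intro g
    refine ⟨0, ?_⟩
    have := g.2
    rw [MonoidHom.mem_ker] at this
    simpa using this
  · have hfinV : Finite V := Module.finite_of_finite (ZMod p)
    have hsurj : Function.Surjective ρ.rangeRestrict := ρ.rangeRestrict_surjective
    have hfin : Finite ρ.range := Finite.of_surjective _ hsurj
    obtain ⟨O, hOdef⟩ : ∃ O : Subgroup (V ≃ₗ[ZMod p] V),
      O = (Cfsg.pCore p ρ.range).map ρ.range.subtype := ⟨_, rfl⟩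
    have hOp : IsPGroup p O := by
      rw [hOdef]; exact (Cfsg.Agent.Lib.H1.pCore_isPGroup p _).map _
    have hOn : ∀ g : G, ∀ h ∈ O, (ρ g)⁻¹ * h * ρ g ∈ O := by
      intro g h hh
      rw [hOdef] at hh ⊢
      obtain ⟨x, hx, rfl⟩ := hh
      have hnorm := Cfsg.Agent.Lib.H1.pCore_normal p ρ.range
      have := hnorm.conj_mem x hx (ρ.rangeRestrict g)⁻¹
      refine ⟨_, this, ?_⟩
      simp
    have hnontriv : Nontrivial V := by
      by_contra hnt
      rw [not_nontrivial_iff_subsingleton] at hnt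
      apply hO
      rw [eq_bot_iff]
      intro x _
      rw [Subgroup.mem_bot]
      apply Subtype.ext
      ext v
      exact Subsingleton.elim _ _
    -- the fixed space of `O`
    obtain ⟨U, hU⟩ : ∃ U : Submodule (ZMod p) V, ∀ v, v ∈ U ↔ ∀ h ∈ O, h v = v := by
      refine ⟨{ carrier := {v | ∀ h ∈ O, h v = v}
                add_mem' := ?_
                zero_mem' := ?_
                smul_mem' := ?_ }, fun v => Iff.rfl⟩
      · intro x y hx hy h hh
        rw [map_add, hx h hh, hy h hh]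
      · intro h _
        exact map_zero h
      · intro c x hx h hh
        rw [map_smul, hx h hh]
    have hUbot : U ≠ ⊥ := by
      obtain ⟨v, hv0, hv⟩ := exists_fixed_ne_zero O hOp
      intro h
      have : v ∈ U := (hU v).mpr hv
      rw [h] at this
      exact hv0 ((Submodule.mem_bot _).mp this)
    have hUtop : U ≠ ⊤ := by
      intro h
      apply hO
      rw [eq_bot_iff]
      intro x hx
      rw [Subgroup.mem_bot]
      apply Subtype.ext
      ext v
      have hv : v ∈ U := by rw [h]; trivial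
      exact (hU v).mp hv x.1 (by rw [hOdef]; exact ⟨x, hx, rfl⟩)
    have hinv : ∀ g : G, ∀ u ∈ U, ρ g u ∈ U := by
      intro g u hu
      rw [hU]
      intro h hh
      have h1 := (hU u).mp hu _ (hOn g h hh)
      simp only [LinearEquiv.mul_apply] at h1
      have h2 := congrArg (ρ g) h1
      rw [LinearEquiv.coe_inv] at h2
      rwa [LinearEquiv.apply_symm_apply] at h2
    have hstab : ∀ g, ρ g ∈ stab U := by
      intro g
      rw [mem_stab]
      intro w
      constructor
      · intro hw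
        have := hinv g⁻¹ _ hw
        rw [map_inv, LinearEquiv.coe_inv, LinearEquiv.symm_apply_apply] at this
        exact this
      · exact hinv g w
    have hUpos : 0 < Module.finrank (ZMod p) U := by
      rw [Module.finrank_pos_iff (R := ZMod p)]
      exact (Submodule.nontrivial_iff_ne_bot).mpr hUbot
    have hUlt : Module.finrank (ZMod p) U < Module.finrank (ZMod p) V := Submodule.finrank_lt hUtop
    have hquot := Submodule.finrank_quotient_add_finrank U
    obtain ⟨ρS, hρS⟩ : ∃ ρS : G →* stab U, ρS = ρ.codRestrict (stab U) hstab := ⟨_, rfl⟩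
    have hρSv : ∀ g, (ρS g : V ≃ₗ[ZMod p] V) = ρ g := by
      intro g; rw [hρS]; rfl
    have hcase : NotInOp ((resU U).comp ρS) a ∨ NotInOp ((resQ U).comp ρS) a := by
      by_contra hcon
      push Not at hcon
      obtain ⟨h1, h2⟩ := hcon
      unfold NotInOp at h1 h2
      push Not at h1 h2
      obtain ⟨N₁, hN₁, haN₁, hP₁⟩ := h1
      obtain ⟨N₂, hN₂, haN₂, hP₂⟩ := h2
      apply hna (N₁ ⊓ N₂) (Subgroup.normal_inf_normal N₁ N₂) ⟨haN₁, haN₂⟩
      have h3 : PImg p ((resU U).comp (ρS.comp (N₁ ⊓ N₂).subtype)) := by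
        intro g
        exact hP₁ ⟨g.1, g.2.1⟩
      have h4 : PImg p ((resQ U).comp (ρS.comp (N₁ ⊓ N₂).subtype)) := by
        intro g
        exact hP₂ ⟨g.1, g.2.2⟩
      have := pImg_of_res U (ρS.comp (N₁ ⊓ N₂).subtype) h3 h4
      intro g
      obtain ⟨k, hk⟩ := this g
      refine ⟨k, ?_⟩
      simp only [MonoidHom.comp_apply, Subgroup.subtype_apply, hρSv] at hk
      exact hk
    rcases hcase with hc | hc
    · refine ih (Module.finrank (ZMod p) U) (by omega) U ((resU U).comp ρS) rfl ?_ hc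
      intro u
      apply Subtype.ext
      simp only [MonoidHom.comp_apply, resU_apply, hρSv, Submodule.coe_sub]
      exact ha u.1
    · refine ih (Module.finrank (ZMod p) (V ⧸ U)) (by omega) (V ⧸ U) ((resQ U).comp ρS) rfl ?_ hc
      intro x
      obtain ⟨z, rfl⟩ := Submodule.Quotient.mk_surjective U x
      simp only [MonoidHom.comp_apply, resQ_apply, hρSv, ← Submodule.Quotient.mk_sub]
      rw [ha z]

end Cfsg.Agent.Lib.H1.QuadStable
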