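import Mathlib
import Cfsg.Agent.Lib.H1.QuadStable2
import Cfsg.Agent.Lib.H1.QuadMul2

/-!
# K–S 9.4.5 wrappers (helper1)

`sl23_of_pSolvable` (linear, non-faithful), `exists_normal_pImg_of_pSolvable` (contrapositive),
`notInOp_of_injective`, `sl23_of_pSolvable_mul` (multiplicative, faithful).
-/
set_option autoImplicit false

namespace Cfsg.Agent.Lib.H1.QuadStable

open Cfsg.Agent.Lib.H1.QuadPair

variable {p : ℕ} [hp : Fact p.Prime]

universe u

/-- **abstract, non-faithful form of K–S 9.4.5** -/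
theorem sl23_of_pSolvable {G : Type*} [Group G] [Finite G] (hp2 : p ≠ 2)
    (hG : Cfsg.IsPSolvable p G) {V : Type u} [AddCommGroup V] [Module (ZMod p) V]
    [Module.Finite (ZMod p) V] (ρ : G →* (V ≃ₗ[ZMod p] V)) {a : G} (ha : Quad (ρ a))
    (hna : NotInOp ρ a) :
    p = 3 ∧ ∃ (X : Subgroup G) (ψ : X →* Matrix.SpecialLinearGroup (Fin 2) (ZMod 3)),
      Function.Surjective ψ :=
  sl23_of_pSolvable_aux hp2 hG a _ V ρ rfl ha hna

/-- contrapositive form: in a `p`-solvable group not involving `SL₂(3)` (or with `p ≠ 3`), a quadratic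
element lies in a normal subgroup acting as a `p`-group -/
theorem exists_normal_pImg_of_pSolvable {G : Type*} [Group G] [Finite G] (hp2 : p ≠ 2)
    (hG : Cfsg.IsPSolvable p G) {V : Type u} [AddCommGroup V] [Module (ZMod p) V]
    [Module.Finite (ZMod p) V] (ρ : G →* (V ≃ₗ[ZMod p] V)) {a : G} (ha : Quad (ρ a))
    (h : ¬ (p = 3 ∧ ∃ (X : Subgroup G) (ψ : X →* Matrix.SpecialLinearGroup (Fin 2) (ZMod 3)),
      Function.Surjective ψ)) :
    ∃ N : Subgroup G, N.Normal ∧ a ∈ N ∧ PImg p (ρ.comp N.subtype) := by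
  by_contra hcon
  apply h
  apply sl23_of_pSolvable hp2 hG ρ ha
  intro N hN haN hP
  exact hcon ⟨N, hN, haN, hP⟩

/-- for a faithful representation, `NotInOp` means `a ∉ O_p(G)` -/
theorem notInOp_of_injective {G : Type*} [Group G] {V : Type*} [AddCommGroup V]
    [Module (ZMod p) V] (ρ : G →* (V ≃ₗ[ZMod p] V)) (hρ : Function.Injective ρ) {a : G}
    (hna : a ∉ Cfsg.pCore p G) : NotInOp ρ a := by
  intro N hN haN hP
  apply hna
  refine Cfsg.Agent.Lib.H1.le_pCore hN ?_ haN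
  intro g
  obtain ⟨k, hk⟩ := hP g
  refine ⟨k, ?_⟩
  apply Subtype.ext
  apply hρ
  simpa using hk

end Cfsg.Agent.Lib.H1.QuadStable

namespace Cfsg.Agent.Lib.H1.QuadMul

variable {p : ℕ} {V : Type*} [Group V] {G : Type*} [Group G] [hp : Fact p.Prime]

/-- K–S 9.4.5, multiplicative faithful form -/
theorem sl23_of_pSolvable_mul [Finite G] [Finite V] [IsEA p V] (hp2 : p ≠ 2)
    (hG : Cfsg.IsPSolvable p G) (σ : G →* MulAut V) (hσ : Function.Injective σ) {a : G}
    (ha : QuadM (σ a)) (hna : a ∉ Cfsg.pCore p G) :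
    p = 3 ∧ ∃ (X : Subgroup G) (ψ : X →* Matrix.SpecialLinearGroup (Fin 2) (ZMod 3)),
      Function.Surjective ψ := by
  have : Module.Finite (ZMod p) (EA p V) := Module.Finite.of_finite
  exact Cfsg.Agent.Lib.H1.QuadStable.sl23_of_pSolvable hp2 hG ((mulAutToLin p V).comp σ)
    (quad_of_quadM ha)
    (Cfsg.Agent.Lib.H1.QuadStable.notInOp_of_injective ((mulAutToLin p V).comp σ)
      (mulAutToLin_injective.comp hσ) hna)

end Cfsg.Agent.Lib.H1.QuadMul
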