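import Mathlib

set_option autoImplicit false

namespace Cfsg.Agent.Lib.H1

variable {G : Type*} [Group G]

/-- Conjugation by an element of the normalizer, as an automorphism of the subgroup. -/
def conjEquivOfMemNormalizer {K : Subgroup G} {a : G}
    (ha : a ∈ Subgroup.normalizer (K : Set G)) : K ≃* K where
  toFun k := ⟨a * k * a⁻¹, (Subgroup.mem_normalizer_iff.mp ha k).mp k.2⟩
  invFun k := ⟨a⁻¹ * k * a, by
    have := (Subgroup.mem_normalizer_iff.mp (Subgroup.inv_mem _ ha) k).mp k.2
    simpa using this⟩
  left_inv k := by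
    apply Subtype.ext
    simp only
    group
  right_inv k := by
    apply Subtype.ext
    simp only
    group
  map_mul' x y := by
    apply Subtype.ext
    simp only [Subgroup.coe_mul]
    group

theorem conjEquivOfMemNormalizer_apply {K : Subgroup G} {a : G}
    (ha : a ∈ Subgroup.normalizer (K : Set G)) (k : K) :
    ((conjEquivOfMemNormalizer ha k : K) : G) = a * k * a⁻¹ := rfl

/-- A characteristic subgroup of `K` is normalized by `N_G(K)`. -/
theorem conj_mem_map_of_characteristic {K : Subgroup G} {C : Subgroup K} [hC : C.Characteristic]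
    {a : G} (ha : a ∈ Subgroup.normalizer (K : Set G)) {d : G} (hd : d ∈ C.map K.subtype) :
    a * d * a⁻¹ ∈ C.map K.subtype := by
  obtain ⟨x, hx, rfl⟩ := hd
  have h1 : C.map (conjEquivOfMemNormalizer ha).toMonoidHom = C :=
    Subgroup.characteristic_iff_map_eq.mp hC _
  have h2 : conjEquivOfMemNormalizer ha x ∈ C := by
    rw [← h1]
    exact ⟨x, hx, rfl⟩
  exact ⟨_, h2, rfl⟩

theorem normalizer_le_normalizer_map_of_characteristic {K : Subgroup G} (C : Subgroup K)
    [hC : C.Characteristic] :
    Subgroup.normalizer (K : Set G) ≤ Subgroup.normalizer ((C.map K.subtype : Subgroup G) : Set G) := by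
  intro a ha
  rw [Subgroup.mem_normalizer_iff]
  intro d
  constructor
  · exact fun hd => conj_mem_map_of_characteristic ha hd
  · intro hd
    have := conj_mem_map_of_characteristic (C := C) (Subgroup.inv_mem _ ha) hd
    have e : a⁻¹ * (a * d * a⁻¹) * a⁻¹⁻¹ = d := by group
    rwa [e] at this

end Cfsg.Agent.Lib.H1
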