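import Mathlib
import Cfsg.Agent.Lib.H1.QdSec
import Cfsg.Agent.Lib.H1.QdRecog
import Cfsg.Agent.Lib.H1.QuadStable3
import Cfsg.Agent.Lib.H16.OddStable

/-!
# Theorem Q (Glauberman): not `p`-stable implies `Qd(p)` is involved (helper1)

Everything is relative to `QdSec.DicksonHyp p` (the statement of S0274, Dickson's theorem on `SL₂`).

* `exists_normalizer_surjective`: Frattini argument over a central involution.
* `natSec_of_notInOp`: a quadratic element whose image is not in `O_p` of the image gives a natural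
  `SL₂(p)`-section of the module (Baer--Suzuki + `QdSec.natSec_of_not_pImg`).
* `involves_qd_of_natSec`: a natural section of a normal elementary abelian subgroup gives a `Qd(p)`-section.
* `involves_qd_of_not_isPStableOn_EA`: elementary abelian case.
* `isPStableOn_of_quotient_EA`: reduction to `P/Φ(P)`.
* `isPStableOn_of_not_involves_qd`: **Theorem Q**.
-/

set_option autoImplicit false
set_option linter.unusedSectionVars false
set_option linter.style.haveILetI false

namespace Cfsg.Agent.Lib.H1.QdGroup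

variable {p : ℕ} [hp : Fact p.Prime]

/-- the odd part of a group element mapping to an involution: a `2`-element with the same image -/
theorem exists_two_element {G S : Type*} [Group G] [Finite G] [Group S] (φ : G →* S) (z : S)
    (hz : z ^ 2 = 1) (d : G) (hd : φ d = z) :
    ∃ t : G, φ t = z ∧ ∃ k : ℕ, t ^ (2 ^ k) = 1 := by
  have hn : orderOf d ≠ 0 := (orderOf_pos d).ne'
  obtain ⟨e, m, hm, hem⟩ := Nat.exists_eq_pow_mul_and_not_dvd hn 2 (by norm_num)
  have hmodd : Odd m := Nat.odd_iff.mpr (Nat.two_dvd_ne_zero.mp hm)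
  refine ⟨d ^ m, ?_, e, ?_⟩
  · rw [map_pow, hd]
    obtain ⟨k, hk⟩ := hmodd
    rw [hk, pow_succ, pow_mul, hz, one_pow, one_mul]
  · rw [← pow_mul, mul_comm, ← hem, pow_orderOf_eq_one]

/-- **Frattini argument over a central involution**: if `φ : G → S` is onto and `z ∈ Z(S)` is an
involution, there is a `2`-subgroup `T` containing an element `t ↦ z` whose normalizer still maps onto `S` -/
theorem exists_normalizer_surjective {G S : Type*} [Group G] [Finite G] [Group S] (φ : G →* S)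
    (hφ : Function.Surjective φ) (z : S) (hz : z ^ 2 = 1) (hzc : ∀ s : S, s * z = z * s) :
    ∃ (T : Subgroup G) (t : G), IsPGroup 2 T ∧ t ∈ T ∧ φ t = z ∧
      (Subgroup.normalizer (T : Set G)).map φ = ⊤ := by
  have : Fact (Nat.Prime 2) := ⟨Nat.prime_two⟩
  obtain ⟨d, hd⟩ := hφ z
  obtain ⟨t, ht, k, htk⟩ := exists_two_element φ z hz d hd
  have hZn : (Subgroup.zpowers z).Normal := by
    constructor
    intro x hx s
    obtain ⟨j, rfl⟩ := Subgroup.mem_zpowers_iff.mp hx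
    have : s * z ^ j * s⁻¹ = z ^ j := by
      have h1 : s * z ^ j = z ^ j * s := by
        have hc : Commute s z := hzc s
        exact (hc.zpow_right j).eq
      rw [h1, mul_inv_cancel_right]
    rw [this]
    exact Subgroup.zpow_mem _ (Subgroup.mem_zpowers z) j
  obtain ⟨D, hD⟩ : ∃ D : Subgroup G, D = (Subgroup.zpowers z).comap φ := ⟨_, rfl⟩
  have hDn : D.Normal := hD ▸ hZn.comap φ
  have htD : t ∈ D := by rw [hD, Subgroup.mem_comap, ht]; exact Subgroup.mem_zpowers z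
  -- a Sylow 2-subgroup of `D` containing `t`
  have ht2 : IsPGroup 2 (Subgroup.zpowers (⟨t, htD⟩ : D)) := by
    rintro ⟨w, hw⟩
    obtain ⟨j, rfl⟩ := Subgroup.mem_zpowers_iff.mp hw
    refine ⟨k, Subtype.ext ?_⟩
    simp only [Subgroup.coe_pow, Subgroup.coe_one]
    have : (⟨t, htD⟩ : D) ^ (2 ^ k) = 1 := Subtype.ext (by simpa using htk)
    rw [← zpow_natCast, ← zpow_mul, mul_comm, zpow_mul, zpow_natCast, this, one_zpow]
  obtain ⟨P, hP⟩ := ht2.exists_le_sylow
  refine ⟨(P : Subgroup D).map D.subtype, t, P.2.map _, ?_, ht, ?_⟩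
  · exact ⟨⟨t, htD⟩, hP (Subgroup.mem_zpowers _), rfl⟩
  · have hfr := Sylow.normalizer_sup_eq_top P
    have h1 := congrArg (Subgroup.map φ) hfr
    rw [Subgroup.map_sup, ← MonoidHom.range_eq_map, MonoidHom.range_eq_top.mpr hφ] at h1
    have h2 : D.map φ ≤ (Subgroup.normalizer (((P : Subgroup D).map D.subtype : Subgroup G) : Set G)).map φ := by
      rintro _ ⟨x, hx, rfl⟩
      have hx' : φ x ∈ Subgroup.zpowers z := by rw [hD] at hx; exact hx
      obtain ⟨j, hj⟩ := Subgroup.mem_zpowers_iff.mp hx'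
      refine ⟨t ^ j, ?_, ?_⟩
      · apply Subgroup.zpow_mem
        apply Subgroup.le_normalizer
        exact ⟨⟨t, htD⟩, hP (Subgroup.mem_zpowers _), rfl⟩
      · rw [map_zpow, ht, hj]
    rw [sup_eq_left.mpr h2] at h1
    exact h1

end Cfsg.Agent.Lib.H1.QdGroup

namespace Cfsg.Agent.Lib.H1.QdGroup

open Cfsg.Agent.Lib.H1.QuadPair Cfsg.Agent.Lib.H1.QdSec Cfsg.Agent.Lib.H1.QuadStable

universe u

variable {p : ℕ} [hp : Fact p.Prime]

/-- transport a natural section from a subgroup -/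
noncomputable def NatSec.ofSubgroup {G : Type*} [Group G] {V : Type*} [AddCommGroup V] [Module (ZMod p) V]
    {ρ : G →* (V ≃ₗ[ZMod p] V)} (H : Subgroup G) (s : NatSec (ρ.comp H.subtype)) : NatSec ρ where
  G₁ := s.G₁.map H.subtype
  φ := s.φ.comp (Subgroup.equivMapOfInjective s.G₁ H.subtype H.subtype_injective).symm.toMonoidHom
  hφ := s.hφ.comp (Subgroup.equivMapOfInjective s.G₁ H.subtype H.subtype_injective).symm.surjective
  U₀ := s.U₀
  κ := s.κ
  hκ := s.hκ
  inv := by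
    rintro _ ⟨g, hg, rfl⟩ x hx
    exact s.inv g hg x hx
  equiv := by
    intro g x hx
    have h1 : (g : G) = H.subtype
        ((Subgroup.equivMapOfInjective s.G₁ H.subtype H.subtype_injective).symm g : H) := by
      have := Subgroup.coe_equivMapOfInjective_apply s.G₁ H.subtype H.subtype_injective
        ((Subgroup.equivMapOfInjective s.G₁ H.subtype H.subtype_injective).symm g)
      rw [MulEquiv.apply_symm_apply] at this
      exact this
    have h2 := s.equiv ((Subgroup.equivMapOfInjective s.G₁ H.subtype H.subtype_injective).symm g) x hx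
    rw [h1]
    exact h2

/-- **natural `SL₂(p)`-section from a quadratic element not in `O_p` of the image** -/
theorem natSec_of_notInOp {G : Type*} [Group G] [Finite G] {V : Type u} [AddCommGroup V]
    [Module (ZMod p) V] [Module.Finite (ZMod p) V] (hp2 : p ≠ 2) (hD : DicksonHyp.{u} p)
    (ρ : G →* (V ≃ₗ[ZMod p] V)) {a : G} (ha : Quad (ρ a)) (hna : NotInOp ρ a) :
    Nonempty (NatSec ρ) := by
  have hsurj : Function.Surjective ρ.rangeRestrict := ρ.rangeRestrict_surjective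
  have hfin : Finite ρ.range := Finite.of_surjective _ hsurj
  obtain ⟨a', ha'⟩ : ∃ a' : ρ.range, a' = ρ.rangeRestrict a := ⟨_, rfl⟩
  have hq' : Quad (ρ.range.subtype a') := by rw [ha']; exact ha
  have hap : a' ^ p = 1 := pow_p_of_quad ρ.range.subtype ρ.range.subtype_injective hq'
  have hna' : a' ∉ Cfsg.pCore p ρ.range := by
    intro hmem
    have hnorm : ((Cfsg.pCore p ρ.range).comap ρ.rangeRestrict).Normal :=
      (Cfsg.Agent.Lib.H1.pCore_normal p ρ.range).comap _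
    apply hna _ hnorm (by rw [Subgroup.mem_comap, ← ha']; exact hmem)
    intro g
    have hg : ρ.rangeRestrict (g : G) ∈ Cfsg.pCore p ρ.range := g.2
    obtain ⟨k, hk⟩ := (Cfsg.Agent.Lib.H1.pCore_isPGroup p ρ.range) ⟨_, hg⟩
    refine ⟨k, ?_⟩
    have := congrArg (fun x : Cfsg.pCore p ρ.range => ((x : ρ.range) : V ≃ₗ[ZMod p] V)) hk
    simpa using this
  have hX : IsPGroup p (Subgroup.zpowers a') := by
    rintro ⟨x, hx⟩
    obtain ⟨k, rfl⟩ := Subgroup.mem_zpowers_iff.mp hx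
    refine ⟨1, Subtype.ext ?_⟩
    simp only [pow_one, Subgroup.coe_pow, Subgroup.coe_one]
    rw [← zpow_natCast, ← zpow_mul, mul_comm, zpow_mul, zpow_natCast, hap, one_zpow]
  have hBS : ∃ g : ρ.range, ¬ IsPGroup p
      ↥(Subgroup.zpowers a' ⊔ (Subgroup.zpowers a').map (MulAut.conj g).toMonoidHom) := by
    by_contra hcon
    push Not at hcon
    obtain ⟨N, hN, hNp, hXN⟩ := Cfsg.Agent.S0199.result (Subgroup.zpowers a') hX hcon
    exact hna' (Cfsg.Agent.Lib.H1.le_pCore hN hNp (hXN (Subgroup.mem_zpowers a')))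
  obtain ⟨r, hr⟩ := hBS
  obtain ⟨h, rfl⟩ := hsurj r
  obtain ⟨b, hb⟩ : ∃ b, b = h * a * h⁻¹ := ⟨_, rfl⟩
  have hH1 : Subgroup.zpowers a' ⊔ (Subgroup.zpowers a').map (MulAut.conj (ρ.rangeRestrict h)).toMonoidHom =
      (Subgroup.closure {a, b}).map ρ.rangeRestrict := by
    rw [MonoidHom.map_zpowers, Subgroup.zpowers_eq_closure, Subgroup.zpowers_eq_closure,
      ← Subgroup.closure_union, MonoidHom.map_closure, hb, ha']
    congr 1
    rw [Set.image_insert_eq, Set.image_singleton]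
    simp only [MulEquiv.coe_toMonoidHom, MulAut.conj_apply, map_mul, map_inv]
    ext y
    simp only [Set.mem_union, Set.mem_singleton_iff, Set.mem_insert_iff]
  rw [hH1] at hr
  set H₁ : Subgroup G := Subgroup.closure {a, b} with hH₁
  have haH : a ∈ H₁ := Subgroup.subset_closure (by simp)
  have hbH : b ∈ H₁ := Subgroup.subset_closure (by simp)
  have hgen := closure_pair_subtype a b H₁ hH₁ haH hbH
  have hbq : Quad (ρ b) := by
    rw [hb, map_mul, map_mul, map_inv]
    exact quad_conj ha _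
  have hnp : ¬ PImg p (ρ.comp H₁.subtype) := by
    intro hP
    apply hr
    rintro ⟨_, x, hx, rfl⟩
    obtain ⟨k, hk⟩ := hP ⟨x, hx⟩
    refine ⟨k, Subtype.ext (Subtype.ext ?_)⟩
    simpa using hk
  obtain ⟨s⟩ := natSec_of_not_pImg hp2 hD (ρ.comp H₁.subtype) hgen ha hbq hnp
  exact ⟨NatSec.ofSubgroup H₁ s⟩

end Cfsg.Agent.Lib.H1.QdGroup

namespace Cfsg.Agent.Lib.H1.QdGroup

open Cfsg.Agent.Lib.H1.QuadPair Cfsg.Agent.Lib.H1.QdSec Cfsg.Agent.Lib.H1.QuadStable
  Cfsg.Agent.Lib.H1.QuadMul Cfsg.Agent.Lib.H1.QdRecog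
open scoped commutatorElement

universe u

variable {p : ℕ} [hp : Fact p.Prime] {X : Type u} [Group X]

omit hp in
theorem quadM_conjNormal (V : Subgroup X) [V.Normal] {a : X}
    (hq : ⁅⁅V, Subgroup.zpowers a⁆, Subgroup.zpowers a⁆ = ⊥) :
    QuadM (MulAut.conjNormal (H := V) a) := by
  intro v
  apply Subtype.ext
  simp only [MulAut.conjNormal_apply, Subgroup.coe_mul, Subgroup.coe_inv]
  set c : X := a * v * a⁻¹ * (v : X)⁻¹ with hc
  have h1 : c⁻¹ ∈ ⁅V, Subgroup.zpowers a⁆ := by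
    have : c⁻¹ = ⁅(v : X), a⁆ := by rw [hc, commutatorElement_def]; group
    rw [this]
    exact Subgroup.commutator_mem_commutator v.2 (Subgroup.mem_zpowers a)
  have h2 : ⁅c, a⁆ ∈ ⁅⁅V, Subgroup.zpowers a⁆, Subgroup.zpowers a⁆ :=
    Subgroup.commutator_mem_commutator (by simpa using Subgroup.inv_mem _ h1) (Subgroup.mem_zpowers a)
  rw [hq, Subgroup.mem_bot, commutatorElement_def] at h2
  have h3 : c * a = a * c := by
    have := congrArg (· * (a * c)) h2
    simpa [mul_assoc] using this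
  rw [← h3]; group

/-- the subgroup of `X` attached to a submodule of `EA p V` -/
def subOf (V : Subgroup X) [IsEA p ↥V] (U : Submodule (ZMod p) (EA p ↥V)) : Subgroup X where
  carrier := {x | ∃ hx : x ∈ V, EA.of p (⟨x, hx⟩ : ↥V) ∈ U}
  one_mem' := ⟨V.one_mem, U.zero_mem⟩
  mul_mem' := by
    rintro x y ⟨hx, hxU⟩ ⟨hy, hyU⟩
    exact ⟨V.mul_mem hx hy, U.add_mem hxU hyU⟩
  inv_mem' := by
    rintro x ⟨hx, hxU⟩
    exact ⟨V.inv_mem hx, U.neg_mem hxU⟩

theorem mem_subOf {V : Subgroup X} [IsEA p ↥V] {U : Submodule (ZMod p) (EA p ↥V)} {x : X} :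
    x ∈ subOf V U ↔ ∃ hx : x ∈ V, EA.of p (⟨x, hx⟩ : ↥V) ∈ U := Iff.rfl

theorem subOf_le {V : Subgroup X} [IsEA p ↥V] (U : Submodule (ZMod p) (EA p ↥V)) : subOf V U ≤ V :=
  fun _ hx => hx.1

/-- multiplicative form of a linear functional on `EA p V` -/
def kmul (V : Subgroup X) [IsEA p ↥V] (κ : EA p ↥V →ₗ[ZMod p] (Fin 2 → ZMod p)) :
    ↥V →* Multiplicative (Fin 2 → ZMod p) where
  toFun v := Multiplicative.ofAdd (κ (EA.of p v))
  map_one' := by
    show Multiplicative.ofAdd (κ 0) = 1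
    rw [map_zero]; rfl
  map_mul' x y := by
    show Multiplicative.ofAdd (κ (EA.of p x + EA.of p y)) = _
    rw [map_add]; rfl

theorem kmul_apply {V : Subgroup X} [IsEA p ↥V] (κ : EA p ↥V →ₗ[ZMod p] (Fin 2 → ZMod p)) (v : V) :
    kmul V κ v = Multiplicative.ofAdd (κ (EA.of p v)) := rfl

end Cfsg.Agent.Lib.H1.QdGroup

namespace Cfsg.Agent.Lib.H1.QdGroup

open Cfsg.Agent.Lib.H1.QuadPair Cfsg.Agent.Lib.H1.QdSec Cfsg.Agent.Lib.H1.QuadStable
  Cfsg.Agent.Lib.H1.QuadMul Cfsg.Agent.Lib.H1.QdRecog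
open scoped commutatorElement

universe u

variable {p : ℕ} [hp : Fact p.Prime] {X : Type u} [Group X]

/-- the linear representation of `X` on a normal elementary abelian subgroup -/
noncomputable def rhoN (p : ℕ) (V : Subgroup X) [V.Normal] [IsEA p ↥V] :
    X →* (EA p ↥V ≃ₗ[ZMod p] EA p ↥V) :=
  (mulAutToLin p ↥V).comp (MulAut.conjNormal (H := V))

theorem rhoN_apply (V : Subgroup X) [hVn : V.Normal] [IsEA p ↥V] (g : X) (v : V) :
    rhoN p V g (EA.of p v) = EA.of p ⟨g * v * g⁻¹, hVn.conj_mem v v.2 g⟩ := by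
  apply EA.ext
  apply Subtype.ext
  rfl

/-- a matrix fixing all vectors is `1` -/
theorem sl_eq_one_of_mulVec {R : Type*} [CommRing R] (A : Matrix.SpecialLinearGroup (Fin 2) R)
    (h : ∀ y : Fin 2 → R, A.1.mulVec y = y) : A = 1 := by
  apply Subtype.ext
  apply Matrix.ext
  intro i j
  have := congrFun (h (Pi.single j 1)) i
  rw [Matrix.mulVec_single_one] at this
  simpa [Matrix.one_apply, Pi.single_apply, eq_comm] using this

end Cfsg.Agent.Lib.H1.QdGroup

namespace Cfsg.Agent.Lib.H1.QdGroup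

open Cfsg.Agent.Lib.H1.QuadPair Cfsg.Agent.Lib.H1.QdSec Cfsg.Agent.Lib.H1.QuadStable
  Cfsg.Agent.Lib.H1.QuadMul Cfsg.Agent.Lib.H1.QdRecog
open scoped commutatorElement

universe u

variable {p : ℕ} [hp : Fact p.Prime] {X : Type u} [Group X]

/-- **from a natural section of the conjugation module to a `Qd(p)`-section of the group** -/
theorem involves_qd_of_natSec [Finite X] (hp2 : p ≠ 2) (V : Subgroup X) [hVn : V.Normal]
    [IsEA p ↥V] (s : NatSec (rhoN p V)) : Cfsg.Involves ↥(Cfsg.qd p) X := by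
  have : Fact (Nat.Prime 2) := ⟨Nat.prime_two⟩
  obtain ⟨T, t, hT2, htT, hφt, hNT⟩ := exists_normalizer_surjective s.φ s.hφ (-1)
    (by rw [neg_one_sq]) (by intro x; rw [mul_neg_one, neg_one_mul])
  obtain ⟨M₁, hM₁⟩ : ∃ M₁ : Subgroup ↥s.G₁, M₁ = Subgroup.normalizer (T : Set ↥s.G₁) := ⟨_, rfl⟩
  obtain ⟨M, hM⟩ : ∃ M : Subgroup X, M = M₁.map s.G₁.subtype := ⟨_, rfl⟩
  have hMG : M ≤ s.G₁ := by
    rw [hM]; rintro _ ⟨y, _, rfl⟩; exact y.2
  obtain ⟨V₀, hV₀⟩ : ∃ V₀ : Subgroup X, V₀ = subOf V s.U₀ := ⟨_, rfl⟩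
  have hV₀V : V₀ ≤ V := hV₀ ▸ subOf_le s.U₀
  have hinvM : ∀ m ∈ M, ∀ x ∈ V₀, m * x * m⁻¹ ∈ V₀ := by
    intro m hm x hx
    rw [hV₀] at hx ⊢
    obtain ⟨hxV, hxU⟩ := hx
    have h1 := s.inv m (hMG hm) _ hxU
    rw [rhoN_apply] at h1
    exact ⟨_, h1⟩
  have hMV : M ≤ Subgroup.normalizer (V₀ : Set X) := by
    intro m hm
    rw [Subgroup.mem_normalizer_iff]
    intro x
    constructor
    · exact hinvM m hm x
    · intro h
      have := hinvM m⁻¹ (M.inv_mem hm) _ h
      simpa [mul_assoc] using this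
  refine involves_qd_of_data V₀ M hMV ((kmul V s.κ).comp (Subgroup.inclusion hV₀V)) ?_
    (s.φ.comp (Subgroup.inclusion hMG)) ?_ ?_ ?_
  · -- coordinates are onto
    intro y
    obtain ⟨x, hx, hxy⟩ := s.hκ (Multiplicative.toAdd y)
    have hmem : ((x.val : ↥V) : X) ∈ V₀ := by
      rw [hV₀]; exact ⟨x.val.2, hx⟩
    refine ⟨⟨_, hmem⟩, ?_⟩
    simp only [MonoidHom.comp_apply, kmul_apply]
    have : EA.of p (Subgroup.inclusion hV₀V ⟨((x.val : ↥V) : X), hmem⟩) = x := rfl
    rw [this, hxy]; rfl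
  · -- `M` maps onto `SL₂(p)`
    intro y
    have hy : y ∈ (Subgroup.normalizer (T : Set ↥s.G₁)).map s.φ := by rw [hNT]; trivial
    obtain ⟨m₁, hm₁, rfl⟩ := hy
    have hmem : (m₁ : X) ∈ M := by rw [hM, hM₁]; exact ⟨m₁, hm₁, rfl⟩
    exact ⟨⟨_, hmem⟩, rfl⟩
  · -- equivariance
    intro m w
    have hw : (w : X) ∈ subOf V s.U₀ := hV₀ ▸ w.2
    obtain ⟨hwV, hwU⟩ := hw
    have h1 := s.equiv ⟨m, hMG m.2⟩ _ hwU
    rw [rhoN_apply] at h1
    simp only [MonoidHom.comp_apply, kmul_apply]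
    exact congrArg Multiplicative.ofAdd h1
  · -- the intersection is killed
    intro x hxV hxM
    have hxV' : x ∈ subOf V s.U₀ := hV₀ ▸ hxV
    obtain ⟨hxVV, hxU⟩ := hxV'
    have hxG : x ∈ s.G₁ := hMG hxM
    -- `x` acts trivially on `V`
    have hx1 : rhoN p V x = 1 := by
      refine LinearEquiv.ext (fun y => ?_)
      have : y = EA.of p y.val := rfl
      rw [this, rhoN_apply]
      apply EA.ext
      apply Subtype.ext
      have hc := IsEA.comm p (⟨x, hxVV⟩ : ↥V) y.val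
      have hc' := congrArg Subtype.val hc
      simp only [Subgroup.coe_mul] at hc'
      show x * (y.val : X) * x⁻¹ = y.val
      rw [hc', mul_inv_cancel_right]
    have hφ1 : s.φ ⟨x, hxG⟩ = 1 := by
      apply sl_eq_one_of_mulVec
      intro y
      obtain ⟨u, hu, rfl⟩ := s.hκ y
      have := s.equiv ⟨x, hxG⟩ u hu
      rw [hx1] at this
      exact this.symm
    refine ⟨?_, hφ1⟩
    -- `x` commutes with `t`
    rw [hM, hM₁] at hxM
    obtain ⟨x₁, hx₁N, hx₁⟩ := hxM
    have hx₁' : x₁ = ⟨x, hxG⟩ := Subtype.ext hx₁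
    have hcT : x₁ * t * x₁⁻¹ * t⁻¹ ∈ T := by
      have h1 : x₁ * t * x₁⁻¹ ∈ T := (Subgroup.mem_normalizer_iff.mp hx₁N t).mp htT
      exact T.mul_mem h1 (T.inv_mem htT)
    have hcV : x * (t : X) * x⁻¹ * (t : X)⁻¹ ∈ V := by
      have h1 : (t : X) * x⁻¹ * (t : X)⁻¹ ∈ V := hVn.conj_mem _ (V.inv_mem hxVV) _
      have h2 := V.mul_mem hxVV h1
      have : x * ((t : X) * x⁻¹ * (t : X)⁻¹) = x * (t : X) * x⁻¹ * (t : X)⁻¹ := by group
      rwa [this] at h2
    obtain ⟨k, hk⟩ := hT2 ⟨_, hcT⟩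
    have hk' : (x * (t : X) * x⁻¹ * (t : X)⁻¹) ^ (2 ^ k) = 1 := by
      have := congrArg (fun z : ↥T => ((z : ↥s.G₁) : X)) hk
      simp only [hx₁'] at this
      simpa using this
    have hpp : (x * (t : X) * x⁻¹ * (t : X)⁻¹) ^ p = 1 := by
      have := IsEA.exp (p := p) (⟨_, hcV⟩ : ↥V)
      simpa using congrArg Subtype.val this
    have hc1 : x * (t : X) * x⁻¹ * (t : X)⁻¹ = 1 := by
      have h1 : orderOf (x * (t : X) * x⁻¹ * (t : X)⁻¹) ∣ 2 ^ k := orderOf_dvd_of_pow_eq_one hk'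
      have h2 : orderOf (x * (t : X) * x⁻¹ * (t : X)⁻¹) ∣ p := orderOf_dvd_of_pow_eq_one hpp
      have hcop : Nat.Coprime (2 ^ k) p := by
        apply Nat.Coprime.pow_left
        rw [Nat.coprime_primes Nat.prime_two hp.out]
        exact fun h => hp2 h.symm
      exact orderOf_eq_one_iff.mp (Nat.eq_one_of_dvd_coprimes hcop h1 h2)
    have htx : (t : X) * x * (t : X)⁻¹ = x := by
      have h1 : x * (t : X) = (t : X) * x := by
        have := congrArg (· * ((t : X) * x)) hc1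
        simpa [mul_assoc] using this
      rw [← h1, mul_inv_cancel_right]
    have h2 := s.equiv t _ hxU
    rw [rhoN_apply, hφt] at h2
    have h3 : (⟨(t : X) * x * (t : X)⁻¹, hVn.conj_mem _ hxVV _⟩ : ↥V) = ⟨x, hxVV⟩ := Subtype.ext htx
    simp only [h3] at h2
    simp only [MonoidHom.comp_apply, kmul_apply]
    have h4 : s.κ (EA.of p (⟨x, hxVV⟩ : ↥V)) = 0 := by
      have h5 : s.κ (EA.of p (⟨x, hxVV⟩ : ↥V)) = - s.κ (EA.of p (⟨x, hxVV⟩ : ↥V)) := by
        conv_lhs => rw [h2]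
        simp [Matrix.neg_mulVec]
      have h6 : (2 : ZMod p) • s.κ (EA.of p (⟨x, hxVV⟩ : ↥V)) = 0 := by
        rw [two_smul]
        nth_rewrite 1 [h5]
        exact neg_add_cancel _
      have h2ne : (2 : ZMod p) ≠ 0 := by
        intro h
        have h3 : ((2 : ℕ) : ZMod p) = 0 := by exact_mod_cast h
        rw [ZMod.natCast_eq_zero_iff] at h3
        exact hp2 ((Nat.prime_dvd_prime_iff_eq hp.out Nat.prime_two).mp h3)
      exact (smul_eq_zero.mp h6).resolve_left h2ne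
    show Multiplicative.ofAdd (s.κ (EA.of p (⟨x, hxVV⟩ : ↥V))) = 1
    rw [h4]; rfl

end Cfsg.Agent.Lib.H1.QdGroup

namespace Cfsg.Agent.Lib.H1.QdGroup

open Cfsg.Agent.Lib.H1.QuadPair Cfsg.Agent.Lib.H1.QdSec Cfsg.Agent.Lib.H1.QuadStable
  Cfsg.Agent.Lib.H1.QuadMul Cfsg.Agent.Lib.H1.QdRecog
open scoped commutatorElement

universe u

variable {p : ℕ} [hp : Fact p.Prime] {X : Type u} [Group X]

theorem mem_centralizer_of_rhoN_eq_one (V : Subgroup X) [hVn : V.Normal] [IsEA p ↥V] {g : X}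
    (hg : rhoN p V g = 1) : g ∈ Subgroup.centralizer (V : Set X) := by
  rw [Subgroup.mem_centralizer_iff]
  intro v hv
  have h1 := rhoN_apply (p := p) V g ⟨v, hv⟩
  rw [hg] at h1
  have h2 : (⟨v, hv⟩ : ↥V) = ⟨g * v * g⁻¹, hVn.conj_mem v hv g⟩ := h1
  have h3 : v = g * v * g⁻¹ := congrArg Subtype.val h2
  calc v * g = g * v * g⁻¹ * g := by rw [← h3]
    _ = g * v := by group

/-- **elementary abelian case of Theorem Q** -/
theorem involves_qd_of_not_isPStableOn_EA [Finite X] (hp2 : p ≠ 2) (hD : DicksonHyp.{u} p)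
    (V : Subgroup X) [hVn : V.Normal] (hV : Cfsg.IsElementaryAbelian p V)
    (h : ¬ Cfsg.IsPStableOn p V) : Cfsg.Involves ↥(Cfsg.qd p) X := by
  unfold Cfsg.IsPStableOn at h
  push Not at h
  obtain ⟨a, hq, hna⟩ := h
  have : IsEA p ↥V := isEA_of hV
  have : Module.Finite (ZMod p) (EA p ↥V) := Module.Finite.of_finite
  have hQ : Quad (rhoN p V a) := quad_of_quadM (quadM_conjNormal V hq)
  have hN : NotInOp (rhoN p V) a := by
    intro N hN haN hP
    apply hna
    have hnorm : (N.map (QuotientGroup.mk' (Subgroup.centralizer (V : Set X)))).Normal :=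
      hN.map _ (QuotientGroup.mk'_surjective _)
    refine Cfsg.Agent.Lib.H1.le_pCore hnorm ?_ ⟨a, haN, rfl⟩
    rintro ⟨_, g, hg, rfl⟩
    obtain ⟨k, hk⟩ := hP ⟨g, hg⟩
    refine ⟨k, Subtype.ext ?_⟩
    simp only [MonoidHom.comp_apply, Subgroup.subtype_apply, ← map_pow] at hk
    have := mem_centralizer_of_rhoN_eq_one V hk
    simp only [Subgroup.coe_pow, Subgroup.coe_one, QuotientGroup.mk'_apply]
    rw [← QuotientGroup.mk_pow, QuotientGroup.eq_one_iff]
    exact this
  obtain ⟨s⟩ := natSec_of_notInOp hp2 hD (rhoN p V) hQ hN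
  exact involves_qd_of_natSec hp2 V s

end Cfsg.Agent.Lib.H1.QdGroup

namespace Cfsg.Agent.Lib.H1.QdGroup

open Cfsg
open scoped commutatorElement

/-- reduction of `p`-stability on a normal `p`-subgroup `P` to the elementary abelian `P/Φ(P)` in `X/Φ(P)` -/
theorem isPStableOn_of_quotient_EA {X : Type*} [Group X] [Finite X] {p : ℕ} [Fact p.Prime]
    (hst : ∀ (Φ : Subgroup X) [Φ.Normal] (V : Subgroup (X ⧸ Φ)) [V.Normal],
      IsElementaryAbelian p V → IsPStableOn p V)
    (P : Subgroup X) [P.Normal] (hP : IsPGroup p P) : IsPStableOn p P := by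
  classical
  intro a hq
  obtain ⟨Φ, hΦ⟩ : ∃ Φ : Subgroup X, Φ = (frattini ↥P).map P.subtype := ⟨_, rfl⟩
  have hΦn : Φ.Normal := by
    rw [← Subgroup.normalizer_eq_top_iff, eq_top_iff, hΦ]
    have h1 := Cfsg.Agent.Lib.H1.normalizer_le_normalizer_map_of_characteristic (K := P)
      (frattini ↥P)
    rwa [Subgroup.normalizer_eq_top_iff.2 inferInstance] at h1
  haveI := hΦn
  have hΦP : Φ ≤ P := hΦ ▸ Subgroup.map_subtype_le _
  obtain ⟨π, hπ⟩ : ∃ π : X →* X ⧸ Φ, π = QuotientGroup.mk' Φ := ⟨_, rfl⟩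
  have hπs : Function.Surjective π := hπ ▸ QuotientGroup.mk'_surjective Φ
  have hπk : ∀ x : X, π x = 1 ↔ x ∈ Φ := fun x => by
    rw [hπ]; exact QuotientGroup.eq_one_iff x
  obtain ⟨V, hVdef⟩ : ∃ V : Subgroup (X ⧸ Φ), V = P.map π := ⟨_, rfl⟩
  haveI hVn : V.Normal := hVdef ▸ Subgroup.Normal.map inferInstance π hπs
  have hcomm : ∀ x ∈ P, ∀ y ∈ P, x * y * x⁻¹ * y⁻¹ ∈ Φ := by
    intro x hx y hy
    have h1 : ⁅(⟨x, hx⟩ : P), ⟨y, hy⟩⁆ ∈ frattini ↥P :=
      Cfsg.Agent.Lib.H1.isPGroup_commutator_le_frattini hP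
        (Subgroup.commutator_mem_commutator (Subgroup.mem_top _) (Subgroup.mem_top _))
    rw [hΦ]
    exact ⟨_, h1, by simp [commutatorElement_def]⟩
  have hVea : IsElementaryAbelian p V := by
    constructor
    · constructor
      constructor
      rintro ⟨u, hu⟩ ⟨v, hv⟩
      rw [hVdef] at hu hv
      obtain ⟨x, hx, rfl⟩ := hu
      obtain ⟨y, hy, rfl⟩ := hv
      apply Subtype.ext
      change π x * π y = π y * π x
      have h1 := (hπk _).2 (hcomm x hx y hy)
      rw [map_mul, map_mul, map_mul, map_inv, map_inv] at h1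
      calc π x * π y = (π x * π y * (π x)⁻¹ * (π y)⁻¹) * (π y * π x) := by group
        _ = π y * π x := by rw [h1, one_mul]
    · intro u hu
      rw [hVdef] at hu
      obtain ⟨x, hx, rfl⟩ := hu
      rw [← map_pow, hπk, hΦ]
      have h1 := Cfsg.Agent.Lib.H1.isPGroup_pow_mem_frattini hP (⟨x, hx⟩ : P)
      exact ⟨_, h1, by simp⟩
  have hst := hst Φ V hVea
  have hqa : ⁅⁅V, Subgroup.zpowers (π a)⁆, Subgroup.zpowers (π a)⁆ = ⊥ := by
    rw [hVdef, ← MonoidHom.map_zpowers, ← Subgroup.map_commutator, ← Subgroup.map_commutator, hq,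
      Subgroup.map_bot]
  have ha := hst (π a) hqa
  -- the subgroup D
  set Cb : Subgroup (X ⧸ Φ) := Subgroup.centralizer (V : Set (X ⧸ Φ)) with hCb
  set D : Subgroup X := (Cfsg.pCore p ((X ⧸ Φ) ⧸ Cb)).comap ((QuotientGroup.mk' Cb).comp π) with hD
  haveI hDn : D.Normal := by
    haveI := Cfsg.Agent.Lib.H1.pCore_normal p ((X ⧸ Φ) ⧸ Cb)
    exact Subgroup.Normal.comap inferInstance _
  have haD : a ∈ D := ha
  -- elements acting trivially on P / Φ
  have hK : ∀ e : X, π e ∈ Cb → ∀ j : ℕ, (orderOf (e ^ (p ^ j))).Coprime p →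
      e ^ (p ^ j) ∈ Subgroup.centralizer (P : Set X) := by
    intro e he j hj
    have h1 := Cfsg.Agent.Lib.H9.commute_of_commutator_mem_frattini hP
      (y := e ^ (p ^ j)) (by rw [Subgroup.normalizer_eq_top_iff.2 inferInstance]; trivial) hj ?_
    · intro q hq
      exact (h1 q hq).symm
    · intro b hb q hq
      rw [← hΦ, ← hπk]
      have hbC : π b ∈ Cb := by
        have : Subgroup.zpowers (e ^ (p ^ j)) ≤ Cb.comap π := by
          rw [Subgroup.zpowers_le]
          exact Subgroup.pow_mem (Cb.comap π) (show e ∈ Cb.comap π from he) _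
        exact this hb
      have h2 : π q * π b = π b * π q := hbC (π q) (hVdef ▸ Subgroup.mem_map_of_mem π hq)
      rw [map_mul, map_mul, map_mul, map_inv, map_inv, ← h2]
      group
  have hDp : IsPGroup p (D.map (QuotientGroup.mk' (Subgroup.centralizer (P : Set X)))) := by
    rintro ⟨u, hu⟩
    obtain ⟨d, hd, rfl⟩ := hu
    have hpc := Cfsg.Agent.Lib.H1.pCore_isPGroup p ((X ⧸ Φ) ⧸ Cb)
    obtain ⟨k, hk⟩ := hpc ⟨_, hd⟩
    have hk' : ((QuotientGroup.mk' Cb).comp π) d ^ (p ^ k) = 1 := by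
      simpa using congrArg Subtype.val hk
    have he : π (d ^ (p ^ k)) ∈ Cb := by
      rw [map_pow]
      have : (QuotientGroup.mk' Cb) (π d ^ (p ^ k)) = 1 := by
        rw [map_pow]; exact hk'
      exact (QuotientGroup.eq_one_iff _).1 this
    obtain ⟨j, hj⟩ := Cfsg.Agent.Lib.H16.exists_pow_coprime_order (p := p) (d ^ (p ^ k))
    have h3 := hK _ he j hj
    refine ⟨k + j, Subtype.ext ?_⟩
    change (QuotientGroup.mk' (Subgroup.centralizer (P : Set X))) d ^ (p ^ (k + j)) = 1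
    rw [← map_pow, pow_add, pow_mul]
    exact (QuotientGroup.eq_one_iff _).2 h3
  have hDmn : (D.map (QuotientGroup.mk' (Subgroup.centralizer (P : Set X)))).Normal :=
    Subgroup.Normal.map hDn _ (QuotientGroup.mk'_surjective _)
  exact Cfsg.Agent.Lib.H1.le_pCore hDmn hDp (Subgroup.mem_map_of_mem _ haD)

universe u

open Cfsg.Agent.Lib.H1.QdSec in
/-- **Theorem Q** (Glauberman): for odd `p`, a finite group not involving `Qd(p)` acts `p`-stably on each
of its normal `p`-subgroups (given Dickson's theorem as `DicksonHyp`) -/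
theorem isPStableOn_of_not_involves_qd {X : Type u} [Group X] [Finite X] {p : ℕ} [Fact p.Prime]
    (hp2 : p ≠ 2) (hD : DicksonHyp.{u} p) (hfree : ¬ Cfsg.Involves ↥(Cfsg.qd p) X)
    (P : Subgroup X) [P.Normal] (hP : IsPGroup p P) : IsPStableOn p P := by
  refine isPStableOn_of_quotient_EA ?_ P hP
  intro Φ _ V _ hV
  by_contra hns
  apply hfree
  have h1 := involves_qd_of_not_isPStableOn_EA hp2 hD V hV hns
  rw [Cfsg.Agent.Lib.H26.involves_iff] at h1
  obtain ⟨K, f, hf⟩ := h1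
  exact Cfsg.Agent.Lib.H26.involves_of_le_range (QuotientGroup.mk' Φ) K
    (by rw [MonoidHom.range_eq_top.mpr (QuotientGroup.mk'_surjective Φ)]; exact le_top) f hf

end Cfsg.Agent.Lib.H1.QdGroup
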