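import Mathlib
import Cfsg.Agent.Lib.H1.QdStable

/-!
# Lifting `p`-subgroups with their normalizers; local `p`-stability (helper1)

* `exists_lift_pSubgroup`: along a surjection `f : A → B` of finite groups every `p`-subgroup `Q ≤ B` is the
  image of a `p`-subgroup `P ≤ A` with `f(N_A(P)) = N_B(Q)` (Sylow + Frattini).
* `involves_sl2_of_involves_qd`, `involves_of_mulEquiv`, `beta_injective`.
* `normalizerPStable_at`: the `p`-stability condition at `P` holds if `N(P)` does not involve `SL₂(p)`.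
-/

set_option autoImplicit false

namespace Cfsg.Agent.Lib.H1.SecLiftP

/-- **lifting a `p`-subgroup with its normalizer** along a surjection of finite groups -/
theorem exists_lift_pSubgroup {A B : Type*} [Group A] [Group B] [Finite A] {p : ℕ} [Fact p.Prime]
    (f : A →* B) (hf : Function.Surjective f) (Q : Subgroup B) (hQ : IsPGroup p Q) :
    ∃ P : Subgroup A, IsPGroup p P ∧ P.map f = Q ∧
      (Subgroup.normalizer (P : Set A)).map f = Subgroup.normalizer (Q : Set B) := by
  obtain ⟨P₀⟩ : Nonempty (Sylow p ↥(Q.comap f)) := inferInstance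
  obtain ⟨P, hP⟩ : ∃ P : Subgroup A, P = (P₀ : Subgroup ↥(Q.comap f)).map (Q.comap f).subtype := ⟨_, rfl⟩
  have hPp : IsPGroup p P := hP ▸ P₀.2.map _
  have hPle : P ≤ Q.comap f := hP ▸ Subgroup.map_subtype_le _
  have hf' : Function.Surjective (f.subgroupComap Q) := f.subgroupComap_surjective_of_surjective Q hf
  have hmapP : P.map f = Q := by
    apply le_antisymm
    · rw [Subgroup.map_le_iff_le_comap]; exact hPle
    · intro y hy
      have h1 : (⊤ : Subgroup ↥Q) = ((P₀.mapSurjective hf' : Sylow p ↥Q) : Subgroup ↥Q) :=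
        (P₀.mapSurjective hf').is_maximal' (hQ.to_subgroup ⊤) le_top
      have h2 : (⟨y, hy⟩ : ↥Q) ∈ ((P₀.mapSurjective hf' : Sylow p ↥Q) : Subgroup ↥Q) := by
        rw [← h1]; trivial
      rw [Sylow.coe_mapSurjective] at h2
      obtain ⟨x, hx, hxy⟩ := h2
      refine ⟨x.1, ?_, congrArg Subtype.val hxy⟩
      rw [hP]; exact ⟨x, hx, rfl⟩
  refine ⟨P, hPp, hmapP, le_antisymm ?_ ?_⟩
  · have := Subgroup.le_normalizer_map (H := P) f
    rwa [hmapP] at this
  · intro b hb
    obtain ⟨a, rfl⟩ := hf b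
    have ha : a ∈ Subgroup.normalizer ((Q.comap f : Subgroup A) : Set A) :=
      Subgroup.le_normalizer_comap f (show a ∈ (Subgroup.normalizer (Q : Set B)).comap f from hb)
    obtain ⟨α, hα⟩ : ∃ α : MulAut ↥(Q.comap f), α = (Q.comap f).normalizerMonoidHom ⟨a, ha⟩ := ⟨_, rfl⟩
    have hαv : ∀ x : ↥(Q.comap f), ((α x : ↥(Q.comap f)) : A) = a * x * a⁻¹ := by
      intro x; rw [hα]; rfl
    obtain ⟨c, hc⟩ := MulAction.exists_smul_eq ↥(Q.comap f) (α • P₀) P₀
    have hn : (c : A) * a ∈ Subgroup.normalizer (P : Set A) := by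
      have hfin : Finite (P : Set A) := inferInstance
      apply Subgroup.mem_normalizer_fintype
      intro x hx
      rw [SetLike.mem_coe, hP] at hx ⊢
      obtain ⟨x₀, hx₀, rfl⟩ := hx
      have h1 : α x₀ ∈ ((α • P₀ : Sylow p ↥(Q.comap f)) : Subgroup ↥(Q.comap f)) := by
        rw [Sylow.pointwise_smul_def]
        exact Subgroup.smul_mem_pointwise_smul _ _ _ hx₀
      have h2 : c * α x₀ * c⁻¹ ∈ ((c • (α • P₀) : Sylow p ↥(Q.comap f)) : Subgroup ↥(Q.comap f)) := by
        rw [Sylow.smul_def, Sylow.pointwise_smul_def]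
        have := Subgroup.smul_mem_pointwise_smul _ (MulAut.conj c) _ h1
        simpa [MulAut.smul_def] using this
      rw [hc] at h2
      refine ⟨_, h2, ?_⟩
      simp only [Subgroup.subtype_apply, Subgroup.coe_mul, Subgroup.coe_inv, hαv]
      group
    have hfc : f (c : A) ∈ Q := c.2
    have hfc' : (f (c : A))⁻¹ ∈ P.map f := by rw [hmapP]; exact Q.inv_mem hfc
    obtain ⟨c', hc'P, hc'⟩ := hfc'
    refine ⟨c' * ((c : A) * a), Subgroup.mul_mem _ (Subgroup.le_normalizer hc'P) hn, ?_⟩
    rw [map_mul, map_mul, hc', inv_mul_cancel_left]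

end Cfsg.Agent.Lib.H1.SecLiftP

namespace Cfsg.Agent.Lib.H1.SecLiftP

open Cfsg Cfsg.Agent.Lib.H1.QdSec Cfsg.Agent.Lib.H1.QdGroup Cfsg.Agent.Lib.H1.QdStable
  Cfsg.Agent.Lib.H1.QdRecog

universe u

theorem beta_injective {p : ℕ} : Function.Injective (beta p) := by
  intro A B h
  have h1 := congrArg (fun q : ↥(qd p) => (q : Matrix.SpecialLinearGroup (Fin 3) (ZMod p)).1) h
  simp only [beta_coe] at h1
  apply Subtype.ext
  ext i j
  fin_cases i <;> fin_cases j
  · simpa [blk] using congrFun (congrFun h1 0) 0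
  · simpa [blk] using congrFun (congrFun h1 0) 1
  · simpa [blk] using congrFun (congrFun h1 1) 0
  · simpa [blk] using congrFun (congrFun h1 1) 1

/-- invariance of `Involves` under isomorphism of the involved group -/
theorem involves_of_mulEquiv {H H' : Type*} [Group H] [Group H'] {G : Type*} [Group G] (e : H ≃* H')
    (h : Involves H G) : Involves H' G := by
  rw [Cfsg.Agent.Lib.H26.involves_iff] at h ⊢
  obtain ⟨K, f, hf⟩ := h
  exact ⟨K, e.toMonoidHom.comp f, e.surjective.comp hf⟩

theorem involves_sl2_of_involves_qd {p : ℕ} {X : Type*} [Group X] (h : Involves ↥(qd p) X) :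
    Involves (Matrix.SpecialLinearGroup (Fin 2) (ZMod p)) X :=
  involves_of_mulEquiv (MonoidHom.ofInjective beta_injective).symm
    (Cfsg.Agent.Lib.H26.involves_subgroup (beta p).range h)

/-- a finite group not involving `SL₂(p)` is `p`-stable in the normalizer form -/
theorem isNormalizerPStable_of_not_involves_sl2 {Y : Type u} [Group Y] [Finite Y] {p : ℕ}
    [Fact p.Prime] (hp2 : p ≠ 2) (hD : DicksonHyp.{u} p)
    (hfree : ¬ Involves (Matrix.SpecialLinearGroup (Fin 2) (ZMod p)) Y) :
    IsNormalizerPStable p Y :=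
  isNormalizerPStable_of_not_involves_qd hp2 hD (fun h => hfree (involves_sl2_of_involves_qd h))

end Cfsg.Agent.Lib.H1.SecLiftP

namespace Cfsg.Agent.Lib.H1.SecLiftP

open Cfsg Cfsg.Agent.Lib.H1.QdSec Cfsg.Agent.Lib.H1.QdGroup Cfsg.Agent.Lib.H1.QdStable
  Cfsg.Agent.Lib.H1.QdRecog

universe u

/-- local form: the `p`-stability condition at a `p`-subgroup `P` holds as soon as `N(P)` does not
involve `SL₂(p)` -/
theorem normalizerPStable_at {Y : Type u} [Group Y] [Finite Y] {p : ℕ}
    [Fact p.Prime] (hp2 : p ≠ 2) (hD : DicksonHyp.{u} p) (P : Subgroup Y) (hP : IsPGroup p P)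
    (hfree : ¬ Involves (Matrix.SpecialLinearGroup (Fin 2) (ZMod p))
      ↥(Subgroup.normalizer (P : Set Y)))
    (g : Y) (hg : g ∈ Subgroup.normalizer (P : Set Y))
    (hq : ⁅⁅P, Subgroup.zpowers g⁆, Subgroup.zpowers g⁆ = ⊥) :
    (QuotientGroup.mk (s := (Subgroup.centralizer (P : Set Y)).subgroupOf (Subgroup.normalizer (P : Set Y)))
          (⟨g, hg⟩ : ↥(Subgroup.normalizer (P : Set Y)))) ∈
        pCore p (↥(Subgroup.normalizer (P : Set Y)) ⧸
          (Subgroup.centralizer (P : Set Y)).subgroupOf (Subgroup.normalizer (P : Set Y))) := by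
  obtain ⟨N, hN⟩ : ∃ N : Subgroup Y, N = Subgroup.normalizer (P : Set Y) := ⟨_, rfl⟩
  have hPN : P ≤ N := hN ▸ Subgroup.le_normalizer
  have hgN : g ∈ N := hN ▸ hg
  have hfreeN : ¬ Involves ↥(qd p) ↥N := fun h => by
    apply hfree
    rw [← hN]
    exact involves_sl2_of_involves_qd h
  have hP'n : (P.subgroupOf N).Normal := by
    rw [hN]; exact Subgroup.normal_in_normalizer
  have hP'p : IsPGroup p (P.subgroupOf N) := hP.comap_of_injective _ N.subtype_injective
  have hmapP : (P.subgroupOf N).map N.subtype = P := Subgroup.map_subgroupOf_eq_of_le hPN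
  have hq' : ⁅⁅P.subgroupOf N, Subgroup.zpowers (⟨g, hgN⟩ : N)⁆, Subgroup.zpowers (⟨g, hgN⟩ : N)⁆ = ⊥ := by
    rw [← Subgroup.map_eq_bot_iff_of_injective _ N.subtype_injective, Subgroup.map_commutator,
      Subgroup.map_commutator, hmapP, MonoidHom.map_zpowers]
    exact hq
  have hst := isPStableOn_of_not_involves_qd hp2 hD hfreeN (P.subgroupOf N) hP'p ⟨g, hgN⟩ hq'
  have hcent : Subgroup.centralizer ((P.subgroupOf N : Subgroup N) : Set N) =
      (Subgroup.centralizer (P : Set Y)).subgroupOf N := by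
    ext x
    rw [Subgroup.mem_subgroupOf, Subgroup.mem_centralizer_iff, Subgroup.mem_centralizer_iff]
    constructor
    · intro h y hy
      have := h ⟨y, hPN hy⟩ (by rw [SetLike.mem_coe, Subgroup.mem_subgroupOf]; exact hy)
      exact congrArg Subtype.val this
    · intro h y hy
      rw [SetLike.mem_coe, Subgroup.mem_subgroupOf] at hy
      exact Subtype.ext (h y hy)
  subst hN
  exact mem_pCore_quotient_of_eq hcent _ hst

end Cfsg.Agent.Lib.H1.SecLiftP
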