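import Mathlib
import Cfsg.Agent.Lib.H1.SecLiftP
import Cfsg.Prelude.Def_ConjugacyFunctors
import Cfsg.Agent.S3074

/-!
# `K_∞` does not control strong fusion in `Qd(p)` (helper1)

* `kInfLower_eq_top_of_class_two`: for a group of class at most two the lower `K_∞` subgroup is everything.
* `class_two_of_equiv_qd`: Sylow `p`-subgroups of `Qd(p)` have class two (from S3074).
* `VV_normal`, `exists_tau_beta`: structure of `Qd(p)`.
* `not_controlsStrongFusion_of_equiv_qd`: if `N(T)` controlled strong fusion of the translation subgroup, all of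
  `SL₂(p)` would be realised on it by elements of the `p`-group `T`.
-/

set_option autoImplicit false

namespace Cfsg.Agent.Lib.H1.QdFusion

open Cfsg Cfsg.Agent.Lib.H1.QdSec Cfsg.Agent.Lib.H1.QdStable Cfsg.Agent.Lib.H1.QdRecog
open scoped commutatorElement

universe u

/-- for a group of class at most two the lower `K_∞` subgroup is everything -/
theorem kInfLower_eq_top_of_class_two (P : Type u) [Group P]
    (h : ∀ a b c : P, ⁅a, b⁆ * c = c * ⁅a, b⁆) : kInfLower P = ⊤ := by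
  have hcen : ∀ a b : P, ⁅a, b⁆ ∈ Subgroup.centralizer ((⊤ : Subgroup P) : Set P) := by
    intro a b
    rw [Subgroup.mem_centralizer_iff]
    intro c _
    exact (h a b c).symm
  have hmem : (⊤ : Subgroup P) ∈ kLowerStarFamily (⊤ : Subgroup P) := by
    refine ⟨?_, ?_, ?_⟩
    · show ⁅(⊤ : Subgroup P), (⊤ : Subgroup P)⁆ ≤ Subgroup.centralizer ((⊤ : Subgroup P) : Set P)
      rw [Subgroup.commutator_le]
      intro a _ b _
      exact hcen a b
    · intro x _
      rw [Subgroup.mem_normalizer_iff]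
      intro y
      simp
    · intro A _ _ _ _ _
      rw [Subgroup.commutator_le]
      intro a _ b _
      exact ⟨Subgroup.mem_top _, hcen a b⟩
  rw [eq_top_iff]
  calc (⊤ : Subgroup P) ≤ sSup (kLowerStarFamily (kSeqOdd P 0)) := le_sSup hmem
    _ = kSeqEven P 0 := rfl
    _ ≤ kInfLower P := le_iSup (fun n => kSeqEven P n) 0

variable {p : ℕ}

/-- every element of `Qd(p)` is a translation times a linear part -/
theorem exists_tau_beta (q : ↥(qd p)) : ∃ x A, q = tau p x * beta p A := by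
  have hq := q.2
  rw [Cfsg.Agent.Lib.H14.mem_qd_iff] at hq
  obtain ⟨x, A, hxA⟩ := exists_transl_blk q.1 hq.1 hq.2.1 hq.2.2
  exact ⟨Multiplicative.ofAdd x, A, Subtype.ext hxA⟩

theorem VV_normal : (VV p).Normal := by
  constructor
  rintro _ ⟨v, rfl⟩ q
  obtain ⟨x, A, rfl⟩ := exists_tau_beta q
  have h1 : tau p x * beta p A * tau p v * (tau p x * beta p A)⁻¹ =
      tau p x * (beta p A * tau p v * (beta p A)⁻¹) * (tau p x)⁻¹ := by group
  rw [h1, beta_conj_tau, ← map_inv, ← map_mul, ← map_mul]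
  exact ⟨_, rfl⟩

end Cfsg.Agent.Lib.H1.QdFusion

namespace Cfsg.Agent.Lib.H1.QdFusion

open Cfsg Cfsg.Agent.Lib.H1.QdSec Cfsg.Agent.Lib.H1.QdStable Cfsg.Agent.Lib.H1.QdRecog
open scoped commutatorElement

universe u

variable {p : ℕ}

/-- Sylow `p`-subgroups of a group isomorphic to `Qd(p)` have class at most two -/
theorem class_two_of_equiv_qd {Y : Type u} [Group Y] [Finite Y] [hp : Fact p.Prime] (hp2 : p ≠ 2)
    (e : Y ≃* ↥(qd p)) (T : Sylow p Y) :
    ∀ a b c : ↥(T : Subgroup Y), ⁅a, b⁆ * c = c * ⁅a, b⁆ := by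
  have hs : Function.Surjective (e.toMonoidHom) := e.surjective
  have hex : IsExtraspecial p ↥((T : Subgroup Y).map e.toMonoidHom) :=
    (Cfsg.Agent.S3074.result p hp2 (T.mapSurjective hs)).1
  have hcomm : commutator ↥((T : Subgroup Y).map e.toMonoidHom) =
      Subgroup.center ↥((T : Subgroup Y).map e.toMonoidHom) := hex.1.2.2
  obtain ⟨φ, hφ⟩ : ∃ φ : ↥(T : Subgroup Y) ≃* ↥((T : Subgroup Y).map e.toMonoidHom),
    φ = Subgroup.equivMapOfInjective _ _ e.injective := ⟨_, rfl⟩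
  intro a b c
  apply φ.injective
  rw [map_mul, map_mul, map_commutatorElement]
  have h1 : ⁅φ a, φ b⁆ ∈ commutator ↥((T : Subgroup Y).map e.toMonoidHom) := by
    rw [commutator_def]
    exact Subgroup.commutator_mem_commutator (Subgroup.mem_top _) (Subgroup.mem_top _)
  rw [hcomm, Subgroup.mem_center_iff] at h1
  exact (h1 (φ c)).symm

end Cfsg.Agent.Lib.H1.QdFusion

namespace Cfsg.Agent.Lib.H1.QdFusion

open Cfsg Cfsg.Agent.Lib.H1.QdSec Cfsg.Agent.Lib.H1.QdStable Cfsg.Agent.Lib.H1.QdRecog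
open scoped commutatorElement

universe u

variable {p : ℕ} {Y : Type u} [Group Y]

/-- `t` acts on the translations `τ` as the matrix `M` -/
def Rz (τ : Multiplicative (Fin 2 → ZMod p) →* Y) (t : Y)
    (M : Matrix.SpecialLinearGroup (Fin 2) (ZMod p)) : Prop :=
  ∀ v, t * τ v * t⁻¹ = τ (Multiplicative.ofAdd (M.1.mulVec (Multiplicative.toAdd v)))

variable {τ : Multiplicative (Fin 2 → ZMod p) →* Y}

theorem Rz.one : Rz τ 1 1 := by
  intro v
  simp

theorem Rz.mul {t t' : Y} {M M' : Matrix.SpecialLinearGroup (Fin 2) (ZMod p)} (h : Rz τ t M)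
    (h' : Rz τ t' M') : Rz τ (t * t') (M * M') := by
  intro v
  have : t * t' * τ v * (t * t')⁻¹ = t * (t' * τ v * t'⁻¹) * t⁻¹ := by group
  rw [this, h', h, toAdd_ofAdd, Matrix.mulVec_mulVec, Matrix.SpecialLinearGroup.coe_mul]

theorem Rz.pow {t : Y} {M : Matrix.SpecialLinearGroup (Fin 2) (ZMod p)} (h : Rz τ t M) (j : ℕ) :
    Rz τ (t ^ j) (M ^ j) := by
  induction j with
  | zero => rw [pow_zero, pow_zero]; exact Rz.one
  | succ j ih => rw [pow_succ, pow_succ]; exact ih.mul h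

theorem Rz.inv {t : Y} {M : Matrix.SpecialLinearGroup (Fin 2) (ZMod p)} (h : Rz τ t M) :
    Rz τ t⁻¹ M⁻¹ := by
  intro v
  have h1 := h (Multiplicative.ofAdd ((M⁻¹).1.mulVec (Multiplicative.toAdd v)))
  rw [toAdd_ofAdd, Matrix.mulVec_mulVec, ← Matrix.SpecialLinearGroup.coe_mul, mul_inv_cancel,
    Matrix.SpecialLinearGroup.coe_one, Matrix.one_mulVec, ofAdd_toAdd] at h1
  rw [← h1]; group

/-- the subgroup of matrices realised by elements of `T` -/
def realised (τ : Multiplicative (Fin 2 → ZMod p) →* Y) (T : Subgroup Y) :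
    Subgroup (Matrix.SpecialLinearGroup (Fin 2) (ZMod p)) where
  carrier := {M | ∃ t ∈ T, Rz τ t M}
  one_mem' := ⟨1, T.one_mem, Rz.one⟩
  mul_mem' := by
    rintro M M' ⟨t, ht, h⟩ ⟨t', ht', h'⟩
    exact ⟨t * t', T.mul_mem ht ht', h.mul h'⟩
  inv_mem' := by
    rintro M ⟨t, ht, h⟩
    exact ⟨t⁻¹, T.inv_mem ht, h.inv⟩

end Cfsg.Agent.Lib.H1.QdFusion

namespace Cfsg.Agent.Lib.H1.QdFusion

open Cfsg Cfsg.Agent.Lib.H1.QdSec Cfsg.Agent.Lib.H1.QdStable Cfsg.Agent.Lib.H1.QdRecog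
open scoped commutatorElement

universe u

variable {p : ℕ} {Y : Type u} [Group Y]

/-- a matrix of order dividing `p` realised by an element of `N(T)` is realised by an element of `T` -/
theorem mem_realised_of_pow [Finite Y] [hp : Fact p.Prime] (τ : Multiplicative (Fin 2 → ZMod p) →* Y)
    (T : Sylow p Y) {x : Y} (hxN : x ∈ Subgroup.normalizer ((T : Subgroup Y) : Set Y))
    {M : Matrix.SpecialLinearGroup (Fin 2) (ZMod p)} (hM : M ^ p = 1) (hx : Rz τ x M) :
    M ∈ realised τ (T : Subgroup Y) := by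
  have hn : orderOf x ≠ 0 := (orderOf_pos x).ne'
  obtain ⟨k, m, hm, hkm⟩ := Nat.exists_eq_pow_mul_and_not_dvd hn p hp.out.ne_one
  have hy1 : (x ^ m) ^ (p ^ k) = 1 := by
    rw [← pow_mul, mul_comm, ← hkm, pow_orderOf_eq_one]
  have hyN : x ^ m ∈ Subgroup.normalizer ((T : Subgroup Y) : Set Y) := Subgroup.pow_mem _ hxN m
  have hyT : x ^ m ∈ (T : Subgroup Y) := by
    have hz : IsPGroup p (Subgroup.zpowers (x ^ m)) := by
      rintro ⟨w, hw⟩
      obtain ⟨j, rfl⟩ := Subgroup.mem_zpowers_iff.mp hw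
      refine ⟨k, Subtype.ext ?_⟩
      simp only [Subgroup.coe_pow, Subgroup.coe_one]
      rw [← zpow_natCast, ← zpow_mul, mul_comm, zpow_mul, zpow_natCast, hy1, one_zpow]
    have h6 := hz.inf_normalizer_sylow T
    have h7 : x ^ m ∈ Subgroup.zpowers (x ^ m) ⊓ Subgroup.normalizer ((T : Subgroup Y) : Set Y) :=
      ⟨Subgroup.mem_zpowers _, hyN⟩
    have h8 : x ^ m ∈ Subgroup.zpowers (x ^ m) ⊓ (T : Subgroup Y) := h6 ▸ h7
    exact h8.2
  have hcop : Nat.Coprime m p := ((Nat.Prime.coprime_iff_not_dvd hp.out).mpr hm).symm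
  obtain ⟨j, -, hj⟩ := Nat.exists_mul_mod_eq_one_of_coprime hcop hp.out.one_lt
  refine ⟨(x ^ m) ^ j, Subgroup.pow_mem _ hyT j, ?_⟩
  have h1 := (hx.pow m).pow j
  have h2 : (M ^ m) ^ j = M := by
    rw [← pow_mul, ← Nat.div_add_mod (m * j) p, hj, pow_add, pow_mul, hM, one_pow, one_mul, pow_one]
  rwa [h2] at h1

end Cfsg.Agent.Lib.H1.QdFusion

namespace Cfsg.Agent.Lib.H1.QdFusion

open Cfsg Cfsg.Agent.Lib.H1.QdSec Cfsg.Agent.Lib.H1.QdStable Cfsg.Agent.Lib.H1.QdRecog
open scoped commutatorElement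

universe u

variable {p : ℕ} {Y : Type u} [Group Y]

/-- **in a group isomorphic to `Qd(p)` the lower `K_∞` of a Sylow `p`-subgroup does not control strong fusion** -/
theorem not_controlsStrongFusion_of_equiv_qd [Finite Y] [hp : Fact p.Prime] (hp2 : p ≠ 2)
    (e : Y ≃* ↥(qd p)) (T : Sylow p Y) :
    ¬ ControlsStrongFusion p (inducedFunctor kInfLower (T : Subgroup Y)) := by
  have hK : kInfLower ↥(T : Subgroup Y) = ⊤ :=
    kInfLower_eq_top_of_class_two _ (class_two_of_equiv_qd hp2 e T)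
  have hW : inducedFunctor kInfLower (T : Subgroup Y) = (T : Subgroup Y) := by
    unfold inducedFunctor
    rw [hK, ← MonoidHom.range_eq_map, Subgroup.range_subtype]
  rw [hW]
  rintro ⟨T', hTT', hctl⟩
  -- the translations and the linear part inside `Y`
  obtain ⟨τ, hτ⟩ : ∃ τ : Multiplicative (Fin 2 → ZMod p) →* Y, τ = e.symm.toMonoidHom.comp (tau p) :=
    ⟨_, rfl⟩
  obtain ⟨β, hβ⟩ : ∃ β : Matrix.SpecialLinearGroup (Fin 2) (ZMod p) →* Y,
    β = e.symm.toMonoidHom.comp (beta p) := ⟨_, rfl⟩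
  have hrel : ∀ A x, β A * τ x * (β A)⁻¹ =
      τ (Multiplicative.ofAdd (A.1.mulVec (Multiplicative.toAdd x))) := by
    intro A x
    rw [hτ, hβ]
    simp only [MonoidHom.comp_apply]
    rw [← map_inv, ← map_mul, ← map_mul, beta_conj_tau]
  have hτinj : Function.Injective τ := by
    rw [hτ]; exact e.symm.injective.comp tau_injective
  have hVn : τ.range.Normal := by
    rw [hτ, MonoidHom.range_comp]
    exact VV_normal.map _ e.symm.surjective
  have hVp : IsPGroup p τ.range := by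
    rw [hτ, MonoidHom.range_comp]
    exact isPGroup_VV.map _
  have hVT' : τ.range ≤ (T' : Subgroup Y) :=
    le_trans (Cfsg.Agent.Lib.H1.le_pCore hVn hVp) (Cfsg.Agent.Lib.H1.pCore_le_sylow T')
  -- every matrix is realised by an element of `N(T)`
  have hreal : ∀ M : Matrix.SpecialLinearGroup (Fin 2) (ZMod p),
      ∃ x ∈ Subgroup.normalizer ((T : Subgroup Y) : Set Y), Rz τ x M := by
    intro M
    obtain ⟨-, h2⟩ := hctl (τ.range : Set Y) hVT'
    obtain ⟨x, hxN, hx⟩ := h2 (β M) (by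
      rintro _ ⟨a, ⟨v, rfl⟩, rfl⟩
      show β M * τ v * (β M)⁻¹ ∈ (T' : Subgroup Y)
      rw [hrel]
      exact hVT' ⟨_, rfl⟩)
    refine ⟨x, hxN, fun v => ?_⟩
    rw [← hx (τ v) ⟨v, rfl⟩, hrel]
  -- hence everything is realised inside `T`
  have htop : realised τ (T : Subgroup Y) = ⊤ := by
    rw [eq_top_iff, ← closure_uu_ll p, Subgroup.closure_le]
    rintro M (rfl | rfl)
    · obtain ⟨x, hxN, hx⟩ := hreal (uu 1)
      exact mem_realised_of_pow τ T hxN (uu_pow_p p 1) hx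
    · obtain ⟨x, hxN, hx⟩ := hreal (ll 1)
      exact mem_realised_of_pow τ T hxN (ll_pow_p p 1) hx
  have hneg : (-1 : Matrix.SpecialLinearGroup (Fin 2) (ZMod p)) ∈ realised τ (T : Subgroup Y) :=
    htop ▸ Subgroup.mem_top _
  obtain ⟨t, htT, ht⟩ := hneg
  obtain ⟨k, hk⟩ := T.2 ⟨t, htT⟩
  have hk' : t ^ (p ^ k) = 1 := by
    have := congrArg Subtype.val hk
    simpa using this
  have h1 := ht.pow (p ^ k)
  have hodd : Odd (p ^ k) := (hp.out.odd_of_ne_two hp2).pow
  rw [hk', hodd.neg_one_pow] at h1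
  have h2 := h1 (Multiplicative.ofAdd ![1, 0])
  rw [one_mul, inv_one, mul_one] at h2
  have h3 := hτinj h2
  have h4 := congrFun (congrArg Multiplicative.toAdd h3) 0
  simp at h4
  have h5 : (2 : ZMod p) = 0 := by linear_combination h4
  have h6 : ((2 : ℕ) : ZMod p) = 0 := by exact_mod_cast h5
  rw [ZMod.natCast_eq_zero_iff] at h6
  exact hp2 ((Nat.prime_dvd_prime_iff_eq hp.out Nat.prime_two).mp h6)

end Cfsg.Agent.Lib.H1.QdFusion
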