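import Mathlib
import Cfsg.Prelude.Def_LocalEven
import Cfsg.Agent.Lib.H10.SylowIn
import Cfsg.Agent.Lib.H15.Conj
import Cfsg.Agent.Lib.H1.Complement
import Cfsg.Agent.Lib.H1.PCore
import Cfsg.Agent.Lib.H19.SylowAux
import Cfsg.Agent.Lib.H1.QdFusion
import Cfsg.Agent.Lib.H1.SecLiftP

/-!
# Least centric radical subgroups and control of strong fusion (helper1)

`Ctl P Q`: `N_G(Q)` controls strong fusion in `P` in the product form `g = h * c`.

* `Ctl.inf`, `Ctl.le_normalizer`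
* `Ctl.radical_ext` (Lemma C): if `N(Q₀)` controls strong fusion in the Sylow subgroup `P`, `C_P(Q₀) ≤ Q₀`, and
  `X ⊴ N(Q₀)` has `p`-power index over `Q₀ C(Q₀)`, then `N(X ∩ P)` controls strong fusion.
* `Ctl.le_of_centricRadical` (Lemma B): such a `Q'` lies in every centric radical subgroup.
* `exists_pRadical_ext`: the largest normal subgroup of `N` of `p`-power index over `Y`.
* `exists_sl2_automizer_of_involves_qd`: if `Qd(p)` is involved in `G`, then `SL₂(p)` is involved in an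
  automizer `N_G(Q)/C_G(Q)` of a `p`-subgroup.
* `ctl_of_controlsStrongFusion`: from the Prelude's `ControlsStrongFusion`.
* `exists_least_centricRadical`: the main abstract theorem.
-/

set_option autoImplicit false

namespace Cfsg.Agent.Lib.H1.CentRad

open Cfsg.Agent.Lib.H10 Cfsg.Agent.Lib.H15

variable {G : Type*} [Group G]

/-- `N_G(Q)` controls strong fusion in `P`, in product form. -/
def Ctl (P Q : Subgroup G) : Prop :=
  ∀ A : Subgroup G, A ≤ P → ∀ g : G, A.map (MulAut.conj g).toMonoidHom ≤ P →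
    ∃ h ∈ Subgroup.normalizer (Q : Set G), ∃ c ∈ Subgroup.centralizer (A : Set G), g = h * c

theorem map_conj_eq_of_mem_centralizer {A : Subgroup G} {h c : G}
    (hc : c ∈ Subgroup.centralizer (A : Set G)) :
    A.map (MulAut.conj (h * c)).toMonoidHom = A.map (MulAut.conj h).toMonoidHom := by
  ext y
  simp only [Subgroup.mem_map, MulEquiv.coe_toMonoidHom, MulAut.conj_apply]
  constructor
  · rintro ⟨a, ha, rfl⟩
    refine ⟨a, ha, ?_⟩
    have := Subgroup.mem_centralizer_iff.mp hc a ha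
    calc h * a * h⁻¹ = h * (a * c) * c⁻¹ * h⁻¹ := by group
      _ = h * (c * a) * c⁻¹ * h⁻¹ := by rw [this]
      _ = h * c * a * (h * c)⁻¹ := by group
  · rintro ⟨a, ha, rfl⟩
    refine ⟨a, ha, ?_⟩
    have := Subgroup.mem_centralizer_iff.mp hc a ha
    calc h * c * a * (h * c)⁻¹ = h * (c * a) * c⁻¹ * h⁻¹ := by group
      _ = h * (a * c) * c⁻¹ * h⁻¹ := by rw [this]
      _ = h * a * h⁻¹ := by group

theorem map_conj_eq_self_of_mem_normalizer {Q : Subgroup G} {h : G}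
    (hh : h ∈ Subgroup.normalizer (Q : Set G)) : Q.map (MulAut.conj h).toMonoidHom = Q := by
  ext y
  rw [mem_map_conj]
  have := (Subgroup.mem_normalizer_iff.mp (Subgroup.inv_mem _ hh) y)
  rw [inv_inv] at this
  exact this.symm

theorem centralizer_le_of_le {A B : Subgroup G} (h : A ≤ B) :
    Subgroup.centralizer (B : Set G) ≤ Subgroup.centralizer (A : Set G) :=
  Subgroup.centralizer_le h

/-- if `N(Q)` controls strong fusion in `P ≥ Q` then `P` normalizes `Q` -/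
theorem Ctl.le_normalizer {P Q : Subgroup G} (h : Ctl P Q) (hQP : Q ≤ P) :
    P ≤ Subgroup.normalizer (Q : Set G) := by
  intro x hx
  have h1 : P.map (MulAut.conj x).toMonoidHom ≤ P := by
    rintro _ ⟨a, ha, rfl⟩
    exact P.mul_mem (P.mul_mem hx ha) (P.inv_mem hx)
  obtain ⟨n, hn, c, hc, rfl⟩ := h P le_rfl x h1
  exact Subgroup.mul_mem _ hn
    (Subgroup.centralizer_le_normalizer _ (Subgroup.centralizer_le hQP hc))

/-- intersection of two controlling normalizers controls -/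
theorem Ctl.inf {P Q₁ Q₂ : Subgroup G} (h₁ : Ctl P Q₁) (h₂ : Ctl P Q₂) (hQ₁ : Q₁ ≤ P)
    (A : Subgroup G) (hA : A ≤ P) (g : G) (hg : A.map (MulAut.conj g).toMonoidHom ≤ P) :
    ∃ h ∈ Subgroup.normalizer (Q₁ : Set G) ⊓ Subgroup.normalizer (Q₂ : Set G),
      ∃ c ∈ Subgroup.centralizer (A : Set G), g = h * c := by
  obtain ⟨h1, hh1, c1, hc1, rfl⟩ := h₁ A hA g hg
  rw [map_conj_eq_of_mem_centralizer hc1] at hg
  have hB : A ⊔ Q₁ ≤ P := sup_le hA hQ₁
  have hBh : (A ⊔ Q₁).map (MulAut.conj h1).toMonoidHom ≤ P := by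
    rw [Subgroup.map_sup, map_conj_eq_self_of_mem_normalizer hh1]
    exact sup_le hg hQ₁
  obtain ⟨h2, hh2, c2, hc2, rfl⟩ := h₂ (A ⊔ Q₁) hB h1 hBh
  have hc2A : c2 ∈ Subgroup.centralizer (A : Set G) :=
    Subgroup.centralizer_le (show (A : Set G) ⊆ ((A ⊔ Q₁ : Subgroup G) : Set G) from
      (le_sup_left : A ≤ A ⊔ Q₁)) hc2
  have hc2Q : c2 ∈ Subgroup.centralizer (Q₁ : Set G) :=
    Subgroup.centralizer_le (show (Q₁ : Set G) ⊆ ((A ⊔ Q₁ : Subgroup G) : Set G) from
      (le_sup_right : Q₁ ≤ A ⊔ Q₁)) hc2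
  refine ⟨h2, ⟨?_, hh2⟩, c2 * c1, Subgroup.mul_mem _ hc2A hc1, by group⟩
  have : h2 = h2 * c2 * c2⁻¹ := by group
  rw [this]
  exact Subgroup.mul_mem _ hh1
    (Subgroup.inv_mem _ (Subgroup.centralizer_le_normalizer _ hc2Q))

end Cfsg.Agent.Lib.H1.CentRad

namespace Cfsg.Agent.Lib.H1.CentRad

open Cfsg.Agent.Lib.H10 Cfsg.Agent.Lib.H15

variable {G : Type*} [Group G]

/-- (S1) a Sylow subgroup normalizing `M` meets `M` in a subgroup of index prime to `p` -/
theorem not_dvd_relIndex_inf_of_le_normalizer [Finite G] {p : ℕ} [Fact p.Prime] (P : Sylow p G)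
    (M : Subgroup G) (hPM : (P : Subgroup G) ≤ Subgroup.normalizer (M : Set G)) :
    ¬ p ∣ (M ⊓ (P : Subgroup G)).relIndex M := by
  -- a Sylow-in-M subgroup T
  obtain ⟨T, -, hTM, hTp, hTi⟩ := exists_sylowIn (p := p) (P := (⊥ : Subgroup G)) (K := M)
    IsPGroup.of_bot bot_le
  have hPL : (P : Subgroup G) ≤ (P : Subgroup G) ⊔ M := le_sup_left
  obtain ⟨m, hm, hTm⟩ := exists_mem_map_conj_le_of_sylowIn P.2 hPL
    (not_dvd_relIndex_of_sylow_le P hPL) hTp (hTM.trans le_sup_right)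
  -- m = s * x
  have hcoe := Subgroup.coe_mul_of_left_le_normalizer_right (P : Subgroup G) M hPM
  have hm' : m ∈ (((P : Subgroup G) ⊔ M : Subgroup G) : Set G) := hm
  rw [hcoe] at hm'
  obtain ⟨s, hs, x, hx, rfl⟩ := hm'
  -- T^x ≤ P ⊓ M
  have h1 : T.map (MulAut.conj x).toMonoidHom ≤ M ⊓ (P : Subgroup G) := by
    intro y hy
    rw [mem_map_conj] at hy
    refine ⟨?_, ?_⟩
    · have h2 := hTM hy
      have h3 := M.mul_mem (M.mul_mem hx h2) (M.inv_mem hx)
      have : x * (x⁻¹ * y * x) * x⁻¹ = y := by group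
      rwa [this] at h3
    · have h2 : s * y * s⁻¹ ∈ (P : Subgroup G) := by
        apply hTm
        rw [mem_map_conj]
        have : (s * x)⁻¹ * (s * y * s⁻¹) * (s * x) = x⁻¹ * y * x := by group
        rw [this]; exact hy
      have h3 := (P : Subgroup G).mul_mem ((P : Subgroup G).mul_mem ((P : Subgroup G).inv_mem hs) h2) hs
      have : s⁻¹ * (s * y * s⁻¹) * s = y := by group
      rwa [this] at h3
  have hMx : M.map (MulAut.conj x).toMonoidHom = M :=
    map_conj_eq_self_of_mem_normalizer (Subgroup.le_normalizer hx)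
  have h2 : ¬ p ∣ (T.map (MulAut.conj x).toMonoidHom).relIndex M := by
    have := relIndex_map_conj x T M
    rw [hMx] at this
    rw [this]; exact hTi
  intro hd
  apply h2
  have h3 := Subgroup.relIndex_mul_relIndex _ _ M h1 inf_le_left
  rw [← h3]
  exact Dvd.dvd.mul_left hd _

/-- (S4) a `p'`-element stabilizing a chain `B ≥ Z ≥ 1` of a `p`-group centralizes `B` -/
theorem mem_centralizer_of_coprime_stab {p : ℕ} [Fact p.Prime] {B Z : Subgroup G}
    (hB : IsPGroup p B) (hZB : Z ≤ B) (k : G) (hk : (orderOf k).Coprime p)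
    (h1 : ∀ b ∈ B, k * b * k⁻¹ * b⁻¹ ∈ Z) (h2 : ∀ z ∈ Z, k * z = z * k) :
    k ∈ Subgroup.centralizer (B : Set G) := by
  rw [Subgroup.mem_centralizer_iff]
  intro b hb
  set z := k * b * k⁻¹ * b⁻¹ with hz
  have hzZ : z ∈ Z := h1 b hb
  have hkz : k * z = z * k := h2 z hzZ
  have hkb : k * b = z * b * k := by rw [hz]; group
  have hpow : ∀ j : ℕ, k ^ j * b = z ^ j * b * k ^ j := by
    intro j
    induction j with
    | zero => simp
    | succ j ih =>
      have hkzj : k * z ^ j = z ^ j * k := by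
        have : Commute k z := hkz
        exact (this.pow_right j).eq
      calc k ^ (j + 1) * b = k * (k ^ j * b) := by rw [pow_succ']; group
        _ = k * (z ^ j * b * k ^ j) := by rw [ih]
        _ = (k * z ^ j) * b * k ^ j := by group
        _ = z ^ j * (k * b) * k ^ j := by rw [hkzj]; group
        _ = z ^ j * (z * b * k) * k ^ j := by rw [hkb]
        _ = z ^ (j + 1) * b * k ^ (j + 1) := by rw [pow_succ, pow_succ']; group
  have h3 := hpow (orderOf k)
  rw [pow_orderOf_eq_one, one_mul, mul_one] at h3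
  have h4 : z ^ orderOf k = 1 := by
    have : z ^ orderOf k * b = b := h3.symm
    exact mul_eq_right.mp this
  -- z is a p-element
  obtain ⟨i, hi⟩ := hB ⟨z, hZB hzZ⟩
  have hi' : z ^ p ^ i = 1 := by
    have := congrArg Subtype.val hi
    simpa using this
  have h5 : orderOf z ∣ orderOf k := orderOf_dvd_of_pow_eq_one h4
  have h6 : orderOf z ∣ p ^ i := orderOf_dvd_of_pow_eq_one hi'
  have h7 : orderOf z = 1 :=
    Nat.eq_one_of_dvd_coprimes (Nat.Coprime.pow_right i hk) h5 h6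
  rw [orderOf_eq_one_iff] at h7
  rw [h7, one_mul] at hkb
  exact hkb.symm

/-- (S5) splitting an element of finite order into commuting `p`- and `p'`-parts -/
theorem exists_p_p'_parts {p : ℕ} [hp : Fact p.Prime] (c : G) (hc : 0 < orderOf c) :
    ∃ c₂ c₃ : G, c₂ ∈ Subgroup.zpowers c ∧ c₃ ∈ Subgroup.zpowers c ∧ c = c₃ * c₂ ∧
      (orderOf c₂).Coprime p ∧ 0 < orderOf c₂ ∧ ∃ a : ℕ, c₃ ^ p ^ a = 1 := by
  obtain ⟨a, m, hm, hn⟩ := Nat.exists_eq_pow_mul_and_not_dvd hc.ne' p hp.out.ne_one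
  have hcop : Nat.Coprime (p ^ a) m :=
    Nat.Coprime.pow_left a ((Nat.Prime.coprime_iff_not_dvd hp.out).mpr hm)
  -- Bezout
  have hbez := Int.gcd_eq_gcd_ab (p ^ a : ℕ) m
  rw [Int.gcd_natCast_natCast, hcop] at hbez
  set u := Int.gcdA (p ^ a : ℕ) m with hu
  set v := Int.gcdB (p ^ a : ℕ) m with hv
  refine ⟨(c ^ (p ^ a)) ^ u, (c ^ m) ^ v, ?_, ?_, ?_, ?_, ?_, a, ?_⟩
  · exact Subgroup.zpow_mem _ (Subgroup.pow_mem _ (Subgroup.mem_zpowers c) _) _
  · exact Subgroup.zpow_mem _ (Subgroup.pow_mem _ (Subgroup.mem_zpowers c) _) _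
  · have : (c ^ m) ^ v * (c ^ (p ^ a)) ^ u = c ^ ((m : ℤ) * v + ((p ^ a : ℕ) : ℤ) * u) := by
      rw [zpow_add, zpow_mul, zpow_mul, zpow_natCast, zpow_natCast]
    rw [this]
    have h1 : (m : ℤ) * v + ((p ^ a : ℕ) : ℤ) * u = 1 := by
      have := hbez
      push_cast at this ⊢
      linarith
    rw [h1, zpow_one]
  · have h1 : ((c ^ (p ^ a)) ^ u) ^ m = 1 := by
      rw [← zpow_natCast, ← zpow_mul, mul_comm, zpow_mul, zpow_natCast, ← pow_mul, ← hn,
        pow_orderOf_eq_one, one_zpow]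
    have h2 : orderOf ((c ^ (p ^ a)) ^ u) ∣ m := orderOf_dvd_of_pow_eq_one h1
    exact Nat.Coprime.coprime_dvd_left h2
      ((Nat.Prime.coprime_iff_not_dvd hp.out).mpr hm).symm
  · have h1 : ((c ^ (p ^ a)) ^ u) ^ m = 1 := by
      rw [← zpow_natCast, ← zpow_mul, mul_comm, zpow_mul, zpow_natCast, ← pow_mul, ← hn,
        pow_orderOf_eq_one, one_zpow]
    have hm0 : 0 < m := Nat.pos_of_ne_zero (fun h => hm (h ▸ dvd_zero p))
    exact orderOf_pos_iff.mpr (isOfFinOrder_iff_pow_eq_one.mpr ⟨m, hm0, h1⟩)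
  · rw [← zpow_natCast, ← zpow_mul, mul_comm, zpow_mul, zpow_natCast, ← pow_mul, mul_comm, ← hn,
      pow_orderOf_eq_one, one_zpow]

end Cfsg.Agent.Lib.H1.CentRad

namespace Cfsg.Agent.Lib.H1.CentRad

open Cfsg.Agent.Lib.H10 Cfsg.Agent.Lib.H15

variable {G : Type*} [Group G]

/-- (S3) every `p`-element of `C_G(Q₀)` lies in `Q₀`, when `N(Q₀)` controls strong fusion in the
Sylow subgroup `P` and `C_P(Q₀) ≤ Q₀` -/
theorem mem_of_isPGroup_zpowers [Finite G] {p : ℕ} [Fact p.Prime] (P : Sylow p G)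
    {Q₀ : Subgroup G} (hQ₀ : Q₀ ≤ (P : Subgroup G)) (hctl : Ctl (P : Subgroup G) Q₀)
    (hcent : (P : Subgroup G) ⊓ Subgroup.centralizer (Q₀ : Set G) ≤ Q₀)
    (c : G) (hc : c ∈ Subgroup.centralizer (Q₀ : Set G)) (hcp : IsPGroup p (Subgroup.zpowers c)) :
    c ∈ Q₀ := by
  have hQ₀p : IsPGroup p Q₀ := P.2.to_le hQ₀
  have hzn : Subgroup.zpowers c ≤ Subgroup.normalizer (Q₀ : Set G) := by
    rw [Subgroup.zpowers_le]
    exact Subgroup.centralizer_le_normalizer _ hc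
  have hT : IsPGroup p (Subgroup.zpowers c ⊔ Q₀ : Subgroup G) :=
    IsPGroup.to_sup_of_normal_right' hcp hQ₀p hzn
  obtain ⟨g, hg⟩ := exists_map_conj_le_sylow P hT
  have hQg : Q₀.map (MulAut.conj g).toMonoidHom ≤ (P : Subgroup G) :=
    (Subgroup.map_mono le_sup_right).trans hg
  obtain ⟨h, hh, c', hc', rfl⟩ := hctl Q₀ hQ₀ g hQg
  have hgN : h * c' ∈ Subgroup.normalizer (Q₀ : Set G) :=
    Subgroup.mul_mem _ hh (Subgroup.centralizer_le_normalizer _ hc')
  set g := h * c' with hgdef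
  have hcg : g * c * g⁻¹ ∈ (P : Subgroup G) := by
    apply hg
    exact conj_mem_map_conj (le_sup_left (a := Subgroup.zpowers c) (Subgroup.mem_zpowers c))
  have hcgC : g * c * g⁻¹ ∈ Subgroup.centralizer (Q₀ : Set G) := by
    rw [Subgroup.mem_centralizer_iff]
    intro q hq
    have hq' : g⁻¹ * q * g ∈ Q₀ := by
      have := (Subgroup.mem_normalizer_iff.mp (Subgroup.inv_mem _ hgN) q).mp hq
      simpa using this
    have h1 := Subgroup.mem_centralizer_iff.mp hc _ hq'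
    calc q * (g * c * g⁻¹) = g * ((g⁻¹ * q * g) * c) * g⁻¹ := by group
      _ = g * (c * (g⁻¹ * q * g)) * g⁻¹ := by rw [h1]
      _ = g * c * g⁻¹ * q := by group
  have h2 : g * c * g⁻¹ ∈ Q₀ := hcent ⟨hcg, hcgC⟩
  have h3 := (Subgroup.mem_normalizer_iff.mp (Subgroup.inv_mem _ hgN) (g * c * g⁻¹)).mp h2
  have : g⁻¹ * (g * c * g⁻¹) * g⁻¹⁻¹ = c := by group
  rwa [this] at h3

/-- (S2) `X = Y ⊔ (X ⊓ P)` when `Y ≤ X` has `p`-power index and `P` normalizes `X` -/
theorem le_sup_inf_sylow [Finite G] {p : ℕ} [hp : Fact p.Prime] (P : Sylow p G)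
    {X Y : Subgroup G} (hPX : (P : Subgroup G) ≤ Subgroup.normalizer (X : Set G)) (hYX : Y ≤ X)
    (hidx : ∃ k : ℕ, Y.relIndex X = p ^ k) : X ≤ Y ⊔ (X ⊓ (P : Subgroup G)) := by
  obtain ⟨k, hk⟩ := hidx
  have h1 : ¬ p ∣ (X ⊓ (P : Subgroup G)).relIndex X := not_dvd_relIndex_inf_of_le_normalizer P X hPX
  have hle : Y ⊔ (X ⊓ (P : Subgroup G)) ≤ X := sup_le hYX inf_le_left
  have h2 : (Y ⊔ (X ⊓ (P : Subgroup G))).relIndex X ∣ Y.relIndex X :=
    Subgroup.relIndex_dvd_of_le_left X le_sup_left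
  have h3 : (Y ⊔ (X ⊓ (P : Subgroup G))).relIndex X ∣ (X ⊓ (P : Subgroup G)).relIndex X :=
    Subgroup.relIndex_dvd_of_le_left X le_sup_right
  rw [hk] at h2
  obtain ⟨j, -, hj⟩ := (Nat.dvd_prime_pow hp.out).mp h2
  have hj0 : j = 0 := by
    by_contra hne
    apply h1
    exact dvd_trans (hj ▸ dvd_pow_self p hne) h3
  rw [hj0, pow_zero] at hj
  exact Subgroup.relIndex_eq_one.mp hj

end Cfsg.Agent.Lib.H1.CentRad

namespace Cfsg.Agent.Lib.H1.CentRad

open Cfsg.Agent.Lib.H10 Cfsg.Agent.Lib.H15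

variable {G : Type*} [Group G]

theorem centralizer_map_conj' (g : G) (B : Subgroup G) {c : G}
    (hc : c ∈ Subgroup.centralizer ((B.map (MulAut.conj g).toMonoidHom : Subgroup G) : Set G)) :
    g⁻¹ * c * g ∈ Subgroup.centralizer (B : Set G) := by
  rw [Subgroup.mem_centralizer_iff] at hc ⊢
  intro b hb
  have h1 := hc (g * b * g⁻¹) (conj_mem_map_conj hb)
  calc b * (g⁻¹ * c * g) = g⁻¹ * ((g * b * g⁻¹) * c) * g := by group
    _ = g⁻¹ * (c * (g * b * g⁻¹)) * g := by rw [h1]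
    _ = g⁻¹ * c * g * b := by group

/-- **Lemma C**: passing to a `p`-radical extension keeps control of strong fusion. -/
theorem Ctl.radical_ext [Finite G] {p : ℕ} [hp : Fact p.Prime] (P : Sylow p G)
    {Q₀ : Subgroup G} (hQ₀ : Q₀ ≤ (P : Subgroup G)) (hctl : Ctl (P : Subgroup G) Q₀)
    (hcent : (P : Subgroup G) ⊓ Subgroup.centralizer (Q₀ : Set G) ≤ Q₀)
    (X : Subgroup G) (hXN : X ≤ Subgroup.normalizer (Q₀ : Set G))
    (hXn : ∀ n ∈ Subgroup.normalizer (Q₀ : Set G), X.map (MulAut.conj n).toMonoidHom = X)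
    (hYX : Q₀ ⊔ Subgroup.centralizer (Q₀ : Set G) ≤ X)
    (hidx : ∃ k : ℕ, (Q₀ ⊔ Subgroup.centralizer (Q₀ : Set G)).relIndex X = p ^ k) :
    Ctl (P : Subgroup G) (X ⊓ (P : Subgroup G)) := by
  set N₀ := Subgroup.normalizer (Q₀ : Set G) with hN₀
  set C₀ := Subgroup.centralizer (Q₀ : Set G) with hC₀
  set Q₂ := X ⊓ (P : Subgroup G) with hQ₂
  have hPN : (P : Subgroup G) ≤ N₀ := hctl.le_normalizer hQ₀
  have hCN : C₀ ≤ N₀ := Subgroup.centralizer_le_normalizer _
  have hNC : N₀ ≤ Subgroup.normalizer (C₀ : Set G) := by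
    intro n hn
    rw [mem_normalizer_iff_map_conj]
    ext y
    rw [mem_map_conj, hC₀, Subgroup.mem_centralizer_iff, Subgroup.mem_centralizer_iff]
    constructor
    · intro h q hq
      have hq' : n⁻¹ * q * n ∈ Q₀ := by
        have := (Subgroup.mem_normalizer_iff.mp (Subgroup.inv_mem _ hn) q).mp hq
        simpa using this
      have h1 := h _ hq'
      calc q * y = n * ((n⁻¹ * q * n) * (n⁻¹ * y * n)) * n⁻¹ := by group
        _ = n * ((n⁻¹ * y * n) * (n⁻¹ * q * n)) * n⁻¹ := by rw [h1]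
        _ = y * q := by group
    · intro h q hq
      have hq' : n * q * n⁻¹ ∈ Q₀ := (Subgroup.mem_normalizer_iff.mp hn q).mp hq
      have h1 := h _ hq'
      calc q * (n⁻¹ * y * n) = n⁻¹ * ((n * q * n⁻¹) * y) * n := by group
        _ = n⁻¹ * (y * (n * q * n⁻¹)) * n := by rw [h1]
        _ = n⁻¹ * y * n * q := by group
  have hPX : (P : Subgroup G) ≤ Subgroup.normalizer (X : Set G) := by
    intro s hs
    rw [mem_normalizer_iff_map_conj]
    exact hXn s (hPN hs)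
  have hQ₀Q₂ : Q₀ ≤ Q₂ := le_inf (le_sup_left.trans hYX) hQ₀
  have hQ₂P : Q₂ ≤ (P : Subgroup G) := inf_le_right
  have hQ₂X : Q₂ ≤ X := inf_le_left
  have hXsup : X ≤ C₀ ⊔ Q₂ := by
    have := le_sup_inf_sylow P hPX hYX hidx
    refine this.trans ?_
    rw [sup_assoc]
    apply sup_le (hQ₀Q₂.trans le_sup_right)
    exact sup_le le_sup_left le_sup_right
  intro A hA g hg
  -- step 1
  obtain ⟨h, hh, c₁, hc₁, rfl⟩ := hctl A hA g hg
  rw [map_conj_eq_of_mem_centralizer hc₁] at hg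
  set B := A ⊔ Q₀ with hB
  have hBP : B ≤ (P : Subgroup G) := sup_le hA hQ₀
  have hBh : B.map (MulAut.conj h).toMonoidHom ≤ (P : Subgroup G) := by
    rw [hB, Subgroup.map_sup, map_conj_eq_self_of_mem_normalizer hh]
    exact sup_le hg hQ₀
  -- step 2
  set R := Q₂ ⊔ B with hR
  have hRP : R ≤ (P : Subgroup G) := sup_le hQ₂P hBP
  have hRh : R.map (MulAut.conj h).toMonoidHom ≤ (P : Subgroup G) ⊔ X := by
    rw [hR, Subgroup.map_sup]
    apply sup_le
    · refine (Subgroup.map_mono hQ₂X).trans ?_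
      rw [hXn h hh]; exact le_sup_right
    · exact hBh.trans le_sup_left
  -- step 3
  have hPL : (P : Subgroup G) ≤ (P : Subgroup G) ⊔ X := le_sup_left
  obtain ⟨m, hm, hRm⟩ := exists_mem_map_conj_le_of_sylowIn P.2 hPL
    (not_dvd_relIndex_of_sylow_le P hPL) (isPGroup_map_conj h (P.2.to_le hRP)) hRh
  have hcoe := Subgroup.coe_mul_of_left_le_normalizer_right (P : Subgroup G) X hPX
  have hm' : m ∈ (((P : Subgroup G) ⊔ X : Subgroup G) : Set G) := hm
  rw [hcoe] at hm'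
  obtain ⟨s, hs, x, hx, rfl⟩ := hm'
  -- step 4: n := x * h
  have hxN : x ∈ N₀ := hXN hx
  set n := x * h with hn
  have hnN : n ∈ N₀ := Subgroup.mul_mem _ hxN hh
  have hRn : R.map (MulAut.conj n).toMonoidHom ≤ (P : Subgroup G) := by
    intro y hy
    rw [mem_map_conj] at hy
    have h1 : s * y * s⁻¹ ∈ (P : Subgroup G) := by
      apply hRm
      rw [map_conj_map_conj, mem_map_conj]
      have : (s * x * h)⁻¹ * (s * y * s⁻¹) * (s * x * h) = n⁻¹ * y * n := by rw [hn]; group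
      rw [this]; exact hy
    have h3 := (P : Subgroup G).mul_mem ((P : Subgroup G).mul_mem ((P : Subgroup G).inv_mem hs) h1) hs
    have : s⁻¹ * (s * y * s⁻¹) * s = y := by group
    rwa [this] at h3
  -- step 5
  have hnQ₂ : n ∈ Subgroup.normalizer (Q₂ : Set G) := by
    apply mem_normalizer_of_cj_le
    apply le_inf
    · refine (Subgroup.map_mono hQ₂X).trans ?_
      rw [hXn n hnN]
    · exact (Subgroup.map_mono (le_sup_left : Q₂ ≤ R)).trans hRn
  -- step 6
  set B₁ := B.map (MulAut.conj n).toMonoidHom with hB₁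
  have hB₁P : B₁ ≤ (P : Subgroup G) := (Subgroup.map_mono (le_sup_right : B ≤ R)).trans hRn
  -- step 7
  have hx' : x⁻¹ ∈ C₀ ⊔ Q₂ := hXsup (X.inv_mem hx)
  have hQ₂NC : Q₂ ≤ Subgroup.normalizer (C₀ : Set G) := (hQ₂P.trans hPN).trans hNC
  obtain ⟨c, hc, q, hq, hxcq⟩ := Cfsg.Agent.Lib.H1.mem_sup_of_le_normalizer hQ₂NC hx'
  have hqP : q ∈ (P : Subgroup G) := hQ₂P hq
  have hqN : q ∈ N₀ := hPN hqP
  -- step 8
  set B₂ := B₁.map (MulAut.conj q).toMonoidHom with hB₂
  have hB₂P : B₂ ≤ (P : Subgroup G) := by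
    intro y hy
    rw [hB₂, mem_map_conj] at hy
    have h1 := hB₁P hy
    have h3 := (P : Subgroup G).mul_mem ((P : Subgroup G).mul_mem hqP h1) ((P : Subgroup G).inv_mem hqP)
    have : q * (q⁻¹ * y * q) * q⁻¹ = y := by group
    rwa [this] at h3
  have hheq : h = c * (q * n) := by
    have : h = x⁻¹ * n := by rw [hn]; group
    rw [this, hxcq]; group
  have hB₂eq : B₂ = B.map (MulAut.conj (q * n)).toMonoidHom := by
    rw [hB₂, hB₁, map_conj_map_conj]
  have hB₂c : B₂.map (MulAut.conj c).toMonoidHom ≤ (P : Subgroup G) := by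
    rw [hB₂eq, map_conj_map_conj, ← hheq]
    exact hBh
  have hqnN : q * n ∈ N₀ := Subgroup.mul_mem _ hqN hnN
  have hQ₀B₂ : Q₀ ≤ B₂ := by
    rw [hB₂eq]
    have : Q₀ = Q₀.map (MulAut.conj (q * n)).toMonoidHom :=
      (map_conj_eq_self_of_mem_normalizer hqnN).symm
    rw [this]
    exact Subgroup.map_mono le_sup_right
  -- step 9
  have hZ : ∀ b ∈ B₂, c * b * c⁻¹ * b⁻¹ ∈ Q₀ ⊓ C₀ := by
    intro b hb
    have hbP := hB₂P hb
    have h1 : c * b * c⁻¹ ∈ (P : Subgroup G) := hB₂c (conj_mem_map_conj hb)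
    have h2 : c * b * c⁻¹ * b⁻¹ ∈ (P : Subgroup G) :=
      (P : Subgroup G).mul_mem h1 ((P : Subgroup G).inv_mem hbP)
    have h3 : b * c⁻¹ * b⁻¹ ∈ C₀ := by
      have hbN := hNC (hPN hbP)
      exact (Subgroup.mem_normalizer_iff.mp hbN c⁻¹).mp (C₀.inv_mem hc)
    have h4 : c * b * c⁻¹ * b⁻¹ ∈ C₀ := by
      have : c * b * c⁻¹ * b⁻¹ = c * (b * c⁻¹ * b⁻¹) := by group
      rw [this]; exact C₀.mul_mem hc h3
    exact ⟨hcent ⟨h2, h4⟩, h4⟩
  -- step 10
  obtain ⟨c₂, c₃, hc₂z, hc₃z, hcc, hc₂o, -, a, hc₃a⟩ :=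
    exists_p_p'_parts (p := p) c (orderOf_pos c)
  have hzC : Subgroup.zpowers c ≤ C₀ := by rw [Subgroup.zpowers_le]; exact hc
  have hc₂C : c₂ ∈ C₀ := hzC hc₂z
  have hc₃C : c₃ ∈ C₀ := hzC hc₃z
  have hc₃Q : c₃ ∈ Q₀ := by
    apply mem_of_isPGroup_zpowers P hQ₀ hctl hcent c₃ hc₃C
    have h1 : orderOf c₃ ∣ p ^ a := orderOf_dvd_of_pow_eq_one hc₃a
    obtain ⟨j, -, hj⟩ := (Nat.dvd_prime_pow hp.out).mp h1
    apply IsPGroup.of_card (n := j)
    rw [Nat.card_zpowers, hj]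
  have hcomm : c₃ * c₂ = c₂ * c₃ := by
    obtain ⟨i, rfl⟩ := Subgroup.mem_zpowers_iff.mp hc₂z
    obtain ⟨j, rfl⟩ := Subgroup.mem_zpowers_iff.mp hc₃z
    rw [← zpow_add, ← zpow_add, add_comm]
  have hc₂B : c₂ ∈ Subgroup.centralizer (B₂ : Set G) := by
    apply mem_centralizer_of_coprime_stab (p := p) (Z := Q₀ ⊓ C₀) (P.2.to_le hB₂P)
      (inf_le_left.trans hQ₀B₂) c₂ hc₂o
    · intro b hb
      have hbP := hB₂P hb
      have hc₃P : c₃ ∈ (P : Subgroup G) := hQ₀ hc₃Q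
      have e1 : c₂ = c₃⁻¹ * c := by rw [hcc]; group
      have h1 : c * b * c⁻¹ ∈ (P : Subgroup G) := hB₂c (conj_mem_map_conj hb)
      have h2 : c₂ * b * c₂⁻¹ ∈ (P : Subgroup G) := by
        have : c₂ * b * c₂⁻¹ = c₃⁻¹ * (c * b * c⁻¹) * c₃ := by rw [e1]; group
        rw [this]
        exact (P : Subgroup G).mul_mem ((P : Subgroup G).mul_mem ((P : Subgroup G).inv_mem hc₃P) h1) hc₃P
      have h3 : b * c₂⁻¹ * b⁻¹ ∈ C₀ := by
        have hbN := hNC (hPN hbP)
        exact (Subgroup.mem_normalizer_iff.mp hbN c₂⁻¹).mp (C₀.inv_mem hc₂C)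
      have h4 : c₂ * b * c₂⁻¹ * b⁻¹ ∈ C₀ := by
        have : c₂ * b * c₂⁻¹ * b⁻¹ = c₂ * (b * c₂⁻¹ * b⁻¹) := by group
        rw [this]; exact C₀.mul_mem hc₂C h3
      have h5 : c₂ * b * c₂⁻¹ * b⁻¹ ∈ (P : Subgroup G) :=
        (P : Subgroup G).mul_mem h2 ((P : Subgroup G).inv_mem hbP)
      exact ⟨hcent ⟨h5, h4⟩, h4⟩
    · intro z hz
      exact (Subgroup.mem_centralizer_iff.mp hc₂C z hz.1).symm
  -- step 11
  set n' := c₃ * (q * n) with hn'
  have hn'Q₂ : n' ∈ Subgroup.normalizer (Q₂ : Set G) := by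
    apply Subgroup.mul_mem _ (Subgroup.le_normalizer (hQ₀Q₂ hc₃Q))
    exact Subgroup.mul_mem _ (Subgroup.le_normalizer hq) hnQ₂
  have hBn' : B.map (MulAut.conj n').toMonoidHom = B₂ := by
    rw [hn', ← map_conj_map_conj, ← hB₂eq]
    exact map_conj_eq_self_of_mem_normalizer (Subgroup.le_normalizer (hQ₀B₂ hc₃Q))
  have hc₂' : n'⁻¹ * c₂ * n' ∈ Subgroup.centralizer (B : Set G) := by
    apply centralizer_map_conj'
    rw [hBn']; exact hc₂B
  have hcA : n'⁻¹ * c₂ * n' ∈ Subgroup.centralizer (A : Set G) :=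
    Subgroup.centralizer_le (show (A : Set G) ⊆ ((A ⊔ Q₀ : Subgroup G) : Set G) from
      (le_sup_left : A ≤ A ⊔ Q₀)) hc₂'
  refine ⟨n', hn'Q₂, n'⁻¹ * c₂ * n' * c₁, Subgroup.mul_mem _ hcA hc₁, ?_⟩
  rw [hheq, hcc, hcomm, hn']
  group

end Cfsg.Agent.Lib.H1.CentRad

namespace Cfsg.Agent.Lib.H1.CentRad

open Cfsg.Agent.Lib.H10 Cfsg.Agent.Lib.H15

variable {G : Type*} [Group G]

theorem normalizer_le_normalizer_centralizer (Q₀ : Subgroup G) :
    Subgroup.normalizer (Q₀ : Set G) ≤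
      Subgroup.normalizer ((Subgroup.centralizer (Q₀ : Set G) : Subgroup G) : Set G) := by
  intro n hn
  rw [mem_normalizer_iff_map_conj]
  ext y
  rw [mem_map_conj, Subgroup.mem_centralizer_iff, Subgroup.mem_centralizer_iff]
  constructor
  · intro h q hq
    have hq' : n⁻¹ * q * n ∈ Q₀ := by
      have := (Subgroup.mem_normalizer_iff.mp (Subgroup.inv_mem _ hn) q).mp hq
      simpa using this
    have h1 := h _ hq'
    calc q * y = n * ((n⁻¹ * q * n) * (n⁻¹ * y * n)) * n⁻¹ := by group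
      _ = n * ((n⁻¹ * y * n) * (n⁻¹ * q * n)) * n⁻¹ := by rw [h1]
      _ = y * q := by group
  · intro h q hq
    have hq' : n * q * n⁻¹ ∈ Q₀ := (Subgroup.mem_normalizer_iff.mp hn q).mp hq
    have h1 := h _ hq'
    calc q * (n⁻¹ * y * n) = n⁻¹ * ((n * q * n⁻¹) * y) * n := by group
      _ = n⁻¹ * (y * (n * q * n⁻¹)) * n := by rw [h1]
      _ = n⁻¹ * y * n * q := by group

/-- **Lemma B**: a subgroup whose normalizer controls strong fusion lies in every
centric radical subgroup. -/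
theorem Ctl.le_of_centricRadical [Finite G] {p : ℕ} [hp : Fact p.Prime] (P : Sylow p G)
    {Q' : Subgroup G} (hQ' : Q' ≤ (P : Subgroup G)) (hctl : Ctl (P : Subgroup G) Q')
    (R : Subgroup G) (hRP : R ≤ (P : Subgroup G))
    (hSyl : ∃ S : Sylow p ↥(Subgroup.centralizer (R : Set G)),
      (S : Subgroup ↥(Subgroup.centralizer (R : Set G))).map (Subgroup.centralizer (R : Set G)).subtype
        = R ⊓ Subgroup.centralizer (R : Set G))
    (hrad : ∀ X : Subgroup G, X ≤ Subgroup.normalizer (R : Set G) →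
      (∀ n ∈ Subgroup.normalizer (R : Set G), X.map (MulAut.conj n).toMonoidHom = X) →
      R ⊔ Subgroup.centralizer (R : Set G) ≤ X →
      (∃ k : ℕ, (R ⊔ Subgroup.centralizer (R : Set G)).relIndex X = p ^ k) →
      X = R ⊔ Subgroup.centralizer (R : Set G)) :
    Q' ≤ R := by
  set NR := Subgroup.normalizer (R : Set G) with hNR
  set CR := Subgroup.centralizer (R : Set G) with hCR
  have hPNQ : (P : Subgroup G) ≤ Subgroup.normalizer (Q' : Set G) := hctl.le_normalizer hQ'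
  have hCN : CR ≤ NR := Subgroup.centralizer_le_normalizer _
  have hNC : NR ≤ Subgroup.normalizer (CR : Set G) := normalizer_le_normalizer_centralizer R
  set D := Q' ⊓ NR with hD
  set Y := R ⊔ CR with hY
  set X := D ⊔ Y with hX
  have hYN : Y ≤ NR := sup_le Subgroup.le_normalizer hCN
  have hXN : X ≤ NR := sup_le inf_le_right hYN
  have hDp : IsPGroup p D := P.2.to_le (inf_le_left.trans hQ')
  -- (C_P(R) ≤ R)
  have hcent : (P : Subgroup G) ⊓ CR ≤ R := by
    obtain ⟨S, hS⟩ := hSyl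
    set T := (P : Subgroup G) ⊓ CR with hT
    have hTp : IsPGroup p (T.subgroupOf CR) := (P.2.to_le inf_le_left).comap_subtype
    have hST : (S : Subgroup ↥CR) ≤ T.subgroupOf CR := by
      intro y hy
      rw [Subgroup.mem_subgroupOf]
      have : (y : G) ∈ R ⊓ CR := by rw [← hS]; exact ⟨y, hy, rfl⟩
      exact ⟨hRP this.1, this.2⟩
    have := S.is_maximal' hTp hST
    intro y hy
    have hyC : y ∈ CR := hy.2
    have h1 : (⟨y, hyC⟩ : ↥CR) ∈ T.subgroupOf CR := by rw [Subgroup.mem_subgroupOf]; exact hy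
    rw [this] at h1
    have h2 : y ∈ R ⊓ CR := by rw [← hS]; exact ⟨⟨y, hyC⟩, h1, rfl⟩
    exact h2.1
  -- normality of X in NR
  have hXle : ∀ n ∈ NR, X.map (MulAut.conj n).toMonoidHom ≤ X := by
    intro n hn
    have hRn : R.map (MulAut.conj n).toMonoidHom = R := map_conj_eq_self_of_mem_normalizer hn
    have hCn : CR.map (MulAut.conj n).toMonoidHom = CR := map_conj_eq_self_of_mem_normalizer (hNC hn)
    rw [hX, Subgroup.map_sup, hY, Subgroup.map_sup, hRn, hCn]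
    apply sup_le _ le_sup_right
    -- D^n ≤ D ⊔ CR
    obtain ⟨h, hh, c, hc, hnhc⟩ := hctl R hRP n (by rw [hRn]; exact hRP)
    have hhN : h ∈ NR := by
      have : h = n * c⁻¹ := by rw [hnhc]; group
      rw [this]
      exact Subgroup.mul_mem _ hn (Subgroup.inv_mem _ (hCN hc))
    intro y hy
    rw [mem_map_conj] at hy
    set d := n⁻¹ * y * n with hd
    have hdD : d ∈ D := hy
    have hdN : d ∈ NR := hdD.2
    -- y = n d n⁻¹ = h (c d c⁻¹) h⁻¹
    have h1 : c * d * c⁻¹ * d⁻¹ ∈ CR := by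
      have h2 : d * c⁻¹ * d⁻¹ ∈ CR :=
        (Subgroup.mem_normalizer_iff.mp (hNC hdN) c⁻¹).mp (CR.inv_mem hc)
      have : c * d * c⁻¹ * d⁻¹ = c * (d * c⁻¹ * d⁻¹) := by group
      rw [this]; exact CR.mul_mem hc h2
    have h3 : h * d * h⁻¹ ∈ D := by
      refine ⟨(Subgroup.mem_normalizer_iff.mp hh d).mp hdD.1, ?_⟩
      exact NR.mul_mem (NR.mul_mem hhN hdN) (NR.inv_mem hhN)
    have h4 : h * (c * d * c⁻¹ * d⁻¹) * h⁻¹ ∈ CR :=
      (Subgroup.mem_normalizer_iff.mp (hNC hhN) _).mp h1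
    have hy' : y = (h * (c * d * c⁻¹ * d⁻¹) * h⁻¹) * (h * d * h⁻¹) := by
      rw [hd, hnhc]; group
    rw [hy']
    have hle1 : CR ≤ D ⊔ (R ⊔ CR) := le_sup_right.trans le_sup_right
    have hle2 : D ≤ D ⊔ (R ⊔ CR) := le_sup_left
    exact Subgroup.mul_mem _ (hle1 h4) (hle2 h3)
  have hXn : ∀ n ∈ NR, X.map (MulAut.conj n).toMonoidHom = X := by
    intro n hn
    exact cj_eq_of_cj_le (hXle n hn)
  -- index
  have hidx : ∃ k : ℕ, Y.relIndex X = p ^ k := by
    have hYn : (Y.subgroupOf NR).Normal := by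
      have hYnorm : NR ≤ Subgroup.normalizer (Y : Set G) := by
        intro n hn
        rw [mem_normalizer_iff_map_conj, hY, Subgroup.map_sup,
          map_conj_eq_self_of_mem_normalizer hn, map_conj_eq_self_of_mem_normalizer (hNC hn)]
      exact Subgroup.normal_subgroupOf_of_le_normalizer hYnorm
    have h1 : Y.relIndex X = (Y.subgroupOf NR).relIndex (X.subgroupOf NR) :=
      (Subgroup.relIndex_subgroupOf hXN).symm
    have h2 : X.subgroupOf NR = D.subgroupOf NR ⊔ Y.subgroupOf NR := by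
      rw [hX, Subgroup.subgroupOf_sup inf_le_right hYN]
    rw [h1, h2, Subgroup.relIndex_sup_right, ← Subgroup.inf_relIndex_right]
    have hDp' : IsPGroup p (D.subgroupOf NR) := hDp.comap_subtype
    obtain ⟨k, hk⟩ := hDp'.index ((Y.subgroupOf NR ⊓ D.subgroupOf NR).subgroupOf (D.subgroupOf NR))
    exact ⟨k, hk⟩
  have hXY : X = Y := hrad X hXN hXn le_sup_right hidx
  -- D ≤ R
  have hDR : D ≤ R := by
    intro y hy
    have hyX : y ∈ R ⊔ CR := by rw [← hY, ← hXY]; exact le_sup_left (a := D) hy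
    have hRNC : R ≤ Subgroup.normalizer (CR : Set G) := Subgroup.le_normalizer.trans hNC
    rw [sup_comm] at hyX
    obtain ⟨c, hc, r, hr, hycr⟩ := Cfsg.Agent.Lib.H1.mem_sup_of_le_normalizer hRNC hyX
    have hcP : c ∈ (P : Subgroup G) := by
      have : c = y * r⁻¹ := by rw [hycr]; group
      rw [this]
      exact (P : Subgroup G).mul_mem (hQ' hy.1) ((P : Subgroup G).inv_mem (hRP hr))
    have hcR : c ∈ R := hcent ⟨hcP, hc⟩
    rw [hycr]
    exact R.mul_mem hcR hr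
  -- conclude
  by_contra hne
  have hlt : R < Q' ⊔ R := lt_of_le_of_ne le_sup_right (fun h => hne (h ▸ le_sup_left))
  have hQRp : IsPGroup p (Q' ⊔ R : Subgroup G) := P.2.to_le (sup_le hQ' hRP)
  have h1 := lt_inf_normalizer_of_lt hQRp hlt
  obtain ⟨y, hy, hyR⟩ := SetLike.exists_of_lt h1
  have hRNQ : R ≤ Subgroup.normalizer (Q' : Set G) := hRP.trans hPNQ
  obtain ⟨q, hq, r, hr, hyqr⟩ := Cfsg.Agent.Lib.H1.mem_sup_of_le_normalizer hRNQ hy.1
  apply hyR
  have hqN : q ∈ NR := by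
    have : q = y * r⁻¹ := by rw [hyqr]; group
    rw [this]
    exact NR.mul_mem hy.2 (NR.inv_mem (Subgroup.le_normalizer hr))
  rw [hyqr]
  exact R.mul_mem (hDR ⟨hq, hqN⟩) hr

end Cfsg.Agent.Lib.H1.CentRad

namespace Cfsg.Agent.Lib.H1.CentRad

open Cfsg.Agent.Lib.H10 Cfsg.Agent.Lib.H15

variable {G : Type*} [Group G]

theorem map_subtype_map_conj {N : Subgroup G} (K : Subgroup ↥N) (n : ↥N) :
    (K.map N.subtype).map (MulAut.conj (n : G)).toMonoidHom =
      (K.map (MulAut.conj n).toMonoidHom).map N.subtype := by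
  ext y
  simp only [Subgroup.mem_map, MulEquiv.coe_toMonoidHom, MulAut.conj_apply, Subgroup.subtype_apply]
  constructor
  · rintro ⟨_, ⟨k, hk, rfl⟩, rfl⟩
    exact ⟨n * k * n⁻¹, ⟨k, hk, rfl⟩, rfl⟩
  · rintro ⟨_, ⟨k, hk, rfl⟩, rfl⟩
    exact ⟨k, ⟨k, hk, rfl⟩, rfl⟩

/-- the largest normal subgroup of `N` above `Y` of `p`-power index over `Y` -/
theorem exists_pRadical_ext [Finite G] {p : ℕ} [hp : Fact p.Prime] (N Y : Subgroup G) (hYN : Y ≤ N)
    (hYn : N ≤ Subgroup.normalizer (Y : Set G)) :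
    ∃ X₁ : Subgroup G, X₁ ≤ N ∧ (∀ n ∈ N, X₁.map (MulAut.conj n).toMonoidHom = X₁) ∧ Y ≤ X₁ ∧
      (∃ k : ℕ, Y.relIndex X₁ = p ^ k) ∧
      ∀ X : Subgroup G, X ≤ N → N ≤ Subgroup.normalizer (X : Set G) → Y ≤ X →
        (∃ k : ℕ, Y.relIndex X = p ^ k) → X ≤ X₁ := by
  have hYnorm : (Y.subgroupOf N).Normal := Subgroup.normal_subgroupOf_of_le_normalizer hYn
  set π := QuotientGroup.mk' (Y.subgroupOf N) with hπ
  have hπs : Function.Surjective π := QuotientGroup.mk'_surjective _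
  set O := Cfsg.pCore p (↥N ⧸ Y.subgroupOf N) with hO
  have hOn : O.Normal := Cfsg.Agent.Lib.H1.pCore_normal p _
  have hOp : IsPGroup p O := Cfsg.Agent.Lib.H1.pCore_isPGroup p _
  have hker : π.ker = Y.subgroupOf N := QuotientGroup.ker_mk' _
  have hYmap : (Y.subgroupOf N).map N.subtype = Y := Subgroup.map_subgroupOf_eq_of_le hYN
  refine ⟨(O.comap π).map N.subtype, Subgroup.map_subtype_le _, ?_, ?_, ?_, ?_⟩
  · intro n hn
    have := map_subtype_map_conj (O.comap π) ⟨n, hn⟩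
    rw [show ((⟨n, hn⟩ : ↥N) : G) = n from rfl] at this
    rw [this]
    congr 1
    have : (O.comap π).Normal := Subgroup.Normal.comap hOn π
    exact (Subgroup.mem_normalizer_iff_map_conj_eq.mp
      (by rw [Subgroup.normalizer_eq_top]; exact Subgroup.mem_top _))
  · refine hYmap.ge.trans (Subgroup.map_mono ?_)
    intro x hx
    have hx' : x ∈ π.ker := by rw [hker]; exact hx
    rw [Subgroup.mem_comap, MonoidHom.mem_ker.mp hx']; exact O.one_mem
  · have h1 : Y.relIndex ((O.comap π).map N.subtype) = (Y.subgroupOf N).relIndex (O.comap π) := by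
      have := Subgroup.relIndex_map_map_of_injective (Y.subgroupOf N) (O.comap π) N.subtype_injective
      rw [hYmap] at this
      exact this
    have h2 : (Y.subgroupOf N).relIndex (O.comap π) = Nat.card O := by
      have := Subgroup.relIndex_ker (K := O.comap π) π
      rw [hker, Subgroup.map_comap_eq_self_of_surjective hπs] at this
      exact this
    rw [h1, h2]
    obtain ⟨k, hk⟩ := IsPGroup.iff_card.mp hOp
    exact ⟨k, hk⟩
  · intro X hXN hXn hYX ⟨k, hk⟩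
    set X' := X.subgroupOf N with hX'
    have hX'n : X'.Normal := Subgroup.normal_subgroupOf_of_le_normalizer hXn
    have hXmap : X'.map N.subtype = X := Subgroup.map_subgroupOf_eq_of_le hXN
    have h1 : (X'.map π).Normal := Subgroup.Normal.map hX'n π hπs
    have h2 : IsPGroup p (X'.map π) := by
      apply IsPGroup.of_card (n := k)
      have e1 := Subgroup.relIndex_ker (K := X') π
      rw [hker] at e1
      have e2 := Subgroup.relIndex_map_map_of_injective (Y.subgroupOf N) X' N.subtype_injective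
      rw [hYmap, hXmap] at e2
      rw [← e1, ← e2, hk]
    have h3 : X'.map π ≤ O := Cfsg.Agent.Lib.H1.le_pCore h1 h2
    rw [← hXmap]
    apply Subgroup.map_mono
    rw [← Subgroup.map_le_iff_le_comap]
    exact h3

end Cfsg.Agent.Lib.H1.CentRad

namespace Cfsg.Agent.Lib.H1.CentRad

open Cfsg Cfsg.Agent.Lib.H1.QdSec Cfsg.Agent.Lib.H1.QdStable Cfsg.Agent.Lib.H1.QdRecog
  Cfsg.Agent.Lib.H1.QdFusion

variable {p : ℕ}

theorem eq_one_of_mulVec_eq (A : Matrix.SpecialLinearGroup (Fin 2) (ZMod p))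
    (h : ∀ y : Fin 2 → ZMod p, A.1.mulVec y = y) : A = 1 := by
  apply Matrix.SpecialLinearGroup.ext
  intro i j
  have h1 := congrFun (h (Pi.single j 1)) i
  rw [Matrix.mulVec_single_one] at h1
  simp only [Matrix.col_apply] at h1
  rw [Matrix.SpecialLinearGroup.coe_one, Matrix.one_apply]
  change A.1 i j = _
  rw [h1, Pi.single_apply]

/-- the centralizer of the translation subgroup of `Qd(p)` is the translation subgroup -/
theorem centralizer_VV_le : Subgroup.centralizer (VV p : Set ↥(qd p)) ≤ VV p := by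
  intro q hq
  obtain ⟨x, A, rfl⟩ := exists_tau_beta q
  have hA : A = 1 := by
    apply eq_one_of_mulVec_eq
    intro y
    have h1 := Subgroup.mem_centralizer_iff.mp hq (tau p (Multiplicative.ofAdd y)) ⟨_, rfl⟩
    have h2 : tau p x * beta p A * tau p (Multiplicative.ofAdd y) * (tau p x * beta p A)⁻¹
        = tau p (Multiplicative.ofAdd y) := by
      rw [← h1]; group
    have h3 : tau p x * beta p A * tau p (Multiplicative.ofAdd y) * (tau p x * beta p A)⁻¹ =
      tau p x * (beta p A * tau p (Multiplicative.ofAdd y) * (beta p A)⁻¹) * (tau p x)⁻¹ := by group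
    rw [h3, beta_conj_tau, ← map_inv, ← map_mul, ← map_mul] at h2
    have h4 := tau_injective h2
    have h5 : x * Multiplicative.ofAdd (A.1.mulVec (Multiplicative.toAdd (Multiplicative.ofAdd y))) * x⁻¹
        = Multiplicative.ofAdd (A.1.mulVec y) := by
      rw [mul_comm x, mul_assoc, mul_inv_cancel, mul_one]; rfl
    rw [h5] at h4
    exact Multiplicative.ofAdd.injective h4
  rw [hA, map_one, mul_one]
  exact ⟨x, rfl⟩

/-- `Qd(p) / V ≃ SL₂(p)` -/
theorem nonempty_quotient_VV_equiv [Fact p.Prime] :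
    haveI := VV_normal (p := p)
    Nonempty ((↥(qd p) ⧸ VV p) ≃* Matrix.SpecialLinearGroup (Fin 2) (ZMod p)) := by
  have := VV_normal (p := p)
  set f : Matrix.SpecialLinearGroup (Fin 2) (ZMod p) →* (↥(qd p) ⧸ VV p) :=
    (QuotientGroup.mk' (VV p)).comp (beta p) with hf
  have hinj : Function.Injective f := by
    rw [injective_iff_map_eq_one]
    intro A hA
    rw [hf, MonoidHom.comp_apply, QuotientGroup.mk'_apply, QuotientGroup.eq_one_iff] at hA
    -- beta A ∈ VV, hence centralizes VV... use centralizer: beta A commutes with all translations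
    apply eq_one_of_mulVec_eq
    intro y
    obtain ⟨v, hv⟩ := hA
    have h1 : beta p A * tau p (Multiplicative.ofAdd y) * (beta p A)⁻¹ =
        tau p (Multiplicative.ofAdd y) := by
      rw [← hv, ← map_inv, ← map_mul, ← map_mul, mul_comm v, mul_assoc, mul_inv_cancel, mul_one]
    rw [beta_conj_tau] at h1
    exact Multiplicative.ofAdd.injective (tau_injective h1)
  have hsurj : Function.Surjective f := by
    intro q
    obtain ⟨q, rfl⟩ := QuotientGroup.mk'_surjective (VV p) q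
    obtain ⟨x, A, rfl⟩ := exists_tau_beta q
    refine ⟨A, ?_⟩
    rw [hf, MonoidHom.comp_apply, QuotientGroup.mk'_apply, QuotientGroup.mk'_apply,
      QuotientGroup.eq]
    have : (beta p A)⁻¹ * (tau p x * beta p A) ∈ VV p := by
      have hn := VV_normal (p := p)
      have h1 := hn.conj_mem (tau p x) ⟨x, rfl⟩ (beta p A)⁻¹
      simpa [mul_assoc] using h1
    exact this
  exact ⟨(MulEquiv.ofBijective f ⟨hinj, hsurj⟩).symm⟩

end Cfsg.Agent.Lib.H1.CentRad

namespace Cfsg.Agent.Lib.H1.CentRad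

open Cfsg Cfsg.Agent.Lib.H10 Cfsg.Agent.Lib.H15

/-- a quotient of a subgroup `N ≤ N_G(Q)` in which `C_N(Q)` dies is a section of the automizer
`N_G(Q)/C_G(Q)` -/
theorem exists_automizer_section {G : Type*} [Group G] {S : Type*} [Group S] (Q N : Subgroup G)
    (hN : N ≤ Subgroup.normalizer (Q : Set G)) (ψ : ↥N →* S) (hψ : Function.Surjective ψ)
    (hker : (Subgroup.centralizer (Q : Set G)).subgroupOf N ≤ ψ.ker) :
    ∃ (H K : Subgroup G) (_ : (K.subgroupOf H).Normal), Subgroup.centralizer (Q : Set G) ≤ K ∧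
      K ≤ H ∧ H ≤ Subgroup.normalizer (Q : Set G) ∧ Nonempty ((↥H ⧸ K.subgroupOf H) ≃* S) := by
  set C := Subgroup.centralizer (Q : Set G) with hC
  set H := N ⊔ C with hH
  set K₁ := ψ.ker.map N.subtype with hK₁
  set K := K₁ ⊔ C with hK
  have hK₁N : K₁ ≤ N := Subgroup.map_subtype_le _
  have hKH : K ≤ H := sup_le (hK₁N.trans le_sup_left) le_sup_right
  have hHN : H ≤ Subgroup.normalizer (Q : Set G) := sup_le hN (Subgroup.centralizer_le_normalizer _)
  have hNC : N ≤ Subgroup.normalizer (C : Set G) := hN.trans (normalizer_le_normalizer_centralizer Q)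
  have hNK : N ≤ Subgroup.normalizer (K : Set G) := by
    intro n hn
    rw [mem_normalizer_iff_map_conj, hK, Subgroup.map_sup,
      map_conj_eq_self_of_mem_normalizer (hNC hn)]
    congr 1
    have := map_subtype_map_conj ψ.ker ⟨n, hn⟩
    rw [show ((⟨n, hn⟩ : ↥N) : G) = n from rfl] at this
    rw [hK₁, this]
    congr 1
    exact (Subgroup.mem_normalizer_iff_map_conj_eq.mp
      (by rw [Subgroup.normalizer_eq_top]; exact Subgroup.mem_top _))
  have hnorm : H ≤ Subgroup.normalizer (K : Set G) :=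
    sup_le hNK ((le_sup_right : C ≤ K).trans Subgroup.le_normalizer)
  have hKn : (K.subgroupOf H).Normal := Subgroup.normal_subgroupOf_of_le_normalizer hnorm
  refine ⟨H, K, hKn, le_sup_right, hKH, hHN, ?_⟩
  set f : ↥N →* ↥H ⧸ K.subgroupOf H :=
    (QuotientGroup.mk' (K.subgroupOf H)).comp (Subgroup.inclusion (le_sup_left : N ≤ H)) with hf
  have hf_surj : Function.Surjective f := by
    intro y
    obtain ⟨⟨l, hl⟩, rfl⟩ := QuotientGroup.mk'_surjective (K.subgroupOf H) y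
    have hl' : l ∈ C ⊔ N := by rw [sup_comm]; exact hl
    obtain ⟨c, hc, n, hn, hlcn⟩ := Cfsg.Agent.Lib.H1.mem_sup_of_le_normalizer hNC hl'
    refine ⟨⟨n, hn⟩, ?_⟩
    rw [hf, MonoidHom.comp_apply, QuotientGroup.mk'_apply, QuotientGroup.mk'_apply, QuotientGroup.eq,
      Subgroup.mem_subgroupOf]
    simp only [Subgroup.coe_mul, Subgroup.coe_inv, Subgroup.coe_inclusion]
    have h1 : n⁻¹ * c * n ∈ C := by
      have := (Subgroup.mem_normalizer_iff.mp (Subgroup.inv_mem _ (hNC hn)) c).mp hc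
      simpa using this
    have h2 : n⁻¹ * l = n⁻¹ * c * n := by rw [hlcn]; group
    rw [h2]
    exact (le_sup_right : C ≤ K) h1
  have hf_ker : f.ker = ψ.ker := by
    ext n
    rw [MonoidHom.mem_ker, MonoidHom.mem_ker, hf, MonoidHom.comp_apply, QuotientGroup.mk'_apply,
      QuotientGroup.eq_one_iff, Subgroup.mem_subgroupOf]
    simp only [Subgroup.coe_inclusion]
    constructor
    · intro hnK
      have hnK' : (n : G) ∈ C ⊔ K₁ := by rw [sup_comm]; exact hnK
      obtain ⟨c, hc, k, hk, hnck⟩ := Cfsg.Agent.Lib.H1.mem_sup_of_le_normalizer (hK₁N.trans hNC) hnK'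
      obtain ⟨k', hk', rfl⟩ := hk
      have hcN : c ∈ N := by
        have : c = (n : G) * (k' : G)⁻¹ := by rw [hnck, Subgroup.subtype_apply]; group
        rw [this]
        exact N.mul_mem n.2 (N.inv_mem k'.2)
      have h1 : (⟨c, hcN⟩ : ↥N) ∈ ψ.ker := hker (by rw [Subgroup.mem_subgroupOf]; exact hc)
      have h2 : n = ⟨c, hcN⟩ * k' := Subtype.ext hnck
      rw [h2, map_mul, MonoidHom.mem_ker.mp h1, MonoidHom.mem_ker.mp hk', one_mul]
    · intro hn
      exact (le_sup_left : K₁ ≤ K) ⟨n, hn, rfl⟩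
  exact ⟨(QuotientGroup.quotientKerEquivOfSurjective f hf_surj).symm.trans
    ((QuotientGroup.quotientMulEquivOfEq hf_ker).trans
      (QuotientGroup.quotientKerEquivOfSurjective ψ hψ))⟩

end Cfsg.Agent.Lib.H1.CentRad

namespace Cfsg.Agent.Lib.H1.CentRad

open Cfsg Cfsg.Agent.Lib.H10 Cfsg.Agent.Lib.H15 Cfsg.Agent.Lib.H1.QdStable Cfsg.Agent.Lib.H1.QdFusion

/-- if `Qd(p)` is involved in `G` then `SL₂(p)` is involved in some automizer `N_G(Q)/C_G(Q)` of a
`p`-subgroup `Q` -/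
theorem exists_sl2_automizer_of_involves_qd {G : Type*} [Group G] [Finite G] {p : ℕ} [Fact p.Prime]
    (h : Involves ↥(qd p) G) :
    ∃ Q : Subgroup G, IsPGroup p ↥Q ∧ ∃ (H K : Subgroup G) (_ : (K.subgroupOf H).Normal),
      Subgroup.centralizer (Q : Set G) ≤ K ∧ K ≤ H ∧ H ≤ Subgroup.normalizer (Q : Set G) ∧
      Nonempty ((↥H ⧸ K.subgroupOf H) ≃* Matrix.SpecialLinearGroup (Fin 2) (ZMod p)) := by
  obtain ⟨K₀, R₀, hR₀, ⟨e⟩⟩ := h
  set φ : ↥K₀ →* ↥(qd p) := e.toMonoidHom.comp (QuotientGroup.mk' (R₀.subgroupOf K₀)) with hφ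
  have hφs : Function.Surjective φ := e.surjective.comp (QuotientGroup.mk'_surjective _)
  obtain ⟨Qt, hQtp, hQtmap, hQtnorm⟩ :=
    Cfsg.Agent.Lib.H1.SecLiftP.exists_lift_pSubgroup φ hφs (VV p) isPGroup_VV
  have hVn := VV_normal (p := p)
  have hVtop : Subgroup.normalizer (VV p : Set ↥(qd p)) = ⊤ := Subgroup.normalizer_eq_top (VV p)
  rw [hVtop] at hQtnorm
  set Nt := Subgroup.normalizer (Qt : Set ↥K₀) with hNt
  set Q := Qt.map K₀.subtype with hQ
  set N := Nt.map K₀.subtype with hN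
  have hNQ : N ≤ Subgroup.normalizer (Q : Set G) := Subgroup.le_normalizer_map _
  obtain ⟨ε, hεcoe⟩ : ∃ ε : ↥Nt ≃* ↥N, ∀ x : ↥Nt, ((ε x : ↥N) : G) = ((x : ↥K₀) : G) :=
    ⟨Nt.equivMapOfInjective K₀.subtype K₀.subtype_injective,
      fun x => Subgroup.coe_equivMapOfInjective_apply _ _ _ x⟩
  set ψ : ↥N →* (↥(qd p) ⧸ VV p) :=
    (QuotientGroup.mk' (VV p)).comp (φ.comp (Nt.subtype.comp ε.symm.toMonoidHom)) with hψ
  have hψs : Function.Surjective ψ := by
    intro y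
    obtain ⟨q, rfl⟩ := QuotientGroup.mk'_surjective (VV p) y
    have hq : q ∈ Nt.map φ := by rw [hQtnorm]; exact Subgroup.mem_top q
    obtain ⟨nt, hnt, rfl⟩ := hq
    refine ⟨ε ⟨nt, hnt⟩, ?_⟩
    show (QuotientGroup.mk' (VV p)) (φ ((ε.symm (ε ⟨nt, hnt⟩) : ↥Nt) : ↥K₀)) = _
    rw [ε.symm_apply_apply]
  have hker : (Subgroup.centralizer (Q : Set G)).subgroupOf N ≤ ψ.ker := by
    intro x hx
    rw [Subgroup.mem_subgroupOf] at hx
    rw [MonoidHom.mem_ker, hψ, MonoidHom.comp_apply, QuotientGroup.mk'_apply,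
      QuotientGroup.eq_one_iff]
    apply centralizer_VV_le
    rw [Subgroup.mem_centralizer_iff]
    intro v hv
    rw [SetLike.mem_coe, ← hQtmap] at hv
    obtain ⟨qt, hqt, rfl⟩ := hv
    simp only [MonoidHom.comp_apply, MulEquiv.coe_toMonoidHom, Subgroup.subtype_apply]
    rw [← map_mul, ← map_mul]
    congr 1
    apply K₀.subtype_injective
    have h1 : ((ε.symm x : ↥Nt) : ↥K₀) = (⟨(x : G), by
        obtain ⟨y, hy, hyx⟩ := x.2
        rw [← hyx]; exact y.2⟩ : ↥K₀) := by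
      apply Subtype.ext
      have h2 := hεcoe (ε.symm x)
      rw [ε.apply_symm_apply] at h2
      exact h2.symm
    rw [h1]
    simp only [map_mul, Subgroup.subtype_apply]
    exact Subgroup.mem_centralizer_iff.mp hx (qt : G) ⟨qt, hqt, rfl⟩
  obtain ⟨H, K, hKn, h1, h2, h3, ⟨e'⟩⟩ := exists_automizer_section Q N hNQ ψ hψs hker
  obtain ⟨e''⟩ := nonempty_quotient_VV_equiv (p := p)
  exact ⟨Q, hQtp.map _, H, K, hKn, h1, h2, h3, ⟨e'.trans e''⟩⟩

end Cfsg.Agent.Lib.H1.CentRad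

namespace Cfsg.Agent.Lib.H1.CentRad

open Cfsg Cfsg.Agent.Lib.H10 Cfsg.Agent.Lib.H15

variable {G : Type*} [Group G]

/-- from the Prelude's `ControlsStrongFusion` to the product form, for any Sylow subgroup containing `W` -/
theorem ctl_of_controlsStrongFusion [Finite G] {p : ℕ} [Fact p.Prime] (P : Sylow p G) (W : Subgroup G)
    (hWP : W ≤ (P : Subgroup G)) (h : ControlsStrongFusion p W) : Ctl (P : Subgroup G) W := by
  obtain ⟨T, hWT, hT⟩ := h
  obtain ⟨y, hy⟩ := MulAction.exists_smul_eq G T P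
  have hPT : (P : Subgroup G) = (T : Subgroup G).map (MulAut.conj y).toMonoidHom := by
    rw [← hy, coe_smul_sylow_eq_map]
  have hmemP : ∀ z : G, z ∈ (P : Subgroup G) ↔ y⁻¹ * z * y ∈ (T : Subgroup G) := by
    intro z; rw [hPT, mem_map_conj]
  -- y normalizes W
  have hyW : y ∈ Subgroup.normalizer (W : Set G) := by
    have h1 : y⁻¹ ∈ Subgroup.normalizer (W : Set G) := by
      apply mem_normalizer_of_cj_le
      intro z hz
      rw [mem_cj_iff, inv_inv] at hz
      obtain ⟨hA, hctl⟩ := hT (W : Set G) hWT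
      have hsub : (fun a => y⁻¹ * a * y⁻¹⁻¹) '' (W : Set G) ⊆ (T : Subgroup G) := by
        rintro _ ⟨a, ha, rfl⟩
        rw [inv_inv]
        exact (hmemP a).mp (hWP ha)
      obtain ⟨x, hx, hxa⟩ := hctl y⁻¹ hsub
      have h2 := hxa _ hz
      have h3 : y⁻¹ * (y * z * y⁻¹) * y⁻¹⁻¹ = z := by group
      rw [h3] at h2
      rw [h2]
      exact (Subgroup.mem_normalizer_iff.mp hx _).mp hz
    have := Subgroup.inv_mem _ h1
    rwa [inv_inv] at this
  intro A hA g hg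
  set A' : Set G := (fun a => y⁻¹ * a * y) '' (A : Set G) with hA'
  have hA'T : A' ⊆ (T : Subgroup G) := by
    rintro _ ⟨a, ha, rfl⟩
    exact (hmemP a).mp (hA ha)
  obtain ⟨-, hctl⟩ := hT A' hA'T
  set g' := y⁻¹ * g * y with hg'
  have hsub : (fun a => g' * a * g'⁻¹) '' A' ⊆ (T : Subgroup G) := by
    rintro _ ⟨_, ⟨a, ha, rfl⟩, rfl⟩
    have h1 : g * a * g⁻¹ ∈ (P : Subgroup G) := hg (conj_mem_map_conj ha)
    have h2 := (hmemP _).mp h1
    have : g' * (y⁻¹ * a * y) * g'⁻¹ = y⁻¹ * (g * a * g⁻¹) * y := by rw [hg']; group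
    simp only
    rw [this]; exact h2
  obtain ⟨x, hx, hxa⟩ := hctl g' hsub
  set h := y * x * y⁻¹ with hh
  have hhW : h ∈ Subgroup.normalizer (W : Set G) :=
    Subgroup.mul_mem _ (Subgroup.mul_mem _ hyW hx) (Subgroup.inv_mem _ hyW)
  refine ⟨h, hhW, h⁻¹ * g, ?_, by group⟩
  rw [Subgroup.mem_centralizer_iff]
  intro a ha
  have h1 := hxa (y⁻¹ * a * y) ⟨a, ha, rfl⟩
  have h2 : g * a * g⁻¹ = h * a * h⁻¹ := by
    have e1 : g * a * g⁻¹ = y * (g' * (y⁻¹ * a * y) * g'⁻¹) * y⁻¹ := by rw [hg']; group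
    rw [e1, h1, hh]; group
  calc a * (h⁻¹ * g) = h⁻¹ * (h * a * h⁻¹) * g := by group
    _ = h⁻¹ * (g * a * g⁻¹) * g := by rw [h2]
    _ = h⁻¹ * g * a := by group

end Cfsg.Agent.Lib.H1.CentRad

namespace Cfsg.Agent.Lib.H1.CentRad

open Cfsg Cfsg.Agent.Lib.H10 Cfsg.Agent.Lib.H15

variable {G : Type*} [Group G]

/-- centric radical subgroups of `P`, in the form of statement S1953 -/
def IsCR (p : ℕ) (P Q : Subgroup G) : Prop :=
  Q ≤ P ∧
  (∃ R : Sylow p ↥(Subgroup.centralizer (Q : Set G)),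
    (R : Subgroup ↥(Subgroup.centralizer (Q : Set G))).map (Subgroup.centralizer (Q : Set G)).subtype
      = Q ⊓ Subgroup.centralizer (Q : Set G)) ∧
  ∀ X : Subgroup G, X ≤ Subgroup.normalizer (Q : Set G) →
    (∀ n ∈ Subgroup.normalizer (Q : Set G), X.map (MulAut.conj n).toMonoidHom = X) →
    Q ⊔ Subgroup.centralizer (Q : Set G) ≤ X →
    (∃ k : ℕ, (Q ⊔ Subgroup.centralizer (Q : Set G)).relIndex X = p ^ k) →
    X = Q ⊔ Subgroup.centralizer (Q : Set G)

theorem conj_mem_of_factor {D C : Subgroup G} {h c d : G}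
    (hh : h ∈ Subgroup.normalizer (D : Set G)) (hhC : h ∈ Subgroup.normalizer (C : Set G))
    (hc : c ∈ C) (hd : d ∈ D) (hdC : d ∈ Subgroup.normalizer (C : Set G)) :
    (h * c) * d * (h * c)⁻¹ ∈ D ⊔ C := by
  have h1 : c * d * c⁻¹ * d⁻¹ ∈ C := by
    have h2 : d * c⁻¹ * d⁻¹ ∈ C := (Subgroup.mem_normalizer_iff.mp hdC c⁻¹).mp (C.inv_mem hc)
    have : c * d * c⁻¹ * d⁻¹ = c * (d * c⁻¹ * d⁻¹) := by group
    rw [this]; exact C.mul_mem hc h2
  have h3 : h * d * h⁻¹ ∈ D := (Subgroup.mem_normalizer_iff.mp hh d).mp hd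
  have h4 : h * (c * d * c⁻¹ * d⁻¹) * h⁻¹ ∈ C := (Subgroup.mem_normalizer_iff.mp hhC _).mp h1
  have : (h * c) * d * (h * c)⁻¹ = (h * (c * d * c⁻¹ * d⁻¹) * h⁻¹) * (h * d * h⁻¹) := by group
  rw [this]
  exact Subgroup.mul_mem _ ((le_sup_right : C ≤ D ⊔ C) h4) ((le_sup_left : D ≤ D ⊔ C) h3)

theorem exists_relIndex_sup_eq_pow [Finite G] {p : ℕ} [Fact p.Prime] {D Y N : Subgroup G}
    (hDp : IsPGroup p D) (hDN : D ≤ N) (hYN : Y ≤ N)
    (hYn : N ≤ Subgroup.normalizer (Y : Set G)) : ∃ k : ℕ, Y.relIndex (D ⊔ Y) = p ^ k := by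
  have hYnorm : (Y.subgroupOf N).Normal := Subgroup.normal_subgroupOf_of_le_normalizer hYn
  have h1 : Y.relIndex (D ⊔ Y) = (Y.subgroupOf N).relIndex ((D ⊔ Y).subgroupOf N) :=
    (Subgroup.relIndex_subgroupOf (sup_le hDN hYN)).symm
  rw [h1, Subgroup.subgroupOf_sup hDN hYN, Subgroup.relIndex_sup_right, ← Subgroup.inf_relIndex_right]
  have hDp' : IsPGroup p (D.subgroupOf N) := hDp.comap_subtype
  obtain ⟨k, hk⟩ := hDp'.index ((Y.subgroupOf N ⊓ D.subgroupOf N).subgroupOf (D.subgroupOf N))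
  exact ⟨k, hk⟩

/-- **Main abstract theorem**: a self-centralizing `W ≤ P` whose normalizer controls strong
fusion yields the least centric radical subgroup, whose normalizer controls strong fusion. -/
theorem exists_least_centricRadical [Finite G] {p : ℕ} [hp : Fact p.Prime] (P : Sylow p G)
    (W : Subgroup G) (hWP : W ≤ (P : Subgroup G)) (hWctl : Ctl (P : Subgroup G) W)
    (hWcent : (P : Subgroup G) ⊓ Subgroup.centralizer (W : Set G) ≤ W) :
    ∃ Q : Subgroup G, IsCR p (P : Subgroup G) Q ∧ (∀ R : Subgroup G, IsCR p (P : Subgroup G) R → Q ≤ R) ∧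
      (∀ x ∈ (P : Subgroup G), Q.map (MulAut.conj x).toMonoidHom = Q) ∧ Ctl (P : Subgroup G) Q := by
  set N₁ := Subgroup.normalizer (W : Set G) with hN₁
  set C₁ := Subgroup.centralizer (W : Set G) with hC₁
  set Y₁ := W ⊔ C₁ with hY₁
  have hCN₁ : C₁ ≤ N₁ := Subgroup.centralizer_le_normalizer _
  have hNC₁ : N₁ ≤ Subgroup.normalizer (C₁ : Set G) := normalizer_le_normalizer_centralizer W
  have hY₁N : Y₁ ≤ N₁ := sup_le Subgroup.le_normalizer hCN₁
  have hY₁n : N₁ ≤ Subgroup.normalizer (Y₁ : Set G) := by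
    intro n hn
    rw [mem_normalizer_iff_map_conj, hY₁, Subgroup.map_sup,
      map_conj_eq_self_of_mem_normalizer hn, map_conj_eq_self_of_mem_normalizer (hNC₁ hn)]
  obtain ⟨X₁, hX₁N, hX₁n, hYX₁, hidx₁, hmax⟩ := exists_pRadical_ext (p := p) N₁ Y₁ hY₁N hY₁n
  have hPN₁ : (P : Subgroup G) ≤ N₁ := hWctl.le_normalizer hWP
  set Q := X₁ ⊓ (P : Subgroup G) with hQ
  have hQctl : Ctl (P : Subgroup G) Q :=
    Ctl.radical_ext P hWP hWctl hWcent X₁ hX₁N hX₁n hYX₁ hidx₁
  have hQP : Q ≤ (P : Subgroup G) := inf_le_right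
  have hWQ : W ≤ Q := le_inf (le_sup_left.trans hYX₁) hWP
  have hCQW : Subgroup.centralizer (Q : Set G) ≤ C₁ := Subgroup.centralizer_le hWQ
  have hQcent : (P : Subgroup G) ⊓ Subgroup.centralizer (Q : Set G) ≤ Q :=
    (inf_le_inf_left _ hCQW).trans (hWcent.trans hWQ)
  have hPNQ : (P : Subgroup G) ≤ Subgroup.normalizer (Q : Set G) := hQctl.le_normalizer hQP
  refine ⟨Q, ⟨hQP, ?_, ?_⟩, ?_, ?_, hQctl⟩
  · -- Sylow of the centralizer
    set CQ := Subgroup.centralizer (Q : Set G) with hCQ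
    set T := CQ ⊓ (P : Subgroup G) with hT
    have hTi : ¬ p ∣ T.relIndex CQ :=
      not_dvd_relIndex_inf_of_le_normalizer P CQ
        (hPNQ.trans (normalizer_le_normalizer_centralizer Q))
    have hTp : IsPGroup p (T.subgroupOf CQ) := (P.2.to_le inf_le_right).comap_subtype
    have hTi' : ¬ p ∣ (T.subgroupOf CQ).index := hTi
    refine ⟨hTp.toSylow hTi', ?_⟩
    rw [IsPGroup.toSylow_coe, Subgroup.map_subgroupOf_eq_of_le inf_le_left]
    apply le_antisymm
    · intro z hz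
      exact ⟨hQcent ⟨hz.2, hz.1⟩, hz.1⟩
    · intro z hz
      exact ⟨hz.2, hQP hz.1⟩
  · -- radical
    intro X hXN hXn hYX hidx
    have hPX : (P : Subgroup G) ≤ Subgroup.normalizer (X : Set G) := by
      intro s hs
      rw [mem_normalizer_iff_map_conj]
      exact hXn s (hPNQ hs)
    set Q₂ := X ⊓ (P : Subgroup G) with hQ₂
    have hQ₂ctl : Ctl (P : Subgroup G) Q₂ :=
      Ctl.radical_ext P hQP hQctl hQcent X hXN hXn hYX hidx
    have hQ₂P : Q₂ ≤ (P : Subgroup G) := inf_le_right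
    have hQ₂N₁ : Q₂ ≤ N₁ := hQ₂P.trans hPN₁
    -- Q₂ ⊔ Y₁ is normal in N₁
    have hnorm : N₁ ≤ Subgroup.normalizer ((Q₂ ⊔ Y₁ : Subgroup G) : Set G) := by
      intro m hm
      apply mem_normalizer_of_cj_le
      show (Q₂ ⊔ Y₁).map (MulAut.conj m).toMonoidHom ≤ Q₂ ⊔ Y₁
      rw [Subgroup.map_sup]
      have hYm : Y₁.map (MulAut.conj m).toMonoidHom = Y₁ :=
        map_conj_eq_self_of_mem_normalizer (hY₁n hm)
      rw [hYm]
      apply sup_le _ le_sup_right
      have hWm : W.map (MulAut.conj m).toMonoidHom ≤ (P : Subgroup G) := by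
        rw [map_conj_eq_self_of_mem_normalizer hm]; exact hWP
      obtain ⟨h, hh, c, hc, rfl⟩ := Ctl.inf hWctl hQ₂ctl hWP W hWP m hWm
      rintro _ ⟨d, hd, rfl⟩
      have := conj_mem_of_factor (D := Q₂) (C := C₁) hh.2 (hNC₁ hh.1) hc hd (hNC₁ (hQ₂N₁ hd))
      simp only [MulEquiv.coe_toMonoidHom, MulAut.conj_apply]
      refine (sup_le le_sup_left ((le_sup_right : C₁ ≤ Y₁).trans le_sup_right)) this
    have hidx' : ∃ k : ℕ, Y₁.relIndex (Q₂ ⊔ Y₁) = p ^ k :=
      exists_relIndex_sup_eq_pow (P.2.to_le hQ₂P) hQ₂N₁ hY₁N hY₁n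
    have hle := hmax (Q₂ ⊔ Y₁) (sup_le hQ₂N₁ hY₁N) hnorm le_sup_right hidx'
    have hQ₂Q : Q₂ ≤ Q := le_inf (le_sup_left.trans hle) hQ₂P
    apply le_antisymm _ hYX
    refine (le_sup_inf_sylow P hPX hYX hidx).trans ?_
    exact sup_le le_rfl (hQ₂Q.trans le_sup_left)
  · intro R hR
    exact Ctl.le_of_centricRadical P hQP hQctl R hR.1 hR.2.1 hR.2.2
  · intro x hx
    exact map_conj_eq_self_of_mem_normalizer (hPNQ hx)

end Cfsg.Agent.Lib.H1.CentRad

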