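import Mathlib

/-! Power formula `(xy)^n` in groups of class at most three (helper1). -/

set_option autoImplicit false

namespace Cfsg.Agent.Lib.H1

variable {G : Type*} [Group G]

/-- if `a g = g a c` and `c` commutes with `a` then `a^k g = g a^k c^k` -/
theorem pow_mul_eq_of_mul_eq {a g c : G} (h : a * g = g * a * c) (hca : c * a = a * c) (k : ℕ) :
    a ^ k * g = g * a ^ k * c ^ k := by
  induction k with
  | zero => simp
  | succ k ih =>
    have hck : c ^ k * a = a * c ^ k := (Commute.pow_left (show Commute c a from hca) k).eq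
    calc a ^ (k + 1) * g = a ^ k * (a * g) := by rw [pow_succ, mul_assoc]
      _ = a ^ k * (g * a * c) := by rw [h]
      _ = (a ^ k * g) * a * c := by simp only [mul_assoc]
      _ = (g * a ^ k * c ^ k) * a * c := by rw [ih]
      _ = g * a ^ k * (c ^ k * a) * c := by simp only [mul_assoc]
      _ = g * a ^ k * (a * c ^ k) * c := by rw [hck]
      _ = g * (a ^ k * a) * (c ^ k * c) := by simp only [mul_assoc]
      _ = g * a ^ (k + 1) * c ^ (k + 1) := by rw [← pow_succ, ← pow_succ]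

/-- if `u g = g u c` and `c` commutes with `g` then `u g^n = g^n u c^n` -/
theorem mul_pow_eq_of_mul_eq {u g c : G} (h : u * g = g * u * c) (hcg : c * g = g * c) (n : ℕ) :
    u * g ^ n = g ^ n * u * c ^ n := by
  induction n with
  | zero => simp
  | succ n ih =>
    have hcn : c ^ n * g = g * c ^ n := (Commute.pow_left (show Commute c g from hcg) n).eq
    calc u * g ^ (n + 1) = (u * g ^ n) * g := by rw [pow_succ, mul_assoc]
      _ = (g ^ n * u * c ^ n) * g := by rw [ih]
      _ = g ^ n * u * (c ^ n * g) := by simp only [mul_assoc]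
      _ = g ^ n * u * (g * c ^ n) := by rw [hcn]
      _ = g ^ n * (u * g) * c ^ n := by simp only [mul_assoc]
      _ = g ^ n * (g * u * c) * c ^ n := by rw [h]
      _ = (g ^ n * g) * u * (c * c ^ n) := by simp only [mul_assoc]
      _ = g ^ (n + 1) * u * c ^ (n + 1) := by rw [← pow_succ, ← pow_succ']

/-- `(y a)^n = y^n a^n c^(n choose 2)` when `a y = y a c` with `c` central. -/
theorem mul_pow_class_two {y a c : G} (hc : a * y = y * a * c) (hcz : c ∈ Subgroup.center G)
    (n : ℕ) : (y * a) ^ n = y ^ n * a ^ n * c ^ (n.choose 2) := by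
  have hz : ∀ (k : ℕ) (g : G), c ^ k * g = g * c ^ k := fun k g =>
    ((Subgroup.mem_center_iff.mp (Subgroup.pow_mem _ hcz k)) g).symm
  induction n with
  | zero => simp
  | succ n ih =>
    have h1 := pow_mul_eq_of_mul_eq hc (by simpa using hz 1 a) n
    have hch : (n + 1).choose 2 = n + n.choose 2 := by
      rw [Nat.choose_succ_succ, Nat.choose_one_right]
    calc (y * a) ^ (n + 1) = (y * a) ^ n * (y * a) := pow_succ _ _
      _ = y ^ n * a ^ n * c ^ (n.choose 2) * (y * a) := by rw [ih]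
      _ = y ^ n * a ^ n * (c ^ (n.choose 2) * (y * a)) := by simp only [mul_assoc]
      _ = y ^ n * a ^ n * ((y * a) * c ^ (n.choose 2)) := by rw [hz]
      _ = y ^ n * (a ^ n * y) * a * c ^ (n.choose 2) := by simp only [mul_assoc]
      _ = y ^ n * (y * a ^ n * c ^ n) * a * c ^ (n.choose 2) := by rw [h1]
      _ = y ^ n * y * a ^ n * (c ^ n * a) * c ^ (n.choose 2) := by simp only [mul_assoc]
      _ = y ^ n * y * a ^ n * (a * c ^ n) * c ^ (n.choose 2) := by rw [hz]
      _ = (y ^ n * y) * (a ^ n * a) * (c ^ n * c ^ (n.choose 2)) := by simp only [mul_assoc]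
      _ = y ^ (n + 1) * a ^ (n + 1) * c ^ ((n + 1).choose 2) := by
        rw [← pow_succ, ← pow_succ, ← pow_add, hch]

/-- The power formula in class three: with `a = [y,x]`, `b = [a,x]`, `c = [a,y]` (in the
convention `y x = x y a`), `b` and `c` central. -/
theorem mul_pow_class_three {x y a b c : G} (ha : y * x = x * y * a) (hb : a * x = x * a * b)
    (hc : a * y = y * a * c) (hbz : b ∈ Subgroup.center G) (hcz : c ∈ Subgroup.center G)
    (n : ℕ) :
    (x * y) ^ n = x ^ n * y ^ n * a ^ (n.choose 2) *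
      (b ^ (n.choose 3) * c ^ (n.choose 3 + (n + 1).choose 3)) := by
  have hzb : ∀ (k : ℕ) (g : G), b ^ k * g = g * b ^ k := fun k g =>
    ((Subgroup.mem_center_iff.mp (Subgroup.pow_mem _ hbz k)) g).symm
  have hzc : ∀ (k : ℕ) (g : G), c ^ k * g = g * c ^ k := fun k g =>
    ((Subgroup.mem_center_iff.mp (Subgroup.pow_mem _ hcz k)) g).symm
  induction n with
  | zero => simp [Nat.choose]
  | succ n ih =>
    set C := n.choose 2 with hC
    set e := n.choose 3 with he
    set f := n.choose 3 + (n + 1).choose 3 with hf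
    -- the central part
    set z := b ^ e * c ^ f with hz
    have hzz : ∀ g : G, z * g = g * z := by
      intro g
      rw [hz, mul_assoc, hzc, ← mul_assoc, hzb, mul_assoc]
    -- `y^n x = x y^n a^n c^(n choose 2)`
    have hyx : y ^ n * x = x * (y ^ n * a ^ n * c ^ C) := by
      have h1 : x⁻¹ * y * x = y * a := by rw [mul_assoc, ha]; group
      have h2 : x⁻¹ * y ^ n * x = (y * a) ^ n := by
        rw [← h1]
        have := conj_pow (a := x⁻¹) (b := y) (i := n)
        rw [inv_inv] at this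
        exact this.symm
      rw [← mul_pow_class_two hc hcz n, ← h2]; group
    have hax := pow_mul_eq_of_mul_eq hb (by simpa using hzb 1 a) C
    have hay := pow_mul_eq_of_mul_eq hc (by simpa using hzc 1 a) (n + C)
    have hch2 : (n + 1).choose 2 = n + C := by
      rw [Nat.choose_succ_succ, Nat.choose_one_right]
    have hch3 : (n + 1).choose 3 = C + e := by
      rw [Nat.choose_succ_succ]
    have hch3' : (n + 1 + 1).choose 3 = (n + C) + (n + 1).choose 3 := by
      rw [Nat.choose_succ_succ (n + 1) 2, hch2]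
    calc (x * y) ^ (n + 1) = (x * y) ^ n * (x * y) := pow_succ _ _
      _ = x ^ n * y ^ n * a ^ C * z * (x * y) := by rw [ih]
      _ = x ^ n * y ^ n * a ^ C * (z * (x * y)) := by simp only [mul_assoc]
      _ = x ^ n * y ^ n * a ^ C * ((x * y) * z) := by rw [hzz]
      _ = x ^ n * y ^ n * (a ^ C * x) * y * z := by simp only [mul_assoc]
      _ = x ^ n * y ^ n * (x * a ^ C * b ^ C) * y * z := by rw [hax]
      _ = x ^ n * (y ^ n * x) * a ^ C * b ^ C * y * z := by simp only [mul_assoc]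
      _ = x ^ n * (x * (y ^ n * a ^ n * c ^ C)) * a ^ C * b ^ C * y * z := by rw [hyx]
      _ = x ^ n * x * y ^ n * a ^ n * (c ^ C * (a ^ C * b ^ C * y * z)) := by
        simp only [mul_assoc]
      _ = x ^ n * x * y ^ n * a ^ n * ((a ^ C * b ^ C * y * z) * c ^ C) := by rw [hzc]
      _ = x ^ n * x * y ^ n * (a ^ n * a ^ C) * (b ^ C * (y * z * c ^ C)) := by
        simp only [mul_assoc]
      _ = x ^ n * x * y ^ n * (a ^ n * a ^ C) * ((y * z * c ^ C) * b ^ C) := by rw [hzb]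
      _ = x ^ n * x * y ^ n * (a ^ (n + C) * y) * (z * c ^ C * b ^ C) := by
        rw [← pow_add]; simp only [mul_assoc]
      _ = x ^ n * x * y ^ n * (y * a ^ (n + C) * c ^ (n + C)) * (z * c ^ C * b ^ C) := by
        rw [hay]
      _ = (x ^ n * x) * (y ^ n * y) * a ^ (n + C) * (c ^ (n + C) * (z * c ^ C * b ^ C)) := by
        simp only [mul_assoc]
      _ = x ^ (n + 1) * y ^ (n + 1) * a ^ ((n + 1).choose 2) *
          (b ^ ((n + 1).choose 3) * c ^ ((n + 1).choose 3 + (n + 1 + 1).choose 3)) := by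
        rw [← pow_succ, ← pow_succ, hch2]
        congr 1
        -- central computation
        have hbc : ∀ i j : ℕ, b ^ i * c ^ j = c ^ j * b ^ i := fun i j => hzb i (c ^ j)
        rw [hz, hch3', hch3, hf]
        calc c ^ (n + C) * (b ^ e * c ^ (e + (n + 1).choose 3) * c ^ C * b ^ C)
            = c ^ (n + C) * (b ^ e * (c ^ (e + (n + 1).choose 3) * c ^ C) * b ^ C) := by
              simp only [mul_assoc]
          _ = c ^ (n + C) * (b ^ e * (b ^ C * (c ^ (e + (n + 1).choose 3) * c ^ C))) := by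
              rw [hzb C]; simp only [mul_assoc]
          _ = (b ^ e * b ^ C) * (c ^ (n + C) * (c ^ (e + (n + 1).choose 3) * c ^ C)) := by
              rw [← mul_assoc (b ^ e), ← mul_assoc (c ^ (n + C)), hzc (n + C) (b ^ e * b ^ C),
                mul_assoc]
          _ = b ^ (C + e) * c ^ (C + e + (n + C + (n + 1).choose 3)) := by
              rw [← pow_add, ← pow_add, ← pow_add]
              congr 2 <;> ring

theorem pow_eq_one_of_dvd' {g : G} {p k : ℕ} (hg : g ^ p = 1) (h : p ∣ k) : g ^ k = 1 := by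
  obtain ⟨m, rfl⟩ := h
  rw [pow_mul, hg, one_pow]

/-- with `a^p = b^p = c^p = 1` the `p`-th power map is multiplicative on `x, y`. -/
theorem mul_pow_prime_of_pow_eq_one {x y a b c : G} (ha : y * x = x * y * a)
    (hb : a * x = x * a * b) (hc : a * y = y * a * c) (hbz : b ∈ Subgroup.center G)
    (hcz : c ∈ Subgroup.center G) {p : ℕ} (hp : p.Prime) (hp2 : p ≠ 2)
    (hbc : (b = 1 ∧ c = 1) ∨ 3 < p) (hap : a ^ p = 1) (hbp : b ^ p = 1) (hcp : c ^ p = 1) :
    (x * y) ^ p = x ^ p * y ^ p := by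
  have h2p : 2 < p := lt_of_le_of_ne hp.two_le (Ne.symm hp2)
  have hd2 : p ∣ p.choose 2 := hp.dvd_choose_self (by norm_num) h2p
  rw [mul_pow_class_three ha hb hc hbz hcz p, pow_eq_one_of_dvd' hap hd2, mul_one]
  rcases hbc with ⟨hb1, hc1⟩ | h3p
  · rw [hb1, hc1, one_pow, one_pow, mul_one, mul_one]
  · have hd3 : p ∣ p.choose 3 := hp.dvd_choose_self (by norm_num) h3p
    have hd3' : p ∣ (p + 1).choose 3 := by
      rw [Nat.choose_succ_succ]
      exact dvd_add hd2 hd3
    rw [pow_eq_one_of_dvd' hbp hd3, pow_eq_one_of_dvd' hcp (dvd_add hd3 hd3'), mul_one, mul_one]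

/-- if `x^p = y^p = 1` in the class three configuration then `(x y)^p = 1`. -/
theorem mul_pow_prime_eq_one {x y a b c : G} (ha : y * x = x * y * a)
    (hb : a * x = x * a * b) (hc : a * y = y * a * c) (hbz : b ∈ Subgroup.center G)
    (hcz : c ∈ Subgroup.center G) {p : ℕ} (hp : p.Prime) (hp2 : p ≠ 2)
    (hbc : (b = 1 ∧ c = 1) ∨ 3 < p) (hx : x ^ p = 1) (hy : y ^ p = 1) :
    (x * y) ^ p = 1 := by
  have hzb : ∀ g : G, b * g = g * b := fun g => ((Subgroup.mem_center_iff.mp hbz) g).symm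
  have hzc : ∀ g : G, c * g = g * c := fun g => ((Subgroup.mem_center_iff.mp hcz) g).symm
  have hbp : b ^ p = 1 := by
    have := mul_pow_eq_of_mul_eq hb (hzb x) p
    rw [hx, mul_one, one_mul] at this
    exact (left_eq_mul.mp this)
  have hcp : c ^ p = 1 := by
    have := mul_pow_eq_of_mul_eq hc (hzc y) p
    rw [hy, mul_one, one_mul] at this
    exact (left_eq_mul.mp this)
  have hap : a ^ p = 1 := by
    have hc1 : c⁻¹ ∈ Subgroup.center G := Subgroup.inv_mem _ hcz
    have hzc' : ∀ g : G, c⁻¹ * g = g * c⁻¹ := fun g =>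
      ((Subgroup.mem_center_iff.mp hc1) g).symm
    have h1 : (y * a) * y⁻¹ = y⁻¹ * (y * a) * c⁻¹ := by
      have : y * a = a * y * c⁻¹ := by rw [hc]; group
      calc (y * a) * y⁻¹ = a * y * c⁻¹ * y⁻¹ := by rw [this]
        _ = a * y * (c⁻¹ * y⁻¹) := by simp only [mul_assoc]
        _ = a * y * (y⁻¹ * c⁻¹) := by rw [hzc']
        _ = y⁻¹ * (y * a) * c⁻¹ := by group
    have h2 : c⁻¹ * y⁻¹ = y⁻¹ * c⁻¹ * 1 := by rw [mul_one, hzc']
    have h3 : c⁻¹ * (y * a) = (y * a) * c⁻¹ * 1 := by rw [mul_one, hzc']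
    have hya : (y * a) ^ p = 1 := by
      have h4 : x⁻¹ * y * x = y * a := by rw [mul_assoc, ha]; group
      rw [← h4]
      have := conj_pow (a := x⁻¹) (b := y) (i := p)
      rw [inv_inv] at this
      rw [this, hy]; group
    have hcp' : (c⁻¹) ^ p = 1 := by rw [inv_pow, hcp, inv_one]
    have key := mul_pow_prime_of_pow_eq_one h1 h2 h3 (Subgroup.one_mem _) (Subgroup.one_mem _)
      hp hp2 (Or.inl ⟨rfl, rfl⟩) hcp' (one_pow p) (one_pow p)
    have h5 : y⁻¹ * (y * a) = a := by group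
    rw [h5, hya, inv_pow, hy, inv_one, mul_one] at key
    exact key
  rw [mul_pow_prime_of_pow_eq_one ha hb hc hbz hcz hp hp2 hbc hap hbp hcp, hx, hy, mul_one]

section groupLevel

open scoped commutatorElement

variable {R : Type*} [Group R]

/-- the commutator data for a pair of elements in a group of class at most three -/
theorem class_three_data (hcl : ⁅⁅commutator R, (⊤ : Subgroup R)⁆, (⊤ : Subgroup R)⁆ = ⊥)
    (x y : R) :
    ∃ a b c : R, a ∈ commutator R ∧ b ∈ commutator R ∧ c ∈ commutator R ∧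
      y * x = x * y * a ∧ a * x = x * a * b ∧ a * y = y * a * c ∧
      b ∈ Subgroup.center R ∧ c ∈ Subgroup.center R ∧
      (⁅commutator R, (⊤ : Subgroup R)⁆ = ⊥ → b = 1 ∧ c = 1) := by
  have hcen : ∀ z ∈ ⁅commutator R, (⊤ : Subgroup R)⁆, z ∈ Subgroup.center R := by
    intro z hz
    have h1 := Subgroup.commutator_eq_bot_iff_le_centralizer.mp hcl hz
    rw [Subgroup.mem_center_iff]
    intro g
    exact (Subgroup.mem_centralizer_iff.mp h1) g (Subgroup.mem_top g)
  have hle : ⁅commutator R, (⊤ : Subgroup R)⁆ ≤ commutator R := Subgroup.commutator_le_left _ _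
  have haR : ⁅y⁻¹, x⁻¹⁆ ∈ commutator R := by
    rw [commutator_def]
    exact Subgroup.commutator_mem_commutator (Subgroup.mem_top _) (Subgroup.mem_top _)
  have hbR : ⁅(⁅y⁻¹, x⁻¹⁆)⁻¹, x⁻¹⁆ ∈ ⁅commutator R, (⊤ : Subgroup R)⁆ :=
    Subgroup.commutator_mem_commutator (Subgroup.inv_mem _ haR) (Subgroup.mem_top _)
  have hcR : ⁅(⁅y⁻¹, x⁻¹⁆)⁻¹, y⁻¹⁆ ∈ ⁅commutator R, (⊤ : Subgroup R)⁆ :=
    Subgroup.commutator_mem_commutator (Subgroup.inv_mem _ haR) (Subgroup.mem_top _)
  refine ⟨⁅y⁻¹, x⁻¹⁆, ⁅(⁅y⁻¹, x⁻¹⁆)⁻¹, x⁻¹⁆, ⁅(⁅y⁻¹, x⁻¹⁆)⁻¹, y⁻¹⁆, haR, hle hbR, hle hcR,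
    ?_, ?_, ?_, hcen _ hbR, hcen _ hcR, ?_⟩
  · rw [commutatorElement_def]; group
  · rw [commutatorElement_def (⁅y⁻¹, x⁻¹⁆)⁻¹]; group
  · rw [commutatorElement_def (⁅y⁻¹, x⁻¹⁆)⁻¹]; group
  · intro h
    rw [h] at hbR hcR
    exact ⟨Subgroup.mem_bot.mp hbR, Subgroup.mem_bot.mp hcR⟩

/-- in a group of class ≤ 2 (`p` odd) or class ≤ 3 (`p > 3`), the elements of order dividing `p`
generate a subgroup of exponent dividing `p`. -/
theorem pow_prime_eq_one_of_mem_closure {p : ℕ} (hp : p.Prime)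
    (hcl : (p ≠ 2 ∧ ⁅commutator R, (⊤ : Subgroup R)⁆ = ⊥) ∨
      (3 < p ∧ ⁅⁅commutator R, (⊤ : Subgroup R)⁆, (⊤ : Subgroup R)⁆ = ⊥))
    {g : R} (hg : g ∈ Subgroup.closure {x : R | x ^ p = 1}) : g ^ p = 1 := by
  have hcl3 : ⁅⁅commutator R, (⊤ : Subgroup R)⁆, (⊤ : Subgroup R)⁆ = ⊥ := by
    rcases hcl with ⟨-, h⟩ | ⟨-, h⟩
    · rw [h, Subgroup.commutator_bot_left]
    · exact h
  have hp2 : p ≠ 2 := by
    rcases hcl with ⟨h, -⟩ | ⟨h, -⟩
    · exact h
    · omega
  induction hg using Subgroup.closure_induction with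
  | mem x hx => exact hx
  | one => exact one_pow p
  | mul x y _ _ hx hy =>
    obtain ⟨a, b, c, -, -, -, ha, hb, hc, hbz, hcz, hbc⟩ := class_three_data hcl3 x y
    refine mul_pow_prime_eq_one ha hb hc hbz hcz hp hp2 ?_ hx hy
    rcases hcl with ⟨-, h⟩ | ⟨h, -⟩
    · exact Or.inl (hbc h)
    · exact Or.inr h
  | inv x _ hx => rw [inv_pow, hx, inv_one]

/-- the `p`-th power map is multiplicative when `R' ≤ Ω₁(R)` and the class is small. -/
theorem mul_pow_prime_of_small_class {p : ℕ} (hp : p.Prime)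
    (hcl : (p ≠ 2 ∧ ⁅commutator R, (⊤ : Subgroup R)⁆ = ⊥) ∨
      (3 < p ∧ ⁅⁅commutator R, (⊤ : Subgroup R)⁆, (⊤ : Subgroup R)⁆ = ⊥))
    (hder : commutator R ≤ Subgroup.closure {x : R | x ^ p = 1}) (x y : R) :
    (x * y) ^ p = x ^ p * y ^ p := by
  have hcl3 : ⁅⁅commutator R, (⊤ : Subgroup R)⁆, (⊤ : Subgroup R)⁆ = ⊥ := by
    rcases hcl with ⟨-, h⟩ | ⟨-, h⟩
    · rw [h, Subgroup.commutator_bot_left]
    · exact h
  have hp2 : p ≠ 2 := by
    rcases hcl with ⟨h, -⟩ | ⟨h, -⟩
    · exact h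
    · omega
  obtain ⟨a, b, c, haR, hbR, hcR, ha, hb, hc, hbz, hcz, hbc⟩ := class_three_data hcl3 x y
  refine mul_pow_prime_of_pow_eq_one ha hb hc hbz hcz hp hp2 ?_
    (pow_prime_eq_one_of_mem_closure hp hcl (hder haR))
    (pow_prime_eq_one_of_mem_closure hp hcl (hder hbR))
    (pow_prime_eq_one_of_mem_closure hp hcl (hder hcR))
  rcases hcl with ⟨-, h⟩ | ⟨h, -⟩
  · exact Or.inl (hbc h)
  · exact Or.inr h

end groupLevel

end Cfsg.Agent.Lib.H1
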