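import Mathlib
import Cfsg.Agent.Lib.H1.CoprimeAction

set_option autoImplicit false
open Pointwise
open scoped commutatorElement
open scoped IsMulCommutative

namespace Cfsg.Agent.Lib.H1

variable {G : Type*} [Group G]

/-- Conjugation by `a ∈ N_G(V)` as an endomorphism of `V`. -/
def conjHomOfNormalizer {A V : Subgroup G} (hAV : A ≤ Subgroup.normalizer (V : Set G)) (a : A) :
    V →* V where
  toFun v := ⟨(a : G) * v * (a : G)⁻¹, (Subgroup.mem_normalizer_iff.mp (hAV a.2) v).mp v.2⟩
  map_one' := by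
    apply Subtype.ext
    simp
  map_mul' x y := by
    apply Subtype.ext
    simp only [Subgroup.coe_mul]
    group

theorem conjHomOfNormalizer_apply {A V : Subgroup G} (hAV : A ≤ Subgroup.normalizer (V : Set G))
    (a : A) (v : V) : ((conjHomOfNormalizer hAV a v : V) : G) = (a : G) * v * (a : G)⁻¹ := rfl

theorem conjHomOfNormalizer_mul {A V : Subgroup G} (hAV : A ≤ Subgroup.normalizer (V : Set G))
    (a b : A) (v : V) :
    conjHomOfNormalizer hAV a (conjHomOfNormalizer hAV b v) = conjHomOfNormalizer hAV (a * b) v := by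
  apply Subtype.ext
  simp only [conjHomOfNormalizer_apply, Subgroup.coe_mul]
  group

section Trace

variable [Finite G] {A V : Subgroup G} [IsMulCommutative V]

/-- The trace (norm) map `v ↦ ∏_{a ∈ A} a v a⁻¹` on an abelian subgroup `V` normalized by `A`. -/
noncomputable def traceMap (hAV : A ≤ Subgroup.normalizer (V : Set G)) : V →* V :=
  letI := Fintype.ofFinite A
  ∏ a : A, conjHomOfNormalizer hAV a

theorem traceMap_apply (hAV : A ≤ Subgroup.normalizer (V : Set G)) (v : V) :
    traceMap hAV v = letI := Fintype.ofFinite A; ∏ a : A, conjHomOfNormalizer hAV a v := by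
  unfold traceMap
  rw [MonoidHom.finsetProd_apply]

theorem traceMap_conj (hAV : A ≤ Subgroup.normalizer (V : Set G)) (b : A) (v : V) :
    traceMap hAV (conjHomOfNormalizer hAV b v) = traceMap hAV v := by
  let _ := Fintype.ofFinite A
  rw [traceMap_apply, traceMap_apply]
  simp only [conjHomOfNormalizer_mul]
  exact Fintype.prod_equiv (Equiv.mulRight b) _ _ (fun a => rfl)

theorem traceMap_of_fixed (hAV : A ≤ Subgroup.normalizer (V : Set G)) (v : V)
    (hv : (v : G) ∈ Subgroup.centralizer (A : Set G)) : traceMap hAV v = v ^ Nat.card A := by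
  let _ := Fintype.ofFinite A
  rw [traceMap_apply]
  have : ∀ a : A, conjHomOfNormalizer hAV a v = v := by
    intro a
    apply Subtype.ext
    rw [conjHomOfNormalizer_apply]
    have := Subgroup.mem_centralizer_iff.mp hv a a.2
    rw [this]
    group
  simp only [this, Finset.prod_const, Finset.card_univ, Nat.card_eq_fintype_card]

theorem commutator_le_ker_traceMap (hAV : A ≤ Subgroup.normalizer (V : Set G)) :
    ⁅V, A⁆ ≤ (traceMap hAV).ker.map V.subtype := by
  rw [Subgroup.commutator_le]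
  intro v hv a ha
  have hmem : a * v⁻¹ * a⁻¹ ∈ V := (Subgroup.mem_normalizer_iff.mp (hAV ha) v⁻¹).mp (V.inv_mem hv)
  refine ⟨⟨v, hv⟩ * conjHomOfNormalizer hAV ⟨a, ha⟩ ⟨v, hv⟩⁻¹, ?_, ?_⟩
  · rw [SetLike.mem_coe, MonoidHom.mem_ker, map_mul, traceMap_conj, map_inv, mul_inv_cancel]
  · simp only [Subgroup.subtype_apply, Subgroup.coe_mul, conjHomOfNormalizer_apply,
      Subgroup.coe_inv, commutatorElement_def]
    group

/-- For a coprime action on an abelian group `V`: `C_V(A) ∩ [V, A] = 1`. -/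
theorem coprime_abelian_centralizer_inf_commutator (hAV : A ≤ Subgroup.normalizer (V : Set G))
    (hcop : (Nat.card A).Coprime (Nat.card V)) :
    (V ⊓ Subgroup.centralizer (A : Set G)) ⊓ ⁅V, A⁆ = ⊥ := by
  rw [eq_bot_iff]
  intro x hx
  rw [Subgroup.mem_inf, Subgroup.mem_inf] at hx
  obtain ⟨⟨hxV, hxC⟩, hxW⟩ := hx
  rw [Subgroup.mem_bot]
  obtain ⟨y, hy, hyx⟩ := commutator_le_ker_traceMap hAV hxW
  have hyx' : (y : G) = x := hyx
  have h1 : y ^ Nat.card A = 1 := by
    rw [← traceMap_of_fixed hAV y (hyx' ▸ hxC)]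
    exact hy
  have h2 : y ^ Nat.card V = 1 := pow_card_eq_one'
  have h3 := pow_gcd_eq_one.mpr ⟨h1, h2⟩
  rw [Nat.Coprime.gcd_eq_one hcop, pow_one] at h3
  rw [← hyx', h3]
  rfl

end Trace

end Cfsg.Agent.Lib.H1
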