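import Mathlib

set_option autoImplicit false

/-! # Cyclic TI grids: elementary facts on integer vectors of norm three (helper1) -/

namespace Cfsg.Agent.Lib.H1.CycTI

variable {X : Type*} [Fintype X]

/-- Values in `{0, 1, -1}` when the sum of squares is three. -/
theorem val_of_sq3 {u : X → ℤ} (h : ∑ x, u x * u x = 3) (x : X) :
    u x = 0 ∨ u x = 1 ∨ u x = -1 := by
  have h1 : u x * u x ≤ ∑ y, u y * u y :=
    Finset.single_le_sum (f := fun y => u y * u y) (fun y _ => mul_self_nonneg (u y))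
      (Finset.mem_univ x)
  rw [h] at h1
  have h2 : u x ≤ 1 := by nlinarith
  have h3 : -1 ≤ u x := by nlinarith
  omega

theorem val_of_sq3_ne {u : X → ℤ} (h : ∑ x, u x * u x = 3) (x : X) (hx : u x ≠ 0) :
    u x = 1 ∨ u x = -1 := by
  rcases val_of_sq3 h x with h0 | h0
  · exact absurd h0 hx
  · exact h0

theorem mul_self_of_sq3 {u : X → ℤ} (h : ∑ x, u x * u x = 3) (x : X) (hx : u x ≠ 0) :
    u x * u x = 1 := by
  rcases val_of_sq3_ne h x hx with h0 | h0 <;> rw [h0] <;> norm_num

/-- A vector of norm three has exactly three support points. -/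
theorem support3 [DecidableEq X] {u : X → ℤ} (h : ∑ x, u x * u x = 3) :
    ∃ p q r : X, p ≠ q ∧ p ≠ r ∧ q ≠ r ∧ u p ≠ 0 ∧ u q ≠ 0 ∧ u r ≠ 0 ∧
      ∀ x, u x ≠ 0 → x = p ∨ x = q ∨ x = r := by
  have hv := val_of_sq3 h
  have hcard : (Finset.univ.filter (fun x => u x ≠ 0)).card = 3 := by
    have h1 : ∑ x, u x * u x = ∑ x ∈ Finset.univ.filter (fun x => u x ≠ 0), (1 : ℤ) := by
      rw [Finset.sum_filter]
      apply Finset.sum_congr rfl
      intro x _
      rcases hv x with h0 | h0 | h0 <;> simp [h0]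
    rw [h] at h1
    simp only [Finset.sum_const, nsmul_eq_mul, mul_one] at h1
    exact_mod_cast h1.symm
  obtain ⟨p, q, r, hpq, hpr, hqr, hS⟩ := Finset.card_eq_three.mp hcard
  have hmem : ∀ x, u x ≠ 0 ↔ x = p ∨ x = q ∨ x = r := by
    intro x
    have h2 : x ∈ Finset.univ.filter (fun x => u x ≠ 0) ↔ x ∈ ({p, q, r} : Finset X) := by
      rw [hS]
    simpa using h2
  exact ⟨p, q, r, hpq, hpr, hqr, (hmem p).mpr (Or.inl rfl), (hmem q).mpr (Or.inr (Or.inl rfl)),
    (hmem r).mpr (Or.inr (Or.inr rfl)), fun x hx => (hmem x).mp hx⟩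

theorem sum_support3 [DecidableEq X] {f : X → ℤ} {p q r : X} (hpq : p ≠ q) (hpr : p ≠ r) (hqr : q ≠ r)
    (hf : ∀ x, f x ≠ 0 → x = p ∨ x = q ∨ x = r) : ∑ x, f x = f p + f q + f r := by
  have h1 : ∑ x, f x = ∑ x ∈ ({p, q, r} : Finset X), f x := by
    symm
    apply Finset.sum_subset (Finset.subset_univ _)
    intro x _ hx
    by_contra h
    apply hx
    rcases hf x h with rfl | rfl | rfl <;> simp
  rw [h1, Finset.sum_insert (by simp [hpq, hpr]), Finset.sum_pair hqr]
  ring

theorem sum_support2 [DecidableEq X] {f : X → ℤ} {p q : X} (hpq : p ≠ q)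
    (hf : ∀ x, f x ≠ 0 → x = p ∨ x = q) : ∑ x, f x = f p + f q := by
  have h1 : ∑ x, f x = ∑ x ∈ ({p, q} : Finset X), f x := by
    symm
    apply Finset.sum_subset (Finset.subset_univ _)
    intro x _ hx
    by_contra h
    apply hx
    rcases hf x h with rfl | rfl <;> simp
  rw [h1, Finset.sum_pair hpq]

/-- No opposite-sign coincidence for two norm-three vectors with inner product one and equal
degree. -/
theorem no_anti [DecidableEq X] {u v dg : X → ℤ} (dgpos : ∀ x, 0 < dg x)
    (huu : ∑ x, u x * u x = 3) (hvv : ∑ x, v x * v x = 3) (huv : ∑ x, u x * v x = 1)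
    (hdeg : ∑ x, u x * dg x = ∑ x, v x * dg x) (x : X) (hu : u x ≠ 0) (hv : v x ≠ 0) :
    u x = v x := by
  by_contra hne
  have h4 : (u x - v x) * (u x - v x) = 4 := by
    rcases val_of_sq3_ne huu x hu with h1 | h1 <;> rcases val_of_sq3_ne hvv x hv with h2 | h2
    · exact absurd (h1.trans h2.symm) hne
    · rw [h1, h2]; norm_num
    · rw [h1, h2]; norm_num
    · exact absurd (h1.trans h2.symm) hne
  have hsum : ∑ y, (u y - v y) * (u y - v y) = 4 := by
    have e : ∀ y, (u y - v y) * (u y - v y) = u y * u y + v y * v y - 2 * (u y * v y) := by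
      intro y; ring
    simp only [e, Finset.sum_add_distrib, Finset.sum_sub_distrib, ← Finset.mul_sum]
    rw [huu, hvv, huv]; norm_num
  have hrest : ∑ y ∈ Finset.univ.erase x, (u y - v y) * (u y - v y) = 0 := by
    have := Finset.add_sum_erase Finset.univ (fun y => (u y - v y) * (u y - v y))
      (Finset.mem_univ x)
    linarith
  have hz : ∀ y, y ≠ x → u y - v y = 0 := by
    intro y hy
    have := (Finset.sum_eq_zero_iff_of_nonneg
      (fun y _ => mul_self_nonneg (u y - v y))).mp hrest y (Finset.mem_erase.mpr ⟨hy, Finset.mem_univ _⟩)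
    exact mul_self_eq_zero.mp this
  have hd : ∑ y, (u y - v y) * dg y = (u x - v x) * dg x := by
    apply Finset.sum_eq_single x
    · intro y _ hy; rw [hz y hy, zero_mul]
    · intro h; exact absurd (Finset.mem_univ x) h
  have hd0 : ∑ y, (u y - v y) * dg y = 0 := by
    have e : ∀ y, (u y - v y) * dg y = u y * dg y - v y * dg y := by intro y; ring
    simp only [e, Finset.sum_sub_distrib]
    linarith
  rw [hd0] at hd
  have h5 := (dgpos x).ne'
  rcases mul_eq_zero.mp hd.symm with h6 | h6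
  · exact hne (by linarith)
  · exact h5 h6

/-- Two norm-three vectors with inner product one and equal degree have exactly one common support
point, where they agree. -/
theorem line_core [DecidableEq X] {u v dg : X → ℤ} (dgpos : ∀ x, 0 < dg x)
    (huu : ∑ x, u x * u x = 3) (hvv : ∑ x, v x * v x = 3) (huv : ∑ x, u x * v x = 1)
    (hdeg : ∑ x, u x * dg x = ∑ x, v x * dg x) :
    ∃ c, u c ≠ 0 ∧ v c ≠ 0 ∧ u c = v c ∧ ∀ x, u x ≠ 0 → v x ≠ 0 → x = c := by
  have hna := no_anti dgpos huu hvv huv hdeg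
  have hex : ∃ c, u c ≠ 0 ∧ v c ≠ 0 := by
    by_contra hno
    push Not at hno
    have : ∑ x, u x * v x = 0 := by
      apply Finset.sum_eq_zero
      intro x _
      by_cases hx : u x = 0
      · rw [hx, zero_mul]
      · rw [hno x hx, mul_zero]
    rw [huv] at this
    exact one_ne_zero this
  obtain ⟨c, hc1, hc2⟩ := hex
  refine ⟨c, hc1, hc2, hna c hc1 hc2, ?_⟩
  intro x hx1 hx2
  by_contra hxc
  have hnn : ∀ y ∈ (Finset.univ : Finset X), 0 ≤ u y * v y := by
    intro y _
    by_cases hy1 : u y = 0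
    · rw [hy1, zero_mul]
    by_cases hy2 : v y = 0
    · rw [hy2, mul_zero]
    rw [hna y hy1 hy2]; exact mul_self_nonneg _
  have hle : ∑ y ∈ ({x, c} : Finset X), u y * v y ≤ ∑ y, u y * v y :=
    Finset.sum_le_sum_of_subset_of_nonneg (Finset.subset_univ _) (fun y hy _ => hnn y hy)
  rw [Finset.sum_pair hxc, huv, ← hna x hx1 hx2, ← hna c hc1 hc2, mul_self_of_sq3 huu x hx1,
    mul_self_of_sq3 huu c hc1] at hle
  norm_num at hle

end Cfsg.Agent.Lib.H1.CycTI
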