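import Mathlib
import Cfsg.Agent.Lib.H1.CycTIA

set_option autoImplicit false

/-! # Cyclic TI grids: the row/column constants (helper1)

An abstract `Grid`: vectors `β i j : X → ℤ` of norm three with the inner products of
Peterfalvi (3.2), a degree function, and two commuting involutions `σ`, `τ` of `X` flipping the
column resp. row index.  We show that each `β i j` has a `σ`-fixed support point not depending
on `j` (`xi_const`). -/

namespace Cfsg.Agent.Lib.H1.CycTI

structure Grid (X : Type*) (I : Type*) (J : Type*) [Fintype X] where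
  β : I → J → X → ℤ
  dg : X → ℤ
  dg_pos : ∀ x, 0 < dg x
  σ : X → X
  τ : X → X
  σσ : ∀ x, σ (σ x) = x
  ττ : ∀ x, τ (τ x) = x
  στ : ∀ x, σ (τ x) = τ (σ x)
  nI : I → I
  nJ : J → J
  nI_ne : ∀ i, nI i ≠ i
  nJ_ne : ∀ j, nJ j ≠ j
  nI_nI : ∀ i, nI (nI i) = i
  nJ_nJ : ∀ j, nJ (nJ j) = j
  β_σ : ∀ i j x, β i j (σ x) = β i (nJ j) x
  β_τ : ∀ i j x, β i j (τ x) = β (nI i) j x
  ip_self : ∀ i j, ∑ x, β i j x * β i j x = 3
  ip_row : ∀ i j l, j ≠ l → ∑ x, β i j x * β i l x = 1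
  ip_col : ∀ i k j, i ≠ k → ∑ x, β i j x * β k j x = 1
  ip_gen : ∀ i k j l, i ≠ k → j ≠ l → ∑ x, β i j x * β k l x = 0
  deg : ∀ i j, ∑ x, β i j x * dg x = -1

namespace Grid

variable {X : Type*} {I : Type*} {J : Type*} [Fintype X]

/-- The transposed grid. -/
def tr (g : Grid X I J) : Grid X J I where
  β := fun j i => g.β i j
  dg := g.dg
  dg_pos := g.dg_pos
  σ := g.τ
  τ := g.σ
  σσ := g.ττ
  ττ := g.σσ
  στ := fun x => (g.στ x).symm
  nI := g.nJ
  nJ := g.nI
  nI_ne := g.nJ_ne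
  nJ_ne := g.nI_ne
  nI_nI := g.nJ_nJ
  nJ_nJ := g.nI_nI
  β_σ := fun j i x => g.β_τ i j x
  β_τ := fun j i x => g.β_σ i j x
  ip_self := fun j i => g.ip_self i j
  ip_row := fun j i k h => g.ip_col i k j h
  ip_col := fun j l i h => g.ip_row i j l h
  ip_gen := fun j l i k h1 h2 => g.ip_gen i k j l h2 h1
  deg := fun j i => g.deg i j

variable [DecidableEq X] (g : Grid X I J)

theorem row_core (i : I) (j l : J) (h : j ≠ l) :
    ∃ c, g.β i j c ≠ 0 ∧ g.β i l c ≠ 0 ∧ g.β i j c = g.β i l c ∧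
      ∀ x, g.β i j x ≠ 0 → g.β i l x ≠ 0 → x = c :=
  line_core g.dg_pos (g.ip_self i j) (g.ip_self i l) (g.ip_row i j l h)
    ((g.deg i j).trans (g.deg i l).symm)

theorem col_core (i k : I) (j : J) (h : i ≠ k) :
    ∃ c, g.β i j c ≠ 0 ∧ g.β k j c ≠ 0 ∧ g.β i j c = g.β k j c ∧
      ∀ x, g.β i j x ≠ 0 → g.β k j x ≠ 0 → x = c :=
  line_core g.dg_pos (g.ip_self i j) (g.ip_self k j) (g.ip_col i k j h)
    ((g.deg i j).trans (g.deg k j).symm)

/-- Two common support points on a row coincide. -/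
theorem row_unique (i : I) (j l : J) (h : j ≠ l) (x y : X) (hx1 : g.β i j x ≠ 0)
    (hx2 : g.β i l x ≠ 0) (hy1 : g.β i j y ≠ 0) (hy2 : g.β i l y ≠ 0) : x = y := by
  obtain ⟨c, -, -, -, hc⟩ := g.row_core i j l h
  rw [hc x hx1 hx2, hc y hy1 hy2]

theorem col_unique (i k : I) (j : J) (h : i ≠ k) (x y : X) (hx1 : g.β i j x ≠ 0)
    (hx2 : g.β k j x ≠ 0) (hy1 : g.β i j y ≠ 0) (hy2 : g.β k j y ≠ 0) : x = y := by
  obtain ⟨c, -, -, -, hc⟩ := g.col_core i k j h
  rw [hc x hx1 hx2, hc y hy1 hy2]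

/-- Values agree at a common support point on a row. -/
theorem row_agree (i : I) (j l : J) (x : X) (hx1 : g.β i j x ≠ 0)
    (hx2 : g.β i l x ≠ 0) : g.β i j x = g.β i l x := by
  by_cases h : j = l
  · rw [h]
  · exact no_anti g.dg_pos (g.ip_self i j) (g.ip_self i l) (g.ip_row i j l h)
      ((g.deg i j).trans (g.deg i l).symm) x hx1 hx2

theorem col_agree (i k : I) (j : J) (x : X) (hx1 : g.β i j x ≠ 0)
    (hx2 : g.β k j x ≠ 0) : g.β i j x = g.β k j x := by
  by_cases h : i = k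
  · rw [h]
  · exact no_anti g.dg_pos (g.ip_self i j) (g.ip_self k j) (g.ip_col i k j h)
      ((g.deg i j).trans (g.deg k j).symm) x hx1 hx2

/-- The `σ`-fixed support point of `β i j`. -/
noncomputable def xi (i : I) (j : J) : X :=
  Classical.choose (g.row_core i j (g.nJ j) (g.nJ_ne j).symm)

theorem xi_mem (i : I) (j : J) : g.β i j (g.xi i j) ≠ 0 :=
  (Classical.choose_spec (g.row_core i j (g.nJ j) (g.nJ_ne j).symm)).1

theorem xi_mem' (i : I) (j : J) : g.β i (g.nJ j) (g.xi i j) ≠ 0 :=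
  (Classical.choose_spec (g.row_core i j (g.nJ j) (g.nJ_ne j).symm)).2.1

theorem xi_unique (i : I) (j : J) (x : X) (h1 : g.β i j x ≠ 0) (h2 : g.β i (g.nJ j) x ≠ 0) :
    x = g.xi i j :=
  (Classical.choose_spec (g.row_core i j (g.nJ j) (g.nJ_ne j).symm)).2.2.2 x h1 h2

theorem xi_fixed (i : I) (j : J) : g.σ (g.xi i j) = g.xi i j := by
  apply g.xi_unique
  · rw [g.β_σ]; exact g.xi_mem' i j
  · rw [g.β_σ, g.nJ_nJ]; exact g.xi_mem i j

theorem xi_of_fixed (i : I) (j : J) (x : X) (h1 : g.β i j x ≠ 0) (h2 : g.σ x = x) :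
    x = g.xi i j := by
  apply g.xi_unique _ _ _ h1
  rw [← g.β_σ, h2]; exact h1

theorem xi_neg (i : I) (j : J) : g.xi i (g.nJ j) = g.xi i j :=
  (g.xi_of_fixed i (g.nJ j) _ (g.xi_mem' i j) (g.xi_fixed i j)).symm

/-- Auxiliary: a vector with three support points, one of them fixed by the involution `ρ`, is not
orthogonal to its `ρ`-translate. -/
theorem aux_fixed {b : X → ℤ} {ρ : X → X} (hρ : ∀ x, ρ (ρ x) = x) {p q r : X} (hpq : p ≠ q)
    (hpr : p ≠ r) (hqr : q ≠ r) (hp : b p = 1 ∨ b p = -1) (hq : b q = 1 ∨ b q = -1)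
    (hr : b r = 1 ∨ b r = -1) (hsupp : ∀ x, b x ≠ 0 → x = p ∨ x = q ∨ x = r) (hfix : ρ p = p) :
    ∑ x, b x * b (ρ x) ≠ 0 := by
  have hsum : ∑ x, b x * b (ρ x) = b p * b (ρ p) + b q * b (ρ q) + b r * b (ρ r) := by
    apply sum_support3 hpq hpr hqr
    intro x hx
    apply hsupp
    intro h0
    apply hx
    rw [h0, zero_mul]
  rw [hsum, hfix]
  have hpp : b p * b p = 1 := by rcases hp with h | h <;> rw [h] <;> norm_num
  have hqq : b q * b q = 1 := by rcases hq with h | h <;> rw [h] <;> norm_num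
  have hrr : b r * b r = 1 := by rcases hr with h | h <;> rw [h] <;> norm_num
  have hq' : ρ q = q ∨ ρ q = r ∨ b (ρ q) = 0 := by
    by_cases h0 : b (ρ q) = 0
    · exact Or.inr (Or.inr h0)
    · rcases hsupp _ h0 with h | h | h
      · exfalso
        have : q = p := by rw [← hρ q, h, hfix]
        exact hpq this.symm
      · exact Or.inl h
      · exact Or.inr (Or.inl h)
  have hr' : ρ r = r ∨ ρ r = q ∨ b (ρ r) = 0 := by
    by_cases h0 : b (ρ r) = 0
    · exact Or.inr (Or.inr h0)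
    · rcases hsupp _ h0 with h | h | h
      · exfalso
        have : r = p := by rw [← hρ r, h, hfix]
        exact hpr this.symm
      · exact Or.inr (Or.inl h)
      · exact Or.inl h
  rcases hq' with h1 | h1 | h1
  · rw [h1, hpp, hqq]
    rcases hr' with h2 | h2 | h2
    · rw [h2, hrr]; norm_num
    · exfalso
      have : r = q := by rw [← hρ r, h2, h1]
      exact hqr this.symm
    · rw [h2]; norm_num
  · have h2 : ρ r = q := by rw [← h1, hρ]
    rw [h1, h2, hpp]
    rcases hq with h | h <;> rcases hr with h' | h' <;> rw [h, h'] <;> norm_num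
  · rw [h1, hpp]
    rcases hr' with h2 | h2 | h2
    · rw [h2, hrr]; norm_num
    · exfalso
      have : ρ q = r := by rw [← h2, hρ]
      rw [this] at h1
      rcases hr with h | h <;> rw [h] at h1 <;> norm_num at h1
    · rw [h2]; norm_num

/-- No support point is fixed by both `σ` and `τ`. -/
theorem no_common_fixed (i : I) (j : J) (u : X) (hu : g.β i j u ≠ 0) (hσ : g.σ u = u)
    (hτ : g.τ u = u) : False := by
  have hρ : ∀ x, g.β (g.nI i) (g.nJ j) x = g.β i j (g.σ (g.τ x)) := by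
    intro x; rw [g.β_σ, g.β_τ]
  have hρρ : ∀ x, g.σ (g.τ (g.σ (g.τ x))) = x := by
    intro x; rw [g.στ (g.σ (g.τ x)), g.σσ, g.ττ]
  have h0 : ∑ x, g.β i j x * g.β i j (g.σ (g.τ x)) = 0 := by
    have := g.ip_gen i (g.nI i) j (g.nJ j) (g.nI_ne i).symm (g.nJ_ne j).symm
    simpa only [hρ] using this
  have hfix : g.σ (g.τ u) = u := by rw [hτ, hσ]
  obtain ⟨p, q, r, hpq, hpr, hqr, hp, hq, hr, hsupp⟩ := support3 (g.ip_self i j)
  have vp := val_of_sq3_ne (g.ip_self i j) p hp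
  have vq := val_of_sq3_ne (g.ip_self i j) q hq
  have vr := val_of_sq3_ne (g.ip_self i j) r hr
  rcases hsupp u hu with rfl | rfl | rfl
  · exact aux_fixed (ρ := fun x => g.σ (g.τ x)) hρρ hpq hpr hqr vp vq vr hsupp hfix h0
  · refine aux_fixed (ρ := fun x => g.σ (g.τ x)) hρρ hpq.symm hqr hpr vq vp vr ?_ hfix h0
    intro x hx
    rcases hsupp x hx with h | h | h
    · exact Or.inr (Or.inl h)
    · exact Or.inl h
    · exact Or.inr (Or.inr h)
  · refine aux_fixed (ρ := fun x => g.σ (g.τ x)) hρρ hpr.symm hqr.symm hpq vr vp vq ?_ hfix h0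
    intro x hx
    rcases hsupp x hx with h | h | h
    · exact Or.inr (Or.inl h)
    · exact Or.inr (Or.inr h)
    · exact Or.inl h

theorem tau_xi_ne (i : I) (j : J) : g.τ (g.xi i j) ≠ g.xi i j := fun h =>
  g.no_common_fixed i j _ (g.xi_mem i j) (g.xi_fixed i j) h

end Grid

end Cfsg.Agent.Lib.H1.CycTI
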