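import Mathlib
import Cfsg.Agent.Lib.H1.CycTIB

set_option autoImplicit false

/-! # Cyclic TI grids: the fixed point of a row does not depend on the column (helper1) -/

namespace Cfsg.Agent.Lib.H1.CycTI

namespace Grid

variable {X : Type*} {I : Type*} {J : Type*} [Fintype X] [DecidableEq X] (g : Grid X I J)

theorem xi_const_aux (i : I) (j l : J) (hjl : j ≠ l) (hjl' : g.nJ j ≠ l) :
    g.xi i j = g.xi i l := by
  by_contra hne
  have hjl2 : j ≠ g.nJ l := by
    intro h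
    apply hjl'
    rw [h, g.nJ_nJ]
  have hjl3 : g.nJ j ≠ g.nJ l := by
    intro h
    apply hjl
    rw [← g.nJ_nJ j, h, g.nJ_nJ]
  -- values at `ξ = xi i j`
  have hσξ := g.xi_fixed i j
  have hσξ' := g.xi_fixed i l
  have h1 : g.β i l (g.xi i j) = 0 := by
    by_contra h
    exact hne (g.xi_of_fixed i l _ h hσξ)
  have h2 : g.β i (g.nJ l) (g.xi i j) = 0 := by
    rw [← g.β_σ, hσξ]; exact h1
  have h3 : g.β i (g.nJ j) (g.xi i j) = g.β i j (g.xi i j) := by
    rw [← g.β_σ, hσξ]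
  have h1' : g.β i j (g.xi i l) = 0 := by
    by_contra h
    exact hne (g.xi_of_fixed i j _ h hσξ').symm
  have h2' : g.β i (g.nJ j) (g.xi i l) = 0 := by
    rw [← g.β_σ, hσξ']; exact h1'
  have h3' : g.β i (g.nJ l) (g.xi i l) = g.β i l (g.xi i l) := by
    rw [← g.β_σ, hσξ']
  set γ : X → ℤ := fun x => g.β i j x + g.β i (g.nJ j) x - g.β i l x - g.β i (g.nJ l) x with hγ
  have hγξ : γ (g.xi i j) = 2 * g.β i j (g.xi i j) := by
    simp only [hγ, h1, h2, h3]; ring
  have hγξ' : γ (g.xi i l) = -2 * g.β i l (g.xi i l) := by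
    simp only [hγ, h1', h2', h3']; ring
  have va := mul_self_of_sq3 (g.ip_self i j) _ (g.xi_mem i j)
  have vc := mul_self_of_sq3 (g.ip_self i l) _ (g.xi_mem i l)
  -- the norm of `γ`
  have hnorm : ∑ x, γ x * γ x = 8 := by
    have e : ∀ x, γ x * γ x = g.β i j x * g.β i j x + g.β i (g.nJ j) x * g.β i (g.nJ j) x
        + g.β i l x * g.β i l x + g.β i (g.nJ l) x * g.β i (g.nJ l) x
        + 2 * (g.β i j x * g.β i (g.nJ j) x) - 2 * (g.β i j x * g.β i l x)
        - 2 * (g.β i j x * g.β i (g.nJ l) x) - 2 * (g.β i (g.nJ j) x * g.β i l x)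
        - 2 * (g.β i (g.nJ j) x * g.β i (g.nJ l) x) + 2 * (g.β i l x * g.β i (g.nJ l) x) := by
      intro x; simp only [hγ]; ring
    simp only [e, Finset.sum_add_distrib, Finset.sum_sub_distrib, ← Finset.mul_sum]
    rw [g.ip_self, g.ip_self, g.ip_self, g.ip_self, g.ip_row i j (g.nJ j) (g.nJ_ne j).symm,
      g.ip_row i j l hjl, g.ip_row i j (g.nJ l) hjl2, g.ip_row i (g.nJ j) l hjl',
      g.ip_row i (g.nJ j) (g.nJ l) hjl3, g.ip_row i l (g.nJ l) (g.nJ_ne l).symm]
    norm_num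
  -- `γ` is supported on the two fixed points
  have hsupp : ∀ x, γ x ≠ 0 → x = g.xi i j ∨ x = g.xi i l := by
    intro x hx
    by_contra hcon
    push Not at hcon
    have hle : ∑ y ∈ ({g.xi i j, g.xi i l, x} : Finset X), γ y * γ y ≤ ∑ y, γ y * γ y :=
      Finset.sum_le_sum_of_subset_of_nonneg (Finset.subset_univ _)
        (fun y _ _ => mul_self_nonneg _)
    rw [Finset.sum_insert (by simp [hne, hcon.1.symm]), Finset.sum_pair hcon.2.symm, hnorm, hγξ,
      hγξ'] at hle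
    have h8 : 2 * g.β i j (g.xi i j) * (2 * g.β i j (g.xi i j))
        + (-2 * g.β i l (g.xi i l) * (-2 * g.β i l (g.xi i l)) + γ x * γ x) = 8 + γ x * γ x := by
      linear_combination 4 * va + 4 * vc
    rw [h8] at hle
    have : γ x * γ x ≤ 0 := by linarith
    have h0 : γ x * γ x = 0 := le_antisymm this (mul_self_nonneg _)
    exact hx (mul_self_eq_zero.mp h0)
  -- the twisted sum
  have htw : ∑ x, γ x * γ (g.τ x) = 4 := by
    have hi := (g.nI_ne i).symm
    have e : ∀ x, γ x * γ (g.τ x) =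
        g.β i j x * g.β (g.nI i) j x + g.β i j x * g.β (g.nI i) (g.nJ j) x
        - g.β i j x * g.β (g.nI i) l x - g.β i j x * g.β (g.nI i) (g.nJ l) x
        + g.β i (g.nJ j) x * g.β (g.nI i) j x + g.β i (g.nJ j) x * g.β (g.nI i) (g.nJ j) x
        - g.β i (g.nJ j) x * g.β (g.nI i) l x - g.β i (g.nJ j) x * g.β (g.nI i) (g.nJ l) x
        - g.β i l x * g.β (g.nI i) j x - g.β i l x * g.β (g.nI i) (g.nJ j) x
        + g.β i l x * g.β (g.nI i) l x + g.β i l x * g.β (g.nI i) (g.nJ l) x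
        - g.β i (g.nJ l) x * g.β (g.nI i) j x - g.β i (g.nJ l) x * g.β (g.nI i) (g.nJ j) x
        + g.β i (g.nJ l) x * g.β (g.nI i) l x + g.β i (g.nJ l) x * g.β (g.nI i) (g.nJ l) x := by
      intro x; simp only [hγ, g.β_τ]; ring
    simp only [e, Finset.sum_add_distrib, Finset.sum_sub_distrib]
    rw [g.ip_col i (g.nI i) j hi, g.ip_col i (g.nI i) (g.nJ j) hi, g.ip_col i (g.nI i) l hi,
      g.ip_col i (g.nI i) (g.nJ l) hi,
      g.ip_gen i (g.nI i) j (g.nJ j) hi (g.nJ_ne j).symm, g.ip_gen i (g.nI i) j l hi hjl,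
      g.ip_gen i (g.nI i) j (g.nJ l) hi hjl2,
      g.ip_gen i (g.nI i) (g.nJ j) j hi (g.nJ_ne j), g.ip_gen i (g.nI i) (g.nJ j) l hi hjl',
      g.ip_gen i (g.nI i) (g.nJ j) (g.nJ l) hi hjl3,
      g.ip_gen i (g.nI i) l j hi hjl.symm, g.ip_gen i (g.nI i) l (g.nJ j) hi hjl'.symm,
      g.ip_gen i (g.nI i) l (g.nJ l) hi (g.nJ_ne l).symm,
      g.ip_gen i (g.nI i) (g.nJ l) j hi hjl2.symm, g.ip_gen i (g.nI i) (g.nJ l) (g.nJ j) hi hjl3.symm,
      g.ip_gen i (g.nI i) (g.nJ l) l hi (g.nJ_ne l)]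
    norm_num
  have htw2 : ∑ x, γ x * γ (g.τ x)
      = γ (g.xi i j) * γ (g.τ (g.xi i j)) + γ (g.xi i l) * γ (g.τ (g.xi i l)) := by
    apply sum_support2 hne
    intro x hx
    apply hsupp
    intro h0
    apply hx
    rw [h0, zero_mul]
  rw [htw2] at htw
  have hτ1 := g.tau_xi_ne i j
  have hτ2 := g.tau_xi_ne i l
  by_cases hc : g.τ (g.xi i j) = g.xi i l
  · have hc' : g.τ (g.xi i l) = g.xi i j := by rw [← hc, g.ττ]
    rw [hc, hc', hγξ, hγξ'] at htw
    rcases val_of_sq3_ne (g.ip_self i j) _ (g.xi_mem i j) with h | h <;>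
    rcases val_of_sq3_ne (g.ip_self i l) _ (g.xi_mem i l) with h' | h' <;>
    rw [h, h'] at htw <;> norm_num at htw
  · have z1 : γ (g.τ (g.xi i j)) = 0 := by
      by_contra h
      rcases hsupp _ h with h' | h'
      · exact hτ1 h'
      · exact hc h'
    have z2 : γ (g.τ (g.xi i l)) = 0 := by
      by_contra h
      rcases hsupp _ h with h' | h'
      · apply hc
        rw [← h', g.ττ]
      · exact hτ2 h'
    rw [z1, z2] at htw
    norm_num at htw

/-- The `σ`-fixed support point depends only on the row. -/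
theorem xi_const (i : I) (j l : J) : g.xi i j = g.xi i l := by
  by_cases h1 : j = l
  · rw [h1]
  by_cases h2 : g.nJ j = l
  · rw [← h2, g.xi_neg]
  exact g.xi_const_aux i j l h1 h2

end Grid

end Cfsg.Agent.Lib.H1.CycTI
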