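import Mathlib
import Cfsg.Agent.Lib.H1.CycTIC

set_option autoImplicit false

/-! # Cyclic TI grids: the structure theorem (helper1)

Every `β i j` of a `Grid` is `a i • e (ξ i) + b j • e (η j) + c i j • e (ζ i j)` with all the points
`ξ i`, `η j`, `ζ i j` pairwise distinct. -/

namespace Cfsg.Agent.Lib.H1.CycTI

theorem third_point {X : Type*} {p q r a b : X} (ha : a = p ∨ a = q ∨ a = r)
    (hb : b = p ∨ b = q ∨ b = r) (hab : a ≠ b) :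
    ∃ z, (z = p ∨ z = q ∨ z = r) ∧ ∀ x, (x = p ∨ x = q ∨ x = r) → x = a ∨ x = b ∨ x = z := by
  rcases ha with rfl | rfl | rfl <;> rcases hb with rfl | rfl | rfl
  · exact absurd rfl hab
  · exact ⟨r, Or.inr (Or.inr rfl), fun x hx => by tauto⟩
  · exact ⟨q, Or.inr (Or.inl rfl), fun x hx => by tauto⟩
  · exact ⟨r, Or.inr (Or.inr rfl), fun x hx => by tauto⟩
  · exact absurd rfl hab
  · exact ⟨p, Or.inl rfl, fun x hx => by tauto⟩
  · exact ⟨q, Or.inr (Or.inl rfl), fun x hx => by tauto⟩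
  · exact ⟨p, Or.inl rfl, fun x hx => by tauto⟩
  · exact absurd rfl hab

namespace Grid

variable {X : Type*} {I : Type*} {J : Type*} [Fintype X] [DecidableEq X] (g : Grid X I J)

theorem structure_thm [Nonempty I] [Nonempty J] :
    ∃ (ξ : I → X) (η : J → X) (ζ : I → J → X),
      (∀ i j, g.β i j (ξ i) ≠ 0) ∧ (∀ i j, g.β i j (η j) ≠ 0) ∧ (∀ i j, g.β i j (ζ i j) ≠ 0) ∧
      (∀ i j x, g.β i j x ≠ 0 → x = ξ i ∨ x = η j ∨ x = ζ i j) ∧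
      (∀ i j, ξ i ≠ η j) ∧ (∀ i j, ξ i ≠ ζ i j) ∧ (∀ i j, η j ≠ ζ i j) := by
  obtain ⟨i₀⟩ := ‹Nonempty I›
  obtain ⟨j₀⟩ := ‹Nonempty J›
  have hξ1 : ∀ i j, g.β i j (g.xi i j₀) ≠ 0 := by
    intro i j; rw [g.xi_const i j₀ j]; exact g.xi_mem i j
  have hξ2 : ∀ i, g.σ (g.xi i j₀) = g.xi i j₀ := fun i => g.xi_fixed i j₀
  have hη1 : ∀ i j, g.β i j (g.tr.xi j i₀) ≠ 0 := by
    intro i j; rw [g.tr.xi_const j i₀ i]; exact g.tr.xi_mem j i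
  have hη2 : ∀ j, g.τ (g.tr.xi j i₀) = g.tr.xi j i₀ := fun j => g.tr.xi_fixed j i₀
  have hne : ∀ i j, g.xi i j₀ ≠ g.tr.xi j i₀ := by
    intro i j h
    apply g.no_common_fixed i j (g.xi i j₀) (hξ1 i j) (hξ2 i)
    rw [h]; exact hη2 j
  have hz : ∀ i j, ∃ z, g.β i j z ≠ 0 ∧ z ≠ g.xi i j₀ ∧ z ≠ g.tr.xi j i₀ ∧
      ∀ x, g.β i j x ≠ 0 → x = g.xi i j₀ ∨ x = g.tr.xi j i₀ ∨ x = z := by
    intro i j
    obtain ⟨p, q, r, hpq, hpr, hqr, hp, hq, hr, hsupp⟩ := support3 (g.ip_self i j)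
    obtain ⟨z, hz1, hz2⟩ := third_point (hsupp _ (hξ1 i j)) (hsupp _ (hη1 i j)) (hne i j)
    have hzs : g.β i j z ≠ 0 := by rcases hz1 with rfl | rfl | rfl <;> assumption
    refine ⟨z, hzs, ?_, ?_, fun x hx => hz2 x (hsupp x hx)⟩
    · intro h
      rcases hz2 p (Or.inl rfl) with h1 | h1 | h1 <;>
      rcases hz2 q (Or.inr (Or.inl rfl)) with h2 | h2 | h2 <;>
      rcases hz2 r (Or.inr (Or.inr rfl)) with h3 | h3 | h3 <;>
      simp_all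
    · intro h
      rcases hz2 p (Or.inl rfl) with h1 | h1 | h1 <;>
      rcases hz2 q (Or.inr (Or.inl rfl)) with h2 | h2 | h2 <;>
      rcases hz2 r (Or.inr (Or.inr rfl)) with h3 | h3 | h3 <;>
      simp_all
  choose ζ hζ1 hζ2 hζ3 hζ4 using hz
  exact ⟨fun i => g.xi i j₀, fun j => g.tr.xi j i₀, ζ, hξ1, hη1, hζ1, hζ4, hne,
    fun i j => (hζ2 i j).symm, fun i j => (hζ3 i j).symm⟩

end Grid

end Cfsg.Agent.Lib.H1.CycTI
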