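import Mathlib
import Cfsg.Agent.Lib.H1.CycTID

set_option autoImplicit false

/-! # Cyclic TI grids: the main combinatorial theorem (helper1) -/

namespace Cfsg.Agent.Lib.H1.CycTI

namespace Grid

variable {X : Type*} {I : Type*} {J : Type*} [Fintype X] [DecidableEq X] (g : Grid X I J)

theorem main [Nonempty I] [Nonempty J] (x₀ : X) (hx₀ : ∀ i j, g.β i j x₀ = 0) :
    ∃ (P : Option I → Option J → X) (s : Option I → Option J → ℤ),
      (∀ a b, s a b = 1 ∨ s a b = -1) ∧ P none none = x₀ ∧ s none none = 1 ∧
      (∀ a b a' b', P a b = P a' b' → a = a' ∧ b = b') ∧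
      ∀ i j x, g.β i j x = -(if x = P (some i) none then s (some i) none else 0)
        - (if x = P none (some j) then s none (some j) else 0)
        + (if x = P (some i) (some j) then s (some i) (some j) else 0) := by
  obtain ⟨ξ, η, ζ, hξ, hη, hζ, hsupp, hξη, hξζ, hηζ⟩ := g.structure_thm
  obtain ⟨i₀⟩ := ‹Nonempty I›
  obtain ⟨j₀⟩ := ‹Nonempty J›
  -- distinctness
  have D1 : ∀ i k, ξ i = ξ k → i = k := by
    intro i k h
    by_contra hik
    have := g.col_unique i k j₀ hik (ξ i) (η j₀) (hξ i j₀) (by rw [h]; exact hξ k j₀) (hη i j₀)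
      (hη k j₀)
    exact hξη i j₀ this
  have D2 : ∀ j l, η j = η l → j = l := by
    intro j l h
    by_contra hjl
    have := g.row_unique i₀ j l hjl (η j) (ξ i₀) (hη i₀ j) (by rw [h]; exact hη i₀ l) (hξ i₀ j)
      (hξ i₀ l)
    exact hξη i₀ j this.symm
  have D3 : ∀ i k l, ξ i ≠ ζ k l := by
    intro i k l h
    by_cases hik : i = k
    · subst hik; exact hξζ i l h
    · have := g.col_unique i k l hik (ξ i) (η l) (hξ i l) (by rw [h]; exact hζ k l) (hη i l)
        (hη k l)
      exact hξη i l this
  have D4 : ∀ j k l, η j ≠ ζ k l := by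
    intro j k l h
    by_cases hjl : j = l
    · subst hjl; exact hηζ k j h
    · have := g.row_unique k j l hjl (η j) (ξ k) (hη k j) (by rw [h]; exact hζ k l) (hξ k j)
        (hξ k l)
      exact hξη k j this.symm
  have D5 : ∀ i j k l, ζ i j = ζ k l → i = k ∧ j = l := by
    intro i j k l h
    by_cases hik : i = k
    · subst hik
      refine ⟨rfl, ?_⟩
      by_contra hjl
      have := g.row_unique i j l hjl (ζ i j) (ξ i) (hζ i j) (by rw [h]; exact hζ i l) (hξ i j)
        (hξ i l)
      exact hξζ i j this.symm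
    · exfalso
      by_cases hjl : j = l
      · subst hjl
        have := g.col_unique i k j hik (ζ i j) (η j) (hζ i j) (by rw [h]; exact hζ k j) (hη i j)
          (hη k j)
        exact hηζ i j this.symm
      · have h0 := g.ip_gen i k j l hik hjl
        have hsum : ∑ x, g.β i j x * g.β k l x
            = g.β i j (ξ i) * g.β k l (ξ i) + g.β i j (η j) * g.β k l (η j)
              + g.β i j (ζ i j) * g.β k l (ζ i j) := by
          apply sum_support3 (hξη i j) (hξζ i j) (hηζ i j)
          intro x hx
          apply hsupp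
          intro hx0
          apply hx
          rw [hx0, zero_mul]
        have z1 : g.β k l (ξ i) = 0 := by
          by_contra hne
          rcases hsupp k l _ hne with h1 | h1 | h1
          · exact hik (D1 i k h1)
          · exact hξη i l h1
          · exact D3 i k l h1
        have z2 : g.β k l (η j) = 0 := by
          by_contra hne
          rcases hsupp k l _ hne with h1 | h1 | h1
          · exact hξη k j h1.symm
          · exact hjl (D2 j l h1)
          · exact D4 j k l h1
        rw [hsum, z1, z2, mul_zero, mul_zero, zero_add, zero_add, h] at h0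
        rcases mul_eq_zero.mp h0 with h1 | h1
        · rw [← h] at h1; exact hζ i j h1
        · exact hζ k l h1
  -- the packaging
  let P : Option I → Option J → X := fun a b =>
    match a, b with
    | none, none => x₀
    | some i, none => ξ i
    | none, some j => η j
    | some i, some j => ζ i j
  let s : Option I → Option J → ℤ := fun a b =>
    match a, b with
    | none, none => 1
    | some i, none => -g.β i j₀ (ξ i)
    | none, some j => -g.β i₀ j (η j)
    | some i, some j => g.β i j (ζ i j)
  have hx₀ξ : ∀ i, x₀ ≠ ξ i := fun i h => hξ i j₀ (by rw [← h]; exact hx₀ i j₀)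
  have hx₀η : ∀ j, x₀ ≠ η j := fun j h => hη i₀ j (by rw [← h]; exact hx₀ i₀ j)
  have hx₀ζ : ∀ i j, x₀ ≠ ζ i j := fun i j h => hζ i j (by rw [← h]; exact hx₀ i j)
  refine ⟨P, s, ?_, rfl, rfl, ?_, ?_⟩
  · intro a b
    rcases a with _ | i <;> rcases b with _ | j
    · left; rfl
    · show -g.β i₀ j (η j) = 1 ∨ -g.β i₀ j (η j) = -1
      rcases val_of_sq3_ne (g.ip_self i₀ j) _ (hη i₀ j) with h | h <;> rw [h] <;> simp
    · show -g.β i j₀ (ξ i) = 1 ∨ -g.β i j₀ (ξ i) = -1
      rcases val_of_sq3_ne (g.ip_self i j₀) _ (hξ i j₀) with h | h <;> rw [h] <;> simp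
    · show g.β i j (ζ i j) = 1 ∨ g.β i j (ζ i j) = -1
      exact val_of_sq3_ne (g.ip_self i j) _ (hζ i j)
  · intro a b a' b' h
    rcases a with _ | i <;> rcases b with _ | j <;> rcases a' with _ | k <;> rcases b' with _ | l
    · exact ⟨rfl, rfl⟩
    · exact absurd h (hx₀η l)
    · exact absurd h (hx₀ξ k)
    · exact absurd h (hx₀ζ k l)
    · exact absurd h.symm (hx₀η j)
    · have : η j = η l := h
      rw [D2 j l this]; exact ⟨rfl, rfl⟩
    · exact absurd (show ξ k = η j from h.symm) (hξη k j)
    · exact absurd (show η j = ζ k l from h) (D4 j k l)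
    · exact absurd h.symm (hx₀ξ i)
    · exact absurd (show ξ i = η l from h) (hξη i l)
    · have : ξ i = ξ k := h
      rw [D1 i k this]; exact ⟨rfl, rfl⟩
    · exact absurd (show ξ i = ζ k l from h) (D3 i k l)
    · exact absurd h.symm (hx₀ζ i j)
    · exact absurd (show η l = ζ i j from h.symm) (D4 l i j)
    · exact absurd (show ξ k = ζ i j from h.symm) (D3 k i j)
    · obtain ⟨h1, h2⟩ := D5 i j k l h
      rw [h1, h2]; exact ⟨rfl, rfl⟩
  · intro i j x
    show g.β i j x = -(if x = ξ i then -g.β i j₀ (ξ i) else 0)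
        - (if x = η j then -g.β i₀ j (η j) else 0) + (if x = ζ i j then g.β i j (ζ i j) else 0)
    have e1 : g.β i j₀ (ξ i) = g.β i j (ξ i) := g.row_agree i j₀ j _ (hξ i j₀) (hξ i j)
    have e2 : g.β i₀ j (η j) = g.β i j (η j) := g.col_agree i₀ i j _ (hη i₀ j) (hη i j)
    rw [e1, e2]
    by_cases h1 : x = ξ i
    · subst h1
      rw [if_pos rfl, if_neg (hξη i j), if_neg (hξζ i j)]; ring
    by_cases h2 : x = η j
    · subst h2
      rw [if_neg h1, if_pos rfl, if_neg (hηζ i j)]; ring
    by_cases h3 : x = ζ i j
    · subst h3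
      rw [if_neg h1, if_neg h2, if_pos rfl]; ring
    · rw [if_neg h1, if_neg h2, if_neg h3]
      have : g.β i j x = 0 := by
        by_contra hne
        rcases hsupp i j x hne with h | h | h
        · exact h1 h
        · exact h2 h
        · exact h3 h
      rw [this]; ring

end Grid

end Cfsg.Agent.Lib.H1.CycTI
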