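import Mathlib
import Cfsg.Prelude
import Cfsg.Agent.Lib.H8.GaloisConj
import Cfsg.Agent.Lib.H8.GaloisClassFun
import Cfsg.Agent.Lib.H8.GenChar
import Cfsg.Agent.Lib.H24.CharBasic

set_option autoImplicit false

/-! # Involutive Galois exponents and multiplicity vectors (helper1) -/

namespace Cfsg.Agent.Lib.H1.CycTI

open Cfsg.Agent.Lib.H8 Cfsg.Agent.Lib.L0 Cfsg.Agent.Lib.H24

/-- Split `N` as a product of coprime `A`, `B` with `A` coprime to `b` and `B` built from the primes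
of `b`. -/
theorem exists_coprime_split (N b : ℕ) (hN : N ≠ 0) :
    ∃ A B : ℕ, A * B = N ∧ A.Coprime B ∧ A.Coprime b ∧ ∀ a : ℕ, a.Coprime b → a.Coprime B := by
  classical
  refine ⟨∏ p ∈ N.primeFactors.filter (fun p => ¬ p ∣ b), p ^ N.factorization p,
    ∏ p ∈ N.primeFactors.filter (fun p => p ∣ b), p ^ N.factorization p, ?_, ?_, ?_, ?_⟩
  · rw [mul_comm, Finset.prod_filter_mul_prod_filter_not]
    exact Nat.prod_factorization_pow_eq_self hN
  · apply Nat.Coprime.prod_left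
    intro p hp
    apply Nat.Coprime.prod_right
    intro q hq
    rw [Finset.mem_filter] at hp hq
    apply Nat.Coprime.pow
    rw [Nat.coprime_primes (Nat.prime_of_mem_primeFactors hp.1) (Nat.prime_of_mem_primeFactors hq.1)]
    rintro rfl
    exact hp.2 hq.2
  · apply Nat.Coprime.prod_left
    intro p hp
    rw [Finset.mem_filter] at hp
    apply Nat.Coprime.pow_left
    exact (Nat.Prime.coprime_iff_not_dvd (Nat.prime_of_mem_primeFactors hp.1)).mpr hp.2
  · intro a ha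
    apply Nat.Coprime.prod_right
    intro q hq
    rw [Finset.mem_filter] at hq
    apply Nat.Coprime.pow_right
    exact Nat.Coprime.coprime_dvd_right hq.2 ha

/-- An exponent `k` with `k² ≡ 1 (mod N)`, `k ≡ 1 (mod a)` and `k ≡ -1 (mod b)`. -/
theorem exists_involutive_exponent {N a b : ℕ} (hN : N ≠ 0) (hab : a.Coprime b) (ha : a ∣ N)
    (hb : b ∣ N) :
    ∃ k : ℕ, k.Coprime N ∧ k * k ≡ 1 [MOD N] ∧ k ≡ 1 [MOD a] ∧ k + 1 ≡ 0 [MOD b] := by
  obtain ⟨A, B, hAB, hcop, hAb, hB⟩ := exists_coprime_split N b hN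
  have haA : a ∣ A := by
    apply Nat.Coprime.dvd_of_dvd_mul_right (hB a hab)
    rw [hAB]; exact ha
  have hbB : b ∣ B := by
    apply Nat.Coprime.dvd_of_dvd_mul_left hAb.symm
    rw [hAB]; exact hb
  have hBpos : 0 < B := by
    rcases Nat.eq_zero_or_pos B with h | h
    · rw [h, mul_zero] at hAB; exact absurd hAB.symm hN
    · exact h
  obtain ⟨k, hk1, hk2⟩ := Nat.chineseRemainder hcop 1 (B - 1)
  have hk3 : k + 1 ≡ 0 [MOD B] := by
    have h1 : k + 1 ≡ (B - 1) + 1 [MOD B] := Nat.ModEq.add_right 1 hk2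
    rw [Nat.sub_add_cancel hBpos] at h1
    exact h1.trans (Nat.modEq_zero_iff_dvd.mpr dvd_rfl)
  have hk4 : k * k ≡ 1 [MOD B] := by
    rw [← ZMod.natCast_eq_natCast_iff] at hk3 ⊢
    push_cast at hk3 ⊢
    have h2 : (k : ZMod B) = -1 := by linear_combination hk3
    rw [h2]; ring
  have hk5 : k * k ≡ 1 [MOD A] := by
    have := Nat.ModEq.mul hk1 hk1
    simpa using this
  have hk6 : k * k ≡ 1 [MOD N] := by
    rw [← hAB]
    exact (Nat.modEq_and_modEq_iff_modEq_mul hcop).mp ⟨hk5, hk4⟩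
  exact ⟨k, Nat.coprime_of_mul_modEq_one k hk6, hk6, hk1.of_dvd haA, hk3.of_dvd hbB⟩

section Gal

variable {G : Type*} [Group G] [Finite G]

/-- The Galois action of an exponent `k` prime to `|G|` on irreducible characters. -/
noncomputable def galIrr (k : ℕ) (hk : k.Coprime (Nat.card G)) (χ : Cfsg.IrrCharacter G) :
    Cfsg.IrrCharacter G :=
  ⟨fun g => (χ : G → ℂ) (g ^ k), isIrrCharacter_galoisConj χ.2 k hk⟩

theorem galIrr_apply (k : ℕ) (hk : k.Coprime (Nat.card G)) (χ : Cfsg.IrrCharacter G) (g : G) :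
    (galIrr k hk χ : G → ℂ) g = (χ : G → ℂ) (g ^ k) := rfl

omit [Finite G] in
theorem pow_pow_self_of_sq {k : ℕ} (hk2 : k * k ≡ 1 [MOD Nat.card G]) (g : G) :
    (g ^ k) ^ k = g := by
  rw [← pow_mul]
  have h1 : k * k ≡ 1 [MOD orderOf g] := hk2.of_dvd (orderOf_dvd_natCard g)
  rw [pow_eq_pow_iff_modEq.mpr h1, pow_one]

theorem galIrr_galIrr {k : ℕ} (hk : k.Coprime (Nat.card G)) (hk2 : k * k ≡ 1 [MOD Nat.card G])
    (χ : Cfsg.IrrCharacter G) : galIrr k hk (galIrr k hk χ) = χ := by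
  apply Subtype.ext
  funext g
  rw [galIrr_apply, galIrr_apply, pow_pow_self_of_sq hk2]

theorem galIrr_comm {k l : ℕ} (hk : k.Coprime (Nat.card G)) (hl : l.Coprime (Nat.card G))
    (χ : Cfsg.IrrCharacter G) : galIrr k hk (galIrr l hl χ) = galIrr l hl (galIrr k hk χ) := by
  apply Subtype.ext
  funext g
  rw [galIrr_apply, galIrr_apply, galIrr_apply, galIrr_apply, ← pow_mul, ← pow_mul, mul_comm]

end Gal

section Mult

variable {G : Type*} [Group G] [Fintype G]

/-- The integer multiplicity of an irreducible character in a generalized character. -/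
noncomputable def mult {θ : G → ℂ} (hθ : Cfsg.IsGeneralizedCharacter G θ)
    (χ : Cfsg.IrrCharacter G) : ℤ :=
  Classical.choose (genChar_classInner_irr_int hθ χ.2)

theorem mult_spec {θ : G → ℂ} (hθ : Cfsg.IsGeneralizedCharacter G θ) (χ : Cfsg.IrrCharacter G) :
    Cfsg.classInner θ (χ : G → ℂ) = (mult hθ χ : ℂ) :=
  Classical.choose_spec (genChar_classInner_irr_int hθ χ.2)

theorem mult_expansion [Fintype (Cfsg.IrrCharacter G)] {θ : G → ℂ}
    (hθ : Cfsg.IsGeneralizedCharacter G θ) :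
    θ = ∑ χ : Cfsg.IrrCharacter G, (mult hθ χ : ℂ) • (χ : G → ℂ) :=
  genChar_expansion hθ (mult hθ) (mult_spec hθ)

theorem inner_eq_sum_mult [Fintype (Cfsg.IrrCharacter G)] {θ θ' : G → ℂ}
    (hθ : Cfsg.IsGeneralizedCharacter G θ) (hθ' : Cfsg.IsGeneralizedCharacter G θ') :
    Cfsg.classInner θ θ' = ((∑ χ : Cfsg.IrrCharacter G, mult hθ χ * mult hθ' χ : ℤ) : ℂ) := by
  conv_lhs => rw [mult_expansion hθ]
  rw [classInner_sum_left]
  push_cast
  apply Finset.sum_congr rfl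
  intro χ _
  rw [classInner_smul_left, ← classInner_conj_symm, mult_spec hθ', map_intCast]

theorem apply_one_eq_sum_mult [Fintype (Cfsg.IrrCharacter G)] {θ : G → ℂ}
    (hθ : Cfsg.IsGeneralizedCharacter G θ) :
    θ 1 = ((∑ χ : Cfsg.IrrCharacter G,
      mult hθ χ * (Cfsg.charDegree (χ : G → ℂ) : ℤ) : ℤ) : ℂ) := by
  conv_lhs => rw [mult_expansion hθ]
  rw [Finset.sum_apply]
  push_cast
  apply Finset.sum_congr rfl
  intro χ _
  rw [Pi.smul_apply, smul_eq_mul, charDegree_irr]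

theorem mult_gal {k : ℕ} (hk : k.Coprime (Nat.card G)) (hk2 : k * k ≡ 1 [MOD Nat.card G])
    {θ θ' : G → ℂ} (hθ : Cfsg.IsGeneralizedCharacter G θ) (hθ' : Cfsg.IsGeneralizedCharacter G θ')
    (h : ∀ g, θ' g = θ (g ^ k)) (χ : Cfsg.IrrCharacter G) :
    mult hθ (galIrr k hk χ) = mult hθ' χ := by
  have h1 : ((mult hθ (galIrr k hk χ) : ℤ) : ℂ) = ((mult hθ' χ : ℤ) : ℂ) := by
    rw [← mult_spec, ← mult_spec]
    have e1 : θ' = fun g => θ (g ^ k) := funext h
    have e2 : (χ : G → ℂ) = fun g => (galIrr k hk χ : G → ℂ) (g ^ k) := by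
      funext g
      rw [galIrr_apply, pow_pow_self_of_sq hk2]
    rw [e1, e2]
    exact (classInner_comp_pow θ (galIrr k hk χ : G → ℂ) k hk).symm
  exact_mod_cast h1

end Mult

end Cfsg.Agent.Lib.H1.CycTI
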