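import Mathlib
import Cfsg.Prelude
import Cfsg.Agent.Lib.H1.CycTIE
import Cfsg.Agent.Lib.H1.CycTIF
import Cfsg.Agent.S1505
import Cfsg.Agent.Lib.H8.CyclicTIChars
import Cfsg.Agent.Lib.L0.CharIndChar
import Cfsg.Agent.Lib.L0.CharDegree
import Cfsg.Agent.Lib.H24.CharOrth

set_option autoImplicit false

/-! # The vectors `Ind ((1 - φ)(1 - ψ)) - 1` of Peterfalvi (3.2) (helper1) -/

namespace Cfsg.Agent.Lib.H1.CycTI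

open scoped ComplexConjugate
open Cfsg.Agent.Lib.H8 Cfsg.Agent.Lib.L0

section Units

theorem pow_eq_self_of_modEq_one {M : Type*} [Group M] {u : M} {n k : ℕ} (hu : u ^ n = 1)
    (hk : k ≡ 1 [MOD n]) : u ^ k = u := by
  have h1 : k ≡ 1 [MOD orderOf u] := hk.of_dvd (orderOf_dvd_of_pow_eq_one hu)
  rw [pow_eq_pow_iff_modEq.mpr h1, pow_one]

theorem pow_eq_inv_of_modEq_neg_one {M : Type*} [Group M] {u : M} {n k : ℕ} (hu : u ^ n = 1)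
    (hk : k + 1 ≡ 0 [MOD n]) : u ^ k = u⁻¹ := by
  have h1 : n ∣ k + 1 := Nat.modEq_zero_iff_dvd.mp hk
  have h2 : u ^ (k + 1) = 1 := by
    obtain ⟨t, ht⟩ := h1
    rw [ht, pow_mul, hu, one_pow]
  rw [pow_succ] at h2
  exact eq_inv_of_mul_eq_one_left h2

end Units

variable {G : Type*} [Group G] [Fintype G] (W₁ W₂ : Subgroup G)

/-- The function `(1 - φ)(1 - ψ)` on `W`. -/
def alpha (φ ψ : ↥(W₁ ⊔ W₂) →* ℂˣ) : ↥(W₁ ⊔ W₂) → ℂ :=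
  fun w => 1 - (φ w : ℂ) - (ψ w : ℂ) + (φ w : ℂ) * (ψ w : ℂ)

/-- The generalized character `Ind ((1 - φ)(1 - ψ)) - 1`. -/
noncomputable def bvec (φ ψ : ↥(W₁ ⊔ W₂) →* ℂˣ) : G → ℂ :=
  Cfsg.indFun (W₁ ⊔ W₂) (alpha W₁ W₂ φ ψ) - 1

theorem indFun_sub' (H : Subgroup G) (θ₁ θ₂ : H → ℂ) :
    Cfsg.indFun H (θ₁ - θ₂) = Cfsg.indFun H θ₁ - Cfsg.indFun H θ₂ := by
  have h1 : θ₁ - θ₂ = θ₁ + (-1 : ℂ) • θ₂ := by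
    funext x; simp [sub_eq_add_neg]
  rw [h1, indFun_add, indFun_smul]
  funext x; simp [sub_eq_add_neg]

theorem isGeneralizedCharacter_bvec (φ ψ : ↥(W₁ ⊔ W₂) →* ℂˣ) :
    Cfsg.IsGeneralizedCharacter G (bvec W₁ W₂ φ ψ) := by
  have hlin : ∀ ω : ↥(W₁ ⊔ W₂) →* ℂˣ, Cfsg.IsGeneralizedCharacter G
      (Cfsg.indFun (W₁ ⊔ W₂) (Cfsg.Agent.S1505.lin ω)) := fun ω =>
    isGeneralizedCharacter_of_isCharacter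
      (isCharacter_indFun _ (isCharacter_of_irr (isIrrCharacter_of_hom ω)))
  have hα : alpha W₁ W₂ φ ψ = Cfsg.Agent.S1505.lin 1 - Cfsg.Agent.S1505.lin φ
      - Cfsg.Agent.S1505.lin ψ + Cfsg.Agent.S1505.lin (φ * ψ) := by
    funext w; simp [alpha, Cfsg.Agent.S1505.lin]
  unfold bvec
  rw [hα, indFun_add, indFun_sub', indFun_sub']
  exact isGeneralizedCharacter_sub (isGeneralizedCharacter_add (isGeneralizedCharacter_sub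
    (isGeneralizedCharacter_sub (hlin 1) (hlin φ)) (hlin ψ)) (hlin (φ * ψ)))
    (isGeneralizedCharacter_of_isCharacter (isCharacter_of_irr isIrrCharacter_one))

theorem bvec_apply_one (φ ψ : ↥(W₁ ⊔ W₂) →* ℂˣ) : bvec W₁ W₂ φ ψ 1 = -1 := by
  unfold bvec
  rw [Pi.sub_apply, indFun_apply_one]
  simp [alpha]

theorem classInner_one_one : Cfsg.classInner (fun _ : G => (1 : ℂ)) (fun _ : G => (1 : ℂ)) = 1 := by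
  have := irr_classInner_self (isIrrCharacter_one (G := G))
  simpa [Pi.one_def] using this

variable {W₁ W₂}

theorem bvec_inner_one (hW : Cfsg.IsSelfNormalizingCyclic W₁ W₂) {φ ψ : ↥(W₁ ⊔ W₂) →* ℂˣ}
    (hφ : φ ≠ 1) (hψ : ψ ≠ 1) (hφ₂ : ∀ w : ↥(W₁ ⊔ W₂), (w : G) ∈ W₂ → φ w = 1)
    (hψ₁ : ∀ w : ↥(W₁ ⊔ W₂), (w : G) ∈ W₁ → ψ w = 1) :
    Cfsg.classInner (bvec W₁ W₂ φ ψ) (fun _ => 1) = 0 := by
  have h := (Cfsg.Agent.S1505.result W₁ W₂ hW φ φ ψ ψ hφ hφ hψ hψ (fun w hw => ⟨hφ₂ w hw, hφ₂ w hw⟩)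
    (fun w hw => ⟨hψ₁ w hw, hψ₁ w hw⟩)).1
  unfold bvec
  rw [classInner_sub_left]
  have h1 : Cfsg.classInner (Cfsg.indFun (W₁ ⊔ W₂) (alpha W₁ W₂ φ ψ)) (fun _ => 1) = 1 := h
  rw [h1]
  have h2 : Cfsg.classInner (1 : G → ℂ) (fun _ => 1) = 1 := classInner_one_one
  rw [h2]; ring

open Classical in
theorem bvec_inner (hW : Cfsg.IsSelfNormalizingCyclic W₁ W₂) {φ φ' ψ ψ' : ↥(W₁ ⊔ W₂) →* ℂˣ}
    (hφ : φ ≠ 1) (hφ' : φ' ≠ 1) (hψ : ψ ≠ 1) (hψ' : ψ' ≠ 1)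
    (hφ₂ : ∀ w : ↥(W₁ ⊔ W₂), (w : G) ∈ W₂ → φ w = 1)
    (hφ₂' : ∀ w : ↥(W₁ ⊔ W₂), (w : G) ∈ W₂ → φ' w = 1)
    (hψ₁ : ∀ w : ↥(W₁ ⊔ W₂), (w : G) ∈ W₁ → ψ w = 1)
    (hψ₁' : ∀ w : ↥(W₁ ⊔ W₂), (w : G) ∈ W₁ → ψ' w = 1) :
    Cfsg.classInner (bvec W₁ W₂ φ ψ) (bvec W₁ W₂ φ' ψ') =
      (if φ = φ' then 1 else 0) + (if ψ = ψ' then 1 else 0)
        + (if φ = φ' then 1 else 0) * (if ψ = ψ' then 1 else 0) := by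
  have h := (Cfsg.Agent.S1505.result W₁ W₂ hW φ φ' ψ ψ' hφ hφ' hψ hψ'
    (fun w hw => ⟨hφ₂ w hw, hφ₂' w hw⟩) (fun w hw => ⟨hψ₁ w hw, hψ₁' w hw⟩)).2
  have h2 := bvec_inner_one hW hφ' hψ' hφ₂' hψ₁'
  have h3 : Cfsg.classInner (fun _ : G => (1 : ℂ)) (bvec W₁ W₂ φ' ψ') = 0 := by
    rw [← classInner_conj_symm, h2, map_zero]
  have e : bvec W₁ W₂ φ ψ = Cfsg.indFun (W₁ ⊔ W₂) (alpha W₁ W₂ φ ψ) - fun _ => 1 := rfl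
  have e' : Cfsg.indFun (W₁ ⊔ W₂) (alpha W₁ W₂ φ' ψ') = bvec W₁ W₂ φ' ψ' + fun _ => 1 := by
    unfold bvec; funext g; simp
  have h4 : Cfsg.classInner (Cfsg.indFun (W₁ ⊔ W₂) (alpha W₁ W₂ φ ψ))
      (Cfsg.indFun (W₁ ⊔ W₂) (alpha W₁ W₂ φ' ψ')) = 1 + (if φ = φ' then 1 else 0)
        + (if ψ = ψ' then 1 else 0) + (if φ = φ' then 1 else 0) * (if ψ = ψ' then 1 else 0) := h
  rw [e, classInner_sub_left, h3, sub_zero]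
  have h5 : Cfsg.classInner (Cfsg.indFun (W₁ ⊔ W₂) (alpha W₁ W₂ φ ψ)) (bvec W₁ W₂ φ' ψ')
      = Cfsg.classInner (Cfsg.indFun (W₁ ⊔ W₂) (alpha W₁ W₂ φ ψ))
          (Cfsg.indFun (W₁ ⊔ W₂) (alpha W₁ W₂ φ' ψ')) - 1 := by
    rw [e', classInner_add_right]
    have : Cfsg.classInner (Cfsg.indFun (W₁ ⊔ W₂) (alpha W₁ W₂ φ ψ)) (fun _ => 1) = 1 :=
      (Cfsg.Agent.S1505.result W₁ W₂ hW φ φ ψ ψ hφ hφ hψ hψ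
        (fun w hw => ⟨hφ₂ w hw, hφ₂ w hw⟩) (fun w hw => ⟨hψ₁ w hw, hψ₁ w hw⟩)).1
    rw [this]; ring
  rw [h5, h4]; ring

theorem bvec_pow {φ φ' ψ ψ' : ↥(W₁ ⊔ W₂) →* ℂˣ} {k : ℕ} (hk : k.Coprime (Nat.card G))
    (hφ : ∀ w, φ (w ^ k) = φ' w) (hψ : ∀ w, ψ (w ^ k) = ψ' w) (g : G) :
    bvec W₁ W₂ φ' ψ' g = bvec W₁ W₂ φ ψ (g ^ k) := by
  unfold bvec
  rw [Pi.sub_apply, Pi.sub_apply, indFun_comp_pow _ _ hk]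
  congr 2
  funext w
  simp only [alpha, hφ, hψ]

end Cfsg.Agent.Lib.H1.CycTI
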