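import Mathlib
import Cfsg.Prelude
import Cfsg.Agent.Lib.H1.CycTIG

set_option autoImplicit false

/-! # Peterfalvi (3.2): the signed irreducible constituents (helper1) -/

namespace Cfsg.Agent.Lib.H1.CycTI

open scoped ComplexConjugate
open Cfsg.Agent.Lib.H8 Cfsg.Agent.Lib.L0

variable {G : Type*} [Group G] [Fintype G] {W₁ W₂ : Subgroup G}

/-- Nontrivial linear characters of `W` trivial on `V`. -/
abbrev Idx (W₁ W₂ V : Subgroup G) : Type _ :=
  {φ : ↥(W₁ ⊔ W₂) →* ℂˣ // φ ≠ 1 ∧ ∀ w : ↥(W₁ ⊔ W₂), (w : G) ∈ V → φ w = 1}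

omit [Fintype G] in
theorem coe_pow_card_eq_one (V : Subgroup G) [Finite V] (w : ↥(W₁ ⊔ W₂)) (hw : (w : G) ∈ V) :
    w ^ Nat.card V = 1 := by
  apply Subtype.ext
  rw [Subgroup.coe_pow, Subgroup.coe_one]
  have := pow_card_eq_one' (G := V) (x := ⟨w, hw⟩)
  have h2 := congrArg Subtype.val this
  rwa [Subgroup.coe_pow, Subgroup.coe_one] at h2

theorem hom_pow_card_left {φ : ↥(W₁ ⊔ W₂) →* ℂˣ}
    (hφ : ∀ w : ↥(W₁ ⊔ W₂), (w : G) ∈ W₂ → φ w = 1) (w : ↥(W₁ ⊔ W₂)) :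
    φ w ^ Nat.card W₁ = 1 := by
  have h : φ ^ Nat.card W₁ = 1 := by
    apply monoidHom_ext_sup W₁ W₂
    · intro w hw
      rw [MonoidHom.pow_apply, ← map_pow, coe_pow_card_eq_one W₁ w hw, map_one]; rfl
    · intro w hw
      rw [MonoidHom.pow_apply, hφ w hw, one_pow]; rfl
  have := DFunLike.congr_fun h w
  rwa [MonoidHom.pow_apply] at this

theorem hom_pow_card_right {ψ : ↥(W₁ ⊔ W₂) →* ℂˣ}
    (hψ : ∀ w : ↥(W₁ ⊔ W₂), (w : G) ∈ W₁ → ψ w = 1) (w : ↥(W₁ ⊔ W₂)) :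
    ψ w ^ Nat.card W₂ = 1 := by
  have h : ψ ^ Nat.card W₂ = 1 := by
    apply monoidHom_ext_sup W₁ W₂
    · intro w hw
      rw [MonoidHom.pow_apply, hψ w hw, one_pow]; rfl
    · intro w hw
      rw [MonoidHom.pow_apply, ← map_pow, coe_pow_card_eq_one W₂ w hw, map_one]; rfl
  have := DFunLike.congr_fun h w
  rwa [MonoidHom.pow_apply] at this

omit [Fintype G] in
theorem hom_inv_ne_self (hodd : Odd (Nat.card ↥(W₁ ⊔ W₂))) {φ : ↥(W₁ ⊔ W₂) →* ℂˣ} (hφ : φ ≠ 1) :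
    φ⁻¹ ≠ φ := by
  intro h
  apply hφ
  ext w
  have h1 : φ w * φ w = 1 := by
    have := DFunLike.congr_fun h w
    rw [MonoidHom.inv_apply] at this
    calc φ w * φ w = (φ w)⁻¹ * φ w := by rw [this]
      _ = 1 := inv_mul_cancel _
  have h2 : φ w ^ Nat.card ↥(W₁ ⊔ W₂) = 1 := by
    rw [← map_pow, pow_card_eq_one', map_one]
  obtain ⟨m, hm⟩ := hodd
  rw [hm, pow_succ, pow_mul, pow_two, h1, one_pow, one_mul] at h2
  rw [h2]; rfl

/-- The inverse of an index. -/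
def Idx.inv {V : Subgroup G} (i : Idx W₁ W₂ V) : Idx W₁ W₂ V :=
  ⟨i.1⁻¹, by
    intro h
    apply i.2.1
    ext w
    have := DFunLike.congr_fun h w
    rw [MonoidHom.inv_apply, MonoidHom.one_apply, inv_eq_one] at this
    rw [this]; rfl, fun w hw => by
    rw [MonoidHom.inv_apply, i.2.2 w hw, inv_one]⟩

omit [Fintype G] in
theorem Idx.inv_val {V : Subgroup G} (i : Idx W₁ W₂ V) : (i.inv).1 = i.1⁻¹ := rfl

omit [Fintype G] in
theorem Idx.inv_inv {V : Subgroup G} (i : Idx W₁ W₂ V) : i.inv.inv = i := by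
  apply Subtype.ext
  rw [Idx.inv_val, Idx.inv_val]
  ext w
  rw [MonoidHom.inv_apply, MonoidHom.inv_apply, _root_.inv_inv]

omit [Fintype G] in
theorem Idx.inv_ne (hodd : Odd (Nat.card ↥(W₁ ⊔ W₂))) {V : Subgroup G} (i : Idx W₁ W₂ V) :
    i.inv ≠ i := fun h => hom_inv_ne_self hodd i.2.1 (by rw [← Idx.inv_val, h])

theorem sum_mult_eq [Fintype (Cfsg.IrrCharacter G)] {θ θ' : G → ℂ}
    (hθ : Cfsg.IsGeneralizedCharacter G θ) (hθ' : Cfsg.IsGeneralizedCharacter G θ') (n : ℤ)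
    (h : Cfsg.classInner θ θ' = (n : ℂ)) :
    ∑ χ : Cfsg.IrrCharacter G, mult hθ χ * mult hθ' χ = n := by
  rw [inner_eq_sum_mult hθ hθ'] at h
  exact_mod_cast h

theorem exists_signed_points (hW : Cfsg.IsSelfNormalizingCyclic W₁ W₂)
    (hodd : Odd (Nat.card ↥(W₁ ⊔ W₂))) :
    ∃ (P : Option (Idx W₁ W₂ W₂) → Option (Idx W₁ W₂ W₁) → Cfsg.IrrCharacter G)
      (s : Option (Idx W₁ W₂ W₂) → Option (Idx W₁ W₂ W₁) → ℤ),
      (∀ a b, s a b = 1 ∨ s a b = -1) ∧ P none none = Cfsg.Agent.Lib.H24.trivialIrr G ∧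
      s none none = 1 ∧ (∀ a b a' b', P a b = P a' b' → a = a' ∧ b = b') ∧
      ∀ (i : Idx W₁ W₂ W₂) (j : Idx W₁ W₂ W₁), bvec W₁ W₂ i.1 j.1 =
        -((s (some i) none : ℂ) • (P (some i) none : G → ℂ))
          - (s none (some j) : ℂ) • (P none (some j) : G → ℂ)
          + (s (some i) (some j) : ℂ) • (P (some i) (some j) : G → ℂ) := by
  classical
  let _ : Fintype (Cfsg.IrrCharacter G) := Fintype.ofFinite _
  have hN : Nat.card G ≠ 0 := Nat.card_pos.ne'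
  have hcop := coprime_card_of_selfNormalizingCyclic hW
  have hd1 : Nat.card W₁ ∣ Nat.card G := Subgroup.card_subgroup_dvd_card W₁
  have hd2 : Nat.card W₂ ∣ Nat.card G := Subgroup.card_subgroup_dvd_card W₂
  obtain ⟨k₂, hk₂, hk₂sq, hk₂a, hk₂b⟩ := exists_involutive_exponent hN hcop hd1 hd2
  obtain ⟨k₁, hk₁, hk₁sq, hk₁a, hk₁b⟩ := exists_involutive_exponent hN hcop.symm hd2 hd1
  have hB := fun (i : Idx W₁ W₂ W₂) (j : Idx W₁ W₂ W₁) => isGeneralizedCharacter_bvec W₁ W₂ i.1 j.1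
  have hne : ∀ {V : Subgroup G} (i k : Idx W₁ W₂ V), i ≠ k → i.1 ≠ k.1 :=
    fun i k h h' => h (Subtype.ext h')
  have hinner : ∀ (i k : Idx W₁ W₂ W₂) (j l : Idx W₁ W₂ W₁),
      Cfsg.classInner (bvec W₁ W₂ i.1 j.1) (bvec W₁ W₂ k.1 l.1) =
      (if i.1 = k.1 then 1 else 0) + (if j.1 = l.1 then 1 else 0)
        + (if i.1 = k.1 then 1 else 0) * (if j.1 = l.1 then 1 else 0) := fun i k j l =>
    bvec_inner hW i.2.1 k.2.1 j.2.1 l.2.1 i.2.2 k.2.2 j.2.2 l.2.2
  let g : Grid (Cfsg.IrrCharacter G) (Idx W₁ W₂ W₂) (Idx W₁ W₂ W₁) :=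
    { β := fun i j χ => mult (hB i j) χ
      dg := fun χ => (Cfsg.charDegree (χ : G → ℂ) : ℤ)
      dg_pos := fun χ => by exact_mod_cast Cfsg.Agent.Lib.H24.charDegree_pos χ
      σ := galIrr k₂ hk₂
      τ := galIrr k₁ hk₁
      σσ := galIrr_galIrr hk₂ hk₂sq
      ττ := galIrr_galIrr hk₁ hk₁sq
      στ := fun χ => galIrr_comm hk₂ hk₁ χ
      nI := Idx.inv
      nJ := Idx.inv
      nI_ne := Idx.inv_ne hodd
      nJ_ne := Idx.inv_ne hodd
      nI_nI := Idx.inv_inv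
      nJ_nJ := Idx.inv_inv
      β_σ := fun i j χ => by
        apply mult_gal hk₂ hk₂sq (hB i j) (hB i j.inv)
        intro x
        apply bvec_pow hk₂
        · intro w
          rw [map_pow]
          exact pow_eq_self_of_modEq_one (hom_pow_card_left i.2.2 w) hk₂a
        · intro w
          rw [map_pow, Idx.inv_val, MonoidHom.inv_apply]
          exact pow_eq_inv_of_modEq_neg_one (hom_pow_card_right j.2.2 w) hk₂b
      β_τ := fun i j χ => by
        apply mult_gal hk₁ hk₁sq (hB i j) (hB i.inv j)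
        intro x
        apply bvec_pow hk₁
        · intro w
          rw [map_pow, Idx.inv_val, MonoidHom.inv_apply]
          exact pow_eq_inv_of_modEq_neg_one (hom_pow_card_left i.2.2 w) hk₁b
        · intro w
          rw [map_pow]
          exact pow_eq_self_of_modEq_one (hom_pow_card_right j.2.2 w) hk₁a
      ip_self := fun i j => by
        apply sum_mult_eq
        rw [hinner, if_pos rfl, if_pos rfl]; norm_num
      ip_row := fun i j l h => by
        apply sum_mult_eq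
        rw [hinner, if_pos rfl, if_neg (hne j l h)]; norm_num
      ip_col := fun i k j h => by
        apply sum_mult_eq
        rw [hinner, if_neg (hne i k h), if_pos rfl]; norm_num
      ip_gen := fun i k j l h h' => by
        apply sum_mult_eq
        rw [hinner, if_neg (hne i k h), if_neg (hne j l h')]; norm_num
      deg := fun i j => by
        have h1 := apply_one_eq_sum_mult (hB i j)
        rw [bvec_apply_one] at h1
        exact_mod_cast h1.symm }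
  have hx₀ : ∀ i j, g.β i j (Cfsg.Agent.Lib.H24.trivialIrr G) = 0 := by
    intro i j
    have h1 : ((mult (hB i j) (Cfsg.Agent.Lib.H24.trivialIrr G) : ℤ) : ℂ) = 0 := by
      rw [← mult_spec]
      exact bvec_inner_one hW i.2.1 j.2.1 i.2.2 j.2.2
    exact_mod_cast h1
  have : Nonempty (Idx W₁ W₂ W₂) := by
    obtain ⟨φ, h1, h2⟩ := exists_ne_one_trivial_right hW
    exact ⟨⟨φ, h1, h2⟩⟩
  have : Nonempty (Idx W₁ W₂ W₁) := by
    obtain ⟨ψ, h1, h2⟩ := exists_ne_one_trivial_left hW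
    exact ⟨⟨ψ, h1, h2⟩⟩
  obtain ⟨P, s, hs, hP0, hs0, hinj, hβ⟩ := g.main _ hx₀
  refine ⟨P, s, hs, hP0, hs0, hinj, ?_⟩
  intro i j
  have hexp := mult_expansion (hB i j)
  have hsingle : ∀ (Q : Cfsg.IrrCharacter G) (c : ℤ),
      ∑ χ : Cfsg.IrrCharacter G, (((if χ = Q then c else 0 : ℤ)) : ℂ) • (χ : G → ℂ)
        = (c : ℂ) • (Q : G → ℂ) := by
    intro Q c
    rw [Finset.sum_eq_single_of_mem Q (Finset.mem_univ Q)]
    · rw [if_pos rfl]
    · intro χ _ hχ
      rw [if_neg hχ]; simp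
  have hterm : ∀ χ : Cfsg.IrrCharacter G, ((mult (hB i j) χ : ℤ) : ℂ) • (χ : G → ℂ)
      = -((((if χ = P (some i) none then s (some i) none else 0 : ℤ)) : ℂ) • (χ : G → ℂ))
        - (((if χ = P none (some j) then s none (some j) else 0 : ℤ)) : ℂ) • (χ : G → ℂ)
        + (((if χ = P (some i) (some j) then s (some i) (some j) else 0 : ℤ)) : ℂ) • (χ : G → ℂ) := by
    intro χ
    have := hβ i j χ
    have h2 : mult (hB i j) χ = g.β i j χ := rfl
    rw [h2, this]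
    push_cast
    rw [add_smul, sub_smul, neg_smul]
  rw [hexp]
  simp only [hterm, Finset.sum_add_distrib, Finset.sum_sub_distrib, Finset.sum_neg_distrib, hsingle]

end Cfsg.Agent.Lib.H1.CycTI
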