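import Mathlib
import Cfsg.Prelude
import Cfsg.Agent.Lib.H1.CycTIH

set_option autoImplicit false

/-! # Peterfalvi (3.2): the family `χ` (helper1) -/

namespace Cfsg.Agent.Lib.H1.CycTI

open scoped ComplexConjugate
open Cfsg.Agent.Lib.H8 Cfsg.Agent.Lib.L0

variable {G : Type*} [Group G] [Fintype G] {W₁ W₂ : Subgroup G}

open Classical in
/-- The index of a linear character trivial on `V`: `none` for the trivial one. -/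
noncomputable def mkIdx (V : Subgroup G) (φ : ↥(W₁ ⊔ W₂) →* ℂˣ)
    (h : ∀ w : ↥(W₁ ⊔ W₂), (w : G) ∈ V → φ w = 1) : Option (Idx W₁ W₂ V) :=
  if h1 : φ = 1 then none else some ⟨φ, h1, h⟩

theorem mkIdx_congr (V : Subgroup G) {φ φ' : ↥(W₁ ⊔ W₂) →* ℂˣ} (e : φ = φ')
    (h : ∀ w : ↥(W₁ ⊔ W₂), (w : G) ∈ V → φ w = 1) (h' : ∀ w : ↥(W₁ ⊔ W₂), (w : G) ∈ V → φ' w = 1) :
    mkIdx V φ h = mkIdx V φ' h' := by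
  subst e; rfl

theorem mkIdx_one (V : Subgroup G)
    (h : ∀ w : ↥(W₁ ⊔ W₂), (w : G) ∈ V → (1 : ↥(W₁ ⊔ W₂) →* ℂˣ) w = 1) :
    mkIdx V (1 : ↥(W₁ ⊔ W₂) →* ℂˣ) h = none := by
  unfold mkIdx
  rw [dif_pos rfl]

theorem mkIdx_of_ne (V : Subgroup G) {φ : ↥(W₁ ⊔ W₂) →* ℂˣ} (hne : φ ≠ 1)
    (h : ∀ w : ↥(W₁ ⊔ W₂), (w : G) ∈ V → φ w = 1) :
    mkIdx V φ h = some ⟨φ, hne, h⟩ := by
  unfold mkIdx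
  rw [dif_neg hne]

theorem mkIdx_inj (V : Subgroup G) {φ φ' : ↥(W₁ ⊔ W₂) →* ℂˣ}
    (h : ∀ w : ↥(W₁ ⊔ W₂), (w : G) ∈ V → φ w = 1) (h' : ∀ w : ↥(W₁ ⊔ W₂), (w : G) ∈ V → φ' w = 1)
    (e : mkIdx V φ h = mkIdx V φ' h') : φ = φ' := by
  by_cases h1 : φ = 1 <;> by_cases h2 : φ' = 1
  · rw [h1, h2]
  · subst h1
    rw [mkIdx_one, mkIdx_of_ne V h2] at e
    exact absurd e (by simp)
  · subst h2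
    rw [mkIdx_one, mkIdx_of_ne V h1] at e
    exact absurd e (by simp)
  · rw [mkIdx_of_ne V h1, mkIdx_of_ne V h2] at e
    have := Option.some.inj e
    exact congrArg Subtype.val this

theorem exists_family_core (hW : Cfsg.IsSelfNormalizingCyclic W₁ W₂)
    (hodd : Odd (Nat.card ↥(W₁ ⊔ W₂))) :
    ∃ χ : (↥(W₁ ⊔ W₂) →* ℂˣ) → (G → ℂ),
      (∀ ω, Cfsg.IsIrrCharacter G (χ ω) ∨ Cfsg.IsIrrCharacter G (-χ ω)) ∧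
      (∀ ω, Cfsg.classInner (χ ω) (χ ω) = 1) ∧
      (∀ ω ω', ω ≠ ω' → Cfsg.classInner (χ ω) (χ ω') = 0) ∧
      (χ 1 = fun _ => 1) ∧
      (∀ φ ψ : ↥(W₁ ⊔ W₂) →* ℂˣ, φ ≠ 1 → ψ ≠ 1 →
        (∀ w : ↥(W₁ ⊔ W₂), (w : G) ∈ W₂ → φ w = 1) →
        (∀ w : ↥(W₁ ⊔ W₂), (w : G) ∈ W₁ → ψ w = 1) →
        Cfsg.indFun (W₁ ⊔ W₂) (fun w => 1 - (φ w : ℂ) - (ψ w : ℂ) + (φ w : ℂ) * (ψ w : ℂ)) =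
          fun g => 1 - χ φ g - χ ψ g + χ (φ * ψ) g) := by
  classical
  obtain ⟨P, s, hs, hP0, hs0, hinj, hB⟩ := exists_signed_points (G := G) hW hodd
  have hdec := fun ω : ↥(W₁ ⊔ W₂) →* ℂˣ => exists_decomp_hom hW ω
  choose pφ pψ h1 h2 h3 using hdec
  have huniq : ∀ (ω φ ψ : ↥(W₁ ⊔ W₂) →* ℂˣ), (∀ w : ↥(W₁ ⊔ W₂), (w : G) ∈ W₂ → φ w = 1) →
      (∀ w : ↥(W₁ ⊔ W₂), (w : G) ∈ W₁ → ψ w = 1) → ω = φ * ψ → pφ ω = φ ∧ pψ ω = ψ := by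
    intro ω φ ψ hφ hψ hω
    apply (Cfsg.Agent.S1505.mul_eq_mul_iff W₁ W₂ (pφ ω) φ (pψ ω) ψ (h1 ω) hφ (h2 ω) hψ).mp
    rw [← h3 ω, hω]
  have hone1 : ∀ w : ↥(W₁ ⊔ W₂), (w : G) ∈ W₂ → (1 : ↥(W₁ ⊔ W₂) →* ℂˣ) w = 1 := fun _ _ => rfl
  have hone2 : ∀ w : ↥(W₁ ⊔ W₂), (w : G) ∈ W₁ → (1 : ↥(W₁ ⊔ W₂) →* ℂˣ) w = 1 := fun _ _ => rfl
  let i₁ : (↥(W₁ ⊔ W₂) →* ℂˣ) → Option (Idx W₁ W₂ W₂) := fun ω => mkIdx W₂ (pφ ω) (h1 ω)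
  let i₂ : (↥(W₁ ⊔ W₂) →* ℂˣ) → Option (Idx W₁ W₂ W₁) := fun ω => mkIdx W₁ (pψ ω) (h2 ω)
  have hi₁ : ∀ (ω φ ψ : ↥(W₁ ⊔ W₂) →* ℂˣ) (hφ : ∀ w : ↥(W₁ ⊔ W₂), (w : G) ∈ W₂ → φ w = 1)
      (hψ : ∀ w : ↥(W₁ ⊔ W₂), (w : G) ∈ W₁ → ψ w = 1), ω = φ * ψ →
      i₁ ω = mkIdx W₂ φ hφ ∧ i₂ ω = mkIdx W₁ ψ hψ := by
    intro ω φ ψ hφ hψ hω
    obtain ⟨e1, e2⟩ := huniq ω φ ψ hφ hψ hω
    exact ⟨mkIdx_congr W₂ e1 _ _, mkIdx_congr W₁ e2 _ _⟩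
  have hsq : ∀ a b, ((s a b : ℤ) : ℂ) * ((s a b : ℤ) : ℂ) = 1 := by
    intro a b
    rcases hs a b with h | h <;> rw [h] <;> norm_num
  refine ⟨fun ω => (s (i₁ ω) (i₂ ω) : ℂ) • (P (i₁ ω) (i₂ ω) : G → ℂ), ?_, ?_, ?_, ?_, ?_⟩
  · intro ω
    rcases hs (i₁ ω) (i₂ ω) with h | h
    · left
      show Cfsg.IsIrrCharacter G ((s (i₁ ω) (i₂ ω) : ℂ) • (P (i₁ ω) (i₂ ω) : G → ℂ))
      rw [h]; simpa using (P (i₁ ω) (i₂ ω)).2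
    · right
      show Cfsg.IsIrrCharacter G (-((s (i₁ ω) (i₂ ω) : ℂ) • (P (i₁ ω) (i₂ ω) : G → ℂ)))
      rw [h]; simpa using (P (i₁ ω) (i₂ ω)).2
  · intro ω
    show Cfsg.classInner ((s (i₁ ω) (i₂ ω) : ℂ) • (P (i₁ ω) (i₂ ω) : G → ℂ))
      ((s (i₁ ω) (i₂ ω) : ℂ) • (P (i₁ ω) (i₂ ω) : G → ℂ)) = 1
    rw [classInner_smul_left, classInner_smul_right, irr_classInner_self (P (i₁ ω) (i₂ ω)).2,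
      map_intCast, mul_one, hsq]
  · intro ω ω' hne
    show Cfsg.classInner ((s (i₁ ω) (i₂ ω) : ℂ) • (P (i₁ ω) (i₂ ω) : G → ℂ))
      ((s (i₁ ω') (i₂ ω') : ℂ) • (P (i₁ ω') (i₂ ω') : G → ℂ)) = 0
    have hPne : (P (i₁ ω) (i₂ ω) : G → ℂ) ≠ (P (i₁ ω') (i₂ ω') : G → ℂ) := by
      intro h
      obtain ⟨e1, e2⟩ := hinj _ _ _ _ (Subtype.ext h)
      apply hne
      rw [h3 ω, h3 ω', mkIdx_inj W₂ _ _ e1, mkIdx_inj W₁ _ _ e2]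
    rw [classInner_smul_left, classInner_smul_right,
      irr_classInner_ne (P (i₁ ω) (i₂ ω)).2 (P (i₁ ω') (i₂ ω')).2 hPne]
    ring
  · obtain ⟨e1, e2⟩ := hi₁ 1 1 1 hone1 hone2 (by ext w; simp)
    show (s (i₁ 1) (i₂ 1) : ℂ) • (P (i₁ 1) (i₂ 1) : G → ℂ) = fun _ => 1
    rw [e1, e2, mkIdx_one, mkIdx_one, hP0, hs0]
    funext g
    simp
  · intro φ ψ hφ hψ hφ₂ hψ₁
    obtain ⟨a1, a2⟩ := hi₁ φ φ 1 hφ₂ hone2 (by ext w; simp)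
    obtain ⟨b1, b2⟩ := hi₁ ψ 1 ψ hone1 hψ₁ (by ext w; simp)
    obtain ⟨c1, c2⟩ := hi₁ (φ * ψ) φ ψ hφ₂ hψ₁ rfl
    rw [mkIdx_of_ne W₂ hφ] at a1 c1
    rw [mkIdx_one] at a2 b1
    rw [mkIdx_of_ne W₁ hψ] at b2 c2
    have hb := hB ⟨φ, hφ, hφ₂⟩ ⟨ψ, hψ, hψ₁⟩
    have hind : Cfsg.indFun (W₁ ⊔ W₂)
        (fun w => 1 - (φ w : ℂ) - (ψ w : ℂ) + (φ w : ℂ) * (ψ w : ℂ)) = bvec W₁ W₂ φ ψ + 1 := by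
      unfold bvec alpha
      funext g; simp
    rw [hind]
    funext g
    show (bvec W₁ W₂ φ ψ + 1) g = 1 - ((s (i₁ φ) (i₂ φ) : ℂ) • (P (i₁ φ) (i₂ φ) : G → ℂ)) g
      - ((s (i₁ ψ) (i₂ ψ) : ℂ) • (P (i₁ ψ) (i₂ ψ) : G → ℂ)) g
      + ((s (i₁ (φ * ψ)) (i₂ (φ * ψ)) : ℂ) • (P (i₁ (φ * ψ)) (i₂ (φ * ψ)) : G → ℂ)) g
    rw [a1, a2, b1, b2, c1, c2, Pi.add_apply, hb]
    simp only [Pi.add_apply, Pi.sub_apply, Pi.neg_apply, Pi.smul_apply, Pi.one_apply, smul_eq_mul]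
    ring

end Cfsg.Agent.Lib.H1.CycTI
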