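import Mathlib
import Cfsg.Prelude
import Cfsg.Agent.Lib.H1.CycTII
import Cfsg.Agent.Lib.H8.LinearDual

set_option autoImplicit false

/-! # Peterfalvi (3.2): the values on `W ∖ (W₁ ∪ W₂)` (helper1) -/

namespace Cfsg.Agent.Lib.H1.CycTI

open scoped ComplexConjugate
open Cfsg.Agent.Lib.H8 Cfsg.Agent.Lib.L0

theorem conj_hom_apply {T : Type*} [Group T] [Finite T] (f : T →* ℂˣ) (t : T) :
    conj ((f t : ℂˣ) : ℂ) = ((f t⁻¹ : ℂˣ) : ℂ) := by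
  have h1 : ((f t : ℂˣ) : ℂ) ^ Nat.card T = 1 := by
    rw [← Units.val_pow_eq_pow_val, ← map_pow, pow_card_eq_one', map_one, Units.val_one]
  have h2 : ‖((f t : ℂˣ) : ℂ)‖ = 1 := Complex.norm_eq_one_of_pow_eq_one h1 Nat.card_pos.ne'
  rw [map_inv, Units.val_inv_eq_inv_val, Complex.inv_eq_conj h2]

/-- The basic character sum. -/
theorem sum_conj_mul_one_sub {T : Type*} [Group T] [Finite T] (N : Subgroup T)
    (Λ : Finset (T →* ℂˣ)) (c : ℂ)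
    (h1 : ∀ t ∈ N, ∑ f ∈ Λ, ((f t : ℂˣ) : ℂ) = c)
    (h0 : ∀ t ∉ N, ∑ f ∈ Λ, ((f t : ℂˣ) : ℂ) = 0) (v w : T) (hv : v ∉ N) [Decidable (v⁻¹ * w ∈ N)] :
    ∑ f ∈ Λ, conj ((f v : ℂˣ) : ℂ) * (1 - ((f w : ℂˣ) : ℂ)) = -(if v⁻¹ * w ∈ N then c else 0) := by
  have e : ∀ f ∈ Λ, conj ((f v : ℂˣ) : ℂ) * (1 - ((f w : ℂˣ) : ℂ))
      = conj ((f v : ℂˣ) : ℂ) - ((f (v⁻¹ * w) : ℂˣ) : ℂ) := by
    intro f _
    rw [map_mul, Units.val_mul, ← conj_hom_apply]; ring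
  rw [Finset.sum_congr rfl e, Finset.sum_sub_distrib, ← map_sum, h0 v hv, map_zero, zero_sub]
  congr 1
  split_ifs with h
  · exact h1 _ h
  · exact h0 _ h

variable {G : Type*} [Group G] [Fintype G] {W₁ W₂ : Subgroup G}

theorem eq_on_of_core (hW : Cfsg.IsSelfNormalizingCyclic W₁ W₂)
    (χ : (↥(W₁ ⊔ W₂) →* ℂˣ) → (G → ℂ))
    (hirr : ∀ ω, Cfsg.IsIrrCharacter G (χ ω) ∨ Cfsg.IsIrrCharacter G (-χ ω))
    (hnorm : ∀ ω, Cfsg.classInner (χ ω) (χ ω) = 1)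
    (horth : ∀ ω ω', ω ≠ ω' → Cfsg.classInner (χ ω) (χ ω') = 0)
    (hone : χ 1 = fun _ => 1)
    (hind : ∀ φ ψ : ↥(W₁ ⊔ W₂) →* ℂˣ, φ ≠ 1 → ψ ≠ 1 →
        (∀ w : ↥(W₁ ⊔ W₂), (w : G) ∈ W₂ → φ w = 1) →
        (∀ w : ↥(W₁ ⊔ W₂), (w : G) ∈ W₁ → ψ w = 1) →
        Cfsg.indFun (W₁ ⊔ W₂) (fun w => 1 - (φ w : ℂ) - (ψ w : ℂ) + (φ w : ℂ) * (ψ w : ℂ)) =
          fun g => 1 - χ φ g - χ ψ g + χ (φ * ψ) g)
    (ω₀ : ↥(W₁ ⊔ W₂) →* ℂˣ) (v : ↥(W₁ ⊔ W₂)) (hv1 : (v : G) ∉ W₁) (hv2 : (v : G) ∉ W₂) :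
    χ ω₀ v = (ω₀ v : ℂ) := by
  classical
  have := hW.2.2.2.2.1
  have hc : ∀ x y : ↥(W₁ ⊔ W₂), x * y = y * x := fun x y =>
    (IsCyclic.isMulCommutative (α := ↥(W₁ ⊔ W₂))).is_comm.comm x y
  have hnormal : ∀ V : Subgroup G, (V.subgroupOf (W₁ ⊔ W₂)).Normal := by
    intro V
    constructor
    intro n hn g
    have : g * n * g⁻¹ = n := by rw [hc g n, mul_assoc, mul_inv_cancel, mul_one]
    rw [this]; exact hn
  have hab : ∀ (V : Subgroup G) (x y : ↥(W₁ ⊔ W₂)),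
      x * y * x⁻¹ * y⁻¹ ∈ V.subgroupOf (W₁ ⊔ W₂) := by
    intro V x y
    have : x * y * x⁻¹ * y⁻¹ = 1 := by
      rw [hc x y, mul_assoc y x, mul_inv_cancel, mul_one, mul_inv_cancel]
    rw [this]; exact Subgroup.one_mem _
  have := hnormal W₂
  have := hnormal W₁
  obtain ⟨Λ₁, hΛ₁t, -, hΛ₁a, hΛ₁b⟩ := exists_linear_chars (W₂.subgroupOf (W₁ ⊔ W₂)) (hab W₂)
  obtain ⟨Λ₂, hΛ₂t, -, hΛ₂a, hΛ₂b⟩ := exists_linear_chars (W₁.subgroupOf (W₁ ⊔ W₂)) (hab W₁)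
  set c₁ : ℂ := ((W₂.subgroupOf (W₁ ⊔ W₂)).index : ℂ) with hc₁
  set c₂ : ℂ := ((W₁.subgroupOf (W₁ ⊔ W₂)).index : ℂ) with hc₂
  have hc₁0 : c₁ ≠ 0 := Nat.cast_ne_zero.mpr Subgroup.index_ne_zero_of_finite
  have hc₂0 : c₂ ≠ 0 := Nat.cast_ne_zero.mpr Subgroup.index_ne_zero_of_finite
  -- orthonormality as an `if`
  have hδ : ∀ a b, Cfsg.classInner (χ a) (χ b) = if a = b then 1 else 0 := by
    intro a b
    split_ifs with h
    · subst h; exact hnorm a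
    · exact horth a b h
  have hcf : Cfsg.IsClassFunction G (χ ω₀) := by
    rcases hirr ω₀ with h | h
    · exact isClassFunction_of_isCharacter (isCharacter_of_irr h)
    · have := isClassFunction_of_isCharacter (isCharacter_of_irr h)
      intro g k
      have h2 := this g k
      simp only [Pi.neg_apply, neg_inj] at h2
      exact h2
  -- the key identity for one pair
  have hpair : ∀ φ ψ : ↥(W₁ ⊔ W₂) →* ℂˣ, (∀ w : ↥(W₁ ⊔ W₂), (w : G) ∈ W₂ → φ w = 1) →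
      (∀ w : ↥(W₁ ⊔ W₂), (w : G) ∈ W₁ → ψ w = 1) →
      Cfsg.classInner (Cfsg.indFun (W₁ ⊔ W₂) (alpha W₁ W₂ φ ψ)) (χ ω₀)
        = Cfsg.classInner (alpha W₁ W₂ φ ψ) (Cfsg.Agent.S1505.lin ω₀) := by
    intro φ ψ hφ hψ
    by_cases h1 : φ = 1
    · have : alpha W₁ W₂ φ ψ = 0 := by
        funext w; rw [h1]; simp [alpha]
      rw [this, indFun_zero, classInner_zero_left, classInner_zero_left]
    by_cases h2 : ψ = 1
    · have : alpha W₁ W₂ φ ψ = 0 := by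
        funext w; rw [h2]; simp [alpha]
      rw [this, indFun_zero, classInner_zero_left, classInner_zero_left]
    have e1 : Cfsg.indFun (W₁ ⊔ W₂) (alpha W₁ W₂ φ ψ) = χ 1 - χ φ - χ ψ + χ (φ * ψ) := by
      have := hind φ ψ h1 h2 hφ hψ
      unfold alpha
      rw [this, hone]
      funext g; simp
    have e2 : alpha W₁ W₂ φ ψ = Cfsg.Agent.S1505.lin 1 - Cfsg.Agent.S1505.lin φ
        - Cfsg.Agent.S1505.lin ψ + Cfsg.Agent.S1505.lin (φ * ψ) := by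
      funext w; simp [alpha, Cfsg.Agent.S1505.lin]
    rw [e1, e2]
    simp only [classInner_add_left, classInner_sub_left, hδ, Cfsg.Agent.S1505.classInner_lin]
  -- the combination
  set Θ : ↥(W₁ ⊔ W₂) → ℂ := ∑ φ ∈ Λ₁, ∑ ψ ∈ Λ₂,
    (conj ((φ v : ℂˣ) : ℂ) * conj ((ψ v : ℂˣ) : ℂ)) • alpha W₁ W₂ φ ψ with hΘ
  have hΘ1 : Cfsg.classInner (Cfsg.indFun (W₁ ⊔ W₂) Θ) (χ ω₀)
      = Cfsg.classInner Θ (Cfsg.Agent.S1505.lin ω₀) := by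
    rw [hΘ, indFun_sum, classInner_sum_left, classInner_sum_left]
    apply Finset.sum_congr rfl
    intro φ hφ
    rw [indFun_sum, classInner_sum_left, classInner_sum_left]
    apply Finset.sum_congr rfl
    intro ψ hψ
    rw [indFun_smul, classInner_smul_left, classInner_smul_left,
      hpair φ ψ (fun w hw => hΛ₁t φ hφ w (Subgroup.mem_subgroupOf.mpr hw))
        (fun w hw => hΛ₂t ψ hψ w (Subgroup.mem_subgroupOf.mpr hw))]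
  have hΘ2 : ∀ w : ↥(W₁ ⊔ W₂), Θ w = if w = v then c₁ * c₂ else 0 := by
    intro w
    have hv2' : v ∉ W₂.subgroupOf (W₁ ⊔ W₂) := fun h => hv2 (Subgroup.mem_subgroupOf.mp h)
    have hv1' : v ∉ W₁.subgroupOf (W₁ ⊔ W₂) := fun h => hv1 (Subgroup.mem_subgroupOf.mp h)
    have s1 := sum_conj_mul_one_sub (W₂.subgroupOf (W₁ ⊔ W₂)) Λ₁ c₁ hΛ₁a hΛ₁b v w hv2'
    have s2 := sum_conj_mul_one_sub (W₁.subgroupOf (W₁ ⊔ W₂)) Λ₂ c₂ hΛ₂a hΛ₂b v w hv1'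
    have hprod : Θ w = (∑ f ∈ Λ₁, conj ((f v : ℂˣ) : ℂ) * (1 - ((f w : ℂˣ) : ℂ)))
        * (∑ f ∈ Λ₂, conj ((f v : ℂˣ) : ℂ) * (1 - ((f w : ℂˣ) : ℂ))) := by
      rw [hΘ, Finset.sum_mul_sum]
      simp only [Finset.sum_apply, Pi.smul_apply, smul_eq_mul, alpha]
      apply Finset.sum_congr rfl
      intro φ _
      apply Finset.sum_congr rfl
      intro ψ _
      ring
    rw [hprod, s1, s2]
    by_cases hwv : w = v
    · subst hwv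
      rw [if_pos rfl, inv_mul_cancel, if_pos (Subgroup.one_mem _), if_pos (Subgroup.one_mem _)]
      ring
    · rw [if_neg hwv]
      by_cases h1 : v⁻¹ * w ∈ W₂.subgroupOf (W₁ ⊔ W₂)
      · by_cases h2 : v⁻¹ * w ∈ W₁.subgroupOf (W₁ ⊔ W₂)
        · exfalso
          have hmem : ((v⁻¹ * w : ↥(W₁ ⊔ W₂)) : G) ∈ W₁ ⊓ W₂ :=
            ⟨Subgroup.mem_subgroupOf.mp h2, Subgroup.mem_subgroupOf.mp h1⟩
          rw [hW.2.2.1, Subgroup.mem_bot] at hmem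
          have : v⁻¹ * w = 1 := Subtype.ext hmem
          exact hwv (inv_mul_eq_one.mp this).symm
        · rw [if_neg h2]; ring
      · rw [if_neg h1]; ring
  have hinner : ∀ f : ↥(W₁ ⊔ W₂) → ℂ, Cfsg.classInner Θ f
      = (Nat.card ↥(W₁ ⊔ W₂) : ℂ)⁻¹ * (c₁ * c₂ * conj (f v)) := by
    intro f
    unfold Cfsg.classInner
    congr 1
    rw [Finset.sum_eq_single v]
    · rw [hΘ2 v, if_pos rfl]
    · intro w _ hw
      rw [hΘ2 w, if_neg hw, zero_mul]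
    · intro h; exact absurd (Finset.mem_univ v) h
  have hfrob := Cfsg.Agent.Lib.L0.frobenius_reciprocity (W₁ ⊔ W₂) Θ (χ ω₀) hcf
  rw [hΘ1, hinner, hinner] at hfrob
  have hcard : (Nat.card ↥(W₁ ⊔ W₂) : ℂ)⁻¹ ≠ 0 :=
    inv_ne_zero (Nat.cast_ne_zero.mpr Nat.card_pos.ne')
  have h3 : conj (Cfsg.Agent.S1505.lin ω₀ v) = conj (χ ω₀ v) := by
    have := mul_left_cancel₀ hcard hfrob
    exact mul_left_cancel₀ (mul_ne_zero hc₁0 hc₂0) this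
  have h4 := congrArg conj h3
  rw [Complex.conj_conj, Complex.conj_conj] at h4
  rw [← h4]
  rfl

end Cfsg.Agent.Lib.H1.CycTI
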