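import Mathlib

/-!
# Four operators on an `F_2`-space satisfying the relations of `3^2 : D_8` (helper1)

`C, D` (order 3, commuting), `R` (order 4), `T` (order 2) with `R C R⁻¹ = D`, `R D R⁻¹ = C⁻¹`,
`T C T = C`, `T D T = D⁻¹`, `T R T = R⁻¹`.  If the space is irreducible under the four operators,
`C` has a nonzero fixed vector and `C, D` have no common nonzero fixed vector, then the space has
16 elements, and the fixed spaces of the two four-groups have 2 and 4 elements.
-/

set_option autoImplicit false

namespace Cfsg.Agent.Lib.H1.D8Mod

variable {M : Type*} [AddCommGroup M] [Module (ZMod 2) M]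

/-- the relations -/
structure Rel (C D R T : Module.End (ZMod 2) M) : Prop where
  c3 : C * C * C = 1
  d3 : D * D * D = 1
  cd : C * D = D * C
  r4 : R * R * R * R = 1
  t2 : T * T = 1
  tr : T * R = R * R * R * T
  rc : R * C = D * R
  rd : R * D = C * C * R
  tc : T * C = C * T
  td : T * D = D * D * T

/-- invariance of a submodule under an operator -/
def Inv (L : Module.End (ZMod 2) M) (N : Submodule (ZMod 2) M) : Prop := ∀ x ∈ N, L x ∈ N

theorem add_self_m (x : M) : x + x = 0 := ZModModule.add_self x

section ops

variable {C D R T : Module.End (ZMod 2) M} (h : Rel C D R T)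
include h

theorem Rel.c3_apply (x : M) : C (C (C x)) = x := by
  have := congrArg (fun f => f x) h.c3
  simpa using this

theorem Rel.d3_apply (x : M) : D (D (D x)) = x := by
  have := congrArg (fun f => f x) h.d3
  simpa using this

theorem Rel.cd_apply (x : M) : C (D x) = D (C x) := by
  have := congrArg (fun f => f x) h.cd
  simpa using this

theorem Rel.r4_apply (x : M) : R (R (R (R x))) = x := by
  have := congrArg (fun f => f x) h.r4
  simpa using this

theorem Rel.t2_apply (x : M) : T (T x) = x := by
  have := congrArg (fun f => f x) h.t2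
  simpa using this

theorem Rel.tr_apply (x : M) : T (R x) = R (R (R (T x))) := by
  have := congrArg (fun f => f x) h.tr
  simpa using this

theorem Rel.rc_apply (x : M) : R (C x) = D (R x) := by
  have := congrArg (fun f => f x) h.rc
  simpa using this

theorem Rel.rd_apply (x : M) : R (D x) = C (C (R x)) := by
  have := congrArg (fun f => f x) h.rd
  simpa using this

theorem Rel.tc_apply (x : M) : T (C x) = C (T x) := by
  have := congrArg (fun f => f x) h.tc
  simpa using this

theorem Rel.td_apply (x : M) : T (D x) = D (D (T x)) := by
  have := congrArg (fun f => f x) h.td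
  simpa using this

theorem Rel.r_injective : Function.Injective R := by
  intro x y hxy
  have := congrArg (fun z => R (R (R z))) hxy
  simpa [h.r4_apply] using this

/-- `C R = R D²` -/
theorem Rel.cr_apply (x : M) : C (R x) = R (D (D x)) := by
  rw [h.rd_apply, h.rd_apply]
  -- R (D (D x)) = C (C (R (D x))) = C (C (C (C (R x))))
  rw [h.c3_apply]

/-- `R R T = T R R` -/
theorem Rel.rrt_apply (x : M) : R (R (T x)) = T (R (R x)) := by
  rw [h.tr_apply, h.tr_apply]
  -- T (R (R x)) = R R R (T (R x)) = R R R R R R (T x)
  rw [h.r4_apply]

/-- `R R D = D D R R` -/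
theorem Rel.rrd_apply (x : M) : R (R (D x)) = D (D (R (R x))) := by
  rw [h.rd_apply, h.rc_apply, h.rc_apply]

/-- `R R C = C C R R` -/
theorem Rel.rrc_apply (x : M) : R (R (C x)) = C (C (R (R x))) := by
  rw [h.rc_apply, h.rd_apply]

end ops

end Cfsg.Agent.Lib.H1.D8Mod
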