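import Cfsg.Agent.Lib.H1.D8ModA

/-!
# Structure of the irreducible module: `M = F ⊕ R F` with `F = C_M(C) = {0, m, Dm, m + Dm}` (helper1)
-/

set_option autoImplicit false

namespace Cfsg.Agent.Lib.H1.D8Mod

variable {M : Type*} [AddCommGroup M] [Module (ZMod 2) M]

/-- fixed space of an operator -/
def fixS (L : Module.End (ZMod 2) M) : Submodule (ZMod 2) M := LinearMap.eqLocus L LinearMap.id

theorem mem_fixS {L : Module.End (ZMod 2) M} {x : M} : x ∈ fixS L ↔ L x = x := by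
  unfold fixS
  rw [LinearMap.mem_eqLocus]
  rfl

/-- the hypotheses of the core theorem -/
structure Ctx (C D R T : Module.End (ZMod 2) M) : Prop extends Rel C D R T where
  irr : ∀ N : Submodule (ZMod 2) M, Inv C N → Inv D N → Inv R N → Inv T N → N = ⊥ ∨ N = ⊤
  noAfix : ∀ x, C x = x → D x = x → x = 0

variable {C D R T : Module.End (ZMod 2) M}

theorem Ctx.rel (h : Ctx C D R T) : Rel C D R T := h.toRel

/-- Lemma P: a nonzero subspace of `C_M(C)` invariant under `D`, `T`, `R²` is all of `C_M(C)`,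
and `M = U + R U`. -/
theorem Ctx.lemmaP (h : Ctx C D R T) (U : Submodule (ZMod 2) M) (hUF : U ≤ fixS C)
    (hD : Inv D U) (hT : Inv T U) (hRR : ∀ x ∈ U, R (R x) ∈ U) (hne : U ≠ ⊥) :
    (∀ x : M, ∃ y ∈ U, ∃ y' ∈ U, x = y + R y') ∧ fixS C ≤ U := by
  have hr := h.rel
  have hdec : ∀ x ∈ U ⊔ U.map R, ∃ y ∈ U, ∃ y' ∈ U, x = y + R y' := by
    intro x hx
    obtain ⟨y, hy, z, hz, rfl⟩ := Submodule.mem_sup.mp hx
    obtain ⟨y', hy', rfl⟩ := Submodule.mem_map.mp hz
    exact ⟨y, hy, y', hy', rfl⟩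
  have hmk : ∀ y ∈ U, ∀ y' ∈ U, y + R y' ∈ U ⊔ U.map R := fun y hy y' hy' =>
    Submodule.add_mem_sup hy (Submodule.mem_map_of_mem hy')
  have iC : Inv C (U ⊔ U.map R) := by
    intro x hx
    obtain ⟨y, hy, y', hy', rfl⟩ := hdec x hx
    rw [map_add, mem_fixS.mp (hUF hy), hr.cr_apply]
    exact hmk y hy _ (hD _ (hD _ hy'))
  have iD : Inv D (U ⊔ U.map R) := by
    intro x hx
    obtain ⟨y, hy, y', hy', rfl⟩ := hdec x hx
    rw [map_add, ← hr.rc_apply, mem_fixS.mp (hUF hy')]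
    exact hmk _ (hD _ hy) y' hy'
  have iR : Inv R (U ⊔ U.map R) := by
    intro x hx
    obtain ⟨y, hy, y', hy', rfl⟩ := hdec x hx
    rw [map_add, add_comm]
    exact hmk _ (hRR _ hy') y hy
  have iT : Inv T (U ⊔ U.map R) := by
    intro x hx
    obtain ⟨y, hy, y', hy', rfl⟩ := hdec x hx
    rw [map_add, hr.tr_apply]
    exact hmk _ (hT _ hy) _ (hRR _ (hT _ hy'))
  have hN : U ⊔ U.map R = ⊤ := by
    rcases h.irr (U ⊔ U.map R) iC iD iR iT with h0 | h1
    · exfalso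
      apply hne
      rw [eq_bot_iff, ← h0]
      exact le_sup_left
    · exact h1
  have hall : ∀ x : M, ∃ y ∈ U, ∃ y' ∈ U, x = y + R y' := by
    intro x
    apply hdec
    rw [hN]
    exact Submodule.mem_top
  refine ⟨hall, ?_⟩
  intro x hx
  obtain ⟨y, hy, y', hy', hxy⟩ := hall x
  have h1 : R y' = x + y := by
    rw [hxy, add_comm y, add_assoc, add_self_m, add_zero]
  have h2 : C (R y') = R y' := by
    rw [h1, map_add, mem_fixS.mp hx, mem_fixS.mp (hUF hy)]
  have h3 : D (R y') = R y' := by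
    rw [← hr.rc_apply, mem_fixS.mp (hUF hy')]
  have h4 : R y' = 0 := h.noAfix _ h2 h3
  rw [hxy, h4, add_zero]
  exact hy

/-- `C_M(C)` is invariant under `D`, `T`, `R²`. -/
theorem Ctx.fix_D (h : Ctx C D R T) : Inv D (fixS C) := by
  intro x hx
  rw [mem_fixS] at hx ⊢
  rw [h.rel.cd_apply, hx]

theorem Ctx.fix_T (h : Ctx C D R T) : Inv T (fixS C) := by
  intro x hx
  rw [mem_fixS] at hx ⊢
  rw [← h.rel.tc_apply, hx]

theorem Ctx.fix_RR (h : Ctx C D R T) : ∀ x ∈ fixS C, R (R x) ∈ fixS C := by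
  intro x hx
  rw [mem_fixS] at hx ⊢
  have h1 := h.rel.rrc_apply x
  rw [hx] at h1
  -- h1 : R (R x) = C (C (R (R x)))
  calc C (R (R x)) = C (C (C (R (R x)))) := by rw [← h1]
    _ = R (R x) := h.rel.c3_apply _

/-- On `C_M(C)`, `1 + D + D² = 0`. -/
theorem Ctx.dd_of_fix (h : Ctx C D R T) {x : M} (hx : x ∈ fixS C) : D (D x) = x + D x := by
  have hDx := h.fix_D x hx
  have hDDx := h.fix_D _ hDx
  have hs : x + D x + D (D x) ∈ fixS C := add_mem (add_mem hx hDx) hDDx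
  have h1 : C (x + D x + D (D x)) = x + D x + D (D x) := mem_fixS.mp hs
  have h2 : D (x + D x + D (D x)) = x + D x + D (D x) := by
    rw [map_add, map_add, h.rel.d3_apply]
    abel
  have h3 := h.noAfix _ h1 h2
  -- x + D x + D (D x) = 0
  calc D (D x) = (x + D x) + (x + D x + D (D x)) := by
        rw [← add_assoc, add_self_m, zero_add]
    _ = x + D x := by rw [h3, add_zero]

/-- existence of a nonzero fixed vector of an involution on a nonzero invariant subspace -/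
theorem exists_fixed_of_invol {L : Module.End (ZMod 2) M} (hL : ∀ x, L (L x) = x)
    (U : Submodule (ZMod 2) M) (hU : Inv L U) (hne : U ≠ ⊥) : ∃ x ∈ U, x ≠ 0 ∧ L x = x := by
  obtain ⟨x, hx, hx0⟩ := (Submodule.ne_bot_iff U).mp hne
  by_cases hfx : L x = x
  · exact ⟨x, hx, hx0, hfx⟩
  · refine ⟨x + L x, add_mem hx (hU x hx), ?_, ?_⟩
    · intro h0
      apply hfx
      calc L x = x + (x + L x) := by rw [← add_assoc, add_self_m, zero_add]
        _ = x := by rw [h0, add_zero]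
    · rw [map_add, hL, add_comm]

/-- On `C_M(C)`, `T R² = 1`, i.e. `R² = T`. -/
theorem Ctx.rr_eq_t (h : Ctx C D R T) (hfix : fixS C ≠ ⊥) {x : M} (hx : x ∈ fixS C) :
    R (R x) = T x := by
  have hr := h.rel
  set Q : Module.End (ZMod 2) M := T * R * R with hQ
  have hQa : ∀ y, Q y = T (R (R y)) := fun y => rfl
  have hQQ : ∀ y, Q (Q y) = y := by
    intro y
    rw [hQa, hQa, hr.rrt_apply, hr.t2_apply, hr.r4_apply]
  have hQF : Inv Q (fixS C) := fun y hy => h.fix_T _ (h.fix_RR _ hy)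
  set U : Submodule (ZMod 2) M := fixS C ⊓ fixS Q with hU
  have hUmem : ∀ {y}, y ∈ U ↔ C y = y ∧ T (R (R y)) = y := by
    intro y
    rw [hU, Submodule.mem_inf, mem_fixS, mem_fixS, hQa]
  have hkey : ∀ {y}, y ∈ U → R (R y) = T y := by
    intro y hy
    have := (hUmem.mp hy).2
    calc R (R y) = T (T (R (R y))) := (hr.t2_apply _).symm
      _ = T y := by rw [this]
  have hUne : U ≠ ⊥ := by
    obtain ⟨y, hy, hy0, hfy⟩ := exists_fixed_of_invol hQQ (fixS C) hQF hfix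
    intro hbot
    apply hy0
    have : y ∈ U := Submodule.mem_inf.mpr ⟨hy, mem_fixS.mpr hfy⟩
    rw [hbot] at this
    exact (Submodule.mem_bot _).mp this
  have hUD : Inv D U := by
    intro y hy
    have hyF : y ∈ fixS C := (Submodule.mem_inf.mp hy).1
    refine hUmem.mpr ⟨mem_fixS.mp (h.fix_D y hyF), ?_⟩
    rw [hr.rrd_apply, hr.td_apply, hr.td_apply, hr.d3_apply, (hUmem.mp hy).2]
  have hUT : Inv T U := by
    intro y hy
    have hyF : y ∈ fixS C := (Submodule.mem_inf.mp hy).1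
    refine hUmem.mpr ⟨mem_fixS.mp (h.fix_T y hyF), ?_⟩
    rw [hr.rrt_apply, hr.t2_apply, hkey hy]
  have hURR : ∀ y ∈ U, R (R y) ∈ U := by
    intro y hy
    have hyF : y ∈ fixS C := (Submodule.mem_inf.mp hy).1
    refine hUmem.mpr ⟨mem_fixS.mp (h.fix_RR y hyF), ?_⟩
    rw [hr.r4_apply, hkey hy]
  have hle := (h.lemmaP U inf_le_left hUD hUT hURR hUne).2
  exact hkey (hle hx)

end Cfsg.Agent.Lib.H1.D8Mod
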