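import Cfsg.Agent.Lib.H1.D8ModB

/-!
# Coordinates on the irreducible module and the fixed-point counts (helper1)
-/

set_option autoImplicit false

namespace Cfsg.Agent.Lib.H1.D8Mod

variable {M : Type*} [AddCommGroup M] [Module (ZMod 2) M]
variable {C D R T : Module.End (ZMod 2) M}

/-- coordinate space -/
abbrev V4 : Type := (ZMod 2 × ZMod 2) × (ZMod 2 × ZMod 2)

/-- the element `a m + b Dm` -/
def lin2 (D : Module.End (ZMod 2) M) (m : M) (p : ZMod 2 × ZMod 2) : M := p.1 • m + p.2 • D m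

/-- the coordinate map -/
def gmap (D R : Module.End (ZMod 2) M) (m : M) (v : V4) : M := lin2 D m v.1 + R (lin2 D m v.2)

theorem zmod2_cases (a : ZMod 2) : a = 0 ∨ a = 1 := by
  revert a; decide

theorem lin2_add (m : M) (p q : ZMod 2 × ZMod 2) :
    lin2 D m (p + q) = lin2 D m p + lin2 D m q := by
  unfold lin2
  rw [Prod.fst_add, Prod.snd_add, add_smul, add_smul]
  abel

/-- data of a good basis vector -/
structure Good (C D R T : Module.End (ZMod 2) M) (m : M) : Prop where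
  ne : m ≠ 0
  cm : C m = m
  tm : T m = m

theorem Ctx.lin2_mem (h : Ctx C D R T) {m : M} (hm : Good C D R T m) (p : ZMod 2 × ZMod 2) :
    lin2 D m p ∈ fixS C := by
  have hmF : m ∈ fixS C := mem_fixS.mpr hm.cm
  exact add_mem (Submodule.smul_mem _ _ hmF) (Submodule.smul_mem _ _ (h.fix_D m hmF))

theorem Ctx.D_lin2 (h : Ctx C D R T) {m : M} (hm : Good C D R T m) (p : ZMod 2 × ZMod 2) :
    D (lin2 D m p) = lin2 D m (p.2, p.1 + p.2) := by
  have hmF : m ∈ fixS C := mem_fixS.mpr hm.cm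
  unfold lin2
  rw [map_add, map_smul, map_smul, h.dd_of_fix hmF]
  simp only [smul_add, add_smul]
  abel

theorem Ctx.T_lin2 (h : Ctx C D R T) {m : M} (hm : Good C D R T m) (p : ZMod 2 × ZMod 2) :
    T (lin2 D m p) = lin2 D m (p.1 + p.2, p.2) := by
  have hmF : m ∈ fixS C := mem_fixS.mpr hm.cm
  unfold lin2
  rw [map_add, map_smul, map_smul, h.rel.td_apply, hm.tm, h.dd_of_fix hmF]
  simp only [smul_add, add_smul]
  abel

theorem Ctx.lin2_eq_zero (h : Ctx C D R T) {m : M} (hm : Good C D R T m) (p : ZMod 2 × ZMod 2)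
    (hp : lin2 D m p = 0) : p = 0 := by
  obtain ⟨a, b⟩ := p
  unfold lin2 at hp
  simp only at hp
  have hDm : D m ≠ 0 := by
    intro h0
    apply hm.ne
    have := h.rel.d3_apply m
    rw [h0, map_zero, map_zero] at this
    exact this.symm
  have hDm' : D m ≠ m := by
    intro h1
    exact hm.ne (h.noAfix m hm.cm h1)
  rcases zmod2_cases a with rfl | rfl <;> rcases zmod2_cases b with rfl | rfl
  · rfl
  · exfalso
    rw [zero_smul, one_smul, zero_add] at hp
    exact hDm hp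
  · exfalso
    rw [zero_smul, one_smul, add_zero] at hp
    exact hm.ne hp
  · exfalso
    rw [one_smul, one_smul] at hp
    apply hDm'
    calc D m = m + (m + D m) := by rw [← add_assoc, add_self_m, zero_add]
      _ = m := by rw [hp, add_zero]

theorem Ctx.lin2_injective (h : Ctx C D R T) {m : M} (hm : Good C D R T m) :
    Function.Injective (lin2 D m) := by
  intro p q hpq
  have h1 : lin2 D m (p + q) = 0 := by
    rw [lin2_add, hpq, add_self_m]
  have h2 := h.lin2_eq_zero hm _ h1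
  -- p + q = 0 in characteristic 2
  have h3 : p = p + (q + q) := by
    have : q + q = 0 := by
      ext <;> simp [CharTwo.add_self_eq_zero]
    rw [this, add_zero]
  rw [h3, ← add_assoc, h2, zero_add]

theorem Ctx.exists_good (h : Ctx C D R T) (hfix : fixS C ≠ ⊥) : ∃ m, Good C D R T m := by
  obtain ⟨m, hmF, hm0, hTm⟩ := exists_fixed_of_invol h.rel.t2_apply (fixS C) h.fix_T hfix
  exact ⟨m, hm0, mem_fixS.mp hmF, hTm⟩

theorem Ctx.gmap_surjective (h : Ctx C D R T) (hfix : fixS C ≠ ⊥) {m : M}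
    (hm : Good C D R T m) : Function.Surjective (gmap D R m) := by
  have hmF : m ∈ fixS C := mem_fixS.mpr hm.cm
  set U : Submodule (ZMod 2) M := Submodule.span (ZMod 2) {m, D m} with hU
  have hUmem : ∀ {x}, x ∈ U ↔ ∃ p : ZMod 2 × ZMod 2, lin2 D m p = x := by
    intro x
    rw [hU, Submodule.mem_span_pair]
    constructor
    · rintro ⟨a, b, rfl⟩
      exact ⟨(a, b), rfl⟩
    · rintro ⟨p, rfl⟩
      exact ⟨p.1, p.2, rfl⟩
  have hUF : U ≤ fixS C := by
    intro x hx
    obtain ⟨p, rfl⟩ := hUmem.mp hx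
    exact h.lin2_mem hm p
  have hUD : Inv D U := by
    intro x hx
    obtain ⟨p, rfl⟩ := hUmem.mp hx
    exact hUmem.mpr ⟨_, (h.D_lin2 hm p).symm⟩
  have hUT : Inv T U := by
    intro x hx
    obtain ⟨p, rfl⟩ := hUmem.mp hx
    exact hUmem.mpr ⟨_, (h.T_lin2 hm p).symm⟩
  have hURR : ∀ x ∈ U, R (R x) ∈ U := by
    intro x hx
    rw [h.rr_eq_t hfix (hUF hx)]
    exact hUT x hx
  have hUne : U ≠ ⊥ := by
    intro hbot
    apply hm.ne
    have : m ∈ U := Submodule.subset_span (Set.mem_insert _ _)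
    rw [hbot] at this
    exact (Submodule.mem_bot _).mp this
  intro x
  obtain ⟨y, hy, y', hy', rfl⟩ := (h.lemmaP U hUF hUD hUT hURR hUne).1 x
  obtain ⟨p, rfl⟩ := hUmem.mp hy
  obtain ⟨q, rfl⟩ := hUmem.mp hy'
  exact ⟨(p, q), rfl⟩

theorem Ctx.gmap_injective (h : Ctx C D R T) {m : M} (hm : Good C D R T m) :
    Function.Injective (gmap D R m) := by
  rintro ⟨p, q⟩ ⟨p', q'⟩ hpq
  unfold gmap at hpq
  simp only at hpq
  -- lin2 p + lin2 p' = R (lin2 q + lin2 q')
  have h1 : lin2 D m (p + p') = R (lin2 D m (q + q')) := by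
    rw [lin2_add, lin2_add, map_add]
    calc lin2 D m p + lin2 D m p'
        = (lin2 D m p + R (lin2 D m q)) + (R (lin2 D m q) + lin2 D m p') := by
          rw [ZModModule.add_add_add_cancel]
      _ = (lin2 D m p' + R (lin2 D m q')) + (R (lin2 D m q) + lin2 D m p') := by rw [hpq]
      _ = R (lin2 D m q) + R (lin2 D m q') + (lin2 D m p' + lin2 D m p') := by abel
      _ = R (lin2 D m q) + R (lin2 D m q') := by rw [add_self_m, add_zero]
  have hF : lin2 D m (p + p') ∈ fixS C := h.lin2_mem hm _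
  have hF' : D (lin2 D m (p + p')) = lin2 D m (p + p') := by
    rw [h1, ← h.rel.rc_apply, mem_fixS.mp (h.lin2_mem hm _)]
  have h0 : lin2 D m (p + p') = 0 := h.noAfix _ (mem_fixS.mp hF) hF'
  have h2 : lin2 D m (q + q') = 0 := by
    apply h.rel.r_injective
    rw [← h1, h0, map_zero]
  have e1 : lin2 D m p = lin2 D m p' := by
    rw [lin2_add] at h0
    calc lin2 D m p = (lin2 D m p + lin2 D m p') + lin2 D m p' := by
          rw [add_assoc, add_self_m, add_zero]
      _ = lin2 D m p' := by rw [h0, zero_add]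
  have e2 : lin2 D m q = lin2 D m q' := by
    rw [lin2_add] at h2
    calc lin2 D m q = (lin2 D m q + lin2 D m q') + lin2 D m q' := by
          rw [add_assoc, add_self_m, add_zero]
      _ = lin2 D m q' := by rw [h2, zero_add]
  rw [h.lin2_injective hm e1, h.lin2_injective hm e2]

/-- `T R w = R w` for `w ∈ C_M(C)` -/
theorem Ctx.TR_fix (h : Ctx C D R T) (hfix : fixS C ≠ ⊥) {w : M} (hw : w ∈ fixS C) :
    T (R w) = R w := by
  rw [h.rel.tr_apply, h.rr_eq_t hfix (h.fix_T w hw), h.rel.t2_apply]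

theorem Ctx.T_gmap (h : Ctx C D R T) (hfix : fixS C ≠ ⊥) {m : M} (hm : Good C D R T m) (v : V4) :
    T (gmap D R m v) = gmap D R m ((v.1.1 + v.1.2, v.1.2), v.2) := by
  unfold gmap
  rw [map_add, h.TR_fix hfix (h.lin2_mem hm _), h.T_lin2 hm]

theorem Ctx.RR_gmap (h : Ctx C D R T) (hfix : fixS C ≠ ⊥) {m : M} (hm : Good C D R T m) (v : V4) :
    R (R (gmap D R m v)) = gmap D R m ((v.1.1 + v.1.2, v.1.2), (v.2.1 + v.2.2, v.2.2)) := by
  unfold gmap
  rw [map_add, map_add, h.rr_eq_t hfix (h.lin2_mem hm _), h.T_lin2 hm]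
  congr 1
  rw [h.rr_eq_t hfix (h.lin2_mem hm v.2), h.T_lin2 hm]

theorem Ctx.TR_gmap (h : Ctx C D R T) (hfix : fixS C ≠ ⊥) {m : M} (hm : Good C D R T m) (v : V4) :
    T (R (gmap D R m v)) = gmap D R m (v.2, v.1) := by
  unfold gmap
  rw [map_add, map_add, h.TR_fix hfix (h.lin2_mem hm _), h.rr_eq_t hfix (h.lin2_mem hm v.2),
    h.T_lin2 hm, h.T_lin2 hm, add_comm]
  congr 1
  congr 1
  obtain ⟨⟨a, b⟩, ⟨a', b'⟩⟩ := v
  simp only
  rw [add_assoc, CharTwo.add_self_eq_zero, add_zero]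

/-- the coordinate bijection -/
noncomputable def Ctx.gEquiv (h : Ctx C D R T) (hfix : fixS C ≠ ⊥) {m : M}
    (hm : Good C D R T m) : V4 ≃ M :=
  Equiv.ofBijective (gmap D R m) ⟨h.gmap_injective hm, h.gmap_surjective hfix hm⟩

theorem Ctx.card_eq (h : Ctx C D R T) (hfix : fixS C ≠ ⊥) : Nat.card M = 16 := by
  obtain ⟨m, hm⟩ := h.exists_good hfix
  rw [← Nat.card_congr (h.gEquiv hfix hm), Nat.card_eq_fintype_card]
  rfl

theorem Ctx.card_fix_T_RR (h : Ctx C D R T) (hfix : fixS C ≠ ⊥) :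
    Nat.card {x : M // T x = x ∧ R (R x) = x} = 4 := by
  obtain ⟨m, hm⟩ := h.exists_good hfix
  have e : {v : V4 // ((v.1.1 + v.1.2, v.1.2), v.2) = v ∧
      ((v.1.1 + v.1.2, v.1.2), (v.2.1 + v.2.2, v.2.2)) = v} ≃ {x : M // T x = x ∧ R (R x) = x} :=
    (h.gEquiv hfix hm).subtypeEquiv (by
      intro v
      change _ ↔ T (gmap D R m v) = gmap D R m v ∧ R (R (gmap D R m v)) = gmap D R m v
      rw [h.T_gmap hfix hm, h.RR_gmap hfix hm, (h.gmap_injective hm).eq_iff,
        (h.gmap_injective hm).eq_iff])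
  rw [← Nat.card_congr e, Nat.card_eq_fintype_card]
  decide

theorem Ctx.card_fix_TR_RR (h : Ctx C D R T) (hfix : fixS C ≠ ⊥) :
    Nat.card {x : M // T (R x) = x ∧ R (R x) = x} = 2 := by
  obtain ⟨m, hm⟩ := h.exists_good hfix
  have e : {v : V4 // (v.2, v.1) = v ∧
      ((v.1.1 + v.1.2, v.1.2), (v.2.1 + v.2.2, v.2.2)) = v} ≃
        {x : M // T (R x) = x ∧ R (R x) = x} :=
    (h.gEquiv hfix hm).subtypeEquiv (by
      intro v
      change _ ↔ T (R (gmap D R m v)) = gmap D R m v ∧ R (R (gmap D R m v)) = gmap D R m v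
      rw [h.TR_gmap hfix hm, h.RR_gmap hfix hm, (h.gmap_injective hm).eq_iff,
        (h.gmap_injective hm).eq_iff])
  rw [← Nat.card_congr e, Nat.card_eq_fintype_card]
  decide

end Cfsg.Agent.Lib.H1.D8Mod
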