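import Mathlib
import Cfsg.Prelude.Def_Transfer

/-!
# The group `3^2 : D_8`: generators and relations (helper1)
-/

set_option autoImplicit false

namespace Cfsg.Agent.Lib.H1.D8Mod

open DihedralGroup

variable {S : Type*} [Group S]

section L9

variable {A : Subgroup S}

theorem comm_of_mem (hA : Cfsg.IsElementaryAbelian 3 A) {a b : S} (ha : a ∈ A) (hb : b ∈ A) :
    a * b = b * a := by
  have := hA.1.is_comm.comm (⟨a, ha⟩ : ↥A) ⟨b, hb⟩
  exact congrArg Subtype.val this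

theorem orderOf_eq_three (hA : Cfsg.IsElementaryAbelian 3 A) {v : S} (hv : v ∈ A) (hv1 : v ≠ 1) :
    orderOf v = 3 := by
  have : Fact (Nat.Prime 3) := ⟨Nat.prime_three⟩
  exact orderOf_eq_prime (hA.2 v hv) hv1

/-- two independent elements generate `A` -/
theorem le_sup_zpowers [Finite S] (hA : Cfsg.IsElementaryAbelian 3 A) (hA9 : Nat.card ↥A = 9)
    {v v' : S} (hv : v ∈ A) (hv' : v' ∈ A) (hv1 : v ≠ 1)
    (hne : v' ∉ Subgroup.zpowers v) : A ≤ Subgroup.zpowers v ⊔ Subgroup.zpowers v' := by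
  set K := Subgroup.zpowers v ⊔ Subgroup.zpowers v' with hK
  have hKA : K ≤ A := sup_le (Subgroup.zpowers_le.mpr hv) (Subgroup.zpowers_le.mpr hv')
  have h3 : Nat.card (Subgroup.zpowers v) = 3 := by
    rw [Nat.card_zpowers, orderOf_eq_three hA hv hv1]
  have hdvd : Nat.card K ∣ 9 := by
    rw [← hA9]; exact Subgroup.card_dvd_of_le hKA
  have h3dvd : 3 ∣ Nat.card K := by
    rw [← h3]; exact Subgroup.card_dvd_of_le le_sup_left
  have hne3 : Nat.card K ≠ 3 := by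
    intro h
    apply hne
    have : Subgroup.zpowers v = K :=
      Subgroup.eq_of_le_of_card_ge le_sup_left (by rw [h, h3])
    rw [this]
    exact (le_sup_right : Subgroup.zpowers v' ≤ K) (Subgroup.mem_zpowers v')
  have h9 : Nat.card K = 9 := by
    have hle : Nat.card K ≤ 9 := Nat.le_of_dvd (by norm_num) hdvd
    obtain ⟨k, hk⟩ := h3dvd
    have hk3 : k ∣ 3 := by
      have : 3 * k ∣ 3 * 3 := by rw [← hk]; exact hdvd
      exact Nat.dvd_of_mul_dvd_mul_left (by norm_num) this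
    have : k = 1 ∨ k = 3 := (Nat.dvd_prime Nat.prime_three).mp hk3
    rcases this with rfl | rfl
    · exact absurd hk hne3
    · exact hk
  have : K = A := Subgroup.eq_of_le_of_card_ge hKA (by rw [h9, hA9])
  rw [this]

theorem le_of_mem_of_mem [Finite S] (hA : Cfsg.IsElementaryAbelian 3 A) (hA9 : Nat.card ↥A = 9)
    {v v' : S} (hv : v ∈ A) (hv' : v' ∈ A) (hv1 : v ≠ 1)
    (hne : v' ∉ Subgroup.zpowers v) {K : Subgroup S} (hvK : v ∈ K) (hv'K : v' ∈ K) : A ≤ K :=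
  (le_sup_zpowers hA hA9 hv hv' hv1 hne).trans
    (sup_le (Subgroup.zpowers_le.mpr hvK) (Subgroup.zpowers_le.mpr hv'K))

/-- the elements of `A` inverted by `z` -/
def invSub (hA : Cfsg.IsElementaryAbelian 3 A) (z : S) : Subgroup S where
  carrier := {a | a ∈ A ∧ z * a * z⁻¹ = a⁻¹}
  one_mem' := ⟨A.one_mem, by simp⟩
  mul_mem' := by
    rintro a b ⟨ha, ha'⟩ ⟨hb, hb'⟩
    refine ⟨A.mul_mem ha hb, ?_⟩
    have h1 : z * (a * b) * z⁻¹ = (z * a * z⁻¹) * (z * b * z⁻¹) := by group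
    rw [h1, ha', hb', mul_inv_rev]
    exact comm_of_mem hA (A.inv_mem ha) (A.inv_mem hb)
  inv_mem' := by
    rintro a ⟨ha, ha'⟩
    refine ⟨A.inv_mem ha, ?_⟩
    have h1 : z * a⁻¹ * z⁻¹ = (z * a * z⁻¹)⁻¹ := by group
    rw [h1, ha']

theorem mem_invSub (hA : Cfsg.IsElementaryAbelian 3 A) {z a : S} :
    a ∈ invSub hA z ↔ a ∈ A ∧ z * a * z⁻¹ = a⁻¹ := Iff.rfl

end L9

section data

variable [Finite S] {A : Subgroup S} [hAn : A.Normal]

theorem sq_ne_neg_one_zmod3 : ∀ x : ZMod 3, x * x + 1 ≠ 0 := by decide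

/-- the central involution of `D_8` inverts `A` -/
theorem z_inverts (hA : Cfsg.IsElementaryAbelian 3 A) (hA9 : Nat.card ↥A = 9)
    (ψ : DihedralGroup 4 →* S)
    (hfaith : ∀ g : DihedralGroup 4, (∀ a ∈ A, ψ g * a * (ψ g)⁻¹ = a) → g = 1) :
    ∀ a ∈ A, ψ (r 2) * a * (ψ (r 2))⁻¹ = a⁻¹ := by
  set z := ψ (r 2) with hz
  set ρ := ψ (r 1) with hρ
  have hzρ : z = ρ * ρ := by
    rw [hz, hρ, ← map_mul]; exact congrArg ψ (by decide)
  have hzz : z * z = 1 := by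
    rw [hz, ← map_mul, ← map_one ψ]; exact congrArg ψ (by decide)
  have hzinv : z⁻¹ = z := inv_eq_of_mul_eq_one_right hzz
  -- a nontrivial inverted element
  have hex : ∃ a ∈ A, z * a * z⁻¹ ≠ a := by
    by_contra hcon
    push_neg at hcon
    have := hfaith (r 2) hcon
    exact absurd this (by decide)
  obtain ⟨a, ha, haz⟩ := hex
  set v := a⁻¹ * (z * a * z⁻¹) with hv
  have hzaA : z * a * z⁻¹ ∈ A := hAn.conj_mem a ha z
  have hvA : v ∈ A := A.mul_mem (A.inv_mem ha) hzaA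
  have hv1 : v ≠ 1 := by
    intro h
    apply haz
    rw [hv] at h
    calc z * a * z⁻¹ = a * (a⁻¹ * (z * a * z⁻¹)) := by group
      _ = a := by rw [h, mul_one]
  have hvinv : z * v * z⁻¹ = v⁻¹ := by
    rw [hv]
    have h1 : z * (a⁻¹ * (z * a * z⁻¹)) * z⁻¹ = (z * a * z⁻¹)⁻¹ * ((z * z) * a * (z * z)⁻¹) := by
      group
    rw [h1, hzz]
    group
  have hvI : v ∈ invSub hA z := ⟨hvA, hvinv⟩
  set v' := ρ * v * ρ⁻¹ with hv'
  have hv'A : v' ∈ A := hAn.conj_mem v hvA ρ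
  have hv'I : v' ∈ invSub hA z := by
    refine ⟨hv'A, ?_⟩
    have h1 : z * v' * z⁻¹ = ρ * (z * v * z⁻¹) * ρ⁻¹ := by
      rw [hv', hzρ]; group
    rw [h1, hvinv, hv']
    group
  have hnot : v' ∉ Subgroup.zpowers v := by
    intro hmem
    obtain ⟨k, hk⟩ := Subgroup.mem_zpowers_iff.mp hmem
    -- z v z⁻¹ = ρ v' ρ⁻¹ = v ^ (k*k)
    have h1 : z * v * z⁻¹ = ρ * v' * ρ⁻¹ := by rw [hv', hzρ]; group
    have h2 : ρ * v' * ρ⁻¹ = v ^ (k * k) := by
      rw [← hk]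
      have : ρ * v ^ k * ρ⁻¹ = (ρ * v * ρ⁻¹) ^ k := (conj_zpow (a := ρ) (b := v) (i := k)).symm
      rw [this, ← hv', ← hk, ← zpow_mul]
    have h3 : v ^ (k * k + 1) = 1 := by
      rw [zpow_add, zpow_one, ← h2, ← h1, hvinv, inv_mul_cancel]
    have h4 : ((orderOf v : ℕ) : ℤ) ∣ k * k + 1 := orderOf_dvd_iff_zpow_eq_one.mpr h3
    rw [orderOf_eq_three hA hvA hv1] at h4
    have h5 : ((k * k + 1 : ℤ) : ZMod 3) = 0 := (ZMod.intCast_zmod_eq_zero_iff_dvd _ 3).mpr h4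
    push_cast at h5
    exact sq_ne_neg_one_zmod3 _ h5
  have hle : A ≤ invSub hA z := le_of_mem_of_mem hA hA9 hvA hv'A hv1 hnot hvI hv'I
  intro b hb
  exact (hle hb).2

/-- a non-central involution of `D_8` centralizes a nontrivial element of `A` -/
theorem exists_fixed (hA : Cfsg.IsElementaryAbelian 3 A) (hA9 : Nat.card ↥A = 9)
    (ψ : DihedralGroup 4 →* S)
    (hfaith : ∀ g : DihedralGroup 4, (∀ a ∈ A, ψ g * a * (ψ g)⁻¹ = a) → g = 1)
    (g : DihedralGroup 4) (hgg : g * g = 1) (hg2 : g * r 2 ≠ 1) :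
    ∃ c ∈ A, c ≠ 1 ∧ ψ g * c * (ψ g)⁻¹ = c := by
  by_contra hcon
  push_neg at hcon
  set σ := ψ g with hσ
  have hσσ : σ * σ = 1 := by rw [hσ, ← map_mul, hgg, map_one]
  have hinv : ∀ a ∈ A, σ * a * σ⁻¹ = a⁻¹ := by
    intro a ha
    have hσa : σ * a * σ⁻¹ ∈ A := hAn.conj_mem a ha σ
    have hu : σ * (a * (σ * a * σ⁻¹)) * σ⁻¹ = a * (σ * a * σ⁻¹) := by
      have h1 : σ * (a * (σ * a * σ⁻¹)) * σ⁻¹ = (σ * a * σ⁻¹) * ((σ * σ) * a * (σ * σ)⁻¹) := by
        group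
      rw [h1, hσσ, inv_one, one_mul, mul_one]
      exact comm_of_mem hA hσa ha
    have h1 : a * (σ * a * σ⁻¹) = 1 := by
      by_contra hne
      exact hcon _ (A.mul_mem ha hσa) hne hu
    exact eq_inv_of_mul_eq_one_right h1
  have hz := z_inverts hA hA9 ψ hfaith
  have : g * r 2 = 1 := by
    apply hfaith
    intro a ha
    rw [map_mul]
    have h1 : ψ g * ψ (r 2) * a * (ψ g * ψ (r 2))⁻¹ = σ * (ψ (r 2) * a * (ψ (r 2))⁻¹) * σ⁻¹ := by
      rw [hσ]; group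
    rw [h1, hz a ha, hinv _ (A.inv_mem ha), inv_inv]
  exact hg2 this

end data

end Cfsg.Agent.Lib.H1.D8Mod
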