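import Cfsg.Agent.Lib.H1.D8ModD

/-!
# Relations and generation for `3^2 : D_8` (helper1)
-/

set_option autoImplicit false

namespace Cfsg.Agent.Lib.H1.D8Mod

open DihedralGroup

variable {S : Type*} [Group S]

/-- group-level relations -/
structure GRel (c d r s : S) : Prop where
  c3 : c * c * c = 1
  d3 : d * d * d = 1
  cd : c * d = d * c
  r4 : r * r * r * r = 1
  s2 : s * s = 1
  sr : s * r = r * r * r * s
  rc : r * c = d * r
  rd : r * d = c * c * r
  sc : s * c = c * s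
  sd : s * d = d * d * s

variable [Finite S] {A : Subgroup S} [hAn : A.Normal]

theorem grel_of_data (hA : Cfsg.IsElementaryAbelian 3 A) (hA9 : Nat.card ↥A = 9)
    (ψ : DihedralGroup 4 →* S)
    (hfaith : ∀ g : DihedralGroup 4, (∀ a ∈ A, ψ g * a * (ψ g)⁻¹ = a) → g = 1)
    (g : DihedralGroup 4) (hgg : g * g = 1) (hgr : g * r 1 = r 1 * r 1 * r 1 * g)
    {c : S} (hc : c ∈ A) (hσc : ψ g * c * (ψ g)⁻¹ = c) :
    GRel c (ψ (r 1) * c * (ψ (r 1))⁻¹) (ψ (r 1)) (ψ g) := by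
  set ρ := ψ (r 1) with hρ
  set σ := ψ g with hσ
  have hd : ρ * c * ρ⁻¹ ∈ A := hAn.conj_mem c hc ρ
  have hc3 : c * c * c = 1 := by rw [← pow_three']; exact hA.2 c hc
  have hd3 : (ρ * c * ρ⁻¹) * (ρ * c * ρ⁻¹) * (ρ * c * ρ⁻¹) = 1 := by
    rw [← pow_three']; exact hA.2 _ hd
  have hr4 : ρ * ρ * ρ * ρ = 1 := by
    rw [hρ, ← map_mul, ← map_mul, ← map_mul, ← map_one ψ]; exact congrArg ψ (by decide)
  have hs2 : σ * σ = 1 := by rw [hσ, ← map_mul, hgg, map_one]
  have hsr : σ * ρ = ρ * ρ * ρ * σ := by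
    rw [hσ, hρ, ← map_mul, ← map_mul, ← map_mul, ← map_mul, hgr]
  have hz := z_inverts hA hA9 ψ hfaith c hc
  have hzρ : ψ (r 2) = ρ * ρ := by
    rw [hρ, ← map_mul]; exact congrArg ψ (by decide)
  rw [hzρ] at hz
  have hcinv : c⁻¹ = c * c := by
    apply inv_eq_of_mul_eq_one_right
    rw [← mul_assoc]; exact hc3
  have hdinv : (ρ * c * ρ⁻¹)⁻¹ = (ρ * c * ρ⁻¹) * (ρ * c * ρ⁻¹) := by
    apply inv_eq_of_mul_eq_one_right
    rw [← mul_assoc]; exact hd3
  have hρinv : ρ⁻¹ = ρ * ρ * ρ := by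
    apply inv_eq_of_mul_eq_one_right
    rw [← mul_assoc, ← mul_assoc]; exact hr4
  have hσinv : σ⁻¹ = σ := inv_eq_of_mul_eq_one_right hs2
  refine ⟨hc3, hd3, comm_of_mem hA hc hd, hr4, hs2, hsr, by group, ?_, ?_, ?_⟩
  · -- r d = c c r
    have h1 : ρ * (ρ * c * ρ⁻¹) = (ρ * ρ * c * (ρ * ρ)⁻¹) * ρ := by group
    rw [h1, hz, hcinv]
  · -- s c = c s
    calc σ * c = (σ * c * σ⁻¹) * σ := by group
      _ = c * σ := by rw [hσc]
  · -- s d = d d s
    have hsrs : σ * ρ * σ⁻¹ = ρ⁻¹ := by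
      rw [hsr, hρinv]; group
    have h1 : σ * (ρ * c * ρ⁻¹) = ((σ * ρ * σ⁻¹) * (σ * c * σ⁻¹) * (σ * ρ * σ⁻¹)⁻¹) * σ := by group
    rw [h1, hsrs, hσc, ← hdinv]
    have h2 : (ρ * c * ρ⁻¹)⁻¹ = ρ⁻¹ * (ρ * ρ * c * (ρ * ρ)⁻¹)⁻¹ * ρ := by group
    rw [h2, hz]
    group

/-- `D_8` is generated by `r 1` and any reflection -/
theorem closure_r_sr (i : ZMod 4) :
    Subgroup.closure ({r 1, sr i} : Set (DihedralGroup 4)) = ⊤ := by
  rw [eq_top_iff]
  intro h _
  have hr1 : (r 1 : DihedralGroup 4) ∈ Subgroup.closure ({r 1, sr i} : Set (DihedralGroup 4)) :=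
    Subgroup.subset_closure (Set.mem_insert _ _)
  have hsr : (sr i : DihedralGroup 4) ∈ Subgroup.closure ({r 1, sr i} : Set (DihedralGroup 4)) :=
    Subgroup.subset_closure (Set.mem_insert_of_mem _ rfl)
  have hrj : ∀ j : ZMod 4, (r j : DihedralGroup 4) ∈
      Subgroup.closure ({r 1, sr i} : Set (DihedralGroup 4)) := by
    intro j
    have : (r j : DihedralGroup 4) = (r 1) ^ j.val := by
      rw [r_one_pow]; congr 1; exact (ZMod.natCast_zmod_val j).symm
    rw [this]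
    exact Subgroup.pow_mem _ hr1 _
  cases h with
  | r j => exact hrj j
  | sr j =>
    have : (sr j : DihedralGroup 4) = sr i * r (j - i) := by
      rw [sr_mul_r]; congr 1; ring
    rw [this]
    exact Subgroup.mul_mem _ hsr (hrj _)

omit [Finite S] in
/-- `d` is not a power of `c` -/
theorem not_mem_zpowers {c d r s : S} (hc1 : c ≠ 1) (hrel : GRel c d r s) :
    d ∉ Subgroup.zpowers c := by
  intro hmem
  have hcent : Subgroup.zpowers c ≤ Subgroup.centralizer ({s} : Set S) := by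
    rw [Subgroup.zpowers_le, Subgroup.mem_centralizer_iff]
    intro x hx
    rw [Set.mem_singleton_iff] at hx
    rw [hx]; exact hrel.sc
  have h1 := Subgroup.mem_centralizer_iff.mp (hcent hmem) s rfl
  have h2 : d * s = d * d * s := by rw [← h1]; exact hrel.sd
  have h3 : d = 1 := by
    have := mul_right_cancel h2
    calc d = d * d * d⁻¹ := by group
      _ = d * d⁻¹ := by rw [← this]
      _ = 1 := mul_inv_cancel d
  apply hc1
  have h4 := hrel.rc
  rw [h3, one_mul] at h4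
  have : c = r⁻¹ * (r * c) := by group
  rw [this, h4, inv_mul_cancel]

omit hAn in
theorem closure_eq_top (hA : Cfsg.IsElementaryAbelian 3 A) (hA9 : Nat.card ↥A = 9)
    (ψ : DihedralGroup 4 →* S) (hAX : A ⊔ ψ.range = ⊤) (i : ZMod 4)
    {c d : S} (hc : c ∈ A) (hd : d ∈ A) (hc1 : c ≠ 1) (hrel : GRel c d (ψ (r 1)) (ψ (sr i))) :
    Subgroup.closure ({c, d, ψ (r 1), ψ (sr i)} : Set S) = ⊤ := by
  set K := Subgroup.closure ({c, d, ψ (r 1), ψ (sr i)} : Set S) with hK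
  have hcK : c ∈ K := Subgroup.subset_closure (by simp)
  have hdK : d ∈ K := Subgroup.subset_closure (by simp)
  have hrK : ψ (r 1) ∈ K := Subgroup.subset_closure (by simp)
  have hsK : ψ (sr i) ∈ K := Subgroup.subset_closure (by simp)
  have hnot : d ∉ Subgroup.zpowers c := not_mem_zpowers hc1 hrel
  have hAK : A ≤ K := le_of_mem_of_mem hA hA9 hc hd hc1 hnot hcK hdK
  have hXK : ψ.range ≤ K := by
    rw [MonoidHom.range_eq_map, ← closure_r_sr i, MonoidHom.map_closure, Subgroup.closure_le]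
    rintro x ⟨y, hy, rfl⟩
    rcases hy with rfl | rfl
    · exact hrK
    · exact hsK
  rw [eq_top_iff, ← hAX]
  exact sup_le hAK hXK

end Cfsg.Agent.Lib.H1.D8Mod
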