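import Cfsg.Agent.Lib.H1.D8ModC
import Cfsg.Agent.Lib.H1.D8ModE

/-!
# From the group `3^2 : D_8` and a faithful irreducible module to the operator context (helper1)
-/

set_option autoImplicit false

namespace Cfsg.Agent.Lib.H1.D8Mod

open DihedralGroup

variable {S : Type*} [Group S] {M : Type*} [AddCommGroup M] [Module (ZMod 2) M]
  (ρ : Representation (ZMod 2) S M)

theorem rel_of_grel {c d r s : S} (h : GRel c d r s) : Rel (ρ c) (ρ d) (ρ r) (ρ s) where
  c3 := by rw [← map_mul, ← map_mul, h.c3, map_one]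
  d3 := by rw [← map_mul, ← map_mul, h.d3, map_one]
  cd := by rw [← map_mul, ← map_mul, h.cd]
  r4 := by rw [← map_mul, ← map_mul, ← map_mul, h.r4, map_one]
  t2 := by rw [← map_mul, h.s2, map_one]
  tr := by rw [← map_mul, ← map_mul, ← map_mul, ← map_mul, h.sr]
  rc := by rw [← map_mul, ← map_mul, h.rc]
  rd := by rw [← map_mul, ← map_mul, ← map_mul, h.rd]
  tc := by rw [← map_mul, ← map_mul, h.sc]
  td := by rw [← map_mul, ← map_mul, ← map_mul, h.sd]

/-- the submonoid of elements preserving a submodule -/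
def presSub (N : Submodule (ZMod 2) M) : Submonoid S where
  carrier := {g | ∀ m ∈ N, ρ g m ∈ N}
  one_mem' := by intro m hm; rw [map_one]; exact hm
  mul_mem' := by
    intro a b ha hb m hm
    rw [map_mul]
    exact ha _ (hb m hm)

theorem inv_all_of_gens [Finite S] {c d r s : S}
    (hgen : Subgroup.closure ({c, d, r, s} : Set S) = ⊤) (N : Submodule (ZMod 2) M)
    (hc : Inv (ρ c) N) (hd : Inv (ρ d) N) (hr : Inv (ρ r) N) (hs : Inv (ρ s) N) :
    ∀ g : S, ∀ m ∈ N, ρ g m ∈ N := by
  have h1 : Submonoid.closure ({c, d, r, s} : Set S) ≤ presSub ρ N := by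
    rw [Submonoid.closure_le]
    intro x hx
    rcases hx with rfl | rfl | rfl | rfl
    · exact hc
    · exact hd
    · exact hr
    · exact hs
  have h2 : Submonoid.closure ({c, d, r, s} : Set S) = ⊤ := by
    rw [← Subgroup.closure_toSubmonoid_of_finite, hgen]
    rfl
  intro g
  have : g ∈ presSub ρ N := h1 (by rw [h2]; exact Submonoid.mem_top g)
  exact this

/-- stabilizer of a vector -/
def stabV (x : M) : Subgroup S where
  carrier := {g | ρ g x = x}
  one_mem' := by change ρ 1 x = x; rw [map_one]; rfl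
  mul_mem' := by
    intro a b ha hb
    change ρ (a * b) x = x
    rw [map_mul]
    change ρ a (ρ b x) = x
    rw [hb, ha]
  inv_mem' := by
    intro a ha
    change ρ a⁻¹ x = x
    have h1 : ρ a⁻¹ (ρ a x) = x := by
      have : (ρ a⁻¹ * ρ a) x = x := by rw [← map_mul, inv_mul_cancel, map_one]; rfl
      exact this
    rw [ha] at h1
    exact h1

theorem mem_stabV {x : M} {g : S} : g ∈ stabV ρ x ↔ ρ g x = x := Iff.rfl

/-- the common fixed space of a normal subgroup -/
def fixA (A : Subgroup S) : Submodule (ZMod 2) M where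
  carrier := {x | ∀ a ∈ A, ρ a x = x}
  add_mem' := by
    intro x y hx hy a ha
    rw [map_add, hx a ha, hy a ha]
  zero_mem' := by intro a _; exact map_zero _
  smul_mem' := by
    intro k x hx a ha
    rw [map_smul, hx a ha]

theorem fixA_invariant (A : Subgroup S) [hAn : A.Normal] (g : S) :
    ∀ x ∈ fixA ρ A, ρ g x ∈ fixA ρ A := by
  intro x hx a ha
  have h1 : g⁻¹ * a * g ∈ A := by
    have := hAn.conj_mem a ha g⁻¹
    rwa [inv_inv] at this
  have h2 : a * g = g * (g⁻¹ * a * g) := by group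
  calc ρ a (ρ g x) = (ρ a * ρ g) x := rfl
    _ = ρ (a * g) x := by rw [map_mul]
    _ = ρ (g * (g⁻¹ * a * g)) x := by rw [h2]
    _ = ρ g (ρ (g⁻¹ * a * g) x) := by rw [map_mul]; rfl
    _ = ρ g x := by rw [hx _ h1]

variable [Finite S] {A : Subgroup S} [hAn : A.Normal]

/-- the operator context from the group data -/
theorem ctx_of_data (hA : Cfsg.IsElementaryAbelian 3 A) (hA9 : Nat.card ↥A = 9)
    (ψ : DihedralGroup 4 →* S) (hAX : A ⊔ ψ.range = ⊤) (i : ZMod 4)
    (hfaith : Function.Injective ρ)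
    (hirr : ∀ N : Submodule (ZMod 2) M, (∀ s : S, ∀ m ∈ N, ρ s m ∈ N) → N = ⊥ ∨ N = ⊤)
    {c d : S} (hc : c ∈ A) (hd : d ∈ A) (hc1 : c ≠ 1) (hrel : GRel c d (ψ (r 1)) (ψ (sr i))) :
    Ctx (ρ c) (ρ d) (ρ (ψ (r 1))) (ρ (ψ (sr i))) := by
  have hgen := closure_eq_top hA hA9 ψ hAX i hc hd hc1 hrel
  refine { toRel := rel_of_grel ρ hrel, irr := ?_, noAfix := ?_ }
  · intro N h1 h2 h3 h4
    exact hirr N (inv_all_of_gens ρ hgen N h1 h2 h3 h4)
  · intro x hcx hdx
    -- A fixes x
    have hAle : A ≤ stabV ρ x := by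
      have hcK : c ∈ Subgroup.closure ({c, d, ψ (r 1), ψ (sr i)} : Set S) :=
        Subgroup.subset_closure (by simp)
      apply le_of_mem_of_mem hA hA9 hc hd hc1 (not_mem_zpowers hc1 hrel) hcx hdx
    have hx : x ∈ fixA ρ A := fun a ha => hAle ha
    rcases hirr (fixA ρ A) (fun g => fixA_invariant ρ A g) with h0 | h1
    · rw [h0] at hx
      exact (Submodule.mem_bot _).mp hx
    · exfalso
      apply hc1
      apply hfaith
      rw [map_one]
      ext y
      have : y ∈ fixA ρ A := by rw [h1]; exact Submodule.mem_top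
      exact this c hc

end Cfsg.Agent.Lib.H1.D8Mod
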