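import Cfsg.Agent.Lib.H1.D8ModF

/-!
# The faithful irreducible `F_2`-modules of `3^2 : D_8` (helper1)
-/

set_option autoImplicit false

namespace Cfsg.Agent.Lib.H1.D8Mod

open DihedralGroup

variable {S : Type*} [Group S] [Finite S] {M : Type*} [AddCommGroup M] [Module (ZMod 2) M]
  (ρ : Representation (ZMod 2) S M) {A : Subgroup S} [hAn : A.Normal]

theorem sr_sq : ∀ i : ZMod 4, (sr i : DihedralGroup 4) * sr i = 1 := by decide

theorem sr_r : ∀ i : ZMod 4, (sr i : DihedralGroup 4) * r 1 = r 1 * r 1 * r 1 * sr i := by decide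

theorem sr_r2_ne : ∀ i : ZMod 4, (sr i : DihedralGroup 4) * r 2 ≠ 1 := by decide

/-- the statement for one choice of reflection `sr i` and `c ∈ C_A(sr i)` with a fixed vector -/
theorem data_theorem (hA : Cfsg.IsElementaryAbelian 3 A) (hA9 : Nat.card ↥A = 9)
    (ψ : DihedralGroup 4 →* S) (hAX : A ⊔ ψ.range = ⊤)
    (hfaithA : ∀ g : DihedralGroup 4, (∀ a ∈ A, ψ g * a * (ψ g)⁻¹ = a) → g = 1)
    (hfaith : Function.Injective ρ)
    (hirr : ∀ N : Submodule (ZMod 2) M, (∀ s : S, ∀ m ∈ N, ρ s m ∈ N) → N = ⊥ ∨ N = ⊤)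
    (i : ZMod 4) {c : S} (hc : c ∈ A) (hc1 : c ≠ 1) (hσc : ψ (sr i) * c * (ψ (sr i))⁻¹ = c)
    (hfix : ∃ x : M, x ≠ 0 ∧ ρ c x = x) :
    Nat.card M = 16 ∧
      Nat.card {x : M // ρ (ψ (sr i)) x = x ∧ ρ (ψ (r 2)) x = x} = 4 ∧
      Nat.card {x : M // ρ (ψ (sr (i + 1))) x = x ∧ ρ (ψ (r 2)) x = x} = 2 := by
  have hrel := grel_of_data hA hA9 ψ hfaithA (sr i) (sr_sq i) (sr_r i) hc hσc
  have hd : ψ (r 1) * c * (ψ (r 1))⁻¹ ∈ A := hAn.conj_mem c hc _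
  have hctx := ctx_of_data ρ hA hA9 ψ hAX i hfaith hirr hc hd hc1 hrel
  have hfixS : fixS (ρ c) ≠ ⊥ := by
    obtain ⟨x, hx0, hx⟩ := hfix
    intro hbot
    apply hx0
    have : x ∈ fixS (ρ c) := mem_fixS.mpr hx
    rw [hbot] at this
    exact (Submodule.mem_bot _).mp this
  have hRR : ∀ x : M, ρ (ψ (r 1)) (ρ (ψ (r 1)) x) = ρ (ψ (r 2)) x := by
    intro x
    have h1 : ρ (ψ (r 2)) = ρ (ψ (r 1)) * ρ (ψ (r 1)) := by
      rw [← map_mul, ← map_mul]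
      congr 2
    rw [h1]; rfl
  have hTR : ∀ x : M, ρ (ψ (sr i)) (ρ (ψ (r 1)) x) = ρ (ψ (sr (i + 1))) x := by
    intro x
    have h1 : ρ (ψ (sr (i + 1))) = ρ (ψ (sr i)) * ρ (ψ (r 1)) := by
      rw [← map_mul, ← map_mul]
      congr 2
    rw [h1]; rfl
  refine ⟨hctx.card_eq hfixS, ?_, ?_⟩
  · refine (Nat.card_congr ?_).trans (hctx.card_fix_T_RR hfixS)
    apply Equiv.subtypeEquivRight
    intro x
    rw [hRR]
  · refine (Nat.card_congr ?_).trans (hctx.card_fix_TR_RR hfixS)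
    apply Equiv.subtypeEquivRight
    intro x
    rw [hRR, hTR]

end Cfsg.Agent.Lib.H1.D8Mod
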