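import Cfsg.Agent.Lib.H1.D8ModG

/-!
# Case analysis: which subgroup of order 3 has fixed vectors (helper1)
-/

set_option autoImplicit false

namespace Cfsg.Agent.Lib.H1.D8Mod

open DihedralGroup

variable {S : Type*} [Group S]

/-- conjugation forms of the relations -/
theorem GRel.conj_forms {c d r s : S} (h : GRel c d r s) :
    r * c * r⁻¹ = d ∧ r * d * r⁻¹ = c⁻¹ ∧ s * c * s⁻¹ = c ∧ s * d * s⁻¹ = d⁻¹ := by
  have hcinv : c⁻¹ = c * c := by
    apply inv_eq_of_mul_eq_one_right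
    rw [← mul_assoc]; exact h.c3
  have hdinv : d⁻¹ = d * d := by
    apply inv_eq_of_mul_eq_one_right
    rw [← mul_assoc]; exact h.d3
  refine ⟨?_, ?_, ?_, ?_⟩
  · rw [h.rc]; group
  · rw [h.rd, hcinv]; group
  · rw [h.sc]; group
  · rw [h.sd, hdinv]; group

theorem GRel.fix3 {c d r s : S} (h : GRel c d r s) :
    (s * r⁻¹) * (c * d) * (s * r⁻¹)⁻¹ = c * d := by
  obtain ⟨e1, e2, e3, e4⟩ := h.conj_forms
  have f1 : r⁻¹ * c * r = d⁻¹ := by
    have : d⁻¹ = r⁻¹ * (r * d * r⁻¹)⁻¹ * r := by group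
    rw [this, e2, inv_inv]
  have f2 : r⁻¹ * d * r = c := by
    rw [← e1]; group
  calc (s * r⁻¹) * (c * d) * (s * r⁻¹)⁻¹
      = s * ((r⁻¹ * c * r) * (r⁻¹ * d * r)) * s⁻¹ := by group
    _ = s * (d⁻¹ * c) * s⁻¹ := by rw [f1, f2]
    _ = (s * d * s⁻¹)⁻¹ * (s * c * s⁻¹) := by group
    _ = d * c := by rw [e4, e3, inv_inv]
    _ = c * d := h.cd.symm

theorem GRel.fix1 {c d r s : S} (h : GRel c d r s) :
    (s * r) * (c * d * d) * (s * r)⁻¹ = c * d * d := by
  obtain ⟨e1, e2, e3, e4⟩ := h.conj_forms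
  have hcinv : c⁻¹ * c⁻¹ = c := by
    have : c⁻¹ * c⁻¹ = (c * c * c)⁻¹ * c := by group
    rw [this, h.c3, inv_one, one_mul]
  have hdinv : d⁻¹ = d * d := by
    apply inv_eq_of_mul_eq_one_right
    rw [← mul_assoc]; exact h.d3
  calc (s * r) * (c * d * d) * (s * r)⁻¹
      = s * ((r * c * r⁻¹) * (r * d * r⁻¹) * (r * d * r⁻¹)) * s⁻¹ := by group
    _ = s * (d * c⁻¹ * c⁻¹) * s⁻¹ := by rw [e1, e2]
    _ = (s * d * s⁻¹) * ((s * c * s⁻¹)⁻¹ * (s * c * s⁻¹)⁻¹) := by group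
    _ = d⁻¹ * c := by rw [e4, e3, hcinv]
    _ = d * d * c := by rw [hdinv]
    _ = c * d * d := by rw [mul_assoc, ← h.cd, ← mul_assoc, ← h.cd]

variable [Finite S] {M : Type*} [AddCommGroup M] [Module (ZMod 2) M]
  (ρ : Representation (ZMod 2) S M) {A : Subgroup S} [hAn : A.Normal]

theorem sr_add_two : ∀ i : ZMod 4, (sr (i + 2) : DihedralGroup 4) = sr i * r 2 := by decide

omit [Finite S] in
theorem fix_shift (ψ : DihedralGroup 4 →* S) (i : ZMod 4) (x : M) :
    (ρ (ψ (sr (i + 2))) x = x ∧ ρ (ψ (r 2)) x = x) ↔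
      (ρ (ψ (sr i)) x = x ∧ ρ (ψ (r 2)) x = x) := by
  have h1 : ρ (ψ (sr (i + 2))) x = ρ (ψ (sr i)) (ρ (ψ (r 2)) x) := by
    rw [sr_add_two, map_mul, map_mul]; rfl
  constructor
  · rintro ⟨ha, hb⟩
    rw [h1, hb] at ha
    exact ⟨ha, hb⟩
  · rintro ⟨ha, hb⟩
    refine ⟨?_, hb⟩
    rw [h1, hb, ha]

omit [Finite S] in
theorem card_fix_shift (ψ : DihedralGroup 4 →* S) (i : ZMod 4) :
    Nat.card {x : M // ρ (ψ (sr (i + 2))) x = x ∧ ρ (ψ (r 2)) x = x} =
      Nat.card {x : M // ρ (ψ (sr i)) x = x ∧ ρ (ψ (r 2)) x = x} :=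
  Nat.card_congr (Equiv.subtypeEquivRight (fix_shift ρ ψ i))

/-- the two four-groups `⟨sr 0, r 2⟩` and `⟨sr 1, r 2⟩` have `4` and `2` fixed vectors, in some
order, and `M` has 16 elements -/
theorem cases_theorem (hA : Cfsg.IsElementaryAbelian 3 A) (hA9 : Nat.card ↥A = 9)
    (ψ : DihedralGroup 4 →* S) (hAX : A ⊔ ψ.range = ⊤)
    (hfaithA : ∀ g : DihedralGroup 4, (∀ a ∈ A, ψ g * a * (ψ g)⁻¹ = a) → g = 1)
    (hfaith : Function.Injective ρ)
    (hirr : ∀ N : Submodule (ZMod 2) M, (∀ s : S, ∀ m ∈ N, ρ s m ∈ N) → N = ⊥ ∨ N = ⊤)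
    [Nontrivial M] :
    Nat.card M = 16 ∧
      ((Nat.card {x : M // ρ (ψ (sr 0)) x = x ∧ ρ (ψ (r 2)) x = x} = 4 ∧
        Nat.card {x : M // ρ (ψ (sr 1)) x = x ∧ ρ (ψ (r 2)) x = x} = 2) ∨
       (Nat.card {x : M // ρ (ψ (sr 1)) x = x ∧ ρ (ψ (r 2)) x = x} = 4 ∧
        Nat.card {x : M // ρ (ψ (sr 0)) x = x ∧ ρ (ψ (r 2)) x = x} = 2)) := by
  obtain ⟨c, hc, hc1, hσc⟩ := exists_fixed hA hA9 ψ hfaithA (sr 0) (sr_sq 0) (sr_r2_ne 0)
  have hrel := grel_of_data hA hA9 ψ hfaithA (sr 0) (sr_sq 0) (sr_r 0) hc hσc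
  set d := ψ (r 1) * c * (ψ (r 1))⁻¹ with hd
  have hdA : d ∈ A := hAn.conj_mem c hc _
  have hnot := not_mem_zpowers hc1 hrel
  by_cases h0 : ∃ x : M, x ≠ 0 ∧ ρ c x = x
  · obtain ⟨h16, h4, h2⟩ := data_theorem ρ hA hA9 ψ hAX hfaithA hfaith hirr 0 hc hc1 hσc h0
    rw [zero_add] at h2
    exact ⟨h16, Or.inl ⟨h4, h2⟩⟩
  · push_neg at h0
    have hR := rel_of_grel ρ hrel
    have hCfix : ∀ x : M, ρ c x = x → x = 0 := by
      intro x hx
      by_contra hne
      exact h0 x hne hx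
    have hDfix : ∀ y : M, ρ d y = y → y = 0 := by
      intro y hy
      have h1 : ρ c (ρ (ψ (r 1)) (ρ (ψ (r 1)) (ρ (ψ (r 1)) y))) =
          ρ (ψ (r 1)) (ρ (ψ (r 1)) (ρ (ψ (r 1)) y)) := by
        rw [hR.cr_apply, ← hR.rrd_apply, hy]
      have h2 := hCfix _ h1
      apply hR.r_injective
      apply hR.r_injective
      apply hR.r_injective
      rw [h2, map_zero, map_zero, map_zero]
    have hCC : ∀ x : M, ρ c (ρ c x) = x + ρ c x := by
      intro x
      have h1 : ρ c (x + ρ c x + ρ c (ρ c x)) = x + ρ c x + ρ c (ρ c x) := by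
        rw [map_add, map_add, hR.c3_apply]; abel
      have h2 := hCfix _ h1
      calc ρ c (ρ c x) = (x + ρ c x) + (x + ρ c x + ρ c (ρ c x)) := by
            rw [← add_assoc, add_self_m, zero_add]
        _ = x + ρ c x := by rw [h2, add_zero]
    have hDD : ∀ x : M, ρ d (ρ d x) = x + ρ d x := by
      intro x
      have h1 : ρ d (x + ρ d x + ρ d (ρ d x)) = x + ρ d x + ρ d (ρ d x) := by
        rw [map_add, map_add, hR.d3_apply]; abel
      have h2 := hDfix _ h1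
      calc ρ d (ρ d x) = (x + ρ d x) + (x + ρ d x + ρ d (ρ d x)) := by
            rw [← add_assoc, add_self_m, zero_add]
        _ = x + ρ d x := by rw [h2, add_zero]
    obtain ⟨x, hx0⟩ := exists_ne (0 : M)
    set y := ρ c x + ρ d x with hy
    set y' := x + ρ c x + ρ d x with hy'
    have hsum : y + y' = x := by
      rw [hy, hy']
      calc ρ c x + ρ d x + (x + ρ c x + ρ d x)
          = x + ((ρ c x + ρ c x) + (ρ d x + ρ d x)) := by abel
        _ = x := by rw [add_self_m, add_self_m, add_zero, add_zero]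
    have hf : ρ d (ρ c x) = ρ c (ρ d x) := (hR.cd_apply x).symm
    have hDf : ρ d (ρ c (ρ d x)) = ρ c x + ρ c (ρ d x) := by
      rw [← hR.cd_apply, hDD, map_add]
    have hCf : ρ c (ρ c (ρ d x)) = ρ d x + ρ c (ρ d x) := hCC _
    have hyfix : ρ (c * d) y = y := by
      rw [map_mul]
      change ρ c (ρ d y) = y
      rw [hy, map_add, map_add, hDD, ← hR.cd_apply, map_add, hCC]
      calc ρ d x + ρ c (ρ d x) + (ρ c x + ρ c (ρ d x))
          = (ρ c x + ρ d x) + (ρ c (ρ d x) + ρ c (ρ d x)) := by abel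
        _ = ρ c x + ρ d x := by rw [add_self_m, add_zero]
    have hy'fix : ρ (c * d * d) y' = y' := by
      rw [map_mul, map_mul]
      change ρ c (ρ d (ρ d y')) = y'
      have e1 : ρ d y' = x + ρ c (ρ d x) := by
        rw [hy', map_add, map_add, hf, hDD]
        calc ρ d x + ρ c (ρ d x) + (x + ρ d x)
            = (x + ρ c (ρ d x)) + (ρ d x + ρ d x) := by abel
          _ = x + ρ c (ρ d x) := by rw [add_self_m, add_zero]
      have e2 : ρ d (ρ d y') = ρ d x + (ρ c x + ρ c (ρ d x)) := by rw [e1, map_add, hDf]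
      rw [e2, map_add, map_add, hCC, hCf, hy']
      calc ρ c (ρ d x) + (x + ρ c x + (ρ d x + ρ c (ρ d x)))
          = (x + ρ c x + ρ d x) + (ρ c (ρ d x) + ρ c (ρ d x)) := by abel
        _ = x + ρ c x + ρ d x := by rw [add_self_m, add_zero]
    have hs3 : ψ (sr 3) = ψ (sr 0) * (ψ (r 1))⁻¹ := by
      rw [← map_inv, ← map_mul]; exact congrArg ψ (by decide)
    have hs1 : ψ (sr 1) = ψ (sr 0) * ψ (r 1) := by
      rw [← map_mul]; exact congrArg ψ (by decide)
    by_cases hy0 : y = 0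
    · -- then y' = x ≠ 0 is fixed by c d d; use the reflection sr 1
      have hy'0 : y' ≠ 0 := by
        intro h
        apply hx0
        rw [← hsum, hy0, h, add_zero]
      have hc'A : c * d * d ∈ A := A.mul_mem (A.mul_mem hc hdA) hdA
      have hc'1 : c * d * d ≠ 1 := by
        intro h
        apply hnot
        -- c = (d * d)⁻¹ = d
        have hdinv : (d * d)⁻¹ = d := by
          apply inv_eq_of_mul_eq_one_right
          exact hrel.d3
        have : c = d := by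
          calc c = (c * d * d) * (d * d)⁻¹ := by group
            _ = d := by rw [h, one_mul, hdinv]
        rw [← this]
        exact Subgroup.mem_zpowers c
      have hfixc' : ψ (sr 1) * (c * d * d) * (ψ (sr 1))⁻¹ = c * d * d := by
        rw [hs1]; exact hrel.fix1
      obtain ⟨h16, h4, h2⟩ := data_theorem ρ hA hA9 ψ hAX hfaithA hfaith hirr 1 hc'A hc'1 hfixc'
        ⟨y', hy'0, hy'fix⟩
      refine ⟨h16, Or.inr ⟨h4, ?_⟩⟩
      have e : (1 : ZMod 4) + 1 = 0 + 2 := by decide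
      rw [e, card_fix_shift] at h2
      exact h2
    · -- y ≠ 0 is fixed by c d; use the reflection sr 3
      have hc'A : c * d ∈ A := A.mul_mem hc hdA
      have hc'1 : c * d ≠ 1 := by
        intro h
        apply hnot
        have : d = c⁻¹ := by
          calc d = c⁻¹ * (c * d) := by group
            _ = c⁻¹ := by rw [h, mul_one]
        rw [this]
        exact Subgroup.inv_mem _ (Subgroup.mem_zpowers c)
      have hfixc' : ψ (sr 3) * (c * d) * (ψ (sr 3))⁻¹ = c * d := by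
        rw [hs3]; exact hrel.fix3
      obtain ⟨h16, h4, h2⟩ := data_theorem ρ hA hA9 ψ hAX hfaithA hfaith hirr 3 hc'A hc'1 hfixc'
        ⟨y, hy0, hyfix⟩
      refine ⟨h16, Or.inr ⟨?_, ?_⟩⟩
      · have e : (3 : ZMod 4) = 1 + 2 := by decide
        rw [e, card_fix_shift] at h4
        exact h4
      · have e : (3 : ZMod 4) + 1 = 0 := by decide
        rw [e] at h2
        exact h2

end Cfsg.Agent.Lib.H1.D8Mod
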