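import Cfsg.Agent.Lib.H1.D8ModH

/-!
# The two four-subgroups of `D_8` and the final statement (helper1)
-/

set_option autoImplicit false

namespace Cfsg.Agent.Lib.H1.D8Mod

open DihedralGroup

/-- membership predicate of the four-group `{1, r², s, sr²}` -/
def P0 (g : DihedralGroup 4) : Prop := g = r 0 ∨ g = r 2 ∨ g = sr 0 ∨ g = sr 2

/-- membership predicate of the four-group `{1, r², sr, sr³}` -/
def P1 (g : DihedralGroup 4) : Prop := g = r 0 ∨ g = r 2 ∨ g = sr 1 ∨ g = sr 3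

instance : DecidablePred P0 := fun g => by unfold P0; infer_instance
instance : DecidablePred P1 := fun g => by unfold P1; infer_instance

theorem P0_mul : ∀ a b : DihedralGroup 4, P0 a → P0 b → P0 (a * b) := by decide
theorem P0_inv : ∀ a : DihedralGroup 4, P0 a → P0 a⁻¹ := by decide
theorem P1_mul : ∀ a b : DihedralGroup 4, P1 a → P1 b → P1 (a * b) := by decide
theorem P1_inv : ∀ a : DihedralGroup 4, P1 a → P1 a⁻¹ := by decide

/-- the four-group `{1, r², s, sr²}` -/
def K0 : Subgroup (DihedralGroup 4) where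
  carrier := {g | P0 g}
  one_mem' := Or.inl rfl
  mul_mem' := fun {a b} ha hb => P0_mul a b ha hb
  inv_mem' := fun {a} ha => P0_inv a ha

/-- the four-group `{1, r², sr, sr³}` -/
def K1 : Subgroup (DihedralGroup 4) where
  carrier := {g | P1 g}
  one_mem' := Or.inl rfl
  mul_mem' := fun {a b} ha hb => P1_mul a b ha hb
  inv_mem' := fun {a} ha => P1_inv a ha

theorem mem_K0 {g : DihedralGroup 4} : g ∈ K0 ↔ P0 g := Iff.rfl
theorem mem_K1 {g : DihedralGroup 4} : g ∈ K1 ↔ P1 g := Iff.rfl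

instance : DecidablePred (· ∈ K0) := fun g => decidable_of_iff (P0 g) mem_K0.symm
instance : DecidablePred (· ∈ K1) := fun g => decidable_of_iff (P1 g) mem_K1.symm

theorem card_K0 : Nat.card ↥K0 = 4 := by
  rw [Nat.card_eq_fintype_card]
  decide

theorem card_K1 : Nat.card ↥K1 = 4 := by
  rw [Nat.card_eq_fintype_card]
  decide

theorem key_dec : ∀ a b : DihedralGroup 4, a * a = 1 → b * b = 1 → (a * b) * (a * b) = 1 →
    ¬ P0 a → ¬ P1 b → False := by decide

/-- the four-subgroups of exponent 2 of `D_8` -/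
theorem klein_classification (K : Subgroup (DihedralGroup 4)) (hK4 : Nat.card ↥K = 4)
    (hK2 : ∀ k ∈ K, k * k = 1) : K = K0 ∨ K = K1 := by
  have hle : K ≤ K0 ∨ K ≤ K1 := by
    by_contra hcon
    push_neg at hcon
    obtain ⟨h0, h1⟩ := hcon
    obtain ⟨a, haK, ha0⟩ := SetLike.not_le_iff_exists.mp h0
    obtain ⟨b, hbK, hb1⟩ := SetLike.not_le_iff_exists.mp h1
    exact key_dec a b (hK2 a haK) (hK2 b hbK) (hK2 _ (K.mul_mem haK hbK)) ha0 hb1
  rcases hle with h | h
  · left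
    exact Subgroup.eq_of_le_of_card_ge h (by rw [hK4, card_K0])
  · right
    exact Subgroup.eq_of_le_of_card_ge h (by rw [hK4, card_K1])

variable {S : Type*} [Group S] {M : Type*} [AddCommGroup M] [Module (ZMod 2) M]
  (ρ : Representation (ZMod 2) S M)

theorem fix_K0_iff (ψ : DihedralGroup 4 →* S) (x : M) :
    (∀ b ∈ K0.map ψ, ρ b x = x) ↔ (ρ (ψ (sr 0)) x = x ∧ ρ (ψ (r 2)) x = x) := by
  constructor
  · intro h
    exact ⟨h _ (Subgroup.mem_map_of_mem ψ (mem_K0.mpr (Or.inr (Or.inr (Or.inl rfl))))),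
      h _ (Subgroup.mem_map_of_mem ψ (mem_K0.mpr (Or.inr (Or.inl rfl))))⟩
  · rintro ⟨hs, hr⟩ b ⟨k, hk, rfl⟩
    rcases mem_K0.mp hk with rfl | rfl | rfl | rfl
    · rw [r_zero, map_one, map_one]; rfl
    · exact hr
    · exact hs
    · have : (sr 2 : DihedralGroup 4) = sr 0 * r 2 := by decide
      rw [this, map_mul, map_mul]
      change ρ (ψ (sr 0)) (ρ (ψ (r 2)) x) = x
      rw [hr, hs]

theorem fix_K1_iff (ψ : DihedralGroup 4 →* S) (x : M) :
    (∀ b ∈ K1.map ψ, ρ b x = x) ↔ (ρ (ψ (sr 1)) x = x ∧ ρ (ψ (r 2)) x = x) := by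
  constructor
  · intro h
    exact ⟨h _ (Subgroup.mem_map_of_mem ψ (mem_K1.mpr (Or.inr (Or.inr (Or.inl rfl))))),
      h _ (Subgroup.mem_map_of_mem ψ (mem_K1.mpr (Or.inr (Or.inl rfl))))⟩
  · rintro ⟨hs, hr⟩ b ⟨k, hk, rfl⟩
    rcases mem_K1.mp hk with rfl | rfl | rfl | rfl
    · rw [r_zero, map_one, map_one]; rfl
    · exact hr
    · exact hs
    · have : (sr 3 : DihedralGroup 4) = sr 1 * r 2 := by decide
      rw [this, map_mul, map_mul]
      change ρ (ψ (sr 1)) (ρ (ψ (r 2)) x) = x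
      rw [hr, hs]

end Cfsg.Agent.Lib.H1.D8Mod
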