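import Mathlib
import Cfsg.Prelude.Def_DegreeGraph
import Cfsg.Agent.Lib.H3.DG6048Defs
import Cfsg.Agent.Lib.L0.FiniteOrderEnd

/-!
# S3670 (architect helper3), piece QUAD7 (helper1): character values at an element of order `7`
conjugate to its square are `A + B·α`, `α = ζ + ζ² + ζ⁴`, with `χ(1) = A + 3B + 7m`.
-/

set_option autoImplicit false

namespace Cfsg.Agent.Lib.H1.DG

open Cfsg Cfsg.Agent.Lib.H3.DG Module

theorem zeta7_pow_injective : Function.Injective (fun k : Fin 7 => zeta7 ^ (k : ℕ)) := by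
  intro a b hab
  exact Fin.ext (zeta7_prim.pow_inj a.2 b.2 hab)

/-- a polynomial of degree `< 7` vanishing at the seven `7`-th roots of unity is zero -/
theorem vander7 (d : Fin 7 → ℂ)
    (h : ∀ k : Fin 7, ∑ j : Fin 7, d j * (zeta7 ^ (k : ℕ)) ^ (j : ℕ) = 0) : ∀ j, d j = 0 := by
  classical
  obtain ⟨p, hp⟩ : ∃ p : Polynomial ℂ,
      p = ∑ j : Fin 7, Polynomial.C (d j) * Polynomial.X ^ (j : ℕ) := ⟨_, rfl⟩
  have hdeg : p.natDegree < Fintype.card (Fin 7) := by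
    by_cases h0 : p = 0
    · rw [h0]; simp
    · rw [Polynomial.natDegree_lt_iff_degree_lt h0, hp]
      simpa using Polynomial.degree_sum_fin_lt d
  have hp0 : p = 0 :=
    Polynomial.eq_zero_of_natDegree_lt_card_of_eval_eq_zero p zeta7_pow_injective
      (fun k => by
        rw [hp, Polynomial.eval_finsetSum]
        simpa using h k) hdeg
  intro j
  have h1 := congrArg (fun q => Polynomial.coeff q (j : ℕ)) hp0
  simp only [hp, Polynomial.finsetSum_coeff, Polynomial.coeff_C_mul_X_pow,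
    Polynomial.coeff_zero] at h1
  rw [Finset.sum_eq_single j] at h1
  · simpa using h1
  · intro b _ hb
    rw [if_neg]
    intro hh
    exact hb (Fin.ext hh.symm)
  · simp

section Trace

variable {V : Type*} [AddCommGroup V] [Module ℂ V] [FiniteDimensional ℂ V]

theorem trace_pow_eq_sum_zeta7 {f : End ℂ V} (h7 : f ^ 7 = 1) (k : ℕ) :
    LinearMap.trace ℂ V (f ^ k) =
      ∑ j : Fin 7, (finrank ℂ (f.eigenspace (zeta7 ^ (j : ℕ))) : ℂ) * (zeta7 ^ (j : ℕ)) ^ k := by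
  classical
  have hf := Cfsg.Agent.Lib.L0.isSemisimple_of_pow_eq_one (by norm_num : 0 < 7) h7
  rw [Cfsg.Agent.Lib.L0.trace_pow_eq_sum hf k]
  obtain ⟨F, hF⟩ : ∃ F : ℂ → ℂ, F = fun μ => (finrank ℂ (f.eigenspace μ) : ℂ) * μ ^ k := ⟨_, rfl⟩
  have e1 : ∑ μ : f.Eigenvalues, F (μ : ℂ) =
      ∑ μ ∈ Finset.univ.image (fun μ : f.Eigenvalues => (μ : ℂ)), F μ := by
    rw [Finset.sum_image]
    intro a _ b _ hab
    exact Subtype.ext hab
  have e2 : ∑ j : Fin 7, F (zeta7 ^ (j : ℕ)) =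
      ∑ μ ∈ Finset.univ.image (fun j : Fin 7 => zeta7 ^ (j : ℕ)), F μ := by
    rw [Finset.sum_image (fun a _ b _ hab => zeta7_pow_injective hab)]
  have goal : ∑ μ : f.Eigenvalues, F (μ : ℂ) = ∑ j : Fin 7, F (zeta7 ^ (j : ℕ)) := by
    rw [e1, e2]
    apply Finset.sum_subset
    · intro μ hμ
      obtain ⟨e, -, rfl⟩ := Finset.mem_image.mp hμ
      have := Cfsg.Agent.Lib.L0.eigenvalue_pow_eq_one h7 e
      obtain ⟨i, hi, hie⟩ := zeta7_prim.eq_pow_of_pow_eq_one this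
      exact Finset.mem_image.mpr ⟨⟨i, hi⟩, Finset.mem_univ _, hie⟩
    · intro μ _ hμ
      have hne : ¬ f.HasEigenvalue μ := fun hh =>
        hμ (Finset.mem_image.mpr ⟨⟨μ, hh⟩, Finset.mem_univ _, rfl⟩)
      have hbot : f.eigenspace μ = ⊥ := by
        by_contra hb
        exact hne hb
      rw [hF]
      simp [hbot]
  rw [hF] at goal
  exact goal

end Trace

/-- **QUAD7**. -/
theorem char_at_order7 {G : Type*} [Group G] [Finite G] (χ : G → ℂ) (hχ : IsCharacter G χ) (x h : G)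
    (hx : x ^ 7 = 1) (hconj : h * x * h⁻¹ = x ^ 2) :
    ∃ (A B : ℤ) (m : ℕ), χ x = (A : ℂ) + (B : ℂ) * alpha7 ∧
      (charDegree χ : ℤ) = A + 3 * B + 7 * (m : ℤ) := by
  obtain ⟨n, ρ, rfl⟩ := hχ
  have h7 : (ρ x) ^ 7 = 1 := by rw [← map_pow, hx, map_one]
  obtain ⟨m, hm⟩ : ∃ m : Fin 7 → ℕ,
      m = fun j : Fin 7 => finrank ℂ (Module.End.eigenspace (ρ x : End ℂ (Fin n → ℂ)) (zeta7 ^ (j : ℕ))) := ⟨_, rfl⟩
  have htr : ∀ k : ℕ, ρ.character (x ^ k) =
      ∑ j : Fin 7, (m j : ℂ) * (zeta7 ^ (j : ℕ)) ^ k := by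
    intro k
    have := trace_pow_eq_sum_zeta7 h7 k
    rw [← map_pow] at this
    rw [hm]
    exact this
  have hsq : ∀ k : ℕ, ρ.character (x ^ (2 * k)) = ρ.character (x ^ k) := by
    intro k
    rw [pow_mul, ← hconj, conj_pow, Representation.char_conj]
  -- the seven multiplicities as complex numbers
  have hd := vander7 ![0, (m 1 : ℂ) - m 4, (m 2 : ℂ) - m 1, (m 3 : ℂ) - m 5, (m 4 : ℂ) - m 2,
    (m 5 : ℂ) - m 6, (m 6 : ℂ) - m 3] (by
      intro k
      obtain ⟨w, hw⟩ : ∃ w : ℂ, w = zeta7 ^ (k : ℕ) := ⟨_, rfl⟩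
      have hw7 : w ^ 7 = 1 := by rw [hw, ← pow_mul, mul_comm, pow_mul, zeta7_pow, one_pow]
      have e1 := htr (k : ℕ)
      have e2 := htr (2 * (k : ℕ))
      rw [hsq] at e2
      have c1 : ∀ j : ℕ, (zeta7 ^ j) ^ (k : ℕ) = w ^ j := by
        intro j; rw [hw, ← pow_mul, ← pow_mul, mul_comm]
      have c2 : ∀ j : ℕ, (zeta7 ^ j) ^ (2 * (k : ℕ)) = w ^ (2 * j) := by
        intro j; rw [hw, ← pow_mul, ← pow_mul]; congr 1; ring
      simp only [c1] at e1
      simp only [c2] at e2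
      rw [e1] at e2
      rw [← hw]
      simp only [Fin.sum_univ_seven] at e2 ⊢
      simp only [Fin.isValue, Fin.val_zero, Fin.val_one, Fin.val_two, Matrix.cons_val_zero,
        Matrix.cons_val_one, Matrix.cons_val] at e2 ⊢
      have v3 : ((3 : Fin 7) : ℕ) = 3 := rfl
      have v4 : ((4 : Fin 7) : ℕ) = 4 := rfl
      have v5 : ((5 : Fin 7) : ℕ) = 5 := rfl
      have v6 : ((6 : Fin 7) : ℕ) = 6 := rfl
      rw [v3, v4, v5, v6] at e2 ⊢
      linear_combination e2 + ((m 4 : ℂ) * w + (m 5 : ℂ) * w ^ 3 + (m 6 : ℂ) * w ^ 5) * hw7)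
  have h1 := hd 1
  have h2 := hd 2
  have h3 := hd 3
  have h5 := hd 5
  simp only [Fin.isValue, Matrix.cons_val_one, Matrix.cons_val_zero, Matrix.cons_val] at h1 h2 h3 h5
  have n14 : m 4 = m 1 := by
    have : (m 4 : ℂ) = m 1 := by linear_combination -h1
    exact_mod_cast this
  have n21 : m 2 = m 1 := by
    have : (m 2 : ℂ) = m 1 := by linear_combination h2
    exact_mod_cast this
  have n53 : m 5 = m 3 := by
    have : (m 5 : ℂ) = m 3 := by linear_combination -h3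
    exact_mod_cast this
  have n65 : m 6 = m 5 := by
    have : (m 6 : ℂ) = m 5 := by linear_combination -h5
    exact_mod_cast this
  have v3 : ((3 : Fin 7) : ℕ) = 3 := rfl
  have v4 : ((4 : Fin 7) : ℕ) = 4 := rfl
  have v5 : ((5 : Fin 7) : ℕ) = 5 := rfl
  have v6 : ((6 : Fin 7) : ℕ) = 6 := rfl
  refine ⟨(m 0 : ℤ) - m 3, (m 1 : ℤ) - m 3, m 3, ?_, ?_⟩
  · have e1 := htr 1
    rw [pow_one] at e1
    rw [e1]
    simp only [Fin.sum_univ_seven, pow_one, Fin.isValue, Fin.val_zero, Fin.val_one, Fin.val_two,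
      v3, v4, v5, v6, n14, n21, n65, n53]
    unfold alpha7
    push_cast
    linear_combination (m 3 : ℂ) * zeta7_sum
  · have e0 := htr 0
    rw [pow_zero] at e0
    simp only [Fin.sum_univ_seven, pow_zero, mul_one, n14, n21, n65, n53] at e0
    have hdeg : charDegree ρ.character = m 0 + m 1 + m 1 + m 3 + m 1 + m 3 + m 3 := by
      unfold charDegree
      rw [e0]
      have : ((m 0 : ℂ) + m 1 + m 1 + m 3 + m 1 + m 3 + m 3) =
          ((m 0 + m 1 + m 1 + m 3 + m 1 + m 3 + m 3 : ℕ) : ℂ) := by push_cast; ring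
      rw [this, Complex.natCast_re, Nat.floor_natCast]
    rw [hdeg]
    push_cast
    ring

end Cfsg.Agent.Lib.H1.DG
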