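/-
S4467 (architect helper15), piece CLASS2 (helper1): a faithful irreducible character `θ` of a group `A` of class `≤ 2`
satisfies `θ(1)² = |A : Z(A)|` (`θ` vanishes off the centre).
-/
import Mathlib
import Cfsg.Prelude.Def_Characters
import Cfsg.Agent.Lib.H15.DXDefs
import Cfsg.Agent.Lib.H23.Extraspecial

set_option autoImplicit false

namespace Cfsg.Agent.Lib.H1.DX

open Cfsg Cfsg.Agent.Lib.H15.DX
open Module Cfsg.Agent.Lib.L0 Cfsg.Agent.Lib.H23
open scoped ComplexConjugate commutatorElement

/-- CLASS2 -/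
theorem sq_degree_eq_index_center {A : Type*} [Group A] [Finite A]
    (h2 : commutator A ≤ Subgroup.center A) (θ : A → ℂ) (hθ : IsIrrCharacter A θ)
    (hf : Faithful θ) (d : ℕ) (hd : θ 1 = (d : ℂ)) : d ^ 2 = (Subgroup.center A).index := by
  classical
  have := Fintype.ofFinite A
  obtain ⟨m, ρ, hirr, hχ⟩ := hθ
  have : ρ.IsIrreducible := hirr
  have hdm : (finrank ℂ (Fin m → ℂ) : ℂ) = d := by
    rw [← hd, ← hχ, Representation.char_one]
  have hdm' : finrank ℂ (Fin m → ℂ) = d := by exact_mod_cast hdm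
  -- `θ` vanishes off the centre
  have hvan : ∀ g : A, g ∉ Subgroup.center A → ρ.character g = 0 := by
    intro g hg
    rw [Subgroup.mem_center_iff] at hg
    push Not at hg
    obtain ⟨x, hx⟩ := hg
    have hcomm : x⁻¹ * g⁻¹ * x * g ∈ Subgroup.center A := by
      apply h2
      have : x⁻¹ * g⁻¹ * x * g = x⁻¹ * g⁻¹ * (x⁻¹)⁻¹ * (g⁻¹)⁻¹ := by group
      rw [this, commutator_def]
      exact Subgroup.commutator_mem_commutator (Subgroup.mem_top (x⁻¹)) (Subgroup.mem_top (g⁻¹))
    have hne1 : x⁻¹ * g⁻¹ * x * g ≠ 1 := by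
      intro h
      apply hx
      have : x * g = g * x * (x⁻¹ * g⁻¹ * x * g) := by group
      rw [this, h, mul_one]
    apply char_eq_zero_of_commutator_central ρ g x hcomm
    intro h1
    apply hne1
    apply hf
    rw [← hχ]
    exact (char_eq_char_one_iff ρ _).mpr h1
  have hsum := sum_normSq_char_eq_card ρ
  have h1 : ∑ g : A, ‖ρ.character g‖ ^ 2 =
      ∑ g ∈ Finset.univ.filter (fun g : A => g ∈ Subgroup.center A), ((d : ℝ)) ^ 2 := by
    rw [Finset.sum_filter]
    refine Finset.sum_congr rfl (fun g _ => ?_)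
    by_cases hg : g ∈ Subgroup.center A
    · rw [if_pos hg]
      have := (norm_char_eq_finrank_iff ρ g).mpr (exists_smul_of_mem_center ρ hg)
      rw [this, hdm']
    · rw [if_neg hg, hvan g hg]
      simp
  rw [h1, Finset.sum_const, nsmul_eq_mul] at hsum
  have hZcard : (Finset.univ.filter (fun g : A => g ∈ Subgroup.center A)).card =
      Nat.card (Subgroup.center A) := by
    rw [Nat.card_eq_fintype_card, Fintype.card_subtype]
  rw [hZcard] at hsum
  have h3 : Nat.card (Subgroup.center A) * d ^ 2 = Nat.card A := by exact_mod_cast hsum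
  have h4 := Subgroup.card_mul_index (Subgroup.center A)
  have hpos : 0 < Nat.card (Subgroup.center A) := Nat.card_pos
  exact Nat.eq_of_mul_eq_mul_left hpos (by rw [h3, h4])

end Cfsg.Agent.Lib.H1.DX
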