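/-
S4467 (architect helper15), piece F4A (helper1), parametric form: the structure of a chief factor `A / Z(G)` of a minimal
counterexample, with F2 (`χ_N = e θ`) and F3 (abelian normal subgroups are central) as explicit hypotheses.
-/
import Mathlib
import Cfsg.Prelude.Def_Characters
import Cfsg.Agent.Lib.H15.DXDefs
import Cfsg.Agent.Lib.H1.DXCLASS2

set_option autoImplicit false

namespace Cfsg.Agent.Lib.H1.DX

open Cfsg Cfsg.Agent.Lib.H15.DX
open scoped ComplexConjugate commutatorElement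

universe u

theorem comm_mul_center_left {G : Type*} [Group G] (a z g : G) (hz : z ∈ Subgroup.center G) :
    ⁅a * z, g⁆ = ⁅a, g⁆ := by
  have h1 : z * g * z⁻¹ = g := by
    rw [← Subgroup.mem_center_iff.mp hz g, mul_inv_cancel_right]
  rw [commutatorElement_def, commutatorElement_def]
  calc a * z * g * (a * z)⁻¹ * g⁻¹ = a * (z * g * z⁻¹) * a⁻¹ * g⁻¹ := by group
    _ = a * g * a⁻¹ * g⁻¹ := by rw [h1]

theorem comm_mul_center_right {G : Type*} [Group G] (g a z : G) (hz : z ∈ Subgroup.center G) :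
    ⁅g, a * z⁆ = ⁅g, a⁆ := by
  have h1 : z * g⁻¹ * z⁻¹ = g⁻¹ := by
    rw [← Subgroup.mem_center_iff.mp hz g⁻¹, mul_inv_cancel_right]
  rw [commutatorElement_def, commutatorElement_def]
  calc g * (a * z) * g⁻¹ * (a * z)⁻¹ = g * a * (z * g⁻¹ * z⁻¹) * a⁻¹ := by group
    _ = g * a * g⁻¹ * a⁻¹ := by rw [h1]

variable {p : ℕ} [Fact p.Prime] {G : Type u} [Group G] [Finite G] {χ : G → ℂ} {n : ℕ}

/-- F4A, with F2 and F3 as hypotheses -/
theorem chief_structure_of (c : Ctx p G χ n)
    (hF2 : ∀ (N : Subgroup G) [N.Normal], ∃ (θ : N → ℂ) (e : ℕ), IsIrrCharacter N θ ∧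
      (fun x : N => χ x) = (e : ℂ) • θ)
    (hF3 : ∀ (N : Subgroup G) [N.Normal], (∀ a ∈ N, ∀ b ∈ N, a * b = b * a) → N ≤ Subgroup.center G)
    (A : Subgroup G) [hAn : A.Normal]
    (hZA : Subgroup.center G < A)
    (hmin : ∀ B : Subgroup G, B.Normal → Subgroup.center G ≤ B → B ≤ A →
      B = Subgroup.center G ∨ B = A) :
    ∃ r m : ℕ, r.Prime ∧ 1 ≤ m ∧ r ≠ p ∧ r ^ m ∣ n ∧
      (Subgroup.center G).relIndex A = r ^ (2 * m) ∧ ⁅A, A⁆ ≤ Subgroup.center G ∧
      A ⊓ Subgroup.centralizer (A : Set G) = Subgroup.center G := by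
  classical
  have hsolv : Group.IsSolvable G := c.solv
  have hp : p.Prime := Fact.out
  -- Step 1: `⁅A, A⁆ ≤ Z`
  have h1 : ⁅A, A⁆ ≤ Subgroup.center G := by
    have hBn : (⁅A, A⁆ ⊔ Subgroup.center G).Normal := inferInstance
    rcases hmin (⁅A, A⁆ ⊔ Subgroup.center G) hBn le_sup_right
      (sup_le (Subgroup.commutator_le_left A A) hZA.le) with h | h
    · rw [← h]
      exact le_sup_left
    · exfalso
      have hA' : ⁅A, A⁆ ≤ ⁅⁅A, A⁆, ⁅A, A⁆⁆ := by
        conv_lhs => rw [← h]
        rw [Subgroup.commutator_le]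
        intro g₁ hg₁ g₂ hg₂
        obtain ⟨a₁, ha₁, z₁, hz₁, rfl⟩ := Subgroup.mem_sup_of_normal_right.mp hg₁
        obtain ⟨a₂, ha₂, z₂, hz₂, rfl⟩ := Subgroup.mem_sup_of_normal_right.mp hg₂
        rw [comm_mul_center_left _ _ _ hz₁, comm_mul_center_right _ _ _ hz₂]
        exact Subgroup.commutator_mem_commutator ha₁ ha₂
      by_cases hbot : ⁅A, A⁆ = ⊥
      · rw [hbot, bot_sup_eq] at h
        exact hZA.ne h
      · have h3 := Group.IsSolvable.commutator_lt_of_ne_bot hbot
        exact absurd hA' (not_le_of_gt h3)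
  -- Step 2: `A ⊓ C(A) = Z`
  have h2 : A ⊓ Subgroup.centralizer (A : Set G) = Subgroup.center G := by
    apply le_antisymm
    · have hNn : (A ⊓ Subgroup.centralizer (A : Set G)).Normal := inferInstance
      apply hF3 (A ⊓ Subgroup.centralizer (A : Set G))
      intro a ha b hb
      exact (Subgroup.mem_centralizer_iff.mp hb.2 a ha.1)
    · exact le_inf hZA.le (Subgroup.center_le_centralizer _)
  -- Step 3: the character
  obtain ⟨θ, e, hθ, hχθ⟩ := hF2 A
  have hχA : ∀ x : A, χ x = (e : ℂ) * θ x := by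
    intro x
    have := congrFun hχθ x
    simpa using this
  have hfθ : Faithful θ := by
    intro x hx
    have h3 : χ (x : G) = χ 1 := by
      have h4 := hχA 1
      rw [Subgroup.coe_one] at h4
      rw [hχA x, h4, hx]
    have h5 := c.faith (x : G) h3
    exact Subtype.ext h5
  obtain ⟨d, hd⟩ : ∃ d : ℕ, θ 1 = (d : ℂ) := by
    obtain ⟨k, ρ, hirr, hρ⟩ := hθ
    refine ⟨Module.finrank ℂ (Fin k → ℂ), ?_⟩
    rw [← hρ, Representation.char_one]
  have hcl : commutator ↥A ≤ Subgroup.center ↥A := by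
    rw [commutator_def, Subgroup.commutator_le]
    intro g₁ _ g₂ _
    rw [Subgroup.mem_center_iff]
    intro h
    apply Subtype.ext
    have h3 : ⁅(g₁ : G), (g₂ : G)⁆ ∈ Subgroup.center G :=
      h1 (Subgroup.commutator_mem_commutator g₁.2 g₂.2)
    have h4 := Subgroup.mem_center_iff.mp h3 (h : G)
    rw [commutatorElement_def] at h4 ⊢
    simpa using h4
  have hsq := sq_degree_eq_index_center hcl θ hθ hfθ d hd
  have hcenter : Subgroup.center ↥A = (Subgroup.center G).subgroupOf A := by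
    ext x
    rw [Subgroup.mem_subgroupOf]
    constructor
    · intro hx
      rw [← h2]
      refine Subgroup.mem_inf.mpr ⟨x.2, ?_⟩
      rw [Subgroup.mem_centralizer_iff]
      intro h hh
      have h3 := Subgroup.mem_center_iff.mp hx ⟨h, hh⟩
      exact congrArg Subtype.val h3
    · intro hx
      rw [Subgroup.mem_center_iff]
      intro h
      apply Subtype.ext
      exact Subgroup.mem_center_iff.mp hx (h : G)
  have hrel : d ^ 2 = (Subgroup.center G).relIndex A := by
    rw [hsq, hcenter]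
    rfl
  -- Step 4: the prime `r`
  have hne1 : (Subgroup.center G).relIndex A ≠ 1 := by
    intro h
    exact (not_le_of_gt hZA) (Subgroup.relIndex_eq_one.mp h)
  obtain ⟨r, hr, hrdvd⟩ := Nat.exists_prime_and_dvd hne1
  have : Fact r.Prime := ⟨hr⟩
  have hcardQ : Nat.card (↥A ⧸ (Subgroup.center G).subgroupOf A) = (Subgroup.center G).relIndex A := by
    rw [← Subgroup.index_eq_card]
    rfl
  obtain ⟨xbar, hxbar⟩ := exists_prime_orderOf_dvd_card' (G := ↥A ⧸ (Subgroup.center G).subgroupOf A) r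
    (by rw [hcardQ]; exact hrdvd)
  obtain ⟨x, rfl⟩ := QuotientGroup.mk_surjective xbar
  have hxZ : (x : G) ∉ Subgroup.center G := by
    intro h
    have h3 : (x : ↥A ⧸ (Subgroup.center G).subgroupOf A) = 1 :=
      (QuotientGroup.eq_one_iff x).mpr (Subgroup.mem_subgroupOf.mpr h)
    rw [h3, orderOf_one] at hxbar
    exact hr.one_lt.ne hxbar
  have hxr : (x : G) ^ r ∈ Subgroup.center G := by
    have h3 : (x : ↥A ⧸ (Subgroup.center G).subgroupOf A) ^ r = 1 := by
      rw [← hxbar]
      exact pow_orderOf_eq_one _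
    rw [← QuotientGroup.mk_pow, QuotientGroup.eq_one_iff, Subgroup.mem_subgroupOf] at h3
    simpa using h3
  -- the subgroup `A_r = {a ∈ A | a ^ r ∈ Z}`
  have hcommπ : ∀ a ∈ A, ∀ b ∈ A, Commute (QuotientGroup.mk' (Subgroup.center G) a)
      (QuotientGroup.mk' (Subgroup.center G) b) := by
    intro a ha b hb
    have h3 : ⁅a, b⁆ ∈ Subgroup.center G := h1 (Subgroup.commutator_mem_commutator ha hb)
    have h4 : QuotientGroup.mk' (Subgroup.center G) ⁅a, b⁆ = 1 :=
      (QuotientGroup.eq_one_iff _).mpr h3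
    rw [commutatorElement_def, map_mul, map_mul, map_mul, map_inv, map_inv] at h4
    show QuotientGroup.mk' (Subgroup.center G) a * QuotientGroup.mk' (Subgroup.center G) b =
      QuotientGroup.mk' (Subgroup.center G) b * QuotientGroup.mk' (Subgroup.center G) a
    calc QuotientGroup.mk' (Subgroup.center G) a * QuotientGroup.mk' (Subgroup.center G) b
        = (QuotientGroup.mk' (Subgroup.center G) a * QuotientGroup.mk' (Subgroup.center G) b *
            (QuotientGroup.mk' (Subgroup.center G) a)⁻¹ * (QuotientGroup.mk' (Subgroup.center G) b)⁻¹) *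
            (QuotientGroup.mk' (Subgroup.center G) b * QuotientGroup.mk' (Subgroup.center G) a) := by group
      _ = QuotientGroup.mk' (Subgroup.center G) b * QuotientGroup.mk' (Subgroup.center G) a := by
          rw [h4, one_mul]
  have hpowπ : ∀ a : G, a ^ r ∈ Subgroup.center G ↔ (QuotientGroup.mk' (Subgroup.center G) a) ^ r = 1 := by
    intro a
    rw [← map_pow]
    exact (QuotientGroup.eq_one_iff _).symm
  let Ar : Subgroup G :=
    { carrier := {a | a ∈ A ∧ a ^ r ∈ Subgroup.center G}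
      one_mem' := ⟨A.one_mem, by rw [one_pow]; exact Subgroup.one_mem _⟩
      mul_mem' := by
        rintro a b ⟨ha, har⟩ ⟨hb, hbr⟩
        refine ⟨A.mul_mem ha hb, ?_⟩
        rw [hpowπ, map_mul, (hcommπ a ha b hb).mul_pow, (hpowπ a).mp har, (hpowπ b).mp hbr, one_mul]
      inv_mem' := by
        rintro a ⟨ha, har⟩
        refine ⟨A.inv_mem ha, ?_⟩
        rw [inv_pow]
        exact Subgroup.inv_mem _ har }
  have hArn : Ar.Normal := by
    constructor
    rintro a ⟨ha, har⟩ g
    refine ⟨hAn.conj_mem a ha g, ?_⟩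
    rw [conj_pow]
    exact (inferInstance : (Subgroup.center G).Normal).conj_mem _ har g
  have hZAr : Subgroup.center G ≤ Ar := fun z hz => ⟨hZA.le hz, Subgroup.pow_mem _ hz r⟩
  have hArA : Ar ≤ A := fun a ha => ha.1
  have hAr : Ar = A := by
    rcases hmin Ar hArn hZAr hArA with h | h
    · exfalso
      apply hxZ
      rw [← h]
      exact ⟨x.2, hxr⟩
    · exact h
  have hexp : ∀ a ∈ A, a ^ r ∈ Subgroup.center G := by
    intro a ha
    have : a ∈ Ar := by rw [hAr]; exact ha
    exact this.2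
  have hPG : IsPGroup r (↥A ⧸ (Subgroup.center G).subgroupOf A) := by
    intro q
    obtain ⟨a, rfl⟩ := QuotientGroup.mk_surjective q
    refine ⟨1, ?_⟩
    rw [pow_one, ← QuotientGroup.mk_pow, QuotientGroup.eq_one_iff, Subgroup.mem_subgroupOf]
    have := hexp (a : G) a.2
    simpa using this
  obtain ⟨k, hk⟩ := IsPGroup.iff_card.mp hPG
  rw [hcardQ] at hk
  -- arithmetic
  have hdk : d ^ 2 = r ^ k := by rw [hrel, hk]
  obtain ⟨j, hjk, hdj⟩ := (Nat.dvd_prime_pow hr).mp (hdk ▸ Dvd.intro_left (d ^ 1) (by ring) : d ∣ r ^ k)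
  have h2j : 2 * j = k := by
    apply Nat.pow_right_injective hr.two_le
    show r ^ (2 * j) = r ^ k
    rw [← hdk, hdj]
    ring
  have hj1 : 1 ≤ j := by
    by_contra hj
    have hj0 : j = 0 := by omega
    rw [hj0] at h2j
    rw [← h2j] at hk
    exact hne1 (by rw [hk]; rfl)
  have hn : n = e * d := by
    have h3 := hχA 1
    rw [Subgroup.coe_one, c.deg, hd] at h3
    exact_mod_cast h3
  have hdvd : r ^ j ∣ n := by
    rw [hn, ← hdj]
    exact dvd_mul_left d e
  have hrp : r ≠ p := by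
    intro h
    apply c.bad
    apply good_of_prime_dvd hp
    rw [← h]
    exact dvd_trans (dvd_pow_self r (by omega)) hdvd
  exact ⟨r, j, hr, hj1, hrp, hdvd, by rw [hk, h2j], h1, h2⟩

end Cfsg.Agent.Lib.H1.DX
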