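import Mathlib

/-! A noncyclic finite abelian group contains two independent elements of some prime order
(helper1). -/

set_option autoImplicit false

namespace Cfsg.Agent.Lib.H1

/-- the `n`-torsion of a commutative group -/
abbrev torsionBy (A : Type*) [CommGroup A] (n : ℕ) : Subgroup A := (powMonoidHom n : A →* A).ker

theorem mem_torsionBy {A : Type*} [CommGroup A] {n : ℕ} {a : A} : a ∈ torsionBy A n ↔ a ^ n = 1 := by
  rw [MonoidHom.mem_ker, powMonoidHom_apply]

theorem card_torsionBy_mul_le {A : Type*} [CommGroup A] [Finite A] (m p : ℕ) :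
    Nat.card (torsionBy A (m * p)) ≤ Nat.card (torsionBy A m) * Nat.card (torsionBy A p) := by
  let f : torsionBy A (m * p) →* A := (powMonoidHom m : A →* A).comp (torsionBy A (m * p)).subtype
  have h1 : Nat.card f.ker * f.ker.index = Nat.card (torsionBy A (m * p)) := f.ker.card_mul_index
  rw [Subgroup.index_ker] at h1
  have h2 : Nat.card f.range ≤ Nat.card (torsionBy A p) := by
    apply Subgroup.card_le_of_le
    rintro y ⟨x, rfl⟩
    rw [mem_torsionBy]
    have hx := mem_torsionBy.mp x.2
    show ((x : A) ^ m) ^ p = 1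
    rw [← pow_mul]; exact hx
  have h3 : Nat.card f.ker ≤ Nat.card (torsionBy A m) := by
    let g : f.ker → torsionBy A m := fun x => ⟨((x : torsionBy A (m * p)) : A), by
      rw [mem_torsionBy]
      have := x.2
      rw [MonoidHom.mem_ker] at this
      exact this⟩
    apply Nat.card_le_card_of_injective g
    intro a b hab
    apply Subtype.ext
    apply Subtype.ext
    have h4 : ((g a : torsionBy A m) : A) = ((g b : torsionBy A m) : A) := by rw [hab]
    exact h4
  rw [← h1]
  exact Nat.mul_le_mul h3 h2

/-- A finite abelian group with at most `p` elements of order dividing `p`, for every prime `p`,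
is cyclic. -/
theorem isCyclic_of_card_torsionBy_prime_le {A : Type*} [CommGroup A] [Finite A]
    (h : ∀ p : ℕ, p.Prime → Nat.card (torsionBy A p) ≤ p) : IsCyclic A := by
  classical
  haveI : Fintype A := Fintype.ofFinite A
  have key : ∀ n : ℕ, 0 < n → Nat.card (torsionBy A n) ≤ n := by
    intro n
    induction n using Nat.strong_induction_on with
    | _ n IH =>
    intro hn
    by_cases hn1 : n = 1
    · subst hn1
      have : torsionBy A 1 = ⊥ := by
        rw [eq_bot_iff]
        intro a ha
        rw [mem_torsionBy, pow_one] at ha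
        exact Subgroup.mem_bot.mpr ha
      rw [this, Subgroup.card_bot]
    · have hp : (n.minFac).Prime := Nat.minFac_prime hn1
      obtain ⟨m, hm⟩ := Nat.minFac_dvd n
      have hm0 : 0 < m := by
        rcases Nat.eq_zero_or_pos m with h0 | h0
        · rw [h0, mul_zero] at hm; omega
        · exact h0
      have hmn : m < n := by
        have h2 := hp.two_le
        calc m < n.minFac * m := by nlinarith
          _ = n := hm.symm
      have h1 := card_torsionBy_mul_le (A := A) m n.minFac
      have e : m * n.minFac = n := by rw [mul_comm]; exact hm.symm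
      rw [e] at h1
      calc Nat.card (torsionBy A n) ≤ Nat.card (torsionBy A m) * Nat.card (torsionBy A n.minFac) := h1
        _ ≤ m * n.minFac := Nat.mul_le_mul (IH m hmn hm0) (h _ hp)
        _ = n := e
  apply isCyclic_of_card_pow_eq_one_le
  intro n hn
  have h1 := key n hn
  have h2 : Nat.card (torsionBy A n) = (Finset.univ.filter (fun a : A => a ^ n = 1)).card := by
    rw [← Nat.card_eq_finsetCard]
    apply Nat.card_congr
    exact
      { toFun := fun x => ⟨x.1, by
          rw [Finset.mem_filter]; exact ⟨Finset.mem_univ _, mem_torsionBy.mp x.2⟩⟩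
        invFun := fun x => ⟨x.1, by
          have := x.2; rw [Finset.mem_filter] at this; exact mem_torsionBy.mpr this.2⟩
        left_inv := fun x => rfl
        right_inv := fun x => rfl }
  rw [← h2]
  exact h1

/-- A noncyclic finite abelian group contains `x ≠ 1` and `y ∉ ⟨x⟩` of the same prime order. -/
theorem exists_independent_of_not_isCyclic {A : Type*} [CommGroup A] [Finite A] (hA : ¬ IsCyclic A) :
    ∃ p : ℕ, p.Prime ∧ ∃ x y : A, x ^ p = 1 ∧ y ^ p = 1 ∧ x ≠ 1 ∧ ∀ i : ℕ, x ^ i * y ≠ 1 := by
  classical
  by_contra hcon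
  apply hA
  apply isCyclic_of_card_torsionBy_prime_le
  intro p hp
  by_contra hlt
  rw [not_le] at hlt
  apply hcon
  haveI : Fact p.Prime := ⟨hp⟩
  refine ⟨p, hp, ?_⟩
  -- a nontrivial element of the p-torsion
  have h1 : 1 < Nat.card (torsionBy A p) := lt_trans hp.one_lt hlt
  haveI : Nontrivial (torsionBy A p) := Finite.one_lt_card_iff_nontrivial.mp h1
  obtain ⟨x, hx⟩ := exists_ne (1 : torsionBy A p)
  have hxp : (x : A) ^ p = 1 := mem_torsionBy.mp x.2
  have hx1 : (x : A) ≠ 1 := fun h => hx (Subtype.ext h)
  -- an element outside ⟨x⟩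
  have hcz : Nat.card (Subgroup.zpowers (x : A)) = p := by
    rw [Nat.card_zpowers]
    exact orderOf_eq_prime hxp hx1
  have hnle : ¬ torsionBy A p ≤ Subgroup.zpowers (x : A) := by
    intro hle
    have := Subgroup.card_le_of_le hle
    omega
  rw [SetLike.not_le_iff_exists] at hnle
  obtain ⟨y, hyT, hyx⟩ := hnle
  refine ⟨x, y, hxp, mem_torsionBy.mp hyT, hx1, ?_⟩
  intro i hi
  apply hyx
  have : y = ((x : A) ^ i)⁻¹ := by
    rw [eq_inv_iff_mul_eq_one, mul_comm]; exact hi
  rw [this]
  exact Subgroup.inv_mem _ (Subgroup.pow_mem _ (Subgroup.mem_zpowers _) i)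

end Cfsg.Agent.Lib.H1
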