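/-
S4467 (architect helper15), piece F4A (helper1), exact signature: the structure of a chief factor `A / Z(G)` of a minimal
counterexample (from the parametric form `chief_structure_of` with F2, F3 of helper18).
-/
import Mathlib
import Cfsg.Prelude.Def_Characters
import Cfsg.Agent.Lib.H15.DXDefs
import Cfsg.Agent.Lib.H1.DXF4Aa
import Cfsg.Agent.Lib.H18.DXF3

set_option autoImplicit false

namespace Cfsg.Agent.Lib.H1.DX

open Cfsg Cfsg.Agent.Lib.H15.DX
open scoped ComplexConjugate commutatorElement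

universe u

variable {p : ℕ} [Fact p.Prime] {G : Type u} [Group G] [Finite G] {χ : G → ℂ} {n : ℕ}

/-- F4A (uses F2, F3, CLASS2) -/
theorem chief_structure (c : Ctx p G χ n) (A : Subgroup G) [A.Normal]
    (hZA : Subgroup.center G < A)
    (hmin : ∀ B : Subgroup G, B.Normal → Subgroup.center G ≤ B → B ≤ A →
      B = Subgroup.center G ∨ B = A) :
    ∃ r m : ℕ, r.Prime ∧ 1 ≤ m ∧ r ≠ p ∧ r ^ m ∣ n ∧
      (Subgroup.center G).relIndex A = r ^ (2 * m) ∧ ⁅A, A⁆ ≤ Subgroup.center G ∧
      A ⊓ Subgroup.centralizer (A : Set G) = Subgroup.center G :=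
  chief_structure_of c (fun N _ => Cfsg.Agent.Lib.H18.DX.restrict_eq_smul c N)
    (fun N _ hab => Cfsg.Agent.Lib.H18.DX.le_center_of_abelian_normal c N hab) A hZA hmin

end Cfsg.Agent.Lib.H1.DX
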