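import Mathlib
import Cfsg.Agent.Lib.H1.QdSec

/-!
# Dickson's theorem on `SL₂` (S0274) from the generation lemma (S0801) (helper1)

`dicksonHyp_of_gen : DicksonGen → DicksonHyp p` where `DicksonGen` is the weak form of S0801:
for a finite field `K = 𝔽_p(λ)` of odd characteristic, `⟨l(1), u(λ)⟩ = SL₂(K)` or (`|K| = 9` and `λ² = -1`).

Route: two distinct Sylow `p`-subgroups of `H ≤ SL₂(F)` have independent fixed vectors; two nontrivial
elements `x, y` of them are conjugate under `GL₂(F)` to `l(1), u(λ)` (`exists_normal_form`); in the generic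
case `SL₂(𝔽_p(λ)) ⊇ SL₂(p)`; in the exceptional case `l(λ-1) u(1) l(λ-1)⁻¹ = g u(λ) g⁻¹` with
`g = u(λ) l(1)` (`exc_identity`), so a conjugate of `SL₂(3)` lies in `⟨l(1), u(λ)⟩`.
-/

set_option autoImplicit false
set_option linter.unusedSectionVars false
set_option linter.style.haveILetI false

namespace Cfsg.Agent.Lib.H1.DicksonBridge

open Cfsg.Agent.Lib.H1.SL2 Cfsg.Agent.Lib.H1.QdSec

variable {F : Type*} [Field F] {p : ℕ} [hp : Fact p.Prime]

/-- a `p`-subgroup of `SL₂(F)` (`F` finite of characteristic `p`) fixes a nonzero vector -/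
theorem exists_fixed_vec [CharP F p] [Finite F] (Q : Subgroup (SL F)) (hQ : IsPGroup p Q) :
    ∃ v : Fin 2 → F, v ≠ 0 ∧ ∀ g ∈ Q, (g : M2 F).mulVec v = v := by
  have hsm : ∀ (g : Q) (v : Fin 2 → F), g • v = ((g : SL F) : M2 F).mulVec v := fun g v => rfl
  have hdvd : p ∣ Nat.card (Fin 2 → F) := by
    have h1 : p ∣ Nat.card F := by
      have h2 : addOrderOf (1 : F) = p := by
        have h3 : CharP F p := inferInstance
        have := CharP.addOrderOf_one F
        exact CharP.eq F this h3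
      rw [← h2]; exact addOrderOf_dvd_natCard 1
    rw [Nat.card_fun]
    simp only [Nat.card_eq_fintype_card, Fintype.card_fin]
    exact dvd_pow h1 (by norm_num)
  have h0 : (0 : Fin 2 → F) ∈ MulAction.fixedPoints Q (Fin 2 → F) := fun g => by
    rw [hsm]; exact Matrix.mulVec_zero _
  obtain ⟨b, hb, hne⟩ := hQ.exists_fixed_point_of_prime_dvd_card_of_fixed_point (Fin 2 → F) hdvd h0
  refine ⟨b, hne.symm, fun g hg => ?_⟩
  have := hb ⟨g, hg⟩
  rwa [hsm] at this

/-- an element of `SL₂(F)` fixing a nonzero vector has trace `2` -/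
theorem tr_eq_two_of_fixed (g : SL F) (v : Fin 2 → F) (hv : v ≠ 0) (h : (g : M2 F).mulVec v = v) :
    tr g = 2 := by
  have hdet := g.det_coe
  rw [Matrix.det_fin_two] at hdet
  have h0 := congrFun h 0
  have h1 := congrFun h 1
  simp only [Matrix.mulVec, dotProduct, Fin.sum_univ_two] at h0 h1
  rw [tr_def, Matrix.trace_fin_two]
  have hv' : v 0 ≠ 0 ∨ v 1 ≠ 0 := by
    by_contra hcon
    push Not at hcon
    apply hv
    funext i
    fin_cases i
    · exact hcon.1
    · exact hcon.2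
  rcases hv' with hv0 | hv1
  · have : v 0 * ((g : M2 F) 0 0 + (g : M2 F) 1 1 - 2) = 0 := by
      linear_combination (-(g : M2 F) 1 1 + 1) * h0 + ((g : M2 F) 0 1) * h1 + v 0 * hdet
    have := (mul_eq_zero.mp this).resolve_left hv0
    linear_combination this
  · have : v 1 * ((g : M2 F) 0 0 + (g : M2 F) 1 1 - 2) = 0 := by
      linear_combination ((g : M2 F) 1 0) * h0 + (-(g : M2 F) 0 0 + 1) * h1 + v 1 * hdet
    have := (mul_eq_zero.mp this).resolve_left hv1
    linear_combination this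

end Cfsg.Agent.Lib.H1.DicksonBridge

namespace Cfsg.Agent.Lib.H1.DicksonBridge

open Cfsg.Agent.Lib.H1.SL2 Cfsg.Agent.Lib.H1.QdSec

variable {F : Type*} [Field F] {p : ℕ} [hp : Fact p.Prime]

/-- proportional vectors in the plane -/
theorem exists_smul_of_det_eq_zero (v w : Fin 2 → F) (hv : v ≠ 0) (hw : w ≠ 0)
    (h : w 0 * v 1 - w 1 * v 0 = 0) : ∃ c : F, c ≠ 0 ∧ w = c • v := by
  have key : ∀ c : F, w = c • v → c ≠ 0 := by
    rintro c hc rfl
    apply hw; rw [hc, zero_smul]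
  by_cases hv0 : v 0 = 0
  · have hv1 : v 1 ≠ 0 := by
      intro h1; apply hv; funext i; fin_cases i
      · exact hv0
      · exact h1
    have hw0 : w 0 = 0 := by
      rw [hv0, mul_zero, sub_zero] at h
      exact (mul_eq_zero.mp h).resolve_right hv1
    have hc : w = (w 1 / v 1) • v := by
      funext i; fin_cases i
      · simp [hw0, hv0]
      · simp; field_simp
    exact ⟨_, key _ hc, hc⟩
  · have hc : w = (w 0 / v 0) • v := by
      funext i; fin_cases i
      · simp; field_simp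
      · simp; field_simp; linear_combination -h
    exact ⟨_, key _ hc, hc⟩

/-- the stabilizer of a nonzero vector is a `p`-group -/
theorem isPGroup_stabilizer [CharP F p] (H : Subgroup (SL F)) (v : Fin 2 → F) (hv : v ≠ 0) :
    IsPGroup p (MulAction.stabilizer H v) := by
  rintro ⟨g, hg⟩
  rw [MulAction.mem_stabilizer_iff] at hg
  have h1 : ((g : SL F) : M2 F).mulVec v = v := hg
  refine ⟨1, Subtype.ext (Subtype.ext ?_)⟩
  have := pow_p_eq_one_of_tr (p := p) (g : SL F) (tr_eq_two_of_fixed _ v hv h1)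
  simpa using this

/-- two nontrivial unipotent elements with independent fixed vectors in a subgroup with more than one Sylow
`p`-subgroup -/
theorem exists_unipotent_pair [CharP F p] [Finite F] (H : Subgroup (SL F))
    (hH : 1 < Nat.card (Sylow p H)) :
    ∃ (x y : SL F) (v w : Fin 2 → F), x ∈ H ∧ y ∈ H ∧ x ≠ 1 ∧ y ≠ 1 ∧ (x : M2 F).mulVec v = v ∧
      (y : M2 F).mulVec w = w ∧ w 0 * v 1 - w 1 * v 0 ≠ 0 := by
  have hnt : Nontrivial (Sylow p H) := Finite.one_lt_card_iff_nontrivial.mp hH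
  obtain ⟨Q, Q', hQQ'⟩ := exists_pair_ne (Sylow p H)
  have hQne : ∀ (Q Q' : Sylow p H), Q ≠ Q' → (Q : Subgroup H) ≠ ⊥ := by
    intro Q Q' hne hbot
    apply hne
    have := Q.is_maximal' Q'.2 (by rw [hbot]; exact bot_le)
    exact Sylow.ext this.symm
  obtain ⟨v, hv, hfv⟩ := exists_fixed_vec ((Q : Subgroup H).map H.subtype) (Q.2.map _)
  obtain ⟨w, hw, hfw⟩ := exists_fixed_vec ((Q' : Subgroup H).map H.subtype) (Q'.2.map _)
  obtain ⟨x, hx1⟩ := (Subgroup.ne_bot_iff_exists_ne_one).mp (hQne Q Q' hQQ')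
  obtain ⟨y, hy1⟩ := (Subgroup.ne_bot_iff_exists_ne_one).mp (hQne Q' Q hQQ'.symm)
  refine ⟨x.1.1, y.1.1, v, w, x.1.2, y.1.2, ?_, ?_, hfv _ ⟨x.1, x.2, rfl⟩, hfw _ ⟨y.1, y.2, rfl⟩, ?_⟩
  · intro h; apply hx1; exact Subtype.ext (Subtype.ext h)
  · intro h; apply hy1; exact Subtype.ext (Subtype.ext h)
  · intro hdet
    obtain ⟨c, hc, rfl⟩ := exists_smul_of_det_eq_zero v w hv hw hdet
    apply hQQ'
    have hS := isPGroup_stabilizer (p := p) H v hv
    have h1 : (Q : Subgroup H) ≤ MulAction.stabilizer H v := by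
      intro g hg
      rw [MulAction.mem_stabilizer_iff]
      exact hfv _ ⟨g, hg, rfl⟩
    have h2 : (Q' : Subgroup H) ≤ MulAction.stabilizer H v := by
      intro g hg
      rw [MulAction.mem_stabilizer_iff]
      have := hfw _ ⟨g, hg, rfl⟩
      rw [Matrix.mulVec_smul] at this
      exact smul_right_injective _ hc this
    have e1 := Q.is_maximal' hS h1
    have e2 := Q'.is_maximal' hS h2
    exact Sylow.ext (e1.symm.trans e2)

end Cfsg.Agent.Lib.H1.DicksonBridge

namespace Cfsg.Agent.Lib.H1.DicksonBridge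

open Cfsg.Agent.Lib.H1.SL2 Cfsg.Agent.Lib.H1.QdSec

variable {F : Type*} [Field F]

/-- conjugation by an invertible matrix, as an automorphism of `SL₂(F)` -/
def cj (g : (M2 F)ˣ) : SL F ≃* SL F where
  toFun M := ⟨(g : M2 F) * (M : M2 F) * ((g⁻¹ : (M2 F)ˣ) : M2 F), by
    rw [Matrix.det_units_conj]; exact M.2⟩
  invFun M := ⟨((g⁻¹ : (M2 F)ˣ) : M2 F) * (M : M2 F) * (g : M2 F), by
    rw [Matrix.det_units_conj']; exact M.2⟩
  left_inv M := by
    apply Subtype.ext
    simp only [← mul_assoc, Units.inv_mul]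
    rw [one_mul, mul_assoc, Units.inv_mul, mul_one]
  right_inv M := by
    apply Subtype.ext
    simp only [← mul_assoc, Units.mul_inv]
    rw [one_mul, mul_assoc, Units.mul_inv, mul_one]
  map_mul' M N := by
    apply Subtype.ext
    show (g : M2 F) * ((M : M2 F) * (N : M2 F)) * ((g⁻¹ : (M2 F)ˣ) : M2 F) =
      ((g : M2 F) * (M : M2 F) * ((g⁻¹ : (M2 F)ˣ) : M2 F)) *
        ((g : M2 F) * (N : M2 F) * ((g⁻¹ : (M2 F)ˣ) : M2 F))
    calc (g : M2 F) * ((M : M2 F) * (N : M2 F)) * ((g⁻¹ : (M2 F)ˣ) : M2 F)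
        = (g : M2 F) * (M : M2 F) * (((g⁻¹ : (M2 F)ˣ) : M2 F) * (g : M2 F)) * (N : M2 F) *
            ((g⁻¹ : (M2 F)ˣ) : M2 F) := by
          rw [Units.inv_mul, mul_one]; simp only [mul_assoc]
      _ = _ := by simp only [mul_assoc]

theorem cj_coe (g : (M2 F)ˣ) (M : SL F) :
    ((cj g M : SL F) : M2 F) = (g : M2 F) * (M : M2 F) * ((g⁻¹ : (M2 F)ˣ) : M2 F) := rfl

theorem cj_symm_coe (g : (M2 F)ˣ) (M : SL F) :
    (((cj g).symm M : SL F) : M2 F) = ((g⁻¹ : (M2 F)ˣ) : M2 F) * (M : M2 F) * (g : M2 F) := rfl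

/-- an element of `SL₂` fixing `e₂` is lower unitriangular -/
theorem eq_ll_of_fixed (x : SL F) (h : (x : M2 F).mulVec ![0, 1] = ![0, 1]) : x = ll ((x : M2 F) 1 0) := by
  have hdet := x.det_coe
  rw [Matrix.det_fin_two] at hdet
  have h0 := congrFun h 0
  have h1 := congrFun h 1
  simp [Matrix.mulVec, dotProduct, Fin.sum_univ_two] at h0 h1
  rw [h0, h1, zero_mul, sub_zero, mul_one] at hdet
  apply Subtype.ext
  rw [ll_coe]
  ext i j
  fin_cases i <;> fin_cases j <;> simp [h0, h1, hdet]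

/-- an element of `SL₂` fixing `e₁` is upper unitriangular -/
theorem eq_uu_of_fixed (x : SL F) (h : (x : M2 F).mulVec ![1, 0] = ![1, 0]) : x = uu ((x : M2 F) 0 1) := by
  have hdet := x.det_coe
  rw [Matrix.det_fin_two] at hdet
  have h0 := congrFun h 0
  have h1 := congrFun h 1
  simp [Matrix.mulVec, dotProduct, Fin.sum_univ_two] at h0 h1
  rw [h0, h1, mul_zero, sub_zero, one_mul] at hdet
  apply Subtype.ext
  rw [uu_coe]
  ext i j
  fin_cases i <;> fin_cases j <;> simp [h0, h1, hdet]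

end Cfsg.Agent.Lib.H1.DicksonBridge

namespace Cfsg.Agent.Lib.H1.DicksonBridge

open Cfsg.Agent.Lib.H1.SL2 Cfsg.Agent.Lib.H1.QdSec

variable {F : Type*} [Field F]

/-- the diagonal unit `diag(1, a)` -/
def dg (a : F) (ha : a ≠ 0) : (M2 F)ˣ where
  val := !![1, 0; 0, a]
  inv := !![1, 0; 0, a⁻¹]
  val_inv := by
    ext i j; fin_cases i <;> fin_cases j <;> simp [Matrix.mul_apply, Fin.sum_univ_two, ha]
  inv_val := by
    ext i j; fin_cases i <;> fin_cases j <;> simp [Matrix.mul_apply, Fin.sum_univ_two, ha]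

theorem cj_dg_ll (a : F) (ha : a ≠ 0) : (cj (dg a ha)).symm (ll a) = ll 1 := by
  apply Subtype.ext
  rw [cj_symm_coe]
  show (!![1, 0; 0, a⁻¹] : M2 F) * (ll a : SL F).1 * !![1, 0; 0, a] = (ll 1 : SL F).1
  rw [ll_coe, ll_coe]
  ext i j; fin_cases i <;> fin_cases j <;> simp [Matrix.mul_apply, Fin.sum_univ_two, ha]

theorem cj_dg_uu (a b : F) (ha : a ≠ 0) : (cj (dg a ha)).symm (uu b) = uu (b * a) := by
  apply Subtype.ext
  rw [cj_symm_coe]
  show (!![1, 0; 0, a⁻¹] : M2 F) * (uu b : SL F).1 * !![1, 0; 0, a] = (uu (b * a) : SL F).1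
  rw [uu_coe, uu_coe]
  ext i j; fin_cases i <;> fin_cases j <;> simp [Matrix.mul_apply, Fin.sum_univ_two, ha]

theorem fixed_of_cj (g₀ : (M2 F)ˣ) (x : SL F) (v e : Fin 2 → F) (hge : (g₀ : M2 F).mulVec e = v)
    (hxv : (x : M2 F).mulVec v = v) : (((cj g₀).symm x : SL F) : M2 F).mulVec e = e := by
  rw [cj_symm_coe, ← Matrix.mulVec_mulVec, ← Matrix.mulVec_mulVec, hge, hxv, ← hge,
    Matrix.mulVec_mulVec, Units.inv_mul, Matrix.one_mulVec]

/-- **normal form** of two nontrivial unipotent elements with independent fixed vectors -/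
theorem exists_normal_form (x y : SL F) (v w : Fin 2 → F) (hx1 : x ≠ 1) (hy1 : y ≠ 1)
    (hxv : (x : M2 F).mulVec v = v) (hyw : (y : M2 F).mulVec w = w)
    (hδ : w 0 * v 1 - w 1 * v 0 ≠ 0) :
    ∃ (Θ : SL F ≃* SL F) (lam : F), lam ≠ 0 ∧ Θ x = ll 1 ∧ Θ y = uu lam := by
  have hdet : (!![w 0, v 0; w 1, v 1] : M2 F).det ≠ 0 := by
    rw [Matrix.det_fin_two]; simpa [mul_comm] using hδ
  obtain ⟨g₀, hg₀⟩ : ∃ g₀ : (M2 F)ˣ, (g₀ : M2 F) = !![w 0, v 0; w 1, v 1] :=
    ⟨Matrix.GeneralLinearGroup.mkOfDetNeZero _ hdet, rfl⟩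
  have he2 : (g₀ : M2 F).mulVec ![0, 1] = v := by
    rw [hg₀]; funext i; fin_cases i <;> simp [Matrix.mulVec, dotProduct, Fin.sum_univ_two]
  have he1 : (g₀ : M2 F).mulVec ![1, 0] = w := by
    rw [hg₀]; funext i; fin_cases i <;> simp [Matrix.mulVec, dotProduct, Fin.sum_univ_two]
  have hx₁ := eq_ll_of_fixed _ (fixed_of_cj g₀ x v _ he2 hxv)
  have hy₁ := eq_uu_of_fixed _ (fixed_of_cj g₀ y w _ he1 hyw)
  obtain ⟨a, ha⟩ : ∃ a : F, a = (((cj g₀).symm x : SL F) : M2 F) 1 0 := ⟨_, rfl⟩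
  obtain ⟨b, hb⟩ : ∃ b : F, b = (((cj g₀).symm y : SL F) : M2 F) 0 1 := ⟨_, rfl⟩
  rw [← ha] at hx₁
  rw [← hb] at hy₁
  have ha0 : a ≠ 0 := by
    intro h0
    rw [h0, ll_zero] at hx₁
    apply hx1
    have := congrArg (cj g₀) hx₁
    rwa [MulEquiv.apply_symm_apply, map_one] at this
  have hb0 : b ≠ 0 := by
    intro h0
    rw [h0, uu_zero] at hy₁
    apply hy1
    have := congrArg (cj g₀) hy₁
    rwa [MulEquiv.apply_symm_apply, map_one] at this
  refine ⟨(cj g₀).symm.trans (cj (dg a ha0)).symm, b * a, mul_ne_zero hb0 ha0, ?_, ?_⟩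
  · rw [MulEquiv.trans_apply, hx₁, cj_dg_ll]
  · rw [MulEquiv.trans_apply, hy₁, cj_dg_uu]

end Cfsg.Agent.Lib.H1.DicksonBridge

namespace Cfsg.Agent.Lib.H1.DicksonBridge

open Cfsg.Agent.Lib.H1.SL2 Cfsg.Agent.Lib.H1.QdSec

variable {F : Type*} [Field F] {p : ℕ} [hp : Fact p.Prime]

/-- an injective homomorphism from `SL₂(p)` whose values on the standard generators lie in `C` gives a copy of
`SL₂(p)` inside `C` -/
theorem copy_of_hom (Φ : Matrix.SpecialLinearGroup (Fin 2) (ZMod p) →* SL F)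
    (hΦ : Function.Injective Φ) (C : Subgroup (SL F)) (hu : Φ (uu 1) ∈ C) (hl : Φ (ll 1) ∈ C) :
    ∃ K : Subgroup (SL F), K ≤ C ∧ Nonempty (K ≃* Matrix.SpecialLinearGroup (Fin 2) (ZMod p)) := by
  refine ⟨Φ.range, ?_, ⟨(MonoidHom.ofInjective hΦ).symm⟩⟩
  rw [MonoidHom.range_eq_map, ← closure_uu_ll p, MonoidHom.map_closure, Subgroup.closure_le]
  rintro _ ⟨g, hg, rfl⟩
  rcases hg with rfl | rfl
  · exact hu
  · exact hl

theorem map_uu {R S : Type*} [CommRing R] [CommRing S] (f : R →+* S) (t : R) :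
    Matrix.SpecialLinearGroup.map f (uu t) = uu (f t) := by
  apply Subtype.ext
  ext i j
  fin_cases i <;> fin_cases j <;> simp [Matrix.SpecialLinearGroup.map_apply_coe, uu_coe]

theorem map_ll {R S : Type*} [CommRing R] [CommRing S] (f : R →+* S) (t : R) :
    Matrix.SpecialLinearGroup.map f (ll t) = ll (f t) := by
  apply Subtype.ext
  ext i j
  fin_cases i <;> fin_cases j <;> simp [Matrix.SpecialLinearGroup.map_apply_coe, ll_coe]

theorem map_injective {R S : Type*} [CommRing R] [CommRing S] (f : R →+* S)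
    (hf : Function.Injective f) :
    Function.Injective (Matrix.SpecialLinearGroup.map (n := Fin 2) f) := by
  intro M N h
  apply Subtype.ext
  ext i j
  have := congrArg (fun X : Matrix.SpecialLinearGroup (Fin 2) S => (X : Matrix (Fin 2) (Fin 2) S) i j) h
  simp only [Matrix.SpecialLinearGroup.map_apply_coe, RingHom.mapMatrix_apply, Matrix.map_apply] at this
  exact hf this

/-- the exceptional identity in characteristic `3` with `λ² = -1` -/
theorem exc_identity (h3 : (3 : F) = 0) (lam : F) (hlam : lam ^ 2 = -1) :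
    ll (lam - 1) * uu 1 * (ll (lam - 1))⁻¹ = uu lam * ll 1 * uu lam * (ll (1 : F))⁻¹ * (uu lam)⁻¹ := by
  have hi1 : (ll (lam - 1))⁻¹ = ll (-(lam - 1)) := by
    rw [inv_eq_iff_mul_eq_one, ← ll_add]; simp [ll_zero]
  have hi2 : (ll (1 : F))⁻¹ = ll (-1) := by
    rw [inv_eq_iff_mul_eq_one, ← ll_add]; simp [ll_zero]
  have hi3 : (uu lam)⁻¹ = uu (-lam) := by
    rw [inv_eq_iff_mul_eq_one, ← uu_add]; simp [uu_zero]
  rw [hi1, hi2, hi3]
  apply Subtype.ext
  simp only [Matrix.SpecialLinearGroup.coe_mul, uu_coe, ll_coe]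
  ext i j
  fin_cases i <;> fin_cases j <;> simp [Matrix.mul_apply, Fin.sum_univ_two]
  · linear_combination hlam
  · linear_combination (-(lam + 2)) * hlam + h3
  · linear_combination (-1 : F) * hlam + lam * h3
  · linear_combination (-1 : F) * hlam

end Cfsg.Agent.Lib.H1.DicksonBridge

namespace Cfsg.Agent.Lib.H1.DicksonBridge

open Cfsg.Agent.Lib.H1.SL2 Cfsg.Agent.Lib.H1.QdSec

universe u

/-- weak form of Dickson's generation lemma (statement S0801 without the order of the exceptional group) -/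
def DicksonGen : Prop :=
  ∀ (K : Type u) [Field K] [Fintype K], (2 : K) ≠ 0 → ∀ lam : K, lam ≠ 0 →
    Subfield.closure ({lam} : Set K) = ⊤ →
    Subgroup.closure ({ll (1 : K), uu lam} : Set (SL K)) = ⊤ ∨ (Fintype.card K = 9 ∧ lam ^ 2 = -1)

variable {F : Type u} [Field F] {p : ℕ} [hp : Fact p.Prime]

theorem gen_case [Finite F] [CharP F p] (hp2 : p ≠ 2) (hgen : DicksonGen.{u}) (lam : F)
    (hlam : lam ≠ 0) :
    ∃ K : Subgroup (SL F), K ≤ Subgroup.closure ({ll (1 : F), uu lam} : Set (SL F)) ∧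
      Nonempty (K ≃* Matrix.SpecialLinearGroup (Fin 2) (ZMod p)) := by
  obtain ⟨F₀, hF₀⟩ : ∃ F₀ : Subfield F, F₀ = Subfield.closure ({lam} : Set F) := ⟨_, rfl⟩
  have hlamF₀ : lam ∈ F₀ := hF₀ ▸ Subfield.subset_closure (Set.mem_singleton lam)
  obtain ⟨lam₀, hlam₀⟩ : ∃ lam₀ : F₀, lam₀ = ⟨lam, hlamF₀⟩ := ⟨_, rfl⟩
  have hlam₀c : (lam₀ : F) = lam := by rw [hlam₀]
  have : Fintype F₀ := Fintype.ofFinite _
  have h2F : (2 : F) ≠ 0 := by
    intro h
    have h3 : ((2 : ℕ) : F) = 0 := by exact_mod_cast h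
    rw [CharP.cast_eq_zero_iff F p] at h3
    exact hp2 ((Nat.prime_dvd_prime_iff_eq hp.out Nat.prime_two).mp h3)
  have h2 : (2 : F₀) ≠ 0 := by
    intro h
    apply h2F
    have := congrArg (F₀.subtype) h
    rw [map_ofNat, map_zero] at this
    exact this
  have hl0 : lam₀ ≠ 0 := by
    intro h
    apply hlam
    rw [← hlam₀c, h]; rfl
  have hcl : Subfield.closure ({lam₀} : Set F₀) = ⊤ := by
    have h1 := RingHom.map_field_closure F₀.subtype ({lam₀} : Set F₀)
    rw [Set.image_singleton] at h1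
    have h1' : (Subfield.closure ({lam₀} : Set F₀)).map F₀.subtype = F₀ := by
      rw [h1]
      have : F₀.subtype lam₀ = lam := hlam₀c
      rw [this, ← hF₀]
    rw [eq_top_iff]
    intro z _
    have hz : (z : F) ∈ (Subfield.closure ({lam₀} : Set F₀)).map F₀.subtype := by
      rw [h1']; exact z.2
    obtain ⟨z', hz', hzz⟩ := hz
    have : z' = z := Subtype.ext hzz
    rw [← this]; exact hz'
  obtain ⟨ι, hι⟩ : ∃ ι : Matrix.SpecialLinearGroup (Fin 2) (ZMod p) →* SL F,
    ι = Matrix.SpecialLinearGroup.map (ZMod.castHom (dvd_refl p) F) := ⟨_, rfl⟩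
  have hιinj : Function.Injective ι := by
    rw [hι]; exact map_injective _ (RingHom.injective _)
  have hιu : ι (uu 1) = uu 1 := by rw [hι, map_uu, map_one]
  have hιl : ι (ll 1) = ll 1 := by rw [hι, map_ll, map_one]
  obtain ⟨C, hC⟩ : ∃ C : Subgroup (SL F), C = Subgroup.closure ({ll (1 : F), uu lam} : Set (SL F)) :=
    ⟨_, rfl⟩
  rw [← hC]
  have hlC : ll (1 : F) ∈ C := hC ▸ Subgroup.subset_closure (by simp)
  have huC : uu lam ∈ C := hC ▸ Subgroup.subset_closure (by simp)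
  rcases hgen F₀ h2 lam₀ hl0 hcl with htop | ⟨h9, hsq⟩
  · -- generic case
    refine copy_of_hom ι hιinj C ?_ ?_
    · rw [hιu]
      obtain ⟨j, hj⟩ : ∃ j : SL F₀ →* SL F, j = Matrix.SpecialLinearGroup.map F₀.subtype := ⟨_, rfl⟩
      have h1 : uu (1 : F) = j (uu 1) := by rw [hj, map_uu, map_one]
      have h2 : j (uu (1 : F₀)) ∈ (Subgroup.closure ({ll (1 : F₀), uu lam₀} : Set (SL F₀))).map j :=
        ⟨_, by rw [htop]; trivial, rfl⟩
      rw [MonoidHom.map_closure, Set.image_insert_eq, Set.image_singleton] at h2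
      have h3 : j (ll 1) = ll 1 := by rw [hj, map_ll, map_one]
      have h4 : j (uu lam₀) = uu lam := by
        rw [hj, map_uu]
        have : F₀.subtype lam₀ = lam := hlam₀c
        rw [this]
      rw [h3, h4, ← hC] at h2
      rw [h1]; exact h2
    · rw [hιl]; exact hlC
  · -- exceptional case
    have hp3 : p = 3 := by
      have h1 : p ∣ Nat.card F₀ := by
        have h3 : CharP F₀ p := by
          refine ⟨fun n => ?_⟩
          rw [← CharP.cast_eq_zero_iff F p n]
          constructor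
          · intro h; have := congrArg F₀.subtype h; simpa using this
          · intro h; apply Subtype.ext; simpa using h
        have h2 : addOrderOf (1 : F₀) = p := by
          have := CharP.addOrderOf_one F₀
          exact CharP.eq F₀ this h3
        rw [← h2]; exact addOrderOf_dvd_natCard 1
      rw [Nat.card_eq_fintype_card, h9] at h1
      have h2 : p ∣ 3 := by
        have : p ∣ 3 ^ 2 := by norm_num; exact h1
        exact hp.out.dvd_of_dvd_pow this
      exact (Nat.prime_dvd_prime_iff_eq hp.out Nat.prime_three).mp h2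
    have h3 : (3 : F) = 0 := by
      have := CharP.cast_eq_zero F p
      rw [hp3] at this
      exact_mod_cast this
    have hsqF : lam ^ 2 = -1 := by
      have := congrArg F₀.subtype hsq
      simpa [hlam₀c] using this
    obtain ⟨Φ, hΦ⟩ : ∃ Φ : Matrix.SpecialLinearGroup (Fin 2) (ZMod p) →* SL F,
      Φ = (MulAut.conj (ll (lam - 1))).toMonoidHom.comp ι := ⟨_, rfl⟩
    have hΦinj : Function.Injective Φ := by
      rw [hΦ]; exact (MulAut.conj (ll (lam - 1))).injective.comp hιinj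
    refine copy_of_hom Φ hΦinj C ?_ ?_
    · rw [hΦ]
      simp only [MonoidHom.comp_apply, MulEquiv.coe_toMonoidHom, MulAut.conj_apply, hιu]
      rw [exc_identity h3 lam hsqF]
      exact C.mul_mem (C.mul_mem (C.mul_mem (C.mul_mem huC hlC) huC) (C.inv_mem hlC)) (C.inv_mem huC)
    · rw [hΦ]
      simp only [MonoidHom.comp_apply, MulEquiv.coe_toMonoidHom, MulAut.conj_apply, hιl]
      have : ll (lam - 1) * ll 1 * (ll (lam - 1))⁻¹ = ll (1 : F) := by
        rw [← ll_add, add_comm, ll_add, mul_inv_cancel_right]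
      rw [this]; exact hlC

/-- **Dickson's theorem (S0274) from the generation lemma (S0801)** -/
theorem dicksonHyp_of_gen (hp2 : p ≠ 2) (hgen : DicksonGen.{u}) : DicksonHyp.{u} p := by
  intro F _ _ _ H hH
  obtain ⟨x, y, v, w, hxH, hyH, hx1, hy1, hxv, hyw, hδ⟩ := exists_unipotent_pair H hH
  obtain ⟨Θ, lam, hlam, hΘx, hΘy⟩ := exists_normal_form x y v w hx1 hy1 hxv hyw hδ
  obtain ⟨K', hK'C, ⟨e⟩⟩ := gen_case (p := p) hp2 hgen lam hlam
  refine ⟨K'.map Θ.symm.toMonoidHom, ?_, ⟨?_⟩⟩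
  · refine le_trans (Subgroup.map_mono hK'C) ?_
    rw [MonoidHom.map_closure, Subgroup.closure_le]
    rintro _ ⟨g, hg, rfl⟩
    rcases hg with rfl | rfl
    · rw [← hΘx]; simpa using hxH
    · rw [← hΘy]; simpa using hyH
  · exact ((K'.equivMapOfInjective Θ.symm.toMonoidHom Θ.symm.injective).symm).trans e

end Cfsg.Agent.Lib.H1.DicksonBridge
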