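import Mathlib

/-!
helper1 library: the model of the extraspecial group `2^{1+4}_-` of order 32 (central product of
`D8` and `Q8`), its presentation by four pairwise non-commuting involutions, and the universal
property (homomorphisms out of the model from "good tuples").
-/

set_option autoImplicit false

namespace Cfsg.Agent.Lib.H1.ES32

theorem zmod2_cases (t : ZMod 2) : t = 0 ∨ t = 1 := by
  revert t; decide

theorem zmod2_add_self (t : ZMod 2) : t + t = 0 := by
  revert t; decide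

theorem zmod2_mul_self (t : ZMod 2) : t * t = t := by
  revert t; decide

/-- The model group: elements `c^e x₁^a x₂^b x₃^c x₄^d`. -/
@[ext] structure M where
  e : ZMod 2
  a : ZMod 2
  b : ZMod 2
  c : ZMod 2
  d : ZMod 2
deriving DecidableEq, Fintype

namespace M

instance : Mul M := ⟨fun m n =>
  ⟨m.e + n.e + (m.b * n.a + m.c * n.a + m.c * n.b + m.d * n.a + m.d * n.b + m.d * n.c),
    m.a + n.a, m.b + n.b, m.c + n.c, m.d + n.d⟩⟩

instance : One M := ⟨⟨0, 0, 0, 0, 0⟩⟩

instance : Inv M := ⟨fun m =>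
  ⟨m.e + (m.b * m.a + m.c * m.a + m.c * m.b + m.d * m.a + m.d * m.b + m.d * m.c),
    m.a, m.b, m.c, m.d⟩⟩

theorem mul_def (m n : M) : m * n =
  ⟨m.e + n.e + (m.b * n.a + m.c * n.a + m.c * n.b + m.d * n.a + m.d * n.b + m.d * n.c),
    m.a + n.a, m.b + n.b, m.c + n.c, m.d + n.d⟩ := rfl

theorem one_def : (1 : M) = ⟨0, 0, 0, 0, 0⟩ := rfl

theorem inv_def (m : M) : m⁻¹ =
  ⟨m.e + (m.b * m.a + m.c * m.a + m.c * m.b + m.d * m.a + m.d * m.b + m.d * m.c),
    m.a, m.b, m.c, m.d⟩ := rfl

instance : Group M where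
  mul_assoc m n k := by
    ext <;> simp only [mul_def] <;> ring
  one_mul m := by
    ext <;> simp [mul_def, one_def]
  mul_one m := by
    ext <;> simp [mul_def, one_def]
  inv_mul_cancel m := by
    revert m; decide

end M

/-- `g ^ t` for an exponent `t : ZMod 2` (meant for involutions). -/
def pw {Q : Type*} [One Q] (g : Q) (t : ZMod 2) : Q := if t = 0 then 1 else g

@[simp] theorem pw_zero {Q : Type*} [One Q] (g : Q) : pw g 0 = 1 := by simp [pw]

@[simp] theorem pw_one {Q : Type*} [One Q] (g : Q) : pw g 1 = g := by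
  have : (1 : ZMod 2) ≠ 0 := by decide
  simp [pw, this]

section pwlemmas

variable {Q : Type*} [Group Q]

theorem pw_add {g : Q} (hg : g * g = 1) (s t : ZMod 2) : pw g s * pw g t = pw g (s + t) := by
  rcases zmod2_cases s with rfl | rfl <;> rcases zmod2_cases t with rfl | rfl <;>
    simp [hg, zmod2_add_self]

theorem pw_add' {g : Q} (hg : g * g = 1) (s t : ZMod 2) (w : Q) :
    pw g s * (pw g t * w) = pw g (s + t) * w := by
  rw [← mul_assoc, pw_add hg]

theorem pw_comm {g h : Q} (hgh : g * h = h * g) (s t : ZMod 2) :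
    pw g s * pw h t = pw h t * pw g s := by
  rcases zmod2_cases s with rfl | rfl <;> rcases zmod2_cases t with rfl | rfl <;>
    simp [hgh]

theorem pw_comm' {g h : Q} (hgh : g * h = h * g) (s t : ZMod 2) (w : Q) :
    pw g s * (pw h t * w) = pw h t * (pw g s * w) := by
  rw [← mul_assoc, pw_comm hgh, mul_assoc]

theorem pw_swap {z g h : Q} (hgh : h * g = z * (g * h)) (s t : ZMod 2) :
    pw h t * pw g s = pw z (s * t) * (pw g s * pw h t) := by
  rcases zmod2_cases s with rfl | rfl <;> rcases zmod2_cases t with rfl | rfl <;>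
    simp [hgh]

theorem pw_swap' {z g h : Q} (hgh : h * g = z * (g * h)) (s t : ZMod 2) (w : Q) :
    pw h t * (pw g s * w) = pw z (s * t) * (pw g s * (pw h t * w)) := by
  rw [← mul_assoc, pw_swap hgh, mul_assoc, mul_assoc]

end pwlemmas

/-- A "good tuple" in a group `Q`: a central involution `z` (central relative to the `y i`) and four
involutions `y i`, pairwise with commutator `z`. -/
structure Good (Q : Type*) [Group Q] where
  z : Q
  y : Fin 4 → Q
  zz : z * z = 1
  yz : ∀ i, y i * z = z * y i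
  yy : ∀ i, y i * y i = 1
  sw : ∀ i j, i < j → y j * y i = z * (y i * y j)

namespace Good

variable {Q : Type*} [Group Q] (g : Good Q)

/-- The normal form map. -/
def F (m : M) : Q :=
  pw g.z m.e * (pw (g.y 0) m.a * (pw (g.y 1) m.b * (pw (g.y 2) m.c * pw (g.y 3) m.d)))

theorem F_def (m : M) : g.F m =
  pw g.z m.e * (pw (g.y 0) m.a * (pw (g.y 1) m.b * (pw (g.y 2) m.c * pw (g.y 3) m.d))) := rfl

theorem Fz (t : ZMod 2) (m : M) : pw g.z t * g.F m = g.F ⟨m.e + t, m.a, m.b, m.c, m.d⟩ := by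
  rw [F_def, F_def, pw_add' g.zz, add_comm]

theorem F0 (t : ZMod 2) (m : M) : pw (g.y 0) t * g.F m = g.F ⟨m.e, m.a + t, m.b, m.c, m.d⟩ := by
  rw [F_def, F_def, pw_comm' (g.yz 0), pw_add' (g.yy 0), add_comm]

theorem F1 (t : ZMod 2) (m : M) :
    pw (g.y 1) t * g.F m = g.F ⟨m.e + m.a * t, m.a, m.b + t, m.c, m.d⟩ := by
  rw [F_def, F_def, pw_comm' (g.yz 1), pw_swap' (g.sw 0 1 (by decide)), pw_add' (g.yy 1),
    pw_add' g.zz, add_comm t]

theorem F2 (t : ZMod 2) (m : M) :
    pw (g.y 2) t * g.F m = g.F ⟨m.e + (m.a * t + m.b * t), m.a, m.b, m.c + t, m.d⟩ := by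
  rw [F_def, F_def, pw_comm' (g.yz 2), pw_swap' (g.sw 0 2 (by decide)),
    pw_swap' (g.sw 1 2 (by decide)), pw_add' (g.yy 2), add_comm t]
  simp only [pw_comm' (g.yz 0), pw_add' g.zz]

theorem F3 (t : ZMod 2) (m : M) :
    pw (g.y 3) t * g.F m = g.F ⟨m.e + (m.a * t + m.b * t + m.c * t), m.a, m.b, m.c, m.d + t⟩ := by
  rw [F_def, F_def, pw_comm' (g.yz 3), pw_swap' (g.sw 0 3 (by decide)),
    pw_swap' (g.sw 1 3 (by decide)), pw_swap' (g.sw 2 3 (by decide)), pw_add (g.yy 3), add_comm t]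
  simp only [pw_comm' (g.yz 0), pw_comm' (g.yz 1), pw_add' g.zz]
  congr 2
  ring

theorem F_mul (n m : M) : g.F (n * m) = g.F n * g.F m := by
  have h : g.F n * g.F m = pw g.z n.e * (pw (g.y 0) n.a * (pw (g.y 1) n.b * (pw (g.y 2) n.c *
      (pw (g.y 3) n.d * g.F m)))) := by
    rw [F_def g n]; simp only [mul_assoc]
  rw [h, F3, F2, F1, F0, Fz]
  congr 1
  ext <;> simp only [M.mul_def] <;> ring

theorem F_one : g.F 1 = 1 := by
  simp [F_def, M.one_def]

/-- The homomorphism out of the model defined by a good tuple. -/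
def lift : M →* Q where
  toFun := g.F
  map_one' := g.F_one
  map_mul' := g.F_mul

theorem lift_apply (m : M) : g.lift m = g.F m := rfl

end Good

end Cfsg.Agent.Lib.H1.ES32
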