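import Cfsg.Agent.Lib.H1.ES32A

/-!
helper1 library: finite facts about the model `M` of `2^{1+4}_-`, injectivity of lifts, and the
homomorphism `MulAut M →* Perm (Fin 5)` (action on the five singular points), with kernel the inner
automorphisms and full image.
-/

set_option autoImplicit false

namespace Cfsg.Agent.Lib.H1.ES32

/-- The central involution of the model. -/
def cM : M := ⟨1, 0, 0, 0, 0⟩

/-- The four standard generators. -/
def xM : Fin 4 → M := ![⟨0, 1, 0, 0, 0⟩, ⟨0, 0, 1, 0, 0⟩, ⟨0, 0, 0, 1, 0⟩, ⟨0, 0, 0, 0, 1⟩]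

/-- Representatives of the five singular points. -/
def sing : Fin 5 → M :=
  ![⟨0, 1, 0, 0, 0⟩, ⟨0, 0, 1, 0, 0⟩, ⟨0, 0, 0, 1, 0⟩, ⟨0, 0, 0, 0, 1⟩, ⟨0, 1, 1, 1, 1⟩]

/-- The index of the singular point of (the image mod the centre of) an element. -/
def idx (m : M) : Fin 5 :=
  if m.a = 1 ∧ m.b = 0 ∧ m.c = 0 ∧ m.d = 0 then 0
  else if m.a = 0 ∧ m.b = 1 ∧ m.c = 0 ∧ m.d = 0 then 1
  else if m.a = 0 ∧ m.b = 0 ∧ m.c = 1 ∧ m.d = 0 then 2
  else if m.a = 0 ∧ m.b = 0 ∧ m.c = 0 ∧ m.d = 1 then 3
  else 4

theorem cM_ne_one : cM ≠ 1 := by decide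

theorem cM_mul_self : cM * cM = 1 := by decide

theorem cM_central : ∀ m : M, m * cM = cM * m := by decide

theorem comm_cases : ∀ m n : M, n * m * n⁻¹ * m⁻¹ = 1 ∨ n * m * n⁻¹ * m⁻¹ = cM := by decide

theorem exists_comm : ∀ m : M, m ≠ 1 → m = cM ∨ ∃ n : M, n * m * n⁻¹ * m⁻¹ = cM := by decide

theorem nci_cases : ∀ m : M, m * m = 1 → m ≠ 1 → m ≠ cM →
    m = sing (idx m) ∨ m = cM * sing (idx m) := by decide

theorem idx_sing : ∀ k : Fin 5, idx (sing k) = k := by decide

theorem idx_cM_mul : ∀ m : M, idx (cM * m) = idx m := by decide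

theorem sing_sq : ∀ k : Fin 5, sing k * sing k = 1 := by decide

theorem sing_ne_one : ∀ k : Fin 5, sing k ≠ 1 := by decide

theorem sing_ne_cM : ∀ k : Fin 5, sing k ≠ cM := by decide

theorem sing_swap : ∀ j k : Fin 5, j ≠ k → sing k * sing j = cM * (sing j * sing k) := by decide

theorem idx_conj : ∀ (n : M) (k : Fin 5), idx (n * sing k * n⁻¹) = k := by decide

theorem sing_castSucc : ∀ i : Fin 4, sing i.castSucc = xM i := by decide

theorem cM_eq_comm : cM = xM 1 * xM 0 * (xM 1)⁻¹ * (xM 0)⁻¹ := by decide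

theorem exists_conj : ∀ e0 e1 e2 e3 : ZMod 2, ∃ n : M,
    n * xM 0 * n⁻¹ = pw cM e0 * xM 0 ∧ n * xM 1 * n⁻¹ = pw cM e1 * xM 1 ∧
    n * xM 2 * n⁻¹ = pw cM e2 * xM 2 ∧ n * xM 3 * n⁻¹ = pw cM e3 * xM 3 := by decide

theorem normal_form : ∀ m : M,
    m = pw cM m.e * (pw (xM 0) m.a * (pw (xM 1) m.b * (pw (xM 2) m.c * pw (xM 3) m.d))) := by
  decide

theorem card_M : Nat.card M = 32 := by
  rw [Nat.card_eq_fintype_card]; decide

theorem map_pw {Q R : Type*} [Group Q] [Group R] (f : Q →* R) (g : Q) (t : ZMod 2) :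
    f (pw g t) = pw (f g) t := by
  rcases zmod2_cases t with rfl | rfl <;> simp

section lift

variable {Q : Type*} [Group Q] (g : Good Q)

theorem Good.lift_cM : g.lift cM = g.z := by
  simp [Good.lift_apply, Good.F_def, cM]

theorem Good.lift_xM (i : Fin 4) : g.lift (xM i) = g.y i := by
  fin_cases i <;> simp [Good.lift_apply, Good.F_def, xM]

theorem Good.lift_injective (hz : g.z ≠ 1) : Function.Injective g.lift := by
  rw [injective_iff_map_eq_one]
  intro m hm
  by_contra hne
  rcases exists_comm m hne with rfl | ⟨n, hn⟩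
  · exact hz (by rw [← g.lift_cM]; exact hm)
  · apply hz
    rw [← g.lift_cM, ← hn]
    simp [map_mul, map_inv, hm]

/-- Two homomorphisms out of the model agreeing on the four generators are equal. -/
theorem hom_ext' (f₁ f₂ : M →* Q) (h : ∀ i, f₁ (xM i) = f₂ (xM i)) : f₁ = f₂ := by
  have hc : f₁ cM = f₂ cM := by
    rw [cM_eq_comm]; simp only [map_mul, map_inv, h]
  ext m
  rw [normal_form m]
  simp only [map_mul, map_pw, h, hc]

end lift

/-- The good tuple of the model attached to a permutation of the five singular points. -/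
def goodOfPerm (σ : Equiv.Perm (Fin 5)) : Good M where
  z := cM
  y := fun i => sing (σ i.castSucc)
  zz := cM_mul_self
  yz := fun _ => cM_central _
  yy := fun _ => sing_sq _
  sw := fun i j hij => sing_swap _ _ (fun h => by
    have := Fin.castSucc_injective _ (σ.injective h)
    exact absurd this (ne_of_lt hij))

/-- The automorphism of the model attached to a permutation of the five singular points. -/
noncomputable def autOfPerm (σ : Equiv.Perm (Fin 5)) : MulAut M :=
  MulEquiv.ofBijective (goodOfPerm σ).lift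
    ((Finite.injective_iff_bijective).mp ((goodOfPerm σ).lift_injective cM_ne_one))

theorem autOfPerm_xM (σ : Equiv.Perm (Fin 5)) (i : Fin 4) :
    autOfPerm σ (xM i) = sing (σ i.castSucc) := by
  change (goodOfPerm σ).lift (xM i) = _
  rw [Good.lift_xM]; rfl

section aut

variable (α β : MulAut M)

theorem aut_cM : α cM = cM := by
  have h1 : α cM = α (xM 1) * α (xM 0) * (α (xM 1))⁻¹ * (α (xM 0))⁻¹ := by
    conv_lhs => rw [cM_eq_comm]
    simp only [map_mul, map_inv]
  rcases comm_cases (α (xM 0)) (α (xM 1)) with h | h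
  · exfalso
    rw [h] at h1
    have : α cM = α 1 := by rw [h1, map_one]
    exact cM_ne_one (α.injective this)
  · rw [h1, h]

theorem aut_sing_cases (k : Fin 5) :
    α (sing k) = sing (idx (α (sing k))) ∨ α (sing k) = cM * sing (idx (α (sing k))) := by
  apply nci_cases
  · rw [← map_mul, sing_sq, map_one]
  · intro h
    have : α (sing k) = α 1 := by rw [h, map_one]
    exact sing_ne_one k (α.injective this)
  · intro h
    have : α (sing k) = α cM := by rw [h, aut_cM]
    exact sing_ne_cM k (α.injective this)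

theorem idx_apply (k : Fin 5) :
    idx (α (β (sing k))) = idx (α (sing (idx (β (sing k))))) := by
  rcases aut_sing_cases β k with h | h
  · rw [← h]
  · conv_lhs => rw [h]
    rw [map_mul, aut_cM, idx_cM_mul]

end aut

/-- The action of automorphisms of the model on the five singular points. -/
noncomputable def permHom : MulAut M →* Equiv.Perm (Fin 5) where
  toFun α :=
    { toFun := fun k => idx (α (sing k))
      invFun := fun k => idx (α⁻¹ (sing k))
      left_inv := fun k => by
        show idx (α⁻¹ (sing (idx (α (sing k))))) = k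
        rw [← idx_apply, MulAut.inv_apply_self, idx_sing]
      right_inv := fun k => by
        show idx (α (sing (idx (α⁻¹ (sing k))))) = k
        rw [← idx_apply, MulAut.apply_inv_self, idx_sing] }
  map_one' := by
    ext k
    simp [idx_sing]
  map_mul' α β := by
    ext k
    show (idx ((α * β) (sing k)) : ℕ) = idx (α (sing (idx (β (sing k)))))
    rw [MulAut.mul_apply, idx_apply]

theorem permHom_apply (α : MulAut M) (k : Fin 5) : permHom α k = idx (α (sing k)) := rfl

theorem permHom_conj (n : M) : permHom (MulAut.conj n) = 1 := by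
  ext k
  rw [permHom_apply, MulAut.conj_apply, idx_conj]
  rfl

theorem exists_conj_of_permHom_eq_one (α : MulAut M) (h : permHom α = 1) :
    ∃ n : M, MulAut.conj n = α := by
  have hk : ∀ k, idx (α (sing k)) = k := by
    intro k
    rw [← permHom_apply, h]; rfl
  have hx : ∀ i : Fin 4, ∃ e : ZMod 2, α (xM i) = pw cM e * xM i := by
    intro i
    rcases aut_sing_cases α i.castSucc with h1 | h1
    · refine ⟨0, ?_⟩
      rw [hk, sing_castSucc] at h1
      rw [h1]; simp
    · refine ⟨1, ?_⟩
      rw [hk, sing_castSucc] at h1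
      rw [h1]; simp
  obtain ⟨e0, h0⟩ := hx 0
  obtain ⟨e1, h1⟩ := hx 1
  obtain ⟨e2, h2⟩ := hx 2
  obtain ⟨e3, h3⟩ := hx 3
  obtain ⟨n, hn0, hn1, hn2, hn3⟩ := exists_conj e0 e1 e2 e3
  refine ⟨n, ?_⟩
  have : (MulAut.conj n : MulAut M).toMonoidHom = α.toMonoidHom := by
    apply hom_ext'
    intro i
    show MulAut.conj n (xM i) = α (xM i)
    rw [MulAut.conj_apply]
    fin_cases i
    · exact hn0.trans h0.symm
    · exact hn1.trans h1.symm
    · exact hn2.trans h2.symm
    · exact hn3.trans h3.symm
  apply MulEquiv.ext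
  intro m
  exact DFunLike.congr_fun this m

theorem permHom_ker : permHom.ker = (MulAut.conj : M →* MulAut M).range := by
  ext α
  rw [MonoidHom.mem_ker, MonoidHom.mem_range]
  constructor
  · intro h
    exact exists_conj_of_permHom_eq_one α h
  · rintro ⟨n, rfl⟩
    exact permHom_conj n

theorem perm_ext_of_four (σ τ : Equiv.Perm (Fin 5)) (h : ∀ i : Fin 4, σ i.castSucc = τ i.castSucc) :
    σ = τ := by
  have key : ∀ ρ : Equiv.Perm (Fin 5), (∀ i : Fin 4, ρ i.castSucc = i.castSucc) → ρ = 1 := by
    intro ρ hρ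
    ext k
    induction k using Fin.lastCases with
    | cast i => rw [hρ]; rfl
    | last =>
      have : ρ (Fin.last 4) = Fin.last 4 := by
        by_contra hne
        obtain ⟨j, hj⟩ := Fin.exists_castSucc_eq.mpr hne
        have := ρ.injective (hj.symm.trans (hρ j).symm)
        exact absurd this (Fin.castSucc_lt_last j).ne'
      rw [this]; rfl
  have := key (τ⁻¹ * σ) (fun i => by
    rw [Equiv.Perm.mul_apply, h]; exact τ.symm_apply_apply _)
  rw [inv_mul_eq_one] at this
  exact this.symm

theorem permHom_autOfPerm (σ : Equiv.Perm (Fin 5)) : permHom (autOfPerm σ) = σ := by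
  apply perm_ext_of_four
  intro i
  rw [permHom_apply, sing_castSucc, autOfPerm_xM, idx_sing]

theorem permHom_surjective : Function.Surjective permHom :=
  fun σ => ⟨autOfPerm σ, permHom_autOfPerm σ⟩

end Cfsg.Agent.Lib.H1.ES32
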