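import Cfsg.Agent.Lib.H1.ES32B
import Cfsg.Agent.Lib.H1.PGroupBasic
import Cfsg.Prelude.Def_Transfer

/-!
helper1 library: an extraspecial group of order 32 without elementary abelian subgroups of order 8
has a good tuple, hence is isomorphic to the model.
-/

set_option autoImplicit false
set_option linter.unusedSimpArgs false
set_option linter.unusedSectionVars false

namespace Cfsg.Agent.Lib.H1.ES32

open scoped commutatorElement

theorem ra {G : Type*} [Semigroup G] {a b c : G} (h : a * b = c) (w : G) :
    a * (b * w) = c * w := by rw [← mul_assoc, h]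

/-- A subgroup with more elements than a finset has an element outside it. -/
theorem exists_mem_notMem_finset {P : Type*} [Group P] [Finite P] (H : Subgroup P) (S : Finset P)
    (h : S.card < Nat.card H) : ∃ x ∈ H, x ∉ S := by
  by_contra hcon
  push_neg at hcon
  have hsub : (H : Set P) ⊆ (S : Set P) := fun x hx => hcon x hx
  have h1 : Nat.card H ≤ S.card := by
    have := Set.ncard_le_ncard hsub (Finset.finite_toSet S)
    rw [Set.ncard_coe_finset] at this
    rwa [← Nat.card_coe_set_eq] at this
  omega

/-- A finset of elements of a subgroup has at most as many elements as the subgroup. -/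
theorem finset_card_le_card {P : Type*} [Group P] [Finite P] (H : Subgroup P) (S : Finset P)
    (h : ∀ x ∈ S, x ∈ H) : S.card ≤ Nat.card H := by
  by_contra hcon
  push_neg at hcon
  classical
  have hsub : (S : Set P) ⊆ (H : Set P) := fun x hx => h x hx
  have := Set.ncard_le_ncard hsub (Set.toFinite _)
  rw [Set.ncard_coe_finset, ← Nat.card_coe_set_eq] at this
  exact absurd hcon (not_lt.mpr this)

/-- Elementary data of an extraspecial `2`-group of minus type. -/
structure Data (P : Type*) [Group P] (z : P) : Prop where
  z1 : z ≠ 1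
  zz : z * z = 1
  zc : ∀ x, x * z = z * x
  comm : ∀ x y : P, y * x = x * y ∨ y * x = z * (x * y)
  sq : ∀ x : P, x * x = 1 ∨ x * x = z
  cen : ∀ x : P, (∀ y, y * x = x * y) → x = 1 ∨ x = z
  ne8 : ∀ a b : P, a * a = 1 → b * b = 1 → b * a = a * b → a ≠ 1 → a ≠ z → b ≠ 1 → b ≠ z →
    b ≠ a → b ≠ z * a → False

namespace Data

variable {P : Type*} [Group P] {z : P} (D : Data P z)
include D

theorem zc' (x w : P) : x * (z * w) = z * (x * w) := by rw [← mul_assoc, D.zc, mul_assoc]

theorem zz' (w : P) : z * (z * w) = w := by rw [← mul_assoc, D.zz, one_mul]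

theorem comm_of_ne {x y : P} (h : y * x ≠ x * y) : y * x = z * (x * y) :=
  (D.comm x y).resolve_left h

theorem ne_of_comm {x y : P} (h : y * x = z * (x * y)) : y * x ≠ x * y := by
  intro h'
  rw [h'] at h
  exact D.z1 (by simpa using h.symm)

theorem comm_symm {x y : P} (h : y * x = z * (x * y)) : x * y = z * (y * x) := by
  rw [h, D.zz']

theorem index_centralizer_le (x : P) : (Subgroup.centralizer ({x} : Set P)).index ≤ 2 := by
  by_cases hx : ∀ y, y * x = x * y
  · have : Subgroup.centralizer ({x} : Set P) = ⊤ := by
      rw [eq_top_iff]; intro y _; rw [Subgroup.mem_centralizer_singleton_iff]; exact hx y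
    rw [this, Subgroup.index_top]; norm_num
  · push_neg at hx
    obtain ⟨a, ha⟩ := hx
    have : (Subgroup.centralizer ({x} : Set P)).index = 2 := by
      rw [Subgroup.index_eq_two_iff_exists_notMem_and]
      refine ⟨a, ?_, ?_⟩
      · rw [Subgroup.mem_centralizer_singleton_iff]; exact ha
      · intro b
        by_cases hb : b * x = x * b
        · right; rw [Subgroup.mem_centralizer_singleton_iff]; exact hb
        · left; rw [Subgroup.mem_centralizer_singleton_iff]
          have h1 := D.comm_of_ne ha
          have h2 := D.comm_of_ne hb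
          calc b * a * x = b * (a * x) := mul_assoc _ _ _
            _ = b * (z * (x * a)) := by rw [h1]
            _ = z * (b * x * a) := by rw [D.zc', mul_assoc]
            _ = z * (z * (x * b) * a) := by rw [h2]
            _ = x * (b * a) := by rw [mul_assoc, D.zz', mul_assoc]
    omega

variable [Finite P]

theorem card_centralizer_ge (h32 : Nat.card P = 32) (x : P) :
    16 ≤ Nat.card (Subgroup.centralizer ({x} : Set P)) := by
  have h1 := Subgroup.card_mul_index (Subgroup.centralizer ({x} : Set P))
  have h2 := D.index_centralizer_le x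
  rw [h32] at h1
  nlinarith

theorem card_centralizer_inf_ge (h32 : Nat.card P = 32) (x y : P) :
    8 ≤ Nat.card (Subgroup.centralizer ({x} : Set P) ⊓ Subgroup.centralizer ({y} : Set P) :
      Subgroup P) := by
  have h1 := Subgroup.card_mul_index
    (Subgroup.centralizer ({x} : Set P) ⊓ Subgroup.centralizer ({y} : Set P))
  have h2 := D.index_centralizer_le x
  have h3 := D.index_centralizer_le y
  have h4 := Subgroup.index_inf_le (H := Subgroup.centralizer ({x} : Set P))
    (K := Subgroup.centralizer ({y} : Set P))
  rw [h32] at h1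
  have h5 : (Subgroup.centralizer ({x} : Set P) ⊓ Subgroup.centralizer ({y} : Set P)).index ≤ 4 := by
    calc _ ≤ _ := h4
      _ ≤ 2 * 2 := Nat.mul_le_mul h2 h3
  nlinarith

theorem exists_invol (h32 : Nat.card P = 32) : ∃ s : P, s * s = 1 ∧ s ≠ 1 ∧ s ≠ z := by
  classical
  obtain ⟨a, -, ha⟩ := exists_mem_notMem_finset (⊤ : Subgroup P) {1, z} (by
    rw [Subgroup.card_top, h32]
    exact lt_of_le_of_lt Finset.card_le_two (by norm_num))
  simp only [Finset.mem_insert, Finset.mem_singleton, not_or] at ha
  rcases D.sq a with h | h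
  · exact ⟨a, h, ha.1, ha.2⟩
  · obtain ⟨b, hb, hbS⟩ := exists_mem_notMem_finset (Subgroup.centralizer ({a} : Set P))
      {1, z, a, z * a} (lt_of_le_of_lt Finset.card_le_four (by
        have := D.card_centralizer_ge h32 a; omega))
    rw [Subgroup.mem_centralizer_singleton_iff] at hb
    simp only [Finset.mem_insert, Finset.mem_singleton, not_or] at hbS
    obtain ⟨hb1, hbz, hba, hbza⟩ := hbS
    rcases D.sq b with h' | h'
    · exact ⟨b, h', hb1, hbz⟩
    · refine ⟨a * b, ?_, ?_, ?_⟩
      · calc a * b * (a * b) = a * (b * a) * b := by simp only [mul_assoc]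
          _ = a * (a * b) * b := by rw [hb]
          _ = (a * a) * (b * b) := by simp only [mul_assoc]
          _ = 1 := by rw [h, h', D.zz]
      · intro hab
        apply hbza
        have : a * b = a * (z * a) := by rw [hab, D.zc', h, D.zz]
        exact mul_left_cancel this
      · intro hab
        apply hba
        have : a * b = a * a := by rw [hab, h]
        exact mul_left_cancel this

omit [Finite P] in
theorem exists_second {s : P} (hss : s * s = 1) (hs1 : s ≠ 1) (hsz : s ≠ z) :
    ∃ t : P, t * t = 1 ∧ t * s = z * (s * t) := by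
  have hnc : ¬ ∀ y, y * s = s * y := fun h => by
    rcases D.cen s h with h | h
    · exact hs1 h
    · exact hsz h
  push_neg at hnc
  obtain ⟨x, hx⟩ := hnc
  have hxs := D.comm_of_ne hx
  rcases D.sq x with h | h
  · exact ⟨x, h, hxs⟩
  · refine ⟨s * x, ?_, ?_⟩
    · calc s * x * (s * x) = s * (x * s) * x := by simp only [mul_assoc]
        _ = s * (z * (s * x)) * x := by rw [hxs]
        _ = z * ((s * s) * (x * x)) := by rw [D.zc']; simp only [mul_assoc]
        _ = 1 := by rw [hss, h, one_mul, D.zz]
    · rw [mul_assoc, hxs, D.zc']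

omit [Finite P] in
theorem sq_of_comm {s t : P} (hss : s * s = 1) (hs1 : s ≠ 1) (hsz : s ≠ z)
    (hts : t * s = z * (s * t)) {u : P} (hus : u * s = s * u) (hut : u * t = t * u)
    (hu1 : u ≠ 1) (huz : u ≠ z) : u * u = z := by
  rcases D.sq u with h | h
  · exfalso
    refine D.ne8 s u hss h hus hs1 hsz hu1 huz ?_ ?_
    · rintro rfl
      exact D.ne_of_comm hts hut.symm
    · rintro rfl
      apply D.ne_of_comm hts
      have : z * (s * t) = z * (t * s) := by rw [← mul_assoc, hut, D.zc']
      exact (mul_left_cancel this).symm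
  · exact h

theorem exists_good (h32 : Nat.card P = 32) : ∃ g : Good P, g.z = z := by
  classical
  obtain ⟨s, hss, hs1, hsz⟩ := D.exists_invol h32
  obtain ⟨t, htt, hts⟩ := D.exists_second hss hs1 hsz
  have hH := D.card_centralizer_inf_ge h32 s t
  have hmem : ∀ u, u ∈ Subgroup.centralizer ({s} : Set P) ⊓ Subgroup.centralizer ({t} : Set P) ↔
      u * s = s * u ∧ u * t = t * u := by
    intro u
    rw [Subgroup.mem_inf, Subgroup.mem_centralizer_singleton_iff,
      Subgroup.mem_centralizer_singleton_iff]
  obtain ⟨i, hiH, hiS⟩ := exists_mem_notMem_finset _ {1, z}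
    (lt_of_le_of_lt Finset.card_le_two (lt_of_lt_of_le (by norm_num) hH))
  obtain ⟨j, hjH, hjS⟩ := exists_mem_notMem_finset _ {1, z, i, z * i}
    (lt_of_le_of_lt Finset.card_le_four (lt_of_lt_of_le (by norm_num) hH))
  simp only [Finset.mem_insert, Finset.mem_singleton, not_or] at hiS hjS
  obtain ⟨hi1, hiz⟩ := hiS
  obtain ⟨hj1, hjz, hji', hjzi⟩ := hjS
  obtain ⟨his, hit⟩ := (hmem i).mp hiH
  obtain ⟨hjs, hjt⟩ := (hmem j).mp hjH
  have hii : i * i = z := D.sq_of_comm hss hs1 hsz hts his hit hi1 hiz
  have hjj : j * j = z := D.sq_of_comm hss hs1 hsz hts hjs hjt hj1 hjz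
  have hji : j * i = z * (i * j) := by
    by_contra hne
    have hc : j * i = i * j := by
      rcases D.comm i j with h | h
      · exact h
      · exact absurd h hne
    obtain ⟨hijs, hijt⟩ := (hmem (i * j)).mp (mul_mem hiH hjH)
    have h1 : i * j ≠ 1 := by
      intro hab
      apply hjzi
      have : i * j = i * (z * i) := by rw [hab, D.zc', hii, D.zz]
      exact mul_left_cancel this
    have h2 : i * j ≠ z := by
      intro hab
      apply hji'
      have : i * j = i * i := by rw [hab, hii]
      exact mul_left_cancel this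
    have h3 := D.sq_of_comm hss hs1 hsz hts hijs hijt h1 h2
    have h4 : i * j * (i * j) = 1 := by
      calc i * j * (i * j) = i * (j * i) * j := by simp only [mul_assoc]
        _ = i * (i * j) * j := by rw [hc]
        _ = (i * i) * (j * j) := by simp only [mul_assoc]
        _ = 1 := by rw [hii, hjj, D.zz]
    exact D.z1 (by rw [← h3, h4])
  have e1 : (1 : P) * 1 = 1 := one_mul 1
  refine ⟨⟨z, ![s, t, s * (t * i), s * (t * j)], D.zz, ?_, ?_, ?_⟩, rfl⟩
  · intro k; exact D.zc _
  · intro k
    fin_cases k
    · exact hss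
    · exact htt
    · show s * (t * i) * (s * (t * i)) = 1
      simp only [mul_assoc, hts, ra hts, his, ra his, hit, ra hit, D.zc s, D.zc t, D.zc i,
        D.zc' s, D.zc' t, D.zc' i, hss, ra hss, htt, ra htt, hii, ra hii, D.zz, D.zz', one_mul,
        mul_one]
    · show s * (t * j) * (s * (t * j)) = 1
      simp only [mul_assoc, hts, ra hts, hjs, ra hjs, hjt, ra hjt, D.zc s, D.zc t, D.zc j,
        D.zc' s, D.zc' t, D.zc' j, hss, ra hss, htt, ra htt, hjj, ra hjj, D.zz, D.zz', one_mul,
        mul_one]
  · intro k l hkl
    fin_cases k <;> fin_cases l <;> first | (exfalso; revert hkl; decide) | skip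
    · exact hts
    · show s * (t * i) * s = z * (s * (s * (t * i)))
      simp only [mul_assoc, hts, ra hts, his, ra his, hit, ra hit, D.zc s, D.zc t, D.zc i,
        D.zc' s, D.zc' t, D.zc' i, hss, ra hss, htt, ra htt, hii, ra hii, D.zz, D.zz', one_mul,
        mul_one]
    · show s * (t * j) * s = z * (s * (s * (t * j)))
      simp only [mul_assoc, hts, ra hts, hjs, ra hjs, hjt, ra hjt, D.zc s, D.zc t, D.zc j,
        D.zc' s, D.zc' t, D.zc' j, hss, ra hss, htt, ra htt, hjj, ra hjj, D.zz, D.zz', one_mul,
        mul_one]
    · show s * (t * i) * t = z * (t * (s * (t * i)))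
      simp only [mul_assoc, hts, ra hts, his, ra his, hit, ra hit, D.zc s, D.zc t, D.zc i,
        D.zc' s, D.zc' t, D.zc' i, hss, ra hss, htt, ra htt, hii, ra hii, D.zz, D.zz', one_mul,
        mul_one]
    · show s * (t * j) * t = z * (t * (s * (t * j)))
      simp only [mul_assoc, hts, ra hts, hjs, ra hjs, hjt, ra hjt, D.zc s, D.zc t, D.zc j,
        D.zc' s, D.zc' t, D.zc' j, hss, ra hss, htt, ra htt, hjj, ra hjj, D.zz, D.zz', one_mul,
        mul_one]
    · show s * (t * j) * (s * (t * i)) = z * (s * (t * i) * (s * (t * j)))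
      simp only [mul_assoc, hts, ra hts, his, ra his, hit, ra hit, hjs, ra hjs, hjt, ra hjt,
        hji, ra hji, D.zc s, D.zc t, D.zc i, D.zc j,
        D.zc' s, D.zc' t, D.zc' i, D.zc' j, hss, ra hss, htt, ra htt, hii, ra hii, hjj, ra hjj,
        D.zz, D.zz', one_mul, mul_one]

end Data

section closure

variable {G : Type*} [Group G]

theorem comm_closure_of_comm' (s : Set G) (hcomm : ∀ x ∈ s, ∀ y ∈ s, x * y = y * x) :
    ∀ a ∈ Subgroup.closure s, ∀ b ∈ Subgroup.closure s, a * b = b * a := by
  have step1 : ∀ x ∈ s, Subgroup.closure s ≤ Subgroup.centralizer ({x} : Set G) := by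
    intro x hx
    rw [Subgroup.closure_le]
    intro y hy
    rw [SetLike.mem_coe, Subgroup.mem_centralizer_singleton_iff]
    exact hcomm y hy x hx
  have step2 : ∀ a ∈ Subgroup.closure s,
      Subgroup.closure s ≤ Subgroup.centralizer ({a} : Set G) := by
    intro a ha
    rw [Subgroup.closure_le]
    intro y hy
    rw [SetLike.mem_coe, Subgroup.mem_centralizer_singleton_iff]
    have := Subgroup.mem_centralizer_singleton_iff.mp (step1 y hy ha)
    exact this.symm
  intro a ha b hb
  exact (Subgroup.mem_centralizer_singleton_iff.mp (step2 a ha hb)).symm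

theorem isElementaryAbelian_closure' (p : ℕ) (s : Set G) (hs : ∀ x ∈ s, x ^ p = 1)
    (hcomm : ∀ x ∈ s, ∀ y ∈ s, x * y = y * x) :
    Cfsg.IsElementaryAbelian p (Subgroup.closure s) := by
  have hc := comm_closure_of_comm' s hcomm
  refine ⟨⟨⟨?_⟩⟩, ?_⟩
  · rintro ⟨a, ha⟩ ⟨b, hb⟩
    exact Subtype.ext (hc a ha b hb)
  · intro a ha
    induction ha using Subgroup.closure_induction with
    | mem x hx => exact hs x hx
    | one => exact one_pow p
    | mul x y hx hy ihx ihy =>
      rw [(show Commute x y from hc x hx y hy).mul_pow, ihx, ihy, one_mul]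
    | inv x hx ih => rw [inv_pow, ih, inv_one]

end closure

/-- The elementary data of an extraspecial group of order 32 of minus type. -/
theorem data_of_extraspecial {P : Type*} [Group P] [Finite P]
    (hex : Cfsg.IsExtraspecial 2 P)
    (hminus : ∀ A : Subgroup P, Cfsg.IsElementaryAbelian 2 A → Nat.card ↥A ≤ 4) :
    ∃ z : P, Data P z := by
  classical
  obtain ⟨⟨hp, hfr, hcm⟩, hZ⟩ := hex
  haveI : Fact (Nat.Prime 2) := ⟨Nat.prime_two⟩
  obtain ⟨⟨z, hzc⟩, hz1, hzu⟩ := (Nat.card_eq_two_iff' (1 : Subgroup.center P)).mp hZ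
  have hcen : ∀ x ∈ Subgroup.center P, x = 1 ∨ x = z := by
    intro x hx
    by_cases h : (⟨x, hx⟩ : Subgroup.center P) = 1
    · left; exact congrArg Subtype.val h
    · right; exact congrArg Subtype.val (hzu _ h)
  have hz1' : z ≠ 1 := fun h => hz1 (Subtype.ext h)
  have hzc' : ∀ x, x * z = z * x := fun x => Subgroup.mem_center_iff.mp hzc x
  have hzz : z * z = 1 := by
    rcases hcen (z * z) (mul_mem hzc hzc) with h | h
    · exact h
    · exfalso
      apply hz1'
      exact mul_left_cancel (h.trans (mul_one z).symm)
  refine ⟨z, ⟨hz1', hzz, hzc', ?_, ?_, ?_, ?_⟩⟩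
  · intro x y
    have hmem : ⁅y, x⁆ ∈ commutator P := by
      rw [commutator_def]
      exact Subgroup.commutator_mem_commutator (Subgroup.mem_top y) (Subgroup.mem_top x)
    rw [hcm] at hmem
    rcases hcen _ hmem with h | h
    · left
      exact commutatorElement_eq_one_iff_mul_comm.mp h
    · right
      rw [commutatorElement_def] at h
      calc y * x = (y * x * y⁻¹ * x⁻¹) * (x * y) := by group
        _ = z * (x * y) := by rw [h]
  · intro x
    have := Cfsg.Agent.Lib.H1.isPGroup_pow_mem_frattini hp x
    rw [hfr, pow_two] at this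
    exact hcen _ this
  · intro x hx
    exact hcen x (Subgroup.mem_center_iff.mpr hx)
  · intro a b haa hbb hba ha1 haz hb1 hbz hbne hbza
    have hA : Cfsg.IsElementaryAbelian 2 (Subgroup.closure ({z, a, b} : Set P)) := by
      apply isElementaryAbelian_closure'
      · intro x hx
        simp only [Set.mem_insert_iff, Set.mem_singleton_iff] at hx
        rcases hx with rfl | rfl | rfl
        · rw [pow_two, hzz]
        · rw [pow_two, haa]
        · rw [pow_two, hbb]
      · intro x hx y hy
        simp only [Set.mem_insert_iff, Set.mem_singleton_iff] at hx hy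
        rcases hx with rfl | rfl | rfl <;> rcases hy with rfl | rfl | rfl <;>
          first | rfl | exact hzc' _ | exact (hzc' _).symm | exact hba | exact hba.symm
    have hzA : z ∈ Subgroup.closure ({z, a, b} : Set P) := Subgroup.subset_closure (by simp)
    have haA : a ∈ Subgroup.closure ({z, a, b} : Set P) := Subgroup.subset_closure (by simp)
    have hbA : b ∈ Subgroup.closure ({z, a, b} : Set P) := Subgroup.subset_closure (by simp)
    have h5 : ([1, z, a, z * a, b] : List P).toFinset.card ≤
        Nat.card (Subgroup.closure ({z, a, b} : Set P)) := by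
      apply finset_card_le_card
      intro x hx
      simp only [List.toFinset_cons, List.toFinset_nil, Finset.mem_insert,
        Finset.mem_singleton, insert_empty_eq] at hx
      rcases hx with rfl | rfl | rfl | rfl | rfl
      · exact one_mem _
      · exact hzA
      · exact haA
      · exact mul_mem hzA haA
      · exact hbA
    have hnd : ([1, z, a, z * a, b] : List P).Nodup := by
      have h1 : z * a ≠ 1 := by
        intro h
        apply haz
        have : z * a = z * z := by rw [h, hzz]
        exact mul_left_cancel this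
      have h2 : z * a ≠ z := by
        intro h
        apply ha1
        exact mul_left_cancel (h.trans (mul_one z).symm)
      have h3 : z * a ≠ a := by
        intro h
        apply hz1'
        exact mul_right_cancel (h.trans (one_mul a).symm)
      simp only [List.nodup_cons, List.mem_cons, List.not_mem_nil, or_false, not_or,
        List.nodup_nil, and_true, not_false_eq_true]
      refine ⟨⟨hz1'.symm, ha1.symm, h1.symm, hb1.symm⟩, ⟨haz.symm, h2.symm, hbz.symm⟩,
        ⟨h3.symm, hbne.symm⟩, hbza.symm⟩
    rw [List.toFinset_card_of_nodup hnd] at h5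
    have := hminus _ hA
    simp only [List.length_cons, List.length_nil] at h5
    omega

/-- An extraspecial group of order 32 of minus type is isomorphic to the model. -/
theorem exists_mulEquiv {P : Type*} [Group P] [Finite P]
    (hex : Cfsg.IsExtraspecial 2 P) (h32 : Nat.card P = 32)
    (hminus : ∀ A : Subgroup P, Cfsg.IsElementaryAbelian 2 A → Nat.card ↥A ≤ 4) :
    Nonempty (M ≃* P) := by
  obtain ⟨z, D⟩ := data_of_extraspecial hex hminus
  obtain ⟨g, hg⟩ := D.exists_good h32
  have hinj : Function.Injective g.lift := g.lift_injective (hg ▸ D.z1)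
  have hbij : Function.Bijective g.lift := by
    rw [Nat.bijective_iff_injective_and_card]
    exact ⟨hinj, by rw [card_M, h32]⟩
  exact ⟨MulEquiv.ofBijective g.lift hbij⟩

end Cfsg.Agent.Lib.H1.ES32
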