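import Mathlib
import Cfsg.Agent.Lib.H16.CommHom
import Cfsg.Agent.Lib.H1.PGroupBasic
import Cfsg.Prelude.Def_Transfer

/-! Gluing isomorphisms along a hyperbolic pair in class two groups (helper1). -/

set_option autoImplicit false
open scoped commutatorElement

namespace Cfsg.Agent.Lib.H1

section hom

variable {E : Type*} [Group E]

theorem commutator_mul_left_of_central {a b y : E} (h : ⁅b, y⁆ ∈ Subgroup.center E) :
    ⁅a * b, y⁆ = ⁅a, y⁆ * ⁅b, y⁆ := by
  have hd : ∀ g : E, g * ⁅b, y⁆ = ⁅b, y⁆ * g := fun g => Subgroup.mem_center_iff.mp h g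
  have h1 : b * y * b⁻¹ = ⁅b, y⁆ * y := by rw [commutatorElement_def]; group
  calc ⁅a * b, y⁆ = a * (b * y * b⁻¹) * a⁻¹ * y⁻¹ := by rw [commutatorElement_def]; group
    _ = a * (⁅b, y⁆ * y) * a⁻¹ * y⁻¹ := by rw [h1]
    _ = (a * ⁅b, y⁆) * y * a⁻¹ * y⁻¹ := by simp only [mul_assoc]
    _ = (⁅b, y⁆ * a) * y * a⁻¹ * y⁻¹ := by rw [hd]
    _ = ⁅b, y⁆ * (a * y * a⁻¹ * y⁻¹) := by simp only [mul_assoc]
    _ = ⁅b, y⁆ * ⁅a, y⁆ := by rw [← commutatorElement_def]
    _ = ⁅a, y⁆ * ⁅b, y⁆ := (hd _).symm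

/-- `g ↦ ⁅g, y⁆` as a homomorphism when all commutators are central. -/
def commHomR (hcl : ∀ a b : E, ⁅a, b⁆ ∈ Subgroup.center E) (y : E) : E →* E :=
  MonoidHom.mk' (fun g => ⁅g, y⁆) (fun a b => commutator_mul_left_of_central (hcl b y))

@[simp] theorem commHomR_apply (hcl : ∀ a b : E, ⁅a, b⁆ ∈ Subgroup.center E) (y g : E) :
    commHomR hcl y g = ⁅g, y⁆ := rfl

end hom

/-- The data of a hyperbolic pair `x, y` in a class two group whose commutators with `x` and `y`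
lie in the cyclic group of prime order generated by `⁅x, y⁆`. -/
structure GlueData {E : Type*} [Group E] (p : ℕ) (x y : E) : Prop where
  central : ∀ a b : E, ⁅a, b⁆ ∈ Subgroup.center E
  order : orderOf ⁅x, y⁆ = p
  mem_x : ∀ g : E, ⁅g, x⁆ ∈ Subgroup.zpowers ⁅x, y⁆
  mem_y : ∀ g : E, ⁅g, y⁆ ∈ Subgroup.zpowers ⁅x, y⁆
  pow_x : x ^ p ∈ Subgroup.center E
  pow_y : y ^ p ∈ Subgroup.center E

/-- the centralizer of the pair -/
abbrev pairCentralizer {E : Type*} [Group E] (x y : E) : Subgroup E :=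
  Subgroup.centralizer ({x, y} : Set E)

theorem mem_pairCentralizer_iff {E : Type*} [Group E] {x y g : E} :
    g ∈ pairCentralizer x y ↔ x * g = g * x ∧ y * g = g * y := by
  rw [pairCentralizer, Subgroup.mem_centralizer_iff]
  constructor
  · intro h
    exact ⟨h x (by simp), h y (by simp)⟩
  · rintro ⟨h1, h2⟩ k hk
    rcases hk with rfl | hk
    · exact h1
    · rw [Set.mem_singleton_iff] at hk; subst hk; exact h2

theorem center_le_pairCentralizer {E : Type*} [Group E] (x y : E) :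
    Subgroup.center E ≤ pairCentralizer x y := by
  intro g hg
  rw [mem_pairCentralizer_iff]
  exact ⟨Subgroup.mem_center_iff.mp hg x, Subgroup.mem_center_iff.mp hg y⟩

namespace GlueData

variable {E : Type*} [Group E] {p : ℕ} {x y : E}

theorem comm_yx (d : GlueData p x y) : ⁅y, x⁆ = (⁅x, y⁆)⁻¹ := (commutatorElement_inv x y).symm

theorem comm_zpow_left (d : GlueData p x y) (g w : E) (n : ℤ) : ⁅g ^ n, w⁆ = ⁅g, w⁆ ^ n :=
  map_zpow (commHomR d.central w) g n

theorem comm_self (g : E) : ⁅g, g⁆ = 1 := commutatorElement_self g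

theorem c_mem_center (d : GlueData p x y) : ⁅x, y⁆ ∈ Subgroup.center E := d.central x y

theorem c_comm (d : GlueData p x y) (g : E) : g * ⁅x, y⁆ = ⁅x, y⁆ * g :=
  Subgroup.mem_center_iff.mp d.c_mem_center g

theorem c_zpow_comm (d : GlueData p x y) (n : ℤ) (g : E) : g * ⁅x, y⁆ ^ n = ⁅x, y⁆ ^ n * g :=
  Subgroup.mem_center_iff.mp (Subgroup.zpow_mem _ d.c_mem_center n) g

theorem mem_Q_of_comm (d : GlueData p x y) {g : E} (hx : ⁅g, x⁆ = 1) (hy : ⁅g, y⁆ = 1) :
    g ∈ pairCentralizer x y := by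
  rw [mem_pairCentralizer_iff]
  exact ⟨(commutatorElement_eq_one_iff_mul_comm.mp hx).symm,
    (commutatorElement_eq_one_iff_mul_comm.mp hy).symm⟩

theorem comm_x_of_mem_Q {g : E} (hg : g ∈ pairCentralizer x y) : ⁅g, x⁆ = 1 :=
  commutatorElement_eq_one_iff_mul_comm.mpr (mem_pairCentralizer_iff.mp hg).1.symm

theorem comm_y_of_mem_Q {g : E} (hg : g ∈ pairCentralizer x y) : ⁅g, y⁆ = 1 :=
  commutatorElement_eq_one_iff_mul_comm.mpr (mem_pairCentralizer_iff.mp hg).2.symm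

/-- existence of the normal form `g = q y^j x^i` -/
theorem exists_decomp (d : GlueData p x y) (g : E) :
    ∃ q ∈ pairCentralizer x y, ∃ j i : ℤ, g = q * y ^ j * x ^ i := by
  obtain ⟨i, hi⟩ := Subgroup.mem_zpowers_iff.mp (d.mem_y g)
  set g₁ := g * x ^ (-i) with hg₁
  have h1y : ⁅g₁, y⁆ = 1 := by
    rw [hg₁, commutator_mul_left_of_central (d.central _ _), d.comm_zpow_left, ← hi, ← zpow_add,
      add_neg_cancel, zpow_zero]
  obtain ⟨j', hj'⟩ := Subgroup.mem_zpowers_iff.mp (d.mem_x g₁)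
  set g₂ := g₁ * y ^ j' with hg₂
  have h2x : ⁅g₂, x⁆ = 1 := by
    rw [hg₂, commutator_mul_left_of_central (d.central _ _), d.comm_zpow_left, d.comm_yx, ← hj',
      inv_zpow, mul_inv_cancel]
  have h2y : ⁅g₂, y⁆ = 1 := by
    rw [hg₂, commutator_mul_left_of_central (d.central _ _), d.comm_zpow_left, h1y, comm_self,
      one_zpow, one_mul]
  refine ⟨g₂, d.mem_Q_of_comm h2x h2y, -j', i, ?_⟩
  rw [hg₂, hg₁]
  group

/-- `⁅x^i, y^j⁆ = c^(i j)` -/
theorem comm_zpow_zpow (d : GlueData p x y) (i j : ℤ) : ⁅x ^ i, y ^ j⁆ = ⁅x, y⁆ ^ (i * j) := by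
  have h1 : ⁅x, y ^ j⁆ = ⁅x, y⁆ ^ j := by
    rw [← commutatorElement_inv (y ^ j) x, d.comm_zpow_left, d.comm_yx, inv_zpow, inv_inv]
  rw [d.comm_zpow_left, h1, ← zpow_mul, mul_comm]

/-- the shift identity -/
theorem decomp_shift (d : GlueData p x y) (q : E) (j' i' s t : ℤ) :
    q * y ^ (j' + p * t) * x ^ (i' + p * s) =
      q * (y ^ p) ^ t * (x ^ p) ^ s * y ^ j' * x ^ i' := by
  have hx : ∀ g : E, g * (x ^ p) ^ s = (x ^ p) ^ s * g := fun g =>
    Subgroup.mem_center_iff.mp (Subgroup.zpow_mem _ d.pow_x s) g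
  have hy : ∀ g : E, g * (y ^ p) ^ t = (y ^ p) ^ t * g := fun g =>
    Subgroup.mem_center_iff.mp (Subgroup.zpow_mem _ d.pow_y t) g
  have e1 : x ^ (i' + p * s) = x ^ i' * (x ^ p) ^ s := by
    rw [zpow_add, zpow_mul, zpow_natCast]
  have e2 : y ^ (j' + p * t) = y ^ j' * (y ^ p) ^ t := by
    rw [zpow_add, zpow_mul, zpow_natCast]
  rw [e1, e2]
  calc q * (y ^ j' * (y ^ p) ^ t) * (x ^ i' * (x ^ p) ^ s)
      = q * ((y ^ p) ^ t * y ^ j') * ((x ^ p) ^ s * x ^ i') := by rw [hy (y ^ j'), hx (x ^ i')]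
    _ = q * (y ^ p) ^ t * (y ^ j' * (x ^ p) ^ s) * x ^ i' := by simp only [mul_assoc]
    _ = q * (y ^ p) ^ t * ((x ^ p) ^ s * y ^ j') * x ^ i' := by rw [hx (y ^ j')]
    _ = q * (y ^ p) ^ t * (x ^ p) ^ s * y ^ j' * x ^ i' := by simp only [mul_assoc]


theorem comm_decomp_y (d : GlueData p x y) {q : E} (hq : q ∈ pairCentralizer x y) (j i : ℤ) :
    ⁅q * y ^ j * x ^ i, y⁆ = ⁅x, y⁆ ^ i := by
  rw [commutator_mul_left_of_central (d.central _ _),
    commutator_mul_left_of_central (d.central _ _), comm_y_of_mem_Q hq, d.comm_zpow_left,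
    d.comm_zpow_left, comm_self, one_zpow, one_mul, one_mul]

theorem comm_decomp_x (d : GlueData p x y) {q : E} (hq : q ∈ pairCentralizer x y) (j i : ℤ) :
    ⁅q * y ^ j * x ^ i, x⁆ = (⁅x, y⁆ ^ j)⁻¹ := by
  rw [commutator_mul_left_of_central (d.central _ _),
    commutator_mul_left_of_central (d.central _ _), comm_x_of_mem_Q hq, d.comm_zpow_left,
    d.comm_zpow_left, comm_self, one_zpow, one_mul, mul_one, d.comm_yx, inv_zpow]

theorem dvd_of_zpow_eq (d : GlueData p x y) {i i' : ℤ} (h : ⁅x, y⁆ ^ i = ⁅x, y⁆ ^ i') :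
    ∃ s : ℤ, i = i' + p * s := by
  have h1 : ⁅x, y⁆ ^ (i - i') = 1 := by rw [zpow_sub, h, mul_inv_cancel]
  have h2 := (orderOf_dvd_iff_zpow_eq_one (x := ⁅x, y⁆) (i := i - i')).mpr h1
  rw [d.order] at h2
  obtain ⟨s, hs⟩ := h2
  exact ⟨s, by omega⟩

/-- uniqueness of the normal form up to the obvious shifts -/
theorem decomp_unique (d : GlueData p x y) {q q' : E} (hq : q ∈ pairCentralizer x y)
    (hq' : q' ∈ pairCentralizer x y) {j i j' i' : ℤ}
    (h : q * y ^ j * x ^ i = q' * y ^ j' * x ^ i') :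
    ∃ s t : ℤ, i = i' + p * s ∧ j = j' + p * t ∧ q' = q * (y ^ p) ^ t * (x ^ p) ^ s := by
  have hy := d.comm_decomp_y hq j i
  rw [h, d.comm_decomp_y hq' j' i'] at hy
  have hx := d.comm_decomp_x hq j i
  rw [h, d.comm_decomp_x hq' j' i', inv_inj] at hx
  obtain ⟨s, hs⟩ := d.dvd_of_zpow_eq hy.symm
  obtain ⟨t, ht⟩ := d.dvd_of_zpow_eq hx.symm
  refine ⟨s, t, hs, ht, ?_⟩
  have h3 := d.decomp_shift q j' i' s t
  rw [← hs, ← ht, h] at h3
  exact mul_right_cancel (mul_right_cancel h3)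

/-- the product of two normal forms -/
theorem decomp_mul (d : GlueData p x y) (q : E) {q' : E} (hq' : q' ∈ pairCentralizer x y)
    (j i j' i' : ℤ) :
    (q * y ^ j * x ^ i) * (q' * y ^ j' * x ^ i') =
      (q * q' * ⁅x, y⁆ ^ (i * j')) * y ^ (j + j') * x ^ (i + i') := by
  have hq'x : x * q' = q' * x := (mem_pairCentralizer_iff.mp hq').1
  have hq'y : y * q' = q' * y := (mem_pairCentralizer_iff.mp hq').2
  have hq'xi : x ^ i * q' = q' * x ^ i := (Commute.zpow_left (show Commute x q' from hq'x) i).eq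
  have hq'yj : y ^ j * q' = q' * y ^ j := (Commute.zpow_left (show Commute y q' from hq'y) j).eq
  have hc : x ^ i * y ^ j' = ⁅x, y⁆ ^ (i * j') * y ^ j' * x ^ i := by
    rw [← d.comm_zpow_zpow, commutatorElement_def]; group
  have hcz := d.c_zpow_comm (i * j')
  calc (q * y ^ j * x ^ i) * (q' * y ^ j' * x ^ i')
      = q * y ^ j * (x ^ i * q') * y ^ j' * x ^ i' := by simp only [mul_assoc]
    _ = q * y ^ j * (q' * x ^ i) * y ^ j' * x ^ i' := by rw [hq'xi]
    _ = q * (y ^ j * q') * (x ^ i * y ^ j') * x ^ i' := by simp only [mul_assoc]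
    _ = q * (q' * y ^ j) * (⁅x, y⁆ ^ (i * j') * y ^ j' * x ^ i) * x ^ i' := by rw [hq'yj, hc]
    _ = q * q' * (y ^ j * ⁅x, y⁆ ^ (i * j')) * y ^ j' * x ^ i * x ^ i' := by
        simp only [mul_assoc]
    _ = q * q' * (⁅x, y⁆ ^ (i * j') * y ^ j) * y ^ j' * x ^ i * x ^ i' := by rw [hcz]
    _ = (q * q' * ⁅x, y⁆ ^ (i * j')) * (y ^ j * y ^ j') * (x ^ i * x ^ i') := by
        simp only [mul_assoc]
    _ = (q * q' * ⁅x, y⁆ ^ (i * j')) * y ^ (j + j') * x ^ (i + i') := by
        rw [← zpow_add, ← zpow_add]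

end GlueData


section glue

variable {E₁ : Type*} {E₂ : Type*} [Group E₁] [Group E₂] {p : ℕ} {x₁ y₁ : E₁} {x₂ y₂ : E₂}

/-- **Gluing**: an isomorphism between the centralizers of two hyperbolic pairs, compatible with
the commutators and the `p`-th powers of the pairs, extends to the whole groups. -/
theorem glue_exists (d₁ : GlueData p x₁ y₁) (d₂ : GlueData p x₂ y₂)
    (β : pairCentralizer x₁ y₁ ≃* pairCentralizer x₂ y₂)
    (hc : ∀ h : ⁅x₁, y₁⁆ ∈ pairCentralizer x₁ y₁,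
      ((β ⟨_, h⟩ : pairCentralizer x₂ y₂) : E₂) = ⁅x₂, y₂⁆)
    (hx : ∀ h : x₁ ^ p ∈ pairCentralizer x₁ y₁,
      ((β ⟨_, h⟩ : pairCentralizer x₂ y₂) : E₂) = x₂ ^ p)
    (hy : ∀ h : y₁ ^ p ∈ pairCentralizer x₁ y₁,
      ((β ⟨_, h⟩ : pairCentralizer x₂ y₂) : E₂) = y₂ ^ p) :
    ∃ γ : E₁ ≃* E₂, γ x₁ = x₂ ∧ γ y₁ = y₂ ∧
      ∀ q : pairCentralizer x₁ y₁, γ (q : E₁) = (β q : E₂) := by
  classical
  have hdec : ∀ g : E₁, ∃ t : pairCentralizer x₁ y₁ × ℤ × ℤ,
      g = (t.1 : E₁) * y₁ ^ t.2.1 * x₁ ^ t.2.2 := by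
    intro g
    obtain ⟨q, hq, j, i, h⟩ := d₁.exists_decomp g
    exact ⟨(⟨q, hq⟩, j, i), h⟩
  choose T hT using hdec
  obtain ⟨f, hfdef⟩ : ∃ f : E₁ → E₂, ∀ g, f g =
      (β (T g).1 : E₂) * y₂ ^ (T g).2.1 * x₂ ^ (T g).2.2 := ⟨_, fun _ => rfl⟩
  have hcQ₁ : ⁅x₁, y₁⁆ ∈ pairCentralizer x₁ y₁ := center_le_pairCentralizer _ _ d₁.c_mem_center
  have hxQ₁ : x₁ ^ p ∈ pairCentralizer x₁ y₁ := center_le_pairCentralizer _ _ d₁.pow_x
  have hyQ₁ : y₁ ^ p ∈ pairCentralizer x₁ y₁ := center_le_pairCentralizer _ _ d₁.pow_y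
  -- the key formula
  have hf : ∀ (q : pairCentralizer x₁ y₁) (j i : ℤ),
      f ((q : E₁) * y₁ ^ j * x₁ ^ i) = (β q : E₂) * y₂ ^ j * x₂ ^ i := by
    intro q j i
    obtain ⟨g, hg⟩ : ∃ g, g = (q : E₁) * y₁ ^ j * x₁ ^ i := ⟨_, rfl⟩
    rw [← hg, hfdef]
    have h1 : (q : E₁) * y₁ ^ j * x₁ ^ i =
        ((T g).1 : E₁) * y₁ ^ (T g).2.1 * x₁ ^ (T g).2.2 := by rw [← hg]; exact hT g
    obtain ⟨s, t, hs, ht, hq'⟩ := d₁.decomp_unique q.2 (T g).1.2 h1
    have h2 : (T g).1 = q * (⟨y₁ ^ p, hyQ₁⟩ : pairCentralizer x₁ y₁) ^ t *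
        (⟨x₁ ^ p, hxQ₁⟩ : pairCentralizer x₁ y₁) ^ s := by
      apply Subtype.ext
      simp only [Subgroup.coe_mul, Subgroup.coe_zpow]
      exact hq'
    rw [h2, map_mul, map_mul, map_zpow, map_zpow]
    simp only [Subgroup.coe_mul, Subgroup.coe_zpow]
    rw [hx hxQ₁, hy hyQ₁, hs, ht]
    exact (d₂.decomp_shift (β q : E₂) (T g).2.1 (T g).2.2 s t).symm
  have hf' : ∀ (q : E₁) (hq : q ∈ pairCentralizer x₁ y₁) (j i : ℤ),
      f (q * y₁ ^ j * x₁ ^ i) = (β ⟨q, hq⟩ : E₂) * y₂ ^ j * x₂ ^ i :=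
    fun q hq j i => hf ⟨q, hq⟩ j i
  have hmul : ∀ a b, f (a * b) = f a * f b := by
    intro a b
    obtain ⟨q, hq, j, i, rfl⟩ := d₁.exists_decomp a
    obtain ⟨q', hq', j', i', rfl⟩ := d₁.exists_decomp b
    rw [d₁.decomp_mul q hq' j i j' i']
    have hmem : q * q' * ⁅x₁, y₁⁆ ^ (i * j') ∈ pairCentralizer x₁ y₁ :=
      Subgroup.mul_mem _ (Subgroup.mul_mem _ hq hq') (Subgroup.zpow_mem _ hcQ₁ _)
    have e : (⟨q * q' * ⁅x₁, y₁⁆ ^ (i * j'), hmem⟩ : pairCentralizer x₁ y₁) =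
        ⟨q, hq⟩ * ⟨q', hq'⟩ * (⟨⁅x₁, y₁⁆, hcQ₁⟩ : pairCentralizer x₁ y₁) ^ (i * j') := by
      apply Subtype.ext
      simp only [Subgroup.coe_mul, Subgroup.coe_zpow]
    rw [hf' _ hmem, hf' q hq, hf' q' hq', e, map_mul, map_mul, map_zpow]
    simp only [Subgroup.coe_mul, Subgroup.coe_zpow]
    rw [hc hcQ₁]
    exact (d₂.decomp_mul _ (β ⟨q', hq'⟩).2 j i j' i').symm
  have hinj : Function.Injective f := by
    intro a b hab
    -- use the kernel
    have hone : ∀ g, f g = 1 → g = 1 := by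
      intro g hg
      obtain ⟨q, hq, j, i, rfl⟩ := d₁.exists_decomp g
      rw [hf' q hq] at hg
      have h1 : ((β ⟨q, hq⟩ : pairCentralizer x₂ y₂) : E₂) * y₂ ^ j * x₂ ^ i =
          1 * y₂ ^ (0 : ℤ) * x₂ ^ (0 : ℤ) := by rw [hg]; simp
      obtain ⟨s, t, hs, ht, hq1⟩ := d₂.decomp_unique (β ⟨q, hq⟩).2 (Subgroup.one_mem _) h1
      have h2 : β (⟨q, hq⟩ * (⟨y₁ ^ p, hyQ₁⟩ : pairCentralizer x₁ y₁) ^ t *
          (⟨x₁ ^ p, hxQ₁⟩ : pairCentralizer x₁ y₁) ^ s) = 1 := by
        apply Subtype.ext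
        rw [map_mul, map_mul, map_zpow, map_zpow]
        simp only [Subgroup.coe_mul, Subgroup.coe_zpow, Subgroup.coe_one]
        rw [hx hxQ₁, hy hyQ₁]
        exact hq1.symm
      have h3 := (map_eq_one_iff β β.injective).mp h2
      have h4 := congrArg Subtype.val h3
      simp only [Subgroup.coe_mul, Subgroup.coe_zpow, Subgroup.coe_one] at h4
      rw [hs, ht, d₁.decomp_shift, h4]
      simp
    have h1 : f (a * b⁻¹) = 1 := by
      have h2 := hmul (a * b⁻¹) b
      rw [inv_mul_cancel_right, hab] at h2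
      exact (mul_eq_right.mp h2.symm)
    have := hone _ h1
    exact mul_inv_eq_one.mp this
  have hsurj : Function.Surjective f := by
    intro h
    obtain ⟨q, hq, j, i, rfl⟩ := d₂.exists_decomp h
    refine ⟨((β.symm ⟨q, hq⟩ : pairCentralizer x₁ y₁) : E₁) * y₁ ^ j * x₁ ^ i, ?_⟩
    rw [hf, MulEquiv.apply_symm_apply]
  refine ⟨MulEquiv.ofBijective (MonoidHom.mk' f hmul) ⟨hinj, hsurj⟩, ?_, ?_, ?_⟩
  · show f x₁ = x₂
    have := hf 1 0 1
    simpa using this
  · show f y₁ = y₂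
    have := hf 1 1 0
    simpa using this
  · intro q
    show f (q : E₁) = (β q : E₂)
    have := hf q 0 0
    simpa using this

end glue


/-- The class of finite `p`-groups of "Heisenberg type": centre of order `p`, central commutators
and central `p`-th powers. It contains the extraspecial groups and the cyclic group of order `p`,
and is closed under passing to the centralizer of a non-commuting pair. -/
structure IsHeis (p : ℕ) (E : Type*) [Group E] : Prop where
  card_center : Nat.card (Subgroup.center E) = p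
  comm_mem : ∀ a b : E, ⁅a, b⁆ ∈ Subgroup.center E
  pow_mem : ∀ g : E, g ^ p ∈ Subgroup.center E

namespace IsHeis

variable {E : Type*} [Group E] {p : ℕ} [hp : Fact p.Prime]

theorem orderOf_eq (h : IsHeis p E) {z : E} (hz : z ∈ Subgroup.center E) (hz1 : z ≠ 1) :
    orderOf z = p := by
  apply orderOf_eq_prime _ hz1
  have h1 : (⟨z, hz⟩ : Subgroup.center E) ^ p = 1 := by
    rw [← h.card_center]; exact pow_card_eq_one'
  exact congrArg Subtype.val h1

theorem mem_zpowers (h : IsHeis p E) {z w : E} (hz : z ∈ Subgroup.center E) (hz1 : z ≠ 1)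
    (hw : w ∈ Subgroup.center E) : w ∈ Subgroup.zpowers z := by
  have h1 : (⟨w, hw⟩ : Subgroup.center E) ∈ Subgroup.zpowers (⟨z, hz⟩ : Subgroup.center E) :=
    mem_zpowers_of_prime_card h.card_center (fun h' => hz1 (congrArg Subtype.val h'))
  obtain ⟨k, hk⟩ := Subgroup.mem_zpowers_iff.mp h1
  rw [Subgroup.mem_zpowers_iff]
  refine ⟨k, ?_⟩
  have := congrArg Subtype.val hk
  simpa using this

theorem glueData (h : IsHeis p E) {x y : E} (hxy : ⁅x, y⁆ ≠ 1) : GlueData p x y where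
  central := h.comm_mem
  order := h.orderOf_eq (h.comm_mem x y) hxy
  mem_x g := h.mem_zpowers (h.comm_mem x y) hxy (h.comm_mem g x)
  mem_y g := h.mem_zpowers (h.comm_mem x y) hxy (h.comm_mem g y)
  pow_x := h.pow_mem x
  pow_y := h.pow_mem y

/-- a pair with prescribed commutator -/
theorem exists_pair (h : IsHeis p E) {a b : E} (hab : a * b ≠ b * a) {z : E}
    (hz : z ∈ Subgroup.center E) : ∃ x : E, ⁅x, b⁆ = z := by
  have hab1 : ⁅a, b⁆ ≠ 1 := fun h' => hab (commutatorElement_eq_one_iff_mul_comm.mp h')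
  have d := h.glueData hab1
  obtain ⟨m, hm⟩ := Subgroup.mem_zpowers_iff.mp (h.mem_zpowers (h.comm_mem a b) hab1 hz)
  exact ⟨a ^ m, by rw [d.comm_zpow_left, hm]⟩

/-- the centre of the pair centralizer is the centre of the group -/
theorem center_pairCentralizer (h : IsHeis p E) {x y : E} (hxy : ⁅x, y⁆ ≠ 1) :
    Subgroup.center (pairCentralizer x y) = (Subgroup.center E).subgroupOf (pairCentralizer x y) := by
  have d := h.glueData hxy
  ext w
  rw [Subgroup.mem_subgroupOf, Subgroup.mem_center_iff, Subgroup.mem_center_iff]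
  constructor
  · intro hw g
    obtain ⟨q, hq, j, i, rfl⟩ := d.exists_decomp g
    have h1 : q * (w : E) = (w : E) * q := by
      have := hw ⟨q, hq⟩
      exact congrArg Subtype.val this
    have hwQ := mem_pairCentralizer_iff.mp w.2
    have h2 : Commute (w : E) q := h1.symm
    have h3 : Commute (w : E) (y ^ j) := (Commute.zpow_right (show Commute (w : E) y from hwQ.2.symm) j)
    have h4 : Commute (w : E) (x ^ i) := (Commute.zpow_right (show Commute (w : E) x from hwQ.1.symm) i)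
    exact ((h2.mul_right h3).mul_right h4).eq.symm
  · intro hw g
    apply Subtype.ext
    simp only [Subgroup.coe_mul]
    exact hw g

theorem pairCentralizer_isHeis (h : IsHeis p E) {x y : E} (hxy : ⁅x, y⁆ ≠ 1) :
    IsHeis p (pairCentralizer x y) where
  card_center := by
    rw [h.center_pairCentralizer hxy, ← h.card_center]
    exact Nat.card_congr (Subgroup.subgroupOfEquivOfLe (center_le_pairCentralizer x y)).toEquiv
  comm_mem a b := by
    rw [h.center_pairCentralizer hxy, Subgroup.mem_subgroupOf]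
    exact h.comm_mem (a : E) (b : E)
  pow_mem g := by
    rw [h.center_pairCentralizer hxy, Subgroup.mem_subgroupOf]
    exact h.pow_mem (g : E)

/-- the order of the pair centralizer -/
theorem card_pairCentralizer [Finite E] (h : IsHeis p E) {x y : E} (hxy : ⁅x, y⁆ ≠ 1) :
    Nat.card (pairCentralizer x y) * (p * p) = Nat.card E := by
  classical
  have hcen : ∀ d ∈ Subgroup.center E, ∀ g : E, Commute d g := fun d hd g =>
    (Subgroup.mem_center_iff.mp hd g).symm
  have hne : x * y ≠ y * x := fun h' => hxy (commutatorElement_eq_one_iff_mul_comm.mpr h')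
  have h1 : (Subgroup.centralizer ({y} : Set E)).relIndex ⊤ = p :=
    Cfsg.Agent.Lib.H16.relIndex_centralizer_eq_prime hp.out ⊤ (Subgroup.center E) y h.card_center
      (fun k _ => h.comm_mem k y) (fun d hd => hcen d hd y) (fun d hd k _ => hcen d hd k)
      ⟨x, Subgroup.mem_top x, hne⟩
  have h2 : (Subgroup.centralizer ({x} : Set E)).relIndex (Subgroup.centralizer ({y} : Set E)) = p :=
    Cfsg.Agent.Lib.H16.relIndex_centralizer_eq_prime hp.out _ (Subgroup.center E) x h.card_center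
      (fun k _ => h.comm_mem k x) (fun d hd => hcen d hd x) (fun d hd k _ => hcen d hd k)
      ⟨y, Subgroup.mem_centralizer_singleton_iff.mpr rfl, fun h' => hne h'.symm⟩
  have hQ : pairCentralizer x y =
      Subgroup.centralizer ({y} : Set E) ⊓ Subgroup.centralizer ({x} : Set E) := by
    ext g
    rw [mem_pairCentralizer_iff, Subgroup.mem_inf, Subgroup.mem_centralizer_singleton_iff,
      Subgroup.mem_centralizer_singleton_iff]
    constructor
    · rintro ⟨a, b⟩; exact ⟨b.symm, a.symm⟩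
    · rintro ⟨a, b⟩; exact ⟨b.symm, a.symm⟩
  have h3 := Subgroup.relIndex_mul_relIndex (pairCentralizer x y)
    (Subgroup.centralizer ({y} : Set E)) ⊤ (by rw [hQ]; exact inf_le_left) le_top
  rw [h1, hQ, Subgroup.inf_relIndex_left, h2, ← hQ, Subgroup.relIndex_top_right] at h3
  rw [← (pairCentralizer x y).card_mul_index, h3]

end IsHeis


theorem IsHeis.of_isExtraspecial {E : Type*} [Group E] [Finite E] {p : ℕ} [Fact p.Prime]
    (h : Cfsg.IsExtraspecial p E) : IsHeis p E where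
  card_center := h.2
  comm_mem a b := by
    rw [← h.1.2.2, commutator_def]
    exact Subgroup.commutator_mem_commutator (Subgroup.mem_top a) (Subgroup.mem_top b)
  pow_mem g := by
    rw [← h.1.2.1]
    exact isPGroup_pow_mem_frattini h.1.1 g

/-- abelian members of the class are exactly those of order `p` -/
theorem IsHeis.card_eq_iff_comm {E : Type*} [Group E] [Finite E] {p : ℕ} (h : IsHeis p E) :
    Nat.card E = p ↔ ∀ a b : E, a * b = b * a := by
  constructor
  · intro hc a b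
    have h1 : Subgroup.center E = ⊤ :=
      (Subgroup.center E).eq_top_of_card_eq (by rw [h.card_center, hc])
    have h2 : b ∈ Subgroup.center E := by rw [h1]; exact Subgroup.mem_top b
    exact Subgroup.mem_center_iff.mp h2 a
  · intro hc
    have h1 : Subgroup.center E = ⊤ := by
      rw [eq_top_iff]
      intro g _
      rw [Subgroup.mem_center_iff]
      intro a
      exact hc a g
    rw [← h.card_center, h1, Subgroup.card_top]

end Cfsg.Agent.Lib.H1
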