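import Cfsg.Agent.Lib.H14.FCDefs

/-!
# S4427 piece CORNER (helper1): dimension of a corner `ε₁ A ε₂` as a trace

* `trace_eq_sum_coeff`: the trace of an endomorphism of the group algebra in the basis of
  group elements;
* `finrank_range_cornerMap`: exact signature of `tools/blueprints/S4427_sigs.lean`.
-/

set_option autoImplicit false

namespace Cfsg.Agent.Lib.H1.FC

open Cfsg MonoidAlgebra Cfsg.Agent.Lib.H23 Cfsg.Agent.Lib.H24 Cfsg.Agent.Lib.L0
open Cfsg.Agent.Lib.H14.FC
open scoped ComplexConjugate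

section
variable {G : Type*} [Group G] [Fintype G]

/-- The trace of an endomorphism of the group algebra, computed in the basis of group
elements. -/
theorem trace_eq_sum_coeff (f : MonoidAlgebra ℂ G →ₗ[ℂ] MonoidAlgebra ℂ G) :
    LinearMap.trace ℂ (MonoidAlgebra ℂ G) f =
      ∑ g : G, (f (MonoidAlgebra.single g 1)).coeff g := by
  classical
  rw [LinearMap.trace_eq_matrix_trace ℂ (MonoidAlgebra.basis G ℂ) f, Matrix.trace]
  refine Finset.sum_congr rfl fun g _ => ?_
  rw [Matrix.diag_apply, LinearMap.toMatrix_apply, MonoidAlgebra.basis_apply]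
  rfl

theorem coeff_single_one_mul (g k : G) (w : MonoidAlgebra ℂ G) :
    (MonoidAlgebra.single g (1 : ℂ) * w).coeff k = w.coeff (g⁻¹ * k) := by
  classical
  rw [coeff_mul_eq_sum]
  rw [Finset.sum_eq_single g]
  · simp
  · intro b _ hb
    rw [MonoidAlgebra.coeff_single, Finsupp.single_apply, if_neg (Ne.symm hb), zero_mul]
  · intro h
    exact absurd (Finset.mem_univ g) h

theorem finrank_range_cornerMap (ε₁ ε₂ : MonoidAlgebra ℂ G) (h₁ : ε₁ * ε₁ = ε₁)
    (h₂ : ε₂ * ε₂ = ε₂) :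
    (Module.finrank ℂ (LinearMap.range (cornerMap ε₁ ε₂)) : ℂ) =
      ∑ g : G, ∑ h : G, ε₁.coeff h * ε₂.coeff (g⁻¹ * h⁻¹ * g) := by
  classical
  have hproj : LinearMap.IsProj (LinearMap.range (cornerMap ε₁ ε₂)) (cornerMap ε₁ ε₂) := by
    refine ⟨fun x => LinearMap.mem_range_self _ x, ?_⟩
    rintro x ⟨y, rfl⟩
    simp only [cornerMap_apply]
    calc ε₁ * (ε₁ * (y * ε₂) * ε₂) = (ε₁ * ε₁) * (y * (ε₂ * ε₂)) := by
          simp only [mul_assoc]
      _ = ε₁ * (y * ε₂) := by rw [h₁, h₂]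
  have htr := hproj.trace
  rw [← htr, trace_eq_sum_coeff]
  refine Finset.sum_congr rfl fun g _ => ?_
  rw [cornerMap_apply, coeff_mul_eq_sum]
  refine Finset.sum_congr rfl fun h _ => ?_
  rw [coeff_single_one_mul, mul_assoc]

end

end Cfsg.Agent.Lib.H1.FC
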