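import Cfsg.Agent.Lib.H14.FCDefs
import Cfsg.Agent.Lib.H1.FCCORNER

/-!
# S4427 piece CHAR (helper1): `idemChar e` is the character of the left ideal `A e`

`isCharacter_idemChar`: exact signature of `tools/blueprints/S4427_sigs.lean`.
-/

set_option autoImplicit false

namespace Cfsg.Agent.Lib.H1.FC

open Cfsg MonoidAlgebra Cfsg.Agent.Lib.H23 Cfsg.Agent.Lib.H24 Cfsg.Agent.Lib.L0
open Cfsg.Agent.Lib.H14.FC
open scoped ComplexConjugate

section
variable {G : Type*} [Group G] [Fintype G]

/-- The left ideal `A e` as a submodule. -/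
noncomputable def leftIdeal (e : MonoidAlgebra ℂ G) : Submodule ℂ (MonoidAlgebra ℂ G) :=
  LinearMap.range (LinearMap.mulRight ℂ e)

theorem single_mul_mem_leftIdeal (e : MonoidAlgebra ℂ G) (g : G) (v : MonoidAlgebra ℂ G)
    (hv : v ∈ leftIdeal e) : MonoidAlgebra.single g (1 : ℂ) * v ∈ leftIdeal e := by
  obtain ⟨a, rfl⟩ := hv
  refine ⟨MonoidAlgebra.single g (1 : ℂ) * a, ?_⟩
  simp only [LinearMap.mulRight_apply, mul_assoc]

/-- Left multiplication by group elements on the left ideal `A e`. -/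
noncomputable def leftIdealRep (e : MonoidAlgebra ℂ G) : Representation ℂ G (leftIdeal e) where
  toFun g := (LinearMap.mulLeft ℂ (MonoidAlgebra.single g (1 : ℂ))).restrict
    (fun v hv => single_mul_mem_leftIdeal e g v hv)
  map_one' := by
    apply LinearMap.ext
    intro v
    apply Subtype.ext
    show MonoidAlgebra.single (1 : G) (1 : ℂ) * (v : MonoidAlgebra ℂ G) = v
    rw [← MonoidAlgebra.one_def, one_mul]
  map_mul' g h := by
    apply LinearMap.ext
    intro v
    apply Subtype.ext
    show MonoidAlgebra.single (g * h) (1 : ℂ) * (v : MonoidAlgebra ℂ G) =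
      MonoidAlgebra.single g (1 : ℂ) * (MonoidAlgebra.single h (1 : ℂ) * (v : MonoidAlgebra ℂ G))
    rw [← mul_assoc, MonoidAlgebra.single_mul_single, mul_one]

theorem leftIdealRep_apply (e : MonoidAlgebra ℂ G) (g : G) (v : leftIdeal e) :
    ((leftIdealRep e g v : leftIdeal e) : MonoidAlgebra ℂ G) =
      MonoidAlgebra.single g (1 : ℂ) * (v : MonoidAlgebra ℂ G) := rfl

theorem character_leftIdealRep (e : MonoidAlgebra ℂ G) (he : e * e = e) (g : G) :
    (leftIdealRep e).character g = idemChar e g := by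
  classical
  -- π : A → A e, a ↦ a e ; ι : A e → A
  let π : MonoidAlgebra ℂ G →ₗ[ℂ] leftIdeal e :=
    (LinearMap.mulRight ℂ e).codRestrict (leftIdeal e) (fun a => LinearMap.mem_range_self _ a)
  let ι : leftIdeal e →ₗ[ℂ] MonoidAlgebra ℂ G := (leftIdeal e).subtype
  let L : MonoidAlgebra ℂ G →ₗ[ℂ] MonoidAlgebra ℂ G :=
    LinearMap.mulLeft ℂ (MonoidAlgebra.single g (1 : ℂ))
  have h1 : leftIdealRep e g = π ∘ₗ (L ∘ₗ ι) := by
    apply LinearMap.ext
    intro v
    apply Subtype.ext
    obtain ⟨v, a, rfl⟩ := v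
    show MonoidAlgebra.single g (1 : ℂ) * (a * e) = MonoidAlgebra.single g (1 : ℂ) * (a * e) * e
    rw [mul_assoc, mul_assoc, he]
  have h2 : (leftIdealRep e).character g = LinearMap.trace ℂ _ (leftIdealRep e g) := rfl
  rw [h2, h1, LinearMap.trace_comp_comm', trace_eq_sum_coeff]
  unfold idemChar
  refine Finset.sum_congr rfl fun k _ => ?_
  show (MonoidAlgebra.single g (1 : ℂ) * (MonoidAlgebra.single k (1 : ℂ) * e)).coeff k =
    e.coeff (k⁻¹ * g⁻¹ * k)
  rw [coeff_single_one_mul, coeff_single_one_mul, ← mul_assoc]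

theorem isCharacter_idemChar (e : MonoidAlgebra ℂ G) (he : e * e = e) :
    IsCharacter G (idemChar e) := by
  have h := isCharacter_of_rep (leftIdealRep e)
  have h2 : (leftIdealRep e).character = idemChar e := by
    funext g
    exact character_leftIdealRep e he g
  rwa [h2] at h

end

end Cfsg.Agent.Lib.H1.FC
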