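import Cfsg.Agent.Lib.H14.FCDefs

/-!
# S4427 piece ROOTS (helper1): the local ring at `M` is integrally closed in `ℂ`

`memLocalRing_of_isRoot`: exact signature of `tools/blueprints/S4427_sigs.lean`.
-/

set_option autoImplicit false

namespace Cfsg.Agent.Lib.H1.FC

open Cfsg MonoidAlgebra Cfsg.Agent.Lib.H23 Cfsg.Agent.Lib.H24 Cfsg.Agent.Lib.L0
open Cfsg.Agent.Lib.H14.FC
open scoped ComplexConjugate

/-- A complex root of a monic polynomial all of whose coefficients are algebraic integers is an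
algebraic integer. -/
theorem isIntegral_of_monic_of_coeff_mem (Q : Polynomial ℂ) (hQm : Q.Monic)
    (hQc : ∀ i, Q.coeff i ∈ AlgInt) (w : ℂ) (hw : Q.IsRoot w) : IsIntegral ℤ w := by
  have hl : Q ∈ Polynomial.lifts (algebraMap AlgInt ℂ) := by
    rw [Polynomial.lifts_iff_coeff_lifts]
    intro i
    exact ⟨⟨Q.coeff i, hQc i⟩, rfl⟩
  obtain ⟨q, hq, -, hqm⟩ := Polynomial.lifts_and_natDegree_eq_and_monic hl hQm
  have h1 : IsIntegral AlgInt w := by
    refine ⟨q, hqm, ?_⟩
    rw [← Polynomial.eval_map, hq]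
    exact hw
  exact isIntegral_trans (R := ℤ) (A := AlgInt) w h1

theorem memLocalRing_of_isRoot {M : Ideal AlgInt} [M.IsPrime] (P : Polynomial ℂ) (hPm : P.Monic)
    (hPc : ∀ i, MemLocalRing M (P.coeff i)) (z : ℂ) (hz : P.IsRoot z) : MemLocalRing M z := by
  classical
  choose a b hb hab using hPc
  set n := P.natDegree with hn
  -- common denominator
  set B : AlgInt := ∏ i ∈ Finset.range n, b i with hB
  have hBM : B ∉ M := by
    rw [hB, Ideal.IsPrime.prod_mem_iff]
    rintro ⟨i, -, hi⟩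
    exact hb i hi
  have hB0 : (B : ℂ) ≠ 0 := coe_ne_zero_of_not_mem hBM
  -- `B * coeff i` is an algebraic integer for `i < n`
  have hcB : ∀ i, i < n → P.coeff i * (B : ℂ) ∈ AlgInt := by
    intro i hi
    have hi' : i ∈ Finset.range n := Finset.mem_range.mpr hi
    have h1 : B = b i * ∏ j ∈ (Finset.range n).erase i, b j := by
      rw [hB, Finset.mul_prod_erase _ _ hi']
    have hbi : (b i : ℂ) ≠ 0 := coe_ne_zero_of_not_mem (hb i)
    have h2 : P.coeff i * (B : ℂ) =
        ((a i * ∏ j ∈ (Finset.range n).erase i, b j : AlgInt) : ℂ) := by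
      rw [← hab i, h1]
      push_cast
      field_simp
    rw [h2]
    exact SetLike.coe_mem _
  -- the scaled polynomial
  set Q := P.scaleRoots (B : ℂ) with hQ
  have hQm : Q.Monic := (Polynomial.monic_scaleRoots_iff (B : ℂ)).mpr hPm
  have hQr : Q.IsRoot ((B : ℂ) * z) := by
    show Polynomial.eval ((B : ℂ) * z) Q = 0
    rw [hQ, Polynomial.scaleRoots_eval_mul, hz, mul_zero]
  have hQc : ∀ i, Q.coeff i ∈ AlgInt := by
    intro i
    rw [hQ, Polynomial.coeff_scaleRoots]
    rcases lt_trichotomy i n with hi | hi | hi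
    · have h3 : P.coeff i * (B : ℂ) ^ (P.natDegree - i) =
          (P.coeff i * (B : ℂ)) * (B : ℂ) ^ (n - i - 1) := by
        rw [mul_assoc, ← pow_succ', ← hn]
        congr 2
        omega
      rw [h3]
      exact mul_mem (hcB i hi) (pow_mem (SetLike.coe_mem B) _)
    · rw [hi, hn, Polynomial.Monic.coeff_natDegree hPm, Nat.sub_self, pow_zero, mul_one]
      exact one_mem _
    · rw [Polynomial.coeff_eq_zero_of_natDegree_lt (hn ▸ hi), zero_mul]
      exact zero_mem _
  have hint : IsIntegral ℤ ((B : ℂ) * z) :=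
    isIntegral_of_monic_of_coeff_mem Q hQm hQc _ hQr
  refine ⟨⟨(B : ℂ) * z, hint⟩, B, hBM, ?_⟩
  show (B : ℂ) * z / (B : ℂ) = z
  field_simp

end Cfsg.Agent.Lib.H1.FC
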