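import Cfsg.Agent.Lib.H1.FFMa

/-!
# `ffm`: a Frobenius group `K ⋊ ⟨c⟩` acting on an elementary abelian `r`-group `V` with
`C_V(K) = 1` has `|V| = |C_V(c)|^q` (helper1, REQUEST-A for S4306).
-/

set_option autoImplicit false

namespace Cfsg.Agent.Lib.H1.FFM

open Module TensorProduct

section BaseChange

variable {F : Type*} [Field F] {M : Type*} [AddCommGroup M] [Module F M]
variable (L : Type*) [Field L] [Algebra F L]

theorem range_baseChange (f : Module.End F M) :
    LinearMap.range (f.baseChange L) = (LinearMap.range f).baseChange L := by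
  apply le_antisymm
  · rintro _ ⟨x, rfl⟩
    induction x using TensorProduct.induction_on with
    | zero => simp
    | tmul a v =>
      rw [LinearMap.baseChange_tmul]
      exact Submodule.tmul_mem_baseChange_of_mem a ⟨v, rfl⟩
    | add x y hx hy =>
      rw [map_add]
      exact Submodule.add_mem _ hx hy
  · rw [Submodule.baseChange_eq_span, Submodule.span_le]
    rintro _ ⟨m, ⟨v, rfl⟩, rfl⟩
    exact ⟨(1 : L) ⊗ₜ[F] v, by simp⟩

theorem finrank_range_baseChange (f : Module.End F M) :
    finrank L (LinearMap.range (f.baseChange L)) = finrank F (LinearMap.range f) := by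
  rw [range_baseChange]
  rw [← (Submodule.toBaseChange.toLinearEquiv L (LinearMap.range f)).finrank_eq]
  exact Module.finrank_baseChange

end BaseChange

section Lin

theorem ffm_lin {r q : ℕ} [Fact r.Prime] (hq : q.Prime) (hqr : q ≠ r)
    {M : Type*} [AddCommGroup M] [Module (ZMod r) M] [Finite M]
    {K : Type*} [Group K] [Finite K] (hKab : ∀ a b : K, a * b = b * a)
    (hKr : (Nat.card K).Coprime r)
    (ρ : K →* Module.End (ZMod r) M) (c d : Module.End (ZMod r) M)
    (hcd : c * d = 1) (hdc : d * c = 1) (hcq : c ^ q = 1)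
    (γ : K ≃* K) (tw : ∀ k, c * ρ k = ρ (γ k) * c) (fpf : ∀ k, γ k = k → k = 1)
    (hfix : ∀ v : M, (∀ k, ρ k v = v) → v = 0) :
    Nat.card M = Nat.card (LinearMap.ker (c - 1)) ^ q := by
  classical
  have hr : r.Prime := Fact.out
  haveI := Fintype.ofFinite K
  let L := AlgebraicClosure (ZMod r)
  let bc : Module.End (ZMod r) M →ₐ[ZMod r] Module.End L (L ⊗[ZMod r] M) :=
    Module.End.baseChangeHom (ZMod r) L M
  let ρL : K →* Module.End L (L ⊗[ZMod r] M) := (bc : _ →* _).comp ρ
  haveI : CharP L r := charP_of_injective_algebraMap (algebraMap (ZMod r) L).injective r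
  have hnotdvd : ¬ r ∣ Nat.card K := by
    intro h
    have := Nat.dvd_gcd h (dvd_refl r)
    rw [hKr] at this
    exact hr.one_lt.ne' (Nat.dvd_one.mp this)
  have hKL : (Nat.card K : L) ≠ 0 := by
    rw [Ne, CharP.cast_eq_zero_iff L r]
    exact hnotdvd
  have hrq : ¬ r ∣ q := by
    intro h
    exact hqr ((Nat.prime_dvd_prime_iff_eq hr hq).mp h).symm
  have hqL : (q : L) ≠ 0 := by
    rw [Ne, CharP.cast_eq_zero_iff L r]
    exact hrq
  have hqF : (q : ZMod r) ≠ 0 := by
    rw [Ne, ZMod.natCast_eq_zero_iff]
    exact hrq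
  -- the sum of the `ρ k` vanishes
  have hsum : ∑ k : K, ρ k = 0 := by
    apply LinearMap.ext
    intro v
    rw [LinearMap.zero_apply]
    apply hfix
    intro a
    rw [LinearMap.sum_apply, map_sum]
    refine Fintype.sum_equiv (Equiv.mulLeft a) _ _ ?_
    intro k
    rw [Equiv.coe_mulLeft, map_mul, Module.End.mul_apply]
  have hsumL : ∑ k : K, ρL k = 0 := by
    have : bc (∑ k : K, ρ k) = ∑ k : K, ρL k := by
      rw [map_sum]
      rfl
    rw [← this, hsum, map_zero]
  have S : Setup ρL (bc c) (bc d) γ q :=
    { comm := hKab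
      hCD := by rw [← map_mul, hcd, map_one]
      hDC := by rw [← map_mul, hdc, map_one]
      hCq := by rw [← map_pow, hcq, map_one]
      hq := hq
      tw := by
        intro k
        show bc c * bc (ρ k) = bc (ρ (γ k)) * bc c
        rw [← map_mul, ← map_mul, tw]
      fpf := fpf
      hK := hKL
      hqL := hqL }
  have hmain := S.main (by
    intro x hx
    have h1 : (∑ k : K, ρL k) x = (Nat.card K : L) • x := by
      rw [LinearMap.sum_apply, Finset.sum_congr rfl (fun k _ => hx k)]
      simp [Nat.cast_smul_eq_nsmul, Nat.card_eq_fintype_card]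
    rw [hsumL, LinearMap.zero_apply] at h1
    exact (smul_eq_zero.mp h1.symm).resolve_left hKL)
  -- dimensions
  have hW : finrank L (L ⊗[ZMod r] M) = finrank (ZMod r) M := Module.finrank_baseChange
  have hbcN : bc (normOp c q) = normOp (bc c) q := by
    simp only [normOp, map_sum, map_pow]
  have hker : finrank L ↥(LinearMap.ker (bc c - 1)) =
      finrank (ZMod r) ↥(LinearMap.ker (c - 1)) := by
    rw [ker_sub_one_eq_range_normOp (bc c) hqL S.hCq, ← hbcN,
      ker_sub_one_eq_range_normOp c hqF hcq]
    exact finrank_range_baseChange L (normOp c q)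
  rw [hW, hker] at hmain
  rw [Module.natCard_eq_pow_finrank (K := ZMod r) (V := M),
    Module.natCard_eq_pow_finrank (K := ZMod r) (V := ↥(LinearMap.ker (c - 1))), hmain,
    ← pow_mul, mul_comm]

end Lin

section Main

/-- The linear map on `Additive V` induced by an automorphism of `V`. -/
noncomputable def linHom {V : Type*} [CommGroup V] (r : ℕ) [Module (ZMod r) (Additive V)] :
    MulAut V →* Module.End (ZMod r) (Additive V) where
  toFun σ := (MonoidHom.toAdditive σ.toMonoidHom).toZModLinearMap r
  map_one' := by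
    apply LinearMap.ext
    intro v
    rfl
  map_mul' σ τ := by
    apply LinearMap.ext
    intro v
    rfl

theorem linHom_apply {V : Type*} [CommGroup V] (r : ℕ) [Module (ZMod r) (Additive V)]
    (σ : MulAut V) (v : Additive V) : linHom r σ v = Additive.ofMul (σ v.toMul) := rfl

/-- **REQUEST-A (`ffm`)**. -/
theorem ffm {V : Type*} [CommGroup V] [Finite V] {r q : ℕ} (hr : r.Prime) (hq : q.Prime)
    (hqr : q ≠ r) (hexp : ∀ v : V, v ^ r = 1) (K : Subgroup (MulAut V))
    (hKab : ∀ x ∈ K, ∀ y ∈ K, x * y = y * x) (hKr : (Nat.card K).Coprime r) (c : MulAut V)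
    (hcq : c ^ q = 1) (hcK : ∀ y ∈ K, c * y * c⁻¹ ∈ K)
    (hfpf : ∀ y ∈ K, c * y = y * c → y = 1)
    (hCV : ∀ v : V, (∀ y ∈ K, y v = v) → v = 1) :
    Nat.card V = Nat.card {v : V // c v = v} ^ q := by
  classical
  haveI : Fact r.Prime := ⟨hr⟩
  have hexp' : ∀ x : Additive V, r • x = 0 := fun x => by
    show Additive.ofMul (x.toMul ^ r) = 0
    rw [hexp]
    rfl
  haveI : Module (ZMod r) (Additive V) := AddCommGroup.zmodModule hexp'
  haveI : Finite (MulAut V) :=
    Finite.of_injective (fun e : MulAut V => (e : V → V)) DFunLike.coe_injective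
  haveI : Finite (Additive V) := Finite.of_equiv V Additive.ofMul
  -- the conjugation automorphism of `K`
  let φ : K →* K :=
    { toFun := fun k => ⟨c * k * c⁻¹, hcK k k.2⟩
      map_one' := by
        apply Subtype.ext
        simp
      map_mul' := by
        intro a b
        apply Subtype.ext
        simp [mul_assoc] }
  have hφinj : Function.Injective φ := by
    intro a b hab
    have h : c * (a : MulAut V) * c⁻¹ = c * (b : MulAut V) * c⁻¹ := congrArg Subtype.val hab
    apply Subtype.ext
    exact mul_left_cancel (mul_right_cancel h)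
  let γ : K ≃* K := MulEquiv.ofBijective φ ⟨hφinj, Finite.injective_iff_surjective.mp hφinj⟩
  have hγ : ∀ k : K, ((γ k : K) : MulAut V) = c * k * c⁻¹ := fun k => rfl
  let ρ : ↥K →* Module.End (ZMod r) (Additive V) := (linHom (V := V) r).comp K.subtype
  have h := ffm_lin (r := r) (q := q) hq hqr (M := Additive V) (K := K)
    (fun a b => Subtype.ext (hKab a a.2 b b.2)) hKr ρ (linHom r c) (linHom r c⁻¹)
    (by rw [← map_mul, mul_inv_cancel, map_one])
    (by rw [← map_mul, inv_mul_cancel, map_one])
    (by rw [← map_pow, hcq, map_one]) γ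
    (by
      intro k
      show linHom r c * linHom r (k : MulAut V) = linHom r ((γ k : K) : MulAut V) * linHom r c
      rw [← map_mul, ← map_mul, hγ, inv_mul_cancel_right])
    (by
      intro k hk
      have h1 : c * (k : MulAut V) * c⁻¹ = k := by
        rw [← hγ, hk]
      have h2 : c * (k : MulAut V) = k * c := by
        rw [← h1, inv_mul_cancel_right, h1]
      exact Subtype.ext (hfpf k k.2 h2))
    (by
      intro v hv
      have : v.toMul = 1 := by
        apply hCV
        intro y hy
        have := hv ⟨y, hy⟩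
        exact congrArg Additive.toMul this
      exact congrArg Additive.ofMul this)
  have e1 : Nat.card (Additive V) = Nat.card V := Nat.card_congr Additive.toMul
  have e2 : Nat.card ↥(LinearMap.ker (linHom r c - 1)) = Nat.card {v : V // c v = v} := by
    refine Nat.card_congr
      { toFun := fun x => ⟨x.1.toMul, ?_⟩
        invFun := fun v => ⟨Additive.ofMul v.1, ?_⟩
        left_inv := fun x => rfl
        right_inv := fun v => rfl }
    · have := mem_ker_sub_one.mp x.2
      exact congrArg Additive.toMul this
    · rw [mem_ker_sub_one]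
      exact congrArg Additive.ofMul v.2
  rw [← e1, ← e2]
  exact h

end Main

end Cfsg.Agent.Lib.H1.FFM
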