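import Mathlib

/-!
# Free action of a Frobenius complement: abstract linear algebra part (helper1)

Sub-lemma REQUEST-A (`ffm`) for S4306.  This file: over an algebraically closed field,
an abelian group `K` of operators without common fixed vectors, twisted by an operator `C`
of prime order `q` acting fixed-point-freely on `K`: `finrank W = q * finrank (ker (C - 1))`.
-/

set_option autoImplicit false

namespace Cfsg.Agent.Lib.H1.FFM

open Module

section Abstract

variable {L : Type*} [Field L] {W : Type*} [AddCommGroup W] [Module L W]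
variable {K : Type*} [Group K]

theorem exists_common_eigenvector [IsAlgClosed L] [FiniteDimensional L W]
    (ρ : K →* Module.End L W) (hcomm : ∀ a b : K, a * b = b * a) (s : Finset K) :
    ∀ Y : Submodule L W, Y ≠ ⊥ → (∀ k : K, ∀ y ∈ Y, ρ k y ∈ Y) →
      ∃ w ∈ Y, w ≠ 0 ∧ ∀ k ∈ s, ∃ μ : L, ρ k w = μ • w := by
  classical
  induction s using Finset.induction_on with
  | empty =>
    intro Y hY _
    obtain ⟨w, hw, hw0⟩ := Submodule.exists_mem_ne_zero_of_ne_bot hY
    exact ⟨w, hw, hw0, by simp⟩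
  | insert a s ha ih =>
    intro Y hY hinv
    let f : Module.End L Y := (ρ a).restrict (hinv a)
    haveI : Nontrivial Y := Submodule.nontrivial_iff_ne_bot.mpr hY
    obtain ⟨μ, hμ⟩ := Module.End.exists_eigenvalue f
    obtain ⟨v, hv⟩ := hμ.exists_hasEigenvector
    have hv1 : f v = μ • v := hv.apply_eq_smul
    have hv0 : v ≠ 0 := hv.2
    let Y' : Submodule L W := Y ⊓ Module.End.eigenspace (ρ a) μ
    have hvY' : (v : W) ∈ Y' := by
      refine ⟨v.2, ?_⟩
      rw [SetLike.mem_coe, Module.End.mem_eigenspace_iff]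
      have := congrArg Subtype.val hv1
      simpa [f] using this
    have hY' : Y' ≠ ⊥ := by
      intro h
      have : (v : W) ∈ (⊥ : Submodule L W) := h ▸ hvY'
      exact hv0 (Subtype.ext (by simpa using this))
    have hinv' : ∀ k : K, ∀ y ∈ Y', ρ k y ∈ Y' := by
      intro k y hy
      refine ⟨hinv k y hy.1, ?_⟩
      have hy2 : ρ a y = μ • y := Module.End.mem_eigenspace_iff.mp hy.2
      rw [SetLike.mem_coe, Module.End.mem_eigenspace_iff]
      have hc : ρ a * ρ k = ρ k * ρ a := by rw [← map_mul, ← map_mul, hcomm]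
      calc ρ a (ρ k y) = (ρ a * ρ k) y := rfl
        _ = (ρ k * ρ a) y := by rw [hc]
        _ = ρ k (ρ a y) := rfl
        _ = μ • ρ k y := by rw [hy2, map_smul]
    obtain ⟨w, hw, hw0, hws⟩ := ih Y' hY' hinv'
    refine ⟨w, hw.1, hw0, ?_⟩
    intro k hk
    rcases Finset.mem_insert.mp hk with rfl | hk
    · exact ⟨μ, Module.End.mem_eigenspace_iff.mp hw.2⟩
    · exact hws k hk

/-- Maschke averaging over a finite group. -/
theorem exists_equivariant_proj [Finite K] (ρ : K →* Module.End L W)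
    (hK : (Nat.card K : L) ≠ 0) (U : Submodule L W) (hU : ∀ k, ∀ u ∈ U, ρ k u ∈ U)
    (P : Module.End L W) (hP1 : ∀ x, P x ∈ U) (hP2 : ∀ u ∈ U, P u = u) :
    ∃ P' : Module.End L W, (∀ x, P' x ∈ U) ∧ (∀ u ∈ U, P' u = u) ∧
      ∀ a, ρ a * P' = P' * ρ a := by
  classical
  haveI := Fintype.ofFinite K
  have hcard : (Fintype.card K : L) ≠ 0 := by rwa [Nat.card_eq_fintype_card] at hK
  let S : Module.End L W := ∑ k : K, ρ k * P * ρ k⁻¹
  refine ⟨(Fintype.card K : L)⁻¹ • S, ?_, ?_, ?_⟩
  · intro x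
    rw [LinearMap.smul_apply]
    refine U.smul_mem _ ?_
    simp only [S, LinearMap.sum_apply]
    refine U.sum_mem fun k _ => ?_
    exact hU k _ (hP1 _)
  · intro u hu
    have h1 : S u = (Fintype.card K : L) • u := by
      simp only [S, LinearMap.sum_apply]
      have : ∀ k : K, (ρ k * P * ρ k⁻¹) u = u := by
        intro k
        have h2 : P (ρ k⁻¹ u) = ρ k⁻¹ u := hP2 _ (hU _ _ hu)
        calc (ρ k * P * ρ k⁻¹) u = ρ k (P (ρ k⁻¹ u)) := rfl
          _ = ρ k (ρ k⁻¹ u) := by rw [h2]
          _ = (ρ k * ρ k⁻¹) u := rfl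
          _ = u := by rw [← map_mul, mul_inv_cancel, map_one]; rfl
      rw [Finset.sum_congr rfl (fun k _ => this k)]
      simp [Nat.cast_smul_eq_nsmul]
    rw [LinearMap.smul_apply, h1, smul_smul, inv_mul_cancel₀ hcard, one_smul]
  · intro a
    have h1 : ρ a * S = S * ρ a := by
      simp only [S, Finset.mul_sum, Finset.sum_mul]
      refine Fintype.sum_equiv (Equiv.mulLeft a) _ _ ?_
      intro k
      simp only [Equiv.coe_mulLeft, mul_inv_rev, map_mul]
      have : ρ a⁻¹ * ρ a = 1 := by rw [← map_mul, inv_mul_cancel, map_one]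
      calc ρ a * (ρ k * P * ρ k⁻¹) = ρ a * ρ k * P * (ρ k⁻¹ * 1) := by
            rw [mul_one]; simp only [mul_assoc]
        _ = ρ a * ρ k * P * (ρ k⁻¹ * (ρ a⁻¹ * ρ a)) := by rw [this]
        _ = ρ a * ρ k * P * (ρ k⁻¹ * ρ a⁻¹) * ρ a := by simp only [mul_assoc]
    rw [mul_smul_comm, smul_mul_assoc, h1]

/-- Cyclic averaging: make a `K`-equivariant projection also commute with `C`. -/
theorem exists_equivariant_proj_cyc (ρ : K →* Module.End L W) (C D : Module.End L W)
    (γ : K ≃* K) {q : ℕ} (hq : (q : L) ≠ 0) (hCD : C * D = 1) (hDC : D * C = 1)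
    (hCq : C ^ q = 1) (tw : ∀ k, C * ρ k = ρ (γ k) * C)
    (U : Submodule L W) (hUC : ∀ u ∈ U, C u ∈ U) (hUD : ∀ u ∈ U, D u ∈ U)
    (P : Module.End L W) (hP1 : ∀ x, P x ∈ U) (hP2 : ∀ u ∈ U, P u = u)
    (hPρ : ∀ a, ρ a * P = P * ρ a) :
    ∃ P' : Module.End L W, (∀ x, P' x ∈ U) ∧ (∀ u ∈ U, P' u = u) ∧
      (∀ a, ρ a * P' = P' * ρ a) ∧ C * P' = P' * C ∧ D * P' = P' * D := by
  classical
  have hcomm : Commute C D := by rw [Commute, SemiconjBy, hCD, hDC]
  have hDq : D ^ q = 1 := by
    have : (D * C) ^ q = D ^ q * C ^ q := hcomm.symm.mul_pow q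
    rw [hDC, one_pow, hCq, mul_one] at this
    exact this.symm
  have hUCj : ∀ j : ℕ, ∀ u ∈ U, (C ^ j) u ∈ U := by
    intro j
    induction j with
    | zero => intro u hu; simpa using hu
    | succ j ih => intro u hu; rw [pow_succ']; exact hUC _ (ih u hu)
  have hUDj : ∀ j : ℕ, ∀ u ∈ U, (D ^ j) u ∈ U := by
    intro j
    induction j with
    | zero => intro u hu; simpa using hu
    | succ j ih => intro u hu; rw [pow_succ']; exact hUD _ (ih u hu)
  let f : ℕ → Module.End L W := fun j => C ^ j * P * D ^ j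
  have hf_succ : ∀ j, f (j + 1) = C * f j * D := by
    intro j
    show C ^ (j + 1) * P * D ^ (j + 1) = C * (C ^ j * P * D ^ j) * D
    rw [pow_succ' C, pow_succ D]
    simp only [mul_assoc]
  have hf_q : f q = f 0 := by
    simp only [f, hCq, hDq, pow_zero]
  let S : Module.End L W := ∑ j ∈ Finset.range q, f j
  have hS_conj : C * S * D = S := by
    have h1 : C * S * D = ∑ j ∈ Finset.range q, f (j + 1) := by
      simp only [S, Finset.mul_sum, Finset.sum_mul, hf_succ]
    have h2 : ∑ j ∈ Finset.range q, f (j + 1) + f 0 = S + f q := by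
      rw [← Finset.sum_range_succ' f q, Finset.sum_range_succ f q]
    rw [h1]
    rw [hf_q] at h2
    exact add_right_cancel h2
  have hS_C : C * S = S * C := by
    calc C * S = C * S * (D * C) := by rw [hDC, mul_one]
      _ = (C * S * D) * C := by simp only [mul_assoc]
      _ = S * C := by rw [hS_conj]
  have hS_D : D * S = S * D := by
    calc D * S = D * (C * S * D) := by rw [hS_conj]
      _ = (D * C) * S * D := by simp only [mul_assoc]
      _ = S * D := by rw [hDC, one_mul]
  have hρC : ∀ a, ρ a * C = C * ρ (γ.symm a) := by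
    intro a
    have := tw (γ.symm a)
    rw [MulEquiv.apply_symm_apply] at this
    exact this.symm
  have hDρ : ∀ a, D * ρ a = ρ (γ.symm a) * D := by
    intro a
    calc D * ρ a = D * (ρ a * C) * D := by
          rw [mul_assoc, mul_assoc, hCD, mul_one]
      _ = D * (C * ρ (γ.symm a)) * D := by rw [hρC]
      _ = (D * C) * ρ (γ.symm a) * D := by simp only [mul_assoc]
      _ = ρ (γ.symm a) * D := by rw [hDC, one_mul]
  have hfρ : ∀ j, ∀ a, ρ a * f j = f j * ρ a := by
    intro j
    induction j with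
    | zero => intro a; simpa [f] using hPρ a
    | succ j ih =>
      intro a
      rw [hf_succ]
      calc ρ a * (C * f j * D) = (ρ a * C) * f j * D := by simp only [mul_assoc]
        _ = C * (ρ (γ.symm a) * f j) * D := by rw [hρC]; simp only [mul_assoc]
        _ = C * (f j * ρ (γ.symm a)) * D := by rw [ih]
        _ = C * f j * (ρ (γ.symm a) * D) := by simp only [mul_assoc]
        _ = C * f j * (D * ρ a) := by rw [hDρ]
        _ = C * f j * D * ρ a := by simp only [mul_assoc]
  refine ⟨(q : L)⁻¹ • S, ?_, ?_, ?_, ?_, ?_⟩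
  · intro x
    rw [LinearMap.smul_apply]
    refine U.smul_mem _ ?_
    simp only [S, LinearMap.sum_apply]
    refine U.sum_mem fun j _ => ?_
    exact hUCj j _ (hP1 _)
  · intro u hu
    have h1 : S u = (q : L) • u := by
      simp only [S, LinearMap.sum_apply]
      have : ∀ j : ℕ, (f j) u = u := by
        intro j
        have h2 : P ((D ^ j) u) = (D ^ j) u := hP2 _ (hUDj j u hu)
        have h3 : C ^ j * D ^ j = 1 := by
          rw [← (hcomm.mul_pow j), hCD, one_pow]
        calc (f j) u = (C ^ j) (P ((D ^ j) u)) := rfl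
          _ = (C ^ j) ((D ^ j) u) := by rw [h2]
          _ = (C ^ j * D ^ j) u := rfl
          _ = u := by rw [h3]; rfl
      rw [Finset.sum_congr rfl (fun j _ => this j)]
      simp [Nat.cast_smul_eq_nsmul]
    rw [LinearMap.smul_apply, h1, smul_smul, inv_mul_cancel₀ hq, one_smul]
  · intro a
    have : ρ a * S = S * ρ a := by
      simp only [S, Finset.mul_sum, Finset.sum_mul, hfρ]
    rw [mul_smul_comm, smul_mul_assoc, this]
  · rw [mul_smul_comm, smul_mul_assoc, hS_C]
  · rw [mul_smul_comm, smul_mul_assoc, hS_D]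

/-! ### The norm operator of a finite-order endomorphism -/

/-- `N = ∑_{j<q} C^j`. -/
noncomputable def normOp (C : Module.End L W) (q : ℕ) : Module.End L W :=
  ∑ j ∈ Finset.range q, C ^ j

theorem mul_normOp (C : Module.End L W) {q : ℕ} (hCq : C ^ q = 1) :
    C * normOp C q = normOp C q := by
  have h1 : C * normOp C q = ∑ j ∈ Finset.range q, C ^ (j + 1) := by
    simp only [normOp, Finset.mul_sum, pow_succ']
  have h2 : ∑ j ∈ Finset.range q, C ^ (j + 1) + C ^ 0 = normOp C q + C ^ q := by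
    rw [← Finset.sum_range_succ' (fun j => C ^ j) q, Finset.sum_range_succ (fun j => C ^ j) q]
    rfl
  rw [h1]
  rw [hCq, pow_zero] at h2
  exact add_right_cancel h2

theorem normOp_mul (C : Module.End L W) {q : ℕ} (hCq : C ^ q = 1) :
    normOp C q * C = normOp C q := by
  have hc : Commute (normOp C q) C := by
    unfold normOp
    exact Commute.sum_left _ _ _ (fun j _ => (Commute.refl C).pow_left j)
  rw [hc.eq, mul_normOp C hCq]

theorem normOp_mul_pow (C : Module.End L W) {q : ℕ} (hCq : C ^ q = 1) (j : ℕ) :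
    normOp C q * C ^ j = normOp C q := by
  induction j with
  | zero => simp
  | succ j ih => rw [pow_succ', ← mul_assoc, normOp_mul C hCq, ih]

theorem normOp_apply_of_fixed (C : Module.End L W) (q : ℕ) {x : W} (hx : C x = x) :
    normOp C q x = (q : L) • x := by
  have h : ∀ j : ℕ, (C ^ j) x = x := by
    intro j
    induction j with
    | zero => simp
    | succ j ih => rw [pow_succ, Module.End.mul_apply, hx, ih]
  simp only [normOp, LinearMap.sum_apply, h]
  simp [Nat.cast_smul_eq_nsmul]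

theorem ker_sub_one_eq_range_normOp (C : Module.End L W) {q : ℕ} (hq : (q : L) ≠ 0)
    (hCq : C ^ q = 1) : LinearMap.ker (C - 1) = LinearMap.range (normOp C q) := by
  ext x
  constructor
  · intro hx
    have hx' : C x = x := by
      have : (C - 1) x = 0 := hx
      rw [LinearMap.sub_apply, Module.End.one_apply, sub_eq_zero] at this
      exact this
    refine ⟨(q : L)⁻¹ • x, ?_⟩
    rw [map_smul, normOp_apply_of_fixed C q hx', smul_smul, inv_mul_cancel₀ hq, one_smul]
  · rintro ⟨y, rfl⟩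
    show (C - 1) (normOp C q y) = 0
    rw [LinearMap.sub_apply, Module.End.one_apply, sub_eq_zero]
    calc C (normOp C q y) = (C * normOp C q) y := rfl
      _ = normOp C q y := by rw [mul_normOp C hCq]

theorem mem_ker_sub_one {C : Module.End L W} {x : W} :
    x ∈ LinearMap.ker (C - 1) ↔ C x = x := by
  rw [LinearMap.mem_ker, LinearMap.sub_apply, Module.End.one_apply, sub_eq_zero]

/-! ### Weights -/

/-- Hypotheses of the abstract theorem. -/
structure Setup (ρ : K →* Module.End L W) (C D : Module.End L W) (γ : K ≃* K) (q : ℕ) :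
    Prop where
  comm : ∀ a b : K, a * b = b * a
  hCD : C * D = 1
  hDC : D * C = 1
  hCq : C ^ q = 1
  hq : q.Prime
  tw : ∀ k, C * ρ k = ρ (γ k) * C
  fpf : ∀ k, γ k = k → k = 1
  hK : (Nat.card K : L) ≠ 0
  hqL : (q : L) ≠ 0

variable {ρ : K →* Module.End L W} {C D : Module.End L W} {γ : K ≃* K} {q : ℕ}

theorem Setup.surj [Finite K] (S : Setup ρ C D γ q) (k : K) : ∃ k', γ k' * k'⁻¹ = k := by
  have hinj : Function.Injective (fun k' : K => γ k' * k'⁻¹) := by
    intro a b hab
    have hab' : γ a * a⁻¹ = γ b * b⁻¹ := hab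
    have h : (γ b)⁻¹ * γ a = b⁻¹ * a := by
      have := congrArg (fun t => (γ b)⁻¹ * t * a) hab'
      simpa [mul_assoc] using this
    have h2 : γ (b⁻¹ * a) = b⁻¹ * a := by rw [map_mul, map_inv, h]
    have h3 := S.fpf _ h2
    exact (inv_mul_eq_one.mp h3).symm
  exact (Finite.injective_iff_surjective.mp hinj) k

theorem Setup.D_eq (S : Setup ρ C D γ q) : D = C ^ (q - 1) := by
  have hq1 : q - 1 + 1 = q := Nat.succ_pred_eq_of_pos S.hq.pos
  calc D = D * C ^ q := by rw [S.hCq, mul_one]
    _ = D * (C * C ^ (q - 1)) := by rw [← pow_succ', hq1]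
    _ = (D * C) * C ^ (q - 1) := by rw [mul_assoc]
    _ = C ^ (q - 1) := by rw [S.hDC, one_mul]

theorem Setup.shift (S : Setup ρ C D γ q) {w : W} {lam : K → L}
    (hlam : ∀ k, ρ k w = lam k • w) :
    ∀ (j : ℕ) (k : K), ρ ((⇑γ)^[j] k) ((C ^ j) w) = lam k • (C ^ j) w := by
  intro j
  induction j with
  | zero => intro k; simpa using hlam k
  | succ j ih =>
    intro k
    rw [Function.iterate_succ_apply', pow_succ', Module.End.mul_apply]
    have h1 : C (ρ ((⇑γ)^[j] k) ((C ^ j) w)) = ρ (γ ((⇑γ)^[j] k)) (C ((C ^ j) w)) := by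
      have := congrArg (fun T : Module.End L W => T ((C ^ j) w)) (S.tw ((⇑γ)^[j] k))
      simpa [Module.End.mul_apply] using this
    rw [← h1, ih k, map_smul]

theorem lam_mul {w : W} (hw0 : w ≠ 0) {lam : K → L} (hlam : ∀ k, ρ k w = lam k • w)
    (a b : K) : lam (a * b) = lam a * lam b := by
  have h1 : ρ (a * b) w = (lam a * lam b) • w := by
    rw [map_mul, Module.End.mul_apply, hlam b, map_smul, hlam a, smul_smul, mul_comm]
  have h2 := hlam (a * b)
  rw [h1] at h2
  exact (smul_left_injective L hw0 h2).symm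

theorem lam_one {w : W} (hw0 : w ≠ 0) {lam : K → L} (hlam : ∀ k, ρ k w = lam k • w) :
    lam 1 = 1 := by
  have h2 := hlam 1
  rw [map_one, Module.End.one_apply] at h2
  have : (1 : L) • w = lam 1 • w := by rw [one_smul]; exact h2
  exact (smul_left_injective L hw0 this).symm

theorem Setup.weights_distinct [Finite K] (S : Setup ρ C D γ q) {w : W} (hw0 : w ≠ 0)
    {lam : K → L} (hlam : ∀ k, ρ k w = lam k • w)
    (hnofix : (∀ k, ρ k w = w) → w = 0) :
    ∀ i j : ℕ, i < j → j < q → ∃ k, lam ((⇑γ.symm)^[i] k) ≠ lam ((⇑γ.symm)^[j] k) := by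
  intro i j hij hjq
  by_contra hcon
  push Not at hcon
  have hleft : ∀ n : ℕ, Function.LeftInverse (⇑γ.symm)^[n] (⇑γ)^[n] :=
    fun n => Function.LeftInverse.iterate (g := ⇑γ.symm) (f := ⇑γ) γ.symm_apply_apply n
  -- predicate
  have hadd : ∀ a b : ℕ, (∀ k, lam ((⇑γ)^[a] k) = lam k) → (∀ k, lam ((⇑γ)^[b] k) = lam k) →
      ∀ k, lam ((⇑γ)^[a + b] k) = lam k := by
    intro a b ha hb k
    rw [Function.iterate_add_apply, ha, hb]
  obtain ⟨m, hm⟩ : ∃ m, j = i + m := ⟨j - i, by omega⟩
  have hm0 : 0 < m := by omega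
  have hmq : m < q := by omega
  have hPm : ∀ k, lam ((⇑γ)^[m] k) = lam k := by
    intro k'
    have h := hcon ((⇑γ)^[j] k')
    rw [hleft j k'] at h
    rw [hm, Function.iterate_add_apply, hleft i] at h
    exact h
  have hPq : ∀ k, lam ((⇑γ)^[q] k) = lam k := by
    intro k
    have h1 := S.shift hlam q k
    rw [S.hCq, Module.End.one_apply] at h1
    have h2 := hlam ((⇑γ)^[q] k)
    rw [h1] at h2
    exact (smul_left_injective L hw0 h2).symm
  have hmul : ∀ (n : ℕ), (∀ k, lam ((⇑γ)^[n] k) = lam k) → ∀ a : ℕ, ∀ k,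
      lam ((⇑γ)^[a * n] k) = lam k := by
    intro n hn a
    induction a with
    | zero => intro k; simp
    | succ a ih =>
      intro k
      rw [Nat.succ_mul]
      exact hadd _ _ ih hn k
  have hcop : Nat.Coprime m q := by
    rw [Nat.coprime_comm]
    exact (Nat.Prime.coprime_iff_not_dvd S.hq).mpr (Nat.not_dvd_of_pos_of_lt hm0 hmq)
  obtain ⟨a, -, ha⟩ := Nat.exists_mul_mod_eq_one_of_coprime hcop S.hq.one_lt
  have hdiv : m * a = q * (m * a / q) + 1 := by
    have := Nat.div_add_mod (m * a) q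
    omega
  have hP1 : ∀ k, lam (γ k) = lam k := by
    intro k
    have h1 := hmul m hPm a k
    rw [mul_comm a m, hdiv, Function.iterate_add_apply] at h1
    have h2 := hmul q hPq (m * a / q) ((⇑γ)^[1] k)
    rw [mul_comm (m * a / q) q] at h2
    rw [h2] at h1
    simpa using h1
  have hall : ∀ k, lam k = 1 := by
    intro k
    obtain ⟨k', rfl⟩ := S.surj k
    rw [lam_mul hw0 hlam, hP1, ← lam_mul hw0 hlam, mul_inv_cancel, lam_one hw0 hlam]
  exact hw0 (hnofix (fun k => by rw [hlam k, hall k, one_smul]))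

/-! ### The peeling step -/

/-- Invariance of a subspace. -/
def Inv (ρ : K →* Module.End L W) (C : Module.End L W) (X : Submodule L W) : Prop :=
  (∀ k, ∀ x ∈ X, ρ k x ∈ X) ∧ (∀ x ∈ X, C x ∈ X)

theorem Inv.pow {X : Submodule L W} (h : Inv ρ C X) (j : ℕ) : ∀ x ∈ X, (C ^ j) x ∈ X := by
  induction j with
  | zero => intro x hx; simpa using hx
  | succ j ih => intro x hx; rw [pow_succ', Module.End.mul_apply]; exact h.2 _ (ih x hx)

theorem Setup.step [Finite K] [IsAlgClosed L] [FiniteDimensional L W] (S : Setup ρ C D γ q)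
    (X : Submodule L W) (hX : X ≠ ⊥) (hinv : Inv ρ C X)
    (hnofix : ∀ x ∈ X, (∀ k, ρ k x = x) → x = 0) :
    ∃ U X' : Submodule L W, U ≤ X ∧ X' ≤ X ∧ Inv ρ C X' ∧ finrank L U = q ∧
      finrank L ↥(U ⊓ LinearMap.ker (C - 1)) = 1 ∧ U ⊓ X' = ⊥ ∧ U ⊔ X' = X ∧
      X ⊓ LinearMap.ker (C - 1) =
        (U ⊓ LinearMap.ker (C - 1)) ⊔ (X' ⊓ LinearMap.ker (C - 1)) := by
  classical
  haveI := Fintype.ofFinite K
  obtain ⟨w, hwX, hw0, hw⟩ := exists_common_eigenvector ρ S.comm Finset.univ X hX hinv.1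
  choose lam hlam using fun k => hw k (Finset.mem_univ k)
  let wv : Fin q → W := fun j => (C ^ (j : ℕ)) w
  have hcomm : Commute D C := by rw [Commute, SemiconjBy, S.hCD, S.hDC]
  have hDCj : ∀ j : ℕ, D ^ j * C ^ j = 1 := by
    intro j
    rw [← hcomm.mul_pow j, S.hDC, one_pow]
  have hwv0 : ∀ j, wv j ≠ 0 := by
    intro j h
    apply hw0
    have h2 : (D ^ (j : ℕ) * C ^ (j : ℕ)) w = 0 := by
      rw [Module.End.mul_apply]
      show (D ^ (j : ℕ)) (wv j) = 0
      rw [h, map_zero]
    rwa [hDCj, Module.End.one_apply] at h2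
  let chi : Fin q → K → L := fun j k => lam ((⇑γ.symm)^[(j : ℕ)] k)
  have hchi : ∀ j k, ρ k (wv j) = chi j k • wv j := by
    intro j k
    have h := S.shift hlam (j : ℕ) ((⇑γ.symm)^[(j : ℕ)] k)
    have hright : (⇑γ)^[(j : ℕ)] ((⇑γ.symm)^[(j : ℕ)] k) = k :=
      (Function.LeftInverse.iterate (g := ⇑γ) (f := ⇑γ.symm) γ.apply_symm_apply (j : ℕ)) k
    rw [hright] at h
    exact h
  have hchi_inj : Function.Injective chi := by
    intro i j hij
    by_contra hne
    rcases lt_or_gt_of_ne (fun h => hne (Fin.ext h)) with h | h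
    · obtain ⟨k, hk⟩ := S.weights_distinct hw0 hlam (hnofix w hwX) i j h j.2
      exact hk (congrFun hij k)
    · obtain ⟨k, hk⟩ := S.weights_distinct hw0 hlam (hnofix w hwX) j i h i.2
      exact hk (congrFun hij.symm k)
  have hind0 : iSupIndep fun χ : K → L => ⨅ k, (ρ k).maxGenEigenspace (χ k) :=
    Module.End.independent_iInf_maxGenEigenspace_of_forall_mapsTo (fun k => ρ k) (by
      intro a b φ
      exact Module.End.mapsTo_maxGenEigenspace_of_comm (by
        show Commute (ρ b) (ρ a)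
        rw [Commute, SemiconjBy, ← map_mul, ← map_mul, S.comm]) φ)
  have hind : iSupIndep fun j : Fin q => ⨅ k, (ρ k).maxGenEigenspace (chi j k) :=
    hind0.comp hchi_inj
  have hli : LinearIndependent L wv :=
    hind.linearIndependent _ (fun j => by
      rw [Submodule.mem_iInf]
      intro k
      exact Module.End.eigenspace_le_maxGenEigenspace
        (Module.End.mem_eigenspace_iff.mpr (hchi j k))) hwv0
  let U : Submodule L W := Submodule.span L (Set.range wv)
  have hUdim : finrank L U = q := by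
    rw [finrank_span_eq_card hli, Fintype.card_fin]
  have hwvX : ∀ j, wv j ∈ X := fun j => hinv.pow j _ hwX
  have hUX : U ≤ X := Submodule.span_le.mpr (by rintro _ ⟨j, rfl⟩; exact hwvX j)
  have hUρ : ∀ k, ∀ u ∈ U, ρ k u ∈ U := by
    intro k u hu
    have : U.map (ρ k) ≤ U := by
      rw [Submodule.map_span_le]
      rintro _ ⟨j, rfl⟩
      rw [hchi j k]
      exact U.smul_mem _ (Submodule.subset_span ⟨j, rfl⟩)
    exact this (Submodule.mem_map_of_mem hu)
  have hUC : ∀ u ∈ U, C u ∈ U := by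
    intro u hu
    have : U.map C ≤ U := by
      rw [Submodule.map_span_le]
      rintro _ ⟨j, rfl⟩
      show C ((C ^ (j : ℕ)) w) ∈ U
      rw [← Module.End.mul_apply, ← pow_succ']
      by_cases hj : (j : ℕ) + 1 < q
      · exact Submodule.subset_span ⟨⟨(j : ℕ) + 1, hj⟩, rfl⟩
      · have hjq : (j : ℕ) + 1 = q := by have := j.2; omega
        rw [hjq, S.hCq, Module.End.one_apply]
        exact Submodule.subset_span ⟨⟨0, S.hq.pos⟩, by simp [wv]⟩
    exact this (Submodule.mem_map_of_mem hu)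
  have hUinv : Inv ρ C U := ⟨hUρ, hUC⟩
  have hUD : ∀ u ∈ U, D u ∈ U := by
    rw [S.D_eq]
    exact hUinv.pow (q - 1)
  obtain ⟨U2, hU2⟩ := Submodule.exists_isCompl U
  let P : Module.End L W := U.projection U2 hU2
  have hP1 : ∀ x, P x ∈ U := fun x => by
    show (U.subtype (U.projectionOnto U2 hU2 x)) ∈ U
    exact (U.projectionOnto U2 hU2 x).2
  have hP2 : ∀ u ∈ U, P u = u := fun u hu => by
    show (U.subtype (U.projectionOnto U2 hU2 u)) = u
    rw [Submodule.projectionOnto_apply_of_mem_left hU2 hu]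
    rfl
  obtain ⟨P1, hP11, hP12, hP1ρ⟩ := exists_equivariant_proj ρ S.hK U hUρ P hP1 hP2
  obtain ⟨P2, hP21, hP22, hP2ρ, hP2C, -⟩ := exists_equivariant_proj_cyc ρ C D γ S.hqL S.hCD
    S.hDC S.hCq S.tw U hUC hUD P1 hP11 hP12 hP1ρ
  let X' : Submodule L W := X ⊓ LinearMap.ker P2
  have hP2P2 : ∀ x, P2 (P2 x) = P2 x := fun x => hP22 _ (hP21 x)
  have hsplit : ∀ x ∈ X, x - P2 x ∈ X' := by
    intro x hx
    refine ⟨X.sub_mem hx (hUX (hP21 x)), ?_⟩
    rw [SetLike.mem_coe, LinearMap.mem_ker, map_sub, hP2P2, sub_self]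
  have hNwv : ∀ j, normOp C q (wv j) = normOp C q w := by
    intro j
    show normOp C q ((C ^ (j : ℕ)) w) = _
    rw [← Module.End.mul_apply, normOp_mul_pow C S.hCq]
  have hNw_sum : normOp C q w = ∑ j : Fin q, wv j := by
    simp only [normOp, LinearMap.sum_apply, wv]
    rw [Finset.sum_range]
  have hNw0 : normOp C q w ≠ 0 := by
    intro h
    rw [hNw_sum] at h
    have := (Fintype.linearIndependent_iff.mp hli) (fun _ => 1) (by simpa using h)
      ⟨0, S.hq.pos⟩
    exact one_ne_zero this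
  have hUF : U ⊓ LinearMap.ker (C - 1) = L ∙ (normOp C q w) := by
    apply le_antisymm
    · rintro x ⟨hxU, hxF⟩
      have hx : C x = x := mem_ker_sub_one.mp hxF
      have h1 : normOp C q x = (q : L) • x := normOp_apply_of_fixed C q hx
      have h2 : normOp C q x ∈ L ∙ (normOp C q w) := by
        have : U.map (normOp C q) ≤ L ∙ (normOp C q w) := by
          rw [Submodule.map_span_le]
          rintro _ ⟨j, rfl⟩
          rw [hNwv j]
          exact Submodule.mem_span_singleton_self _
        exact this (Submodule.mem_map_of_mem hxU)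
      have h3 : x = (q : L)⁻¹ • normOp C q x := by
        rw [h1, smul_smul, inv_mul_cancel₀ S.hqL, one_smul]
      rw [h3]
      exact Submodule.smul_mem _ _ h2
    · rw [Submodule.span_singleton_le_iff_mem]
      refine ⟨?_, ?_⟩
      · rw [hNw_sum]
        exact U.sum_mem (fun j _ => Submodule.subset_span ⟨j, rfl⟩)
      · rw [SetLike.mem_coe, mem_ker_sub_one, ← Module.End.mul_apply, mul_normOp C S.hCq]
  refine ⟨U, X', hUX, inf_le_left, ?_, hUdim, ?_, ?_, ?_, ?_⟩
  · refine ⟨?_, ?_⟩
    · intro k x hx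
      refine ⟨hinv.1 k x hx.1, ?_⟩
      have h0 : P2 x = 0 := hx.2
      rw [SetLike.mem_coe, LinearMap.mem_ker]
      calc P2 (ρ k x) = (P2 * ρ k) x := rfl
        _ = (ρ k * P2) x := by rw [hP2ρ]
        _ = ρ k (P2 x) := rfl
        _ = 0 := by rw [h0, map_zero]
    · intro x hx
      refine ⟨hinv.2 x hx.1, ?_⟩
      have h0 : P2 x = 0 := hx.2
      rw [SetLike.mem_coe, LinearMap.mem_ker]
      calc P2 (C x) = (P2 * C) x := rfl
        _ = (C * P2) x := by rw [hP2C]
        _ = C (P2 x) := rfl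
        _ = 0 := by rw [h0, map_zero]
  · rw [hUF]
    exact finrank_span_singleton hNw0
  · rw [eq_bot_iff]
    rintro x ⟨hxU, hxX'⟩
    have h0 : P2 x = 0 := hxX'.2
    rw [hP22 x hxU] at h0
    rw [Submodule.mem_bot]
    exact h0
  · apply le_antisymm
    · exact sup_le hUX inf_le_left
    · intro x hx
      rw [Submodule.mem_sup]
      exact ⟨P2 x, hP21 x, x - P2 x, hsplit x hx, by abel⟩
  · apply le_antisymm
    · rintro x ⟨hxX, hxF⟩
      have hx : C x = x := mem_ker_sub_one.mp hxF
      have hCP : C (P2 x) = P2 x := by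
        calc C (P2 x) = (C * P2) x := rfl
          _ = (P2 * C) x := by rw [hP2C]
          _ = P2 (C x) := rfl
          _ = P2 x := by rw [hx]
      rw [Submodule.mem_sup]
      refine ⟨P2 x, ⟨hP21 x, mem_ker_sub_one.mpr hCP⟩, x - P2 x,
        ⟨hsplit x hxX, ?_⟩, by abel⟩
      rw [SetLike.mem_coe, mem_ker_sub_one, map_sub, hx, hCP]
    · exact sup_le (inf_le_inf_right _ hUX) (inf_le_inf_right _ inf_le_left)

theorem Setup.rel_main [Finite K] [IsAlgClosed L] [FiniteDimensional L W]
    (S : Setup ρ C D γ q) :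
    ∀ n : ℕ, ∀ X : Submodule L W, finrank L X = n → Inv ρ C X →
      (∀ x ∈ X, (∀ k, ρ k x = x) → x = 0) →
      finrank L X = q * finrank L ↥(X ⊓ LinearMap.ker (C - 1)) := by
  intro n
  induction n using Nat.strong_induction_on with
  | _ n ih =>
    intro X hXn hinv hnofix
    by_cases hX : X = ⊥
    · subst hX
      simp
    · obtain ⟨U, X', hUX, hX'X, hinv', hUdim, hUF, hdisj, hsup, hfix⟩ :=
        S.step X hX hinv hnofix
      have h1 : finrank L X = finrank L U + finrank L X' := by
        have := Submodule.finrank_sup_add_finrank_inf_eq U X'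
        rw [hsup, hdisj, finrank_bot, add_zero] at this
        exact this
      have hlt : finrank L X' < n := by
        rw [← hXn, h1, hUdim]
        have := S.hq.pos
        omega
      have h2 := ih _ hlt X' rfl hinv' (fun x hx => hnofix x (hX'X hx))
      have h3 : finrank L ↥(X ⊓ LinearMap.ker (C - 1)) =
          finrank L ↥(U ⊓ LinearMap.ker (C - 1)) + finrank L ↥(X' ⊓ LinearMap.ker (C - 1)) := by
        have := Submodule.finrank_sup_add_finrank_inf_eq (U ⊓ LinearMap.ker (C - 1))
          (X' ⊓ LinearMap.ker (C - 1))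
        have hd : (U ⊓ LinearMap.ker (C - 1)) ⊓ (X' ⊓ LinearMap.ker (C - 1)) = ⊥ := by
          rw [eq_bot_iff, ← hdisj]
          exact inf_le_inf inf_le_left inf_le_left
        rw [← hfix, hd, finrank_bot, add_zero] at this
        exact this
      rw [h1, h3, hUdim, hUF, h2]
      ring

/-- **Abstract theorem**: `dim W = q * dim C_W(C)`. -/
theorem Setup.main [Finite K] [IsAlgClosed L] [FiniteDimensional L W] (S : Setup ρ C D γ q)
    (hnofix : ∀ x : W, (∀ k, ρ k x = x) → x = 0) :
    finrank L W = q * finrank L ↥(LinearMap.ker (C - 1)) := by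
  have := S.rel_main _ ⊤ rfl ⟨fun _ _ _ => trivial, fun _ _ => trivial⟩ (fun x _ => hnofix x)
  rwa [finrank_top, top_inf_eq] at this

end Abstract

end Cfsg.Agent.Lib.H1.FFM
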