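/-
S4563 + S4564 (architect helper23), piece DIV (helper1): `K ⊴ H`, `φ` a character of `K`, `W₀ ≤ K`, `ζ₀ ∈ Irr(W₀)`,
`T'` a subgroup normalizing `W₀` and fixing `ζ₀`, `W₀ ≤ T'`, `T' ∩ K ≤ W₀`.  Then `|T' : W₀|` divides
`[(φ^H)_{W₀}, ζ₀]`.
Proof: `(φ^H)(w) = |K|⁻¹ Σ_{x ∈ H} φ(x⁻¹ w x)`, so the inner product is `|K|⁻¹ Σ_x n(x)` with
`n(x) = [(φ^x)_{W₀}, ζ₀] ∈ ℕ`; `n` is invariant under left multiplication by `K` (`φ` is a class function) and by `T'`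
(`ζ₀` is `T'`-invariant), hence by `M = T' K`, and `|M| = |K| |T' : W₀|`.
-/
import Mathlib
import Cfsg.Prelude.Def_Blocks
import Cfsg.Prelude.Def_Characters
import Cfsg.Agent.Lib.L0.CharInd
import Cfsg.Agent.Lib.H23.CenterIndex

set_option autoImplicit false
set_option linter.unusedSectionVars false
set_option linter.unusedVariables false

namespace Cfsg.Agent.Lib.H1.FRS

open Cfsg
open scoped ComplexConjugate

/-- conjugation `w ↦ x⁻¹ w x` from `W₀ ≤ K` into the normal subgroup `K` -/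
def conjHom {H : Type*} [Group H] (K : Subgroup H) [hK : K.Normal] (W₀ : Subgroup H) (hW₀K : W₀ ≤ K) (x : H) :
    ↥W₀ →* ↥K where
  toFun w := ⟨x⁻¹ * (w : H) * x, by
    have h := hK.conj_mem (w : H) (hW₀K w.2) x⁻¹
    rwa [inv_inv] at h⟩
  map_one' := by
    apply Subtype.ext
    simp
  map_mul' a b := by
    apply Subtype.ext
    show x⁻¹ * ((a : H) * (b : H)) * x = (x⁻¹ * (a : H) * x) * (x⁻¹ * (b : H) * x)
    group

theorem conjHom_val {H : Type*} [Group H] (K : Subgroup H) [hK : K.Normal] (W₀ : Subgroup H) (hW₀K : W₀ ≤ K) (x : H)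
    (w : ↥W₀) : ((conjHom K W₀ hW₀K x w : ↥K) : H) = x⁻¹ * (w : H) * x := rfl

/-- **DIV** -/
theorem index_dvd_classInner_indFun {H : Type*} [Group H] [Fintype H] (K : Subgroup H) [K.Normal]
    [Fintype ↥K] (φ : ↥K → ℂ) (hφ : IsCharacter ↥K φ) (W₀ : Subgroup H) [Fintype ↥W₀] (hW₀K : W₀ ≤ K)
    (ζ₀ : IrrCharacter ↥W₀) (T' : Subgroup H) (hW₀T : W₀ ≤ T') (hTK : T' ⊓ K ≤ W₀)
    (hfix : ∀ t ∈ T', ∀ (w : H) (hw : w ∈ W₀), ∃ hw' : t * w * t⁻¹ ∈ W₀,
      (ζ₀ : ↥W₀ → ℂ) ⟨t * w * t⁻¹, hw'⟩ = (ζ₀ : ↥W₀ → ℂ) ⟨w, hw⟩) :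
    ∃ k : ℕ, classInner (fun w : ↥W₀ => indFun K φ (w : H)) (ζ₀ : ↥W₀ → ℂ) =
      ((k * W₀.relIndex T' : ℕ) : ℂ) := by
  classical
  -- the multiplicities `n x`
  have hF : ∀ x : H, ∃ n : ℕ, classInner (φ ∘ conjHom K W₀ hW₀K x) (ζ₀ : ↥W₀ → ℂ) = n := fun x =>
    Cfsg.Agent.Lib.L0.classInner_char_irr_nat (Cfsg.Agent.Lib.L0.isCharacter_comp _ hφ) ζ₀.2
  choose n hn using hF
  -- the inner product as a sum of the `n x`
  have key : classInner (fun w : ↥W₀ => indFun K φ (w : H)) (ζ₀ : ↥W₀ → ℂ) =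
      (Nat.card ↥K : ℂ)⁻¹ * ∑ x : H, (n x : ℂ) := by
    have h1 : ∀ w : ↥W₀, indFun K φ (w : H) =
        (Nat.card ↥K : ℂ)⁻¹ * ∑ x : H, (φ ∘ conjHom K W₀ hW₀K x) w := by
      intro w
      unfold indFun
      congr 1
      apply Finset.sum_congr rfl
      intro x _
      exact Cfsg.Agent.Lib.L0.extendByZero_apply_mem K φ (conjHom K W₀ hW₀K x w)
    have h2 : ∀ x : H, (n x : ℂ) = (Nat.card ↥W₀ : ℂ)⁻¹ *
        ∑ w : ↥W₀, (φ ∘ conjHom K W₀ hW₀K x) w * conj ((ζ₀ : ↥W₀ → ℂ) w) := by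
      intro x
      rw [← hn x]
      rfl
    unfold classInner
    simp only [h1, h2]
    simp only [Finset.sum_mul, Finset.mul_sum]
    rw [Finset.sum_comm]
    apply Finset.sum_congr rfl
    intro x _
    apply Finset.sum_congr rfl
    intro w _
    ring
  -- invariance under `K`
  have hinvK : ∀ k ∈ K, ∀ x : H, n (k * x) = n x := by
    intro k hk x
    have hfun : φ ∘ conjHom K W₀ hW₀K (k * x) = φ ∘ conjHom K W₀ hW₀K x := by
      funext w
      have hkk : x⁻¹ * k * x ∈ K := by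
        have h := (inferInstance : K.Normal).conj_mem k hk x⁻¹
        rwa [inv_inv] at h
      have e : conjHom K W₀ hW₀K (k * x) w =
          (⟨x⁻¹ * k * x, hkk⟩ : ↥K)⁻¹ * conjHom K W₀ hW₀K x w * ((⟨x⁻¹ * k * x, hkk⟩ : ↥K)⁻¹)⁻¹ := by
        apply Subtype.ext
        show (k * x)⁻¹ * (w : H) * (k * x) = (x⁻¹ * k * x)⁻¹ * (x⁻¹ * (w : H) * x) * ((x⁻¹ * k * x)⁻¹)⁻¹
        group
      show φ (conjHom K W₀ hW₀K (k * x) w) = φ (conjHom K W₀ hW₀K x w)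
      rw [e]
      exact Cfsg.Agent.Lib.L0.isClassFunction_of_isCharacter hφ _ _
    have h3 : (n (k * x) : ℂ) = (n x : ℂ) := by rw [← hn, ← hn, hfun]
    exact_mod_cast h3
  -- invariance under `T'`
  have hinvT : ∀ t ∈ T', ∀ x : H, n (t * x) = n x := by
    intro t ht x
    have hmem : ∀ w : ↥W₀, t⁻¹ * (w : H) * t ∈ W₀ := by
      intro w
      obtain ⟨hw', -⟩ := hfix t⁻¹ (T'.inv_mem ht) (w : H) w.2
      rwa [inv_inv] at hw'
    have hmem' : ∀ w : ↥W₀, t * (w : H) * t⁻¹ ∈ W₀ := fun w => (hfix t ht (w : H) w.2).1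
    let σ : ↥W₀ ≃ ↥W₀ :=
      { toFun := fun w => ⟨t⁻¹ * (w : H) * t, hmem w⟩
        invFun := fun w => ⟨t * (w : H) * t⁻¹, hmem' w⟩
        left_inv := by
          intro w
          apply Subtype.ext
          show t * (t⁻¹ * (w : H) * t) * t⁻¹ = (w : H)
          group
        right_inv := by
          intro w
          apply Subtype.ext
          show t⁻¹ * (t * (w : H) * t⁻¹) * t = (w : H)
          group }
    have hζ : ∀ w : ↥W₀, (ζ₀ : ↥W₀ → ℂ) (σ w) = (ζ₀ : ↥W₀ → ℂ) w := by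
      intro w
      obtain ⟨hw', h4⟩ := hfix t⁻¹ (T'.inv_mem ht) (w : H) w.2
      have e : (σ w : ↥W₀) = ⟨t⁻¹ * (w : H) * t⁻¹⁻¹, hw'⟩ := by
        apply Subtype.ext
        show t⁻¹ * (w : H) * t = t⁻¹ * (w : H) * t⁻¹⁻¹
        rw [inv_inv]
      rw [e]
      exact h4
    have hc : ∀ w : ↥W₀, conjHom K W₀ hW₀K (t * x) w = conjHom K W₀ hW₀K x (σ w) := by
      intro w
      apply Subtype.ext
      show (t * x)⁻¹ * (w : H) * (t * x) = x⁻¹ * (t⁻¹ * (w : H) * t) * x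
      group
    have h3 : (n (t * x) : ℂ) = (n x : ℂ) := by
      rw [← hn, ← hn]
      unfold classInner
      congr 1
      rw [← Equiv.sum_comp σ (fun w => (φ ∘ conjHom K W₀ hW₀K x) w * conj ((ζ₀ : ↥W₀ → ℂ) w))]
      apply Finset.sum_congr rfl
      intro w _
      show φ (conjHom K W₀ hW₀K (t * x) w) * conj ((ζ₀ : ↥W₀ → ℂ) w) =
        φ (conjHom K W₀ hW₀K x (σ w)) * conj ((ζ₀ : ↥W₀ → ℂ) (σ w))
      rw [hc w, hζ w]
    exact_mod_cast h3
  -- invariance under `M = T' ⊔ K`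
  let Stab : Subgroup H :=
    { carrier := {m | ∀ x : H, n (m * x) = n x}
      one_mem' := by
        intro x
        rw [one_mul]
      mul_mem' := by
        intro a b ha hb x
        rw [mul_assoc, ha, hb]
      inv_mem' := by
        intro a ha x
        have h := ha (a⁻¹ * x)
        rw [mul_inv_cancel_left] at h
        exact h.symm }
  have hM : T' ⊔ K ≤ Stab := sup_le (fun t ht => hinvT t ht) (fun k hk => hinvK k hk)
  -- the sum over `H`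
  have hsum : ∑ x : H, n x = Nat.card ↥(T' ⊔ K) • ∑ q : H ⧸ (T' ⊔ K), n (Quotient.out q)⁻¹ := by
    have h5 : ∑ x : H, n x = ∑ x : H, n x⁻¹ := by
      rw [← Equiv.sum_comp (Equiv.inv H) n]
      rfl
    rw [h5]
    apply Cfsg.Agent.Lib.H23.sum_eq_card_nsmul_sum_quotient (T' ⊔ K) (fun x => n x⁻¹)
    intro g m hm
    show n (g * m)⁻¹ = n g⁻¹
    rw [mul_inv_rev]
    exact hM ((T' ⊔ K).inv_mem hm) g⁻¹
  -- the order of `M`
  have hW₀eq : T' ⊓ K = W₀ := le_antisymm hTK (le_inf hW₀T hW₀K)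
  have hcard : Nat.card ↥(T' ⊔ K) = Nat.card ↥K * W₀.relIndex T' := by
    have h6 : (⊥ : Subgroup H).relIndex K * K.relIndex (T' ⊔ K) = (⊥ : Subgroup H).relIndex (T' ⊔ K) :=
      Subgroup.relIndex_mul_relIndex _ _ _ bot_le le_sup_right
    rw [Subgroup.relIndex_bot_left, Subgroup.relIndex_bot_left, Subgroup.relIndex_sup_right,
      ← Subgroup.inf_relIndex_left, hW₀eq] at h6
    exact h6.symm
  have hK0 : (Nat.card ↥K : ℂ) ≠ 0 := by
    have : Nat.card ↥K ≠ 0 := Nat.card_pos.ne'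
    exact_mod_cast this
  refine ⟨∑ q : H ⧸ (T' ⊔ K), n (Quotient.out q)⁻¹, ?_⟩
  rw [key]
  have h7 : (∑ x : H, (n x : ℂ)) = ((∑ x : H, n x : ℕ) : ℂ) := by push_cast; rfl
  rw [h7, hsum, hcard, smul_eq_mul]
  push_cast
  field_simp
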