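/-
helper1, S5401-LIFT (helper17 architect, third farm-out): lifting elements along matching rack tables.
-/
import Mathlib
import Cfsg.Prelude.Def_FischerSpaces
import Cfsg.Agent.Lib.H17.FT.Rack
import Cfsg.Agent.Lib.H17.FT.SumSq

set_option autoImplicit false

namespace Cfsg.Agent.Lib.H1.FT

open Cfsg.Agent.Lib.H17.FT

/-- Step 1: every permutation generated by the small tables is matched by one generated by the big tables. -/
theorem lift_perm {J : Type*} {J0 : Type*} {S : Set J} {σ : J → Equiv.Perm J} {S0 : Set J0}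
    {σ0 : J0 → Equiv.Perm J0} (ι : J0 → J)
    (hS : ∀ s ∈ S0, ι s ∈ S) (hσ : ∀ s ∈ S0, ∀ j, σ (ι s) (ι j) = ι (σ0 s j))
    (π0 : Equiv.Perm J0) (hπ0 : π0 ∈ Subgroup.closure (σ0 '' S0)) :
    ∃ π ∈ Subgroup.closure (σ '' S), ∀ j, π (ι j) = ι (π0 j) := by
  induction hπ0 using Subgroup.closure_induction with
  | mem x hx =>
    obtain ⟨s, hs, rfl⟩ := hx
    exact ⟨σ (ι s), Subgroup.subset_closure ⟨ι s, hS s hs, rfl⟩, fun j => hσ s hs j⟩
  | one => exact ⟨1, one_mem _, fun j => by simp⟩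
  | mul x y _ _ hx hy =>
    obtain ⟨a, ha, hxa⟩ := hx
    obtain ⟨b, hb, hyb⟩ := hy
    refine ⟨a * b, mul_mem ha hb, fun j => ?_⟩
    rw [Equiv.Perm.mul_apply, Equiv.Perm.mul_apply, hyb, hxa]
  | inv x _ hx =>
    obtain ⟨a, ha, hxa⟩ := hx
    refine ⟨a⁻¹, inv_mem ha, fun j => ?_⟩
    rw [Equiv.Perm.inv_eq_iff_eq, hxa]
    simp

/-- **S5401-LIFT**. -/
theorem lift_of_tables {A : Type*} {B : Type*} {C : Type*} [Group A] [Group B] [CommGroup C]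
    {J : Type*} {J0 : Type*} {S : Set J} {σ : J → Equiv.Perm J} {S0 : Set J0} {σ0 : J0 → Equiv.Perm J0}
    (R : RackFam A J S σ) (R' : RackFam B J0 S0 σ0) (ι : J0 → J) (hι : Function.Injective ι)
    (hS : ∀ s ∈ S0, ι s ∈ S) (hσ : ∀ s ∈ S0, ∀ j, σ (ι s) (ι j) = ι (σ0 s j))
    (χ : A →* C) (χ' : B →* C) (hχ : ∀ j, χ (R.y (ι j)) = χ' (R'.y j)) :
    ∀ g : B, ∃ a : A, (∀ j, R.ρ a (ι j) = ι (R'.ρ g j)) ∧ χ a = χ' g := by
  have _ := hι
  -- Step 2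
  have step2 : ∀ j0 j, R.ρ (R.y (ι j0)) (ι j) = ι (R'.ρ (R'.y j0) j) := by
    intro j0 j
    obtain ⟨π0, hπ0, s, hs, rfl⟩ := R'.conn j0
    obtain ⟨π, hπ, hππ0⟩ := lift_perm ι hS hσ π0 hπ0
    have hinv : ∀ j, π⁻¹ (ι j) = ι (π0⁻¹ j) := by
      intro j
      rw [Equiv.Perm.inv_eq_iff_eq, hππ0]
      simp
    rw [← hππ0 s, R.ρ_y_conj π hπ, R'.ρ_y_conj π0 hπ0, R.ρ_y (ι s) (hS s hs), R'.ρ_y s hs]
    simp only [Equiv.Perm.mul_apply]
    rw [hinv, hσ s hs, hππ0]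
  intro g
  have hg : g ∈ Subgroup.closure (Set.range R'.y) := by rw [R'.gen]; trivial
  induction hg using Subgroup.closure_induction with
  | mem x hx =>
    obtain ⟨j0, rfl⟩ := hx
    exact ⟨R.y (ι j0), fun j => step2 j0 j, hχ j0⟩
  | one => exact ⟨1, fun j => by simp, by simp⟩
  | mul x y _ _ hx hy =>
    obtain ⟨a, ha, hca⟩ := hx
    obtain ⟨b, hb, hcb⟩ := hy
    refine ⟨a * b, fun j => ?_, by rw [map_mul, map_mul, hca, hcb]⟩
    rw [map_mul, map_mul, Equiv.Perm.mul_apply, Equiv.Perm.mul_apply, hb, ha]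
  | inv x _ hx =>
    obtain ⟨a, ha, hca⟩ := hx
    refine ⟨a⁻¹, fun j => ?_, by rw [map_inv, map_inv, hca]⟩
    rw [map_inv, map_inv, Equiv.Perm.inv_eq_iff_eq, ha]
    simp

end Cfsg.Agent.Lib.H1.FT
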