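import Cfsg.Agent.Lib.H25.FLAV2
import Cfsg.Agent.Lib.H24.GlaubCyclic5
import Cfsg.Agent.Lib.H24.CharKer
import Cfsg.Agent.Lib.H24.CharSchur

/-!
# S3816 (Flavell's fixed point theorem, `P` of odd prime order): the internal theorem (helper1, twin)

`Γ = N⟨s⟩`, `N ⊴ Γ`, `s` of odd prime order `p`, `(|N|, p) = 1`.  A fixed point of `s` in `[N, s]`
lies in the join `F` of the `C_{[h, s]}(s)`, `h ∈ N`.  Proof of helper24 (board #9132): for an
irreducible character `β` of `C = C_N(s)` trivial on `F`, the Glauberman correspondent `χh` has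
`χh (s · y s y⁻¹) = χh s` for all `y` (coset lemma at `s²` inside `[y⁻¹, s]`), so the class sum
forces `s ∈ ker χh`, hence `[N, s] ≤ ker χh` and `β z = β 1`.
-/

set_option autoImplicit false

universe u

namespace Cfsg.Agent.Lib.H1.Flav1T

open Cfsg Cfsg.Agent.Lib.L0 Cfsg.Agent.Lib.H23 Cfsg.Agent.Lib.H8 Cfsg.Agent.Lib.H24
open Cfsg.Agent.Lib.H24.Glaub

variable {Γ : Type u} [Group Γ]

/-- the subgroup `[h, ⟨s⟩]` -/
def Kh (s h : Γ) : Subgroup Γ :=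
  Subgroup.closure {c : Γ | ∃ i : ℕ, c = h⁻¹ * (s ^ i * h * (s ^ i)⁻¹)}

/-- the join of the `C_{[h, s]}(s)`, `h ∈ N` -/
def Fs (N : Subgroup Γ) (s : Γ) : Subgroup Γ :=
  ⨆ h : N, (Kh s (h : Γ) ⊓ Subgroup.centralizer {s})

theorem gen_mem_Kh (s h : Γ) (i : ℕ) : h⁻¹ * (s ^ i * h * (s ^ i)⁻¹) ∈ Kh s h :=
  Subgroup.subset_closure ⟨i, rfl⟩

/-- `[h, s]` is `s`-invariant -/
theorem conj_mem_Kh (s h : Γ) {k : Γ} (hk : k ∈ Kh s h) : s * k * s⁻¹ ∈ Kh s h := by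
  have hle : Kh s h ≤ (Kh s h).comap (MulAut.conj s).toMonoidHom := by
    unfold Kh
    rw [Subgroup.closure_le]
    rintro c ⟨i, rfl⟩
    show (MulAut.conj s) (h⁻¹ * (s ^ i * h * (s ^ i)⁻¹)) ∈ Kh s h
    rw [MulAut.conj_apply]
    have e : s * (h⁻¹ * (s ^ i * h * (s ^ i)⁻¹)) * s⁻¹ =
        (h⁻¹ * (s ^ 1 * h * (s ^ 1)⁻¹))⁻¹ * (h⁻¹ * (s ^ (i + 1) * h * (s ^ (i + 1))⁻¹)) := by
      rw [pow_succ' s i, pow_one]
      group
    rw [e]
    exact (Kh s h).mul_mem ((Kh s h).inv_mem (gen_mem_Kh s h 1)) (gen_mem_Kh s h (i + 1))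
  have := hle hk
  simpa [MulAut.conj_apply] using this

theorem pow_conj_mem_Kh (s h : Γ) (j : ℕ) {k : Γ} (hk : k ∈ Kh s h) :
    s ^ j * k * (s ^ j)⁻¹ ∈ Kh s h := by
  induction j with
  | zero => simpa using hk
  | succ j ih =>
    have e : s ^ (j + 1) * k * (s ^ (j + 1))⁻¹ = s * (s ^ j * k * (s ^ j)⁻¹) * s⁻¹ := by
      rw [pow_succ']
      group
    rw [e]
    exact conj_mem_Kh s h ih

/-- `[h, s] ≤ N` for `h ∈ N ⊴ Γ` -/
theorem Kh_le (N : Subgroup Γ) [hN : N.Normal] (s : Γ) {h : Γ} (hh : h ∈ N) : Kh s h ≤ N := by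
  unfold Kh
  rw [Subgroup.closure_le]
  rintro c ⟨i, rfl⟩
  exact N.mul_mem (N.inv_mem hh) (hN.conj_mem h hh (s ^ i))

/-- conjugation by an element commuting with `s` moves `[h, s]` to `[c h c⁻¹, s]` -/
theorem conj_Kh_le (s h c : Γ) (hc : c * s = s * c) :
    (Kh s h).map (MulAut.conj c).toMonoidHom ≤ Kh s (c * h * c⁻¹) := by
  unfold Kh
  rw [MonoidHom.map_closure, Subgroup.closure_le]
  rintro _ ⟨d, ⟨i, rfl⟩, rfl⟩
  have hci : Commute c (s ^ i) := (show Commute c s from hc).pow_right i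
  apply Subgroup.subset_closure
  refine ⟨i, ?_⟩
  show c * (h⁻¹ * (s ^ i * h * (s ^ i)⁻¹)) * c⁻¹ = _
  have key : ∀ t' : Γ, t' = c * s ^ i * c⁻¹ → c * (h⁻¹ * (s ^ i * h * (s ^ i)⁻¹)) * c⁻¹ =
      (c * h * c⁻¹)⁻¹ * (t' * (c * h * c⁻¹) * t'⁻¹) := by
    rintro _ rfl
    group
  exact key (s ^ i) (by rw [hci.eq, mul_inv_cancel_right])

/-- `F ≤ C_N(s)` -/
theorem Fs_le (N : Subgroup Γ) [hN : N.Normal] (s : Γ) : Fs N s ≤ fixedSub N s := by
  unfold Fs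
  apply iSup_le
  intro h
  unfold fixedSub
  exact inf_le_inf_right _ (Kh_le N s h.2)

/-- `C_N(s)` normalises `F` -/
theorem conj_mem_Fs (N : Subgroup Γ) [hN : N.Normal] (s : Γ) {c : Γ} (hc : c ∈ fixedSub N s)
    {f : Γ} (hf : f ∈ Fs N s) : c * f * c⁻¹ ∈ Fs N s := by
  rw [mem_fixedSub] at hc
  have hle : (Fs N s).map (MulAut.conj c).toMonoidHom ≤ Fs N s := by
    unfold Fs
    rw [Subgroup.map_iSup]
    apply iSup_le
    intro h
    have hmem : c * (h : Γ) * c⁻¹ ∈ N := hN.conj_mem _ h.2 c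
    refine le_trans ?_ (le_iSup (fun h : N => Kh s (h : Γ) ⊓ Subgroup.centralizer {s})
      ⟨c * (h : Γ) * c⁻¹, hmem⟩)
    rintro _ ⟨d, hd, rfl⟩
    rw [SetLike.mem_coe, Subgroup.mem_inf] at hd
    rw [Subgroup.mem_inf]
    refine ⟨conj_Kh_le s (h : Γ) c hc.2 ⟨d, hd.1, rfl⟩, ?_⟩
    rw [Subgroup.mem_centralizer_singleton_iff] at hd ⊢
    show (MulAut.conj c) d * s = s * (MulAut.conj c) d
    rw [MulAut.conj_apply]
    have h1 : Commute c s := hc.2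
    have h2 : Commute d s := hd.2
    have h3 : Commute (c * d * c⁻¹) s := (h1.mul_left h2).mul_left h1.inv_left
    exact h3.eq
  have h2 : (MulAut.conj c).toMonoidHom f ∈ (Fs N s).map (MulAut.conj c).toMonoidHom :=
    Subgroup.mem_map_of_mem _ hf
  have := hle h2
  simpa [MulAut.conj_apply] using this

/-- the coset step: `s · y s y⁻¹` is conjugate to `c s²` with `c ∈ C_{[y⁻¹, s]}(s) ≤ F` -/
theorem key_conj [Finite Γ] (N : Subgroup Γ) [hN : N.Normal] (s : Γ) {p : ℕ} (hp : p.Prime)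
    (hp2 : p ≠ 2) (hs : orderOf s = p) (hcop : (Nat.card N).Coprime p) {y : Γ} (hy : y ∈ N) :
    ∃ x : Γ, ∃ c ∈ Fs N s, x * (s * (y * s * y⁻¹)) * x⁻¹ = c * s ^ 2 := by
  have hyi : y⁻¹ ∈ N := N.inv_mem hy
  have hK_le : Kh s y⁻¹ ≤ N := Kh_le N s hyi
  obtain ⟨k, hk⟩ : Odd p := hp.eq_two_or_odd'.resolve_left hp2
  have hsp : s ^ p = 1 := by rw [← hs, pow_orderOf_eq_one]
  have hp3 : 2 ≤ p := hp.two_le
  -- `s ^ 2` normalises `K`
  have hnorm : s ^ 2 ∈ Subgroup.normalizer ((Kh s y⁻¹ : Subgroup Γ) : Set Γ) := by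
    rw [Subgroup.mem_normalizer_iff]
    intro h
    constructor
    · intro hh
      exact pow_conj_mem_Kh s y⁻¹ 2 hh
    · intro hh
      have h1 := pow_conj_mem_Kh s y⁻¹ (p - 2) hh
      have h2 : s ^ (p - 2) * s ^ 2 = 1 := by
        rw [← pow_add, show p - 2 + 2 = p by omega, hsp]
      have e : s ^ (p - 2) * (s ^ 2 * h * (s ^ 2)⁻¹) * (s ^ (p - 2))⁻¹ =
          (s ^ (p - 2) * s ^ 2) * h * (s ^ (p - 2) * s ^ 2)⁻¹ := by group
      rw [e, h2] at h1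
      simpa using h1
  have hord : orderOf (s ^ 2) = p := by
    have h1 : (orderOf s).Coprime 2 := by
      rw [hs]
      exact (Nat.coprime_primes hp Nat.prime_two).2 hp2
    rw [h1.orderOf_pow, hs]
  have hcopK : (Nat.card (Kh s y⁻¹)).Coprime (orderOf (s ^ 2)) := by
    rw [hord]
    exact Nat.Coprime.coprime_dvd_left (Subgroup.card_dvd_of_le hK_le) hcop
  -- the element `n`
  have hg1 : y * s * y⁻¹ * s⁻¹ ∈ Kh s y⁻¹ := by
    have h1 := gen_mem_Kh s y⁻¹ 1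
    have e : (y⁻¹)⁻¹ * (s ^ 1 * y⁻¹ * (s ^ 1)⁻¹) = y * s * y⁻¹ * s⁻¹ := by
      rw [inv_inv, pow_one]
      group
    rwa [e] at h1
  have hn : s * (y * s * y⁻¹ * s⁻¹) * s⁻¹ ∈ Kh s y⁻¹ := conj_mem_Kh s y⁻¹ hg1
  have hns : s * (y * s * y⁻¹ * s⁻¹) * s⁻¹ * s ^ 2 = s * (y * s * y⁻¹) := by group
  obtain ⟨x, _, c, hc, hxc⟩ := exists_conj_coset (N := Kh s y⁻¹) (s := s ^ 2) hnorm hcopK hn
  rw [hns] at hxc
  rw [mem_fixedSub] at hc
  have hpow : (s ^ 2) ^ (k + 1) = s := by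
    rw [← pow_mul, show 2 * (k + 1) = p + 1 by omega, pow_succ, hsp, one_mul]
  have hcs : Commute c s := by
    have h1 : Commute c (s ^ 2) := hc.2
    have h2 := h1.pow_right (k + 1)
    rwa [hpow] at h2
  refine ⟨x, c, ?_, hxc⟩
  unfold Fs
  have hmem : c ∈ Kh s ((⟨y⁻¹, hyi⟩ : N) : Γ) ⊓ Subgroup.centralizer {s} := by
    rw [Subgroup.mem_inf, Subgroup.mem_centralizer_singleton_iff]
    exact ⟨hc.1, hcs.eq⟩
  exact Subgroup.mem_iSup_of_mem (⟨y⁻¹, hyi⟩ : N) hmem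

/-- the character step: an irreducible character of `C = C_N(s)` with `F` in its kernel takes the
value `β 1` at every fixed point of `s` in `[N, s]` -/
theorem beta_eq [Fintype Γ] (N : Subgroup Γ) [hN : N.Normal] (s : Γ) {p : ℕ} (hp : p.Prime)
    (hp2 : p ≠ 2) (hs : orderOf s = p) (hcop : (Nat.card N).Coprime p)
    (hgen : ∀ g : Γ, ∃ n ∈ N, ∃ k : ℕ, g = n * s ^ k)
    (β : IrrCharacter (fixedSub N s))
    (hβF : ∀ c : fixedSub N s, (c : Γ) ∈ Fs N s →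
      (β : fixedSub N s → ℂ) c = (β : fixedSub N s → ℂ) 1)
    (z : fixedSub N s)
    (hzW : (z : Γ) ∈ Subgroup.closure
      {c : Γ | ∃ h ∈ N, ∃ i : ℕ, c = h⁻¹ * (s ^ i * h * (s ^ i)⁻¹)}) :
    (β : fixedSub N s → ℂ) z = (β : fixedSub N s → ℂ) 1 := by
  classical
  haveI : Fintype N := Fintype.ofFinite _
  haveI : Fintype (fixedSub N s) := Fintype.ofFinite _
  have hset : CycSetup N s := ⟨hgen, by rw [hs]; exact hcop⟩
  obtain ⟨χh, ε, h1, hirr, h3, hε, hβ⟩ := hset.surjective β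
  have hcf : IsClassFunction Γ χh := isClassFunction_of_isCharacter (isCharacter_of_irr h1)
  have hss : χh s = (ε : ℂ) * (β : fixedSub N s → ℂ) 1 := by
    have := hβ 1
    rwa [Subgroup.coe_one, one_mul] at this
  have h2cop : Nat.Coprime 2 (orderOf s) := by
    rw [hs, Nat.coprime_primes Nat.prime_two hp]
    exact fun h => hp2 h.symm
  -- every term of the class sum equals `χh s`
  have hterm : ∀ g : Γ, χh (g * s * g⁻¹ * s) = χh s := by
    intro g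
    obtain ⟨n, hn, k, rfl⟩ := hgen g
    have e1 : n * s ^ k * s * (n * s ^ k)⁻¹ * s = n * s * n⁻¹ * s := by
      have : s ^ k * s * (s ^ k)⁻¹ = s := by
        rw [← pow_succ, pow_succ', mul_assoc, mul_inv_cancel, mul_one]
      calc n * s ^ k * s * (n * s ^ k)⁻¹ * s
          = n * (s ^ k * s * (s ^ k)⁻¹) * n⁻¹ * s := by group
        _ = n * s * n⁻¹ * s := by rw [this]
    have e2 : χh (n * s * n⁻¹ * s) = χh (s * (n * s * n⁻¹)) := by
      have := hcf (n * s * n⁻¹ * s) s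
      rw [← this]
      congr 1
      group
    obtain ⟨x, c, hcF, hxc⟩ := key_conj N s hp hp2 hs hcop hn
    have hcfix : c ∈ fixedSub N s := Fs_le N s hcF
    have e4 : χh (s * (n * s * n⁻¹)) = χh (c * s ^ 2) := by
      rw [← hxc]
      exact (hcf _ _).symm
    have e5 : χh (c * s ^ 2) = χh (c * s) := hset.canonical_gen h1 hirr h3 h2cop hcfix
    have e6 := hβ ⟨c, hcfix⟩
    rw [e1, e2, e4, e5, e6, hβF ⟨c, hcfix⟩ hcF, hss]
  -- the class sum
  have hsum := irr_sum_conj_mul (⟨χh, h1⟩ : IrrCharacter Γ) s s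
  have hsum' : (Nat.card Γ : ℂ) * χh s = (Nat.card Γ : ℂ) * χh s * χh s / χh 1 := by
    rw [← hsum]
    show _ = ∑ g : Γ, χh (g * s * g⁻¹ * s)
    rw [Finset.sum_congr rfl (fun g _ => hterm g), Finset.sum_const, Finset.card_univ,
      nsmul_eq_mul, Nat.card_eq_fintype_card]
  obtain ⟨d, hd0, hd1, _⟩ := irr_apply_one_dvd_card χh h1
  obtain ⟨d₀, hd₀0, hd₀1, _⟩ := irr_apply_one_dvd_card _ β.2
  have hχ1 : χh 1 ≠ 0 := by
    rw [hd1]
    exact_mod_cast hd0.ne'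
  have hε0 : (ε : ℂ) ≠ 0 := by
    rcases hε with rfl | rfl
    · simp
    · simp
  have hχs : χh s ≠ 0 := by
    rw [hss, hd₀1]
    have h4 : (d₀ : ℂ) ≠ 0 := by exact_mod_cast hd₀0.ne'
    exact mul_ne_zero hε0 h4
  have hcard : (Nat.card Γ : ℂ) ≠ 0 := by
    exact_mod_cast Nat.card_pos.ne'
  have hker1 : χh s = χh 1 := by
    rw [eq_div_iff hχ1] at hsum'
    have h5 : ((Nat.card Γ : ℂ) * χh s) * (χh 1 - χh s) = 0 := by
      linear_combination hsum'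
    rcases mul_eq_zero.mp h5 with h6 | h6
    · exact absurd h6 (mul_ne_zero hcard hχs)
    · exact (sub_eq_zero.mp h6).symm
  have hχc : IsCharacter Γ χh := isCharacter_of_irr h1
  have hker : s ∈ charKer χh hχc := mem_charKer.mpr hker1
  -- `[N, s] ≤ ker χh`
  have hW : Subgroup.closure {c : Γ | ∃ h ∈ N, ∃ i : ℕ, c = h⁻¹ * (s ^ i * h * (s ^ i)⁻¹)} ≤
      charKer χh hχc := by
    rw [Subgroup.closure_le]
    rintro c ⟨h, _, i, rfl⟩
    have hsi : s ^ i ∈ charKer χh hχc := Subgroup.pow_mem _ hker i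
    have hconj : h⁻¹ * s ^ i * h⁻¹⁻¹ ∈ charKer χh hχc :=
      (charKer_normal χh hχc).conj_mem _ hsi _
    have e : h⁻¹ * (s ^ i * h * (s ^ i)⁻¹) = (h⁻¹ * s ^ i * h⁻¹⁻¹) * (s ^ i)⁻¹ := by group
    show h⁻¹ * (s ^ i * h * (s ^ i)⁻¹) ∈ charKer χh hχc
    rw [e]
    exact Subgroup.mul_mem _ hconj (Subgroup.inv_mem _ hsi)
  have hzk : (z : Γ) * s ∈ charKer χh hχc := Subgroup.mul_mem _ (hW hzW) hker
  rw [mem_charKer] at hzk
  have e7 := hβ z
  rw [hzk, ← hker1, hss] at e7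
  exact (mul_left_cancel₀ hε0 e7).symm

/-- `F` is normal in `C_N(s)` -/
instance Fs_subgroupOf_normal (N : Subgroup Γ) [hN : N.Normal] (s : Γ) :
    ((Fs N s).subgroupOf (fixedSub N s)).Normal := by
  constructor
  intro f hf c
  rw [Subgroup.mem_subgroupOf] at hf ⊢
  exact conj_mem_Fs N s c.2 hf

/-- the quotient `C_N(s) / F` -/
abbrev QF (N : Subgroup Γ) [N.Normal] (s : Γ) : Type u :=
  fixedSub N s ⧸ (Fs N s).subgroupOf (fixedSub N s)

/-- **the internal theorem**, in the exact shape of helper25's landed `FlavInternal` -/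
theorem flavInternal : Cfsg.Agent.Lib.H25.FLAV2.FlavInternal.{u} := by
  intro Γ _ _ N hN s p _ hp2 hs hcop hgen z hzW hzs
  classical
  haveI : Fintype Γ := Fintype.ofFinite Γ
  have hp : p.Prime := Fact.out
  have hWN : Subgroup.closure {c : Γ | ∃ h ∈ N, ∃ i : ℕ, c = h⁻¹ * (s ^ i * h * (s ^ i)⁻¹)} ≤ N := by
    rw [Subgroup.closure_le]
    rintro c ⟨h, hh, i, rfl⟩
    exact N.mul_mem (N.inv_mem hh) (hN.conj_mem h hh (s ^ i))
  have hzC : z ∈ fixedSub N s := mem_fixedSub.mpr ⟨hWN hzW, hzs.symm⟩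
  show z ∈ Fs N s
  by_contra hzF
  have hq : (QuotientGroup.mk ⟨z, hzC⟩ : QF N s) ≠ 1 := by
    intro h
    rw [QuotientGroup.eq_one_iff] at h
    exact hzF (Subgroup.mem_subgroupOf.mp h)
  haveI : Fintype (IrrCharacter (QF N s)) := Fintype.ofFinite _
  have hsum := sum_irr_one_mul (QuotientGroup.mk ⟨z, hzC⟩ : QF N s)
  rw [if_neg hq] at hsum
  have hex : ∃ ψ : IrrCharacter (QF N s),
      (ψ : QF N s → ℂ) (QuotientGroup.mk ⟨z, hzC⟩) ≠ (ψ : QF N s → ℂ) 1 := by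
    by_contra hall
    push Not at hall
    have h1 := sum_irr_one_mul (1 : QF N s)
    rw [if_pos rfl] at h1
    have h2 : ∑ ψ : IrrCharacter (QF N s),
        (ψ : QF N s → ℂ) 1 * (ψ : QF N s → ℂ) (QuotientGroup.mk ⟨z, hzC⟩) =
        ∑ ψ : IrrCharacter (QF N s), (ψ : QF N s → ℂ) 1 * (ψ : QF N s → ℂ) 1 :=
      Finset.sum_congr rfl (fun ψ _ => by rw [hall ψ])
    rw [h2, h1] at hsum
    have : (Nat.card (QF N s) : ℂ) ≠ 0 := by
      exact_mod_cast Nat.card_pos.ne'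
    exact this hsum
  obtain ⟨ψ, hψ⟩ := hex
  have hβirr : IsIrrCharacter (fixedSub N s)
      ((ψ : QF N s → ℂ) ∘ (QuotientGroup.mk' ((Fs N s).subgroupOf (fixedSub N s)))) :=
    isIrrCharacter_comp_of_surjective (QuotientGroup.mk' _) (QuotientGroup.mk'_surjective _) ψ.2
  have hβF : ∀ c : fixedSub N s, (c : Γ) ∈ Fs N s →
      ((ψ : QF N s → ℂ) ∘ (QuotientGroup.mk' ((Fs N s).subgroupOf (fixedSub N s)))) c =
      ((ψ : QF N s → ℂ) ∘ (QuotientGroup.mk' ((Fs N s).subgroupOf (fixedSub N s)))) 1 := by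
    intro c hc
    show (ψ : QF N s → ℂ) (QuotientGroup.mk' _ c) = (ψ : QF N s → ℂ) (QuotientGroup.mk' _ 1)
    have h1 : QuotientGroup.mk' ((Fs N s).subgroupOf (fixedSub N s)) c = 1 :=
      (QuotientGroup.eq_one_iff c).mpr (Subgroup.mem_subgroupOf.mpr hc)
    rw [h1, map_one]
  have h := beta_eq N s hp hp2 hs hcop hgen ⟨_, hβirr⟩ hβF ⟨z, hzC⟩ hzW
  apply hψ
  have h' : (ψ : QF N s → ℂ) (QuotientGroup.mk' ((Fs N s).subgroupOf (fixedSub N s)) ⟨z, hzC⟩) =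
      (ψ : QF N s → ℂ) (QuotientGroup.mk' ((Fs N s).subgroupOf (fixedSub N s)) 1) := h
  rw [map_one] at h'
  exact h'

end Cfsg.Agent.Lib.H1.Flav1T
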