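import Mathlib

set_option autoImplicit false
open scoped IsMulCommutative

namespace Cfsg.Agent.Lib.H1

/-- A commutative group (mixin form) is nilpotent. -/
theorem isNilpotent_of_isMulCommutative (G : Type*) [Group G] [IsMulCommutative G] :
    Group.IsNilpotent G :=
  CommGroup.isNilpotent

/-- A commutative group (mixin form) is solvable. -/
theorem isSolvable_of_isMulCommutative (G : Type*) [Group G] [IsMulCommutative G] :
    Group.IsSolvable G :=
  Group.isSolvable_of_comm (fun a b => mul_comm' a b)

end Cfsg.Agent.Lib.H1
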