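import Mathlib
import Cfsg.Agent.Lib.H1.CharSubgroup
import Cfsg.Agent.Lib.H1.CoprimeAction
import Cfsg.Agent.Lib.H1.Misc
import Cfsg.Agent.Lib.H1.NoncyclicAbelian
import Cfsg.Agent.Lib.H9.CoprimeGeneration
import Cfsg.Agent.Lib.H18.FrobAction

/-! Fixed-point-free actions (internal form): coprimality, abelian and `pq` operator groups are
cyclic (helper1). -/

set_option autoImplicit false
open scoped IsMulCommutative

namespace Cfsg.Agent.Lib.H1

variable {G : Type*} [Group G]

/-- conjugation action of a subgroup of the normalizer of `V` on `V`, as a homomorphism -/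
def conjAutHom {A V : Subgroup G} (hAV : A ≤ Subgroup.normalizer (V : Set G)) : A →* MulAut V where
  toFun a := conjEquivOfMemNormalizer (hAV a.2)
  map_one' := by
    ext v
    simp [conjEquivOfMemNormalizer_apply]
  map_mul' a b := by
    ext v
    simp only [MulAut.mul_apply, conjEquivOfMemNormalizer_apply, Subgroup.coe_mul]
    group

theorem conjAutHom_apply {A V : Subgroup G} (hAV : A ≤ Subgroup.normalizer (V : Set G)) (a : A)
    (v : V) : ((conjAutHom hAV a v : V) : G) = (a : G) * v * (a : G)⁻¹ := rfl

/-- an element of `p`-power order normalizing `V` without nontrivial fixed points forces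
`p ∤ |V|` -/
theorem not_dvd_card_of_fpf [Finite G] {V : Subgroup G} {x : G} {p : ℕ} [Fact p.Prime]
    (hxp : x ^ p = 1) (hxV : x ∈ Subgroup.normalizer (V : Set G))
    (hfix : V ⊓ Subgroup.centralizer {x} = ⊥) : ¬ p ∣ Nat.card V := by
  intro hdvd
  set S := Subgroup.zpowers x with hS
  have hSV : S ≤ Subgroup.normalizer (V : Set G) := by
    rw [hS, Subgroup.zpowers_le]; exact hxV
  have hSp : IsPGroup p S := by
    intro s
    refine ⟨1, ?_⟩
    obtain ⟨k, hk⟩ := Subgroup.mem_zpowers_iff.mp s.2
    apply Subtype.ext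
    rw [pow_one, Subgroup.coe_pow, ← hk, Subgroup.coe_one, ← zpow_natCast, ← zpow_mul, mul_comm,
      zpow_mul, zpow_natCast, hxp, one_zpow]
  letI : MulAction S V := MulAction.compHom V (conjAutHom hSV)
  have h1 : (1 : V) ∈ MulAction.fixedPoints S V := by
    intro s
    show conjAutHom hSV s 1 = 1
    exact map_one _
  obtain ⟨b, hb, hb1⟩ := hSp.exists_fixed_point_of_prime_dvd_card_of_fixed_point V hdvd h1
  apply hb1
  have hbx := hb ⟨x, Subgroup.mem_zpowers x⟩
  have hbx' : conjAutHom hSV ⟨x, Subgroup.mem_zpowers x⟩ b = b := hbx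
  have h2 := congrArg Subtype.val hbx'
  rw [conjAutHom_apply] at h2
  simp only at h2
  have h3 : (b : G) ∈ V ⊓ Subgroup.centralizer {x} := by
    refine ⟨b.2, ?_⟩
    show (b : G) ∈ Subgroup.centralizer {x}
    rw [Subgroup.mem_centralizer_iff]
    intro y hy
    rw [Set.mem_singleton_iff] at hy
    subst hy
    calc y * (b : G) = (y * b * y⁻¹) * y := by group
      _ = b * y := by rw [h2]
  rw [hfix, Subgroup.mem_bot] at h3
  exact (Subtype.ext h3).symm

/-- a fixed-point-free action is coprime -/
theorem coprime_of_fpf [Finite G] {A V : Subgroup G} (hAV : A ≤ Subgroup.normalizer (V : Set G))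
    (hfpf : ∀ a ∈ A, a ≠ 1 → V ⊓ Subgroup.centralizer {a} = ⊥) :
    (Nat.card A).Coprime (Nat.card V) := by
  apply Nat.coprime_of_dvd
  intro p hp hpA hpV
  haveI : Fact p.Prime := ⟨hp⟩
  obtain ⟨a, ha⟩ := exists_prime_orderOf_dvd_card' p hpA
  have ha1 : (a : G) ≠ 1 := by
    intro h
    have : a = 1 := Subtype.ext h
    rw [this, orderOf_one] at ha
    exact hp.one_lt.ne ha
  have hap : (a : G) ^ p = 1 := by
    have := pow_orderOf_eq_one a
    rw [ha] at this
    have h' := congrArg Subtype.val this
    simpa using h'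
  exact not_dvd_card_of_fpf hap (hAV a.2) (hfpf a a.2 ha1) hpV

/-- an abelian group acting without fixed points on a nontrivial abelian group is cyclic -/
theorem isCyclic_of_fpf_of_comm [Finite G] {A V : Subgroup G} [IsMulCommutative V]
    [IsMulCommutative A] (hV : V ≠ ⊥) (hAV : A ≤ Subgroup.normalizer (V : Set G))
    (hfpf : ∀ a ∈ A, a ≠ 1 → V ⊓ Subgroup.centralizer {a} = ⊥) : IsCyclic A := by
  by_contra hA
  have hcop := coprime_of_fpf hAV hfpf
  have hca : CoprimeAction A V := ⟨hAV, hcop, Or.inl (isSolvable_of_isMulCommutative A)⟩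
  obtain ⟨p, hp, x', y', hx'p, hy'p, hx'1, hxy'⟩ := exists_independent_of_not_isCyclic hA
  haveI : Fact p.Prime := ⟨hp⟩
  have hxp : (x' : G) ^ p = 1 := by
    have := congrArg Subtype.val hx'p
    simpa using this
  have hyp : (y' : G) ^ p = 1 := by
    have := congrArg Subtype.val hy'p
    simpa using this
  have hx1 : (x' : G) ≠ 1 := fun h => hx'1 (Subtype.ext h)
  have hxy : (x' : G) * (y' : G) = (y' : G) * (x' : G) := congrArg Subtype.val (mul_comm' x' y')
  have hpA : p ∣ Nat.card A := by
    have h1 : orderOf x' = p := orderOf_eq_prime hx'p hx'1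
    rw [← h1]
    exact orderOf_dvd_natCard x'
  have hKp : (Nat.card V).Coprime p := (Nat.Coprime.coprime_dvd_left hpA hcop).symm
  apply hV
  rw [eq_bot_iff]
  apply Lib.H9.le_of_centralizers_le (p := p) hca hKp x'.2 y'.2 hxy hxp hyp
  · exact (hfpf _ x'.2 hx1).le
  · intro i
    refine (hfpf _ (A.mul_mem (A.pow_mem x'.2 i) y'.2) ?_).le
    intro h
    apply hxy' i
    apply Subtype.ext
    simpa using h

theorem eq_one_of_conjAutHom_fixed {A V : Subgroup G} (hAV : A ≤ Subgroup.normalizer (V : Set G))
    (hfpf : ∀ a ∈ A, a ≠ 1 → V ⊓ Subgroup.centralizer {a} = ⊥) {a : A} (ha : a ≠ 1) {v : V}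
    (h : conjAutHom hAV a v = v) : v = 1 := by
  have ha1 : (a : G) ≠ 1 := fun h' => ha (Subtype.ext h')
  have h2 := congrArg Subtype.val h
  rw [conjAutHom_apply] at h2
  have h3 : (v : G) ∈ V ⊓ Subgroup.centralizer {(a : G)} := by
    refine ⟨v.2, ?_⟩
    show (v : G) ∈ Subgroup.centralizer {(a : G)}
    rw [Subgroup.mem_centralizer_iff]
    intro y hy
    rw [Set.mem_singleton_iff] at hy
    subst hy
    calc (a : G) * (v : G) = ((a : G) * v * (a : G)⁻¹) * a := by group
      _ = v * a := by rw [h2]
  rw [hfpf a a.2 ha1, Subgroup.mem_bot] at h3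
  exact Subtype.ext h3

/-- two elements of a group generating the same cyclic subgroup of prime order: an element
commuting with a nontrivial power commutes with the element -/
theorem zpowers_eq_of_prime_order {H : Type*} [Group H] {x c : H} {p : ℕ} (hp : p.Prime)
    (hx : orderOf x = p) (hc : c ∈ Subgroup.zpowers x) (hc1 : c ≠ 1) :
    Subgroup.zpowers c = Subgroup.zpowers x := by
  have hle : Subgroup.zpowers c ≤ Subgroup.zpowers x := Subgroup.zpowers_le.mpr hc
  have hfin : Finite (Subgroup.zpowers x) := by
    apply Nat.finite_of_card_ne_zero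
    rw [Nat.card_zpowers, hx]
    exact hp.pos.ne'
  apply Subgroup.eq_of_le_of_card_ge hle
  rw [Nat.card_zpowers, Nat.card_zpowers, hx]
  have h1 : orderOf c ∣ p := by
    rw [← hx]
    have := Subgroup.card_dvd_of_le hle
    rwa [Nat.card_zpowers, Nat.card_zpowers] at this
  rcases (Nat.dvd_prime hp).mp h1 with h | h
  · exact absurd (orderOf_eq_one_iff.mp h) hc1
  · exact h.ge

/-- a group of order `pq` acting without fixed points on a nontrivial abelian group is cyclic -/
theorem isCyclic_of_fpf_of_card_pq [Finite G] {A V : Subgroup G} [IsMulCommutative V]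
    (hV : V ≠ ⊥) (hAV : A ≤ Subgroup.normalizer (V : Set G))
    (hfpf : ∀ a ∈ A, a ≠ 1 → V ⊓ Subgroup.centralizer {a} = ⊥)
    {p q : ℕ} (hp : p.Prime) (hq : q.Prime) (hcard : Nat.card A = p * q) : IsCyclic A := by
  classical
  by_cases hpq : p = q
  · subst hpq
    haveI : Fact p.Prime := ⟨hp⟩
    haveI : IsMulCommutative A := IsPGroup.isMulCommutative_of_card_eq_prime_sq (by rw [hcard, sq])
    exact isCyclic_of_fpf_of_comm hV hAV hfpf
  · wlog hlt : p < q generalizing p q
    · exact this hq hp (by rw [hcard, mul_comm]) (Ne.symm hpq)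
        (lt_of_le_of_ne (not_lt.mp hlt) (Ne.symm hpq))
    haveI : Fact p.Prime := ⟨hp⟩
    haveI : Fact q.Prime := ⟨hq⟩
    have hcop := coprime_of_fpf hAV hfpf
    obtain ⟨b, hb⟩ := exists_prime_orderOf_dvd_card' (G := A) q (hcard ▸ dvd_mul_left q p)
    obtain ⟨x, hx⟩ := exists_prime_orderOf_dvd_card' (G := A) p (hcard ▸ dvd_mul_right p q)
    have hb1 : b ≠ 1 := by
      intro h; rw [h, orderOf_one] at hb; exact hq.one_lt.ne hb
    have hx1 : x ≠ 1 := by
      intro h; rw [h, orderOf_one] at hx; exact hp.one_lt.ne hx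
    set Q : Subgroup A := Subgroup.zpowers b with hQ
    have hQcard : Nat.card Q = q := by rw [hQ, Nat.card_zpowers, hb]
    have hQidx : Q.index = p := by
      have h1 := Q.card_mul_index
      rw [hQcard, hcard, mul_comm p q] at h1
      exact Nat.eq_of_mul_eq_mul_left hq.pos h1
    have hminFac : (Nat.card A).minFac = p := by
      have hne1 : Nat.card A ≠ 1 := by
        rw [hcard]
        have := hp.two_le
        have := hq.two_le
        nlinarith
      have hmp : (Nat.card A).minFac.Prime := Nat.minFac_prime hne1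
      have hle : (Nat.card A).minFac ≤ p :=
        Nat.minFac_le_of_dvd hp.two_le (hcard ▸ dvd_mul_right p q)
      have hdvd : (Nat.card A).minFac ∣ p * q := hcard ▸ Nat.minFac_dvd _
      rcases (Nat.Prime.dvd_mul hmp).mp hdvd with h | h
      · exact (Nat.prime_dvd_prime_iff_eq hmp hp).mp h
      · have := (Nat.prime_dvd_prime_iff_eq hmp hq).mp h
        omega
    haveI hQn : Q.Normal := Subgroup.normal_of_index_eq_minFac_card (hQidx.trans hminFac.symm)
    by_cases hcomm : x * b = b * x
    · have hord : orderOf (x * b) = p * q := by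
        have hc : Commute x b := hcomm
        rw [hc.orderOf_mul_eq_mul_orderOf_of_coprime, hx, hb]
        rw [hx, hb]
        exact (Nat.coprime_primes hp hq).mpr hpq
      exact isCyclic_of_orderOf_eq_card (x * b) (hord.trans hcard.symm)
    · exfalso
      have hxp : x ^ p = 1 := by rw [← hx]; exact pow_orderOf_eq_one x
      have key := Lib.H18.frob_action_lemma (conjAutHom hAV) Q x p hp.pos hxp
        (fun c hc => hQn.conj_mem c hc x)
        (by
          intro i hi0 hip c hc hcomm'
          by_contra hc1
          have hxi1 : x ^ i ≠ 1 := by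
            intro h
            have := orderOf_dvd_of_pow_eq_one h
            rw [hx] at this
            exact absurd (Nat.le_of_dvd hi0 this) (not_le.mpr hip)
          have hzc : Subgroup.zpowers c = Subgroup.zpowers b :=
            zpowers_eq_of_prime_order hq hb hc hc1
          have hzx : Subgroup.zpowers (x ^ i) = Subgroup.zpowers x :=
            zpowers_eq_of_prime_order hp hx (Subgroup.pow_mem _ (Subgroup.mem_zpowers x) i) hxi1
          -- x ^ i commutes with c, hence with b, hence x commutes with b
          have h1 : c ∈ Subgroup.centralizer {x ^ i} := by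
            rw [Subgroup.mem_centralizer_iff]
            intro y hy
            rw [Set.mem_singleton_iff] at hy
            subst hy
            exact hcomm'
          have h2 : b ∈ Subgroup.centralizer {x ^ i} := by
            have : Subgroup.zpowers c ≤ Subgroup.centralizer {x ^ i} := Subgroup.zpowers_le.mpr h1
            rw [hzc] at this
            exact this (Subgroup.mem_zpowers b)
          have h3 : x ^ i ∈ Subgroup.centralizer {b} := by
            rw [Subgroup.mem_centralizer_iff]
            intro y hy
            rw [Set.mem_singleton_iff] at hy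
            subst hy
            have := (Subgroup.mem_centralizer_iff.mp h2) (x ^ i) rfl
            exact this.symm
          have h4 : x ∈ Subgroup.centralizer {b} := by
            have : Subgroup.zpowers (x ^ i) ≤ Subgroup.centralizer {b} := Subgroup.zpowers_le.mpr h3
            rw [hzx] at this
            exact this (Subgroup.mem_zpowers x)
          have h5 := (Subgroup.mem_centralizer_iff.mp h4) b rfl
          exact hcomm h5.symm)
        (fun v hv => eq_one_of_conjAutHom_fixed hAV hfpf hb1 (hv b (Subgroup.mem_zpowers b)))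
        (fun v hv => eq_one_of_conjAutHom_fixed hAV hfpf hx1 hv)
      rw [hQcard] at key
      apply hV
      rw [eq_bot_iff]
      intro v hv
      have h1 := key ⟨v, hv⟩
      have h2 : orderOf (⟨v, hv⟩ : V) ∣ q := orderOf_dvd_of_pow_eq_one h1
      have h3 : orderOf (⟨v, hv⟩ : V) ∣ Nat.card V := orderOf_dvd_natCard _
      have hqA : q ∣ Nat.card A := hcard ▸ dvd_mul_left q p
      have h4 : (q).Coprime (Nat.card V) := Nat.Coprime.coprime_dvd_left hqA hcop
      have h5 : orderOf (⟨v, hv⟩ : V) = 1 := Nat.eq_one_of_dvd_coprimes h4 h2 h3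
      have h6 := orderOf_eq_one_iff.mp h5
      exact Subgroup.mem_bot.mpr (congrArg Subtype.val h6)

end Cfsg.Agent.Lib.H1
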