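import Mathlib

/-!
# Fixed-point-free automorphisms: invariant subgroups, quotients, invariant Sylow subgroups
(helper1)
-/

set_option autoImplicit false

namespace Cfsg.Agent.Lib.H1

variable {G : Type*} [Group G]

/-- `φ` is fixed-point-free -/
def Fpf (φ : G ≃* G) : Prop := ∀ g, φ g = g → g = 1

theorem Fpf.toMonoidHom {φ : G ≃* G} (h : Fpf φ) : MonoidHom.FixedPointFree (φ : G →* G) := h

/-- `M` is `φ`-invariant -/
def InvSub (φ : G ≃* G) (M : Subgroup G) : Prop := M.map φ.toMonoidHom = M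

theorem InvSub.apply_mem {φ : G ≃* G} {M : Subgroup G} (h : InvSub φ M) {x : G} (hx : x ∈ M) :
    φ x ∈ M := by
  have : φ x ∈ M.map φ.toMonoidHom := Subgroup.mem_map_of_mem _ hx
  rwa [h] at this

theorem InvSub.symm_apply_mem {φ : G ≃* G} {M : Subgroup G} (h : InvSub φ M) {x : G}
    (hx : x ∈ M) : φ.symm x ∈ M := by
  rw [← h] at hx
  obtain ⟨y, hy, rfl⟩ := hx
  simpa using hy

theorem invSub_of_le [Finite G] {φ : G ≃* G} {M : Subgroup G} (h : M.map φ.toMonoidHom ≤ M) :
    InvSub φ M := by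
  apply Subgroup.eq_of_le_of_card_ge h
  rw [Subgroup.card_map_of_injective φ.injective]

theorem invSub_of_forall_mem [Finite G] {φ : G ≃* G} {M : Subgroup G} (h : ∀ x ∈ M, φ x ∈ M) :
    InvSub φ M := by
  apply invSub_of_le
  rintro _ ⟨x, hx, rfl⟩
  exact h x hx

theorem invSub_top (φ : G ≃* G) : InvSub φ ⊤ := by
  unfold InvSub
  rw [← MonoidHom.range_eq_map, MonoidHom.range_eq_top]
  exact φ.surjective

theorem invSub_bot (φ : G ≃* G) : InvSub φ ⊥ := by
  unfold InvSub
  exact Subgroup.map_bot _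

theorem InvSub.inf {φ : G ≃* G} {M N : Subgroup G} (hM : InvSub φ M) (hN : InvSub φ N) :
    InvSub φ (M ⊓ N) := by
  unfold InvSub at *
  rw [Subgroup.map_inf _ _ _ φ.injective, hM, hN]

theorem InvSub.sup {φ : G ≃* G} {M N : Subgroup G} (hM : InvSub φ M) (hN : InvSub φ N) :
    InvSub φ (M ⊔ N) := by
  unfold InvSub at *
  rw [Subgroup.map_sup, hM, hN]

theorem InvSub.normalizer {φ : G ≃* G} {M : Subgroup G} (hM : InvSub φ M) :
    InvSub φ (Subgroup.normalizer (M : Set G)) := by
  unfold InvSub at *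
  rw [Subgroup.map_equiv_normalizer_eq, hM]

theorem InvSub.centralizer {φ : G ≃* G} {M : Subgroup G} (hM : InvSub φ M) :
    InvSub φ (Subgroup.centralizer (M : Set G)) := by
  unfold InvSub
  apply le_antisymm
  · rintro _ ⟨x, hx, rfl⟩
    rw [SetLike.mem_coe, Subgroup.mem_centralizer_iff] at hx
    rw [Subgroup.mem_centralizer_iff]
    intro m hm
    have h1 := hx _ (hM.symm_apply_mem hm)
    have h2 := congrArg φ h1
    simpa using h2
  · intro x hx
    have hmem : φ.symm x ∈ Subgroup.centralizer (M : Set G) := by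
      rw [Subgroup.mem_centralizer_iff] at hx ⊢
      intro m hm
      have h1 := hx _ (hM.apply_mem hm)
      apply φ.injective
      simpa using h1
    exact ⟨φ.symm x, hmem, by simp⟩

/-- restriction of an automorphism to an invariant subgroup -/
def restrictAut (φ : G ≃* G) (M : Subgroup G) (hM : InvSub φ M) : M ≃* M where
  toFun x := ⟨φ x, hM.apply_mem x.2⟩
  invFun x := ⟨φ.symm x, hM.symm_apply_mem x.2⟩
  left_inv x := by simp
  right_inv x := by simp
  map_mul' x y := by
    apply Subtype.ext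
    simp

@[simp] theorem restrictAut_apply (φ : G ≃* G) (M : Subgroup G) (hM : InvSub φ M) (x : M) :
    ((restrictAut φ M hM x : M) : G) = φ x := rfl

theorem restrictAut_pow_apply (φ : G ≃* G) (M : Subgroup G) (hM : InvSub φ M) (k : ℕ) (x : M) :
    (((restrictAut φ M hM) ^ k) x : G) = (φ ^ k) x := by
  induction k generalizing x with
  | zero => simp
  | succ k ih =>
    rw [pow_succ, pow_succ, MulAut.mul_apply, MulAut.mul_apply, ih, restrictAut_apply]

theorem Fpf.restrict {φ : G ≃* G} (h : Fpf φ) (M : Subgroup G) (hM : InvSub φ M) :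
    Fpf (restrictAut φ M hM) := by
  intro x hx
  apply Subtype.ext
  apply h
  exact congrArg Subtype.val hx

theorem restrictAut_pow_eq_one {φ : G ≃* G} {n : ℕ} (h : φ ^ n = 1) (M : Subgroup G)
    (hM : InvSub φ M) : (restrictAut φ M hM) ^ n = 1 := by
  ext x
  rw [restrictAut_pow_apply, h]
  rfl

/-- the induced automorphism on the quotient by an invariant normal subgroup -/
def quotAut (φ : G ≃* G) (N : Subgroup G) [N.Normal] (hN : InvSub φ N) : G ⧸ N ≃* G ⧸ N :=
  QuotientGroup.congr N N φ hN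

@[simp] theorem quotAut_mk (φ : G ≃* G) (N : Subgroup G) [N.Normal] (hN : InvSub φ N) (x : G) :
    quotAut φ N hN (QuotientGroup.mk x) = QuotientGroup.mk (φ x) := rfl

theorem quotAut_pow_mk (φ : G ≃* G) (N : Subgroup G) [N.Normal] (hN : InvSub φ N) (k : ℕ)
    (x : G) : ((quotAut φ N hN) ^ k) (QuotientGroup.mk x) = QuotientGroup.mk ((φ ^ k) x) := by
  induction k generalizing x with
  | zero => simp
  | succ k ih =>
    rw [pow_succ, pow_succ, MulAut.mul_apply, MulAut.mul_apply, quotAut_mk, ih]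

theorem quotAut_pow_eq_one {φ : G ≃* G} {n : ℕ} (h : φ ^ n = 1) (N : Subgroup G) [N.Normal]
    (hN : InvSub φ N) : (quotAut φ N hN) ^ n = 1 := by
  ext q
  obtain ⟨x, rfl⟩ := QuotientGroup.mk_surjective q
  rw [quotAut_pow_mk, h]
  rfl

/-- a fixed-point-free automorphism of a finite group induces a fixed-point-free automorphism on
the quotient by an invariant normal subgroup -/
theorem Fpf.quot [Finite G] {φ : G ≃* G} (h : Fpf φ) (N : Subgroup G) [N.Normal]
    (hN : InvSub φ N) : Fpf (quotAut φ N hN) := by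
  intro q hq
  obtain ⟨g, rfl⟩ := QuotientGroup.mk_surjective q
  rw [quotAut_mk, QuotientGroup.eq] at hq
  -- hq : (φ g)⁻¹ * g ∈ N
  rw [QuotientGroup.eq_one_iff]
  have hr := (h.restrict N hN)
  have hsurj := MonoidHom.FixedPointFree.commutatorMap_surjective
    (φ := (restrictAut φ N hN)) hr
  -- commutatorMap φ g⁻¹ = g⁻¹ * φ g
  have hmem : g⁻¹ / φ g⁻¹ ∈ N := by
    rw [map_inv, div_inv_eq_mul]
    have := N.inv_mem hq
    simpa using this
  obtain ⟨n, hn⟩ := hsurj ⟨g⁻¹ / φ g⁻¹, hmem⟩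
  have hn' : (n : G) / φ n = g⁻¹ / φ g⁻¹ := by
    have := congrArg Subtype.val hn
    simpa using this
  have hinj := MonoidHom.FixedPointFree.commutatorMap_injective (φ := φ) h
  have : (n : G) = g⁻¹ := hinj hn'
  have h2 : g⁻¹ ∈ N := this ▸ n.2
  simpa using N.inv_mem h2

theorem sylow_smul_coe_eq_map {p : ℕ} (P : Sylow p G) (g : G) :
    ((g • P : Sylow p G) : Subgroup G) = (P : Subgroup G).map (MulAut.conj g).toMonoidHom := by
  rw [Sylow.coe_subgroup_smul]
  ext x
  rw [Subgroup.mem_pointwise_smul_iff_inv_smul_mem, Subgroup.mem_map]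
  constructor
  · intro hx
    refine ⟨_, hx, ?_⟩
    show (MulAut.conj g) ((MulAut.conj g)⁻¹ • x) = x
    rw [MulAut.smul_def, MulAut.apply_inv_self]
  · rintro ⟨y, hy, rfl⟩
    show (MulAut.conj g)⁻¹ • ((MulAut.conj g) y) ∈ P
    rw [MulAut.smul_def, MulAut.inv_apply_self]
    exact hy

/-- a fixed-point-free automorphism of a finite group leaves some Sylow `r`-subgroup invariant -/
theorem Fpf.exists_invariant_sylow [Finite G] {φ : G ≃* G} (h : Fpf φ) (r : ℕ) [Fact r.Prime] :
    ∃ P : Sylow r G, InvSub φ (P : Subgroup G) := by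
  obtain ⟨P₀⟩ : Nonempty (Sylow r G) := inferInstance
  have hsurj : Function.Surjective φ.toMonoidHom := φ.surjective
  obtain ⟨g, hg⟩ := MulAction.exists_smul_eq G P₀ (P₀.mapSurjective hsurj)
  have hg' : (P₀ : Subgroup G).map (MulAut.conj g).toMonoidHom =
      (P₀ : Subgroup G).map φ.toMonoidHom := by
    rw [← sylow_smul_coe_eq_map, hg]; rfl
  obtain ⟨k, hk⟩ := MonoidHom.FixedPointFree.commutatorMap_surjective (φ := φ) h g⁻¹
  rw [MonoidHom.commutatorMap_apply] at hk
  refine ⟨k⁻¹ • P₀, ?_⟩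
  unfold InvSub
  rw [sylow_smul_coe_eq_map, Subgroup.map_map]
  have hcomp : φ.toMonoidHom.comp (MulAut.conj k⁻¹).toMonoidHom =
      (MulAut.conj (φ k⁻¹)).toMonoidHom.comp φ.toMonoidHom := by
    ext x
    simp
  rw [hcomp, ← Subgroup.map_map, ← hg', Subgroup.map_map]
  have hcomp2 : (MulAut.conj (φ k⁻¹)).toMonoidHom.comp (MulAut.conj g).toMonoidHom =
      (MulAut.conj k⁻¹).toMonoidHom := by
    have hkg : φ k⁻¹ * g = k⁻¹ := by
      have : g = φ k * k⁻¹ := by
        have h1 : g⁻¹ = k / φ k := hk.symm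
        rw [inv_eq_iff_eq_inv] at h1
        rw [h1, div_eq_mul_inv, mul_inv_rev, inv_inv]
      rw [this, map_inv]; group
    ext x
    simp only [MonoidHom.coe_comp, MulEquiv.coe_toMonoidHom, Function.comp_apply, MulAut.conj_apply]
    have e : φ k⁻¹ * (g * x * g⁻¹) * (φ k⁻¹)⁻¹ = (φ k⁻¹ * g) * x * (φ k⁻¹ * g)⁻¹ := by group
    rw [e, hkg]
  rw [hcomp2]

end Cfsg.Agent.Lib.H1
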