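import Cfsg.Agent.Lib.H1.FpfBasic
import Cfsg.Agent.Lib.H1.CoprimeAbelian

/-!
# The trace argument for fixed-point-free automorphisms of prime order (helper1)

If `φ` is fixed-point-free of prime order `p` on `G`, `N` is an abelian `φ`-invariant normal
subgroup and `S` a `φ`-invariant subgroup with `C_N(S) = 1`, then `v ^ |S| = 1` for all `v ∈ N`.
-/

set_option autoImplicit false
open scoped IsMulCommutative

namespace Cfsg.Agent.Lib.H1

variable {G : Type*} [Group G]

theorem mulAut_pow_apply_eq_iterate (φ : G ≃* G) (k : ℕ) (g : G) : (φ ^ k) g = (⇑φ)^[k] g := by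
  induction k generalizing g with
  | zero => rfl
  | succ k ih => rw [pow_succ, MulAut.mul_apply, ih, Function.iterate_succ_apply]

theorem list_prod_range_eq_finset_prod {M : Type*} [CommMonoid M] (f : ℕ → M) (n : ℕ) :
    ((List.range n).map f).prod = ∏ k ∈ Finset.range n, f k := by
  induction n with
  | zero => simp
  | succ n ih =>
    rw [List.range_succ, List.map_append, List.prod_append, ih, Finset.prod_range_succ]
    simp

section

variable [Finite G] {A V : Subgroup G} [IsMulCommutative V]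

/-- the trace of `v` is fixed by `A` -/
theorem traceMap_mem_centralizer (hAV : A ≤ Subgroup.normalizer (V : Set G)) (v : V) :
    ((traceMap hAV v : V) : G) ∈ Subgroup.centralizer (A : Set G) := by
  let _ := Fintype.ofFinite A
  rw [Subgroup.mem_centralizer_iff]
  intro b hb
  have h1 : conjHomOfNormalizer hAV ⟨b, hb⟩ (traceMap hAV v) = traceMap hAV v := by
    rw [traceMap_apply, map_prod]
    simp only [conjHomOfNormalizer_mul]
    exact Fintype.prod_equiv (Equiv.mulLeft (⟨b, hb⟩ : A)) _ _ (fun a => rfl)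
  have h2 := congrArg Subtype.val h1
  rw [conjHomOfNormalizer_apply] at h2
  calc b * ((traceMap hAV v : V) : G)
      = (b * ((traceMap hAV v : V) : G) * b⁻¹) * b := by group
    _ = ((traceMap hAV v : V) : G) * b := by rw [h2]

end

/-- **Trace argument.** -/
theorem fpf_trace [Finite G] {φ : G ≃* G} (hφ : Fpf φ) {p : ℕ} (hp : p.Prime) (hφp : φ ^ p = 1)
    (hpow : ∀ k, 0 < k → k < p → Fpf (φ ^ k))
    {N S : Subgroup G} [hNn : N.Normal] (hNc : ∀ a ∈ N, ∀ b ∈ N, a * b = b * a)
    (hN : InvSub φ N) (hS : InvSub φ S)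
    (hD : N ⊓ Subgroup.centralizer (S : Set G) = ⊥) : ∀ v ∈ N, v ^ Nat.card S = 1 := by
  haveI : IsMulCommutative N := ⟨⟨fun a b => Subtype.ext (hNc a a.2 b b.2)⟩⟩
  let _ := Fintype.ofFinite S
  have hSN : S ≤ Subgroup.normalizer (N : Set G) := by
    rw [Subgroup.normalizer_eq_top_iff.mpr hNn]; exact le_top
  have hiter : (⇑φ)^[p] = id := by
    funext g
    rw [← mulAut_pow_apply_eq_iterate, hφp]; rfl
  have hNpow : ∀ k : ℕ, InvSub (φ ^ k) N := by
    intro k
    apply invSub_of_forall_mem
    intro x hx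
    induction k with
    | zero => simpa using hx
    | succ k ih => rw [pow_succ', MulAut.mul_apply]; exact hN.apply_mem ih
  have hSpow : ∀ k : ℕ, InvSub (φ ^ k) S := by
    intro k
    apply invSub_of_forall_mem
    intro x hx
    induction k with
    | zero => simpa using hx
    | succ k ih => rw [pow_succ', MulAut.mul_apply]; exact hS.apply_mem ih
  intro v hv
  -- the terms
  have hterm : ∀ (y : S) (k : ℕ),
      ((y : G)⁻¹ * (φ ^ k) (y : G)) * (φ ^ k) v * ((y : G)⁻¹ * (φ ^ k) (y : G))⁻¹ ∈ N := by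
    intro y k
    exact hNn.conj_mem _ ((hNpow k).apply_mem hv) _
  obtain ⟨τ, hτ⟩ : ∃ τ : S → ℕ → N, ∀ y k, τ y k = ⟨_, hterm y k⟩ := ⟨fun y k => ⟨_, hterm y k⟩, fun _ _ => rfl⟩
  -- for each y the product over k is 1
  have h1 : ∀ y : S, ∏ k ∈ Finset.range p, τ y k = 1 := by
    intro y
    have hyv : (y : G) * v * (y : G)⁻¹ ∈ N := hNn.conj_mem v hv y
    have h0 := MonoidHom.FixedPointFree.prod_pow_eq_one (φ := φ) hφ hiter ((y : G) * v * (y : G)⁻¹)
    have hterm' : ∀ k : ℕ, ((τ y k : N) : G) =
        MulAut.conj (y : G)⁻¹ ((⇑φ)^[k] ((y : G) * v * (y : G)⁻¹)) := by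
      intro k
      rw [hτ, ← mulAut_pow_apply_eq_iterate, MulAut.conj_apply, map_mul, map_mul, map_inv]
      group
    apply Subtype.ext
    rw [← list_prod_range_eq_finset_prod, Subgroup.val_list_prod, List.map_map]
    have h2 : (List.map (Subtype.val ∘ fun k => τ y k) (List.range p)) =
        List.map (MulAut.conj (y : G)⁻¹)
          (List.map (fun k => (⇑φ)^[k] ((y : G) * v * (y : G)⁻¹)) (List.range p)) := by
      rw [List.map_map]
      apply List.map_congr_left
      intro k _
      exact hterm' k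
    rw [h2, ← map_list_prod, h0, map_one]
    rfl
  -- product over all y, exchange the order
  have h2 : ∏ k ∈ Finset.range p, ∏ y : S, τ y k = 1 := by
    rw [Finset.prod_comm]
    exact Finset.prod_eq_one (fun y _ => h1 y)
  obtain ⟨n, rfl⟩ : ∃ n, p = n + 1 := ⟨p - 1, by have := hp.pos; omega⟩
  rw [Finset.prod_range_succ'] at h2
  -- the terms with k ≥ 1 are traces
  have h3 : ∀ k ∈ Finset.range n, ∏ y : S, τ y (k + 1) = 1 := by
    intro k hk
    rw [Finset.mem_range] at hk
    have hfp : Fpf (φ ^ (k + 1)) := hpow (k + 1) (Nat.succ_pos k) (by omega)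
    have hfpS := hfp.restrict S (hSpow (k + 1))
    have hbij : Function.Bijective (fun y : S => y⁻¹ * (restrictAut (φ ^ (k + 1)) S (hSpow (k + 1))) y) := by
      have hinj := MonoidHom.FixedPointFree.commutatorMap_injective
        (φ := restrictAut (φ ^ (k + 1)) S (hSpow (k + 1))) hfpS
      have : Function.Injective (fun y : S => y⁻¹ * (restrictAut (φ ^ (k + 1)) S (hSpow (k + 1))) y) := by
        intro a b hab
        have : a⁻¹ = b⁻¹ := by
          apply hinj
          simp only [MonoidHom.commutatorMap_apply, map_inv, div_inv_eq_mul]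
          exact hab
        exact inv_injective this
      exact ⟨this, Finite.surjective_of_injective this⟩
    have hw : (φ ^ (k + 1)) v ∈ N := (hNpow (k + 1)).apply_mem hv
    have h4 : ∀ y : S, τ y (k + 1) = conjHomOfNormalizer hSN
        (y⁻¹ * (restrictAut (φ ^ (k + 1)) S (hSpow (k + 1))) y) ⟨_, hw⟩ := by
      intro y
      apply Subtype.ext
      rw [hτ, conjHomOfNormalizer_apply]
      simp
    have h5 : ∏ y : S, τ y (k + 1) = traceMap hSN ⟨_, hw⟩ := by
      rw [traceMap_apply]
      simp only [h4]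
      exact Fintype.prod_bijective _ hbij _ _ (fun y => rfl)
    rw [h5]
    have h6 := traceMap_mem_centralizer hSN (⟨_, hw⟩ : N)
    have h7 : ((traceMap hSN (⟨_, hw⟩ : N) : N) : G) ∈ N ⊓ Subgroup.centralizer (S : Set G) :=
      ⟨(traceMap hSN (⟨_, hw⟩ : N)).2, h6⟩
    rw [hD, Subgroup.mem_bot] at h7
    exact Subtype.ext h7
  rw [Finset.prod_eq_one h3, one_mul] at h2
  have h8 : ∀ y : S, τ y 0 = ⟨v, hv⟩ := by
    intro y
    apply Subtype.ext
    rw [hτ]
    simp
  simp only [h8, Finset.prod_const, Finset.card_univ] at h2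
  have h9 := congrArg Subtype.val h2
  rw [Nat.card_eq_fintype_card]
  simpa using h9

end Cfsg.Agent.Lib.H1
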