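import Mathlib
import Cfsg.Prelude.Def_Transfer

/-!
# `Ω₁(Z(H))` and small subgroup lemmas (helper1)
-/

set_option autoImplicit false

namespace Cfsg.Agent.Lib.H1

open Cfsg
open scoped commutatorElement

/-- `Ω₁(Z(H))` as a subgroup of `G` -/
def omegaZ (p : ℕ) {G : Type*} [Group G] (H : Subgroup G) : Subgroup G where
  carrier := {z | z ∈ H ∧ z ∈ Subgroup.centralizer (H : Set G) ∧ z ^ p = 1}
  one_mem' := ⟨H.one_mem, Subgroup.one_mem _, one_pow p⟩
  mul_mem' := by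
    rintro a b ⟨ha1, ha2, ha3⟩ ⟨hb1, hb2, hb3⟩
    refine ⟨H.mul_mem ha1 hb1, Subgroup.mul_mem _ ha2 hb2, ?_⟩
    have hc : Commute a b := (Subgroup.mem_centralizer_iff.mp hb2 a ha1)
    rw [hc.mul_pow, ha3, hb3, one_mul]
  inv_mem' := by
    rintro a ⟨ha1, ha2, ha3⟩
    exact ⟨H.inv_mem ha1, Subgroup.inv_mem _ ha2, by rw [inv_pow, ha3, inv_one]⟩

theorem mem_omegaZ {p : ℕ} {G : Type*} [Group G] {H : Subgroup G} {z : G} :
    z ∈ omegaZ p H ↔ z ∈ H ∧ z ∈ Subgroup.centralizer (H : Set G) ∧ z ^ p = 1 := Iff.rfl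

theorem omegaZ_le {p : ℕ} {G : Type*} [Group G] (H : Subgroup G) : omegaZ p H ≤ H :=
  fun _ hz => hz.1

theorem omegaZ_normal {p : ℕ} {G : Type*} [Group G] (H : Subgroup G) [hH : H.Normal] :
    (omegaZ p H).Normal := by
  constructor
  rintro z ⟨hz1, hz2, hz3⟩ g
  refine ⟨hH.conj_mem z hz1 g, (inferInstance : (Subgroup.centralizer (H : Set G)).Normal).conj_mem z hz2 g, ?_⟩
  rw [conj_pow, hz3, mul_one, mul_inv_cancel]

theorem omegaZ_comm {p : ℕ} {G : Type*} [Group G] (H : Subgroup G) :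
    ∀ u ∈ omegaZ p H, ∀ v ∈ omegaZ p H, u * v = v * u := by
  rintro u ⟨hu1, _, _⟩ v ⟨_, hv2, _⟩
  exact Subgroup.mem_centralizer_iff.mp hv2 u hu1

theorem omegaZ_elemAb {p : ℕ} {G : Type*} [Group G] (H : Subgroup G) :
    IsElementaryAbelian p (omegaZ p H) := by
  refine ⟨⟨⟨fun a b => Subtype.ext (omegaZ_comm H a a.2 b b.2)⟩⟩, fun a ha => ha.2.2⟩

theorem le_centralizer_omegaZ {p : ℕ} {G : Type*} [Group G] (H : Subgroup G) :
    H ≤ Subgroup.centralizer ((omegaZ p H : Subgroup G) : Set G) := by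
  intro h hh
  rw [Subgroup.mem_centralizer_iff]
  rintro z ⟨_, hz2, _⟩
  exact (Subgroup.mem_centralizer_iff.mp hz2 h hh).symm

theorem le_normalizer_of_conj_mem {G : Type*} [Group G] {K T : Subgroup G}
    (h : ∀ k ∈ K, ∀ t ∈ T, k * t * k⁻¹ ∈ T) : K ≤ Subgroup.normalizer (T : Set G) := by
  intro k hk
  rw [Subgroup.mem_normalizer_iff]
  intro t
  constructor
  · exact h k hk t
  · intro ht
    have := h k⁻¹ (K.inv_mem hk) _ ht
    have e : k⁻¹ * (k * t * k⁻¹) * k⁻¹⁻¹ = t := by group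
    rwa [e] at this

theorem commutator_ne_self_of_isSolvable {Q : Type*} [Group Q] {Kb : Subgroup Q}
    (hs : Group.IsSolvable Kb) (hne : Kb ≠ ⊥) : ⁅Kb, Kb⁆ ≠ Kb := by
  intro h
  haveI : Nontrivial Kb := (Subgroup.nontrivial_iff_ne_bot Kb).mpr hne
  have h1 := Group.IsSolvable.commutator_lt_top_of_nontrivial Kb
  have h2 : (commutator Kb).map Kb.subtype = ⁅Kb, Kb⁆ := by
    rw [commutator_def, Subgroup.map_commutator, ← MonoidHom.range_eq_map, Subgroup.range_subtype]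
  have h3 : (commutator Kb).map Kb.subtype = (⊤ : Subgroup Kb).map Kb.subtype := by
    rw [h2, h, ← MonoidHom.range_eq_map, Subgroup.range_subtype]
  have h4 := Subgroup.map_injective Kb.subtype_injective h3
  exact h1.ne h4

end Cfsg.Agent.Lib.H1
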