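import Cfsg.Agent.Lib.L0.FrobeniusPC

/-!
# Basic closure properties of `HasNormalPComplement` (helper1)
-/

set_option autoImplicit false

namespace Cfsg.Agent.Lib.H1

open Cfsg Cfsg.Agent.Lib.L0

universe u

/-- images of `p`-nilpotent groups are `p`-nilpotent -/
theorem hnpc_of_surjective {G G' : Type*} [Group G] [Group G'] [Finite G] {p : ℕ}
    [Fact p.Prime] (f : G →* G') (hf : Function.Surjective f)
    (h : HasNormalPComplement p G) : HasNormalPComplement p G' := by
  haveI : Finite G' := Finite.of_surjective f hf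
  obtain ⟨N, hN, hpN, k, hk⟩ := HasNormalPComplement.exists_normal h
  haveI : (N.map f).Normal := hN.map f hf
  apply hasNormalPComplement_of_normal (N.map f)
  · intro hdvd
    exact hpN (hdvd.trans (Subgroup.card_map_dvd N f))
  · have h1 : (N.map f).index ∣ p ^ k := by
      rw [← hk]; exact Subgroup.index_map_dvd N hf
    obtain ⟨j, _, hj⟩ := (Nat.dvd_prime_pow Fact.out).mp h1
    exact ⟨j, hj⟩

theorem hnpc_of_mulEquiv {G G' : Type*} [Group G] [Group G'] [Finite G] {p : ℕ}
    [Fact p.Prime] (e : G ≃* G') (h : HasNormalPComplement p G) : HasNormalPComplement p G' :=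
  hnpc_of_surjective e.toMonoidHom e.surjective h

/-- the image of a `p`-nilpotent subgroup is `p`-nilpotent -/
theorem hnpc_map {G G' : Type*} [Group G] [Group G'] [Finite G] {p : ℕ} [Fact p.Prime]
    (f : G →* G') (N : Subgroup G) (h : HasNormalPComplement p N) :
    HasNormalPComplement p (N.map f) := by
  exact hnpc_of_surjective (f.subgroupMap N) (f.subgroupMap_surjective N) h

theorem hnpc_of_le {G : Type*} [Group G] [Finite G] {p : ℕ} [Fact p.Prime] {A B : Subgroup G}
    (hAB : A ≤ B) (h : HasNormalPComplement p B) : HasNormalPComplement p A :=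
  hnpc_of_mulEquiv (Subgroup.subgroupOfEquivOfLe hAB) (HasNormalPComplement.subgroup h _)

theorem hnpc_top_iff {G : Type*} [Group G] [Finite G] {p : ℕ} [Fact p.Prime] :
    HasNormalPComplement p (⊤ : Subgroup G) ↔ HasNormalPComplement p G :=
  ⟨fun h => hnpc_of_mulEquiv Subgroup.topEquiv h,
    fun h => hnpc_of_mulEquiv Subgroup.topEquiv.symm h⟩

theorem hnpc_of_isPGroup {G : Type*} [Group G] [Finite G] {p : ℕ} [Fact p.Prime]
    (h : IsPGroup p G) : HasNormalPComplement p G := by
  apply hasNormalPComplement_of_normal (⊥ : Subgroup G)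
  · rw [Subgroup.card_bot]
    exact (Fact.out : p.Prime).one_lt.ne' ∘ Nat.dvd_one.mp
  · rw [Subgroup.index_bot]
    exact (IsPGroup.iff_card.mp h)

/-- a group is `p`-nilpotent if its quotient by a normal `p'`-subgroup is -/
theorem hnpc_of_quotient {G : Type*} [Group G] [Finite G] {p : ℕ} [Fact p.Prime]
    (D : Subgroup G) [D.Normal] (hD : ¬ p ∣ Nat.card D)
    (h : HasNormalPComplement p (G ⧸ D)) : HasNormalPComplement p G := by
  obtain ⟨M, hM, hpM, k, hk⟩ := HasNormalPComplement.exists_normal h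
  haveI : (M.comap (QuotientGroup.mk' D)).Normal := hM.comap _
  apply hasNormalPComplement_of_normal (M.comap (QuotientGroup.mk' D))
  · have hcard : Nat.card (M.comap (QuotientGroup.mk' D)) = Nat.card D * Nat.card M := by
      have h1 := Subgroup.card_mul_index (M.comap (QuotientGroup.mk' D))
      have h2 := Subgroup.card_mul_index M
      have h3 : (M.comap (QuotientGroup.mk' D)).index = M.index :=
        Subgroup.index_comap_of_surjective M (QuotientGroup.mk'_surjective D)
      have h4 : Nat.card G = Nat.card D * Nat.card (G ⧸ D) := by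
        rw [← Subgroup.index_eq_card, mul_comm, Subgroup.index_mul_card]
      have hpos : 0 < M.index := Nat.pos_of_ne_zero (Subgroup.index_ne_zero_of_finite)
      rw [h3, h4, ← h2, ← mul_assoc] at h1
      exact Nat.eq_of_mul_eq_mul_right hpos h1
    rw [hcard]
    intro hdvd
    rcases (Nat.Prime.dvd_mul Fact.out).mp hdvd with h' | h'
    · exact hD h'
    · exact hpM h'
  · exact ⟨k, by rw [Subgroup.index_comap_of_surjective M (QuotientGroup.mk'_surjective D), hk]⟩

/-- the normal `p`-complement of a `p`-nilpotent normal subgroup is normal in the whole group -/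
theorem hnpc_normal_exists {G : Type*} [Group G] [Finite G] {p : ℕ} [Fact p.Prime]
    (W : Subgroup G) [hW : W.Normal] (h : HasNormalPComplement p W) :
    ∃ D : Subgroup G, D.Normal ∧ D ≤ W ∧ ¬ p ∣ Nat.card D ∧ ∃ k, D.relIndex W = p ^ k := by
  obtain ⟨D₀, hD₀, hpD₀, k, hk⟩ := HasNormalPComplement.exists_normal h
  have hp : p.Prime := Fact.out
  have hcop : (Nat.card D₀).Coprime p := ((Nat.Prime.coprime_iff_not_dvd hp).mpr hpD₀).symm
  refine ⟨D₀.map W.subtype, ?_, Subgroup.map_subtype_le _, ?_, k, ?_⟩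
  · constructor
    rintro _ ⟨d, hd, rfl⟩ g
    have hmem : g * (d : G) * g⁻¹ ∈ W := hW.conj_mem _ d.2 g
    refine ⟨⟨g * (d : G) * g⁻¹, hmem⟩, ?_, rfl⟩
    apply mem_of_coprime_orderOf_of_index_pow D₀ k hk
    have h1 : orderOf (⟨g * (d : G) * g⁻¹, hmem⟩ : W) = orderOf d := by
      rw [← Subgroup.orderOf_coe, ← Subgroup.orderOf_coe]
      exact (MulAut.conj g).orderOf_eq (d : G)
    rw [h1]
    have h2 : orderOf d ∣ Nat.card D₀ := by
      have := orderOf_dvd_natCard (⟨d, hd⟩ : D₀)
      rwa [Subgroup.orderOf_mk] at this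
    exact Nat.Coprime.coprime_dvd_left h2 hcop
  · rwa [Subgroup.card_map_of_injective W.subtype_injective]
  · rw [← hk]
    have : (D₀.map W.subtype).subgroupOf W = D₀ := by
      ext x
      rw [Subgroup.mem_subgroupOf]
      constructor
      · rintro ⟨y, hy, hyx⟩
        have : y = x := Subtype.ext hyx
        rwa [← this]
      · intro hx
        exact ⟨x, hx, rfl⟩
    rw [Subgroup.relIndex, this]

/-- **Frobenius**, contrapositive form: a group which is not `p`-nilpotent has a nontrivial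
`p`-subgroup whose normalizer is not `p`-nilpotent. -/
theorem exists_normalizer_not_hnpc {G : Type u} [Group G] [Finite G] {p : ℕ} [Fact p.Prime]
    (h : ¬ HasNormalPComplement p G) :
    ∃ R : Subgroup G, IsPGroup p R ∧ R ≠ ⊥ ∧
      ¬ HasNormalPComplement p (Subgroup.normalizer (R : Set G)) := by
  by_contra hcon
  push Not at hcon
  apply h
  apply hasNormalPComplement_of_frobHyp
  intro Q hQ g hg hgo
  by_cases hQb : Q = ⊥
  · rw [hQb]
    rw [Subgroup.mem_centralizer_iff]
    intro x hx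
    rw [SetLike.mem_coe, Subgroup.mem_bot] at hx
    rw [hx, one_mul, mul_one]
  have hN := hcon Q hQ hQb
  obtain ⟨D, hD, hpD, k, hk⟩ := HasNormalPComplement.exists_normal hN
  have hgD : (⟨g, hg⟩ : Subgroup.normalizer (Q : Set G)) ∈ D := by
    apply mem_of_coprime_orderOf_of_index_pow D k hk
    rwa [Subgroup.orderOf_mk]
  rw [Subgroup.mem_centralizer_iff]
  intro x hx
  -- the commutator lies in Q ∩ D = 1
  have hxN : x ∈ Subgroup.normalizer (Q : Set G) := Subgroup.le_normalizer hx
  have hc1 : (⟨x, hxN⟩ : Subgroup.normalizer (Q : Set G)) * ⟨g, hg⟩ * ⟨x, hxN⟩⁻¹ * ⟨g, hg⟩⁻¹ ∈ D :=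
    D.mul_mem (hD.conj_mem _ hgD _) (D.inv_mem hgD)
  have hc2 : x * g * x⁻¹ * g⁻¹ ∈ Q := by
    have : g * x⁻¹ * g⁻¹ ∈ Q := (Subgroup.mem_normalizer_iff.mp hg x⁻¹).mp (Q.inv_mem hx)
    have h3 : x * g * x⁻¹ * g⁻¹ = x * (g * x⁻¹ * g⁻¹) := by group
    rw [h3]; exact Q.mul_mem hx this
  -- element of Q ∩ D has order both p-power and prime to p
  have hord1 : ∃ j, orderOf (x * g * x⁻¹ * g⁻¹) = p ^ j := by
    obtain ⟨j, hj⟩ := (IsPGroup.iff_orderOf.mp hQ) ⟨_, hc2⟩
    exact ⟨j, by rw [← hj, Subgroup.orderOf_mk]⟩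
  have hord2 : orderOf (x * g * x⁻¹ * g⁻¹) ∣ Nat.card D := by
    have := orderOf_dvd_natCard (⟨_, hc1⟩ : D)
    rw [Subgroup.orderOf_mk, ← Subgroup.orderOf_coe] at this
    exact this
  obtain ⟨j, hj⟩ := hord1
  have hj0 : j = 0 := by
    by_contra hne
    apply hpD
    have : p ∣ p ^ j := dvd_pow_self p hne
    rw [← hj] at this
    exact this.trans hord2
  rw [hj0, pow_zero, orderOf_eq_one_iff] at hj
  have : x * g * x⁻¹ * g⁻¹ = 1 := hj
  calc x * g = (x * g * x⁻¹ * g⁻¹) * (g * x) := by group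
    _ = g * x := by rw [this, one_mul]

end Cfsg.Agent.Lib.H1
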