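import Cfsg.Agent.Lib.H26.Thompson
import Cfsg.Agent.Lib.H3.Thompson
import Cfsg.Agent.Lib.H1.NPCBasic

/-!
# Functorial properties of `J(P)` and `Z(P)` (helper1)
-/

set_option autoImplicit false

namespace Cfsg.Agent.Lib.H1

open Cfsg Cfsg.Agent.Lib.L0 Cfsg.Agent.Lib.H26

variable {X Y : Type*} [Group X] [Group Y]

/-- the property "f is injective on P" -/
def InjOnSub (f : X →* Y) (P : Subgroup X) : Prop := ∀ x ∈ P, f x = 1 → x = 1

theorem InjOnSub.eq {f : X →* Y} {P : Subgroup X} (h : InjOnSub f P) {a b : X} (ha : a ∈ P)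
    (hb : b ∈ P) (hab : f a = f b) : a = b := by
  have h1 : f (a * b⁻¹) = 1 := by rw [map_mul, map_inv, hab, mul_inv_cancel]
  have := h _ (P.mul_mem ha (P.inv_mem hb)) h1
  exact mul_inv_eq_one.mp this

theorem injOnSub_of_injective {f : X →* Y} (hf : Function.Injective f) (P : Subgroup X) :
    InjOnSub f P := fun x _ hx => hf (by rw [hx, map_one])

theorem InjOnSub.mono {f : X →* Y} {P A : Subgroup X} (h : InjOnSub f P) (hA : A ≤ P) :
    InjOnSub f A := fun x hx => h x (hA hx)

theorem InjOnSub.card_map {f : X →* Y} {A : Subgroup X} (h : InjOnSub f A) :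
    Nat.card (A.map f) = Nat.card A := by
  symm
  apply Nat.card_congr
  apply Equiv.ofBijective (f.subgroupMap A)
  refine ⟨?_, f.subgroupMap_surjective A⟩
  intro a b hab
  apply Subtype.ext
  apply h.eq a.2 b.2
  exact congrArg Subtype.val hab

theorem InjOnSub.elemAb_of_map {f : X →* Y} {A : Subgroup X} (h : InjOnSub f A) {p : ℕ}
    (hA : IsElementaryAbelian p (A.map f)) : IsElementaryAbelian p A := by
  obtain ⟨hc, he⟩ := hA
  refine ⟨⟨⟨fun a b => ?_⟩⟩, fun a ha => ?_⟩
  · apply Subtype.ext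
    apply h.eq (A.mul_mem a.2 b.2) (A.mul_mem b.2 a.2)
    have h1 := setLike_mul_comm (s := A.map f) (Subgroup.mem_map_of_mem f a.2)
      (Subgroup.mem_map_of_mem f b.2)
    simpa using h1
  · apply h.eq (A.pow_mem ha p) A.one_mem
    rw [map_pow, map_one]
    exact he _ (Subgroup.mem_map_of_mem f ha)

theorem InjOnSub.elemAb_map_iff {f : X →* Y} {A : Subgroup X} (h : InjOnSub f A) {p : ℕ} :
    IsElementaryAbelian p (A.map f) ↔ IsElementaryAbelian p A :=
  ⟨h.elemAb_of_map, Cfsg.Agent.Lib.H3.elemAb_map f⟩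

theorem map_comap_inf_of_le_map (f : X →* Y) {P : Subgroup X} {B : Subgroup Y}
    (hB : B ≤ P.map f) : (B.comap f ⊓ P).map f = B := by
  apply le_antisymm
  · rintro _ ⟨x, hx, rfl⟩
    exact hx.1
  · intro y hy
    obtain ⟨x, hx, rfl⟩ := hB hy
    exact ⟨x, ⟨hy, hx⟩, rfl⟩

theorem maxEA_map {f : X →* Y} {P : Subgroup X} (h : InjOnSub f P) {p : ℕ} {A : Subgroup X}
    (hA : A ∈ maxEA p P) : A.map f ∈ maxEA p (P.map f) := by
  obtain ⟨hAP, hAe, hAm⟩ := hA
  refine ⟨Subgroup.map_mono hAP, Cfsg.Agent.Lib.H3.elemAb_map f hAe, ?_⟩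
  intro B hBP hBe
  have hB' := map_comap_inf_of_le_map f hBP
  have h1 : InjOnSub f (B.comap f ⊓ P) := h.mono inf_le_right
  have h2 : IsElementaryAbelian p (B.comap f ⊓ P) := h1.elemAb_of_map (by rw [hB']; exact hBe)
  have h3 := hAm _ inf_le_right h2
  rw [← hB', h1.card_map, (h.mono hAP).card_map]
  exact h3

theorem maxEA_comap {f : X →* Y} {P : Subgroup X} (h : InjOnSub f P) {p : ℕ} {B : Subgroup Y}
    (hB : B ∈ maxEA p (P.map f)) : (B.comap f ⊓ P) ∈ maxEA p P := by
  obtain ⟨hBP, hBe, hBm⟩ := hB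
  have hB' := map_comap_inf_of_le_map f hBP
  have h1 : InjOnSub f (B.comap f ⊓ P) := h.mono inf_le_right
  refine ⟨inf_le_right, h1.elemAb_of_map (by rw [hB']; exact hBe), ?_⟩
  intro C hCP hCe
  have h3 := hBm (C.map f) (Subgroup.map_mono hCP) (Cfsg.Agent.Lib.H3.elemAb_map f hCe)
  rw [← (h.mono hCP).card_map, ← h1.card_map, hB']
  exact h3

/-- `J` commutes with homomorphisms injective on `P` -/
theorem JJ_map {f : X →* Y} {P : Subgroup X} (h : InjOnSub f P) (p : ℕ) :
    JJ p (P.map f) = (JJ p P).map f := by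
  apply le_antisymm
  · apply sSup_le
    intro B hB
    have hA := maxEA_comap h hB
    rw [← map_comap_inf_of_le_map f hB.1]
    exact Subgroup.map_mono (le_sSup hA)
  · rw [Subgroup.map_le_iff_le_comap]
    apply sSup_le
    intro A hA
    rw [← Subgroup.map_le_iff_le_comap]
    exact le_sSup (maxEA_map h hA)

/-- `Z` commutes with homomorphisms injective on `P` -/
theorem ZZ_map {f : X →* Y} {P : Subgroup X} (h : InjOnSub f P) :
    P.map f ⊓ Subgroup.centralizer ((P.map f : Subgroup Y) : Set Y) =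
      (P ⊓ Subgroup.centralizer (P : Set X)).map f := by
  apply le_antisymm
  · intro y hy
    obtain ⟨hy1, hy2⟩ := Subgroup.mem_inf.mp hy
    obtain ⟨x, hx, rfl⟩ := hy1
    refine ⟨x, Subgroup.mem_inf.mpr ⟨hx, ?_⟩, rfl⟩
    rw [Subgroup.mem_centralizer_iff]
    intro u hu
    apply h.eq (P.mul_mem hu hx) (P.mul_mem hx hu)
    rw [map_mul, map_mul]
    exact Subgroup.mem_centralizer_iff.mp hy2 (f u) (Subgroup.mem_map_of_mem f hu)
  · rintro _ ⟨x, hx, rfl⟩
    obtain ⟨hx1, hx2⟩ := Subgroup.mem_inf.mp hx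
    refine Subgroup.mem_inf.mpr ⟨Subgroup.mem_map_of_mem f hx1, ?_⟩
    rw [Subgroup.mem_centralizer_iff]
    rintro _ ⟨u, hu, rfl⟩
    rw [← map_mul, ← map_mul, Subgroup.mem_centralizer_iff.mp hx2 u hu]

theorem normalizer_le_normalizer_JJ (p : ℕ) (P : Subgroup X) :
    Subgroup.normalizer (P : Set X) ≤ Subgroup.normalizer (JJ p P : Set X) := by
  intro g hg
  rw [Subgroup.mem_normalizer_iff_map_conj_eq] at hg ⊢
  have := JJ_map (injOnSub_of_injective (MulAut.conj g).injective P) (f := (MulAut.conj g : X →* X)) p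
  rw [hg] at this
  exact this.symm

theorem normalizer_le_normalizer_ZZ (P : Subgroup X) :
    Subgroup.normalizer (P : Set X) ≤
      Subgroup.normalizer ((P ⊓ Subgroup.centralizer (P : Set X) : Subgroup X) : Set X) := by
  intro g hg
  rw [Subgroup.mem_normalizer_iff_map_conj_eq] at hg ⊢
  have := ZZ_map (injOnSub_of_injective (MulAut.conj g).injective P) (f := (MulAut.conj g : X →* X))
  rw [hg] at this
  exact this.symm

theorem JJ_isPGroup {p : ℕ} {P : Subgroup X} (hP : IsPGroup p P) : IsPGroup p (JJ p P) :=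
  hP.to_le (JJ_le p P)

theorem thompsonSubgroup_ne_bot {G : Type*} [Group G] [Finite G] {p : ℕ} [Fact p.Prime]
    (hG : IsPGroup p G) [Nontrivial G] : thompsonSubgroup p G ≠ ⊥ := by
  obtain ⟨A, hA⟩ := Cfsg.Agent.Lib.H3.exists_maxElemAb (G := G) p
  have hp : p.Prime := Fact.out
  have hdvd : p ∣ Nat.card G := by
    obtain ⟨n, hn⟩ := IsPGroup.iff_card.mp hG
    have hn0 : n ≠ 0 := by
      rintro rfl
      rw [pow_zero] at hn
      have := Finite.one_lt_card (α := G)
      omega
    rw [hn]; exact dvd_pow_self p hn0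
  obtain ⟨x, hx⟩ := exists_prime_orderOf_dvd_card' p hdvd
  have hxp : x ^ p = 1 := by rw [← hx, pow_orderOf_eq_one]
  have h1 := hA.2 _ (Cfsg.Agent.Lib.H3.elemAb_zpowers hxp)
  rw [Nat.card_zpowers, hx] at h1
  intro hbot
  have h2 : A ≤ ⊥ := hbot ▸ Cfsg.Agent.Lib.H3.le_thompson hA
  rw [le_bot_iff] at h2
  rw [h2, Subgroup.card_bot] at h1
  exact absurd h1 (by have := hp.two_le; omega)

theorem JJ_ne_bot {p : ℕ} [Fact p.Prime] {P : Subgroup X} [Finite P] (hP : IsPGroup p P)
    (hne : P ≠ ⊥) : JJ p P ≠ ⊥ := by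
  rw [← thompsonSubgroupOf_eq]
  unfold thompsonSubgroupOf
  haveI : Nontrivial P := (Subgroup.nontrivial_iff_ne_bot P).mpr hne
  intro h
  rw [Subgroup.map_eq_bot_iff_of_injective _ P.subtype_injective] at h
  exact thompsonSubgroup_ne_bot hP h

theorem ZZ_ne_bot {p : ℕ} [Fact p.Prime] {P : Subgroup X} [Finite P] (hP : IsPGroup p P)
    (hne : P ≠ ⊥) : P ⊓ Subgroup.centralizer (P : Set X) ≠ ⊥ := by
  haveI : Nontrivial P := (Subgroup.nontrivial_iff_ne_bot P).mpr hne
  haveI := hP.center_nontrivial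
  obtain ⟨z, hz⟩ := exists_ne (1 : Subgroup.center P)
  intro hbot
  apply hz
  have hmem : ((z : P) : X) ∈ P ⊓ Subgroup.centralizer (P : Set X) := by
    refine Subgroup.mem_inf.mpr ⟨(z : P).2, ?_⟩
    rw [Subgroup.mem_centralizer_iff]
    intro u hu
    have := Subgroup.mem_center_iff.mp z.2 ⟨u, hu⟩
    exact congrArg Subtype.val this
  rw [hbot, Subgroup.mem_bot] at hmem
  apply Subtype.ext
  apply Subtype.ext
  exact hmem

/-- The hypothesis of Thompson's theorem for a Sylow subgroup. -/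
def ThHyp (p : ℕ) (G : Type*) [Group G] (P : Sylow p G) : Prop :=
  HasNormalPComplement p (Subgroup.normalizer (Cfsg.thompsonSubgroupOf p (P : Subgroup G) : Set G))
    ∧ HasNormalPComplement p
      (Subgroup.centralizer (((P : Subgroup G) ⊓ Subgroup.centralizer (P : Set G)) : Set G))

/-- the same hypothesis in terms of the ambient `J` of an arbitrary `p`-subgroup. -/
def ThHypSub (p : ℕ) {G : Type*} [Group G] (T : Subgroup G) : Prop :=
  HasNormalPComplement p (Subgroup.normalizer (JJ p T : Set G))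
    ∧ HasNormalPComplement p
      (Subgroup.centralizer ((T ⊓ Subgroup.centralizer (T : Set G) : Subgroup G) : Set G))

theorem thHyp_iff {p : ℕ} {G : Type*} [Group G] (P : Sylow p G) :
    ThHyp p G P ↔ ThHypSub p (P : Subgroup G) := by
  unfold ThHyp ThHypSub
  rw [thompsonSubgroupOf_eq]
  exact Iff.rfl

/-- image of a group satisfying the hypothesis, under a hom injective on `T` such that normalizers
and centralizers are carried onto normalizers and centralizers -/
theorem ThHypSub.map {p : ℕ} [Fact p.Prime] {G G' : Type*} [Group G] [Group G'] [Finite G]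
    [Finite G'] {T : Subgroup G} (h : ThHypSub p T) (f : G →* G') (hinj : InjOnSub f T)
    (hn : Subgroup.normalizer (((JJ p T).map f : Subgroup G') : Set G') ≤
      (Subgroup.normalizer (JJ p T : Set G)).map f)
    (hc : Subgroup.centralizer
        ((((T ⊓ Subgroup.centralizer (T : Set G) : Subgroup G)).map f : Subgroup G') : Set G') ≤
      (Subgroup.centralizer ((T ⊓ Subgroup.centralizer (T : Set G) : Subgroup G) : Set G)).map f) :
    ThHypSub p (T.map f) := by
  unfold ThHypSub
  rw [JJ_map hinj, ZZ_map hinj]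
  exact ⟨hnpc_of_le hn (hnpc_map f _ h.1), hnpc_of_le hc (hnpc_map f _ h.2)⟩

/-- the hypothesis descends along injective homomorphisms -/
theorem ThHypSub.of_map_injective {p : ℕ} [Fact p.Prime] {G G' : Type*} [Group G] [Group G']
    [Finite G] [Finite G'] {T : Subgroup G} (f : G →* G') (hf : Function.Injective f)
    (h : ThHypSub p (T.map f)) : ThHypSub p T := by
  unfold ThHypSub at h ⊢
  rw [JJ_map (injOnSub_of_injective hf T), ZZ_map (injOnSub_of_injective hf T)] at h
  constructor
  · have h1 := hnpc_of_le (Subgroup.le_normalizer_map f) h.1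
    exact hnpc_of_mulEquiv (Subgroup.equivMapOfInjective _ f hf).symm h1
  · have h0 : (Subgroup.centralizer
        ((T ⊓ Subgroup.centralizer (T : Set G) : Subgroup G) : Set G)).map f ≤
        Subgroup.centralizer
          ((((T ⊓ Subgroup.centralizer (T : Set G) : Subgroup G)).map f : Subgroup G') : Set G') := by
      have := Subgroup.map_centralizer_le_centralizer_image
        ((T ⊓ Subgroup.centralizer (T : Set G) : Subgroup G) : Set G) f
      rwa [← Subgroup.coe_map] at this
    have h1 := hnpc_of_le h0 h.2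
    exact hnpc_of_mulEquiv (Subgroup.equivMapOfInjective _ f hf).symm h1

theorem ThHypSub.conj {p : ℕ} [Fact p.Prime] {G : Type*} [Group G] [Finite G]
    {T : Subgroup G} (h : ThHypSub p T) (g : G) :
    ThHypSub p (T.map (MulAut.conj g).toMonoidHom) := by
  apply h.map (MulAut.conj g).toMonoidHom (injOnSub_of_injective (MulAut.conj g).injective T)
  · exact (Subgroup.map_equiv_normalizer_eq _ (MulAut.conj g)).ge
  · intro y hy
    have hmem : (MulAut.conj g).symm y ∈ Subgroup.centralizer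
        ((T ⊓ Subgroup.centralizer (T : Set G) : Subgroup G) : Set G) := by
      rw [Subgroup.mem_centralizer_iff] at hy ⊢
      intro u hu
      have := hy ((MulAut.conj g) u) (Subgroup.mem_map_of_mem _ hu)
      apply (MulAut.conj g).injective
      rw [map_mul, map_mul, (MulAut.conj g).apply_symm_apply]
      exact this
    exact ⟨_, hmem, (MulAut.conj g).apply_symm_apply y⟩

theorem sylow_smul_eq_map {p : ℕ} {G : Type*} [Group G] (P : Sylow p G) (g : G) :
    ((g • P : Sylow p G) : Subgroup G) = (P : Subgroup G).map (MulAut.conj g).toMonoidHom := by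
  rw [Sylow.coe_subgroup_smul]
  ext x
  rw [Subgroup.mem_pointwise_smul_iff_inv_smul_mem, Subgroup.mem_map]
  constructor
  · intro hx
    refine ⟨_, hx, ?_⟩
    show (MulAut.conj g) ((MulAut.conj g)⁻¹ • x) = x
    rw [MulAut.smul_def, MulAut.apply_inv_self]
  · rintro ⟨y, hy, rfl⟩
    show (MulAut.conj g)⁻¹ • ((MulAut.conj g) y) ∈ P
    rw [MulAut.smul_def, MulAut.inv_apply_self]
    exact hy

/-- all Sylow subgroups satisfy the hypothesis if one does -/
theorem ThHyp.forall_sylow {p : ℕ} [Fact p.Prime] {G : Type*} [Group G] [Finite G]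
    {P : Sylow p G} (h : ThHyp p G P) (P' : Sylow p G) : ThHyp p G P' := by
  obtain ⟨g, rfl⟩ := MulAction.exists_smul_eq G P P'
  rw [thHyp_iff] at h ⊢
  rw [sylow_smul_eq_map]
  exact h.conj g

end Cfsg.Agent.Lib.H1
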