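import Cfsg.Agent.Lib.H1.FpfBasic
import Cfsg.Agent.Lib.H1.ThompsonJ
import Cfsg.Agent.Lib.H1.CoprimeAbelian
import Cfsg.Agent.Lib.H1.SchurZassenhaus
import Cfsg.Agent.Lib.H8.Nilpotent
import Cfsg.Agent.Lib.H1.OmegaZ
import Cfsg.Agent.Lib.H1.FpfTrace
import Cfsg.Agent.Lib.H1.NilpotentBasic
import Cfsg.Agent.S0108

/-!
# Thompson: a finite group with a fixed-point-free automorphism of prime order is nilpotent
(helper1)
-/

set_option autoImplicit false

namespace Cfsg.Agent.Lib.H1

open Cfsg Cfsg.Agent.Lib.L0 Cfsg.Agent.Lib.H26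

universe u

/-- induction hypothesis -/
def FpfIH (p n : ℕ) : Prop :=
  ∀ (G : Type u) [Group G] [Finite G], Nat.card G < n → ∀ φ : G ≃* G, Fpf φ → φ ^ p = 1 →
    Group.IsNilpotent G

section

variable {G : Type u} [Group G] [Finite G] {p : ℕ}

theorem isNilpotent_of_invSub (IH : FpfIH.{u} p (Nat.card G)) {φ : G ≃* G} (hφ : Fpf φ)
    (hφp : φ ^ p = 1) {M : Subgroup G} (hM : InvSub φ M) (hne : M ≠ ⊤) : Group.IsNilpotent M :=
  IH M (card_lt_of_ne_top hne) (restrictAut φ M hM) (hφ.restrict M hM)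
    (restrictAut_pow_eq_one hφp M hM)

theorem isNilpotent_quot_of_invSub (IH : FpfIH.{u} p (Nat.card G)) {φ : G ≃* G} (hφ : Fpf φ)
    (hφp : φ ^ p = 1) {N : Subgroup G} [N.Normal] (hN : InvSub φ N) (hne : N ≠ ⊥) :
    Group.IsNilpotent (G ⧸ N) := by
  have hcardlt : Nat.card (G ⧸ N) < Nat.card G := by
    have h1 : Nat.card G = Nat.card (G ⧸ N) * Nat.card N := by
      rw [← Subgroup.index_eq_card, Subgroup.index_mul_card]
    have h2 : 1 < Nat.card N := (Subgroup.one_lt_card_iff_ne_bot (H := N)).mpr hne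
    have h3 : 0 < Nat.card (G ⧸ N) := Nat.card_pos
    rw [h1]
    nlinarith
  exact IH (G ⧸ N) hcardlt (quotAut φ N hN) (hφ.quot N hN) (quotAut_pow_eq_one hφp N hN)

/-- powers `φ^k`, `0 < k < p`, of a fixed-point-free automorphism of prime order are
fixed-point-free -/
theorem Fpf.pow {φ : G ≃* G} (hφ : Fpf φ) (hp : p.Prime) (hφp : φ ^ p = 1) {k : ℕ} (hk0 : 0 < k)
    (hkp : k < p) : Fpf (φ ^ k) := by
  intro g hg
  apply hφ
  have hcop : Nat.Coprime k p :=
    (Nat.coprime_comm.mp ((Nat.Prime.coprime_iff_not_dvd hp).mpr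
      (Nat.not_dvd_of_pos_of_lt hk0 hkp)))
  obtain ⟨m, -, hm⟩ := Nat.exists_mul_mod_eq_one_of_coprime hcop hp.one_lt
  have h1 : ∀ j : ℕ, ((φ ^ k) ^ j) g = g := by
    intro j
    induction j with
    | zero => simp
    | succ j ih => rw [pow_succ, MulAut.mul_apply, hg, ih]
  have h2 := h1 m
  rw [← pow_mul] at h2
  have h3 : φ ^ (k * m) = φ := by
    conv_lhs => rw [← Nat.div_add_mod (k * m) p, hm, pow_add, pow_mul, hφp, one_pow, one_mul, pow_one]
  rwa [h3] at h2

theorem hnpc_of_isNilpotent [hG : Group.IsNilpotent G] (r : ℕ) [hr : Fact r.Prime] :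
    HasNormalPComplement r G := by
  apply hasNormalPComplement_of_frobHyp
  intro Q hQ g _ hgo
  rw [Subgroup.mem_centralizer_iff]
  intro x hx
  obtain ⟨j, hj⟩ := (IsPGroup.iff_orderOf.mp hQ) ⟨x, hx⟩
  rw [Subgroup.orderOf_mk] at hj
  have hcop : (orderOf x).Coprime (orderOf g) := by
    rw [hj]
    exact Nat.Coprime.pow_left j hgo.symm
  exact (Cfsg.Agent.Lib.H8.commute_of_coprime_orderOf G x g hcop).eq

theorem isNilpotent_of_sylow_eq_top {r : ℕ} [Fact r.Prime] (P : Sylow r G)
    (h : (P : Subgroup G) = ⊤) : Group.IsNilpotent G := by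
  have h2 : IsPGroup r (⊤ : Subgroup G) := h ▸ P.2
  exact (h2.of_equiv Subgroup.topEquiv).isNilpotent

/-- the "`φ`-simple" case: uses Thompson's normal `p`-complement theorem -/
theorem isNilpotent_of_fpf_simple (IH : FpfIH.{u} p (Nat.card G)) {φ : G ≃* G} (hφ : Fpf φ)
    (hφp : φ ^ p = 1)
    (hsimple : ∀ N : Subgroup G, N.Normal → InvSub φ N → N = ⊥ ∨ N = ⊤) :
    Group.IsNilpotent G := by
  by_cases h2 : ∃ r : ℕ, r.Prime ∧ r ≠ 2 ∧ r ∣ Nat.card G
  · obtain ⟨r, hr, hr2, hrdvd⟩ := h2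
    haveI : Fact r.Prime := ⟨hr⟩
    obtain ⟨P, hP⟩ := hφ.exists_invariant_sylow r
    by_cases hPtop : (P : Subgroup G) = ⊤
    · exact isNilpotent_of_sylow_eq_top P hPtop
    have hPne : (P : Subgroup G) ≠ ⊥ := by
      intro h
      have h1 := P.card_eq_multiplicity
      rw [h, Subgroup.card_bot] at h1
      have h3 : 0 < (Nat.card G).factorization r :=
        hr.factorization_pos_of_dvd Nat.card_pos.ne' hrdvd
      have : 1 < r ^ (Nat.card G).factorization r := Nat.one_lt_pow h3.ne' hr.one_lt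
      omega
    have hJ : InvSub φ (JJ r (P : Subgroup G)) := by
      unfold InvSub
      rw [← JJ_map (injOnSub_of_injective φ.injective _), hP]
    have hZ : InvSub φ ((P : Subgroup G) ⊓ Subgroup.centralizer ((P : Subgroup G) : Set G)) :=
      hP.inf hP.centralizer
    have hJne : JJ r (P : Subgroup G) ≠ ⊥ := JJ_ne_bot P.2 hPne
    have hZne : (P : Subgroup G) ⊓ Subgroup.centralizer ((P : Subgroup G) : Set G) ≠ ⊥ :=
      ZZ_ne_bot P.2 hPne
    -- the two local subgroups are proper, hence nilpotent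
    have hNJ : Subgroup.normalizer (JJ r (P : Subgroup G) : Set G) ≠ ⊤ := by
      intro h
      have hn : (JJ r (P : Subgroup G)).Normal := Subgroup.normalizer_eq_top_iff.mp h
      rcases hsimple _ hn hJ with h' | h'
      · exact hJne h'
      · exact hPtop (top_le_iff.mp (h' ▸ JJ_le r _))
    have hCZ : Subgroup.centralizer
        (((P : Subgroup G) ⊓ Subgroup.centralizer ((P : Subgroup G) : Set G) : Subgroup G) : Set G)
        ≠ ⊤ := by
      intro h
      have hn : ((P : Subgroup G) ⊓ Subgroup.centralizer ((P : Subgroup G) : Set G)).Normal := by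
        rw [← Subgroup.normalizer_eq_top_iff, eq_top_iff, ← h]
        exact Subgroup.centralizer_le_normalizer _
      rcases hsimple _ hn hZ with h' | h'
      · exact hZne h'
      · exact hPtop (top_le_iff.mp (h' ▸ inf_le_left))
    haveI := isNilpotent_of_invSub IH hφ hφp hJ.normalizer hNJ
    haveI := isNilpotent_of_invSub IH hφ hφp hZ.centralizer hCZ
    have hT : ThHyp r G P := (thHyp_iff P).mpr ⟨hnpc_of_isNilpotent r, hnpc_of_isNilpotent r⟩
    have hG : HasNormalPComplement r G := (Cfsg.Agent.S0108.result hr2 P).mpr hT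
    obtain ⟨K, hKn, hrK, k, hk⟩ := HasNormalPComplement.exists_normal hG
    have hKinv : InvSub φ K := by
      apply invSub_of_forall_mem
      intro x hx
      haveI := hKn
      apply mem_of_coprime_orderOf_of_index_pow K k hk
      rw [φ.orderOf_eq]
      have h1 : orderOf x ∣ Nat.card K := by
        have := orderOf_dvd_natCard (⟨x, hx⟩ : K)
        rwa [Subgroup.orderOf_mk] at this
      exact Nat.Coprime.coprime_dvd_left h1 ((Nat.Prime.coprime_iff_not_dvd hr).mpr hrK).symm
    rcases hsimple K hKn hKinv with h' | h'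
    · rw [h', Subgroup.index_bot] at hk
      exact (IsPGroup.of_card hk).isNilpotent
    · exfalso
      rw [h', Subgroup.card_top] at hrK
      exact hrK hrdvd
  · push Not at h2
    have hcard : Nat.card G = 2 ^ (Nat.card G).primeFactorsList.length := by
      apply Nat.eq_prime_pow_of_unique_prime_dvd Nat.card_pos.ne'
      intro d hd hdvd
      by_contra hne
      exact h2 d hd hne hdvd
    haveI : Fact (Nat.Prime 2) := ⟨Nat.prime_two⟩
    exact (IsPGroup.of_card hcard).isNilpotent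

/-- the case where a proper nontrivial invariant normal subgroup exists -/
theorem isNilpotent_of_fpf_not_simple (hp : p.Prime) (IH : FpfIH.{u} p (Nat.card G)) {φ : G ≃* G}
    (hφ : Fpf φ) (hφp : φ ^ p = 1)
    (hns : ∃ N₀ : Subgroup G, N₀.Normal ∧ InvSub φ N₀ ∧ N₀ ≠ ⊥ ∧ N₀ ≠ ⊤) :
    Group.IsNilpotent G := by
  classical
  by_contra hnil
  obtain ⟨N₀, hN₀n, hN₀inv, hN₀ne, hN₀top⟩ := hns
  obtain ⟨N, hNmem, hmin⟩ := Set.exists_min_image
    {N : Subgroup G | N.Normal ∧ InvSub φ N ∧ N ≠ ⊥} (fun N => Nat.card N) (Set.toFinite _)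
    ⟨N₀, hN₀n, hN₀inv, hN₀ne⟩
  obtain ⟨hNn, hNinv, hNne⟩ := hNmem
  haveI := hNn
  -- Claim U: `N` is the unique minimal invariant normal subgroup
  have hU : ∀ M : Subgroup G, M.Normal → InvSub φ M → M ≠ ⊥ → N ≤ M := by
    intro M hMn hMinv hMne
    haveI := hMn
    by_cases hb : N ⊓ M = ⊥
    · exfalso
      apply hnil
      haveI := isNilpotent_quot_of_invSub IH hφ hφp hNinv hNne
      haveI := isNilpotent_quot_of_invSub IH hφ hφp hMinv hMne
      apply isNilpotent_of_ker_le_center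
        ((QuotientGroup.mk' N).prod (QuotientGroup.mk' M))
      rw [MonoidHom.ker_prod, QuotientGroup.ker_mk', QuotientGroup.ker_mk', hb]
      exact bot_le
    · have h1 : Nat.card N ≤ Nat.card (N ⊓ M : Subgroup G) :=
        hmin (N ⊓ M) ⟨inferInstance, hNinv.inf hMinv, hb⟩
      have h2 : N ⊓ M = N := Subgroup.eq_of_le_of_card_ge inf_le_left h1
      exact h2 ▸ inf_le_right
  have hNtop : N ≠ ⊤ := fun h => hN₀top (top_le_iff.mp (h ▸ hU N₀ hN₀n hN₀inv hN₀ne))
  haveI hNnil : Group.IsNilpotent N := isNilpotent_of_invSub IH hφ hφp hNinv hNtop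
  -- `N` is abelian
  have hNab : N ≤ Subgroup.centralizer (N : Set G) := by
    refine (hU (N ⊓ Subgroup.centralizer (N : Set G)) inferInstance
      (hNinv.inf hNinv.centralizer) ?_).trans inf_le_right
    haveI : Nontrivial N := (Subgroup.nontrivial_iff_ne_bot N).mpr hNne
    have htop : (⊤ : Subgroup N) ≠ ⊥ := top_ne_bot
    have h1 := normal_inf_center_ne_bot (G := N) ⊤ htop
    rw [top_inf_eq, Subgroup.ne_bot_iff_exists_ne_one] at h1
    obtain ⟨z, hz⟩ := h1
    intro hbot
    apply hz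
    have hmem : ((z : N) : G) ∈ N ⊓ Subgroup.centralizer (N : Set G) := by
      refine Subgroup.mem_inf.mpr ⟨(z : N).2, ?_⟩
      rw [Subgroup.mem_centralizer_iff]
      intro u hu
      have := Subgroup.mem_center_iff.mp z.2 ⟨u, hu⟩
      exact congrArg Subtype.val this
    rw [hbot, Subgroup.mem_bot] at hmem
    apply Subtype.ext
    apply Subtype.ext
    exact hmem
  have hNc : ∀ a ∈ N, ∀ b ∈ N, a * b = b * a := fun a ha b hb =>
    Subgroup.mem_centralizer_iff.mp (hNab hb) a ha
  -- `N` has prime exponent `r`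
  have hNcard : Nat.card N ≠ 1 := fun h => hNne (Subgroup.card_eq_one.mp h)
  obtain ⟨r, hr, hrdvd⟩ := Nat.exists_prime_and_dvd hNcard
  haveI : Fact r.Prime := ⟨hr⟩
  obtain ⟨x₀, hx₀⟩ := exists_prime_orderOf_dvd_card' r hrdvd
  have hx₀G : orderOf (x₀ : G) = r := by rw [Subgroup.orderOf_coe]; exact hx₀
  have hNexp : ∀ x ∈ N, x ^ r = 1 := by
    have hΩn : (omegaZ r N).Normal := omegaZ_normal N
    have hΩinv : InvSub φ (omegaZ r N) := by
      apply invSub_of_forall_mem
      rintro x ⟨hx1, hx2, hx3⟩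
      exact ⟨hNinv.apply_mem hx1, hNinv.centralizer.apply_mem hx2, by rw [← map_pow, hx3, map_one]⟩
    have hΩne : omegaZ r N ≠ ⊥ := by
      intro hbot
      have hmem : (x₀ : G) ∈ omegaZ r N :=
        ⟨x₀.2, hNab x₀.2, by rw [← hx₀G, pow_orderOf_eq_one]⟩
      rw [hbot, Subgroup.mem_bot] at hmem
      rw [hmem, orderOf_one] at hx₀G
      exact hr.one_lt.ne hx₀G
    intro x hx
    exact (hU _ hΩn hΩinv hΩne hx).2.2
  haveI hQnil : Group.IsNilpotent (G ⧸ N) := isNilpotent_quot_of_invSub IH hφ hφp hNinv hNne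
  -- a second prime `s`
  obtain ⟨s, hs, hsr, hsdvd⟩ : ∃ s : ℕ, s.Prime ∧ s ≠ r ∧ s ∣ Nat.card G := by
    by_contra hcon
    push Not at hcon
    apply hnil
    have hcard : Nat.card G = r ^ (Nat.card G).primeFactorsList.length := by
      apply Nat.eq_prime_pow_of_unique_prime_dvd Nat.card_pos.ne'
      intro d hd hdvd
      by_contra hne
      exact hcon d hd hne hdvd
    exact (IsPGroup.of_card hcard).isNilpotent
  haveI : Fact s.Prime := ⟨hs⟩
  obtain ⟨S, hSinv⟩ := hφ.exists_invariant_sylow s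
  have hSne : (S : Subgroup G) ≠ ⊥ := by
    intro h
    have h1 := S.card_eq_multiplicity
    rw [h, Subgroup.card_bot] at h1
    have h3 : 0 < (Nat.card G).factorization s :=
      hs.factorization_pos_of_dvd Nat.card_pos.ne' hsdvd
    have : 1 < s ^ (Nat.card G).factorization s := Nat.one_lt_pow h3.ne' hs.one_lt
    omega
  have hNS : ¬ N ≤ (S : Subgroup G) := by
    intro hle
    obtain ⟨j, hj⟩ := (IsPGroup.iff_orderOf.mp S.2) ⟨x₀, hle x₀.2⟩
    rw [Subgroup.orderOf_mk, hx₀G] at hj
    have h1 : s ∣ r := by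
      have hj0 : j ≠ 0 := by
        rintro rfl
        rw [pow_zero] at hj
        exact hr.one_lt.ne' hj
      rw [hj]; exact dvd_pow_self s hj0
    exact hsr ((Nat.prime_dvd_prime_iff_eq hs hr).mp h1)
  have hSnn : ¬ (S : Subgroup G).Normal := fun hn => hNS (hU S hn hSinv hSne)
  -- `N ⊔ S` is normal
  have hNSn : (N ⊔ (S : Subgroup G)).Normal := by
    have hπ : Function.Surjective (QuotientGroup.mk' N) := QuotientGroup.mk'_surjective N
    have h1 : ((S.mapSurjective hπ : Sylow s (G ⧸ N)) : Subgroup (G ⧸ N)).Normal := inferInstance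
    have h2 := h1.comap (QuotientGroup.mk' N)
    rw [Sylow.coe_mapSurjective, Subgroup.comap_map_eq, QuotientGroup.ker_mk', sup_comm] at h2
    exact h2
  -- `N ⊔ S = ⊤`
  have hNStop : N ⊔ (S : Subgroup G) = ⊤ := by
    by_contra hne
    haveI := isNilpotent_of_invSub IH hφ hφp (hNinv.sup hSinv) hne
    have hle : (S : Subgroup G) ≤ N ⊔ (S : Subgroup G) := le_sup_right
    have h0 : ((S.subtype hle : Sylow s (N ⊔ (S : Subgroup G) : Subgroup G)) :
        Subgroup (N ⊔ (S : Subgroup G) : Subgroup G)).Normal := inferInstance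
    have h1 : N ⊔ (S : Subgroup G) ≤ Subgroup.normalizer ((S : Subgroup G) : Set G) := by
      apply le_normalizer_of_conj_mem
      intro g hg x hx
      have := h0.conj_mem ⟨x, hle hx⟩ (by rw [Sylow.coe_subtype, Subgroup.mem_subgroupOf]; exact hx)
        ⟨g, hg⟩
      rw [Sylow.coe_subtype, Subgroup.mem_subgroupOf] at this
      exact this
    haveI := hNSn
    have h2 := Sylow.normalizer_sup_eq_top' S hle
    have h3 : Subgroup.normalizer ((S : Subgroup G) : Set G) = ⊤ := by
      rw [← h2]; exact (sup_eq_left.mpr h1).symm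
    exact hSnn (Subgroup.normalizer_eq_top_iff.mp h3)
  -- `C_N(S) = 1`
  have hD : N ⊓ Subgroup.centralizer ((S : Subgroup G) : Set G) = ⊥ := by
    by_contra hne
    have hDn : (N ⊓ Subgroup.centralizer ((S : Subgroup G) : Set G)).Normal := by
      rw [← Subgroup.normalizer_eq_top_iff, eq_top_iff, ← hNStop]
      apply sup_le
      · apply le_normalizer_of_conj_mem
        intro n hn d hd
        have : n * d * n⁻¹ = d := by
          rw [hNc n hn d hd.1]; group
        rwa [this]
      · apply le_normalizer_of_conj_mem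
        intro t ht d hd
        have : t * d * t⁻¹ = d := by
          rw [Subgroup.mem_centralizer_iff.mp hd.2 t ht]; group
        rwa [this]
    have h1 := hU _ hDn (hNinv.inf hSinv.centralizer) hne
    apply hSnn
    rw [← Subgroup.normalizer_eq_top_iff, eq_top_iff, ← hNStop]
    apply sup_le
    · exact (h1.trans inf_le_right).trans (Subgroup.centralizer_le_normalizer _)
    · exact Subgroup.le_normalizer
  -- the trace argument
  have htr := fpf_trace hφ hp hφp (fun k h0 hk => hφ.pow hp hφp h0 hk) hNc hNinv hSinv hD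
  apply hNne
  rw [eq_bot_iff]
  intro v hv
  have h1 := htr v hv
  have h2 := hNexp v hv
  obtain ⟨a, ha⟩ := IsPGroup.iff_card.mp S.2
  have hcop : (Nat.card (S : Subgroup G)).Coprime r := by
    rw [ha]
    exact Nat.Coprime.pow_left a ((Nat.coprime_primes hs hr).mpr hsr)
  have h3 : v ^ (Nat.card (S : Subgroup G)).gcd r = 1 := pow_gcd_eq_one.mpr ⟨h1, h2⟩
  rw [hcop.gcd_eq_one, pow_one] at h3
  rw [Subgroup.mem_bot]; exact h3

end

/-- **Thompson**: a finite group with a fixed-point-free automorphism `φ` with `φ ^ p = 1`,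
`p` prime, is nilpotent. -/
theorem fpf_prime_nilpotent {p : ℕ} (hp : p.Prime) :
    ∀ (n : ℕ) (G : Type u) [Group G] [Finite G], Nat.card G = n → ∀ φ : G ≃* G, Fpf φ →
      φ ^ p = 1 → Group.IsNilpotent G := by
  intro n
  induction n using Nat.strong_induction_on with
  | _ n ih =>
    intro G _ _ hn φ hφ hφp
    have IH : FpfIH.{u} p (Nat.card G) := fun G' _ _ hlt φ' h1 h2 =>
      ih (Nat.card G') (hn ▸ hlt) G' rfl φ' h1 h2
    by_cases hs : ∀ N : Subgroup G, N.Normal → InvSub φ N → N = ⊥ ∨ N = ⊤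
    · exact isNilpotent_of_fpf_simple IH hφ hφp hs
    · push Not at hs
      obtain ⟨N₀, h1, h2, h3, h4⟩ := hs
      exact isNilpotent_of_fpf_not_simple hp IH hφ hφp ⟨N₀, h1, h2, h3, h4⟩

end Cfsg.Agent.Lib.H1
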