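import Mathlib
import Cfsg.Prelude.Def_Solvable
import Cfsg.Agent.Lib.H1.Complement
import Cfsg.Agent.Lib.H1.ActionBasic

set_option autoImplicit false
open Pointwise

namespace Cfsg.Agent.Lib.H1

variable {G : Type*} [Group G]

/-- In a Frobenius complement `H`: if `h ∈ H`, `h ≠ 1` and `g h g⁻¹ ∈ H` then `g ∈ H`. -/
theorem frob_mem_of_conj_mem {H : Subgroup G} (hH : Cfsg.IsFrobeniusComplement H) {h g : G}
    (hh : h ∈ H) (h1 : h ≠ 1) (hg : g * h * g⁻¹ ∈ H) : g ∈ H := by
  by_contra hgH
  have h0 := hH.2.2 g hgH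
  have hmem : g * h * g⁻¹ ∈ H ⊓ MulAut.conj g • H := ⟨hg, conj_mem_conj_smul hh⟩
  rw [h0, Subgroup.mem_bot] at hmem
  apply h1
  have : h = g⁻¹ * (g * h * g⁻¹) * g := by group
  rw [this, hmem]
  group

theorem frob_mem_of_conj_mem' {H : Subgroup G} (hH : Cfsg.IsFrobeniusComplement H) {h g : G}
    (hh : h ∈ H) (h1 : h ≠ 1) (hg : g⁻¹ * h * g ∈ H) : g ∈ H := by
  have := frob_mem_of_conj_mem hH (g := g⁻¹) hh h1 (by simpa using hg)
  simpa using this

theorem not_mem_frobeniusKernel_iff {H : Subgroup G} {x : G} :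
    x ∉ Cfsg.frobeniusKernel H ↔ x ≠ 1 ∧ ∃ g : G, x ∈ MulAut.conj g • H := by
  unfold Cfsg.frobeniusKernel
  simp only [Set.mem_ofPred_eq, not_or, not_forall, not_not]

theorem one_mem_frobeniusKernel (H : Subgroup G) : (1 : G) ∈ Cfsg.frobeniusKernel H :=
  Or.inl rfl

theorem conj_mem_frobeniusKernel {H : Subgroup G} {x : G} (hx : x ∈ Cfsg.frobeniusKernel H)
    (c : G) : c * x * c⁻¹ ∈ Cfsg.frobeniusKernel H := by
  rcases hx with rfl | hx
  · left; group
  · right
    intro g hg
    apply hx (c⁻¹ * g)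
    rw [mem_conj_smul_iff] at hg ⊢
    have : (c⁻¹ * g)⁻¹ * x * (c⁻¹ * g) = g⁻¹ * (c * x * c⁻¹) * g := by group
    rw [this]
    exact hg

theorem inv_mem_frobeniusKernel {H : Subgroup G} {x : G} (hx : x ∈ Cfsg.frobeniusKernel H) :
    x⁻¹ ∈ Cfsg.frobeniusKernel H := by
  rcases hx with rfl | hx
  · left; simp
  · right
    intro g hg
    apply hx g
    have := Subgroup.inv_mem _ hg
    simpa using this

/-- The nonidentity elements of the conjugates of `H` are parametrized by
`(G ⧸ H) × (H ∖ {1})`. -/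
theorem frob_card_compl [Finite G] {H : Subgroup G} (hH : Cfsg.IsFrobeniusComplement H) :
    Nat.card {x : G // x ∉ Cfsg.frobeniusKernel H} = H.index * Nat.card {h : H // h ≠ 1} := by
  let f : (G ⧸ H) × {h : H // h ≠ 1} → {x : G // x ∉ Cfsg.frobeniusKernel H} := fun qh =>
    ⟨qh.1.out * (qh.2 : H) * qh.1.out⁻¹, by
      rw [not_mem_frobeniusKernel_iff]
      refine ⟨?_, qh.1.out, conj_mem_conj_smul (qh.2 : H).2⟩
      intro h1
      apply qh.2.2
      have : ((qh.2 : H) : G) = qh.1.out⁻¹ * (qh.1.out * (qh.2 : H) * qh.1.out⁻¹) * qh.1.out := by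
        group
      rw [h1] at this
      apply Subtype.ext
      rw [this]
      simp⟩
  have hf : Function.Bijective f := by
    constructor
    · rintro ⟨q, h⟩ ⟨q', h'⟩ hqq
      have e : q.out * (h : H) * q.out⁻¹ = q'.out * (h' : H) * q'.out⁻¹ := congrArg Subtype.val hqq
      have e2 : (q'.out⁻¹ * q.out) * (h : H) * (q'.out⁻¹ * q.out)⁻¹ = (h' : H) := by
        have : (q'.out⁻¹ * q.out) * (h : H) * (q'.out⁻¹ * q.out)⁻¹ =
            q'.out⁻¹ * (q.out * (h : H) * q.out⁻¹) * q'.out := by group
        rw [this, e]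
        group
      have hne : ((h : H) : G) ≠ 1 := fun h0 => h.2 (Subtype.ext h0)
      have hmem : q'.out⁻¹ * q.out ∈ H :=
        frob_mem_of_conj_mem hH (h : H).2 hne (e2 ▸ (h' : H).2)
      have hq : q' = q := by
        rw [← q.out_eq', ← q'.out_eq']
        exact QuotientGroup.eq.mpr hmem
      subst hq
      have : ((h : H) : G) = (h' : H) := by
        have := e2
        simp only [inv_mul_cancel, one_mul, inv_one, mul_one] at this
        exact this
      have : h = h' := Subtype.ext (Subtype.ext this)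
      rw [this]
    · rintro ⟨x, hx⟩
      rw [not_mem_frobeniusKernel_iff] at hx
      obtain ⟨hx1, c, hc⟩ := hx
      rw [mem_conj_smul_iff] at hc
      obtain ⟨h₀, hh₀⟩ := QuotientGroup.mk_out_eq_mul H c
      set q : G ⧸ H := QuotientGroup.mk c with hq
      have hmem : q.out⁻¹ * x * q.out ∈ H := by
        rw [hh₀]
        have : (c * (h₀ : G))⁻¹ * x * (c * h₀) = (h₀ : G)⁻¹ * (c⁻¹ * x * c) * h₀ := by group
        rw [this]
        exact H.mul_mem (H.mul_mem (H.inv_mem h₀.2) hc) h₀.2
      have hne : (⟨q.out⁻¹ * x * q.out, hmem⟩ : H) ≠ 1 := by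
        intro h0
        have h0' : q.out⁻¹ * x * q.out = 1 := congrArg Subtype.val h0
        apply hx1
        have : x = q.out * (q.out⁻¹ * x * q.out) * q.out⁻¹ := by group
        rw [this, h0']
        group
      refine ⟨(q, ⟨⟨q.out⁻¹ * x * q.out, hmem⟩, hne⟩), ?_⟩
      apply Subtype.ext
      show q.out * (q.out⁻¹ * x * q.out) * q.out⁻¹ = x
      group
  rw [← Nat.card_eq_of_bijective f hf, Nat.card_prod, Subgroup.index_eq_card]

theorem card_subtype_ne_add_one {α : Type*} [Finite α] (a₀ : α) :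
    Nat.card {a : α // a ≠ a₀} + 1 = Nat.card α := by
  classical
  have := Nat.card_congr (Equiv.sumCompl (fun a : α => a = a₀))
  rw [Nat.card_sum] at this
  rw [← this, add_comm]
  congr 1
  exact (Nat.card_unique).symm

theorem card_ne_one_add_one [Finite G] (H : Subgroup G) :
    Nat.card {h : H // h ≠ 1} + 1 = Nat.card H :=
  card_subtype_ne_add_one (1 : H)

/-- The Frobenius kernel has exactly `[G : H]` elements. -/
theorem frob_card_kernel [Finite G] {H : Subgroup G} (hH : Cfsg.IsFrobeniusComplement H) :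
    Nat.card (Cfsg.frobeniusKernel H) = H.index := by
  classical
  have h1 := Nat.card_congr (Equiv.Set.sumCompl (Cfsg.frobeniusKernel H))
  rw [Nat.card_sum] at h1
  have h2 : Nat.card ↥(Cfsg.frobeniusKernel H)ᶜ = H.index * Nat.card {h : H // h ≠ 1} :=
    frob_card_compl hH
  have h3 := card_ne_one_add_one H
  have h4 := H.card_mul_index
  rw [h2] at h1
  have : Nat.card (Cfsg.frobeniusKernel H) + H.index * Nat.card {h : H // h ≠ 1} =
      H.index + H.index * Nat.card {h : H // h ≠ 1} := by
    rw [h1, ← h4, ← h3]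
    ring
  exact Nat.add_right_cancel this

/-- The index of a Frobenius complement is `≡ 1` modulo its order. -/
theorem frob_index_mod [Finite G] {H : Subgroup G} (hH : Cfsg.IsFrobeniusComplement H) :
    H.index % Nat.card H = 1 % Nat.card H := by
  have hsm : ∀ (h : H) (g : G),
      h • (QuotientGroup.mk g : G ⧸ H) = QuotientGroup.mk ((h : G) * g) := fun _ _ => rfl
  let S : SubMulAction H (G ⧸ H) :=
    { carrier := {q | q ≠ QuotientGroup.mk 1}
      smul_mem' := by
        intro h q hq hcontra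
        apply hq
        have h1 : q = h⁻¹ • (h • q) := by rw [inv_smul_smul]
        rw [h1, hcontra, hsm]
        apply QuotientGroup.eq.mpr
        simp }
  have hstab : ∀ x : S, (MulAction.stabilizer H x).index = Nat.card H := by
    intro x
    have hbot : MulAction.stabilizer H x = ⊥ := by
      rw [eq_bot_iff]
      intro h hh
      rw [Subgroup.mem_bot]
      by_contra hne
      rw [SubMulAction.stabilizer_of_subMul, MulAction.mem_stabilizer_iff] at hh
      obtain ⟨g, hg⟩ := QuotientGroup.mk_surjective (x : G ⧸ H)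
      have hgH : g ∉ H := by
        intro hgH
        apply x.2
        rw [← hg]
        apply QuotientGroup.eq.mpr
        simpa using hgH
      rw [← hg, hsm] at hh
      have h2 : ((h : G) * g)⁻¹ * g ∈ H := QuotientGroup.eq.mp hh
      have h3 : g⁻¹ * ((h : G)⁻¹) * g ∈ H := by
        have : ((h : G) * g)⁻¹ * g = g⁻¹ * ((h : G)⁻¹) * g := by group
        rwa [this] at h2
      have hne' : ((h : G)⁻¹) ≠ 1 := by
        intro h0
        apply hne
        apply Subtype.ext
        simpa using h0
      exact hgH (frob_mem_of_conj_mem' hH (H.inv_mem h.2) hne' h3)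
    rw [hbot, Subgroup.index_bot]
  have hdvd : Nat.card H ∣ Nat.card S := dvd_card_of_forall_index_stabilizer _ hstab
  have hS : Nat.card S + 1 = H.index := by
    rw [Subgroup.index_eq_card]
    exact card_subtype_ne_add_one (QuotientGroup.mk 1 : G ⧸ H)
  obtain ⟨m, hm⟩ := hdvd
  rw [← hS, hm, add_comm, Nat.add_mul_mod_self_left]

/-- An involution `s` acting without nonidentity fixed points on a finite normal subgroup `K`
inverts `K`, and `K` is abelian. -/
theorem inverts_of_fpf_involution [Finite G] {K : Subgroup G} [K.Normal] {s : G}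
    (hs : s * s = 1) (hfpf : K ⊓ Subgroup.centralizer {s} = ⊥) :
    (∀ k ∈ K, s * k * s⁻¹ = k⁻¹) ∧ IsMulCommutative K := by
  let φ : K →* K := (MulAut.conjNormal s : MulAut K).toMonoidHom
  have hφa : ∀ k : K, ((φ k : K) : G) = s * k * s⁻¹ := fun k => MulAut.conjNormal_apply s k
  have hsinv : s⁻¹ = s := inv_eq_of_mul_eq_one_left hs
  have hφ : MonoidHom.FixedPointFree φ := by
    intro k hk
    have h1 : s * k * s⁻¹ = k := by rw [← hφa, hk]
    have h2 : (k : G) ∈ K ⊓ Subgroup.centralizer {s} := by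
      rw [Subgroup.mem_inf]
      refine ⟨k.2, ?_⟩
      rw [Subgroup.mem_centralizer_iff]
      intro z hz
      rw [Set.mem_singleton_iff] at hz
      rw [hz]
      calc s * k = s * k * s⁻¹ * s := by group
        _ = k * s := by rw [h1]
    rw [hfpf, Subgroup.mem_bot] at h2
    exact Subtype.ext h2
  have h2 : Function.Involutive φ := by
    intro k
    apply Subtype.ext
    rw [hφa, hφa, hsinv]
    calc s * (s * k * s) * s = (s * s) * k * (s * s) := by group
      _ = k := by rw [hs]; group
  refine ⟨?_, ?_⟩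
  · intro k hk
    have := congrFun (hφ.coe_eq_inv_of_involutive h2) ⟨k, hk⟩
    have h3 := congrArg Subtype.val this
    rw [hφa] at h3
    exact h3
  · exact ⟨⟨fun a b => hφ.commute_all_of_involutive h2 a b⟩⟩

end Cfsg.Agent.Lib.H1
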