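import Mathlib
import Cfsg.Agent.Lib.H18.FrobeniusThm
import Cfsg.Agent.Lib.H1.Frobenius
import Cfsg.Agent.Lib.H1.Complement
import Cfsg.Agent.Lib.H1.PCore
import Cfsg.Agent.Lib.H1.SchurZassenhaus

/-! Conjugacy of Frobenius complements (helper1), on top of Frobenius' theorem (helper18). -/

set_option autoImplicit false
open Pointwise
open Cfsg Cfsg.Agent.Lib.H18

namespace Cfsg.Agent.Lib.H1

universe u

variable {G : Type u} [Group G]

/-- generalized malnormality of a Frobenius complement -/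
theorem frob_conj_inf {H : Subgroup G} (hH : IsFrobeniusComplement H) {a b u : G} (hu1 : u ≠ 1)
    (hua : u ∈ MulAut.conj a • H) (hub : u ∈ MulAut.conj b • H) : a⁻¹ * b ∈ H := by
  rw [mem_conj_smul_iff] at hua hub
  have h1 : a⁻¹ * u * a ≠ 1 := by
    intro h
    apply hu1
    have : u = a * (a⁻¹ * u * a) * a⁻¹ := by group
    rw [this, h]; group
  apply frob_mem_of_conj_mem' hH hua h1
  have : (a⁻¹ * b)⁻¹ * (a⁻¹ * u * a) * (a⁻¹ * b) = b⁻¹ * u * b := by group
  rw [this]
  exact hub

theorem conj_isFrobeniusComplement {H : Subgroup G} (hH : IsFrobeniusComplement H) (g : G) :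
    IsFrobeniusComplement (MulAut.conj g • H) := by
  refine ⟨?_, ?_, ?_⟩
  · intro h
    apply hH.1
    have := congrArg (fun X => MulAut.conj g⁻¹ • X) h
    simp only [conj_smul_conj_smul, inv_mul_cancel, map_one, one_smul, Subgroup.smul_bot] at this
    exact this
  · intro h
    apply hH.2.1
    have := congrArg (fun X => MulAut.conj g⁻¹ • X) h
    simp only [conj_smul_conj_smul, inv_mul_cancel, map_one, one_smul] at this
    rw [this, eq_top_iff]
    intro x _
    rw [mem_conj_smul_iff]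
    exact Subgroup.mem_top _
  · intro x hx
    rw [eq_bot_iff]
    intro u hu
    rw [Subgroup.mem_bot]
    by_contra hu1
    obtain ⟨hu_a, hu_b⟩ := hu
    have hu_b' : u ∈ MulAut.conj (x * g) • H := by
      have : MulAut.conj (x * g) • H = MulAut.conj x • MulAut.conj g • H :=
        (conj_smul_conj_smul x g H).symm
      rw [this]; exact hu_b
    have h1 := frob_conj_inf hH hu1 hu_a hu_b'
    apply hx
    rw [mem_conj_smul_iff]
    have : g⁻¹ * x * g = g⁻¹ * (x * g) := by group
    rw [this]; exact h1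

variable [Finite G]

/-- nonidentity elements of a Frobenius complement have no fixed points in the kernel -/
theorem frobKer_inf_centralizer {H : Subgroup G} (hH : IsFrobeniusComplement H) {h : G}
    (hh : h ∈ H) (h1 : h ≠ 1) : frobKer H hH ⊓ Subgroup.centralizer {h} = ⊥ := by
  rw [eq_bot_iff]
  intro k hk
  obtain ⟨hkK, hkc⟩ := hk
  have hkc' : k ∈ Subgroup.centralizer {h} := hkc
  rw [Subgroup.mem_centralizer_iff] at hkc'
  have hcomm : h * k = k * h := hkc' h rfl
  have h2 : k * h * k⁻¹ ∈ H := by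
    have : k * h * k⁻¹ = h := by rw [← hcomm]; group
    rw [this]; exact hh
  have hkH : k ∈ H := frob_mem_of_conj_mem hH hh h1 h2
  have : k ∈ frobKer H hH ⊓ H := ⟨hkK, hkH⟩
  rw [frobKer_inf] at this
  exact this

/-- every element outside the kernel lies in a conjugate of the complement -/
theorem exists_conj_of_not_mem_frobKer {H : Subgroup G} (hH : IsFrobeniusComplement H) {x : G}
    (hx : x ∉ frobKer H hH) : x ≠ 1 ∧ ∃ g : G, x ∈ MulAut.conj g • H := by
  rw [mem_frobKer] at hx
  exact not_mem_frobeniusKernel_iff.mp hx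

/-- a normal subgroup of a Frobenius group lies in the kernel or contains it -/
theorem frobKer_le_or_le {H : Subgroup G} (hH : IsFrobeniusComplement H) (N : Subgroup G)
    [hN : N.Normal] : N ≤ frobKer H hH ∨ frobKer H hH ≤ N := by
  classical
  by_cases hle : N ≤ frobKer H hH
  · exact Or.inl hle
  · right
    rw [SetLike.not_le_iff_exists] at hle
    obtain ⟨n, hnN, hnK⟩ := hle
    obtain ⟨hn1, g, hg⟩ := exists_conj_of_not_mem_frobKer hH hnK
    rw [mem_conj_smul_iff] at hg
    set n' := g⁻¹ * n * g with hn'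
    have hn'N : n' ∈ N := by
      have := hN.conj_mem n hnN g⁻¹
      simpa [hn'] using this
    have hn'1 : n' ≠ 1 := by
      intro h
      apply hn1
      have : n = g * n' * g⁻¹ := by rw [hn']; group
      rw [this, h]; group
    set K := frobKer H hH with hK
    let f : K → K := fun k => ⟨(k : G) * n' * (k : G)⁻¹ * n'⁻¹, by
      have h1 : n' * (k : G)⁻¹ * n'⁻¹ ∈ K := (frobKer_normal H hH).conj_mem _ (K.inv_mem k.2) n'
      have : (k : G) * n' * (k : G)⁻¹ * n'⁻¹ = (k : G) * (n' * (k : G)⁻¹ * n'⁻¹) := by group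
      rw [this]
      exact K.mul_mem k.2 h1⟩
    have hfN : ∀ k : K, ((f k : K) : G) ∈ N := by
      intro k
      exact N.mul_mem (hN.conj_mem n' hn'N k) (N.inv_mem hn'N)
    have hfinj : Function.Injective f := by
      intro a b hab
      have h1 : (a : G) * n' * (a : G)⁻¹ * n'⁻¹ = (b : G) * n' * (b : G)⁻¹ * n'⁻¹ :=
        congrArg Subtype.val hab
      have h2 : (a : G) * n' * (a : G)⁻¹ = (b : G) * n' * (b : G)⁻¹ := mul_right_cancel h1
      have h3 : (b : G)⁻¹ * (a : G) ∈ K ⊓ Subgroup.centralizer {n'} := by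
        refine ⟨K.mul_mem (K.inv_mem b.2) a.2, ?_⟩
        show (b : G)⁻¹ * (a : G) ∈ Subgroup.centralizer {n'}
        rw [Subgroup.mem_centralizer_iff]
        intro y hy
        rw [Set.mem_singleton_iff] at hy
        subst hy
        calc n' * ((b : G)⁻¹ * (a : G)) = (b : G)⁻¹ * ((b : G) * n' * (b : G)⁻¹) * (a : G) := by group
          _ = (b : G)⁻¹ * ((a : G) * n' * (a : G)⁻¹) * (a : G) := by rw [h2]
          _ = ((b : G)⁻¹ * (a : G)) * n' := by group
      have h4 : (b : G)⁻¹ * (a : G) ∈ frobKer H hH ⊓ Subgroup.centralizer {n'} := h3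
      rw [frobKer_inf_centralizer hH hg hn'1, Subgroup.mem_bot, inv_mul_eq_one] at h4
      exact Subtype.ext h4.symm
    have hfsurj : Function.Surjective f := Finite.injective_iff_surjective.mp hfinj
    intro k hk
    obtain ⟨k', hk'⟩ := hfsurj ⟨k, hk⟩
    have := hfN k'
    rw [hk'] at this
    exact this

/-- A subgroup meeting the Frobenius kernel trivially is conjugate into the complement. -/
theorem exists_le_conj_of_inf_frobKer_eq_bot {H : Subgroup G} (hH : IsFrobeniusComplement H) :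
    ∀ n : ℕ, ∀ X : Subgroup G, Nat.card X = n → X ⊓ frobKer H hH = ⊥ →
      ∃ g : G, X ≤ MulAut.conj g • H := by
  intro n
  induction n using Nat.strong_induction_on with
  | _ n IH =>
  intro X hXn hXK
  by_cases hXbot : X = ⊥
  · exact ⟨1, hXbot ▸ bot_le⟩
  obtain ⟨x₁, hx₁X, hx₁1⟩ := (Subgroup.ne_bot_iff_exists_ne_one.mp hXbot |>.elim
    (fun a ha => ⟨(a : G), a.2, fun h => ha (Subtype.ext h)⟩) :
      ∃ x₁ : G, x₁ ∈ X ∧ x₁ ≠ 1)
  have hx₁K : x₁ ∉ frobKer H hH := by
    intro h
    have : x₁ ∈ X ⊓ frobKer H hH := ⟨hx₁X, h⟩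
    rw [hXK, Subgroup.mem_bot] at this
    exact hx₁1 this
  obtain ⟨-, g, hg⟩ := exists_conj_of_not_mem_frobKer hH hx₁K
  set Hg := MulAut.conj g • H with hHg
  have hHgF : IsFrobeniusComplement Hg := conj_isFrobeniusComplement hH g
  by_cases hXle : X ≤ Hg
  · exact ⟨g, hXle⟩
  -- `Y = X ⊓ Hg` is a Frobenius complement in `X`
  set Y' : Subgroup X := Hg.subgroupOf X with hY'
  have hY'F : IsFrobeniusComplement Y' := by
    refine ⟨?_, ?_, ?_⟩
    · intro h
      have : (⟨x₁, hx₁X⟩ : X) ∈ Y' := by rw [hY', Subgroup.mem_subgroupOf]; exact hg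
      rw [h, Subgroup.mem_bot] at this
      exact hx₁1 (congrArg Subtype.val this)
    · intro h
      rw [hY', Subgroup.subgroupOf_eq_top] at h
      exact hXle h
    · intro x hx
      rw [eq_bot_iff]
      intro u hu
      rw [Subgroup.mem_bot]
      by_contra hu1
      obtain ⟨hu_a, hu_b⟩ := hu
      have hu_a' : (u : G) ∈ MulAut.conj (1 : G) • Hg := by
        rw [map_one, one_smul]
        exact Subgroup.mem_subgroupOf.mp hu_a
      have hu_b' : (u : G) ∈ MulAut.conj (x : G) • Hg := by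
        have h2 : u ∈ MulAut.conj x • Y' := hu_b
        rw [mem_conj_smul_iff, hY', Subgroup.mem_subgroupOf] at h2
        rw [mem_conj_smul_iff]
        simpa using h2
      have hu1' : (u : G) ≠ 1 := fun h => hu1 (Subtype.ext h)
      have h3 := frob_conj_inf hHgF hu1' hu_a' hu_b'
      apply hx
      rw [hY', Subgroup.mem_subgroupOf]
      simpa using h3
  -- its kernel
  set N' : Subgroup X := frobKer Y' hY'F with hN'
  haveI hN'n : N'.Normal := frobKer_normal Y' hY'F
  set N : Subgroup G := N'.map X.subtype with hN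
  have hNX : N ≤ X := Subgroup.map_subtype_le N'
  have hN'card : Nat.card N' = Y'.index := card_frobKer Y' hY'F
  have hNne : N ≠ ⊥ := by
    intro h
    have h1 : N' = ⊥ := by
      rw [hN] at h
      exact (Subgroup.map_eq_bot_iff_of_injective N' X.subtype_injective).mp h
    rw [h1, Subgroup.card_bot] at hN'card
    exact hY'F.2.1 (Subgroup.index_eq_one.mp hN'card.symm)
  have hNcard : Nat.card N < n := by
    rw [hN, Subgroup.card_map_of_injective X.subtype_injective, ← hXn]
    apply card_lt_of_ne_top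
    intro h
    have h1 : frobKer Y' hY'F ⊓ Y' = ⊥ := frobKer_inf Y' hY'F
    rw [← hN', h, top_inf_eq] at h1
    exact hY'F.1 h1
  have hNK : N ⊓ frobKer H hH = ⊥ := by
    rw [eq_bot_iff, ← hXK]
    exact inf_le_inf_right _ hNX
  obtain ⟨g', hg'⟩ := IH _ hNcard N rfl hNK
  refine ⟨g', ?_⟩
  obtain ⟨m, hmN, hm1⟩ := (Subgroup.ne_bot_iff_exists_ne_one.mp hNne |>.elim
    (fun a ha => ⟨(a : G), a.2, fun h => ha (Subtype.ext h)⟩) :
      ∃ m : G, m ∈ N ∧ m ≠ 1)
  intro x hxX
  -- `x m x⁻¹ ∈ N`
  have hconj : x * m * x⁻¹ ∈ N := by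
    obtain ⟨m', hm'N, rfl⟩ := hmN
    have := hN'n.conj_mem m' hm'N ⟨x, hxX⟩
    exact ⟨_, this, rfl⟩
  have h1 : x * m * x⁻¹ ∈ MulAut.conj g' • H := hg' hconj
  have h2 : x * m * x⁻¹ ∈ MulAut.conj (x * g') • H := by
    rw [← conj_smul_conj_smul]
    exact conj_mem_conj_smul (hg' hmN)
  have h3 : x * m * x⁻¹ ≠ 1 := by
    intro h
    apply hm1
    have : m = x⁻¹ * (x * m * x⁻¹) * x := by group
    rw [this, h]; group
  have h4 := frob_conj_inf hH h3 h1 h2
  rw [mem_conj_smul_iff]
  have : g'⁻¹ * x * g' = g'⁻¹ * (x * g') := by group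
  rw [this]; exact h4

theorem index_le_index_of_card_le {H H₀ : Subgroup G} (hle : Nat.card H₀ ≤ Nat.card H) :
    H.index ≤ H₀.index := by
  by_contra hlt
  rw [not_le] at hlt
  have h1 := H.card_mul_index
  have h2 := H₀.card_mul_index
  have h3 : Nat.card H₀ * H₀.index < Nat.card H * H.index :=
    Nat.mul_lt_mul_of_le_of_lt hle hlt Nat.card_pos
  rw [h1, h2] at h3
  exact lt_irrefl _ h3

/-- the smaller Frobenius complement meets the kernel of the bigger one trivially -/
theorem frob_inf_frobKer_eq_bot {H H₀ : Subgroup G} (hH : IsFrobeniusComplement H)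
    (hH₀ : IsFrobeniusComplement H₀) (hle : Nat.card H₀ ≤ Nat.card H) :
    H₀ ⊓ frobKer H hH = ⊥ := by
  have h0 : H₀ ⊓ frobKer H₀ hH₀ = ⊥ := by rw [inf_comm]; exact frobKer_inf H₀ hH₀
  rcases frobKer_le_or_le hH (frobKer H₀ hH₀) with h | h
  · have hcard : Nat.card (frobKer H hH) ≤ Nat.card (frobKer H₀ hH₀) := by
      rw [card_frobKer, card_frobKer]
      exact index_le_index_of_card_le hle
    have heq : frobKer H₀ hH₀ = frobKer H hH := Subgroup.eq_of_le_of_card_ge h hcard
    rw [← heq]; exact h0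
  · rw [eq_bot_iff, ← h0]
    exact inf_le_inf_left _ h

/-- **S0037**: the smaller of two Frobenius complements is conjugate into the larger. -/
theorem frob_complement_conj_le {H H₀ : Subgroup G} (hH : IsFrobeniusComplement H)
    (hH₀ : IsFrobeniusComplement H₀) (hle : Nat.card H₀ ≤ Nat.card H) :
    ∃ g : G, MulAut.conj g • H₀ ≤ H := by
  obtain ⟨g, hg⟩ := exists_le_conj_of_inf_frobKer_eq_bot hH _ H₀ rfl
    (frob_inf_frobKer_eq_bot hH hH₀ hle)
  refine ⟨g⁻¹, ?_⟩
  rw [conj_smul_le_iff]
  intro h hh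
  have := hg hh
  rw [mem_conj_smul_iff] at this
  simpa using this

end Cfsg.Agent.Lib.H1
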