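import Mathlib
import Cfsg.Agent.Lib.H1.FrobeniusConj
import Cfsg.Agent.Lib.H1.FpfAction
import Cfsg.Agent.Lib.H1.CoprimeSylow
import Cfsg.Agent.Lib.H1.CharSubgroup

/-! All Frobenius complements of a finite group are conjugate (helper1). -/

set_option autoImplicit false
open Pointwise
open scoped IsMulCommutative
open Cfsg Cfsg.Agent.Lib.H18

namespace Cfsg.Agent.Lib.H1

universe u

variable {G : Type u} [Group G]

/-- `Q ⟨x⟩` is solvable when `Q` is solvable and `x` normalizes `Q`. -/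
theorem isSolvable_sup_zpowers {Q : Subgroup G} {x : G} (hQ : Group.IsSolvable Q)
    (hx : x ∈ Subgroup.normalizer (Q : Set G)) : Group.IsSolvable ↥(Q ⊔ Subgroup.zpowers x) := by
  set F := Q ⊔ Subgroup.zpowers x with hF
  have hZn : Subgroup.zpowers x ≤ Subgroup.normalizer (Q : Set G) := Subgroup.zpowers_le.mpr hx
  have hFn : F ≤ Subgroup.normalizer (Q : Set G) := sup_le Subgroup.le_normalizer hZn
  haveI hQ'n : (Q.subgroupOf F).Normal := Subgroup.normal_subgroupOf_of_le_normalizer hFn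
  haveI : Group.IsSolvable (Q.subgroupOf F) :=
    Group.isSolvable_of_isSolvable_injective
      (f := (Subgroup.subgroupOfEquivOfLe (le_sup_left : Q ≤ F)).toMonoidHom)
      (Subgroup.subgroupOfEquivOfLe (le_sup_left : Q ≤ F)).injective
  -- the quotient is a quotient of the cyclic group
  let g : Subgroup.zpowers x →* F ⧸ Q.subgroupOf F :=
    (QuotientGroup.mk' (Q.subgroupOf F)).comp (Subgroup.inclusion (le_sup_right : _ ≤ F))
  have hg : Function.Surjective g := by
    intro y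
    obtain ⟨a, rfl⟩ := QuotientGroup.mk'_surjective _ y
    obtain ⟨q, hq, z, hz, haqz⟩ := mem_sup_of_le_normalizer hZn a.2
    refine ⟨⟨z, hz⟩, ?_⟩
    show (QuotientGroup.mk' (Q.subgroupOf F)) (Subgroup.inclusion le_sup_right ⟨z, hz⟩) =
      (QuotientGroup.mk' (Q.subgroupOf F)) a
    rw [QuotientGroup.mk'_apply, QuotientGroup.mk'_apply, QuotientGroup.eq, Subgroup.mem_subgroupOf]
    have : (((Subgroup.inclusion (le_sup_right : Subgroup.zpowers x ≤ F) ⟨z, hz⟩)⁻¹ * a : F) : G)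
        = z⁻¹ * (a : G) := rfl
    rw [this, haqz]
    have hzn := hZn hz
    have h2 : z⁻¹ * (q * z) = z⁻¹ * q * z⁻¹⁻¹ := by group
    rw [h2]
    exact (Subgroup.mem_normalizer_iff.mp (Subgroup.inv_mem _ hzn) q).mp hq
  haveI : Group.IsSolvable (Subgroup.zpowers x) := isSolvable_of_isMulCommutative _
  haveI : Group.IsSolvable (F ⧸ Q.subgroupOf F) := Group.isSolvable_of_surjective hg
  exact Group.isSolvable_of_ker_le_range (Q.subgroupOf F).subtype
    (QuotientGroup.mk' (Q.subgroupOf F)) (by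
      rw [QuotientGroup.ker_mk', Subgroup.range_subtype])

/-- the normalizer of `R` normalizes `Z(R) = R ⊓ C(R)` -/
theorem normalizer_le_normalizer_inf_centralizer (R : Subgroup G) :
    Subgroup.normalizer (R : Set G) ≤
      Subgroup.normalizer ((R ⊓ Subgroup.centralizer (R : Set G) : Subgroup G) : Set G) := by
  have key : ∀ a ∈ Subgroup.normalizer (R : Set G), ∀ x ∈ R ⊓ Subgroup.centralizer (R : Set G),
      a * x * a⁻¹ ∈ R ⊓ Subgroup.centralizer (R : Set G) := by
    intro a ha x hx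
    refine ⟨(Subgroup.mem_normalizer_iff.mp ha x).mp hx.1, ?_⟩
    show a * x * a⁻¹ ∈ Subgroup.centralizer (R : Set G)
    rw [Subgroup.mem_centralizer_iff]
    intro y hy
    have hy' : a⁻¹ * y * a ∈ R := by
      have := (Subgroup.mem_normalizer_iff.mp (Subgroup.inv_mem _ ha) y).mp hy
      simpa using this
    have hc : (a⁻¹ * y * a) * x = x * (a⁻¹ * y * a) :=
      (Subgroup.mem_centralizer_iff.mp hx.2) _ hy'
    calc y * (a * x * a⁻¹) = a * ((a⁻¹ * y * a) * x) * a⁻¹ := by group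
      _ = a * (x * (a⁻¹ * y * a)) * a⁻¹ := by rw [hc]
      _ = a * x * a⁻¹ * y := by group
  intro a ha
  rw [Subgroup.mem_normalizer_iff]
  intro x
  refine ⟨key a ha x, fun h => ?_⟩
  have := key a⁻¹ (Subgroup.inv_mem _ ha) _ h
  have e : a⁻¹ * (a * x * a⁻¹) * a⁻¹⁻¹ = x := by group
  rwa [e] at this

theorem exists_ne_one_of_ne_bot {X : Subgroup G} (h : X ≠ ⊥) : ∃ x ∈ X, x ≠ 1 := by
  obtain ⟨a, ha⟩ := Subgroup.ne_bot_iff_exists_ne_one.mp h
  exact ⟨(a : G), a.2, fun h' => ha (Subtype.ext h')⟩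

theorem IsSylowOf.ne_bot [Finite G] {q : ℕ} [Fact q.Prime] {M Q : Subgroup G}
    (hQ : IsSylowOf q M Q) (hq : q ∣ Nat.card M) : Q ≠ ⊥ := by
  intro h
  have h1 := hQ.card_eq
  rw [h, Subgroup.card_bot] at h1
  have h2 : 1 ≤ (Nat.card M).factorization q :=
    (Nat.Prime.dvd_iff_one_le_factorization Fact.out Nat.card_pos.ne').mp hq
  have h3 : q ^ 1 ≤ q ^ (Nat.card M).factorization q :=
    Nat.pow_le_pow_right (Fact.out : q.Prime).pos h2
  have h4 := (Fact.out : q.Prime).two_le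
  rw [pow_one] at h3
  omega

variable [Finite G]

/-- A Frobenius complement contained in another one is equal to it. -/
theorem frob_complement_eq_of_le {H H₀ : Subgroup G} (hH : IsFrobeniusComplement H)
    (hH₀ : IsFrobeniusComplement H₀) (hle : H₀ ≤ H) : H₀ = H := by
  classical
  by_contra hne
  have hlt : Nat.card H₀ < Nat.card H :=
    lt_of_le_of_ne (Subgroup.card_le_of_le hle)
      (fun h => hne (Subgroup.eq_of_le_of_card_ge hle h.ge))
  -- `M = K₀ ⊓ H ≠ ⊥`
  have hMne : frobKer H₀ hH₀ ⊓ H ≠ ⊥ := by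
    intro h
    obtain ⟨g, hg⟩ := exists_le_conj_of_inf_frobKer_eq_bot hH₀ _ H rfl
      (by rw [inf_comm]; exact h)
    have := Subgroup.card_le_of_le hg
    rw [card_conj_smul] at this
    omega
  set M := frobKer H₀ hH₀ ⊓ H with hMdef
  have hMK₀ : M ≤ frobKer H₀ hH₀ := inf_le_left
  have hMH : M ≤ H := inf_le_right
  have hHM : H ≤ Subgroup.normalizer (M : Set G) := by
    intro h hh
    rw [Subgroup.mem_normalizer_iff]
    intro x
    have hn := frobKer_normal H₀ hH₀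
    constructor
    · rintro ⟨hx1, hx2⟩
      exact ⟨hn.conj_mem x hx1 h, H.mul_mem (H.mul_mem hh hx2) (H.inv_mem hh)⟩
    · rintro ⟨hx1, hx2⟩
      constructor
      · have := hn.conj_mem _ hx1 h⁻¹
        simpa [mul_assoc] using this
      · have := H.mul_mem (H.mul_mem (H.inv_mem hh) hx2) hh
        simpa [mul_assoc] using this
  -- an element of prime order in `H₀`
  have hcard₀ : Nat.card H₀ ≠ 1 := fun h => hH₀.1 (Subgroup.card_eq_one.mp h)
  obtain ⟨p, hp, hpdvd⟩ := Nat.exists_prime_and_dvd hcard₀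
  haveI : Fact p.Prime := ⟨hp⟩
  obtain ⟨h₀', hh₀'⟩ := exists_prime_orderOf_dvd_card' p hpdvd
  set h₀ : G := (h₀' : G) with hh₀
  have hh₀H₀ : h₀ ∈ H₀ := h₀'.2
  have hh₀ord : orderOf h₀ = p := by rw [hh₀, Subgroup.orderOf_coe]; exact hh₀'
  have hh₀1 : h₀ ≠ 1 := by
    intro h; rw [h, orderOf_one] at hh₀ord; exact hp.one_lt.ne hh₀ord
  have hh₀p : h₀ ^ p = 1 := by
    have := pow_orderOf_eq_one h₀
    rwa [hh₀ord] at this
  -- `⟨h₀⟩` acts coprimely on `M`
  have hfpfK₀ : ∀ a ∈ H₀, a ≠ 1 → frobKer H₀ hH₀ ⊓ Subgroup.centralizer {a} = ⊥ :=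
    fun a ha ha1 => frobKer_inf_centralizer hH₀ ha ha1
  have hfpfM : ∀ a ∈ Subgroup.zpowers h₀, a ≠ 1 → M ⊓ Subgroup.centralizer {a} = ⊥ := by
    intro a ha ha1
    rw [eq_bot_iff, ← hfpfK₀ a (Subgroup.zpowers_le.mpr hh₀H₀ ha) ha1]
    exact inf_le_inf_right _ hMK₀
  have hAM : Subgroup.zpowers h₀ ≤ Subgroup.normalizer (M : Set G) :=
    (Subgroup.zpowers_le.mpr (hle hh₀H₀)).trans hHM
  have hcaM : CoprimeAction (Subgroup.zpowers h₀) M :=
    ⟨hAM, coprime_of_fpf hAM hfpfM, Or.inl (isSolvable_of_isMulCommutative _)⟩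
  have hMcard : Nat.card M ≠ 1 := fun h => hMne (Subgroup.card_eq_one.mp h)
  obtain ⟨q, hq, hqdvd⟩ := Nat.exists_prime_and_dvd hMcard
  haveI : Fact q.Prime := ⟨hq⟩
  obtain ⟨Q, hQsyl, hAQ⟩ := coprime_exists_invariant_sylow hcaM q
  have hQne : Q ≠ ⊥ := hQsyl.ne_bot hqdvd
  have hQM : Q ≤ M := hQsyl.le
  have hh₀Q : h₀ ∈ Subgroup.normalizer (Q : Set G) := hAQ (Subgroup.mem_zpowers h₀)
  -- the solvable group `F = Q ⟨h₀⟩`
  set F := Q ⊔ Subgroup.zpowers h₀ with hF
  haveI hQnil : Group.IsNilpotent Q := hQsyl.isPGroup.isNilpotent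
  have hFsolv : Group.IsSolvable F := isSolvable_sup_zpowers inferInstance hh₀Q
  have hFH : F ≤ H := sup_le (hQM.trans hMH) (Subgroup.zpowers_le.mpr (hle hh₀H₀))
  have hfpfK : ∀ a ∈ F, a ≠ 1 → frobKer H hH ⊓ Subgroup.centralizer {a} = ⊥ :=
    fun a ha ha1 => frobKer_inf_centralizer hH (hFH ha) ha1
  have hFK : F ≤ Subgroup.normalizer ((frobKer H hH : Subgroup G) : Set G) := by
    rw [Subgroup.normalizer_eq_top_iff.mpr (frobKer_normal H hH)]; exact le_top
  have hcopFK := coprime_of_fpf hFK hfpfK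
  have hcaK : CoprimeAction F (frobKer H hH) := ⟨hFK, hcopFK, Or.inl hFsolv⟩
  have hKcard : Nat.card (frobKer H hH) ≠ 1 := by
    rw [card_frobKer]
    intro h
    exact hH.2.1 (Subgroup.index_eq_one.mp h)
  obtain ⟨r, hr, hrdvd⟩ := Nat.exists_prime_and_dvd hKcard
  haveI : Fact r.Prime := ⟨hr⟩
  obtain ⟨R, hRsyl, hFR⟩ := coprime_exists_invariant_sylow hcaK r
  have hRne : R ≠ ⊥ := hRsyl.ne_bot hrdvd
  -- `V = Z(R)`
  set V : Subgroup G := R ⊓ Subgroup.centralizer (R : Set G) with hV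
  have hVK : V ≤ frobKer H hH := inf_le_left.trans hRsyl.le
  have hFV : F ≤ Subgroup.normalizer (V : Set G) :=
    hFR.trans (normalizer_le_normalizer_inf_centralizer R)
  haveI hVcomm : IsMulCommutative V := by
    refine ⟨⟨fun a b => ?_⟩⟩
    apply Subtype.ext
    have h1 : (a : G) ∈ Subgroup.centralizer (R : Set G) := a.2.2
    have := (Subgroup.mem_centralizer_iff.mp h1) (b : G) b.2.1
    simp only [Subgroup.coe_mul]
    exact this.symm
  have hVne : V ≠ ⊥ := by
    haveI : Nontrivial R := (Subgroup.nontrivial_iff_ne_bot R).mpr hRne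
    haveI := hRsyl.isPGroup.center_nontrivial
    obtain ⟨z, hz⟩ := exists_ne (1 : Subgroup.center R)
    intro h
    have hzV : ((z : R) : G) ∈ V := by
      refine ⟨(z : R).2, ?_⟩
      show ((z : R) : G) ∈ Subgroup.centralizer (R : Set G)
      rw [Subgroup.mem_centralizer_iff]
      intro y hy
      have := Subgroup.mem_center_iff.mp z.2 ⟨y, hy⟩
      exact congrArg Subtype.val this
    rw [h, Subgroup.mem_bot] at hzV
    apply hz
    apply Subtype.ext
    apply Subtype.ext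
    exact hzV
  have hfpfV : ∀ a ∈ F, a ≠ 1 → V ⊓ Subgroup.centralizer {a} = ⊥ := by
    intro a ha ha1
    rw [eq_bot_iff, ← hfpfK a ha ha1]
    exact inf_le_inf_right _ hVK
  -- apply the Frobenius action lemma
  have hh₀F : h₀ ∈ F := (le_sup_right : Subgroup.zpowers h₀ ≤ F) (Subgroup.mem_zpowers h₀)
  set x : F := ⟨h₀, hh₀F⟩ with hx
  have hx1 : x ≠ 1 := fun h => hh₀1 (congrArg Subtype.val h)
  have hxp : x ^ p = 1 := by
    apply Subtype.ext
    simpa using hh₀p
  obtain ⟨b₀, hb₀Q, hb₀1⟩ := exists_ne_one_of_ne_bot hQne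
  have hb₀F : b₀ ∈ F := (le_sup_left : Q ≤ F) hb₀Q
  have key := Lib.H18.frob_action_lemma (conjAutHom hFV) (Q.subgroupOf F) x p hp.pos hxp
    (by
      intro b hb
      rw [Subgroup.mem_subgroupOf] at hb ⊢
      exact (Subgroup.mem_normalizer_iff.mp hh₀Q (b : G)).mp hb)
    (by
      intro i hi0 hip b hb hcomm
      rw [Subgroup.mem_subgroupOf] at hb
      have hxi1 : h₀ ^ i ≠ 1 := by
        intro h
        have := orderOf_dvd_of_pow_eq_one h
        rw [hh₀ord] at this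
        exact absurd (Nat.le_of_dvd hi0 this) (not_le.mpr hip)
      have hxiH₀ : h₀ ^ i ∈ H₀ := H₀.pow_mem hh₀H₀ i
      have hb' : (b : G) ∈ frobKer H₀ hH₀ ⊓ Subgroup.centralizer {h₀ ^ i} := by
        refine ⟨hMK₀ (hQM hb), ?_⟩
        show (b : G) ∈ Subgroup.centralizer {h₀ ^ i}
        rw [Subgroup.mem_centralizer_iff]
        intro y hy
        rw [Set.mem_singleton_iff] at hy
        subst hy
        have := congrArg Subtype.val hcomm
        simpa using this
      rw [hfpfK₀ _ hxiH₀ hxi1, Subgroup.mem_bot] at hb'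
      exact Subtype.ext hb')
    (by
      intro v hv
      have hb₀1' : (⟨b₀, hb₀F⟩ : F) ≠ 1 := fun h => hb₀1 (congrArg Subtype.val h)
      exact eq_one_of_conjAutHom_fixed hFV hfpfV hb₀1'
        (hv ⟨b₀, hb₀F⟩ (by rw [Subgroup.mem_subgroupOf]; exact hb₀Q)))
    (fun v hv => eq_one_of_conjAutHom_fixed hFV hfpfV hx1 hv)
  -- conclude `V = ⊥`
  apply hVne
  rw [eq_bot_iff]
  intro v hv
  have h1 := key ⟨v, hv⟩
  have h2 : orderOf (⟨v, hv⟩ : V) ∣ Nat.card (Q.subgroupOf F) := orderOf_dvd_of_pow_eq_one h1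
  have h3 : orderOf (⟨v, hv⟩ : V) ∣ Nat.card V := orderOf_dvd_natCard _
  have h4 : Nat.card (Q.subgroupOf F) ∣ Nat.card F := Subgroup.card_subgroup_dvd_card _
  have h5 : Nat.card V ∣ Nat.card (frobKer H hH) := Subgroup.card_dvd_of_le hVK
  have h6 : orderOf (⟨v, hv⟩ : V) = 1 :=
    Nat.eq_one_of_dvd_coprimes hcopFK (h2.trans h4) (h3.trans h5)
  have h7 := orderOf_eq_one_iff.mp h6
  exact Subgroup.mem_bot.mpr (congrArg Subtype.val h7)

/-- **S0038**: all Frobenius complements of a finite group are conjugate. -/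
theorem frob_complement_conj {H H₀ : Subgroup G} (hH : IsFrobeniusComplement H)
    (hH₀ : IsFrobeniusComplement H₀) : ∃ g : G, MulAut.conj g • H₀ = H := by
  rcases le_total (Nat.card H₀) (Nat.card H) with hle | hle
  · obtain ⟨g, hg⟩ := frob_complement_conj_le hH hH₀ hle
    exact ⟨g, frob_complement_eq_of_le hH (conj_isFrobeniusComplement hH₀ g) hg⟩
  · obtain ⟨g, hg⟩ := frob_complement_conj_le hH₀ hH hle
    have h1 := frob_complement_eq_of_le hH₀ (conj_isFrobeniusComplement hH g) hg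
    refine ⟨g⁻¹, ?_⟩
    rw [← h1, conj_smul_conj_smul, inv_mul_cancel, map_one, one_smul]

end Cfsg.Agent.Lib.H1
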