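import Mathlib
import Cfsg.Agent.Lib.H1.Frobenius

set_option autoImplicit false
open Pointwise

namespace Cfsg.Agent.Lib.H1

variable {G : Type*} [Group G]

/-- If `z ∉ K` (so `z ≠ 1` lies in `y H y⁻¹`) and `s` inverts `z`, then `y⁻¹ s y ∈ H`. -/
theorem frob_inverter_mem {H : Subgroup G} (hH : Cfsg.IsFrobeniusComplement H) {z y s : G}
    (hz1 : z ≠ 1) (hy : y⁻¹ * z * y ∈ H) (hs : s * z * s⁻¹ = z⁻¹) : y⁻¹ * s * y ∈ H := by
  have hz'1 : y⁻¹ * z * y ≠ 1 := by
    intro h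
    apply hz1
    have : z = y * (y⁻¹ * z * y) * y⁻¹ := by group
    rw [this, h]
    group
  apply frob_mem_of_conj_mem hH hy hz'1
  have : y⁻¹ * s * y * (y⁻¹ * z * y) * (y⁻¹ * s * y)⁻¹ = y⁻¹ * (s * z * s⁻¹) * y := by group
  rw [this, hs]
  have : y⁻¹ * z⁻¹ * y = (y⁻¹ * z * y)⁻¹ := by group
  rw [this]
  exact H.inv_mem hy

section Involution

variable {H : Subgroup G} {t : G}

/-- For `g ∉ H`, `t · t^g` lies in the Frobenius kernel. -/
theorem frob_involution_mul_conj_mem (hH : Cfsg.IsFrobeniusComplement H) (ht : t ∈ H)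
    (ht1 : t ≠ 1) (ht2 : t * t = 1) {g : G} (hg : g ∉ H) :
    t * (g * t * g⁻¹) ∈ Cfsg.frobeniusKernel H := by
  by_contra hz
  rw [not_mem_frobeniusKernel_iff] at hz
  obtain ⟨hz1, y, hy⟩ := hz
  rw [mem_conj_smul_iff] at hy
  have htinv : t⁻¹ = t := inv_eq_of_mul_eq_one_left ht2
  have hzinv : (t * (g * t * g⁻¹))⁻¹ = g * t * g⁻¹ * t := by
    rw [mul_inv_rev, htinv]
    congr 1
    rw [mul_inv_rev, mul_inv_rev, inv_inv, htinv, mul_assoc]
  have h1 : t * (t * (g * t * g⁻¹)) * t⁻¹ = (t * (g * t * g⁻¹))⁻¹ := by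
    rw [hzinv, htinv]
    calc t * (t * (g * t * g⁻¹)) * t = (t * t) * (g * t * g⁻¹) * t := by group
      _ = g * t * g⁻¹ * t := by rw [ht2, one_mul]
  have h2 : (g * t * g⁻¹) * (t * (g * t * g⁻¹)) * (g * t * g⁻¹)⁻¹ = (t * (g * t * g⁻¹))⁻¹ := by
    rw [hzinv]
    group
  have m1 : y⁻¹ * t * y ∈ H := frob_inverter_mem hH hz1 hy h1
  have m2 : y⁻¹ * (g * t * g⁻¹) * y ∈ H := frob_inverter_mem hH hz1 hy h2
  have hyH : y ∈ H := frob_mem_of_conj_mem' hH ht ht1 m1
  have m3 : g * t * g⁻¹ ∈ H := by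
    have : g * t * g⁻¹ = y * (y⁻¹ * (g * t * g⁻¹) * y) * y⁻¹ := by group
    rw [this]
    exact H.mul_mem (H.mul_mem hyH m2) (H.inv_mem hyH)
  exact hg (frob_mem_of_conj_mem hH ht ht1 m3)

/-- Every element of the Frobenius kernel has the form `t · t^g`. -/
theorem frob_involution_exists_eq [Finite G] (hH : Cfsg.IsFrobeniusComplement H) (ht : t ∈ H)
    (ht1 : t ≠ 1) (ht2 : t * t = 1) {k : G} (hk : k ∈ Cfsg.frobeniusKernel H) :
    ∃ g : G, k = t * (g * t * g⁻¹) := by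
  classical
  let r : G ⧸ H → G := fun q => if q = QuotientGroup.mk 1 then 1 else q.out
  have hr : ∀ q : G ⧸ H, (QuotientGroup.mk (r q) : G ⧸ H) = q := by
    intro q
    by_cases hq : q = QuotientGroup.mk 1
    · simp only [r, if_pos hq]
      exact hq.symm
    · simp only [r, if_neg hq]
      exact q.out_eq'
  have hrmem : ∀ q : G ⧸ H, t * (r q * t * (r q)⁻¹) ∈ Cfsg.frobeniusKernel H := by
    intro q
    by_cases hq : q = QuotientGroup.mk 1
    · simp only [r, if_pos hq]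
      left
      simpa using ht2
    · apply frob_involution_mul_conj_mem hH ht ht1 ht2
      intro hmem
      apply hq
      rw [← hr q]
      apply QuotientGroup.eq.mpr
      simpa using hmem
  let ψ : G ⧸ H → Cfsg.frobeniusKernel H := fun q => ⟨t * (r q * t * (r q)⁻¹), hrmem q⟩
  have hψ : Function.Injective ψ := by
    intro q q' hqq
    have e : t * (r q * t * (r q)⁻¹) = t * (r q' * t * (r q')⁻¹) := congrArg Subtype.val hqq
    have e1 : r q * t * (r q)⁻¹ = r q' * t * (r q')⁻¹ := mul_left_cancel e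
    have e2 : ((r q')⁻¹ * r q) * t * ((r q')⁻¹ * r q)⁻¹ = t := by
      have : ((r q')⁻¹ * r q) * t * ((r q')⁻¹ * r q)⁻¹ = (r q')⁻¹ * (r q * t * (r q)⁻¹) * r q' := by
        group
      rw [this, e1]
      group
    have hmem : (r q')⁻¹ * r q ∈ H := frob_mem_of_conj_mem hH ht ht1 (e2.symm ▸ ht)
    rw [← hr q, ← hr q']
    exact (QuotientGroup.eq.mpr hmem).symm
  have hcard : Nat.card (Cfsg.frobeniusKernel H) = Nat.card (G ⧸ H) := by
    rw [frob_card_kernel hH, Subgroup.index_eq_card]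
  have hbij : Function.Bijective ψ :=
    (Nat.bijective_iff_injective_and_card ψ).mpr ⟨hψ, hcard.symm⟩
  obtain ⟨q, hq⟩ := hbij.2 ⟨k, hk⟩
  exact ⟨r q, (congrArg Subtype.val hq).symm⟩

/-- Every conjugate of `t` inverts every element of the Frobenius kernel. -/
theorem frob_involution_inverts [Finite G] (hH : Cfsg.IsFrobeniusComplement H) (ht : t ∈ H)
    (ht1 : t ≠ 1) (ht2 : t * t = 1) {k : G} (hk : k ∈ Cfsg.frobeniusKernel H) (c : G) :
    (c * t * c⁻¹) * k * (c * t * c⁻¹)⁻¹ = k⁻¹ := by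
  have htinv : t⁻¹ = t := inv_eq_of_mul_eq_one_left ht2
  have hk' : c⁻¹ * k * c ∈ Cfsg.frobeniusKernel H := by
    have := conj_mem_frobeniusKernel hk c⁻¹
    simpa using this
  obtain ⟨g, hg⟩ := frob_involution_exists_eq hH ht ht1 ht2 hk'
  have h1 : t * (c⁻¹ * k * c) * t⁻¹ = (c⁻¹ * k * c)⁻¹ := by
    rw [hg, htinv]
    have hzinv : (t * (g * t * g⁻¹))⁻¹ = g * t * g⁻¹ * t := by
      rw [mul_inv_rev, htinv]
      congr 1
      rw [mul_inv_rev, mul_inv_rev, inv_inv, htinv, mul_assoc]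
    rw [hzinv]
    calc t * (t * (g * t * g⁻¹)) * t = (t * t) * (g * t * g⁻¹) * t := by group
      _ = g * t * g⁻¹ * t := by rw [ht2, one_mul]
  calc (c * t * c⁻¹) * k * (c * t * c⁻¹)⁻¹ = c * (t * (c⁻¹ * k * c) * t⁻¹) * c⁻¹ := by group
    _ = c * (c⁻¹ * k * c)⁻¹ * c⁻¹ := by rw [h1]
    _ = k⁻¹ := by group

/-- Elements of the Frobenius kernel commute (when the complement contains an involution). -/
theorem frob_involution_commute [Finite G] (hH : Cfsg.IsFrobeniusComplement H) (ht : t ∈ H)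
    (ht1 : t ≠ 1) (ht2 : t * t = 1) {a b : G} (ha : a ∈ Cfsg.frobeniusKernel H)
    (hb : b ∈ Cfsg.frobeniusKernel H) : a * b = b * a := by
  obtain ⟨g, hg⟩ := frob_involution_exists_eq hH ht ht1 ht2 ha
  have h1 := frob_involution_inverts hH ht ht1 ht2 hb 1
  have h2 := frob_involution_inverts hH ht ht1 ht2 (inv_mem_frobeniusKernel hb) g
  simp only [one_mul, inv_one, mul_one, inv_inv] at h1 h2
  -- `t b t⁻¹ = b⁻¹`, `t^g b⁻¹ (t^g)⁻¹ = b`
  have h3 : a * b * a⁻¹ = b := by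
    rw [hg]
    calc t * (g * t * g⁻¹) * b * (t * (g * t * g⁻¹))⁻¹
        = t * ((g * t * g⁻¹) * b * (g * t * g⁻¹)⁻¹) * t⁻¹ := by group
      _ = b := by
        have h4 : (g * t * g⁻¹) * b * (g * t * g⁻¹)⁻¹ = b⁻¹ := by
          have := frob_involution_inverts hH ht ht1 ht2 hb g
          exact this
        rw [h4]
        have h5 := frob_involution_inverts hH ht ht1 ht2 (inv_mem_frobeniusKernel hb) 1
        simp only [one_mul, inv_one, mul_one, inv_inv] at h5
        exact h5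
  calc a * b = a * b * a⁻¹ * a := by group
    _ = b * a := by rw [h3]

/-- **The Frobenius kernel is closed under multiplication** when the complement contains an
involution. -/
theorem frob_involution_mul_mem [Finite G] (hH : Cfsg.IsFrobeniusComplement H) (ht : t ∈ H)
    (ht1 : t ≠ 1) (ht2 : t * t = 1) {a b : G} (ha : a ∈ Cfsg.frobeniusKernel H)
    (hb : b ∈ Cfsg.frobeniusKernel H) : a * b ∈ Cfsg.frobeniusKernel H := by
  by_contra hz
  rw [not_mem_frobeniusKernel_iff] at hz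
  obtain ⟨hz1, y, hy⟩ := hz
  rw [mem_conj_smul_iff] at hy
  have hcomm : a * b = b * a := frob_involution_commute hH ht ht1 ht2 ha hb
  have hall : ∀ d : G, d ∈ H := by
    intro d
    have hs : (y * d * t * (y * d)⁻¹) * (a * b) * (y * d * t * (y * d)⁻¹)⁻¹ = (a * b)⁻¹ := by
      have ea := frob_involution_inverts hH ht ht1 ht2 ha (y * d)
      have eb := frob_involution_inverts hH ht ht1 ht2 hb (y * d)
      calc (y * d * t * (y * d)⁻¹) * (a * b) * (y * d * t * (y * d)⁻¹)⁻¹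
          = ((y * d * t * (y * d)⁻¹) * a * (y * d * t * (y * d)⁻¹)⁻¹) *
            ((y * d * t * (y * d)⁻¹) * b * (y * d * t * (y * d)⁻¹)⁻¹) := by group
        _ = a⁻¹ * b⁻¹ := by rw [ea, eb]
        _ = (b * a)⁻¹ := by group
        _ = (a * b)⁻¹ := by rw [hcomm]
    have hm := frob_inverter_mem hH hz1 hy hs
    have : y⁻¹ * (y * d * t * (y * d)⁻¹) * y = d * t * d⁻¹ := by group
    rw [this] at hm
    exact frob_mem_of_conj_mem hH ht ht1 hm
  exact hH.2.1 (eq_top_iff.mpr (fun d _ => hall d))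

end Involution

end Cfsg.Agent.Lib.H1
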