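import Cfsg.Agent.Lib.H5.Glaub.Defs

/-!
# S4359 (Glauberman 1969, Theorem 1): piece (PG), `P` is a `p`-group

Blueprint: `tools/blueprints/S4359.md`, exact signature of `tools/blueprints/S4359_sigs.lean`.
-/

set_option autoImplicit false
open scoped Pointwise
open Cfsg.Agent.Lib.H5.Glaub Cfsg.Agent.Lib.H5.Glaub.Setup

namespace Cfsg.Agent.Lib.H1.Glaub

variable {G : Type*} [Group G] [Finite G]

/-- an element of `P_1` of order prime to `p` lies in `P_0 ∩ P_1` -/
theorem mem_inf_of_coprime (S : Setup G) {x : G} (hx : x ∈ MulAut.conj S.h • S.P)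
    (hc : (orderOf x).Coprime S.p) : x ∈ S.P ⊓ MulAut.conj S.h • S.P := by
  haveI := S.norm
  have hidx : ((S.P ⊓ MulAut.conj S.h • S.P).subgroupOf (MulAut.conj S.h • S.P)).index = S.p := S.idx
  have h1 := Subgroup.pow_index_mem ((S.P ⊓ MulAut.conj S.h • S.P).subgroupOf (MulAut.conj S.h • S.P))
    (⟨x, hx⟩ : ↥(MulAut.conj S.h • S.P))
  rw [hidx] at h1
  have ho : orderOf (⟨x, hx⟩ : ↥(MulAut.conj S.h • S.P)) = orderOf x := Subgroup.orderOf_mk x hx
  obtain ⟨m, hm⟩ := exists_pow_eq_self_of_coprime (x := (⟨x, hx⟩ : ↥(MulAut.conj S.h • S.P)))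
    (n := S.p) (by rw [ho]; exact hc.symm)
  have h2 : (⟨x, hx⟩ : ↥(MulAut.conj S.h • S.P)) ∈
      (S.P ⊓ MulAut.conj S.h • S.P).subgroupOf (MulAut.conj S.h • S.P) := by
    rw [← hm]; exact Subgroup.pow_mem _ h1 m
  exact Subgroup.mem_subgroupOf.1 h2

/-- (PG) Step 1: `P` is a `p`-group. -/
theorem isPGroup (S : Setup G) : IsPGroup S.p S.P := by
  haveI : Fact S.p.Prime := ⟨S.hp⟩
  set s : Set G := {u : G | u ∈ S.P ∧ (orderOf u).Coprime S.p} with hs
  set M : Subgroup G := Subgroup.closure s with hM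
  have hMP : M ≤ S.P := (Subgroup.closure_le _).2 fun u hu => hu.1
  -- conjugation by elements of `P` preserves the generating set
  have hconj : ∀ g ∈ S.P, MulAut.conj g • M ≤ M := by
    intro g hg
    rw [hM, Subgroup.smul_closure]
    apply Subgroup.closure_mono
    rintro x ⟨u, ⟨huP, huc⟩, rfl⟩
    refine ⟨?_, ?_⟩
    · simp only [MulAut.smul_def, MulAut.conj_apply]
      exact S.P.mul_mem (S.P.mul_mem hg huP) (S.P.inv_mem hg)
    · have : orderOf (MulAut.conj g • u) = orderOf u := by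
        rw [MulAut.smul_def]; exact MulEquiv.orderOf_eq _ _
      rw [this]; exact huc
  have hMn : (M.subgroupOf S.P).Normal := by
    refine ⟨fun n hn g => ?_⟩
    rw [Subgroup.mem_subgroupOf] at hn ⊢
    have h1 : (g : G) * (n : G) * (g : G)⁻¹ ∈ MulAut.conj (g : G) • M := conj_mem_conj_smul hn
    have h2 := hconj (g : G) g.2 h1
    simpa using h2
  -- `h M h⁻¹ ≤ M`
  have hle : MulAut.conj S.h • M ≤ M := by
    rw [hM, Subgroup.smul_closure]
    apply Subgroup.closure_mono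
    rintro x ⟨u, ⟨huP, huc⟩, rfl⟩
    have hxo : orderOf (MulAut.conj S.h • u) = orderOf u := by
      rw [MulAut.smul_def]; exact MulEquiv.orderOf_eq _ _
    have hx1 : MulAut.conj S.h • u ∈ MulAut.conj S.h • S.P := Subgroup.smul_mem_pointwise_smul _ _ _ huP
    have hx2 := mem_inf_of_coprime S hx1 (by rw [hxo]; exact huc)
    exact ⟨hx2.1, by rw [hxo]; exact huc⟩
  have hMh : MulAut.conj S.h • M = M := by
    apply Subgroup.eq_of_le_of_card_ge hle
    exact (Nat.card_congr (Subgroup.equivSMul (MulAut.conj S.h) M).toEquiv).le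
  have hM1 : M = ⊥ := S.core M hMP hMn hMh
  -- conclusion
  intro g
  have hn : orderOf g ≠ 0 := (orderOf_pos g).ne'
  obtain ⟨k, m, hm, hnk⟩ := Nat.exists_eq_pow_mul_and_not_dvd hn S.p S.hp.ne_one
  refine ⟨k, ?_⟩
  have hym : (g ^ S.p ^ k) ^ m = 1 := by
    rw [← pow_mul, ← hnk]; exact pow_orderOf_eq_one g
  have hdvd : orderOf (g ^ S.p ^ k) ∣ m := orderOf_dvd_of_pow_eq_one hym
  have hcop : (orderOf (g ^ S.p ^ k)).Coprime S.p :=
    Nat.Coprime.coprime_dvd_left hdvd ((Nat.Prime.coprime_iff_not_dvd S.hp).2 hm).symm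
  have hmem : ((g ^ S.p ^ k : ↥S.P) : G) ∈ M := by
    apply Subgroup.subset_closure
    refine ⟨(g ^ S.p ^ k).2, ?_⟩
    rw [Subgroup.orderOf_coe]; exact hcop
  rw [hM1, Subgroup.mem_bot] at hmem
  exact Subtype.ext (by simpa using hmem)

end Cfsg.Agent.Lib.H1.Glaub
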