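import Mathlib
import Cfsg.Prelude.Def_Transfer
import Cfsg.Agent.Lib.H1.PGroupBasic
import Cfsg.Agent.Lib.H1.NilpotentBasic
import Cfsg.Agent.Lib.H16.ClassTwo
import Cfsg.Agent.Lib.H18.AbstractCoprime
import Cfsg.Agent.Lib.H27.Extraspecial

/-!
# S5233 piece ES (helper1): a group `P` with `Φ(P) = P'` of odd prime order `p`, an elementary abelian
subgroup `B` of index `p` and an element of order `p` outside `B` is `E × A`, `E` extraspecial of
order `p³` and exponent `p`, `A` elementary abelian.
-/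

set_option autoImplicit false

namespace Cfsg.Agent.Lib.H1.GXS

open scoped commutatorElement

/-- `IsExtraspecial` is invariant under isomorphism. -/
theorem isExtraspecial_of_mulEquiv {G G' : Type*} [Group G] [Group G'] [Finite G] (p : ℕ)
    [Fact p.Prime] (e : G ≃* G') (h : Cfsg.IsExtraspecial p G) : Cfsg.IsExtraspecial p G' := by
  haveI : Finite G' := Finite.of_equiv G e.toEquiv
  have hcen : ∀ x : G', x ∈ Subgroup.center G' ↔ e.symm x ∈ Subgroup.center G := by
    intro x
    rw [Subgroup.mem_center_iff, Subgroup.mem_center_iff]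
    constructor
    · intro hx g
      apply e.injective
      rw [map_mul, map_mul, e.apply_symm_apply]
      exact hx (e g)
    · intro hx g
      apply e.symm.injective
      rw [map_mul, map_mul]
      exact hx (e.symm g)
  have hcomm : ∀ x : G', x ∈ commutator G' ↔ e.symm x ∈ commutator G := by
    intro x
    have h1 : (commutator G).map e.toMonoidHom = commutator G' := by
      rw [commutator_def, commutator_def, Subgroup.map_commutator,
        Subgroup.map_top_of_surjective _ e.surjective]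
    rw [← h1, Subgroup.mem_map_equiv]
  apply Cfsg.Agent.Lib.H27.isExtraspecial_of_center p (h.1.1.of_equiv e)
  · rw [← Nat.card_congr (Subgroup.centerCongr e).toEquiv]
    exact h.2
  · ext x
    rw [hcomm, hcen, h.1.2.2]
  · intro x
    rw [hcen, map_pow, ← h.1.2.1]
    exact Cfsg.Agent.Lib.H1.isPGroup_pow_mem_frattini h.1.1 _

/-- A nontrivial subgroup of a subgroup of prime order is the whole subgroup. -/
theorem eq_of_le_of_ne_bot_of_card_prime {G : Type*} [Group G] [Finite G] (K H : Subgroup G)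
    (hKH : K ≤ H) (hK : K ≠ ⊥) (hH : (Nat.card H).Prime) : K = H := by
  have h1 : Nat.card K ∣ Nat.card H := Subgroup.card_dvd_of_le hKH
  rcases (Nat.dvd_prime hH).1 h1 with h | h
  · exact absurd (Subgroup.card_eq_one.1 h) hK
  · exact Subgroup.eq_of_le_of_card_ge hKH h.ge

/-- Internal direct product of a subgroup and the (injective, commuting) image of a group. -/
theorem nonempty_prod_mulEquiv {G K' : Type*} [Group G] [Group K'] (H : Subgroup G) (ι : K' →* G)
    (hcomm : ∀ h ∈ H, ∀ k, h * ι k = ι k * h) (hdisj : ∀ k, ι k ∈ H → k = 1)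
    (hgen : ∀ g, ∃ h ∈ H, ∃ k, g = h * ι k) : Nonempty (↥H × K' ≃* G) := by
  let φ : ↥H × K' →* G := MonoidHom.mk' (fun x => (x.1 : G) * ι x.2) (by
    intro x x'
    simp only [Prod.fst_mul, Prod.snd_mul, Subgroup.coe_mul, map_mul]
    have := hcomm x'.1 x'.1.2 x.2
    calc (x.1 : G) * x'.1 * (ι x.2 * ι x'.2) = x.1 * (x'.1 * ι x.2) * ι x'.2 := by group
      _ = x.1 * (ι x.2 * x'.1) * ι x'.2 := by rw [this]
      _ = x.1 * ι x.2 * (x'.1 * ι x'.2) := by group)
  have hφ : ∀ x, φ x = (x.1 : G) * ι x.2 := fun _ => rfl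
  refine ⟨MulEquiv.ofBijective φ ⟨?_, ?_⟩⟩
  · rw [injective_iff_map_eq_one]
    intro x hx
    rw [hφ] at hx
    have h1 : ι x.2⁻¹ ∈ H := by
      have : (x.1 : G) = ι x.2⁻¹ := by rw [map_inv]; exact eq_inv_of_mul_eq_one_left hx
      rw [← this]; exact x.1.2
    have h2 : x.2 = 1 := by
      have := hdisj _ h1
      rwa [inv_eq_one] at this
    rw [h2, map_one, mul_one] at hx
    exact Prod.ext (Subtype.ext hx) h2
  · intro g
    obtain ⟨h, hh, k, rfl⟩ := hgen g
    exact ⟨(⟨h, hh⟩, k), rfl⟩

/-- Basic facts in the common setting (`p` odd, an element of order `p` outside `B`). -/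
theorem es_basic {P : Type*} [Group P] [Finite P] (p : ℕ) [Fact p.Prime] (hp : p ≠ 2)
    (hc : Nat.card (commutator P) = p)
    (B : Subgroup P) (hBi : B.index = p)
    (hBe : ∀ a ∈ B, a ^ p = 1) (y : P) (hy : y ∉ B) (hyp : y ^ p = 1) :
    IsPGroup p P ∧ commutator P ≤ Subgroup.center P ∧ (∀ g : P, g ^ p = 1) ∧
      (∀ y' : P, y' ∉ B → ∀ g : P, ∃ i : ℤ, (y' ^ i)⁻¹ * g ∈ B) ∧
      ∃ k : ℕ, Nat.card B = p ^ k ∧ Nat.card P = p ^ (k + 1) := by
  have hpp : p.Prime := Fact.out
  have hBp : IsPGroup p B := fun b => ⟨1, by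
    rw [pow_one]; exact Subtype.ext (by simpa using hBe b b.2)⟩
  obtain ⟨k, hk⟩ := IsPGroup.iff_card.1 hBp
  have hPcard : Nat.card P = p ^ (k + 1) := by
    rw [← Subgroup.card_mul_index B, hk, hBi, pow_succ]
  have hP : IsPGroup p P := IsPGroup.of_card hPcard
  haveI : Group.IsNilpotent P := hP.isNilpotent
  have hZ0ne : commutator P ≠ ⊥ := by
    intro h
    rw [h, Subgroup.card_bot] at hc
    exact hpp.one_lt.ne hc
  have hZ0cen : commutator P ≤ Subgroup.center P := by
    have h1 := Cfsg.Agent.Lib.H1.normal_inf_center_ne_bot (commutator P) hZ0ne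
    have h2 := eq_of_le_of_ne_bot_of_card_prime (commutator P ⊓ Subgroup.center P) (commutator P)
      inf_le_left h1 (hc ▸ hpp)
    rw [← h2]
    exact inf_le_right
  -- `B` is normal, `P ⧸ B` has order `p`
  have hBn : B.Normal := by
    apply Subgroup.normal_of_index_eq_minFac_card
    rw [hPcard, hBi, Nat.Prime.pow_minFac hpp (Nat.succ_ne_zero k)]
  have hQcard : Nat.card (P ⧸ B) = p := by rw [← Subgroup.index_eq_card, hBi]
  have hdec : ∀ y' : P, y' ∉ B → ∀ g : P, ∃ i : ℤ, (y' ^ i)⁻¹ * g ∈ B := by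
    intro y' hy' g
    have h1 : (QuotientGroup.mk y' : P ⧸ B) ≠ 1 := by
      rw [Ne, QuotientGroup.eq_one_iff]; exact hy'
    have h2 : (QuotientGroup.mk g : P ⧸ B) ∈ Subgroup.zpowers (QuotientGroup.mk y' : P ⧸ B) :=
      mem_zpowers_of_prime_card hQcard h1
    obtain ⟨i, hi⟩ := Subgroup.mem_zpowers_iff.1 h2
    refine ⟨i, ?_⟩
    rw [← QuotientGroup.eq, QuotientGroup.mk_zpow]
    exact hi
  have hodd : Odd p := hpp.odd_of_ne_two hp
  have hexp : ∀ g : P, g ^ p = 1 := by
    intro g
    obtain ⟨i, hi⟩ := hdec y hy g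
    have hg : g = y ^ i * ((y ^ i)⁻¹ * g) := by group
    have hc1 : ((y ^ i) * ((y ^ i)⁻¹ * g))⁻¹ * (((y ^ i)⁻¹ * g) * (y ^ i)) ∈ Subgroup.center P := by
      apply hZ0cen
      have e : ((y ^ i) * ((y ^ i)⁻¹ * g))⁻¹ * (((y ^ i)⁻¹ * g) * (y ^ i))
          = ⁅((y ^ i)⁻¹ * g)⁻¹, (y ^ i)⁻¹⁆ := by rw [commutatorElement_def]; group
      rw [e, commutator_def]
      exact Subgroup.commutator_mem_commutator (Subgroup.mem_top _) (Subgroup.mem_top _)
    rw [Subgroup.mem_center_iff] at hc1
    rw [hg]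
    refine Cfsg.Agent.Lib.H16.mul_pow_eq_one_of_central
      (c := ((y ^ i) * ((y ^ i)⁻¹ * g))⁻¹ * (((y ^ i)⁻¹ * g) * (y ^ i))) (by group)
      (hc1 _).symm (hc1 _).symm hodd ?_ (hBe _ hi)
    rw [← zpow_natCast, ← zpow_mul, mul_comm, zpow_mul, zpow_natCast, hyp, one_zpow]
  exact ⟨hP, hZ0cen, hexp, hdec, k, hk, hPcard⟩

/-- The centre: `Z(P) ≤ B` and `|B| = p |Z(P)|`. -/
theorem es_center {P : Type*} [Group P] [Finite P] (p : ℕ) [Fact p.Prime]
    (hc : Nat.card (commutator P) = p) (hZ0cen : commutator P ≤ Subgroup.center P)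
    (B : Subgroup P) (hBc : ∀ a ∈ B, ∀ b ∈ B, a * b = b * a)
    (hdec : ∀ y' : P, y' ∉ B → ∀ g : P, ∃ i : ℤ, (y' ^ i)⁻¹ * g ∈ B) (y : P) (hy : y ∉ B) :
    Subgroup.center P ≤ B ∧ Nat.card B = Nat.card (Subgroup.center P) * p := by
  have hpp : p.Prime := Fact.out
  have hZ0ne : commutator P ≠ ⊥ := by
    intro h
    rw [h, Subgroup.card_bot] at hc
    exact hpp.one_lt.ne hc
  -- if `P = B ⟨g⟩` with `g` commuting with `B` (and `B` abelian) then `P` is abelian
  have habel : ∀ g : P, g ∉ B → (∀ b ∈ B, g * b = b * g) → False := by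
    intro g hg hgB
    apply hZ0ne
    rw [commutator_eq_bot_iff_center_eq_top, eq_top_iff]
    intro h _
    rw [Subgroup.mem_center_iff]
    intro h'
    obtain ⟨i, hi⟩ := hdec g hg h
    obtain ⟨j, hj⟩ := hdec g hg h'
    have e1 : h = g ^ i * ((g ^ i)⁻¹ * h) := by group
    have e2 : h' = g ^ j * ((g ^ j)⁻¹ * h') := by group
    have c1 : ∀ (m : ℤ) (b : P), b ∈ B → g ^ m * b = b * g ^ m := by
      intro m b hb
      have : Commute g b := hgB b hb
      exact (this.zpow_left m).eq
    have c2 := hBc _ hi _ hj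
    have c3 : g ^ i * g ^ j = g ^ j * g ^ i := by rw [← zpow_add, ← zpow_add, add_comm]
    rw [e1, e2]
    generalize (g ^ i)⁻¹ * h = b at *
    generalize (g ^ j)⁻¹ * h' = b' at *
    calc g ^ j * b' * (g ^ i * b) = g ^ j * (b' * g ^ i) * b := by group
      _ = g ^ j * (g ^ i * b') * b := by rw [c1 i b' hj]
      _ = (g ^ j * g ^ i) * (b' * b) := by group
      _ = (g ^ i * g ^ j) * (b * b') := by rw [c3, c2]
      _ = g ^ i * (g ^ j * b) * b' := by group
      _ = g ^ i * (b * g ^ j) * b' := by rw [c1 j b hi]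
      _ = g ^ i * b * (g ^ j * b') := by group
  have hZB : Subgroup.center P ≤ B := by
    intro g hg
    by_contra hgB
    exact habel g hgB (fun b _ => (Subgroup.mem_center_iff.1 hg b).symm)
  refine ⟨hZB, ?_⟩
  -- the homomorphism `b ↦ [y, b]`
  have hmem : ∀ b : P, ⁅y, b⁆ ∈ commutator P := fun b => by
    rw [commutator_def]
    exact Subgroup.commutator_mem_commutator (Subgroup.mem_top _) (Subgroup.mem_top _)
  let f : ↥B →* ↥(commutator P) := MonoidHom.mk' (fun b => ⟨⁅y, (b : P)⁆, hmem b⟩) (by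
    intro b b'
    apply Subtype.ext
    have hcen := Subgroup.mem_center_iff.1 (hZ0cen (hmem (b' : P))) (b : P)
    simp only [Subgroup.coe_mul]
    have e : ⁅y, (b : P) * b'⁆ = ⁅y, (b : P)⁆ * ((b : P) * ⁅y, (b' : P)⁆) * (b : P)⁻¹ := by
      simp only [commutatorElement_def]; group
    rw [e, hcen]; group)
  have hf : ∀ b : ↥B, ((f b : ↥(commutator P)) : P) = ⁅y, (b : P)⁆ := fun _ => rfl
  have hker : f.ker = (Subgroup.center P).subgroupOf B := by
    ext b
    rw [MonoidHom.mem_ker, Subgroup.mem_subgroupOf]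
    constructor
    · intro hb
      have h1 : ⁅y, (b : P)⁆ = 1 := by rw [← hf, hb]; rfl
      have h2 : y * b = b * y := by
        rw [commutatorElement_eq_one_iff_commute] at h1; exact h1.eq
      rw [Subgroup.mem_center_iff]
      intro h
      obtain ⟨i, hi⟩ := hdec y hy h
      have e1 : h = y ^ i * ((y ^ i)⁻¹ * h) := by group
      have c1 : y ^ i * (b : P) = b * y ^ i := by
        have : Commute y (b : P) := h2
        exact (this.zpow_left i).eq
      have c2 := hBc _ hi _ b.2
      rw [e1]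
      generalize (y ^ i)⁻¹ * h = b' at *
      calc y ^ i * b' * (b : P) = y ^ i * (b' * b) := by group
        _ = y ^ i * ((b : P) * b') := by rw [c2]
        _ = (y ^ i * (b : P)) * b' := by group
        _ = ((b : P) * y ^ i) * b' := by rw [c1]
        _ = (b : P) * (y ^ i * b') := by group
    · intro hb
      apply Subtype.ext
      rw [hf]
      have := (Subgroup.mem_center_iff.1 hb y).symm
      rw [OneMemClass.coe_one, commutatorElement_eq_one_iff_commute]
      exact this.symm
  have hrange : f.range = ⊤ := by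
    haveI : Fact (Nat.card ↥(commutator P)).Prime := ⟨hc ▸ hpp⟩
    rcases Subgroup.eq_bot_or_eq_top_of_prime_card f.range with h | h
    · exfalso
      apply habel y hy
      intro b hb
      have h1 : f ⟨b, hb⟩ ∈ f.range := ⟨_, rfl⟩
      rw [h, Subgroup.mem_bot] at h1
      have h2 : ⁅y, b⁆ = 1 := by rw [← hf ⟨b, hb⟩, h1]; rfl
      rw [commutatorElement_eq_one_iff_commute] at h2
      exact h2.eq
    · exact h
  have h1 := Subgroup.card_mul_index f.ker
  rw [Subgroup.index_ker, hrange, Subgroup.card_top, hc, hker,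
    Nat.card_congr (Subgroup.subgroupOfEquivOfLe hZB).toEquiv] at h1
  exact h1.symm

open scoped IsMulCommutative in
/-- **ES.** -/
theorem exists_extraspecial_decomp {P : Type*} [Group P] [Finite P] (p : ℕ) [Fact p.Prime] (hp : p ≠ 2)
    (hfr : frattini P = commutator P) (hc : Nat.card (commutator P) = p)
    (B : Subgroup P) (hBi : B.index = p) (hBc : ∀ a ∈ B, ∀ b ∈ B, a * b = b * a)
    (hBe : ∀ a ∈ B, a ^ p = 1) (y : P) (hy : y ∉ B) (hyp : y ^ p = 1) :
    ∃ (E : Type) (_ : Group E) (A : Type) (_ : CommGroup A), Cfsg.IsExtraspecial p E ∧ Nat.card E = p ^ 3 ∧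
      Monoid.exponent E = p ∧ (∀ a : A, a ^ p = 1) ∧ Nonempty (P ≃* E × A) := by
  have hpp : p.Prime := Fact.out
  obtain ⟨hP, hZ0cen, hexp, hdec, k, hk, hPcard⟩ := es_basic p hp hc B hBi hBe y hy hyp
  obtain ⟨hZB, hBcard⟩ := es_center p hc hZ0cen B hBc hdec y hy
  -- a complement `W` of `P'` in `Z(P)`
  obtain ⟨W, hW1, hW2⟩ := Cfsg.Agent.Lib.H18.exists_complement_of_exponent (p := p)
    (V := ↥(Subgroup.center P)) (fun v => Subtype.ext (by simpa using hexp (v : P)))
    ((commutator P).subgroupOf (Subgroup.center P))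
  -- a complement `C` of the image of `Z(P)` in `P / P'`
  have hexpA : ∀ v : Abelianization P, v ^ p = 1 := by
    intro v
    have hsurj : Function.Surjective (Abelianization.of : P →* Abelianization P) :=
      QuotientGroup.mk_surjective
    obtain ⟨g, rfl⟩ := hsurj v
    rw [← map_pow, hexp, map_one]
  obtain ⟨C, hC1, hC2⟩ := Cfsg.Agent.Lib.H18.exists_complement_of_exponent (p := p)
    (V := Abelianization P) hexpA ((Subgroup.center P).map Abelianization.of)
  have hof : ∀ g : P, Abelianization.of g = 1 ↔ g ∈ commutator P := by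
    intro g
    exact QuotientGroup.eq_one_iff g
  -- `E₀`
  have hZ0E : commutator P ≤ C.comap Abelianization.of := by
    intro x hx
    rw [Subgroup.mem_comap, (hof x).2 hx]
    exact C.one_mem
  have hEZ : ∀ x : P, x ∈ C.comap Abelianization.of → x ∈ Subgroup.center P → x ∈ commutator P := by
    intro x hx hxZ
    rw [← hof]
    have : Abelianization.of x ∈ (Subgroup.center P).map Abelianization.of ⊓ C :=
      ⟨Subgroup.mem_map_of_mem _ hxZ, hx⟩
    rw [hC1] at this
    exact this
  have hgen1 : ∀ g : P, ∃ e ∈ C.comap Abelianization.of, ∃ z ∈ Subgroup.center P, g = e * z := by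
    intro g
    have h1 : Abelianization.of g ∈ (Subgroup.center P).map Abelianization.of ⊔ C := by
      rw [hC2]; exact Subgroup.mem_top _
    obtain ⟨zb, hzb, c, hcC, hzc⟩ := Subgroup.mem_sup.1 h1
    obtain ⟨z, hz, rfl⟩ := hzb
    refine ⟨g * z⁻¹, ?_, z, hz, by group⟩
    rw [Subgroup.mem_comap, map_mul, map_inv, ← hzc]
    have : Abelianization.of z * c * (Abelianization.of z)⁻¹ = c := by
      rw [mul_comm, inv_mul_cancel_left]
    rw [this]; exact hcC
  -- `Z(P) = P' × W`
  have hgen2 : ∀ z ∈ Subgroup.center P, ∃ c ∈ commutator P, ∃ w : ↥W, z = c * ((w : ↥(Subgroup.center P)) : P) := by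
    intro z hz
    have h1 : (⟨z, hz⟩ : ↥(Subgroup.center P)) ∈ (commutator P).subgroupOf (Subgroup.center P) ⊔ W := by
      rw [hW2]; exact Subgroup.mem_top _
    obtain ⟨c, hcU, w, hw, hcw⟩ := Subgroup.mem_sup.1 h1
    refine ⟨(c : P), Subgroup.mem_subgroupOf.1 hcU, ⟨w, hw⟩, ?_⟩
    have := congrArg (fun q : ↥(Subgroup.center P) => (q : P)) hcw
    simpa using this.symm
  have hdisj2 : ∀ w : ↥W, ((w : ↥(Subgroup.center P)) : P) ∈ commutator P → w = 1 := by
    intro w hw
    have : (w : ↥(Subgroup.center P)) ∈ (commutator P).subgroupOf (Subgroup.center P) ⊓ W :=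
      ⟨Subgroup.mem_subgroupOf.2 hw, w.2⟩
    rw [hW1, Subgroup.mem_bot] at this
    exact Subtype.ext this
  -- the two decompositions
  let ι : ↥W →* P := (Subgroup.center P).subtype.comp W.subtype
  have hι : ∀ w : ↥W, ι w = ((w : ↥(Subgroup.center P)) : P) := fun _ => rfl
  have hιcen : ∀ w : ↥W, ι w ∈ Subgroup.center P := fun w => (w : ↥(Subgroup.center P)).2
  obtain ⟨φ⟩ := nonempty_prod_mulEquiv (C.comap Abelianization.of) ι
    (fun h _ w => Subgroup.mem_center_iff.1 (hιcen w) h)
    (fun w hw => hdisj2 w (hEZ _ hw (hιcen w)))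
    (fun g => by
      obtain ⟨e, he, z, hz, rfl⟩ := hgen1 g
      obtain ⟨c, hcc, w, rfl⟩ := hgen2 z hz
      exact ⟨e * c, Subgroup.mul_mem _ he (hZ0E hcc), w, by rw [hι]; group⟩)
  obtain ⟨ψ⟩ := nonempty_prod_mulEquiv (G := ↥(Subgroup.center P))
    ((commutator P).subgroupOf (Subgroup.center P)) W.subtype
    (fun h _ w => mul_comm _ _)
    (fun w hw => hdisj2 w (Subgroup.mem_subgroupOf.1 hw))
    (fun z => by
      obtain ⟨c, hcc, w, hzw⟩ := hgen2 (z : P) z.2
      exact ⟨⟨c, hZ0cen hcc⟩, Subgroup.mem_subgroupOf.2 hcc, w, Subtype.ext (by simpa using hzw)⟩)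
  -- cardinalities
  have hWpos : 0 < Nat.card ↥W := Nat.card_pos
  have hcard1 : Nat.card ↥(C.comap Abelianization.of) * Nat.card ↥W = Nat.card P := by
    rw [← Nat.card_prod]; exact Nat.card_congr φ.toEquiv
  have hcard2 : p * Nat.card ↥W = Nat.card ↥(Subgroup.center P) := by
    rw [← hc, ← Nat.card_congr (Subgroup.subgroupOfEquivOfLe hZ0cen).toEquiv, ← Nat.card_prod]
    exact Nat.card_congr ψ.toEquiv
  have hEcard : Nat.card ↥(C.comap Abelianization.of) = p ^ 3 := by
    have h1 : Nat.card P = p ^ 3 * Nat.card ↥W := by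
      rw [← Subgroup.card_mul_index B, hBi, hBcard, ← hcard2]; ring
    rw [h1] at hcard1
    exact Nat.eq_of_mul_eq_mul_right hWpos hcard1
  -- `E₀` is extraspecial
  have hE : Cfsg.IsExtraspecial p ↥(C.comap Abelianization.of) := by
    apply Cfsg.Agent.Lib.H27.isExtraspecial_subgroup p _ (commutator P) (hP.to_subgroup _) hZ0E hc
    · apply le_antisymm
      · intro x hx
        obtain ⟨hxE, hxC⟩ := Subgroup.mem_inf.1 hx
        apply hEZ x hxE
        rw [Subgroup.mem_center_iff]
        intro g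
        obtain ⟨e, he, z, hz, rfl⟩ := hgen1 g
        rw [Subgroup.mem_centralizer_iff] at hxC
        have h1 := hxC e he
        have h2 := Subgroup.mem_center_iff.1 hz x
        calc e * z * x = e * (z * x) := by group
          _ = e * (x * z) := by rw [← h2]
          _ = (e * x) * z := by group
          _ = (x * e) * z := by rw [h1]
          _ = x * (e * z) := by group
      · intro x hx
        refine Subgroup.mem_inf.2 ⟨hZ0E hx, ?_⟩
        rw [Subgroup.mem_centralizer_iff]
        intro g _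
        exact Subgroup.mem_center_iff.1 (hZ0cen hx) g
    · apply eq_of_le_of_ne_bot_of_card_prime _ _ _ _ (hc ▸ hpp)
      · rw [commutator_def]; exact Subgroup.commutator_mono le_top le_top
      · intro h
        rw [Subgroup.commutator_eq_bot_iff_le_centralizer] at h
        have h1 : C.comap Abelianization.of ≤ commutator P := by
          intro x hx
          apply hEZ x hx
          rw [Subgroup.mem_center_iff]
          intro g
          obtain ⟨e, he, z, hz, rfl⟩ := hgen1 g
          have hxC := h hx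
          rw [Subgroup.mem_centralizer_iff] at hxC
          have h1 := hxC e he
          have h2 := Subgroup.mem_center_iff.1 hz x
          calc e * z * x = e * (z * x) := by group
            _ = e * (x * z) := by rw [← h2]
            _ = (e * x) * z := by group
            _ = (x * e) * z := by rw [h1]
            _ = x * (e * z) := by group
        have h2 := Subgroup.card_le_of_le h1
        rw [hEcard, hc] at h2
        have h3 : p ^ 1 < p ^ 3 := Nat.pow_lt_pow_right hpp.one_lt (by norm_num)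
        rw [pow_one] at h3
        omega
    · intro x _
      rw [hexp]; exact Subgroup.one_mem _
  -- transport to `Type`
  have eE : Shrink.{0} ↥(C.comap Abelianization.of) ≃* ↥(C.comap Abelianization.of) := Shrink.mulEquiv
  have eW : Shrink.{0} ↥W ≃* ↥W := Shrink.mulEquiv
  refine ⟨Shrink.{0} ↥(C.comap Abelianization.of), inferInstance, Shrink.{0} ↥W, inferInstance,
    isExtraspecial_of_mulEquiv p eE.symm hE, ?_, ?_, ?_, ?_⟩
  · rw [Nat.card_congr eE.toEquiv, hEcard]
  · haveI : Nontrivial (Shrink.{0} ↥(C.comap Abelianization.of)) := by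
      rw [← Finite.one_lt_card_iff_nontrivial, Nat.card_congr eE.toEquiv, hEcard]
      exact Nat.one_lt_pow (by norm_num) hpp.one_lt
    rw [Monoid.exponent_eq_prime_iff hpp]
    intro g hg
    apply orderOf_eq_prime _ hg
    apply eE.injective
    rw [map_pow, map_one]
    exact Subtype.ext (by simpa using hexp _)
  · intro a
    apply eW.injective
    rw [map_pow, map_one]
    exact Subtype.ext (Subtype.ext (by simpa using hexp _))
  · exact ⟨φ.symm.trans (MulEquiv.prodCongr eE.symm eW.symm)⟩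

end Cfsg.Agent.Lib.H1.GXS
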