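import Mathlib

/-! Gaschütz's theorem via crossed homomorphisms (helper1).

`K` is an abelian normal subgroup of `G`.  A *crossed homomorphism* on a subgroup `S` is a map
`φ : G → K` with `φ (g h) = φ g * g (φ h) g⁻¹` for `g h ∈ S`.  We construct the corestriction of a
crossed homomorphism from `U` to `G` and deduce existence and conjugacy of complements. -/

set_option autoImplicit false
open scoped IsMulCommutative

namespace Cfsg.Agent.Lib.H1

variable {G : Type*} [Group G]

section Crossed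

variable (K : Subgroup G) [hKn : K.Normal]

/-- crossed homomorphism condition on a subgroup `S` -/
def IsCrossedOn (S : Subgroup G) (φ : G → K) : Prop :=
  ∀ g ∈ S, ∀ h ∈ S, φ (g * h) = φ g * MulAut.conjNormal g (φ h)

variable {K}

theorem conjNormal_of_mem [IsMulCommutative K] {k : G} (hk : k ∈ K) (x : K) :
    MulAut.conjNormal k x = x := by
  apply Subtype.ext
  rw [MulAut.conjNormal_apply]
  have h := mul_comm' (⟨k, hk⟩ : K) x
  have h' : k * (x : G) = (x : G) * k := congrArg Subtype.val h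
  rw [h']
  group

theorem IsCrossedOn.map_one {S : Subgroup G} {φ : G → K} (h : IsCrossedOn K S φ) : φ 1 = 1 := by
  have h1 := h 1 S.one_mem 1 S.one_mem
  have h2 : (MulAut.conjNormal (1 : G) : MulAut K) = 1 :=
    _root_.map_one (MulAut.conjNormal : G →* MulAut K)
  rw [mul_one, h2, MulAut.one_apply] at h1
  exact (mul_eq_left.mp h1.symm)

variable (U : Subgroup G)

theorem out_smul_mem (g : G) (y : G ⧸ U) :
    (Quotient.out (g • y))⁻¹ * g * Quotient.out y ∈ U := by
  have h1 : ((g * Quotient.out y : G) : G ⧸ U) = ((Quotient.out (g • y) : G) : G ⧸ U) := by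
    rw [QuotientGroup.out_eq']
    have : ((g * Quotient.out y : G) : G ⧸ U) = g • ((Quotient.out y : G) : G ⧸ U) := rfl
    rw [this, QuotientGroup.out_eq']
  have h2 := QuotientGroup.eq.mp h1.symm
  rw [← mul_assoc] at h2
  exact h2

/-- one factor of the corestriction -/
noncomputable def coresTerm (φ : G → K) (g : G) (y : G ⧸ U) : K :=
  MulAut.conjNormal (Quotient.out (g • y)) (φ ((Quotient.out (g • y))⁻¹ * g * Quotient.out y))

theorem coresTerm_mul {φ : G → K} (hφ : IsCrossedOn K U φ) (g h : G) (y : G ⧸ U) :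
    coresTerm U φ (g * h) y = coresTerm U φ g (h • y) * MulAut.conjNormal g (coresTerm U φ h y) := by
  unfold coresTerm
  have e : (Quotient.out ((g * h) • y))⁻¹ * (g * h) * Quotient.out y =
      ((Quotient.out (g • h • y))⁻¹ * g * Quotient.out (h • y)) *
        ((Quotient.out (h • y))⁻¹ * h * Quotient.out y) := by
    rw [mul_smul]; group
  rw [e, hφ _ (out_smul_mem U g (h • y)) _ (out_smul_mem U h y), map_mul, mul_smul]
  congr 1
  rw [← MulAut.mul_apply, ← MulAut.mul_apply, ← map_mul, ← map_mul]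
  congr 2
  group

variable [Fintype (G ⧸ U)]

/-- corestriction of a crossed homomorphism -/
noncomputable def cores [IsMulCommutative K] (φ : G → K) (g : G) : K :=
  ∏ y : G ⧸ U, coresTerm U φ g y

theorem cores_mul [IsMulCommutative K] {φ : G → K} (hφ : IsCrossedOn K U φ) :
    IsCrossedOn K ⊤ (cores U φ) := by
  intro g _ h _
  unfold cores
  rw [map_prod, ← Equiv.prod_comp (MulAction.toPerm h) (fun y => coresTerm U φ g y),
    ← Finset.prod_mul_distrib]
  apply Finset.prod_congr rfl
  intro y _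
  rw [coresTerm_mul U hφ]
  rfl

theorem cores_of_mem [IsMulCommutative K] (hKU : K ≤ U) {φ : G → K}
    (hφK : ∀ k : K, φ (k : G) = k) (k : K) :
    cores U φ (k : G) = k ^ Fintype.card (G ⧸ U) := by
  unfold cores
  have hterm : ∀ y : G ⧸ U, coresTerm U φ (k : G) y = k := by
    intro y
    have hy : (k : G) • y = y := by
      induction y using QuotientGroup.induction_on with
      | H x =>
        have h1 : (k : G) • ((x : G) : G ⧸ U) = ((k * x : G) : G ⧸ U) := rfl
        rw [h1, QuotientGroup.eq]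
        have h2 : ((k : G) * x)⁻¹ * x = x⁻¹ * (k : G)⁻¹ * x := by group
        rw [h2]
        have h3 := hKn.conj_mem (k : G)⁻¹ (K.inv_mem k.2) x⁻¹
        rw [inv_inv] at h3
        exact hKU h3
    unfold coresTerm
    rw [hy]
    have hmem : (Quotient.out y)⁻¹ * (k : G) * Quotient.out y ∈ K := by
      have h3 := hKn.conj_mem (k : G) k.2 (Quotient.out y)⁻¹
      rw [inv_inv] at h3
      exact h3
    have h4 := hφK ⟨_, hmem⟩
    simp only at h4
    rw [h4]
    apply Subtype.ext
    rw [MulAut.conjNormal_apply]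
    simp only
    group
  rw [Finset.prod_congr rfl (fun y _ => hterm y), Finset.prod_const, Finset.card_univ]

end Crossed

section Complement

variable {K : Subgroup G} [hKn : K.Normal] [IsMulCommutative K]

/-- the kernel of a crossed homomorphism on `G` -/
def crossedKer {Φ : G → K} (hΦ : IsCrossedOn K ⊤ Φ) : Subgroup G where
  carrier := {g | Φ g = 1}
  one_mem' := hΦ.map_one
  mul_mem' := by
    intro a b ha hb
    have ha' : Φ a = 1 := ha
    have hb' : Φ b = 1 := hb
    show Φ (a * b) = 1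
    rw [hΦ a (Subgroup.mem_top a) b (Subgroup.mem_top b), ha', hb', map_one, mul_one]
  inv_mem' := by
    intro a ha
    have ha' : Φ a = 1 := ha
    show Φ a⁻¹ = 1
    have h1 := hΦ a (Subgroup.mem_top a) a⁻¹ (Subgroup.mem_top _)
    rw [mul_inv_cancel, hΦ.map_one, ha', one_mul] at h1
    have h2 : MulAut.conjNormal a (Φ a⁻¹) = MulAut.conjNormal a 1 := by rw [map_one]; exact h1.symm
    exact (MulAut.conjNormal a : MulAut K).injective h2

theorem mem_crossedKer {Φ : G → K} (hΦ : IsCrossedOn K ⊤ Φ) (g : G) :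
    g ∈ crossedKer hΦ ↔ Φ g = 1 := Iff.rfl

/-- A crossed homomorphism `G → K` restricting to `k ↦ k ^ m` on `K`, with `m` prime to `|K|`,
has a complement of `K` as kernel. -/
theorem isComplement'_crossedKer [Finite K] {Φ : G → K} (hΦ : IsCrossedOn K ⊤ Φ) (m : ℕ)
    (hm : (Nat.card K).Coprime m) (hΦK : ∀ k : K, Φ (k : G) = k ^ m) :
    Subgroup.IsComplement' K (crossedKer hΦ) := by
  apply Subgroup.isComplement'_of_disjoint_and_mul_eq_univ
  · rw [Subgroup.disjoint_def]
    intro x hxK hxH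
    rw [mem_crossedKer] at hxH
    have h1 := hΦK ⟨x, hxK⟩
    simp only at h1
    rw [hxH] at h1
    have h2 : (powCoprime hm) ⟨x, hxK⟩ = (powCoprime hm) 1 := by
      rw [powCoprime_apply, powCoprime_apply, one_pow]; exact h1.symm
    have h3 := (powCoprime hm).injective h2
    exact congrArg Subtype.val h3
  · rw [Set.eq_univ_iff_forall]
    intro g
    let k : K := (powCoprime hm).symm (Φ g)
    have hk : k ^ m = Φ g := by
      have := (powCoprime hm).apply_symm_apply (Φ g)
      rwa [powCoprime_apply] at this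
    refine ⟨(k : G), k.2, (k : G)⁻¹ * g, ?_, by group⟩
    rw [SetLike.mem_coe, mem_crossedKer, hΦ _ (Subgroup.mem_top _) _ (Subgroup.mem_top _)]
    have h1 : ((k : G)⁻¹) = ((k⁻¹ : K) : G) := rfl
    rw [h1, hΦK, conjNormal_of_mem (k⁻¹).2, inv_pow, hk, inv_mul_cancel]

end Complement

section Proj

variable (K : Subgroup G) [hKn : K.Normal] (A : Subgroup G)

theorem exists_mul_of_mem_sup {u : G} (hu : u ∈ K ⊔ A) : ∃ k : K, (k : G)⁻¹ * u ∈ A := by
  rw [Subgroup.mem_sup_of_normal_left] at hu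
  obtain ⟨k, hk, a, ha, rfl⟩ := hu
  refine ⟨⟨k, hk⟩, ?_⟩
  simp only
  rw [inv_mul_cancel_left]
  exact ha

open Classical in
/-- projection of `K ⊔ A` onto `K` along `A` (only meaningful when `A ⊓ K = ⊥`) -/
noncomputable def projK (u : G) : K :=
  if hu : u ∈ K ⊔ A then (exists_mul_of_mem_sup K A hu).choose else 1

variable {K A}

theorem projK_inv_mul_mem {u : G} (hu : u ∈ K ⊔ A) : ((projK K A u : K) : G)⁻¹ * u ∈ A := by
  unfold projK
  rw [dif_pos hu]
  exact (exists_mul_of_mem_sup K A hu).choose_spec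

theorem projK_mul (hAK : A ⊓ K = ⊥) {k a : G} (hk : k ∈ K) (ha : a ∈ A) :
    projK K A (k * a) = ⟨k, hk⟩ := by
  have hu : k * a ∈ K ⊔ A := Subgroup.mul_mem_sup hk ha
  have h1 := projK_inv_mul_mem hu
  set x := projK K A (k * a) with hx
  -- x⁻¹ k a ∈ A so x⁻¹ k ∈ A ⊓ K
  have h2 : (x : G)⁻¹ * k ∈ A ⊓ K := by
    constructor
    · have : (x : G)⁻¹ * k = ((x : G)⁻¹ * (k * a)) * a⁻¹ := by group
      rw [this]
      exact A.mul_mem h1 (A.inv_mem ha)
    · exact K.mul_mem (K.inv_mem x.2) hk
  rw [hAK, Subgroup.mem_bot, inv_mul_eq_one] at h2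
  exact Subtype.ext h2

theorem projK_of_mem (hAK : A ⊓ K = ⊥) (k : K) : projK K A (k : G) = k := by
  have := projK_mul hAK k.2 A.one_mem
  rw [mul_one] at this
  exact this

theorem projK_of_mem_right (hAK : A ⊓ K = ⊥) {a : G} (ha : a ∈ A) : projK K A a = 1 := by
  have := projK_mul hAK K.one_mem ha
  rw [one_mul] at this
  exact this

theorem projK_crossed [IsMulCommutative K] (hAK : A ⊓ K = ⊥) :
    IsCrossedOn K (K ⊔ A) (projK K A) := by
  intro u hu v hv
  rw [Subgroup.mem_sup_of_normal_left] at hu hv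
  obtain ⟨k₁, hk₁, a₁, ha₁, rfl⟩ := hu
  obtain ⟨k₂, hk₂, a₂, ha₂, rfl⟩ := hv
  have hk₃ : a₁ * k₂ * a₁⁻¹ ∈ K := hKn.conj_mem k₂ hk₂ a₁
  have e : k₁ * a₁ * (k₂ * a₂) = (k₁ * (a₁ * k₂ * a₁⁻¹)) * (a₁ * a₂) := by group
  rw [e, projK_mul hAK (K.mul_mem hk₁ hk₃) (A.mul_mem ha₁ ha₂), projK_mul hAK hk₁ ha₁,
    projK_mul hAK hk₂ ha₂, map_mul, MulAut.mul_apply, conjNormal_of_mem hk₁]
  apply Subtype.ext
  rw [Subgroup.coe_mul, MulAut.conjNormal_apply]

end Proj

section Main

variable [Finite G] (K U : Subgroup G) [hKn : K.Normal] [IsMulCommutative K]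

/-- **Gaschütz**, existence. -/
theorem gaschutz_exists (hKU : K ≤ U) (hcop : (Nat.card K).Coprime U.index)
    (A : Subgroup G) (hAK : A ⊓ K = ⊥) (hKA : K ⊔ A = U) :
    ∃ H : Subgroup G, Subgroup.IsComplement' K H := by
  classical
  letI : Fintype (G ⧸ U) := Fintype.ofFinite _
  have h1 : IsCrossedOn K U (projK K A) := hKA ▸ projK_crossed hAK
  have h2 := cores_mul U h1
  have h3 := cores_of_mem U hKU (φ := projK K A) (projK_of_mem hAK)
  have hidx : Fintype.card (G ⧸ U) = U.index := by
    rw [Subgroup.index_eq_card, Nat.card_eq_fintype_card]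
  rw [hidx] at h3
  exact ⟨_, isComplement'_crossedKer h2 U.index hcop h3⟩

end Main

end Cfsg.Agent.Lib.H1
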