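import Mathlib
import Cfsg.Agent.Lib.H1.Gaschutz
import Cfsg.Agent.Lib.H1.Complement

/-! Gaschütz's theorem, conjugacy part (helper1). -/

set_option autoImplicit false
open scoped IsMulCommutative
open Pointwise

namespace Cfsg.Agent.Lib.H1

variable {G : Type*} [Group G]

/-- **Gaschütz**, conjugacy. -/
theorem gaschutz_conj [Finite G] (K U : Subgroup G) [hKn : K.Normal] [IsMulCommutative K]
    (hKU : K ≤ U) (hcop : (Nat.card K).Coprime U.index)
    (H₀ H₁ : Subgroup G) (h₀ : Subgroup.IsComplement' K H₀) (h₁ : Subgroup.IsComplement' K H₁)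
    (hU : H₀ ⊓ U = H₁ ⊓ U) : ∃ g : G, MulAut.conj g • H₀ = H₁ := by
  classical
  letI : Fintype (G ⧸ U) := Fintype.ofFinite _
  have hidx : Fintype.card (G ⧸ U) = U.index := by
    rw [Subgroup.index_eq_card, Nat.card_eq_fintype_card]
  set m := Fintype.card (G ⧸ U) with hm
  have hcop' : (Nat.card K).Coprime m := hidx ▸ hcop
  have hd₀ : H₀ ⊓ K = ⊥ := by rw [inf_comm]; exact h₀.disjoint.eq_bot
  have hd₁ : H₁ ⊓ K = ⊥ := by rw [inf_comm]; exact h₁.disjoint.eq_bot
  have ht₀ : K ⊔ H₀ = ⊤ := h₀.sup_eq_top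
  have ht₁ : K ⊔ H₁ = ⊤ := h₁.sup_eq_top
  have hρ₀ : IsCrossedOn K ⊤ (projK K H₀) := ht₀ ▸ projK_crossed hd₀
  have hρ₁ : IsCrossedOn K ⊤ (projK K H₁) := ht₁ ▸ projK_crossed hd₁
  obtain ⟨δ, hδdef⟩ : ∃ δ : G → K, ∀ g, δ g = (projK K H₁ g)⁻¹ * projK K H₀ g :=
    ⟨_, fun _ => rfl⟩
  have hδ : IsCrossedOn K ⊤ δ := by
    intro g hg h hh
    rw [hδdef, hδdef, hδdef]
    rw [hρ₀ g hg h hh, hρ₁ g hg h hh, map_mul, map_inv, mul_inv, mul_mul_mul_comm]
  have hδU : ∀ u ∈ U, δ u = 1 := by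
    intro u hu
    have hu0 : u ∈ K ⊔ H₀ := ht₀ ▸ Subgroup.mem_top u
    have h1 := projK_inv_mul_mem hu0
    set k := projK K H₀ u with hk
    have h2 : (k : G)⁻¹ * u ∈ U := U.mul_mem (U.inv_mem (hKU k.2)) hu
    have h3 : (k : G)⁻¹ * u ∈ H₁ := by
      have : (k : G)⁻¹ * u ∈ H₀ ⊓ U := ⟨h1, h2⟩
      rw [hU] at this
      exact this.1
    have h4 : projK K H₁ u = k := by
      have := projK_mul hd₁ k.2 h3
      rw [mul_inv_cancel_left] at this
      exact this
    rw [hδdef, h4, inv_mul_cancel]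
  have hδmul : ∀ g : G, ∀ u ∈ U, δ (g * u) = δ g := by
    intro g u hu
    rw [hδ g (Subgroup.mem_top g) u (Subgroup.mem_top u), hδU u hu, map_one, mul_one]
  obtain ⟨c, hc⟩ : ∃ c : K, c = ∏ y : G ⧸ U, δ (Quotient.out y) := ⟨_, rfl⟩
  have hkey1 : ∀ g : G, ∏ y : G ⧸ U, δ (g * Quotient.out y) = c := by
    intro g
    have h := Equiv.prod_comp (MulAction.toPerm g) (fun y : G ⧸ U => δ (Quotient.out y))
    rw [hc]
    refine Eq.trans ?_ h
    apply Finset.prod_congr rfl
    intro y _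
    show δ (g * Quotient.out y) = δ (Quotient.out (g • y))
    have e : g * Quotient.out y =
        Quotient.out (g • y) * ((Quotient.out (g • y))⁻¹ * g * Quotient.out y) := by group
    rw [e, hδmul _ _ (out_smul_mem U g y)]
  have hkey2 : ∀ g : G, ∏ y : G ⧸ U, δ (g * Quotient.out y) = (δ g) ^ m * MulAut.conjNormal g c := by
    intro g
    rw [hc, map_prod, hm, ← Finset.card_univ, ← Finset.prod_const, ← Finset.prod_mul_distrib]
    apply Finset.prod_congr rfl
    intro y _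
    exact hδ g (Subgroup.mem_top g) _ (Subgroup.mem_top _)
  let z : K := (powCoprime hcop').symm c⁻¹
  have hz : z ^ m = c⁻¹ := by
    have := (powCoprime hcop').apply_symm_apply c⁻¹
    rwa [powCoprime_apply] at this
  have hδz : ∀ g : G, δ g = MulAut.conjNormal g z * z⁻¹ := by
    intro g
    have h1 : (powCoprime hcop') (δ g) = (powCoprime hcop') (MulAut.conjNormal g z * z⁻¹) := by
      rw [powCoprime_apply, powCoprime_apply, mul_pow, ← map_pow, inv_pow, hz, map_inv, inv_inv]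
      have h2 := (hkey2 g).symm.trans (hkey1 g)
      rw [eq_inv_mul_iff_mul_eq, mul_comm]
      exact h2
    exact (powCoprime hcop').injective h1
  have hle : MulAut.conj (z : G) • H₁ ≤ H₀ := by
    rw [conj_smul_le_iff]
    intro g hg
    have hρ₁g : projK K H₁ g = 1 := projK_of_mem_right hd₁ hg
    have h1 : δ g = projK K H₀ g := by
      rw [hδdef, hρ₁g, inv_one, one_mul]
    have hg0 : g ∈ K ⊔ H₀ := ht₀ ▸ Subgroup.mem_top g
    have h2 := projK_inv_mul_mem hg0
    rw [← h1, hδz g] at h2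
    have e : ((MulAut.conjNormal g z * z⁻¹ : K) : G)⁻¹ * g = (z : G) * g * (z : G)⁻¹ := by
      rw [Subgroup.coe_mul, MulAut.conjNormal_apply, Subgroup.coe_inv]
      group
    rw [e] at h2
    exact h2
  have hcard : Nat.card H₀ = Nat.card H₁ := by
    have e0 := h₀.card_mul_card
    have e1 := h₁.card_mul_card
    have hK : 0 < Nat.card K := Nat.card_pos
    exact Nat.eq_of_mul_eq_mul_left hK (e0.trans e1.symm)
  have heq : MulAut.conj (z : G) • H₁ = H₀ := by
    apply Subgroup.eq_of_le_of_card_ge hle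
    rw [card_conj_smul, hcard]
  refine ⟨(z : G)⁻¹, ?_⟩
  rw [← heq, conj_smul_conj_smul, inv_mul_cancel, map_one, one_smul]

end Cfsg.Agent.Lib.H1
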