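import Cfsg.Agent.Lib.H13.HSDefs2

/-!
# S2534 pieces D1-D3: generalities on `Cfsg.IsDPiGroup`
-/

namespace Cfsg.Agent.Lib.H1.HS
open Equiv MulAction Cfsg.Agent.Lib.H13.HS
open scoped Pointwise

/-- every `π`-subgroup lies in a maximal `π`-subgroup. -/
theorem d13_exists_le_maximal {G : Type*} [Group G] [Finite G] {π : Set ℕ} (X : Subgroup G)
    (hX : Cfsg.IsPiSubgroup π X) : ∃ K : Subgroup G, X ≤ K ∧ Maximal (Cfsg.IsPiSubgroup π) K := by
  have hfin : ({K : Subgroup G | Cfsg.IsPiSubgroup π K} : Set (Subgroup G)).Finite := Set.toFinite _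
  obtain ⟨K, hXK, hK⟩ := hfin.exists_le_maximal (a := X) hX
  exact ⟨K, hXK, hK⟩

theorem d13_map_conj_one {G : Type*} [Group G] (H : Subgroup G) :
    H = H.map (MulAut.conj (1 : G)).toMonoidHom := by
  ext x
  simp [Subgroup.mem_map]

theorem dpi_of_few {G : Type*} [Group G] [Finite G] {π : Set ℕ}
    (hfew : ∀ r s : ℕ, r.Prime → s.Prime → r ∈ π → s ∈ π → r ∣ Nat.card G → s ∣ Nat.card G → r = s) :
    Cfsg.IsDPiGroup π G := by
  intro H K hH hK
  by_cases hex : ∃ r : ℕ, r.Prime ∧ r ∈ π ∧ r ∣ Nat.card G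
  · obtain ⟨r, hr, hrπ, hrG⟩ := hex
    have : Fact r.Prime := ⟨hr⟩
    have key : ∀ X : Subgroup G, Cfsg.IsPiSubgroup π X ↔ IsPGroup r X := by
      intro X
      constructor
      · intro hX
        have hcard : ∃ k, Nat.card X = r ^ k := by
          have hpos : Nat.card X ≠ 0 := Nat.card_pos.ne'
          refine ⟨(Nat.card X).factorization r, ?_⟩
          refine Nat.eq_pow_of_factorization_eq_single hpos ?_
          ext p
          by_cases hpr : p = r
          · subst hpr; simp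
          · rw [Finsupp.single_apply, if_neg (Ne.symm hpr)]
            by_contra hne
            have hp : p.Prime := Nat.prime_of_mem_primeFactors (Nat.support_factorization _ ▸ Finsupp.mem_support_iff.mpr hne)
            have hpd : p ∣ Nat.card X := Nat.dvd_of_mem_primeFactors (Nat.support_factorization _ ▸ Finsupp.mem_support_iff.mpr hne)
            exact hpr (hfew p r hp hr (hX p hp hpd) hrπ (hpd.trans (Subgroup.card_subgroup_dvd_card X)) hrG)
        obtain ⟨k, hk⟩ := hcard
        exact IsPGroup.of_card hk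
      · intro hX p hp hpd
        obtain ⟨k, hk⟩ := IsPGroup.iff_card.mp hX
        rw [hk] at hpd
        have := (Nat.prime_dvd_prime_iff_eq hp hr).mp (hp.dvd_of_dvd_pow hpd)
        rw [this]; exact hrπ
    let P : Sylow r G := ⟨H, (key H).mp hH.1, fun {Q} hQ hHQ => le_antisymm (hH.2 ((key Q).mpr hQ) hHQ) hHQ⟩
    let Q : Sylow r G := ⟨K, (key K).mp hK.1, fun {Q'} hQ hKQ => le_antisymm (hK.2 ((key Q').mpr hQ) hKQ) hKQ⟩
    obtain ⟨g, hg⟩ := MulAction.exists_smul_eq G P Q
    refine ⟨g, ?_⟩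
    have h1 : ((g • P : Sylow r G) : Subgroup G) = (Q : Subgroup G) := by rw [hg]
    rw [Sylow.coe_subgroup_smul, Subgroup.pointwise_smul_def] at h1
    exact h1.symm
  · push Not at hex
    have key : ∀ X : Subgroup G, Cfsg.IsPiSubgroup π X → X = ⊥ := by
      intro X hX
      by_contra hne
      have hc : Nat.card X ≠ 1 := fun h => hne (Subgroup.card_eq_one.mp h)
      obtain ⟨p, hp, hpd⟩ := Nat.exists_prime_and_dvd hc
      exact hex p hp (hX p hp hpd) (hpd.trans (Subgroup.card_subgroup_dvd_card X))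
    refine ⟨1, ?_⟩
    rw [key H hH.1, key K hK.1, Subgroup.map_bot]

theorem dpi_of_full {G : Type*} [Group G] [Finite G] {π : Set ℕ}
    (h : ∀ r : ℕ, r.Prime → r ∣ Nat.card G → r ∈ π) : Cfsg.IsDPiGroup π G := by
  intro H K hH hK
  have hall : ∀ X : Subgroup G, Cfsg.IsPiSubgroup π X := fun X p hp hpd =>
    h p hp (hpd.trans (Subgroup.card_subgroup_dvd_card X))
  have hHt : H = ⊤ := top_le_iff.mp (hH.2 (hall ⊤) le_top)
  have hKt : K = ⊤ := top_le_iff.mp (hK.2 (hall ⊤) le_top)
  refine ⟨1, ?_⟩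
  rw [hHt, hKt]
  exact d13_map_conj_one ⊤

theorem hall_of_dpi {G : Type*} [Group G] [Finite G] {π : Set ℕ} (h : Cfsg.IsDPiGroup π G) :
    ∃ H : Subgroup G, Cfsg.IsPiHall π H ∧
      ∀ X : Subgroup G, Cfsg.IsPiSubgroup π X → ∃ g : G, X.map (MulAut.conj g).toMonoidHom ≤ H := by
  have hbot : Cfsg.IsPiSubgroup π (⊥ : Subgroup G) := by
    intro p hp hpd
    rw [Subgroup.card_bot] at hpd
    exact absurd (Nat.dvd_one.mp hpd) hp.one_lt.ne'
  obtain ⟨H, -, hH⟩ := d13_exists_le_maximal (⊥ : Subgroup G) hbot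
  have hconj : ∀ X : Subgroup G, Cfsg.IsPiSubgroup π X →
      ∃ g : G, X.map (MulAut.conj g).toMonoidHom ≤ H := by
    intro X hX
    obtain ⟨K, hXK, hK⟩ := d13_exists_le_maximal X hX
    obtain ⟨g, hg⟩ := h H K hH hK
    refine ⟨g⁻¹, ?_⟩
    rintro _ ⟨x, hx, rfl⟩
    have hxK : x ∈ H.map (MulAut.conj g).toMonoidHom := hg ▸ hXK hx
    obtain ⟨y, hy, hyx⟩ := hxK
    have : (MulAut.conj g⁻¹).toMonoidHom x = y := by
      rw [← hyx]
      simp [MulAut.conj_apply, mul_assoc]
    rw [this]; exact hy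
  refine ⟨H, ⟨hH.1, ?_⟩, hconj⟩
  intro r hr hrπ hrd
  have : Fact r.Prime := ⟨hr⟩
  obtain ⟨R⟩ : Nonempty (Sylow r G) := inferInstance
  have hRπ : Cfsg.IsPiSubgroup π (R : Subgroup G) := by
    intro p hp hpd
    obtain ⟨k, hk⟩ := IsPGroup.iff_card.mp R.isPGroup'
    rw [hk] at hpd
    have := (Nat.prime_dvd_prime_iff_eq hp hr).mp (hp.dvd_of_dvd_pow hpd)
    rw [this]; exact hrπ
  obtain ⟨g, hg⟩ := hconj R hRπ
  -- card R divides card H
  have hcard : Nat.card (R : Subgroup G) ∣ Nat.card H := by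
    have h1 : Nat.card ((R : Subgroup G).map (MulAut.conj g).toMonoidHom) = Nat.card (R : Subgroup G) :=
      Subgroup.card_map_of_injective (MulAut.conj g).injective
    rw [← h1]
    exact Subgroup.card_dvd_of_le hg
  -- r does not divide index of R, but index H divides index R... use card
  have hR : ¬ r ∣ (R : Subgroup G).index := R.not_dvd_index
  apply hR
  -- index H * card H = card G = index R * card R, card R ∣ card H
  obtain ⟨c, hc⟩ := hcard
  have e1 := Subgroup.card_mul_index H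
  have e2 := Subgroup.card_mul_index (R : Subgroup G)
  have hRpos : 0 < Nat.card (R : Subgroup G) := Nat.card_pos
  have : (R : Subgroup G).index = c * H.index := by
    have : Nat.card (R : Subgroup G) * (R : Subgroup G).index = Nat.card (R : Subgroup G) * (c * H.index) := by
      rw [e2, ← e1, hc]; ring
    exact Nat.eq_of_mul_eq_mul_left hRpos this
  rw [this]
  exact Dvd.dvd.mul_left hrd c

end Cfsg.Agent.Lib.H1.HS
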