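import Cfsg.Agent.Lib.H13.HSDefs2

/-!
# S2534 piece D4: π-subgroups of `A_n` not contained in a Hall π-subgroup
-/

namespace Cfsg.Agent.Lib.H1.HS
open Equiv MulAction Cfsg.Agent.Lib.H13.HS
open scoped Pointwise

/-- an element of prime order `p` stabilizing a set with fewer than `p` points fixes it pointwise. -/
theorem d4_fix_of_small {α : Type*} [Finite α] (g : Perm α) {p : ℕ} (hp : p.Prime)
    (hg : orderOf g = p) (t : Set α) (ht : g ∈ stabilizer (Perm α) t) (hlt : t.ncard < p) :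
    ∀ a ∈ t, g a = a := by
  let φ : stabilizer (Perm α) t →* Perm ↥t := MulAction.toPermHom (stabilizer (Perm α) t) t
  let g' : stabilizer (Perm α) t := ⟨g, ht⟩
  have h1 : orderOf (φ g') ∣ p := by
    have := orderOf_map_dvd φ g'
    rwa [Subgroup.orderOf_mk, hg] at this
  have h2 : orderOf (φ g') ∣ (t.ncard).factorial := by
    have := orderOf_dvd_natCard (φ g')
    rwa [Nat.card_perm, Nat.card_coe_set_eq] at this
  have h3 : orderOf (φ g') = 1 := by
    rcases (Nat.dvd_prime hp).mp h1 with h | h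
    · exact h
    · rw [h] at h2
      exact absurd (hp.dvd_factorial.mp h2) (not_le.mpr hlt)
  have h4 : φ g' = 1 := orderOf_eq_one_iff.mp h3
  intro a ha
  have : (φ g') ⟨a, ha⟩ = ⟨a, ha⟩ := by rw [h4]; rfl
  exact congrArg Subtype.val this

theorem d4_sign_swap_mul_swap {α : Type*} [Finite α] (a b c d : α) (hab : a ≠ b) (hcd : c ≠ d) :
    @Equiv.swap α (Classical.decEq α) a b * @Equiv.swap α (Classical.decEq α) c d ∈ altSub α := by
  classical
  unfold altSub
  let _ := Fintype.ofFinite α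
  rw [Equiv.Perm.mem_alternatingGroup, Equiv.Perm.sign_mul]
  have h1 : Equiv.Perm.sign (@Equiv.swap α (Classical.decEq α) a b) = -1 := by
    convert Equiv.Perm.sign_swap hab
  have h2 : Equiv.Perm.sign (@Equiv.swap α (Classical.decEq α) c d) = -1 := by
    convert Equiv.Perm.sign_swap hcd
  rw [h1, h2]; simp

theorem exists_no_fixed_point {α : Type*} [Finite α] (h5 : 5 ≤ Nat.card α) {π : Set ℕ}
    (hπ : ∀ r : ℕ, r.Prime → r + 2 ≤ Nat.card α → r ∈ π) :
    ∃ X : Subgroup (Perm α), X ≤ altSub α ∧ PiNum π (Nat.card X) ∧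
      ∀ x : α, ¬ X ≤ stabilizer (Perm α) x := by
  classical
  -- two distinct points
  have hcard2 : 1 < Nat.card α := by omega
  have : Nontrivial α := (Finite.one_lt_card_iff_nontrivial).mp hcard2
  obtain ⟨u, v, huv⟩ := exists_pair_ne α
  set s : Set α := {u, v} with hs
  have hsn : s.ncard = 2 := Set.ncard_pair huv
  have hscn : sᶜ.ncard = Nat.card α - 2 := by
    rw [Set.ncard_compl, hsn]
  refine ⟨stabilizer (Perm α) s ⊓ altSub α, inf_le_right, ?_, ?_⟩
  · intro p hp hpd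
    by_cases hle : p + 2 ≤ Nat.card α
    · exact hπ p hp hle
    · exfalso
      have : Fact p.Prime := ⟨hp⟩
      obtain ⟨g, hg⟩ := exists_prime_orderOf_dvd_card' p hpd
      have hgo : orderOf (g : Perm α) = p := by rw [Subgroup.orderOf_coe]; exact hg
      have hgs : (g : Perm α) ∈ stabilizer (Perm α) s := g.2.1
      have hgsc : (g : Perm α) ∈ stabilizer (Perm α) sᶜ := by
        rw [MulAction.mem_stabilizer_iff, Set.smul_set_compl]
        rw [MulAction.mem_stabilizer_iff] at hgs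
        rw [hgs]
      have hp5 : 4 ≤ p := by omega
      have f1 := d4_fix_of_small (g : Perm α) hp hgo s hgs (by omega)
      have f2 := d4_fix_of_small (g : Perm α) hp hgo sᶜ hgsc (by omega)
      have hone : (g : Perm α) = 1 := by
        ext a
        by_cases ha : a ∈ s
        · exact f1 a ha
        · exact f2 a ha
      rw [hone, orderOf_one] at hgo
      exact hp.one_lt.ne hgo
  · intro x hX
    -- points outside {u, v, x}
    have hbig : 2 ≤ (({u, v, x} : Set α)ᶜ).ncard := by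
      rw [Set.ncard_compl]
      have h1 : ({u, v, x} : Set α).ncard ≤ ({v, x} : Set α).ncard + 1 := Set.ncard_insert_le _ _
      have h2 : ({v, x} : Set α).ncard ≤ ({x} : Set α).ncard + 1 := Set.ncard_insert_le _ _
      have h3 : ({x} : Set α).ncard = 1 := Set.ncard_singleton x
      omega
    obtain ⟨y, hy, z, hz, hyz⟩ := (Set.one_lt_ncard (Set.toFinite _)).mp
      (by omega : 1 < (({u, v, x} : Set α)ᶜ).ncard)
    simp only [Set.mem_compl_iff, Set.mem_insert_iff, Set.mem_singleton_iff, not_or] at hy hz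
    by_cases hx : x = u ∨ x = v
    · -- g = swap u v * swap y z
      have hg : Equiv.swap u v * Equiv.swap y z ∈ stabilizer (Perm α) s ⊓ altSub α := by
        refine Subgroup.mem_inf.mpr ⟨?_, ?_⟩
        · rw [MulAction.mem_stabilizer_set]
          intro b
          simp only [Equiv.Perm.smul_def, Equiv.Perm.coe_mul, Function.comp_apply, hs,
            Set.mem_insert_iff, Set.mem_singleton_iff]
          by_cases hby : b = y
          · subst hby
            rw [Equiv.swap_apply_left, Equiv.swap_apply_of_ne_of_ne hz.1 hz.2.1]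
            simp [hy.1, hy.2.1, hz.1, hz.2.1]
          · by_cases hbz : b = z
            · subst hbz
              rw [Equiv.swap_apply_right, Equiv.swap_apply_of_ne_of_ne hy.1 hy.2.1]
              simp [hy.1, hy.2.1, hz.1, hz.2.1]
            · rw [Equiv.swap_apply_of_ne_of_ne hby hbz]
              by_cases hbu : b = u
              · subst hbu; simp
              · by_cases hbv : b = v
                · subst hbv; simp
                · rw [Equiv.swap_apply_of_ne_of_ne hbu hbv]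
        · convert d4_sign_swap_mul_swap u v y z huv hyz
      have := hX hg
      rw [MulAction.mem_stabilizer_iff, Equiv.Perm.smul_def, Equiv.Perm.coe_mul,
        Function.comp_apply] at this
      rcases hx with rfl | rfl
      · rw [Equiv.swap_apply_of_ne_of_ne (Ne.symm hy.1) (Ne.symm hz.1), Equiv.swap_apply_left] at this
        exact huv this.symm
      · rw [Equiv.swap_apply_of_ne_of_ne (Ne.symm hy.2.1) (Ne.symm hz.2.1), Equiv.swap_apply_right] at this
        exact huv this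
    · push Not at hx
      -- g = swap x y * swap y z, a 3-cycle off {u, v}
      have hg : Equiv.swap x y * Equiv.swap y z ∈ stabilizer (Perm α) s ⊓ altSub α := by
        refine Subgroup.mem_inf.mpr ⟨?_, ?_⟩
        · rw [MulAction.mem_stabilizer_set]
          intro b
          simp only [Equiv.Perm.smul_def, Equiv.Perm.coe_mul, Function.comp_apply, hs,
            Set.mem_insert_iff, Set.mem_singleton_iff]
          by_cases hbu : b = u
          · subst hbu
            rw [Equiv.swap_apply_of_ne_of_ne (Ne.symm hy.1) (Ne.symm hz.1),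
              Equiv.swap_apply_of_ne_of_ne (Ne.symm hx.1) (Ne.symm hy.1)]
          · by_cases hbv : b = v
            · subst hbv
              rw [Equiv.swap_apply_of_ne_of_ne (Ne.symm hy.2.1) (Ne.symm hz.2.1),
                Equiv.swap_apply_of_ne_of_ne (Ne.symm hx.2) (Ne.symm hy.2.1)]
            · simp only [hbu, hbv, or_self, iff_false, not_or]
              have key : ∀ c : α, c ≠ u → c ≠ v → ∀ d e : α, d ≠ u → d ≠ v → e ≠ u → e ≠ v →
                  Equiv.swap d e c ≠ u ∧ Equiv.swap d e c ≠ v := by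
                intro c hcu hcv d e hdu hdv heu hev
                by_cases hcd : c = d
                · subst hcd; rw [Equiv.swap_apply_left]; exact ⟨heu, hev⟩
                · by_cases hce : c = e
                  · subst hce; rw [Equiv.swap_apply_right]; exact ⟨hdu, hdv⟩
                  · rw [Equiv.swap_apply_of_ne_of_ne hcd hce]; exact ⟨hcu, hcv⟩
              have k1 := key b hbu hbv y z hy.1 hy.2.1 hz.1 hz.2.1
              exact key _ k1.1 k1.2 x y hx.1 hx.2 hy.1 hy.2.1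
        · convert d4_sign_swap_mul_swap x y y z (Ne.symm hy.2.2) hyz
      have := hX hg
      rw [MulAction.mem_stabilizer_iff, Equiv.Perm.smul_def, Equiv.Perm.coe_mul,
        Function.comp_apply] at this
      rw [Equiv.swap_apply_of_ne_of_ne (Ne.symm hy.2.2) (Ne.symm hz.2.2), Equiv.swap_apply_left] at this
      exact hy.2.2 this

/-! ### transport of explicit permutations of `Fin n` along `e : α ≃ Fin n` -/

/-- transport of a permutation of `Fin n` to `α`. -/
noncomputable def d4_tr {α : Type*} {n : ℕ} (e : α ≃ Fin n) : Perm (Fin n) →* Perm α :=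
  (e.symm.permCongrHom).toMonoidHom

theorem d4_tr_apply {α : Type*} {n : ℕ} (e : α ≃ Fin n) (σ : Perm (Fin n)) (a : α) :
    d4_tr e σ a = e.symm (σ (e a)) := rfl

theorem d4_tr_mem_altSub {α : Type*} [Finite α] {n : ℕ} (e : α ≃ Fin n) (σ : Perm (Fin n))
    (hσ : Equiv.Perm.sign σ = 1) : d4_tr e σ ∈ altSub α := by
  unfold altSub
  rw [@Equiv.Perm.mem_alternatingGroup α (Fintype.ofFinite α) (Classical.decEq α)]
  have : d4_tr e σ = e.symm.permCongr σ := rfl
  rw [this, @Equiv.Perm.sign_permCongr (Fin n) _ α _ (Classical.decEq α) (Fintype.ofFinite α) e.symm σ, hσ]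

/-- the preimage under `e` of a set of `Fin n`. -/
def d4_pre {α : Type*} {n : ℕ} (e : α ≃ Fin n) (T : Set (Fin n)) : Set α := e ⁻¹' T

theorem d4_mem_pre {α : Type*} {n : ℕ} (e : α ≃ Fin n) (T : Set (Fin n)) (a : α) :
    a ∈ d4_pre e T ↔ e a ∈ T := Iff.rfl

theorem d4_ncard_pre {α : Type*} {n : ℕ} (e : α ≃ Fin n) (T : Set (Fin n)) :
    (d4_pre e T).ncard = T.ncard := by
  unfold d4_pre
  rw [← Set.ncard_image_of_injective (e ⁻¹' T) e.injective, Set.image_preimage_eq _ e.surjective]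

theorem d4_pre_injective {α : Type*} {n : ℕ} (e : α ≃ Fin n) {T T' : Set (Fin n)}
    (h : d4_pre e T = d4_pre e T') : T = T' := by
  unfold d4_pre at h
  exact (Set.preimage_injective.mpr e.surjective) h

/-- `tr σ` stabilizes `pre T` as soon as `σ` preserves membership in `T`. -/
theorem d4_tr_mem_stabilizer {α : Type*} {n : ℕ} (e : α ≃ Fin n) (σ : Perm (Fin n))
    (T : Set (Fin n)) (h : ∀ i, σ i ∈ T ↔ i ∈ T) :
    d4_tr e σ ∈ stabilizer (Perm α) (d4_pre e T) := by
  rw [MulAction.mem_stabilizer_set]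
  intro b
  rw [Equiv.Perm.smul_def, d4_tr_apply, d4_mem_pre, d4_mem_pre, Equiv.apply_symm_apply]
  exact h (e b)

/-- `tr σ • pre T = pre T'` as soon as `σ` maps `T` onto `T'`. -/
theorem d4_tr_smul_pre {α : Type*} {n : ℕ} (e : α ≃ Fin n) (σ : Perm (Fin n))
    (T T' : Set (Fin n)) (h : ∀ i, σ i ∈ T' ↔ i ∈ T) :
    d4_tr e σ • d4_pre e T = d4_pre e T' := by
  ext a
  rw [Set.mem_smul_set_iff_inv_smul_mem, d4_mem_pre, d4_mem_pre]
  have h1 : e ((d4_tr e σ)⁻¹ • a) = σ⁻¹ (e a) := by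
    rw [← map_inv, Equiv.Perm.smul_def, d4_tr_apply, Equiv.apply_symm_apply]
  rw [h1, ← h (σ⁻¹ (e a))]
  simp

/-- the Boolean indicator, read on `Fin n`, of a set of `α`. -/
noncomputable def d4_ind {α : Type*} {n : ℕ} (e : α ≃ Fin n) (s : Set α) : Fin n → Bool :=
  fun i => @decide (e.symm i ∈ s) (Classical.propDecidable _)

theorem d4_ind_eq_true {α : Type*} {n : ℕ} (e : α ≃ Fin n) (s : Set α) (i : Fin n) :
    d4_ind e s i = true ↔ e.symm i ∈ s := by
  unfold d4_ind
  simp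

theorem d4_ind_card {α : Type*} {n : ℕ} (e : α ≃ Fin n) (s : Set α) :
    (Finset.univ.filter (fun i => d4_ind e s i = true)).card = s.ncard := by
  have h1 : s = d4_pre e {i | d4_ind e s i = true} := by
    ext a
    rw [d4_mem_pre, Set.mem_ofPred_eq, d4_ind_eq_true, Equiv.symm_apply_apply]
  conv_rhs => rw [h1, d4_ncard_pre]
  rw [Set.ncard_eq_toFinset_card']
  congr 1
  ext i
  simp

/-- if `tr σ` stabilizes `s` then the indicator of `s` is `σ`-invariant. -/
theorem d4_ind_of_stab {α : Type*} {n : ℕ} (e : α ≃ Fin n) (s : Set α) (σ : Perm (Fin n))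
    (h : d4_tr e σ ∈ stabilizer (Perm α) s) : ∀ i, d4_ind e s (σ i) = d4_ind e s i := by
  intro i
  rw [MulAction.mem_stabilizer_set] at h
  have := h (e.symm i)
  rw [Equiv.Perm.smul_def, d4_tr_apply, Equiv.apply_symm_apply] at this
  rw [Bool.eq_iff_iff, d4_ind_eq_true, d4_ind_eq_true]
  exact this

/-- if `tr σ` maps `s` onto its complement then the indicator of `s` is flipped by `σ`. -/
theorem d4_ind_of_compl {α : Type*} {n : ℕ} (e : α ≃ Fin n) (s : Set α) (σ : Perm (Fin n))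
    (h : d4_tr e σ • s = sᶜ) : ∀ i, d4_ind e s (σ i) = !(d4_ind e s i) := by
  intro i
  have h1 : e.symm (σ i) ∈ s ↔ e.symm i ∉ s := by
    have h2 : d4_tr e σ (e.symm i) = e.symm (σ i) := by
      rw [d4_tr_apply, Equiv.apply_symm_apply]
    constructor
    · intro hm hi
      have h3 : d4_tr e σ (e.symm i) ∈ d4_tr e σ • s := Set.smul_mem_smul_set hi
      rw [h, h2] at h3
      exact h3 hm
    · intro hi
      by_contra hm
      have h3 : e.symm (σ i) ∈ d4_tr e σ • s := by rw [h]; exact hm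
      rw [Set.mem_smul_set_iff_inv_smul_mem, ← h2, ← Equiv.Perm.smul_def, inv_smul_smul] at h3
      exact hi h3
  by_cases hi : e.symm i ∈ s
  · have a1 : d4_ind e s i = true := (d4_ind_eq_true e s i).mpr hi
    have a2 : ¬ d4_ind e s (σ i) = true := fun hh => (h1.mp ((d4_ind_eq_true e s _).mp hh)) hi
    rw [a1]; simpa using a2
  · have a1 : ¬ d4_ind e s i = true := fun hh => hi ((d4_ind_eq_true e s i).mp hh)
    have a2 : d4_ind e s (σ i) = true := (d4_ind_eq_true e s _).mpr (h1.mpr hi)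
    rw [a2]; simpa using a1

/-- an element of odd order preserving a pair of sets fixes each of them. -/
theorem d4_odd_stab {α : Type*} (g : Perm α) (t t2 : Set α)
    (hg : g • ({t, t2} : Set (Set α)) = {t, t2}) {p : ℕ} (hodd : Odd p) (hgp : g ^ p = 1) :
    g • t = t := by
  have h1 : g • t ∈ ({t, t2} : Set (Set α)) := by
    rw [← hg]; exact Set.smul_mem_smul_set (Set.mem_insert _ _)
  have h2 : g • t2 ∈ ({t, t2} : Set (Set α)) := by
    rw [← hg]; exact Set.smul_mem_smul_set (Set.mem_insert_of_mem _ rfl)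
  rcases h1 with h1 | h1
  · exact h1
  · rw [Set.mem_singleton_iff] at h1
    rcases h2 with h2 | h2
    · -- g swaps t and t2
      have hev : ∀ k : ℕ, g ^ (2 * k) • t = t := by
        intro k
        induction k with
        | zero => simp
        | succ k ih =>
          rw [show 2 * (k + 1) = 2 * k + 1 + 1 by ring, pow_succ, pow_succ, mul_smul, mul_smul, h1, h2, ih]
      obtain ⟨k, hk⟩ := hodd
      have h3 : g ^ p • t = t2 := by
        rw [hk, pow_succ', mul_smul, hev k, h1]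
      rw [hgp, one_smul] at h3
      rw [h1, h3]
    · rw [Set.mem_singleton_iff] at h2
      have : g • t = g • t2 := by rw [h1, h2]
      have htt : t = t2 := smul_left_cancel g this
      rw [h1, htt]

/-! ### degree 7 -/

/-- `(0 1 2)` -/
def d4_c1 : Perm (Fin 7) := Equiv.swap 0 1 * Equiv.swap 1 2
/-- `(3 4 5)` -/
def d4_c2 : Perm (Fin 7) := Equiv.swap 3 4 * Equiv.swap 4 5
/-- an even permutation exchanging `{0,1,2}` and `{3,4,5}` -/
def d4_sg : Perm (Fin 7) := Equiv.swap 0 3 * Equiv.swap 1 4 * Equiv.swap 2 5 * Equiv.swap 0 1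
/-- `{0,1,2}` -/
def d4_T1 : Set (Fin 7) := {i | i.val < 3}
/-- `{3,4,5}` -/
def d4_T2 : Set (Fin 7) := {i | 3 ≤ i.val ∧ i.val < 6}

set_option maxRecDepth 100000 in
theorem d4_check7 : ∀ f : Fin 7 → Bool, (Finset.univ.filter (fun i => f i = true)).card = 3 →
    (∀ i, f (d4_c1 i) = f i) → (∀ i, f (d4_c2 i) = f i) → (∀ i, f (d4_sg i) = f i) → False := by
  decide

theorem d4_c1_T1 : ∀ i : Fin 7, d4_c1 i ∈ d4_T1 ↔ i ∈ d4_T1 := by
  have : ∀ i : Fin 7, (d4_c1 i).val < 3 ↔ i.val < 3 := by decide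
  exact this
theorem d4_c1_T2 : ∀ i : Fin 7, d4_c1 i ∈ d4_T2 ↔ i ∈ d4_T2 := by
  have : ∀ i : Fin 7, (3 ≤ (d4_c1 i).val ∧ (d4_c1 i).val < 6) ↔ (3 ≤ i.val ∧ i.val < 6) := by decide
  exact this
theorem d4_c2_T1 : ∀ i : Fin 7, d4_c2 i ∈ d4_T1 ↔ i ∈ d4_T1 := by
  have : ∀ i : Fin 7, (d4_c2 i).val < 3 ↔ i.val < 3 := by decide
  exact this
theorem d4_c2_T2 : ∀ i : Fin 7, d4_c2 i ∈ d4_T2 ↔ i ∈ d4_T2 := by
  have : ∀ i : Fin 7, (3 ≤ (d4_c2 i).val ∧ (d4_c2 i).val < 6) ↔ (3 ≤ i.val ∧ i.val < 6) := by decide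
  exact this
theorem d4_sg_T1 : ∀ i : Fin 7, d4_sg i ∈ d4_T2 ↔ i ∈ d4_T1 := by
  have : ∀ i : Fin 7, (3 ≤ (d4_sg i).val ∧ (d4_sg i).val < 6) ↔ i.val < 3 := by decide
  exact this
theorem d4_sg_T2 : ∀ i : Fin 7, d4_sg i ∈ d4_T1 ↔ i ∈ d4_T2 := by
  have : ∀ i : Fin 7, (d4_sg i).val < 3 ↔ (3 ≤ i.val ∧ i.val < 6) := by decide
  exact this

instance : DecidablePred (· ∈ d4_T1) := fun i => inferInstanceAs (Decidable (i.val < 3))
instance : DecidablePred (· ∈ d4_T2) := fun i => inferInstanceAs (Decidable (3 ≤ i.val ∧ i.val < 6))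

theorem d4_ncard_T1 : d4_T1.ncard = 3 := by
  rw [Set.ncard_eq_toFinset_card']
  decide
theorem d4_ncard_T2 : d4_T2.ncard = 3 := by
  rw [Set.ncard_eq_toFinset_card']
  decide

theorem d4_prime_ge_five {p : ℕ} (hp : p.Prime) (h2 : p ≠ 2) (h3 : p ≠ 3) : 5 ≤ p ∧ Odd p := by
  have hodd : Odd p := hp.odd_of_ne_two h2
  refine ⟨?_, hodd⟩
  by_contra hlt
  have h5 : p < 5 := by omega
  have h1 := hp.two_le
  interval_cases p
  · exact h2 rfl
  · exact h3 rfl
  · exact absurd hp (by decide)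

theorem exists_no_three_set {α : Type*} [Finite α] (h7 : Nat.card α = 7) {π : Set ℕ}
    (h2 : 2 ∈ π) (h3 : 3 ∈ π) :
    ∃ X : Subgroup (Perm α), X ≤ altSub α ∧ PiNum π (Nat.card X) ∧
      ∀ s : Set α, s.ncard = 3 → ¬ X ≤ stabilizer (Perm α) s := by
  classical
  have e : α ≃ Fin 7 := Finite.equivFinOfCardEq h7
  set t1 : Set α := d4_pre e d4_T1 with ht1
  set t2 : Set α := d4_pre e d4_T2 with ht2
  have hmem : ∀ σ : Perm (Fin 7), Equiv.Perm.sign σ = 1 →
      ((d4_tr e σ • t1 = t1 ∧ d4_tr e σ • t2 = t2) ∨ (d4_tr e σ • t1 = t2 ∧ d4_tr e σ • t2 = t1)) →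
      d4_tr e σ ∈ stabilizer (Perm α) ({t1, t2} : Set (Set α)) ⊓ altSub α := by
    intro σ hs h
    refine Subgroup.mem_inf.mpr ⟨?_, d4_tr_mem_altSub e σ hs⟩
    rw [MulAction.mem_stabilizer_iff, Set.smul_set_insert, Set.smul_set_singleton]
    rcases h with ⟨a, b⟩ | ⟨a, b⟩
    · rw [a, b]
    · rw [a, b, Set.pair_comm]
  have m1 : d4_tr e d4_c1 ∈ stabilizer (Perm α) ({t1, t2} : Set (Set α)) ⊓ altSub α :=
    hmem _ (by decide) (Or.inl ⟨d4_tr_smul_pre e _ _ _ d4_c1_T1, d4_tr_smul_pre e _ _ _ d4_c1_T2⟩)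
  have m2 : d4_tr e d4_c2 ∈ stabilizer (Perm α) ({t1, t2} : Set (Set α)) ⊓ altSub α :=
    hmem _ (by decide) (Or.inl ⟨d4_tr_smul_pre e _ _ _ d4_c2_T1, d4_tr_smul_pre e _ _ _ d4_c2_T2⟩)
  have m3 : d4_tr e d4_sg ∈ stabilizer (Perm α) ({t1, t2} : Set (Set α)) ⊓ altSub α :=
    hmem _ (by decide) (Or.inr ⟨d4_tr_smul_pre e _ _ _ d4_sg_T1, d4_tr_smul_pre e _ _ _ d4_sg_T2⟩)
  refine ⟨stabilizer (Perm α) ({t1, t2} : Set (Set α)) ⊓ altSub α, inf_le_right, ?_, ?_⟩
  · intro p hp hpd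
    by_contra hpπ
    have hp2 : p ≠ 2 := fun h => hpπ (h ▸ h2)
    have hp3 : p ≠ 3 := fun h => hpπ (h ▸ h3)
    obtain ⟨hp5, hodd⟩ := d4_prime_ge_five hp hp2 hp3
    have : Fact p.Prime := ⟨hp⟩
    obtain ⟨g, hg⟩ := exists_prime_orderOf_dvd_card' p hpd
    have hgo : orderOf (g : Perm α) = p := by rw [Subgroup.orderOf_coe]; exact hg
    have hgp : (g : Perm α) ^ p = 1 := by rw [← hgo]; exact pow_orderOf_eq_one _
    have hgs : (g : Perm α) • ({t1, t2} : Set (Set α)) = {t1, t2} :=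
      MulAction.mem_stabilizer_iff.mp g.2.1
    have hg1 : (g : Perm α) • t1 = t1 := d4_odd_stab _ t1 t2 hgs hodd hgp
    have hgs' : (g : Perm α) • ({t2, t1} : Set (Set α)) = {t2, t1} := by
      have hc : ({t2, t1} : Set (Set α)) = {t1, t2} := Set.pair_comm t2 t1
      rw [hc]; exact hgs
    have hg2 : (g : Perm α) • t2 = t2 := d4_odd_stab _ t2 t1 hgs' hodd hgp
    have f1 := d4_fix_of_small (g : Perm α) hp hgo t1 (MulAction.mem_stabilizer_iff.mpr hg1)
      (by rw [ht1, d4_ncard_pre, d4_ncard_T1]; omega)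
    have f2 := d4_fix_of_small (g : Perm α) hp hgo t2 (MulAction.mem_stabilizer_iff.mpr hg2)
      (by rw [ht2, d4_ncard_pre, d4_ncard_T2]; omega)
    have hcase : ∀ a : α, a ∈ t1 ∨ a ∈ t2 ∨ e a = 6 := by
      intro a
      have : ∀ i : Fin 7, i.val < 3 ∨ (3 ≤ i.val ∧ i.val < 6) ∨ i = 6 := by decide
      exact this (e a)
    have h6 : ∀ a : α, e a = 6 → a ∉ t1 ∧ a ∉ t2 := by
      intro a ha
      have : ∀ i : Fin 7, i = 6 → ¬ i.val < 3 ∧ ¬ (3 ≤ i.val ∧ i.val < 6) := by decide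
      exact this (e a) ha
    have hone : (g : Perm α) = 1 := by
      ext a
      rcases hcase a with ha | ha | ha
      · exact f1 a ha
      · exact f2 a ha
      · rcases hcase ((g : Perm α) a) with hb | hb | hb
        · have := f1 _ hb
          have hab : (g : Perm α) a = a := (g : Perm α).injective this
          rw [hab] at hb
          exact absurd hb (h6 a ha).1
        · have := f2 _ hb
          have hab : (g : Perm α) a = a := (g : Perm α).injective this
          rw [hab] at hb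
          exact absurd hb (h6 a ha).2
        · exact e.injective (hb.trans ha.symm)
    rw [hone, orderOf_one] at hgo
    exact hp.one_lt.ne hgo
  · intro s hs hX
    have i1 := d4_ind_of_stab e s d4_c1 (hX m1)
    have i2 := d4_ind_of_stab e s d4_c2 (hX m2)
    have i3 := d4_ind_of_stab e s d4_sg (hX m3)
    exact d4_check7 (d4_ind e s) ((d4_ind_card e s).trans hs) i1 i2 i3

/-! ### degree 8 -/

/-- `(0 1 2)` -/
def d4_d1 : Perm (Fin 8) := Equiv.swap 0 1 * Equiv.swap 1 2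
/-- `(3 4 5)` -/
def d4_d2 : Perm (Fin 8) := Equiv.swap 3 4 * Equiv.swap 4 5
/-- `(6 7)(0 1)` -/
def d4_d3 : Perm (Fin 8) := Equiv.swap 6 7 * Equiv.swap 0 1
/-- `{0,1,2}` -/
def d4_U1 : Set (Fin 8) := {i | i.val < 3}
/-- `{3,4,5}` -/
def d4_U2 : Set (Fin 8) := {i | 3 ≤ i.val ∧ i.val < 6}
/-- `{6,7}` -/
def d4_U3 : Set (Fin 8) := {i | 6 ≤ i.val}

set_option maxRecDepth 100000 in
theorem d4_check8 : ∀ f : Fin 8 → Bool, (Finset.univ.filter (fun i => f i = true)).card = 4 →
    ((∀ i, f (d4_d1 i) = f i) ∨ (∀ i, f (d4_d1 i) = !(f i))) →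
    ((∀ i, f (d4_d2 i) = f i) ∨ (∀ i, f (d4_d2 i) = !(f i))) →
    ((∀ i, f (d4_d3 i) = f i) ∨ (∀ i, f (d4_d3 i) = !(f i))) → False := by
  decide

theorem d4_d1_U1 : ∀ i : Fin 8, d4_d1 i ∈ d4_U1 ↔ i ∈ d4_U1 := by
  have : ∀ i : Fin 8, (d4_d1 i).val < 3 ↔ i.val < 3 := by decide
  exact this
theorem d4_d1_U2 : ∀ i : Fin 8, d4_d1 i ∈ d4_U2 ↔ i ∈ d4_U2 := by
  have : ∀ i : Fin 8, (3 ≤ (d4_d1 i).val ∧ (d4_d1 i).val < 6) ↔ (3 ≤ i.val ∧ i.val < 6) := by decide
  exact this
theorem d4_d2_U1 : ∀ i : Fin 8, d4_d2 i ∈ d4_U1 ↔ i ∈ d4_U1 := by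
  have : ∀ i : Fin 8, (d4_d2 i).val < 3 ↔ i.val < 3 := by decide
  exact this
theorem d4_d2_U2 : ∀ i : Fin 8, d4_d2 i ∈ d4_U2 ↔ i ∈ d4_U2 := by
  have : ∀ i : Fin 8, (3 ≤ (d4_d2 i).val ∧ (d4_d2 i).val < 6) ↔ (3 ≤ i.val ∧ i.val < 6) := by decide
  exact this
theorem d4_d3_U1 : ∀ i : Fin 8, d4_d3 i ∈ d4_U1 ↔ i ∈ d4_U1 := by
  have : ∀ i : Fin 8, (d4_d3 i).val < 3 ↔ i.val < 3 := by decide
  exact this
theorem d4_d3_U2 : ∀ i : Fin 8, d4_d3 i ∈ d4_U2 ↔ i ∈ d4_U2 := by
  have : ∀ i : Fin 8, (3 ≤ (d4_d3 i).val ∧ (d4_d3 i).val < 6) ↔ (3 ≤ i.val ∧ i.val < 6) := by decide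
  exact this

instance : DecidablePred (· ∈ d4_U1) := fun i => inferInstanceAs (Decidable (i.val < 3))
instance : DecidablePred (· ∈ d4_U2) := fun i => inferInstanceAs (Decidable (3 ≤ i.val ∧ i.val < 6))
instance : DecidablePred (· ∈ d4_U3) := fun i => inferInstanceAs (Decidable (6 ≤ i.val))

theorem d4_ncard_U1 : d4_U1.ncard = 3 := by
  rw [Set.ncard_eq_toFinset_card']
  decide
theorem d4_ncard_U2 : d4_U2.ncard = 3 := by
  rw [Set.ncard_eq_toFinset_card']
  decide
theorem d4_ncard_U3 : d4_U3.ncard = 2 := by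
  rw [Set.ncard_eq_toFinset_card']
  decide

theorem exists_no_partition {α : Type*} [Finite α] (h8 : Nat.card α = 8) {π : Set ℕ}
    (h2 : 2 ∈ π) (h3 : 3 ∈ π) :
    ∃ X : Subgroup (Perm α), X ≤ altSub α ∧ PiNum π (Nat.card X) ∧
      ∀ s : Set α, s.ncard = 4 → ¬ X ≤ partStab s := by
  classical
  have e : α ≃ Fin 8 := Finite.equivFinOfCardEq h8
  set s1 : Set α := d4_pre e d4_U1 with hs1
  set s2 : Set α := d4_pre e d4_U2 with hs2
  set s3 : Set α := d4_pre e d4_U3 with hs3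
  have hmem : ∀ σ : Perm (Fin 8), Equiv.Perm.sign σ = 1 →
      (∀ i, σ i ∈ d4_U1 ↔ i ∈ d4_U1) → (∀ i, σ i ∈ d4_U2 ↔ i ∈ d4_U2) →
      d4_tr e σ ∈ stabilizer (Perm α) s1 ⊓ stabilizer (Perm α) s2 ⊓ altSub α := by
    intro σ hs a b
    exact Subgroup.mem_inf.mpr ⟨Subgroup.mem_inf.mpr
      ⟨d4_tr_mem_stabilizer e σ _ a, d4_tr_mem_stabilizer e σ _ b⟩, d4_tr_mem_altSub e σ hs⟩
  have m1 := hmem d4_d1 (by decide) d4_d1_U1 d4_d1_U2
  have m2 := hmem d4_d2 (by decide) d4_d2_U1 d4_d2_U2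
  have m3 := hmem d4_d3 (by decide) d4_d3_U1 d4_d3_U2
  refine ⟨stabilizer (Perm α) s1 ⊓ stabilizer (Perm α) s2 ⊓ altSub α, inf_le_right, ?_, ?_⟩
  · intro p hp hpd
    by_contra hpπ
    have hp2 : p ≠ 2 := fun h => hpπ (h ▸ h2)
    have hp3 : p ≠ 3 := fun h => hpπ (h ▸ h3)
    obtain ⟨hp5, hodd⟩ := d4_prime_ge_five hp hp2 hp3
    have : Fact p.Prime := ⟨hp⟩
    obtain ⟨g, hg⟩ := exists_prime_orderOf_dvd_card' p hpd
    have hgo : orderOf (g : Perm α) = p := by rw [Subgroup.orderOf_coe]; exact hg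
    have hg1 : (g : Perm α) ∈ stabilizer (Perm α) s1 := (Subgroup.mem_inf.mp g.2.1).1
    have hg2 : (g : Perm α) ∈ stabilizer (Perm α) s2 := (Subgroup.mem_inf.mp g.2.1).2
    have hcase : ∀ a : α, a ∈ s3 ↔ (a ∉ s1 ∧ a ∉ s2) := by
      intro a
      have : ∀ i : Fin 8, 6 ≤ i.val ↔ (¬ i.val < 3 ∧ ¬ (3 ≤ i.val ∧ i.val < 6)) := by decide
      exact this (e a)
    have hg3 : (g : Perm α) ∈ stabilizer (Perm α) s3 := by
      rw [MulAction.mem_stabilizer_set] at hg1 hg2 ⊢
      intro b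
      rw [hcase, hcase, hg1 b, hg2 b]
    have f1 := d4_fix_of_small (g : Perm α) hp hgo s1 hg1
      (by rw [hs1, d4_ncard_pre, d4_ncard_U1]; omega)
    have f2 := d4_fix_of_small (g : Perm α) hp hgo s2 hg2
      (by rw [hs2, d4_ncard_pre, d4_ncard_U2]; omega)
    have f3 := d4_fix_of_small (g : Perm α) hp hgo s3 hg3
      (by rw [hs3, d4_ncard_pre, d4_ncard_U3]; omega)
    have hone : (g : Perm α) = 1 := by
      ext a
      by_cases ha1 : a ∈ s1
      · exact f1 a ha1
      · by_cases ha2 : a ∈ s2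
        · exact f2 a ha2
        · exact f3 a ((hcase a).mpr ⟨ha1, ha2⟩)
    rw [hone, orderOf_one] at hgo
    exact hp.one_lt.ne hgo
  · intro B hB hX
    have key : ∀ σ : Perm (Fin 8), d4_tr e σ ∈ partStab B →
        ((∀ i, d4_ind e B (σ i) = d4_ind e B i) ∨ (∀ i, d4_ind e B (σ i) = !(d4_ind e B i))) := by
      intro σ hσ
      unfold partStab at hσ
      rw [MulAction.mem_stabilizer_iff] at hσ
      have h1 : d4_tr e σ • B ∈ ({B, Bᶜ} : Set (Set α)) := by
        rw [← hσ]; exact Set.smul_mem_smul_set (Set.mem_insert _ _)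
      rcases h1 with h1 | h1
      · exact Or.inl (d4_ind_of_stab e B σ (MulAction.mem_stabilizer_iff.mpr h1))
      · exact Or.inr (d4_ind_of_compl e B σ h1)
    exact d4_check8 (d4_ind e B) ((d4_ind_card e B).trans hB)
      (key _ (hX m1)) (key _ (hX m2)) (key _ (hX m3))

end Cfsg.Agent.Lib.H1.HS
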