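import Cfsg.Agent.Lib.H13.HSDefs

/-!
# S2536 piece P1 HALLGEN: general facts on Hall subgroups of a finite group
-/

namespace Cfsg.Agent.Lib.H1.HS
open Equiv MulAction Cfsg.Agent.Lib.H13.HS
open scoped Pointwise

section P1
variable {G : Type*} [Group G] [Finite G] {π : Set ℕ} {H K : Subgroup G}

theorem hall_map {Q : Type*} [Group Q] (φ : G →* Q) (hφ : Function.Surjective φ)
    (hH : Cfsg.IsPiHall π H) : Cfsg.IsPiHall π (H.map φ) := by
  refine ⟨fun p hp hpd => hH.1 p hp ?_, fun p hp hpπ hpd => hH.2 p hp hpπ ?_⟩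
  · exact hpd.trans (Subgroup.card_map_dvd H φ)
  · exact hpd.trans (Subgroup.index_map_dvd H hφ)

theorem hall_subgroupOf (hH : Cfsg.IsPiHall π H) (hHK : H ≤ K) :
    Cfsg.IsPiHall π (H.subgroupOf K) := by
  refine ⟨fun p hp hpd => hH.1 p hp ?_, fun p hp hpπ hpd => hH.2 p hp hpπ ?_⟩
  · rwa [Nat.card_congr (Subgroup.subgroupOfEquivOfLe hHK).toEquiv] at hpd
  · exact hpd.trans (Subgroup.relIndex_dvd_index_of_le hHK)

theorem hall_piFree_index_of_le (hH : Cfsg.IsPiHall π H) (hHK : H ≤ K) : PiFree π K.index := by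
  intro p hp hpπ hpd
  exact hH.2 p hp hpπ (hpd.trans (Subgroup.index_dvd_of_le hHK))

theorem hall_eq_of_le (hH : Cfsg.IsPiHall π H) (hHK : H ≤ K) (hK : PiNum π (Nat.card K)) :
    H = K := by
  have h1 : H.relIndex K = 1 := by
    by_contra hne
    obtain ⟨p, hp, hpd⟩ := Nat.exists_prime_and_dvd hne
    have hpK : p ∣ Nat.card K := by
      have := Subgroup.card_mul_index (H.subgroupOf K)
      exact hpd.trans (Dvd.intro_left _ this)
    exact hH.2 p hp (hK p hp hpK) (hpd.trans (Subgroup.relIndex_dvd_index_of_le hHK))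
  exact le_antisymm hHK (Subgroup.relIndex_eq_one.mp h1)

theorem hall_prime_dvd_card (hH : Cfsg.IsPiHall π H) {r : ℕ} (hr : r.Prime) (hrπ : r ∈ π)
    (hrG : r ∣ Nat.card G) : r ∣ Nat.card H := by
  rw [← Subgroup.card_mul_index H] at hrG
  rcases hr.dvd_mul.mp hrG with h | h
  · exact h
  · exact absurd h (hH.2 r hr hrπ)

theorem hall_conj_pgroup (hH : Cfsg.IsPiHall π H) {r : ℕ} (hr : r.Prime) (hrπ : r ∈ π)
    (X : Subgroup G) (hX : IsPGroup r X) : ∃ g : G, ∀ x ∈ X, g * x * g⁻¹ ∈ H := by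
  have : Fact r.Prime := ⟨hr⟩
  -- a Sylow r-subgroup of H, pushed to G, is Sylow in G
  obtain ⟨S⟩ : Nonempty (Sylow r H) := inferInstance
  have hSidx : ¬ r ∣ ((S : Subgroup H).map H.subtype).index := by
    intro hd
    have h1 : ((S : Subgroup H).map H.subtype).index = (S : Subgroup H).index * H.index := by
      rw [Subgroup.index_map_subtype]
    rw [h1] at hd
    rcases hr.dvd_mul.mp hd with h | h
    · exact S.not_dvd_index h
    · exact hH.2 r hr hrπ h
  have hSp : IsPGroup r ((S : Subgroup H).map H.subtype) := S.isPGroup'.map H.subtype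
  let T : Sylow r G := hSp.toSylow hSidx
  obtain ⟨P, hXP⟩ := hX.exists_le_sylow
  obtain ⟨g, hg⟩ := MulAction.exists_smul_eq G P T
  refine ⟨g, fun x hx => ?_⟩
  have hxP : x ∈ (P : Subgroup G) := hXP hx
  have h2 : g * x * g⁻¹ ∈ ((g • P : Sylow r G) : Subgroup G) := by
    rw [Sylow.coe_subgroup_smul]
    have := Subgroup.smul_mem_pointwise_smul x (MulAut.conj g) (P : Subgroup G) hxP
    simpa [MulAut.smul_def] using this
  rw [hg] at h2
  have h3 : g * x * g⁻¹ ∈ (S : Subgroup H).map H.subtype := h2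
  obtain ⟨y, _, hy⟩ := h3
  rw [← hy]
  exact y.2

theorem hall_conj_elt (hH : Cfsg.IsPiHall π H) {r : ℕ} (hr : r.Prime) (hrπ : r ∈ π)
    (x : G) (k : ℕ) (hx : orderOf x = r ^ k) : ∃ g : G, g * x * g⁻¹ ∈ H := by
  have hX : IsPGroup r (Subgroup.zpowers x) := by
    have : Fact r.Prime := ⟨hr⟩
    refine IsPGroup.of_card (n := k) ?_
    rw [Nat.card_zpowers, hx]
  obtain ⟨g, hg⟩ := hall_conj_pgroup hH hr hrπ (Subgroup.zpowers x) hX
  exact ⟨g, hg x (Subgroup.mem_zpowers x)⟩

theorem hall_inf_normal (hH : Cfsg.IsPiHall π H) (N : Subgroup G) [N.Normal] :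
    Cfsg.IsPiHall π (H.subgroupOf N) := by
  refine ⟨fun p hp hpd => hH.1 p hp ?_, fun p hp hpπ hpd => hH.2 p hp hpπ ?_⟩
  · -- card (H.subgroupOf N) = card (H ⊓ N) divides card H
    have h1 : Nat.card (H.subgroupOf N) = Nat.card ((H ⊓ N : Subgroup G)) := by
      rw [← Subgroup.inf_subgroupOf_right]
      exact Nat.card_congr (Subgroup.subgroupOfEquivOfLe inf_le_right).toEquiv
    rw [h1] at hpd
    exact hpd.trans (Subgroup.card_dvd_of_le inf_le_left)
  · -- index = relIndex H N = relIndex H (H ⊔ N) divides index H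
    have h1 : (H.subgroupOf N).index = H.relIndex N := rfl
    rw [h1] at hpd
    have h2 : H.relIndex N = H.relIndex (H ⊔ N) := by
      have e1 := Subgroup.relIndex_mul_relIndex (H ⊓ N) H (H ⊔ N) inf_le_left le_sup_left
      have e2 := Subgroup.relIndex_mul_relIndex (H ⊓ N) N (H ⊔ N) inf_le_right le_sup_right
      rw [Subgroup.inf_relIndex_left] at e1
      rw [Subgroup.inf_relIndex_right, Subgroup.relIndex_sup_right] at e2
      have h0 : N.relIndex H ≠ 0 := by
        unfold Subgroup.relIndex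
        exact Subgroup.index_ne_zero_of_finite
      have e3 : N.relIndex H * H.relIndex (H ⊔ N) = N.relIndex H * H.relIndex N := by
        rw [e1, ← e2, mul_comm]
      exact (Nat.eq_of_mul_eq_mul_left (Nat.pos_of_ne_zero h0) e3).symm
    rw [h2] at hpd
    exact hpd.trans (Subgroup.relIndex_dvd_index_of_le le_sup_left)
end P1

end Cfsg.Agent.Lib.H1.HS
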