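import Cfsg.Agent.Lib.H25.HTPAIR
import Cfsg.Prelude.Def_CaseTheorems

set_option autoImplicit false

/-! # S3371 piece N2 (helper1): normalisation for `p = 2`

Replace `a` by `a` or `a z` so that it fixes a non-zero vector; the new element is not central. -/

namespace Cfsg.Agent.Lib.H1.HT

open Cfsg Cfsg.Agent.Lib.H4.HT

variable {q : ℕ} {V : Type*} [AddCommGroup V] [Module (ZMod q) V] {G : Type*} [Group G]

theorem two_normalize [Fact q.Prime] [Nontrivial V] (hq2 : 2 ≠ q) (ρ : G →* (V ≃ₗ[ZMod q] V))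
    (hc : CentFpf ρ) (a z : G) (hz : z ∈ Subgroup.center G) (hz1 : z ≠ 1) (hz2 : z ^ 2 = 1)
    (ha2 : a ^ 2 = 1) (haz : a ∉ Subgroup.zpowers z) (hconj : ∀ g : G, ∃ k : ℕ, g * a * g⁻¹ = a * z ^ k) :
    ∃ b : G, b * b = 1 ∧ b ≠ 1 ∧ (∀ g : G, g * b * g⁻¹ = b ∨ g * b * g⁻¹ = b * z) ∧
      (∃ w : V, w ≠ 0 ∧ ρ b w = w) ∧ ∃ t : G, t * b * t⁻¹ = b * z := by
  have hzc : ∀ g : G, g * z = z * g := fun g => Subgroup.mem_center_iff.mp hz g
  have hzpc : ∀ (n : ℕ) (g : G), g * z ^ n = z ^ n * g := by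
    intro n g
    exact Subgroup.mem_center_iff.mp (Subgroup.pow_mem _ hz n) g
  obtain ⟨i, j, hne1, v, hv0, hv⟩ :=
    Cfsg.Agent.Lib.H25.HT.exists_fixed_of_pair Nat.prime_two hq2 ρ a z (hzc a) ha2 hz2 hz1 haz
  rw [pow_eq_pow_mod i ha2, pow_eq_pow_mod j hz2] at hne1 hv
  have hi : i % 2 = 0 ∨ i % 2 = 1 := Nat.mod_two_eq_zero_or_one i
  have hj : j % 2 = 0 ∨ j % 2 = 1 := Nat.mod_two_eq_zero_or_one j
  -- the case `i` even is impossible
  have hi1 : i % 2 = 1 := by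
    rcases hi with hi | hi
    · exfalso
      rw [hi, pow_zero, one_mul] at hne1 hv
      rcases hj with hj | hj
      · rw [hj, pow_zero] at hne1
        exact hne1 rfl
      · rw [hj, pow_one] at hv
        exact hv0 (hc z hz hz1 v hv)
    · exact hi
  rw [hi1, pow_one] at hne1 hv
  -- general facts about `b = a * z ^ e`
  have key : ∀ e : ℕ, a * z ^ e ≠ 1 → ρ (a * z ^ e) v = v →
      ∃ b : G, b * b = 1 ∧ b ≠ 1 ∧ (∀ g : G, g * b * g⁻¹ = b ∨ g * b * g⁻¹ = b * z) ∧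
        (∃ w : V, w ≠ 0 ∧ ρ b w = w) ∧ ∃ t : G, t * b * t⁻¹ = b * z := by
    intro e hb1 hbv
    have hbb : (a * z ^ e) * (a * z ^ e) = 1 := by
      calc (a * z ^ e) * (a * z ^ e) = a * (z ^ e * a) * z ^ e := by group
        _ = a * (a * z ^ e) * z ^ e := by rw [hzpc e a]
        _ = a ^ 2 * (z ^ 2) ^ e := by
            rw [← pow_mul, mul_comm 2 e, pow_mul, pow_two, pow_two]
            simp only [mul_assoc]
        _ = 1 := by rw [ha2, hz2, one_pow, one_mul]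
    have hcj : ∀ g : G, g * (a * z ^ e) * g⁻¹ = a * z ^ e ∨ g * (a * z ^ e) * g⁻¹ = a * z ^ e * z := by
      intro g
      obtain ⟨k, hk⟩ := hconj g
      have h1 : g * (a * z ^ e) * g⁻¹ = a * z ^ e * z ^ (k % 2) := by
        calc g * (a * z ^ e) * g⁻¹ = (g * a * g⁻¹) * (g * z ^ e * g⁻¹) := by group
          _ = (a * z ^ k) * (z ^ e * g * g⁻¹) := by rw [hk, hzpc e g]
          _ = a * (z ^ k * z ^ e) := by group
          _ = a * (z ^ e * z ^ k) := by rw [← pow_add, ← pow_add, add_comm]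
          _ = a * z ^ e * z ^ (k % 2) := by rw [pow_eq_pow_mod k hz2, mul_assoc]
      rcases Nat.mod_two_eq_zero_or_one k with hk2 | hk2
      · left; rw [h1, hk2, pow_zero, mul_one]
      · right; rw [h1, hk2, pow_one]
    refine ⟨a * z ^ e, hbb, hb1, hcj, ⟨v, hv0, hbv⟩, ?_⟩
    by_contra hno
    have hcen : a * z ^ e ∈ Subgroup.center G := by
      rw [Subgroup.mem_center_iff]
      intro g
      rcases hcj g with h | h
      · calc g * (a * z ^ e) = (g * (a * z ^ e) * g⁻¹) * g := by group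
          _ = a * z ^ e * g := by rw [h]
      · exact absurd ⟨g, h⟩ hno
    exact hv0 (hc _ hcen hb1 v hbv)
  exact key (j % 2) hne1 hv

end Cfsg.Agent.Lib.H1.HT
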