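import Cfsg.Agent.Lib.H25.HTPAIR
import Cfsg.Agent.S0016

set_option autoImplicit false

/-! # S3371 piece SR (helper1): a semiregular `p`-group of linear maps is cyclic or generalized quaternion -/

namespace Cfsg.Agent.Lib.H1.HT

open Cfsg Cfsg.Agent.Lib.H4.HT

variable {q : ℕ} {V : Type*} [AddCommGroup V] [Module (ZMod q) V] {G : Type*} [Group G]

/-- a subgroup of prime order is generated by any of its non-identity elements -/
theorem sr_eq_zpowers [Finite G] {p : ℕ} [hp : Fact p.Prime] (H : Subgroup G) (hH : Nat.card H = p) :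
    ∃ a : G, a ≠ 1 ∧ a ^ p = 1 ∧ H = Subgroup.zpowers a := by
  have : Nontrivial H := by
    rw [← Finite.one_lt_card_iff_nontrivial, hH]
    exact hp.out.one_lt
  obtain ⟨⟨a, haH⟩, ha1⟩ := exists_ne (1 : H)
  have ha1' : a ≠ 1 := fun h => ha1 (Subtype.ext h)
  have hord : orderOf a ∣ p := by
    have h1 : orderOf (⟨a, haH⟩ : H) ∣ Nat.card H := orderOf_dvd_natCard _
    rw [hH] at h1
    rwa [Subgroup.orderOf_mk] at h1
  have hordp : orderOf a = p := by
    rcases (Nat.dvd_prime hp.out).mp hord with h | h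
    · exact absurd (orderOf_eq_one_iff.mp h) ha1'
    · exact h
  refine ⟨a, ha1', ?_, ?_⟩
  · rw [← hordp]; exact pow_orderOf_eq_one a
  · symm
    apply Subgroup.eq_of_le_of_card_ge
    · rw [Subgroup.zpowers_le]; exact haH
    · rw [hH, Nat.card_zpowers, hordp]

/-- P3 (M): semiregular ⇒ cyclic or generalized quaternion. -/
theorem cyclic_or_quat_of_semireg [Fact q.Prime] [Nontrivial V] [Finite G] {p : ℕ} [Fact p.Prime]
    (hG : IsPGroup p G) (hpq : p ≠ q) (ρ : G →* (V ≃ₗ[ZMod q] V)) (hsr : Semireg ρ) :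
    IsCyclic G ∨ ∃ n : ℕ, Nonempty (G ≃* QuaternionGroup n) := by
  have hp : p.Prime := Fact.out
  have key : ∀ H K : Subgroup G, Nat.card H = p → Nat.card K = p → H = K := by
    intro H K hH hK
    -- `G` is nontrivial
    obtain ⟨a, ha1, hap, rfl⟩ := sr_eq_zpowers H hH
    haveI : Nontrivial G := ⟨⟨a, 1, ha1⟩⟩
    -- a central element of order `p`
    haveI : Nontrivial (Subgroup.center G) := hG.center_nontrivial
    have hdvd : p ∣ Nat.card (Subgroup.center G) := by
      obtain ⟨n, hn⟩ := (hG.to_subgroup (Subgroup.center G)).exists_card_eq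
      have hn0 : n ≠ 0 := by
        rintro rfl
        rw [pow_zero] at hn
        have : 1 < Nat.card (Subgroup.center G) := Finite.one_lt_card
        omega
      rw [hn]
      exact dvd_pow_self p hn0
    obtain ⟨⟨z, hzc⟩, hz⟩ := exists_prime_orderOf_dvd_card' p hdvd
    have hzo : orderOf z = p := by rwa [Subgroup.orderOf_mk] at hz
    have hz1 : z ≠ 1 := by
      intro h
      rw [h, orderOf_one] at hzo
      exact hp.one_lt.ne hzo
    have hzp : z ^ p = 1 := by rw [← hzo]; exact pow_orderOf_eq_one z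
    -- every subgroup of order `p` is `⟨z⟩`
    have main : ∀ b : G, b ≠ 1 → b ^ p = 1 → Nat.card (Subgroup.zpowers b) = p →
        Subgroup.zpowers b = Subgroup.zpowers z := by
      intro b hb1 hbp hcard
      by_contra hne
      have hb' : b ∉ Subgroup.zpowers z := by
        intro hmem
        apply hne
        apply Subgroup.eq_of_le_of_card_ge
        · rw [Subgroup.zpowers_le]; exact hmem
        · rw [hcard, Nat.card_zpowers, hzo]
      have hcomm : b * z = z * b := Subgroup.mem_center_iff.mp hzc b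
      obtain ⟨i, j, hne1, v, hv0, hv⟩ :=
        Cfsg.Agent.Lib.H25.HT.exists_fixed_of_pair hp hpq ρ b z hcomm hbp hzp hz1 hb'
      exact hne1 (hsr v hv0 _ hv)
    obtain ⟨b, hb1, hbp, rfl⟩ := sr_eq_zpowers K hK
    rw [main a ha1 hap hH, main b hb1 hbp hK]
  rcases Cfsg.Agent.S0016.result p hG key with h | ⟨-, n, hn⟩
  · exact Or.inl h
  · exact Or.inr ⟨2 ^ n, hn⟩

end Cfsg.Agent.Lib.H1.HT
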