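/-
S4221 (M. Hall), pieces CA / CT (architect helper21): orbit-stabilizer for the centralizer of an involution acting
on the 4-tuples with a given pattern.
-/
import Mathlib
import Cfsg.Agent.Lib.H21.Hall4Defs
import Cfsg.Agent.Lib.H22.Hall4FOUR

set_option autoImplicit false

namespace Cfsg.Agent.Lib.H1.Hall4

open Equiv Cfsg.Agent.Lib.H21.Hall4

variable {α : Type*} [Fintype α] [DecidableEq α] {G : Subgroup (Perm α)}

/-- orbit-stabilizer: `|C_G(a)| = #{s' | Pat a s' σ} * |st G s ⊓ C(a)|` -/
theorem card_cent_pat (hG : Hyp G) {a : Perm α} (ha : a ∈ G) (ha2 : a * a = 1) (s : Fin 4 ↪ α)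
    (σ : Perm (Fin 4)) (hp : Pat a s σ) :
    Nat.card (G ⊓ Subgroup.centralizer ({a} : Set (Perm α)) : Subgroup (Perm α)) =
      Nat.card {s' : Fin 4 ↪ α // Pat a s' σ} *
        Nat.card (st G s ⊓ Subgroup.centralizer ({a} : Set (Perm α)) : Subgroup (Perm α)) := by
  classical
  set C : Subgroup (Perm α) := G ⊓ Subgroup.centralizer ({a} : Set (Perm α)) with hC
  have : Fintype C := Fintype.ofFinite _
  have : Fintype (MulAction.orbit C s) := Fintype.ofFinite _
  have : Fintype (MulAction.stabilizer C s) := Fintype.ofFinite _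
  have h1 := MulAction.card_orbit_mul_card_stabilizer_eq_card_group C s
  rw [← Nat.card_eq_fintype_card, ← Nat.card_eq_fintype_card, ← Nat.card_eq_fintype_card] at h1
  have horb : MulAction.orbit C s = {s' : Fin 4 ↪ α | Pat a s' σ} := by
    ext s'
    constructor
    · rintro ⟨g, rfl⟩ i
      show a (g.1 (s i)) = g.1 (s (σ i))
      have hg : g.1 * a = a * g.1 := Subgroup.mem_centralizer_singleton_iff.mp g.2.2
      rw [← hp i, ← Perm.mul_apply, ← hg, Perm.mul_apply]
    · intro hs'
      obtain ⟨g, hgG, hgs, hga⟩ := Cfsg.Agent.Lib.H22.Hall4.pattern_conj' hG ha ha2 ha ha2 s s' σ hp hs'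
      have hgc : g ∈ Subgroup.centralizer ({a} : Set (Perm α)) := by
        rw [Subgroup.mem_centralizer_singleton_iff]
        calc g * a = g * a * g⁻¹ * g := by group
          _ = a * g := by rw [hga]
      refine ⟨⟨g, hgG, hgc⟩, ?_⟩
      ext i
      exact hgs i
  have hstab : (MulAction.stabilizer C s).map C.subtype =
      (st G s ⊓ Subgroup.centralizer ({a} : Set (Perm α)) : Subgroup (Perm α)) := by
    ext g
    constructor
    · rintro ⟨x, hx, rfl⟩
      rw [SetLike.mem_coe, MulAction.mem_stabilizer_iff] at hx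
      refine ⟨⟨x.2.1, fun i => ?_⟩, x.2.2⟩
      have := congrArg (fun f : Fin 4 ↪ α => f i) hx
      exact this
    · rintro ⟨⟨hgG, hgs⟩, hgc⟩
      refine ⟨⟨g, hgG, hgc⟩, ?_, rfl⟩
      rw [SetLike.mem_coe, MulAction.mem_stabilizer_iff]
      ext i
      exact hgs i
  have e : Nat.card (MulAction.orbit C s) = Nat.card {s' : Fin 4 ↪ α // Pat a s' σ} := by
    rw [horb]
    rfl
  rw [← hstab, Subgroup.card_map_of_injective C.subtype_injective, ← h1]
  exact congrArg (fun k => k * Nat.card (MulAction.stabilizer C s)) e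

end Cfsg.Agent.Lib.H1.Hall4
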