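/-
S4221 (M. Hall), piece CA (architect helper21): the order of the centralizer of an involution with two 2-cycles on `s`.
-/
import Cfsg.Agent.Lib.H1.Hall4CAux

set_option autoImplicit false

namespace Cfsg.Agent.Lib.H1.Hall4

open Equiv Cfsg.Agent.Lib.H21.Hall4

variable {α : Type*} [Fintype α] [DecidableEq α] {G : Subgroup (Perm α)}

omit [Fintype α] [DecidableEq α] in
theorem inj4 {x0 x1 x2 x3 : α} (h01 : x0 ≠ x1) (h02 : x0 ≠ x2) (h03 : x0 ≠ x3) (h12 : x1 ≠ x2)
    (h13 : x1 ≠ x3) (h23 : x2 ≠ x3) : Function.Injective ![x0, x1, x2, x3] := by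
  intro i j hij
  fin_cases i <;> fin_cases j <;> first | rfl | (exfalso; simp at hij; first | exact h01 hij | exact h02 hij | exact h03 hij | exact h12 hij | exact h13 hij | exact h23 hij | exact h01 hij.symm | exact h02 hij.symm | exact h03 hij.symm | exact h12 hij.symm | exact h13 hij.symm | exact h23 hij.symm)

theorem σa_0 : σa 0 = 1 := by unfold σa; decide
theorem σa_1 : σa 1 = 0 := by unfold σa; decide
theorem σa_2 : σa 2 = 3 := by unfold σa; decide
theorem σa_3 : σa 3 = 2 := by unfold σa; decide

omit [Fintype α] [DecidableEq α] in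
theorem invol_apply {a : Perm α} (ha2 : a * a = 1) (x : α) : a (a x) = x := by
  rw [← Perm.mul_apply, ha2, Perm.one_apply]

/-- the number of moved points -/
theorem card_moved (a : Perm α) :
    (Finset.univ.filter (fun x => a x ≠ x)).card = Fintype.card α - nfix a := by
  unfold nfix
  rw [Finset.filter_not, Finset.card_sdiff_of_subset (Finset.filter_subset _ _), Finset.card_univ]

/-- the tuples with pattern `σa` correspond to the pairs `(x, y)` of moved points with `y ∉ {x, a x}` -/
noncomputable def patEquivA {a : Perm α} (ha2 : a * a = 1) :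
    {s' : Fin 4 ↪ α // Pat a s' σa} ≃
      {p : α × α // a p.1 ≠ p.1 ∧ (a p.2 ≠ p.2 ∧ p.2 ≠ p.1 ∧ p.2 ≠ a p.1)} where
  toFun s' := ⟨(s'.1 0, s'.1 2), by
    have h0 := s'.2 0
    have h2 := s'.2 2
    rw [σa_0] at h0
    rw [σa_2] at h2
    refine ⟨?_, ?_, ?_, ?_⟩
    · show a (s'.1 0) ≠ s'.1 0
      rw [h0]
      exact fun h => by simpa using s'.1.injective h
    · show a (s'.1 2) ≠ s'.1 2
      rw [h2]
      exact fun h => by simpa using s'.1.injective h
    · show s'.1 2 ≠ s'.1 0
      exact fun h => by simpa using s'.1.injective h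
    · show s'.1 2 ≠ a (s'.1 0)
      rw [h0]
      exact fun h => by simpa using s'.1.injective h⟩
  invFun p := ⟨⟨![p.1.1, a p.1.1, p.1.2, a p.1.2], by
    obtain ⟨⟨x, y⟩, h1, h2, h3, h4⟩ := p
    simp only at h1 h2 h3 h4 ⊢
    apply inj4
    · exact fun h => h1 h.symm
    · exact fun h => h3 h.symm
    · intro h
      apply h4
      rw [h, invol_apply ha2]
    · exact fun h => h4 h.symm
    · exact fun h => h3 (a.injective h).symm
    · exact fun h => h2 h.symm⟩, by
    intro i
    fin_cases i
    · show a p.1.1 = _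
      simp [σa_0]
    · show a (a p.1.1) = _
      rw [invol_apply ha2]
      simp [σa_1]
    · show a p.1.2 = _
      simp [σa_2]
    · show a (a p.1.2) = _
      rw [invol_apply ha2]
      simp [σa_3]⟩
  left_inv s' := by
    have h0 := s'.2 0
    have h2 := s'.2 2
    rw [σa_0] at h0
    rw [σa_2] at h2
    apply Subtype.ext
    ext i
    fin_cases i
    · rfl
    · show a (s'.1 0) = s'.1 1
      exact h0
    · rfl
    · show a (s'.1 2) = s'.1 3
      exact h2
  right_inv p := by
    apply Subtype.ext
    rfl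

theorem card_pat_a {a : Perm α} (ha2 : a * a = 1) :
    Nat.card {s' : Fin 4 ↪ α // Pat a s' σa} =
      (Fintype.card α - nfix a) * (Fintype.card α - nfix a - 2) := by
  classical
  rw [Nat.card_congr (patEquivA ha2),
    Nat.card_congr (subtypeProdEquivSigmaSubtype
      (fun x y : α => a x ≠ x ∧ (a y ≠ y ∧ y ≠ x ∧ y ≠ a x))),
    Nat.card_eq_fintype_card, Fintype.card_sigma]
  set Mv : Finset α := Finset.univ.filter (fun x => a x ≠ x) with hMv
  have hinner : ∀ x : α, Fintype.card {y : α // a x ≠ x ∧ (a y ≠ y ∧ y ≠ x ∧ y ≠ a x)} =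
      if a x ≠ x then Mv.card - 2 else 0 := by
    intro x
    rw [Fintype.card_subtype]
    split_ifs with hx
    · have h1 : Finset.univ.filter (fun y => a x ≠ x ∧ (a y ≠ y ∧ y ≠ x ∧ y ≠ a x)) =
          (Mv.erase x).erase (a x) := by
        ext y
        simp only [Finset.mem_filter, Finset.mem_univ, true_and, Finset.mem_erase, hMv]
        tauto
      have hxM : x ∈ Mv := by
        rw [hMv, Finset.mem_filter]
        exact ⟨Finset.mem_univ _, hx⟩
      have haxM : a x ∈ Mv.erase x := by
        rw [Finset.mem_erase, hMv, Finset.mem_filter]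
        refine ⟨hx, Finset.mem_univ _, ?_⟩
        rw [invol_apply ha2]
        exact fun h => hx h.symm
      rw [h1, Finset.card_erase_of_mem haxM, Finset.card_erase_of_mem hxM]
      rfl
    · rw [Finset.card_eq_zero, Finset.filter_eq_empty_iff]
      intro y _ h
      exact hx h.1
  rw [Finset.sum_congr rfl (fun x _ => hinner x), ← Finset.sum_filter, Finset.sum_const, smul_eq_mul,
    ← hMv, card_moved]

/-- `C_G(a)` acts on `Fin 4 ↪ α`; the orbit of `s` is `{s' | Pat a s' σa}`, which has `(n - φ)(n - φ - 2)` elements;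
the stabilizer is `st G s ⊓ C(a)`. -/
theorem card_cent_a (hG : Hyp G) {a : Perm α} (ha : a ∈ G) (ha2 : a * a = 1) (s : Fin 4 ↪ α)
    (hp : Pat a s σa) :
    Nat.card (G ⊓ Subgroup.centralizer ({a} : Set (Perm α)) : Subgroup (Perm α)) =
      (Fintype.card α - nfix a) * (Fintype.card α - nfix a - 2) *
        Nat.card (st G s ⊓ Subgroup.centralizer ({a} : Set (Perm α)) : Subgroup (Perm α)) := by
  rw [card_cent_pat hG ha ha2 s σa hp, card_pat_a ha2]

end Cfsg.Agent.Lib.H1.Hall4
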