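/-
S4221 (M. Hall), piece CT (architect helper21): the order of the centralizer of an involution with pattern `σ01` on `s`.
-/
import Cfsg.Agent.Lib.H1.Hall4CA

set_option autoImplicit false

namespace Cfsg.Agent.Lib.H1.Hall4

open Equiv Cfsg.Agent.Lib.H21.Hall4

variable {α : Type*} [Fintype α] [DecidableEq α] {G : Subgroup (Perm α)}

theorem σ01_0 : σ01 0 = 1 := by unfold σ01; decide
theorem σ01_1 : σ01 1 = 0 := by unfold σ01; decide
theorem σ01_2 : σ01 2 = 2 := by unfold σ01; decide
theorem σ01_3 : σ01 3 = 3 := by unfold σ01; decide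

/-- the tuples with pattern `σ01` correspond to the triples `(x, y, z)`, `x` moved, `y ≠ z` fixed -/
noncomputable def patEquivT {t : Perm α} (ht2 : t * t = 1) :
    {s' : Fin 4 ↪ α // Pat t s' σ01} ≃
      {p : α × (α × α) // t p.1 ≠ p.1 ∧ (t p.2.1 = p.2.1 ∧ t p.2.2 = p.2.2 ∧ p.2.1 ≠ p.2.2)} where
  toFun s' := ⟨(s'.1 0, (s'.1 2, s'.1 3)), by
    have h0 := s'.2 0
    have h2 := s'.2 2
    have h3 := s'.2 3
    rw [σ01_0] at h0
    rw [σ01_2] at h2
    rw [σ01_3] at h3
    refine ⟨?_, h2, h3, ?_⟩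
    · show t (s'.1 0) ≠ s'.1 0
      rw [h0]
      exact fun h => by simpa using s'.1.injective h
    · show s'.1 2 ≠ s'.1 3
      exact fun h => by simpa using s'.1.injective h⟩
  invFun p := ⟨⟨![p.1.1, t p.1.1, p.1.2.1, p.1.2.2], by
    obtain ⟨⟨x, y, z⟩, h1, h2, h3, h4⟩ := p
    simp only at h1 h2 h3 h4 ⊢
    have htx : t (t x) = x := invol_apply ht2 x
    apply inj4
    · exact fun h => h1 h.symm
    · intro h
      apply h1
      rw [h, h2]
    · intro h
      apply h1
      rw [h, h3]
    · intro h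
      apply h1
      have := congrArg t h
      rw [htx, h2] at this
      rw [this, h2]
    · intro h
      apply h1
      have := congrArg t h
      rw [htx, h3] at this
      rw [this, h3]
    · exact h4⟩, by
    intro i
    fin_cases i
    · show t p.1.1 = _
      simp [σ01_0]
    · show t (t p.1.1) = _
      rw [invol_apply ht2]
      simp [σ01_1]
    · show t p.1.2.1 = _
      rw [p.2.2.1]
      simp [σ01_2]
    · show t p.1.2.2 = _
      rw [p.2.2.2.1]
      simp [σ01_3]⟩
  left_inv s' := by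
    have h0 := s'.2 0
    rw [σ01_0] at h0
    apply Subtype.ext
    ext i
    fin_cases i
    · rfl
    · show t (s'.1 0) = s'.1 1
      exact h0
    · rfl
    · rfl
  right_inv p := by
    apply Subtype.ext
    rfl

theorem card_pat_t {t : Perm α} (ht2 : t * t = 1) :
    Nat.card {s' : Fin 4 ↪ α // Pat t s' σ01} =
      (Fintype.card α - nfix t) * (nfix t * (nfix t - 1)) := by
  classical
  rw [Nat.card_congr (patEquivT ht2),
    Nat.card_congr (subtypeProdEquivSigmaSubtype
      (fun (x : α) (q : α × α) => t x ≠ x ∧ (t q.1 = q.1 ∧ t q.2 = q.2 ∧ q.1 ≠ q.2))),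
    Nat.card_eq_fintype_card, Fintype.card_sigma]
  set Fx : Finset α := Finset.univ.filter (fun x => t x = x) with hFx
  have hinner : ∀ x : α, Fintype.card {q : α × α // t x ≠ x ∧ (t q.1 = q.1 ∧ t q.2 = q.2 ∧ q.1 ≠ q.2)} =
      if t x ≠ x then nfix t * (nfix t - 1) else 0 := by
    intro x
    rw [Fintype.card_subtype]
    split_ifs with hx
    · have h1 : Finset.univ.filter (fun q : α × α => t x ≠ x ∧ (t q.1 = q.1 ∧ t q.2 = q.2 ∧ q.1 ≠ q.2)) =
          Fx.offDiag := by
        ext q
        simp only [Finset.mem_filter, Finset.mem_univ, true_and, Finset.mem_offDiag, hFx]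
        tauto
      rw [h1, Finset.offDiag_card, Nat.mul_sub_one]
      rfl
    · rw [Finset.card_eq_zero, Finset.filter_eq_empty_iff]
      intro y _ h
      exact hx h.1
  rw [Finset.sum_congr rfl (fun x _ => hinner x), ← Finset.sum_filter, Finset.sum_const, smul_eq_mul,
    card_moved]

/-- Same for the pattern `σ01`: the orbit `{s' | Pat t s' σ01}` has `(n - φ) φ (φ - 1)` elements. -/
theorem card_cent_t (hG : Hyp G) {t : Perm α} (ht : t ∈ G) (ht2 : t * t = 1) (s : Fin 4 ↪ α)
    (hp : Pat t s σ01) :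
    Nat.card (G ⊓ Subgroup.centralizer ({t} : Set (Perm α)) : Subgroup (Perm α)) =
      (Fintype.card α - nfix t) * (nfix t * (nfix t - 1)) *
        Nat.card (st G s ⊓ Subgroup.centralizer ({t} : Set (Perm α)) : Subgroup (Perm α)) := by
  rw [card_cent_pat hG ht ht2 s σ01 hp, card_pat_t ht2]

end Cfsg.Agent.Lib.H1.Hall4
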