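import Mathlib
import Cfsg.Agent.Lib.H1.IndexBasic
import Cfsg.Agent.Lib.H1.SylowBasic
import Cfsg.Agent.Lib.H1.SolvableBasic
import Cfsg.Agent.Lib.H23.BurnsidePQ

set_option autoImplicit false
open Pointwise

namespace Cfsg.Agent.Lib.H1

universe u

/-- If `N ≤ H₁` is a `p`-subgroup normalized by `H₁`, `G = H₁ H₂` and `p ∤ [G : H₂]`, then the
normal closure of `N` lies in `H₂`. -/
theorem normalClosure_le_of_factorization {G : Type*} [Group G] [Finite G] {p : ℕ} [Fact p.Prime]
    (H₁ H₂ N : Subgroup G)
    (hNn : ∀ h ∈ H₁, ∀ n ∈ N, h * n * h⁻¹ ∈ N) (hNp : IsPGroup p N)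
    (hp : ¬ p ∣ H₂.index) (h12 : ∀ g : G, ∃ x ∈ H₁, ∃ y ∈ H₂, g = x * y) :
    Subgroup.normalClosure (N : Set G) ≤ H₂ := by
  obtain ⟨g₀, hg₀⟩ := exists_conj_le_of_not_dvd_index hp hNp
  have hconj : ∀ c : G, ∀ n ∈ N, (∀ m ∈ N, m ∈ H₂) → c * n * c⁻¹ ∈ H₂ := by
    intro c n hn hNH
    obtain ⟨x, hx, y, hy, hc⟩ := h12 c⁻¹
    have hc' : c = y⁻¹ * x⁻¹ := by
      rw [← inv_inv c, hc]
      group
    have h1 : x⁻¹ * n * x ∈ N := by
      have := hNn x⁻¹ (H₁.inv_mem hx) n hn
      simpa using this
    have h2 : c * n * c⁻¹ = y⁻¹ * (x⁻¹ * n * x) * y := by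
      rw [hc']
      group
    rw [h2]
    exact H₂.mul_mem (H₂.mul_mem (H₂.inv_mem hy) (hNH _ h1)) hy
  have hNH₂ : ∀ m ∈ N, m ∈ H₂ := by
    intro m hm
    obtain ⟨x, hx, y, hy, hc⟩ := h12 g₀⁻¹
    have hg₀' : g₀ = y⁻¹ * x⁻¹ := by
      rw [← inv_inv g₀, hc]
      group
    have h1 : x * m * x⁻¹ ∈ N := hNn x hx m hm
    have h2 := hg₀ _ h1
    have h3 : g₀ * (x * m * x⁻¹) * g₀⁻¹ = y⁻¹ * m * y := by
      rw [hg₀']
      group
    rw [h3] at h2
    have h4 : m = y * (y⁻¹ * m * y) * y⁻¹ := by group
    rw [h4]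
    exact H₂.mul_mem (H₂.mul_mem hy h2) (H₂.inv_mem hy)
  rw [Subgroup.normalClosure, Subgroup.closure_le]
  intro z hz
  rw [Group.mem_conjugatesOfSet_iff] at hz
  obtain ⟨n, hn, hnz⟩ := hz
  rw [isConj_iff] at hnz
  obtain ⟨c, rfl⟩ := hnz
  exact hconj c n hn hNH₂

/-- `G` has a Hall `p`-complement for every prime `p`. -/
def HasPComplements (G : Type*) [Group G] : Prop :=
  ∀ p : ℕ, p.Prime → ∃ H : Subgroup G, H.index = p ^ (Nat.card G).factorization p

namespace HasPComplements

variable {G : Type*} [Group G] [Finite G]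

theorem of_normal (h : HasPComplements G) (N : Subgroup G) [N.Normal] : HasPComplements N := by
  intro p hp
  obtain ⟨H, hH⟩ := h p hp
  refine ⟨H.subgroupOf N, ?_⟩
  have hdvd : H.relIndex N ∣ p ^ (Nat.card G).factorization p :=
    hH ▸ relIndex_dvd_index_of_normal_right H N
  obtain ⟨j, -, hj⟩ := (Nat.dvd_prime_pow hp).mp hdvd
  apply index_eq_pow_factorization hp (j := j) hj
  exact Nat.Coprime.coprime_dvd_left
    (Subgroup.card_comap_dvd_of_injective H N.subtype N.subtype_injective)
    (card_coprime_of_index_eq hp hH)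

theorem quotient (h : HasPComplements G) (N : Subgroup G) [N.Normal] :
    HasPComplements (G ⧸ N) := by
  intro p hp
  obtain ⟨H, hH⟩ := h p hp
  refine ⟨H.map (QuotientGroup.mk' N), ?_⟩
  have hdvd : (H.map (QuotientGroup.mk' N)).index ∣ p ^ (Nat.card G).factorization p :=
    hH ▸ Subgroup.index_map_dvd H (QuotientGroup.mk'_surjective N)
  obtain ⟨j, -, hj⟩ := (Nat.dvd_prime_pow hp).mp hdvd
  apply index_eq_pow_factorization hp (j := j) hj
  exact Nat.Coprime.coprime_dvd_left (Subgroup.card_map_dvd H _) (card_coprime_of_index_eq hp hH)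

theorem of_complement (h : HasPComplements G) {p₁ : ℕ} (hp₁ : p₁.Prime) {H₁ : Subgroup G}
    (hH₁ : H₁.index = p₁ ^ (Nat.card G).factorization p₁) : HasPComplements H₁ := by
  intro q hq
  by_cases hqp : q = p₁
  · subst hqp
    refine ⟨⊤, ?_⟩
    rw [Subgroup.index_top]
    have hc := card_coprime_of_index_eq hq hH₁
    have hnd : ¬ q ∣ Nat.card H₁ := by
      intro hd
      have := Nat.dvd_gcd hd (dvd_refl q)
      rw [Nat.Coprime.gcd_eq_one hc] at this
      exact hq.one_lt.ne' (Nat.dvd_one.mp this)
    rw [Nat.factorization_eq_zero_of_not_dvd hnd, pow_zero]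
  · obtain ⟨Hq, hHq⟩ := h q hq
    refine ⟨Hq.subgroupOf H₁, ?_⟩
    have hcop : Hq.index.Coprime H₁.index := by
      rw [hHq, hH₁]
      exact Nat.coprime_pow_primes _ _ hq hp₁ hqp
    have h1 := Subgroup.relIndex_mul_index (inf_le_right : Hq ⊓ H₁ ≤ H₁)
    rw [index_inf_of_coprime hcop, Subgroup.inf_relIndex_right] at h1
    have hpos : 0 < H₁.index := Nat.pos_of_ne_zero Subgroup.index_ne_zero_of_finite
    have h2 : Hq.relIndex H₁ = Hq.index := Nat.eq_of_mul_eq_mul_right hpos h1
    apply index_eq_pow_factorization hq (j := (Nat.card G).factorization q)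
    · exact h2.trans hHq
    · exact Nat.Coprime.coprime_dvd_left
        (Subgroup.card_comap_dvd_of_injective Hq H₁.subtype H₁.subtype_injective)
        (card_coprime_of_index_eq hq hHq)

end HasPComplements

/-- **P. Hall's converse**: a finite group with Hall `p`-complements for all `p` is solvable. -/
theorem isSolvable_of_hasPComplements_aux : ∀ (n : ℕ) (G : Type u) [Group G] [Finite G],
    Nat.card G = n → HasPComplements G → Group.IsSolvable G := by
  intro n
  induction n using Nat.strong_induction_on with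
  | _ n ih =>
  intro G _ _ hn h
  by_cases hsimple : ∃ N : Subgroup G, N.Normal ∧ N ≠ ⊥ ∧ N ≠ ⊤
  · obtain ⟨N, hNn, hNb, hNt⟩ := hsimple
    have h1 : Group.IsSolvable N :=
      ih _ (hn ▸ card_lt_of_ne_top hNt) N rfl (h.of_normal N)
    have h2 : Group.IsSolvable (G ⧸ N) :=
      ih _ (hn ▸ card_quotient_lt hNb) (G ⧸ N) rfl (h.quotient N)
    apply Group.isSolvable_of_ker_le_range N.subtype (QuotientGroup.mk' N)
    rw [QuotientGroup.ker_mk', Subgroup.range_subtype]
  · have hsimp : ∀ N : Subgroup G, N.Normal → N ≠ ⊥ → N = ⊤ := by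
      intro N hNn hNb
      by_contra hNt
      exact hsimple ⟨N, hNn, hNb, hNt⟩
    by_cases hnt : Nontrivial G
    · have hcard1 : Nat.card G ≠ 1 := by
        intro h1
        have := (Nat.card_eq_one_iff_unique.mp h1).1
        exact not_subsingleton G this
      set p₁ := (Nat.card G).minFac with hp₁def
      have hp₁ : p₁.Prime := Nat.minFac_prime hcard1
      have hp₁dvd : p₁ ∣ Nat.card G := Nat.minFac_dvd _
      have hG0 : Nat.card G ≠ 0 := Nat.card_pos.ne'
      obtain ⟨G₁, hG₁⟩ := h p₁ hp₁
      have he₁ : 1 ≤ (Nat.card G).factorization p₁ :=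
        (hp₁.dvd_iff_one_le_factorization hG0).mp hp₁dvd
      have hG₁top : G₁ ≠ ⊤ := by
        intro htop
        rw [htop, Subgroup.index_top] at hG₁
        have : 1 < p₁ ^ (Nat.card G).factorization p₁ :=
          Nat.one_lt_pow (by omega) hp₁.one_lt
        omega
      have hG₁solv : Group.IsSolvable G₁ :=
        ih _ (hn ▸ card_lt_of_ne_top hG₁top) G₁ rfl (h.of_complement hp₁ hG₁)
      by_cases hG₁bot : G₁ = ⊥
      · rw [hG₁bot, Subgroup.index_bot] at hG₁
        have : Fact p₁.Prime := ⟨hp₁⟩
        have hpg : IsPGroup p₁ G := IsPGroup.of_card hG₁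
        have := hpg.isNilpotent
        infer_instance
      · have hnt₁ : Nontrivial G₁ := (Subgroup.nontrivial_iff_ne_bot G₁).mpr hG₁bot
        obtain ⟨r, hr, R, hRn, hRp, hRne⟩ :=
          exists_normal_isPGroup_ne_bot_of_isSolvable (G := G₁)
        set M := R.map G₁.subtype with hM
        have hMp : IsPGroup r M := hRp.map _
        have hMne : M ≠ ⊥ := by
          intro hb
          rw [hM, Subgroup.map_eq_bot_iff_of_injective _ G₁.subtype_injective] at hb
          exact hRne hb
        have hMn : ∀ x ∈ G₁, ∀ m ∈ M, x * m * x⁻¹ ∈ M := by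
          rintro x hx m ⟨y, hy, rfl⟩
          exact ⟨⟨x, hx⟩ * y * ⟨x, hx⟩⁻¹, hRn.conj_mem y hy ⟨x, hx⟩, rfl⟩
        -- `r ≠ p₁`
        have hrdvd : r ∣ Nat.card G₁ := by
          obtain ⟨k, hk⟩ := IsPGroup.iff_card.mp hRp
          have hk0 : k ≠ 0 := by
            rintro rfl
            rw [pow_zero] at hk
            exact hRne (Subgroup.card_eq_one.mp hk)
          have h1 : r ∣ Nat.card R := by
            rw [hk]
            exact dvd_pow_self r hk0
          exact h1.trans (Subgroup.card_subgroup_dvd_card R)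
        have hrp₁ : r ≠ p₁ := by
          intro hrp
          rw [hrp] at hrdvd
          have hc := card_coprime_of_index_eq hp₁ hG₁
          have := Nat.dvd_gcd hrdvd (dvd_refl p₁)
          rw [Nat.Coprime.gcd_eq_one hc] at this
          exact hp₁.one_lt.ne' (Nat.dvd_one.mp this)
        by_cases hs : ∃ s : ℕ, s.Prime ∧ s ∣ Nat.card G ∧ s ≠ p₁ ∧ s ≠ r
        · exfalso
          obtain ⟨s, hsp, hsdvd, hsp₁, hsr⟩ := hs
          obtain ⟨Gs, hGs⟩ := h s hsp
          have hes : 1 ≤ (Nat.card G).factorization s :=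
            (hsp.dvd_iff_one_le_factorization hG0).mp hsdvd
          have hGstop : Gs ≠ ⊤ := by
            intro htop
            rw [htop, Subgroup.index_top] at hGs
            have : 1 < s ^ (Nat.card G).factorization s := Nat.one_lt_pow (by omega) hsp.one_lt
            omega
          have hrnd : ¬ r ∣ Gs.index := by
            rw [hGs]
            intro hd
            have := (Nat.prime_dvd_prime_iff_eq hr.out hsp).mp (hr.out.dvd_of_dvd_pow hd)
            exact hsr this.symm
          have hcop : G₁.index.Coprime Gs.index := by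
            rw [hG₁, hGs]
            exact Nat.coprime_pow_primes _ _ hp₁ hsp (fun h => hsp₁ h.symm)
          have hle := normalClosure_le_of_factorization G₁ Gs M hMn hMp hrnd
            (exists_mul_of_coprime_index hcop)
          have hNC := hsimp (Subgroup.normalClosure (M : Set G)) inferInstance (by
            intro hb
            apply hMne
            rw [eq_bot_iff, ← hb]
            exact Subgroup.le_normalClosure)
          apply hGstop
          rw [eq_top_iff, ← hNC]
          exact hle
        · have hs' : ∀ s : ℕ, s.Prime → s ∣ Nat.card G → s = p₁ ∨ s = r := by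
            intro s hsp hsd
            by_contra hcon
            rw [not_or] at hcon
            exact hs ⟨s, hsp, hsd, hcon.1, hcon.2⟩
          set m := Nat.card G / p₁ ^ (Nat.card G).factorization p₁ with hm
          have hmG : p₁ ^ (Nat.card G).factorization p₁ * m = Nat.card G :=
            Nat.ordProj_mul_ordCompl_eq_self (Nat.card G) p₁
          have hm0 : m ≠ 0 := by
            rintro h0
            rw [h0, mul_zero] at hmG
            exact hG0 hmG.symm
          have hmcop : p₁.Coprime m := Nat.coprime_ordCompl hp₁ hG0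
          have hmr : m = r ^ m.primeFactorsList.length := by
            apply Nat.eq_prime_pow_of_unique_prime_dvd hm0
            intro d hd hdm
            rcases hs' d hd (hdm.trans (Dvd.intro_left _ hmG)) with h1 | h1
            · exfalso
              rw [h1] at hdm
              have := Nat.dvd_gcd (dvd_refl p₁) hdm
              rw [Nat.Coprime.gcd_eq_one hmcop] at this
              exact hp₁.one_lt.ne' (Nat.dvd_one.mp this)
            · exact h1
          exact Lib.H23.isSolvable_of_card_eq_prime_pow_mul_prime_pow p₁ r _ _ hp₁ hr.out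
            (by rw [← hmr]; exact hmG.symm)
    · rw [not_nontrivial_iff_subsingleton] at hnt
      infer_instance

/-- **P. Hall's converse**: a finite group with Hall `p`-complements for all `p` is solvable. -/
theorem isSolvable_of_hasPComplements {G : Type u} [Group G] [Finite G]
    (h : HasPComplements G) : Group.IsSolvable G :=
  isSolvable_of_hasPComplements_aux _ G rfl h

end Cfsg.Agent.Lib.H1
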