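import Mathlib
import Cfsg.Agent.Lib.H3.Tits.USyl

/-!
S2926 piece TITS, side piece A (helper28's plan #4704; helper1): the eight class generators `wΓ (clsW j)` and the generator
`wΓ [2]` of `²F₄(2)` lie in the Borel subgroup `Bor`.
-/

set_option autoImplicit false
set_option maxRecDepth 100000

namespace Cfsg.Agent.Lib.H1.IRT

open Cfsg.Lie Matrix Cfsg.Agent.Lib.H29.Chev Cfsg.Agent.Lib.H29
open Cfsg.Agent.Lib.H3.Tits

/-- membership in `Bor` of the element of a word -/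
theorem irt_mem_Bor_iff (w : List ℕ) :
    wΓ w ∈ Bor ↔ wordG w ∈ chevF4.posUnipotent (ZMod 2) := by
  have h1 : chevF4.borelSubgroup (ZMod 2) = chevF4.posUnipotent (ZMod 2) := by
    unfold ChevalleyDatum.borelSubgroup
    rw [diag_bot, sup_bot_eq]
  constructor
  · intro h
    have hB : (wΓ w).1 ∈ chevF4.borelSubgroup (ZMod 2) ⊓ G2 := Subgroup.mem_subgroupOf.mp h
    rw [h1] at hB
    exact (Subgroup.mem_inf.mp hB).1
  · intro h
    apply Subgroup.mem_subgroupOf.mpr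
    rw [h1]
    exact Subgroup.mem_inf.mpr ⟨h, wordG_mem w⟩

/-- the permutations of the inverse words `nWi j` -/
theorem irt_perm_nWi : ∀ j < 8, cert12_F4.c6.c2.Perm (wordG (nWi j)) (tF4 j) := by
  have q0 : cert12_F4.c6.c2.Perm (wordG []) (tF4 0) := by
    rw [wordG_nil]; exact f4_perm_one
  have b1 : cert12_F4.c6.c2.Perm (wordG (wN2 ++ [])) (tF4 15) := perm_step2 (by norm_num) q0
  have b2 : cert12_F4.c6.c2.Perm (wordG (wN1 ++ (wN2 ++ []))) (tF4 2) := perm_step1 (by norm_num) b1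
  have b3 : cert12_F4.c6.c2.Perm (wordG (wN2 ++ (wN1 ++ (wN2 ++ [])))) (tF4 13) :=
    perm_step2 (by norm_num) b2
  have b4 : cert12_F4.c6.c2.Perm (wordG (wN1 ++ (wN2 ++ (wN1 ++ (wN2 ++ []))))) (tF4 4) :=
    perm_step1 (by norm_num) b3
  have b5 : cert12_F4.c6.c2.Perm (wordG (wN2 ++ (wN1 ++ (wN2 ++ (wN1 ++ (wN2 ++ [])))))) (tF4 11) :=
    perm_step2 (by norm_num) b4
  have b6 : cert12_F4.c6.c2.Perm
      (wordG (wN1 ++ (wN2 ++ (wN1 ++ (wN2 ++ (wN1 ++ (wN2 ++ []))))))) (tF4 6) :=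
    perm_step1 (by norm_num) b5
  intro j hj
  interval_cases j
  · exact q0
  · exact perm_nW 1 (by norm_num)
  · exact b2
  · exact perm_nW 3 (by norm_num)
  · exact b4
  · exact perm_nW 5 (by norm_num)
  · exact b6
  · exact perm_nW 7 (by norm_num)

theorem irt_nWi_mul_nW (j : ℕ) (hj : j < 8) : wordG (nWi j) * wordG (nW j) = 1 := by
  rw [nWi_eq_inv j hj, inv_mul_cancel]

/-- A: the class generators lie in the Borel subgroup -/
theorem clsW_mem_Bor : ∀ j < 8, wΓ (clsW j) ∈ Bor := by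
  intro j hj
  rw [irt_mem_Bor_iff]
  have hw : wordG (clsW j) =
      wordG (nWi j) * gen (if j % 2 = 0 then 0 else 2) * (wordG (nWi j))⁻¹ := by
    rw [clsW_eq j hj, nWi_eq_inv j hj, inv_inv]
  rw [hw]
  apply Vm_le_pos (D := chevF4) (F := ZMod 2) (· ∈ chainLF4.getD j []) (fdF4.n / 2)
  apply cert12_F4.conj_Vm_mem (wordG (nWi j)) (tF4 j) (irt_perm_nWi j hj) (· ∈ bF4 j)
    (· ∈ chainLF4.getD j []) (fun s _ _ hs => bF4_to j hj s hs)
  by_cases hpar : j % 2 = 0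
  · rw [if_pos hpar]
    have hb : bF4 j = [24, 33] := by unfold bF4; rw [if_pos hpar]
    rw [hb]
    exact pU_mem_Vm 0 1
  · rw [if_neg hpar]
    have hb : bF4 j = [25, 27, 28, 30] := by unfold bF4; rw [if_neg hpar]
    rw [hb]
    exact cU_mem_Vm 0 1 0

/-- A: the generator `gen 2` lies in the Borel subgroup -/
theorem gen2_mem_Bor : wΓ [2] ∈ Bor := by
  rw [irt_mem_Bor_iff, wordG_single]
  exact Vm_le_pos (D := chevF4) (F := ZMod 2) (· ∈ [25, 27, 28, 30]) (fdF4.n / 2) (cU_mem_Vm 0 1 0)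

/-- the generator `gen 0` lies in the Borel subgroup -/
theorem gen0_mem_Bor : wΓ [0] ∈ Bor := by
  rw [irt_mem_Bor_iff, wordG_single]
  exact Vm_le_pos (D := chevF4) (F := ZMod 2) (· ∈ [24, 33]) (fdF4.n / 2) (pU_mem_Vm 0 1)

end Cfsg.Agent.Lib.H1.IRT
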