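import Mathlib
import Cfsg.Agent.Lib.H3.Tits.USyl
import Cfsg.Agent.Lib.H1.IRTITSA

/-!
S2926 piece TITS, side piece B (helper28's plan #4704; helper1): the centre of `S_T = Bor ⊓ T` (a Sylow `2`-subgroup of the Tits
group) inside `Bor`: an element of `Bor ⊓ T` centralizing `Bor ⊓ T` is `1` or `z₀ = c₃²`.

Kernel check over the `4096` normal forms of `U`: two vector tests (`h = c₁c₇` on the vector with code `16`, `h = c₀` on the
vector with code `1`) separate every normal form except `1` and `c₃²` from the centralizer of `S_T`.
-/

set_option autoImplicit false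
set_option maxRecDepth 1000000

namespace Cfsg.Agent.Lib.H1.IRT

open Cfsg.Lie Matrix Cfsg.Agent.Lib.H29.Chev Cfsg.Agent.Lib.H29
open Cfsg.Agent.Lib.H3.Tits
open Cfsg.Agent.Lib.H3.F4 (actE2 mulE2)

/-- the code of `c₁ c₇` -/
def irtHA : List ℕ := [293859514908673, 1374389534722, 364229332828164, 2920940149145608, 2621520, 71744577245027, 344481216, 8409216, 71744576718595, 71744241172995, 67175424, 1511849654272, 137459953664, 1511849631744, 4683670700035, 1374389698560, 274878103555, 4683662229507, 4408784191488, 175923642499084, 1129316364, 3144567647895554, 20971520, 292622589493248, 1522582683650, 175923638829068, 107479207772164, 175922531532800, 652114816663552, 3143044719181824, 75910325731328, 292485125373952, 292474387955712, 4406636445696, 2814835666452480, 580645218680832, 580610858942464, 13056700579840, 1924145348608, 11544872091648, 313360813916160, 10995116277760, 294669116243968, 307863255777280, 17592186044416, 175921860444160, 4151755906482176, 3236962232172544, 281474976710656, 3940649673949184, 1125899906842624, 2251799813685248]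

/-- the code of `c₀` -/
def irtHB : List ℕ := [1, 137438953474, 268435460, 8, 48, 32, 64, 2176, 528640, 3171840, 2114560, 2048, 4096, 24576, 16384, 12681216, 8454144, 16908288, 137439215617, 524288, 3145728, 2097152, 12582912, 8388608, 16777216, 100663296, 67108864, 402653192, 268435456, 1610612736, 1073741824, 277025390592, 1662152343552, 1108101562368, 112201725640704, 74801150427136, 149602300854272, 137438953472, 274877906944, 1649267441664, 1099511627776, 6597069766656, 4398046511104, 8796093022208, 299067162755072, 105553116266496, 70368744177664, 140737488355328, 281474976710656, 562949953421312, 3377699720527872, 2251799813685248]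

/-- the code of `z₀ = c₃²` -/
def irtZ0 : List ℕ := [281474976710657, 2, 4, 2251799813685256, 2568459166679061, 70369021001760, 140738578874432, 281483566645378, 562986460643584, 1125972921287168, 2251808403620864, 1236950583296, 4672924422144, 9345848844288, 1099511644160, 19791209332736, 4398046576640, 8796093153280, 17592186306560, 70368744701952, 140737489403904, 2097152, 281474980904960, 8388608, 16777216, 562949986975744, 67108864, 1125900041060352, 268435456, 536870912, 1073741824, 2147483648, 4294967296, 8589934592, 17179869184, 34359738368, 68719476736, 137438953472, 274877906944, 549755813888, 1099511627776, 2199023255552, 4398046511104, 8796093022208, 17592186044416, 35184372088832, 70368744177664, 140737488355328, 281474976710656, 562949953421312, 1125899906842624, 2251799813685248]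

theorem irtHA_eq : wordC (clsW 1 ++ clsW 7) = irtHA := by decide +kernel
theorem irtHB_eq : wordC (clsW 0) = irtHB := by decide +kernel
theorem irtZ0_eq : wordC (clsW 3 ++ clsW 3) = irtZ0 := by decide +kernel

/-- the code of a product of matrices given by their codes -/
def irtProdC (sel : List (List ℕ)) : List ℕ :=
  List.rec (motive := fun _ => List ℕ) oneC (fun m _ ih => mulE2 m ih) sel

theorem irtProdC_nil : irtProdC [] = oneC := rfl
theorem irtProdC_cons (m : List ℕ) (sel : List (List ℕ)) : irtProdC (m :: sel) = mulE2 m (irtProdC sel) := rfl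

theorem irtProdC_map (xs : List GLF) : irtProdC (xs.map codeG) = codeG xs.prod := by
  induction xs with
  | nil => rw [List.map_nil, irtProdC_nil, List.prod_nil, codeG_one]
  | cons x xs ih => rw [List.map_cons, irtProdC_cons, ih, List.prod_cons, codeG_mul]

/-- a selection does not commute with a test element, or is `1` or `z₀` -/
def irtGoodZ (sel : List (List ℕ)) : Bool :=
  !(Nat.beq (applyAll sel 2621520) (actE2 irtHA (applyAll sel 16))) ||
  !(Nat.beq (applyAll sel 1) (actE2 irtHB (applyAll sel 1))) ||
  decide (irtProdC sel = oneC) || decide (irtProdC sel = irtZ0)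

theorem irt_hav : actE2 irtHA 16 = 2621520 := by decide +kernel
theorem irt_hbv : actE2 irtHB 1 = 1 := by decide +kernel

theorem irt_z_check : allSel clsL irtGoodZ = true := by decide +kernel


/-- the vector with code `16` -/
def irtV16 : V := fun i => if i = Sum.inr ⟨0, by decide⟩ then 1 else 0

theorem irt_enc_v16 : enc irtV16 = 16 := by decide +kernel

/-- the class generators at odd places are not in the Tits group -/
theorem irt_clsW_odd_not_mem_T (j : ℕ) (hj : j < 8) (hodd : j % 2 ≠ 0) : wΓ (clsW j) ∉ T := by
  intro h
  have hw : wΓ (clsW j) = (wΓ (nW j))⁻¹ * wΓ [2] * wΓ (nW j) := by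
    apply Subtype.ext
    have := clsW_eq j hj
    rw [if_neg hodd] at this
    show wordG (clsW j) = (wordG (nW j))⁻¹ * wordG [2] * wordG (nW j)
    rw [wordG_single]
    exact this
  have hn : T.Normal := inferInstance
  have h2 := hn.conj_mem _ h (wΓ (nW j))
  rw [hw] at h2
  have e : wΓ (nW j) * ((wΓ (nW j))⁻¹ * wΓ [2] * wΓ (nW j)) * (wΓ (nW j))⁻¹ = wΓ [2] := by group
  rw [e] at h2
  exact g2_not_mem_T h2

/-- a non-commuting test: if `z = xs.prod` commutes with `h`, the vector test fails -/
theorem irt_test_false (xs : List GLF) (h : GLF) (hcomm : xs.prod * h = h * xs.prod) (v : V) :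
    Nat.beq (applyAll (xs.map codeG) (actE2 (codeG h) (enc v)))
      (actE2 (codeG h) (applyAll (xs.map codeG) (enc v))) = true := by
  rw [← enc_act h v, applyAll_map, applyAll_map, ← enc_act h, ← act_mul, ← act_mul, hcomm]
  exact Nat.beq_refl _

/-- B: an element of `Bor ⊓ T` centralizing `Bor ⊓ T` is `1` or `z₀ = c₃²` -/
theorem center_ST (z : Γ) (hzB : z ∈ Bor) (hzT : z ∈ T) (hc : ∀ s ∈ Bor ⊓ T, z * s = s * z) :
    z = 1 ∨ z = wΓ (clsW 3 ++ clsW 3) := by
  have hB : z.1 ∈ chevF4.borelSubgroup (ZMod 2) ⊓ G2 := Subgroup.mem_subgroupOf.mp hzB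
  have h1 : chevF4.borelSubgroup (ZMod 2) = chevF4.posUnipotent (ZMod 2) := by
    unfold ChevalleyDatum.borelSubgroup
    rw [diag_bot, sup_bot_eq]
  rw [h1] at hB
  obtain ⟨xs, hsel, hz⟩ := U_normal_form z.1 hB
  have hgood := allSel_spec clsL irtGoodZ irt_z_check _ hsel
  -- the two test elements
  have hA : wΓ (clsW 1 ++ clsW 7) ∈ Bor ⊓ T := by
    rw [wΓ_append]
    refine ⟨mul_mem (clsW_mem_Bor 1 (by norm_num)) (clsW_mem_Bor 7 (by norm_num)), ?_⟩
    exact (Subgroup.mul_mem_iff_of_index_two T_index).mpr
      (iff_of_false (irt_clsW_odd_not_mem_T 1 (by norm_num) (by norm_num))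
        (irt_clsW_odd_not_mem_T 7 (by norm_num) (by norm_num)))
  have hB0 : wΓ (clsW 0) ∈ Bor ⊓ T := ⟨clsW_mem_Bor 0 (by norm_num), g0_mem_T⟩
  have cA : xs.prod * wordG (clsW 1 ++ clsW 7) = wordG (clsW 1 ++ clsW 7) * xs.prod := by
    have := congrArg Subtype.val (hc _ hA)
    rw [Subgroup.coe_mul, Subgroup.coe_mul, hz] at this
    exact this
  have cB : xs.prod * wordG (clsW 0) = wordG (clsW 0) * xs.prod := by
    have := congrArg Subtype.val (hc _ hB0)
    rw [Subgroup.coe_mul, Subgroup.coe_mul, hz] at this
    exact this
  have tA := irt_test_false xs _ cA irtV16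
  have tB := irt_test_false xs _ cB v0
  rw [codeG_wordG, irtHA_eq, irt_enc_v16, irt_hav] at tA
  rw [codeG_wordG, irtHB_eq, enc_v0, irt_hbv] at tB
  unfold irtGoodZ at hgood
  rw [tA, tB, Bool.not_true, Bool.false_or, Bool.false_or, Bool.or_eq_true, decide_eq_true_eq,
    decide_eq_true_eq, irtProdC_map, ← hz] at hgood
  rcases hgood with h | h
  · left
    apply Subtype.ext
    apply codeG_inj
    rw [h, Subgroup.coe_one, codeG_one]
  · right
    apply Subtype.ext
    apply codeG_inj
    rw [h, ← irtZ0_eq]
    show wordC (clsW 3 ++ clsW 3) = codeG (wordG (clsW 3 ++ clsW 3))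
    rw [codeG_wordG]

end Cfsg.Agent.Lib.H1.IRT
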