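import Mathlib
import Cfsg.Agent.S0201
import Cfsg.Agent.S0016
import Cfsg.Agent.Lib.H9.PPrimeCore
import Cfsg.Agent.Lib.H5.KleinPair
import Cfsg.Agent.Lib.L0.CyclicSylowTwo

/-!
# The rank one case of the Z*-theorem (helper1)

If commuting involutions of a finite group always coincide (2-rank one), every involution is
central modulo the odd core: Burnside (cyclic Sylow) or Brauer-Suzuki (quaternion Sylow).
-/

set_option autoImplicit false

namespace Cfsg.Agent.Lib.H1.ZRankOne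

open Cfsg Subgroup

variable {G : Type*} [Group G] [Finite G]

/-- uniqueness of subgroups of order two in a Sylow 2-subgroup, when commuting involutions
coincide -/
theorem unique_order_two (hU : ∀ u v : G, u * u = 1 → u ≠ 1 → v * v = 1 → v ≠ 1 → u * v = v * u → u = v)
    (S : Sylow 2 G) (H K : Subgroup ↥(S : Subgroup G)) (hH : Nat.card H = 2) (hK : Nat.card K = 2) :
    H = K := by
  have hp2 : Fact (Nat.Prime 2) := ⟨Nat.prime_two⟩
  -- an involution in each subgroup of order two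
  have key : ∀ H : Subgroup ↥(S : Subgroup G), Nat.card H = 2 →
      ∃ t : ↥(S : Subgroup G), t ∈ H ∧ t * t = 1 ∧ t ≠ 1 ∧ H = zpowers t := by
    intro H hH
    have hne : H ≠ ⊥ := by
      intro hb
      rw [hb, Subgroup.card_bot] at hH
      omega
    obtain ⟨t, ht1⟩ := (Subgroup.ne_bot_iff_exists_ne_one.mp hne)
    have hto : orderOf t ∣ 2 := by
      have := orderOf_dvd_natCard t
      rwa [hH] at this
    have htt : (t : ↥(S : Subgroup G)) * t = 1 := by
      rw [← sq]
      exact orderOf_dvd_iff_pow_eq_one.mp (by rw [Subgroup.orderOf_coe]; exact hto)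
    have ht1' : (t : ↥(S : Subgroup G)) ≠ 1 := fun hc => ht1 (Subtype.ext hc)
    refine ⟨t, t.2, htt, ht1', ?_⟩
    symm
    apply Subgroup.eq_of_le_of_card_ge (Subgroup.zpowers_le.mpr t.2)
    rw [hH, Nat.card_zpowers]
    have : orderOf (t : ↥(S : Subgroup G)) = 2 :=
      orderOf_eq_prime (by rw [sq]; exact htt) ht1'
    rw [this]
  obtain ⟨t, -, htt, ht1, rfl⟩ := key H hH
  obtain ⟨t', -, htt', ht1', rfl⟩ := key K hK
  -- a central involution
  have hnt : Nontrivial ↥(S : Subgroup G) := ⟨⟨t, 1, ht1⟩⟩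
  have hcn : Nontrivial (center ↥(S : Subgroup G)) := S.isPGroup'.center_nontrivial
  have hcp : IsPGroup 2 (center ↥(S : Subgroup G)) := S.isPGroup'.to_subgroup _
  have h2c : 2 ∣ Nat.card (center ↥(S : Subgroup G)) := by
    obtain ⟨k, hk⟩ := hcp.exists_card_eq
    rw [hk]
    rcases k with _ | k
    · exfalso
      rw [pow_zero] at hk
      have := (Nat.card_eq_one_iff_unique.mp hk).1
      exact not_subsingleton _ this
    · exact dvd_pow_self 2 (by omega)
  obtain ⟨c, hc⟩ := exists_prime_orderOf_dvd_card' 2 h2c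
  have hcc : ((c : ↥(S : Subgroup G)) : G) * ((c : ↥(S : Subgroup G)) : G) = 1 := by
    have h1 : c ^ 2 = 1 := by
      have := pow_orderOf_eq_one c
      rwa [hc] at this
    have h2 := congrArg (fun x : center ↥(S : Subgroup G) => ((x : ↥(S : Subgroup G)) : G)) h1
    simpa [sq] using h2
  have hc1 : ((c : ↥(S : Subgroup G)) : G) ≠ 1 := by
    intro h1
    have : c = 1 := Subtype.ext (Subtype.ext h1)
    rw [this, orderOf_one] at hc
    omega
  have hcomm : ∀ s : ↥(S : Subgroup G), (s : G) * ((c : ↥(S : Subgroup G)) : G)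
      = ((c : ↥(S : Subgroup G)) : G) * (s : G) := by
    intro s
    have := (Subgroup.mem_center_iff.mp c.2) s
    exact congrArg Subtype.val this
  have e1 : (t : G) = ((c : ↥(S : Subgroup G)) : G) :=
    hU _ _ (by exact_mod_cast congrArg Subtype.val htt) (fun h => ht1 (Subtype.ext h)) hcc hc1
      (hcomm t)
  have e2 : (t' : G) = ((c : ↥(S : Subgroup G)) : G) :=
    hU _ _ (by exact_mod_cast congrArg Subtype.val htt') (fun h => ht1' (Subtype.ext h)) hcc hc1
      (hcomm t')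
  have : t = t' := Subtype.ext (e1.trans e2.symm)
  rw [this]

end Cfsg.Agent.Lib.H1.ZRankOne

namespace Cfsg.Agent.Lib.H1.ZRankOne

open Cfsg Subgroup

variable {G : Type*} [Group G] [Finite G]

/-- the cyclic case: Burnside's normal complement -/
theorem comm_mem_oddCore_of_cyclic (S : Sylow 2 G) (hcyc : IsCyclic (S : Subgroup G))
    (z : G) (hz : orderOf z = 2) (hzS : z ∈ (S : Subgroup G)) (g : G) :
    z * g * z⁻¹ * g⁻¹ ∈ Cfsg.oddCore G := by
  have hp2 : Fact (Nat.Prime 2) := ⟨Nat.prime_two⟩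
  have h2 : 2 ∣ Nat.card G := by rw [← hz]; exact orderOf_dvd_natCard z
  obtain ⟨K, hKn, hKc, -⟩ :=
    Cfsg.Agent.Lib.L0.exists_odd_normal_complement_of_cyclic_sylow S hcyc h2
  have hKcop : (Nat.card K).Coprime 2 := by
    rw [← hKc.index_eq_card]
    exact ((Nat.Prime.coprime_iff_not_dvd Nat.prime_two).mpr S.not_dvd_index).symm
  have hle : K ≤ Cfsg.oddCore G := Cfsg.Agent.Lib.H22.le_pPrimeCore 2 K hKn hKcop
  apply hle
  obtain ⟨⟨⟨k, hk⟩, ⟨s, hs⟩⟩, hks, -⟩ := (Subgroup.isComplement_iff_existsUnique.mp hKc) g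
  simp only at hks
  have hcomm : z * s = s * z := by
    have := (isMulCommutative_iff.mp hcyc.commutative) (⟨z, hzS⟩ : (S : Subgroup G)) ⟨s, hs⟩
    exact congrArg Subtype.val this
  have hzs : s * z⁻¹ * s⁻¹ = z⁻¹ := by
    calc s * z⁻¹ * s⁻¹ = z⁻¹ * (z * s) * z⁻¹ * s⁻¹ := by group
      _ = z⁻¹ := by rw [hcomm]; group
  have : z * g * z⁻¹ * g⁻¹ = (z * k * z⁻¹) * k⁻¹ := by
    rw [← hks]
    calc z * (k * s) * z⁻¹ * (k * s)⁻¹ = z * k * (s * z⁻¹ * s⁻¹) * k⁻¹ := by group
      _ = z * k * z⁻¹ * k⁻¹ := by rw [hzs]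
  rw [this]
  exact K.mul_mem (hKn.conj_mem k hk z) (K.inv_mem hk)

end Cfsg.Agent.Lib.H1.ZRankOne

namespace Cfsg.Agent.Lib.H1.ZRankOne

open Cfsg Subgroup

variable {G : Type*} [Group G] [Finite G]

/-- a `2`-element of the odd core is trivial -/
theorem eq_one_of_mem_oddCore {s : G} {k : ℕ} (hs : orderOf s = 2 ^ k)
    (hO : s ∈ Cfsg.oddCore G) : s = 1 := by
  have h1 : orderOf s ∣ Nat.card (Cfsg.oddCore G) := Subgroup.orderOf_dvd_natCard _ hO
  have h2 := Cfsg.Agent.Lib.H22.card_pPrimeCore_coprime (G := G) 2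
  have h3 : (orderOf s).Coprime 2 := Nat.Coprime.coprime_dvd_left h1 h2
  rw [hs] at h3
  rcases k with _ | k
  · rw [pow_zero] at hs; exact orderOf_eq_one_iff.mp hs
  · exfalso
    have : (2 : ℕ) ∣ Nat.gcd (2 ^ (k + 1)) 2 := Nat.dvd_gcd (dvd_pow_self 2 (by omega)) dvd_rfl
    rw [h3] at this
    omega

theorem comm_mem_oddCore_of_quat (S : Sylow 2 G) (m : ℕ)
    (e : (S : Subgroup G) ≃* QuaternionGroup (2 ^ (m + 1)))
    (huniq : ∀ H K : Subgroup ↥(S : Subgroup G), Nat.card H = 2 → Nat.card K = 2 → H = K)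
    (z : G) (hz : orderOf z = 2) (hzS : z ∈ (S : Subgroup G)) (g : G) :
    z * g * z⁻¹ * g⁻¹ ∈ Cfsg.oddCore G := by
  classical
  have hp2 : Fact (Nat.Prime 2) := ⟨Nat.prime_two⟩
  have hsurj : Function.Surjective (QuotientGroup.mk' (Cfsg.oddCore G)) :=
    QuotientGroup.mk'_surjective _
  -- injectivity on S
  have hinj : ∀ s ∈ (S : Subgroup G), QuotientGroup.mk' (Cfsg.oddCore G) s = 1 → s = 1 := by
    intro s hs h1
    obtain ⟨k, hk⟩ := (IsPGroup.iff_orderOf.mp S.isPGroup') ⟨s, hs⟩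
    have hk' : orderOf s = 2 ^ k := by rw [← hk, Subgroup.orderOf_mk]
    exact eq_one_of_mem_oddCore hk' ((QuotientGroup.eq_one_iff s).mp h1)
  -- the isomorphism
  have hbij : Function.Bijective ((QuotientGroup.mk' (Cfsg.oddCore G)).subgroupMap (S : Subgroup G)) := by
    constructor
    · rw [injective_iff_map_eq_one]
      intro s hs
      have h1 : QuotientGroup.mk' (Cfsg.oddCore G) (s : G) = 1 := by
        have := congrArg Subtype.val hs
        simpa using this
      exact Subtype.ext (hinj s s.2 h1)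
    · exact MonoidHom.subgroupMap_surjective _ _
  let ē : ↥((S.mapSurjective hsurj : Sylow 2 (G ⧸ Cfsg.oddCore G)) : Subgroup (G ⧸ Cfsg.oddCore G))
      ≃* QuaternionGroup (2 ^ (m + 1)) := (MulEquiv.ofBijective _ hbij).symm.trans e
  have hŌ : ∀ N : Subgroup (G ⧸ Cfsg.oddCore G), N.Normal → Odd (Nat.card N) → N = ⊥ := by
    intro N hN hodd
    have := Cfsg.Agent.Lib.H22.le_pPrimeCore 2 N hN (Nat.coprime_two_right.mpr hodd)
    rw [Cfsg.Agent.Lib.H9.pPrimeCore_quotient_eq_bot 2] at this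
    exact le_bot_iff.mp this
  have hcard := Cfsg.Agent.S0201.result (S.mapSurjective hsurj) m ē hŌ
  -- a central involution of the quotient
  have hnt : ∃ c : center (G ⧸ Cfsg.oddCore G), c ≠ 1 := by
    by_contra hcon
    push Not at hcon
    have : Nat.card (center (G ⧸ Cfsg.oddCore G)) = 1 :=
      Nat.card_eq_one_iff_unique.mpr ⟨⟨fun a b => by rw [hcon a, hcon b]⟩, ⟨1⟩⟩
    omega
  obtain ⟨c, hc1⟩ := hnt
  have hcc : (c : G ⧸ Cfsg.oddCore G) * (c : G ⧸ Cfsg.oddCore G) = 1 := by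
    have h1 : orderOf c ∣ 2 := by
      have := orderOf_dvd_natCard c
      rwa [hcard] at this
    have h2 : c ^ 2 = 1 := orderOf_dvd_iff_pow_eq_one.mp h1
    have := congrArg Subtype.val h2
    simpa [sq] using this
  have hc1' : (c : G ⧸ Cfsg.oddCore G) ≠ 1 := fun h => hc1 (Subtype.ext h)
  have hccen : ∀ y : G ⧸ Cfsg.oddCore G, y * (c : G ⧸ Cfsg.oddCore G) = (c : G ⧸ Cfsg.oddCore G) * y :=
    fun y => (Subgroup.mem_center_iff.mp c.2) y
  -- it lies in the image of S
  have hcn : (zpowers (c : G ⧸ Cfsg.oddCore G)).Normal := by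
    constructor
    intro w hw y
    obtain ⟨j, rfl⟩ := Subgroup.mem_zpowers_iff.mp hw
    have : y * (c : G ⧸ Cfsg.oddCore G) ^ j * y⁻¹ = (c : G ⧸ Cfsg.oddCore G) ^ j := by
      rw [← conj_zpow, hccen y]; group
    rw [this]; exact Subgroup.zpow_mem _ (Subgroup.mem_zpowers _) _
  have hcp : IsPGroup 2 (zpowers (c : G ⧸ Cfsg.oddCore G)) := by
    apply IsPGroup.of_card (n := 1)
    rw [Nat.card_zpowers, pow_one]
    exact orderOf_eq_prime (by rw [sq]; exact hcc) hc1'
  have hcS : (c : G ⧸ Cfsg.oddCore G) ∈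
      ((S.mapSurjective hsurj : Sylow 2 (G ⧸ Cfsg.oddCore G)) : Subgroup (G ⧸ Cfsg.oddCore G)) :=
    hcp.le_sylow_of_normal _ (Subgroup.mem_zpowers _)
  obtain ⟨s, hsS, hsc⟩ : ∃ s ∈ (S : Subgroup G), QuotientGroup.mk' (Cfsg.oddCore G) s = c := hcS
  have hs1 : s ≠ 1 := by
    intro h; apply hc1'; rw [← hsc, h, map_one]
  have hss : s * s = 1 := by
    apply hinj _ ((S : Subgroup G).mul_mem hsS hsS)
    rw [map_mul, hsc, hcc]
  -- z and s generate the same subgroup
  have hz2 : z * z = 1 := by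
    rw [← sq, ← hz]; exact pow_orderOf_eq_one z
  have hz1 : z ≠ 1 := by
    intro h; rw [h, orderOf_one] at hz; omega
  have hcardz : ∀ (t : G) (ht : t ∈ (S : Subgroup G)), t * t = 1 → t ≠ 1 →
      Nat.card (zpowers (⟨t, ht⟩ : ↥(S : Subgroup G))) = 2 := by
    intro t ht htt ht1
    rw [Nat.card_zpowers]
    apply orderOf_eq_prime
    · apply Subtype.ext; simpa [sq] using htt
    · intro h; exact ht1 (congrArg Subtype.val h)
  have heq := huniq _ _ (hcardz z hzS hz2 hz1) (hcardz s hsS hss hs1)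
  have hzmem : (⟨z, hzS⟩ : ↥(S : Subgroup G)) ∈ zpowers (⟨s, hsS⟩ : ↥(S : Subgroup G)) := by
    rw [← heq]; exact Subgroup.mem_zpowers _
  obtain ⟨j, hj⟩ := Subgroup.mem_zpowers_iff.mp hzmem
  have hzj : z = s ^ j := by
    have := congrArg Subtype.val hj
    simpa using this.symm
  have hπz : QuotientGroup.mk' (Cfsg.oddCore G) z = c := by
    rcases Int.even_or_odd j with ⟨i, hi⟩ | ⟨i, hi⟩
    · exfalso
      apply hz1
      rw [hzj, hi, zpow_add, ← (Commute.refl s).mul_zpow, hss, one_zpow]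
    · rw [hzj, hi, zpow_add, zpow_mul, zpow_one]
      have : s ^ (2 : ℤ) = 1 := by
        have : s ^ (2 : ℤ) = s * s := by
          rw [show (2 : ℤ) = 1 + 1 by norm_num, zpow_add, zpow_one]
        rw [this, hss]
      rw [this, one_zpow, one_mul, hsc]
  -- conclusion
  apply (QuotientGroup.eq_one_iff _).mp
  have : QuotientGroup.mk' (Cfsg.oddCore G) (z * g * z⁻¹ * g⁻¹)
      = (c : G ⧸ Cfsg.oddCore G) * (QuotientGroup.mk' (Cfsg.oddCore G) g)
        * (c : G ⧸ Cfsg.oddCore G)⁻¹ * (QuotientGroup.mk' (Cfsg.oddCore G) g)⁻¹ := by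
    rw [map_mul, map_mul, map_mul, map_inv, map_inv, hπz]
  change QuotientGroup.mk' (Cfsg.oddCore G) (z * g * z⁻¹ * g⁻¹) = 1
  rw [this, ← hccen]; group

end Cfsg.Agent.Lib.H1.ZRankOne

namespace Cfsg.Agent.Lib.H1.ZRankOne

open Cfsg Subgroup

variable {G : Type*} [Group G] [Finite G]

/-- **Rank one case of the `Z*`-theorem**: if commuting involutions of `G` always coincide, then
every involution is central modulo the odd core. -/
theorem comm_mem_oddCore
    (hU : ∀ u v : G, u * u = 1 → u ≠ 1 → v * v = 1 → v ≠ 1 → u * v = v * u → u = v)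
    (z : G) (hz : orderOf z = 2) (g : G) : z * g * z⁻¹ * g⁻¹ ∈ Cfsg.oddCore G := by
  have hp2 : Fact (Nat.Prime 2) := ⟨Nat.prime_two⟩
  have hzp : IsPGroup 2 (zpowers z) := by
    apply IsPGroup.of_card (n := 1)
    rw [Nat.card_zpowers, hz, pow_one]
  obtain ⟨S, hS⟩ := hzp.exists_le_sylow
  have hzS : z ∈ (S : Subgroup G) := hS (Subgroup.mem_zpowers z)
  have huniq := unique_order_two hU S
  rcases Cfsg.Agent.S0016.result 2 S.isPGroup' huniq with hcyc | ⟨-, n, ⟨e⟩⟩
  · exact comm_mem_oddCore_of_cyclic S hcyc z hz hzS g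
  · rcases n with _ | m
    · have hcyc : IsCyclic (S : Subgroup G) := by
        have : IsCyclic (QuaternionGroup (2 ^ 0)) := QuaternionGroup.quaternionGroup_one_isCyclic
        exact isCyclic_of_surjective e.symm e.symm.surjective
      exact comm_mem_oddCore_of_cyclic S hcyc z hz hzS g
    · exact comm_mem_oddCore_of_quat S m e huniq z hz hzS g

end Cfsg.Agent.Lib.H1.ZRankOne
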