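import Mathlib
import Cfsg.Agent.Lib.H1.BSGrp
import Cfsg.Agent.Lib.H1.ZRankOne
import Cfsg.Agent.Lib.H12.LocalArith
import Cfsg.Agent.Lib.H23.BlockOsima
import Cfsg.Agent.Lib.H24.CharKer
import Cfsg.Agent.Lib.L0.CharBasic
import Cfsg.Agent.Lib.L0.CharOps
import Cfsg.Agent.Lib.L0.PRegCongP
import Cfsg.Agent.S0209
import Cfsg.Agent.S0216
import Cfsg.Agent.S0229
import Cfsg.Agent.S0925
import Cfsg.Agent.S0942
import Cfsg.Agent.S0943
import Cfsg.Agent.S1182
import Cfsg.Prelude.Def_TwoFusion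

/-!
# Glauberman's `Z*`-theorem (helper1)

For an involution `u` of a finite group `G` such that all commutators `[u, g]` have odd order
(equivalently: `u` commutes with none of its other conjugates), all these commutators lie in
the largest normal subgroup of odd order.  The proof is by induction on the order: reduction to
trivial odd core, to `G` generated by the conjugates of `u`, to the absence of central
involutions; the 2-rank one case is the Brauer-Suzuki theorem; in the remaining case Brauer's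
second and third main theorems give a character relation on the principal 2-block which
contradicts block orthogonality.
-/

set_option autoImplicit false

namespace Cfsg.Agent.Lib.H1.ZStar

universe u

section ZS1
open Cfsg Subgroup


variable {G : Type u} [Group G]

/-- `u` is an isolated involution: all commutators with `u` have odd order. -/
def Iso (u : G) : Prop := orderOf u = 2 ∧ ∀ g : G, Odd (orderOf (u * g * u⁻¹ * g⁻¹))

/-- the conclusion of the `Z*`-theorem -/
def ZConcl (G : Type u) [Group G] (u : G) : Prop := ∀ g : G, u * g * u⁻¹ * g⁻¹ ∈ Cfsg.oddCore G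

namespace Iso

variable {u : G}

theorem mul_self (h : Iso u) : u * u = 1 := by
  rw [← sq, ← h.1]; exact pow_orderOf_eq_one u

theorem ne_one (h : Iso u) : u ≠ 1 := by
  intro hc; have := h.1; rw [hc, orderOf_one] at this; omega

theorem inv_eq (h : Iso u) : u⁻¹ = u := inv_eq_of_mul_eq_one_left h.mul_self

theorem comm_eq (h : Iso u) (g : G) : u * g * u⁻¹ * g⁻¹ = u * (g * u * g⁻¹) := by
  rw [h.inv_eq]; group

/-- a conjugate commuting with `u` equals `u` -/
theorem eq_of_commute (h : Iso u) (g : G) (hc : u * (g * u * g⁻¹) = (g * u * g⁻¹) * u) :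
    g * u * g⁻¹ = u := by
  have hv2 : (g * u * g⁻¹) * (g * u * g⁻¹) = 1 := by
    calc (g * u * g⁻¹) * (g * u * g⁻¹) = g * (u * u) * g⁻¹ := by group
      _ = 1 := by rw [h.mul_self]; group
  have h2 : (u * (g * u * g⁻¹)) ^ 2 = 1 := by
    rw [sq]
    calc u * (g * u * g⁻¹) * (u * (g * u * g⁻¹))
        = u * ((g * u * g⁻¹) * u) * (g * u * g⁻¹) := by group
      _ = u * (u * (g * u * g⁻¹)) * (g * u * g⁻¹) := by rw [hc]
      _ = (u * u) * ((g * u * g⁻¹) * (g * u * g⁻¹)) := by group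
      _ = 1 := by rw [h.mul_self, hv2, one_mul]
  have hodd := h.2 g
  rw [h.comm_eq] at hodd
  have hd : orderOf (u * (g * u * g⁻¹)) ∣ 2 := orderOf_dvd_of_pow_eq_one h2
  have h1 : orderOf (u * (g * u * g⁻¹)) = 1 := by
    rcases (Nat.dvd_prime Nat.prime_two).mp hd with h1 | h1
    · exact h1
    · rw [h1] at hodd; exact absurd hodd (by decide)
  rw [orderOf_eq_one_iff] at h1
  have : g * u * g⁻¹ = u⁻¹ := eq_inv_of_mul_eq_one_right h1
  rw [this, h.inv_eq]

theorem isIsolatedInvolution (h : Iso u) : Cfsg.IsIsolatedInvolution u :=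
  ⟨h.1, fun g hc => h.eq_of_commute g hc.eq⟩

theorem conj (h : Iso u) (a : G) : Iso (a * u * a⁻¹) := by
  refine ⟨?_, fun g => ?_⟩
  · have := MulEquiv.orderOf_eq (MulAut.conj a) u
    rw [MulAut.conj_apply] at this
    rw [this, h.1]
  · have e : a * u * a⁻¹ * g * (a * u * a⁻¹)⁻¹ * g⁻¹
        = a * (u * (a⁻¹ * g * a) * u⁻¹ * (a⁻¹ * g * a)⁻¹) * a⁻¹ := by group
    have := MulEquiv.orderOf_eq (MulAut.conj a) (u * (a⁻¹ * g * a) * u⁻¹ * (a⁻¹ * g * a)⁻¹)
    rw [MulAut.conj_apply] at this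
    rw [e, this]
    exact h.2 _

/-- restriction to a subgroup -/
theorem subgroup (h : Iso u) (H : Subgroup G) (hu : u ∈ H) : Iso (⟨u, hu⟩ : H) := by
  refine ⟨by rw [Subgroup.orderOf_mk]; exact h.1, fun g => ?_⟩
  have := h.2 (g : G)
  rw [← Subgroup.orderOf_coe]
  simpa using this

/-- passage to a quotient -/
theorem quotient (h : Iso u) (N : Subgroup G) [N.Normal] (hu : u ∉ N) :
    Iso (QuotientGroup.mk' N u) := by
  refine ⟨?_, fun g => ?_⟩
  · apply orderOf_eq_prime
    · rw [← map_pow, sq, h.mul_self, map_one]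
    · intro hc
      exact hu ((QuotientGroup.eq_one_iff u).mp hc)
  · obtain ⟨g, rfl⟩ := QuotientGroup.mk'_surjective N g
    have hd : orderOf (QuotientGroup.mk' N (u * g * u⁻¹ * g⁻¹)) ∣ orderOf (u * g * u⁻¹ * g⁻¹) :=
      orderOf_map_dvd _ _
    have := Odd.of_dvd_nat (h.2 g) hd
    simpa using this

end Iso

/-- if `u` is central then the conclusion holds -/
theorem zconcl_of_central {u : G} (h : u ∈ center G) : ZConcl G u := by
  intro g
  have : u * g * u⁻¹ * g⁻¹ = 1 := by
    have := (Subgroup.mem_center_iff.mp h) g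
    rw [← this]; group
  rw [this]; exact one_mem _

end ZS1

section ZS2
open Cfsg Subgroup


variable {G : Type u} [Group G]

/-- The induction hypothesis. -/
def IHyp (G : Type u) [Group G] : Prop :=
  ∀ (H : Type u) [Group H] [Finite H], Nat.card H < Nat.card G → ∀ v : H, Iso v → ZConcl H v

variable [Finite G]

theorem card_lt_of_ne_top (H : Subgroup G) (hH : H ≠ ⊤) : Nat.card H < Nat.card G := by
  by_contra hc
  push Not at hc
  exact hH (Subgroup.eq_top_of_card_eq H (le_antisymm (Subgroup.card_le_card_group H) hc))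

theorem IHyp.subgroup (IH : IHyp G) (H : Subgroup G) (hH : H ≠ ⊤) {v : G} (hv : Iso v)
    (hvH : v ∈ H) (h : G) (hh : h ∈ H) :
    v * h * v⁻¹ * h⁻¹ ∈ (Cfsg.oddCore ↥H).map H.subtype := by
  have := IH ↥H (card_lt_of_ne_top H hH) ⟨v, hvH⟩ (hv.subgroup H hvH) ⟨h, hh⟩
  exact ⟨_, this, by simp⟩

theorem step_oddCore (IH : IHyp G) {u : G} (hu : Iso u) (hO : Cfsg.oddCore G ≠ ⊥) :
    ZConcl G u := by
  have hlt : Nat.card (G ⧸ Cfsg.oddCore G) < Nat.card G := by
    rw [Subgroup.card_eq_card_quotient_mul_card_subgroup (Cfsg.oddCore G)]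
    have h1 : 1 < Nat.card (Cfsg.oddCore G) := (Subgroup.one_lt_card_iff_ne_bot _).mpr hO
    have hpos : 0 < Nat.card (G ⧸ Cfsg.oddCore G) := Nat.card_pos
    nlinarith
  have huO : u ∉ Cfsg.oddCore G := fun hc =>
    hu.ne_one (Cfsg.Agent.Lib.H1.ZRankOne.eq_one_of_mem_oddCore (k := 1) (by rw [hu.1, pow_one]) hc)
  have key := IH (G ⧸ Cfsg.oddCore G) hlt _ (hu.quotient _ huO)
  intro g
  have h1 := key (QuotientGroup.mk' _ g)
  have hb : Cfsg.oddCore (G ⧸ Cfsg.oddCore G) = ⊥ :=
    Cfsg.Agent.Lib.H9.pPrimeCore_quotient_eq_bot 2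
  rw [hb, Subgroup.mem_bot] at h1
  apply (QuotientGroup.eq_one_iff _).mp
  simpa using h1

theorem step_normalClosure (IH : IHyp G) {u : G} (hu : Iso u) (hO : Cfsg.oddCore G = ⊥)
    (hL : normalClosure ({u} : Set G) ≠ ⊤) : u ∈ center G := by
  have huL : u ∈ normalClosure ({u} : Set G) := Subgroup.subset_normalClosure (Set.mem_singleton u)
  have hle : (Cfsg.oddCore ↥(normalClosure ({u} : Set G))).map (normalClosure ({u} : Set G)).subtype
      ≤ Cfsg.oddCore G :=
    Cfsg.Agent.Lib.H9.pPrimeCore_subnormal_le 2 (Subgroup.normalClosure_normal.isSubnormal)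
  rw [hO] at hle
  rw [Subgroup.mem_center_iff]
  intro g
  have hv : g * u * g⁻¹ ∈ normalClosure ({u} : Set G) :=
    Subgroup.normalClosure_normal.conj_mem u huL g
  have h1 := hle (IH.subgroup _ hL hu huL _ hv)
  rw [Subgroup.mem_bot] at h1
  have hc : u * (g * u * g⁻¹) = (g * u * g⁻¹) * u := by
    calc u * (g * u * g⁻¹) = (u * (g * u * g⁻¹) * u⁻¹ * (g * u * g⁻¹)⁻¹) * (g * u * g⁻¹) * u := by
          group
      _ = (g * u * g⁻¹) * u := by rw [h1, one_mul]
  have h2 := hu.eq_of_commute g hc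
  calc g * u = (g * u * g⁻¹) * g := by group
    _ = u * g := by rw [h2]

end ZS2

section ZS3
open Cfsg Subgroup


variable {G : Type u} [Group G] [Finite G]

theorem orderOf_conj_eq' (k x : G) : orderOf (k * x * k⁻¹) = orderOf x := by
  have := MulEquiv.orderOf_eq (MulAut.conj k) x
  rwa [MulAut.conj_apply] at this

/-- In a group with trivial odd core, a normal subgroup with cyclic Sylow `2`-subgroups has no
nontrivial elements of odd order. -/
theorem odd_elt_trivial (hO : Cfsg.oddCore G = ⊥) (M : Subgroup G) (hM : M.Normal)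
    (T : Sylow 2 M) (hcyc : IsCyclic (T : Subgroup M)) {w : G} (hw : w ∈ M)
    (hodd : Odd (orderOf w)) : w = 1 := by
  have hp2 : Fact (Nat.Prime 2) := ⟨Nat.prime_two⟩
  by_cases h2 : 2 ∣ Nat.card M
  · obtain ⟨K, hKn, hKc, hKmem⟩ :=
      Cfsg.Agent.Lib.L0.exists_odd_normal_complement_of_cyclic_sylow T hcyc h2
    have hK'n : (K.map M.subtype).Normal := by
      constructor
      rintro x ⟨y, hy, rfl⟩ k
      have hmem : k * (y : G) * k⁻¹ ∈ M := hM.conj_mem _ y.2 k
      refine ⟨⟨k * (y : G) * k⁻¹, hmem⟩, ?_, rfl⟩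
      apply (hKmem _).mpr
      rw [← Subgroup.orderOf_coe]
      have h1 := (hKmem y).mp hy
      rw [← Subgroup.orderOf_coe] at h1
      simp only
      rw [orderOf_conj_eq']
      exact h1
    have hK'cop : (Nat.card (K.map M.subtype)).Coprime 2 := by
      rw [Nat.card_congr (Subgroup.equivMapOfInjective K _
        (Subgroup.subtype_injective _)).toEquiv.symm, hKc.index_eq_card.symm]
      exact ((Nat.Prime.coprime_iff_not_dvd Nat.prime_two).mpr T.not_dvd_index).symm
    have hle := Cfsg.Agent.Lib.H22.le_pPrimeCore 2 _ hK'n hK'cop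
    have hwK : (⟨w, hw⟩ : M) ∈ K := by
      rw [hKmem, ← Subgroup.orderOf_coe]
      exact Nat.coprime_two_right.mpr hodd
    have : w ∈ K.map M.subtype := ⟨⟨w, hw⟩, hwK, rfl⟩
    have h3 := hle this
    change w ∈ Cfsg.oddCore G at h3
    rw [hO, Subgroup.mem_bot] at h3
    exact h3
  · have hcop : (Nat.card M).Coprime 2 :=
      ((Nat.Prime.coprime_iff_not_dvd Nat.prime_two).mpr h2).symm
    have hle := Cfsg.Agent.Lib.H22.le_pPrimeCore 2 M hM hcop
    have h3 := hle hw
    change w ∈ Cfsg.oddCore G at h3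
    rw [hO, Subgroup.mem_bot] at h3
    exact h3

theorem step_central_involution (IH : IHyp G) {u : G} (hu : Iso u) (hO : Cfsg.oddCore G = ⊥)
    (s₀ : G) (hs₀ : s₀ ∈ center G) (hs₀o : orderOf s₀ = 2) : u ∈ center G := by
  classical
  have hp2 : Fact (Nat.Prime 2) := ⟨Nat.prime_two⟩
  by_cases hus : u = s₀
  · rw [hus]; exact hs₀
  have hs2 : s₀ * s₀ = 1 := by rw [← sq, ← hs₀o]; exact pow_orderOf_eq_one s₀
  have hcen : ∀ g : G, g * s₀ * g⁻¹ = s₀ := by
    intro g
    have := (Subgroup.mem_center_iff.mp hs₀) g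
    rw [this]; group
  have hZn : (zpowers s₀).Normal := by
    constructor
    intro w hw g
    obtain ⟨j, rfl⟩ := Subgroup.mem_zpowers_iff.mp hw
    have : g * s₀ ^ j * g⁻¹ = s₀ ^ j := by rw [← conj_zpow, hcen g]
    rw [this]; exact Subgroup.zpow_mem _ (Subgroup.mem_zpowers _) _
  have hZmem : ∀ w ∈ zpowers s₀, w = 1 ∨ w = s₀ := by
    intro w hw
    obtain ⟨j, rfl⟩ := Subgroup.mem_zpowers_iff.mp hw
    rcases Int.even_or_odd j with ⟨i, hi⟩ | ⟨i, hi⟩
    · left
      rw [hi, zpow_add, ← (Commute.refl s₀).mul_zpow, hs2, one_zpow]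
    · right
      rw [hi, zpow_add, zpow_mul, zpow_one]
      have : s₀ ^ (2 : ℤ) = 1 := by
        rw [show (2 : ℤ) = 1 + 1 by norm_num, zpow_add, zpow_one, hs2]
      rw [this, one_zpow, one_mul]
  have huZ : u ∉ zpowers s₀ := by
    intro hc
    rcases hZmem u hc with h1 | h1
    · exact hu.ne_one h1
    · exact hus h1
  have hlt : Nat.card (G ⧸ zpowers s₀) < Nat.card G := by
    rw [Subgroup.card_eq_card_quotient_mul_card_subgroup (zpowers s₀), Nat.card_zpowers, hs₀o]
    have hpos : 0 < Nat.card (G ⧸ zpowers s₀) := Nat.card_pos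
    omega
  have key := IH (G ⧸ zpowers s₀) hlt _ (hu.quotient _ huZ)
  -- the preimage of the odd core of the quotient
  obtain ⟨M, hMdef⟩ : ∃ M : Subgroup G,
      M = (Cfsg.oddCore (G ⧸ zpowers s₀)).comap (QuotientGroup.mk' (zpowers s₀)) := ⟨_, rfl⟩
  have hMn : M.Normal := by rw [hMdef]; infer_instance
  have hMmem : ∀ x : G, x ∈ M ↔ QuotientGroup.mk' (zpowers s₀) x ∈ Cfsg.oddCore (G ⧸ zpowers s₀) := by
    intro x; rw [hMdef, Subgroup.mem_comap]
  obtain ⟨T⟩ : Nonempty (Sylow 2 ↥M) := inferInstance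
  have hs₀M : s₀ ∈ M := by
    rw [hMmem]
    have : QuotientGroup.mk' (zpowers s₀) s₀ = 1 :=
      (QuotientGroup.eq_one_iff s₀).mpr (Subgroup.mem_zpowers s₀)
    rw [this]; exact one_mem _
  have hTle : (T : Subgroup ↥M) ≤ zpowers (⟨s₀, hs₀M⟩ : ↥M) := by
    intro t ht
    obtain ⟨k, hk⟩ := (IsPGroup.iff_orderOf.mp T.isPGroup') ⟨t, ht⟩
    have hk' : orderOf (t : G) = 2 ^ k := by
      rw [← hk, Subgroup.orderOf_mk, Subgroup.orderOf_coe]
    have hπt : QuotientGroup.mk' (zpowers s₀) (t : G) = 1 := by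
      have hd : orderOf (QuotientGroup.mk' (zpowers s₀) (t : G)) ∣ 2 ^ k := by
        rw [← hk']; exact orderOf_map_dvd _ _
      obtain ⟨j, -, hj2⟩ := (Nat.dvd_prime_pow Nat.prime_two).mp hd
      exact Cfsg.Agent.Lib.H1.ZRankOne.eq_one_of_mem_oddCore hj2 ((hMmem _).mp t.2)
    have hmem : (t : G) ∈ zpowers s₀ := (QuotientGroup.eq_one_iff _).mp hπt
    obtain ⟨j, hj⟩ := Subgroup.mem_zpowers_iff.mp hmem
    rw [Subgroup.mem_zpowers_iff]
    exact ⟨j, Subtype.ext (by simpa using hj)⟩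
  have hTc : IsCyclic (T : Subgroup ↥M) := Subgroup.isCyclic_of_le hTle
  rw [Subgroup.mem_center_iff]
  intro g
  have hw := key (QuotientGroup.mk' _ g)
  have hwM : u * g * u⁻¹ * g⁻¹ ∈ M := by
    rw [hMmem]
    simpa using hw
  have h1 := odd_elt_trivial hO M hMn T hTc hwM (hu.2 g)
  calc g * u = (u * g * u⁻¹ * g⁻¹)⁻¹ * u * g := by group
    _ = u * g := by rw [h1]; group

end ZS3

section ZS4
open Cfsg Subgroup


variable {G : Type u} [Group G] [Finite G]

/-- a nontrivial Sylow `2`-subgroup has a central involution -/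
theorem exists_central_involution (S : Sylow 2 G) (hnt : ∃ t ∈ (S : Subgroup G), t ≠ 1) :
    ∃ c ∈ (S : Subgroup G), c * c = 1 ∧ c ≠ 1 ∧ ∀ s ∈ (S : Subgroup G), s * c = c * s := by
  have hp2 : Fact (Nat.Prime 2) := ⟨Nat.prime_two⟩
  obtain ⟨t, htS, ht1⟩ := hnt
  have hnt' : Nontrivial ↥(S : Subgroup G) := ⟨⟨⟨t, htS⟩, 1, fun h => ht1 (congrArg Subtype.val h)⟩⟩
  have hcn : Nontrivial (center ↥(S : Subgroup G)) := S.isPGroup'.center_nontrivial
  have hcp : IsPGroup 2 (center ↥(S : Subgroup G)) := S.isPGroup'.to_subgroup _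
  have h2c : 2 ∣ Nat.card (center ↥(S : Subgroup G)) := by
    obtain ⟨k, hk⟩ := hcp.exists_card_eq
    rw [hk]
    rcases k with _ | k
    · exfalso
      rw [pow_zero] at hk
      have := (Nat.card_eq_one_iff_unique.mp hk).1
      exact not_subsingleton _ this
    · exact dvd_pow_self 2 (by omega)
  obtain ⟨c, hc⟩ := exists_prime_orderOf_dvd_card' 2 h2c
  refine ⟨((c : ↥(S : Subgroup G)) : G), (c : ↥(S : Subgroup G)).2, ?_, ?_, ?_⟩
  · have h1 : c ^ 2 = 1 := by
      have := pow_orderOf_eq_one c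
      rwa [hc] at this
    have h2 := congrArg (fun x : center ↥(S : Subgroup G) => ((x : ↥(S : Subgroup G)) : G)) h1
    simpa [sq] using h2
  · intro h1
    have : c = 1 := Subtype.ext (Subtype.ext h1)
    rw [this, orderOf_one] at hc
    omega
  · intro s hs
    have := (Subgroup.mem_center_iff.mp c.2) ⟨s, hs⟩
    exact congrArg Subtype.val this

theorem step_rank_one {u : G} (hu : Iso u)
    (hno : ∀ t : G, t * t = 1 → t ≠ 1 → u * t = t * u → t = u) : ZConcl G u := by
  have hp2 : Fact (Nat.Prime 2) := ⟨Nat.prime_two⟩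
  have hzp : IsPGroup 2 (zpowers u) := by
    apply IsPGroup.of_card (n := 1)
    rw [Nat.card_zpowers, hu.1, pow_one]
  obtain ⟨S, hS⟩ := hzp.exists_le_sylow
  have huS : u ∈ (S : Subgroup G) := hS (Subgroup.mem_zpowers u)
  obtain ⟨c, hcS, hcc, hc1, hccen⟩ := exists_central_involution S ⟨u, huS, hu.ne_one⟩
  have hcu : c = u := hno c hcc hc1 (hccen u huS)
  -- the unique involution of S
  have huniq : ∀ v ∈ (S : Subgroup G), v * v = 1 → v ≠ 1 → v = u := by
    intro v hv hvv hv1
    apply hno v hvv hv1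
    rw [← hcu]
    exact (hccen v hv).symm
  have hU : ∀ v w : G, v * v = 1 → v ≠ 1 → w * w = 1 → w ≠ 1 → v * w = w * v → v = w := by
    intro v w hvv hv1 hww hw1 hvw
    have ov : orderOf v = 2 ^ 1 := by
      rw [pow_one]; exact orderOf_eq_prime (by rw [sq]; exact hvv) hv1
    have ow : orderOf w = 2 ^ 1 := by
      rw [pow_one]; exact orderOf_eq_prime (by rw [sq]; exact hww) hw1
    obtain ⟨g, hgv, hgw⟩ := Cfsg.Agent.Lib.H1.BSGrp.exists_conj_mem_pair S ov ow hvw
    have e1 : g⁻¹ * v * g = u := by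
      apply huniq _ hgv
      · calc g⁻¹ * v * g * (g⁻¹ * v * g) = g⁻¹ * (v * v) * g := by group
          _ = 1 := by rw [hvv]; group
      · intro hc
        apply hv1
        calc v = g * (g⁻¹ * v * g) * g⁻¹ := by group
          _ = 1 := by rw [hc]; group
    have e2 : g⁻¹ * w * g = u := by
      apply huniq _ hgw
      · calc g⁻¹ * w * g * (g⁻¹ * w * g) = g⁻¹ * (w * w) * g := by group
          _ = 1 := by rw [hww]; group
      · intro hc
        apply hw1
        calc w = g * (g⁻¹ * w * g) * g⁻¹ := by group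
          _ = 1 := by rw [hc]; group
    calc v = g * (g⁻¹ * v * g) * g⁻¹ := by group
      _ = g * (g⁻¹ * w * g) * g⁻¹ := by rw [e1, e2]
      _ = w := by group
  exact fun g => Cfsg.Agent.Lib.H1.ZRankOne.comm_mem_oddCore hU u hu.1 g

end ZS4

section ZS5
open Cfsg Subgroup


variable {G : Type u} [Group G] [Finite G]

/-- The dihedral decomposition of a product of two involutions whose order is `2 mod 4`. -/
theorem dihedral_decomp {x y : G} (hx : orderOf x = 2) (hy : orderOf y = 2)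
    (ho : orderOf (x * y) % 4 = 2) :
    ∃ s w : G, x * y = s * w ∧ orderOf s = 2 ∧ s * x = x * s ∧ s * w = w * s ∧
      Odd (orderOf w) ∧ x * w * x⁻¹ = w⁻¹ ∧ s ≠ x ∧ ∃ d : G, d * y * d⁻¹ = x * s := by
  have hx2 : x * x = 1 := by rw [← sq, ← hx]; exact pow_orderOf_eq_one x
  have hy2 : y * y = 1 := by rw [← sq, ← hy]; exact pow_orderOf_eq_one y
  have hxi : x⁻¹ = x := inv_eq_of_mul_eq_one_left hx2
  have hyi : y⁻¹ = y := inv_eq_of_mul_eq_one_left hy2
  obtain ⟨q, hq⟩ : ∃ q, orderOf (x * y) = 4 * q + 2 := ⟨orderOf (x * y) / 4, by omega⟩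
  have hk : orderOf (x * y) / 2 = 2 * q + 1 := by omega
  have heven : Even (orderOf (x * y)) := ⟨2 * q + 1, by omega⟩
  obtain ⟨hs2, hsx, hsy⟩ := Cfsg.Agent.S0209.result x y hx hy heven
  rw [hk] at hs2 hsx hsy
  have hco : (x * y) ^ (4 * q + 2) = 1 := by rw [← hq]; exact pow_orderOf_eq_one _
  -- x inverts c
  have hinv : x * (x * y) * x⁻¹ = (x * y)⁻¹ := by
    rw [mul_inv_rev, hxi, hyi]
    calc x * (x * y) * x = (x * x) * y * x := by group
      _ = y * x := by rw [hx2, one_mul]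
  have hinvpow : ∀ j : ℕ, x * (x * y) ^ j * x⁻¹ = ((x * y) ^ j)⁻¹ := by
    intro j
    rw [← conj_pow, hinv, inv_pow]
  refine ⟨(x * y) ^ (2 * q + 1), (x * y) ^ (2 * q + 2), ?_, hs2, hsx.eq, ?_, ?_, ?_, ?_, ?_⟩
  · rw [← pow_add]
    have : 2 * q + 1 + (2 * q + 2) = (4 * q + 2) + 1 := by ring
    rw [this, pow_succ, hco, one_mul]
  · rw [← pow_add, ← pow_add, add_comm]
  · have hw : ((x * y) ^ (2 * q + 2)) ^ (2 * q + 1) = 1 := by
      rw [← pow_mul]
      have : (2 * q + 2) * (2 * q + 1) = (4 * q + 2) * (q + 1) := by ring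
      rw [this, pow_mul, hco, one_pow]
    have hd := orderOf_dvd_of_pow_eq_one hw
    exact Odd.of_dvd_nat ⟨q, rfl⟩ hd
  · exact hinvpow _
  · intro hc
    -- then x commutes with y
    have hxy : x * y = y * x := by
      have := hsy.eq
      rw [hc] at this
      exact this
    have hc2 : (x * y) ^ 2 = 1 := by
      rw [sq]
      calc x * y * (x * y) = x * (y * x) * y := by group
        _ = x * (x * y) * y := by rw [hxy]
        _ = (x * x) * (y * y) := by group
        _ = 1 := by rw [hx2, hy2, one_mul]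
    have hd := orderOf_dvd_of_pow_eq_one hc2
    rw [hq] at hd
    have hq0 : q = 0 := by
      have := Nat.le_of_dvd (by norm_num) hd
      omega
    rw [hq0] at hc
    simp only [mul_zero, zero_add, pow_one] at hc
    have : y = 1 := by
      calc y = x⁻¹ * (x * y) := by group
        _ = 1 := by rw [hc]; group
    rw [this, orderOf_one] at hy
    omega
  · refine ⟨((x * y) ^ q)⁻¹, ?_⟩
    rw [inv_inv]
    have h1 : x * (x * y) ^ q = ((x * y) ^ q)⁻¹ * x := by
      calc x * (x * y) ^ q = (x * (x * y) ^ q * x⁻¹) * x := by group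
        _ = ((x * y) ^ q)⁻¹ * x := by rw [hinvpow]
    have h2 : (x * y) ^ (2 * q + 1) = (x * y) ^ q * (x * y) * (x * y) ^ q := by
      rw [← pow_succ, ← pow_add]; congr 1; ring
    rw [h2]
    calc ((x * y) ^ q)⁻¹ * y * (x * y) ^ q
        = ((x * y) ^ q)⁻¹ * ((x * x) * y) * (x * y) ^ q := by rw [hx2, one_mul]
      _ = (((x * y) ^ q)⁻¹ * x) * (x * y) * (x * y) ^ q := by group
      _ = (x * (x * y) ^ q) * (x * y) * (x * y) ^ q := by rw [h1]
      _ = x * ((x * y) ^ q * (x * y) * (x * y) ^ q) := by group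

end ZS5

section ZS6
open Cfsg Subgroup


variable {G : Type u} [Group G] [Finite G]

/-- an element of odd order lies in every subgroup containing its square -/
theorem mem_of_sq_mem {w : G} (hodd : Odd (orderOf w)) (K : Subgroup G) (h : w * w ∈ K) :
    w ∈ K := by
  obtain ⟨r, hr⟩ := hodd
  have : w = (w * w) ^ (r + 1) := by
    rw [← sq, ← pow_mul]
    have : 2 * (r + 1) = orderOf w + 1 := by omega
    rw [this, pow_succ, pow_orderOf_eq_one, one_mul]
  rw [this]
  exact K.pow_mem h _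

/-- The product decomposition: for an isolated involution `x` and an involution `y` not conjugate
to it, `x * y = s * w` with `s` an involution, `w ∈ O(C_G(s))`, and `x * s` conjugate to `y`. -/
theorem prod_decomp (IH : IHyp G) (hZ : ∀ s ∈ center G, orderOf s ≠ 2) {x y : G} (hx : Iso x)
    (hy : orderOf y = 2) (hns : ¬ IsConj y x) :
    ∃ s w : G, x * y = s * w ∧ orderOf s = 2 ∧ s * x = x * s ∧
      w ∈ Cfsg.centralizerPPrimeCore 2 s ∧ s ≠ x ∧ ∃ d : G, d * y * d⁻¹ = x * s := by
  have hp2 : Fact (Nat.Prime 2) := ⟨Nat.prime_two⟩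
  -- a Sylow subgroup containing x
  have hzp : IsPGroup 2 (zpowers x) := by
    apply IsPGroup.of_card (n := 1)
    rw [Nat.card_zpowers, hx.1, pow_one]
  obtain ⟨S, hS⟩ := hzp.exists_le_sylow
  have hxS : x ∈ (S : Subgroup G) := hS (Subgroup.mem_zpowers x)
  have hiso := (Cfsg.Agent.S0216.result S x hx.1 hxS).mpr hx.2
  have h4 := Cfsg.Agent.S0229.result S x hx.1 hxS hiso y hy hns
  have hord : orderOf (x * y) = orderOf (y * x) := by
    have h1 : y * x = x⁻¹ * (x * y) * x⁻¹⁻¹ := by group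
    rw [h1, orderOf_conj_eq']
  rw [← hord] at h4
  obtain ⟨s, w, hsw, hs2, hsx, hsw', hwodd, hxw, hsne, hd⟩ := dihedral_decomp hx.1 hy h4
  refine ⟨s, w, hsw, hs2, hsx, ?_, hsne, hd⟩
  -- the centralizer of s is proper
  have hH : centralizer ({s} : Set G) ≠ ⊤ := by
    intro hc
    apply hZ s _ hs2
    rw [Subgroup.mem_center_iff]
    intro g
    have : g ∈ centralizer ({s} : Set G) := by rw [hc]; trivial
    exact ((Subgroup.mem_centralizer_iff.mp this) s (Set.mem_singleton s)).symm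
  have hxH : x ∈ centralizer ({s} : Set G) := by
    rw [Subgroup.mem_centralizer_iff]
    intro z hz
    rw [Set.mem_singleton_iff.mp hz]; exact hsx
  have hwH : w ∈ centralizer ({s} : Set G) := by
    rw [Subgroup.mem_centralizer_iff]
    intro z hz
    rw [Set.mem_singleton_iff.mp hz]; exact hsw'
  have key := IH.subgroup _ hH hx hxH w hwH
  have e : x * w * x⁻¹ * w⁻¹ = (w * w)⁻¹ := by rw [hxw]; group
  rw [e] at key
  have key2 : w * w ∈ (Cfsg.oddCore ↥(centralizer ({s} : Set G))).map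
      (centralizer ({s} : Set G)).subtype := by
    have := Subgroup.inv_mem _ key
    rwa [inv_inv] at this
  exact mem_of_sq_mem hwodd _ key2

end ZS6

section ZS7
open Cfsg Subgroup


variable {G : Type u} [Group G] [Finite G]

/-- `t` is an involution commuting with `u` and different from `u`. -/
structure Pair (u t : G) : Prop where
  tt : t * t = 1
  t1 : t ≠ 1
  tu : t ≠ u
  comm : u * t = t * u

namespace Pair

variable {u t : G}

omit [Finite G] in
theorem orderOf_eq (h : Pair u t) : orderOf t = 2 :=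
  orderOf_eq_prime (by rw [sq]; exact h.tt) h.t1

omit [Finite G] in
theorem not_conj (hu : Iso u) (h : Pair u t) : ¬ IsConj t u := by
  intro hc
  obtain ⟨c, hc⟩ := isConj_iff.mp hc
  apply h.tu
  have ht : t = c⁻¹ * u * c⁻¹⁻¹ := by rw [← hc]; group
  have := hu.eq_of_commute c⁻¹ (by rw [← ht]; exact h.comm)
  rw [ht, this]

omit [Finite G] in
theorem mul (hu : Iso u) (h : Pair u t) : Pair u (u * t) := by
  refine ⟨?_, ?_, ?_, ?_⟩
  · calc u * t * (u * t) = u * (t * u) * t := by group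
      _ = u * (u * t) * t := by rw [h.comm]
      _ = (u * u) * (t * t) := by group
      _ = 1 := by rw [hu.mul_self, h.tt, one_mul]
  · intro hc
    apply h.tu
    have : t = u⁻¹ := by
      calc t = u⁻¹ * (u * t) := by group
        _ = u⁻¹ := by rw [hc, mul_one]
    rw [this, hu.inv_eq]
  · intro hc
    apply h.t1
    calc t = u⁻¹ * (u * t) := by group
      _ = 1 := by rw [hc]; group
  · calc u * (u * t) = u * (t * u) := by rw [h.comm]
      _ = u * t * u := by group

omit [Finite G] in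
theorem mul_mul (hu : Iso u) : u * (u * t) = t := by
  rw [← mul_assoc, hu.mul_self, one_mul]

/-- the structure of products of conjugates -/
theorem conj_class (IH : IHyp G) (hZ : ∀ s ∈ center G, orderOf s ≠ 2) (hu : Iso u) (h : Pair u t)
    {x y : G} (hx : IsConj u x) (hy : IsConj t y) :
    ∃ s w : G, x * y = s * w ∧ orderOf s = 2 ∧ w ∈ Cfsg.centralizerPPrimeCore 2 s ∧
      IsConj (u * t) s := by
  obtain ⟨g, hg⟩ := isConj_iff.mp hx
  obtain ⟨e, he⟩ := isConj_iff.mp hy
  have hxi : Iso x := by rw [← hg]; exact hu.conj g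
  have hyo : orderOf y = 2 := by rw [← he, orderOf_conj_eq']; exact h.orderOf_eq
  have hns : ¬ IsConj y x := fun hc => h.not_conj hu ((hy.trans hc).trans hx.symm)
  obtain ⟨s, w, hsw, hs2, hsx, hw, -, d, hd⟩ := prod_decomp IH hZ hxi hyo hns
  refine ⟨s, w, hsw, hs2, hw, ?_⟩
  -- conjugate back to u
  have hcomm1 : u * (g⁻¹ * s * g) = (g⁻¹ * s * g) * u := by
    calc u * (g⁻¹ * s * g) = g⁻¹ * ((g * u * g⁻¹) * s) * g := by group
      _ = g⁻¹ * (s * (g * u * g⁻¹)) * g := by rw [hg, hsx]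
      _ = (g⁻¹ * s * g) * u := by group
  have hconj : (g⁻¹ * d * e) * t * (g⁻¹ * d * e)⁻¹ = u * (g⁻¹ * s * g) := by
    calc (g⁻¹ * d * e) * t * (g⁻¹ * d * e)⁻¹ = g⁻¹ * (d * (e * t * e⁻¹) * d⁻¹) * g := by group
      _ = g⁻¹ * (x * s) * g := by rw [he, hd]
      _ = g⁻¹ * ((g * u * g⁻¹) * s) * g := by rw [hg]
      _ = u * (g⁻¹ * s * g) := by group
  have hc2 : Commute (u * (g⁻¹ * s * g)) u := by
    show u * (g⁻¹ * s * g) * u = u * (u * (g⁻¹ * s * g))
    rw [mul_assoc, ← hcomm1]
  obtain ⟨c, -, hcu, hct⟩ := Cfsg.Agent.S1182.result u hu.isIsolatedInvolution ⊤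
    (by rw [Subgroup.mem_normalizer_iff]; intro h; simp) t (u * (g⁻¹ * s * g)) (Subgroup.mem_top _) (Subgroup.mem_top _)
    (show Commute t u from h.comm.symm) hc2 (g⁻¹ * d * e) (Subgroup.mem_top _) hconj
  have hs1 : g⁻¹ * s * g = c * (u * t) * c⁻¹ := by
    calc g⁻¹ * s * g = u⁻¹ * (u * (g⁻¹ * s * g)) := by group
      _ = u * (c * t * c⁻¹) := by rw [← hct, hu.inv_eq]
      _ = (u * c) * t * c⁻¹ := by group
      _ = (c * u) * t * c⁻¹ := by rw [hcu.eq]
      _ = c * (u * t) * c⁻¹ := by group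
  rw [isConj_iff]
  refine ⟨g * c, ?_⟩
  calc g * c * (u * t) * (g * c)⁻¹ = g * (c * (u * t) * c⁻¹) * g⁻¹ := by group
    _ = g * (g⁻¹ * s * g) * g⁻¹ := by rw [hs1]
    _ = s := by group

/-- the character relation for a pair -/
theorem char_rel (IH : IHyp G) (hZ : ∀ s ∈ center G, orderOf s ≠ 2) (hu : Iso u) (h : Pair u t)
    {M : Ideal AlgInt} (hM : IsPModular 2 M) (χ : IrrCharacter G) (hχ : χ ∈ principalBlock M G) :
    (χ : G → ℂ) u * (χ : G → ℂ) t = (χ : G → ℂ) 1 * (χ : G → ℂ) (u * t) := by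
  have hp2 : Fact (Nat.Prime 2) := ⟨Nat.prime_two⟩
  apply Cfsg.Agent.S0943.result χ u t
  intro x y hx hy
  obtain ⟨s, w, hsw, hs2, hw, hcs⟩ := conj_class IH hZ hu h hx hy
  rw [hsw, Cfsg.Agent.S0942.result 2 M hM s ⟨1, by rw [hs2, pow_one]⟩ w hw χ hχ]
  obtain ⟨c, hc⟩ := isConj_iff.mp hcs
  rw [← hc]
  exact Cfsg.Agent.Lib.L0.isClassFunction_of_isCharacter
    (Cfsg.Agent.Lib.L0.isCharacter_of_irr χ.2) (u * t) c

end Pair

end ZS7

section ZS8
open Cfsg Subgroup


variable {G : Type u} [Group G] [Finite G]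

/-- the principal character as an irreducible character -/
noncomputable def triv (G : Type u) [Group G] : IrrCharacter G :=
  ⟨1, Cfsg.Agent.Lib.L0.isIrrCharacter_one⟩

omit [Finite G] in
theorem triv_apply (g : G) : ((triv G : IrrCharacter G) : G → ℂ) g = 1 := rfl

omit [Finite G] in
theorem triv_mem {M : Ideal AlgInt} (hM : IsPModular 2 M) : triv G ∈ principalBlock M G := by
  show SameBlock M (fun _ : G => (1 : ℂ)) ((triv G : IrrCharacter G) : G → ℂ)
  exact Cfsg.Agent.Lib.H12.sameBlock_refl hM _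

/-- an irreducible character with `u` in its kernel is principal when `u` generates `G`
as a normal subgroup -/
theorem eq_triv_of_apply_eq {u : G} (hL : normalClosure ({u} : Set G) = ⊤) (χ : IrrCharacter G)
    (h : (χ : G → ℂ) u = (χ : G → ℂ) 1) : χ = triv G := by
  have hle : normalClosure ({u} : Set G) ≤
      Cfsg.Agent.Lib.H24.charKer (χ : G → ℂ) (Cfsg.Agent.Lib.L0.isCharacter_of_irr χ.2) := by
    apply normalClosure_le_normal
    intro x hx
    rw [Set.mem_singleton_iff] at hx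
    rw [hx]
    exact Cfsg.Agent.Lib.H24.mem_charKer.mpr h
  rw [hL, top_le_iff] at hle
  have := Cfsg.Agent.Lib.H24.irr_eq_trivial_of_charKer_eq_top χ.2 hle
  apply Subtype.ext
  rw [this]
  rfl

/-- the final contradiction of the minimal counterexample -/
theorem step_main (IH : IHyp G) {u t : G} (hu : Iso u) (hZ : ∀ s ∈ center G, orderOf s ≠ 2)
    (hL : normalClosure ({u} : Set G) = ⊤) (h : Pair u t) : False := by
  classical
  have := Fintype.ofFinite (IrrCharacter G)
  obtain ⟨M, hM⟩ := Cfsg.Agent.Lib.L0.PRegP.exists_isPModular Nat.prime_two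
  have hp2 : Fact (Nat.Prime 2) := ⟨Nat.prime_two⟩
  have hB : IsPBlock M (principalBlock M G) := ⟨triv G, rfl⟩
  have rel1 := fun χ hχ => h.char_rel IH hZ hu hM χ hχ
  have rel2 := fun χ hχ => (h.mul hu).char_rel IH hZ hu hM χ hχ
  have hPu : IsPPart 2 u u :=
    ⟨1, mul_one u, Commute.one_right u, ⟨1, by rw [hu.1, pow_one]⟩, by simp⟩
  have hPt : IsPPart 2 t t :=
    ⟨1, mul_one t, Commute.one_right t, ⟨1, by rw [h.orderOf_eq, pow_one]⟩, by simp⟩
  have hP1 : IsPPart 2 (1 : G) 1 :=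
    ⟨1, mul_one 1, Commute.one_right 1, ⟨0, by simp⟩, by simp⟩
  have hti : t⁻¹ = t := inv_eq_of_mul_eq_one_right h.tt
  have o1 := (Cfsg.Agent.S0925.result 2 M hM).2 u t u t hPu hPt
    (fun hc => h.not_conj hu hc.symm) (principalBlock M G) hB
  have o2 := (Cfsg.Agent.S0925.result 2 M hM).2 1 t 1 t hP1 hPt
    (fun hc => h.t1 (isConj_one_right.mp hc)) (principalBlock M G) hB
  rw [hti, Cfsg.Agent.Lib.H23.finsum_mem_eq_sum_ite] at o1 o2
  have hsum : ∑ χ : IrrCharacter G, (if χ ∈ principalBlock M G then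
      ((χ : G → ℂ) u + (χ : G → ℂ) 1) * (χ : G → ℂ) t else 0) = 0 := by
    have : ∀ χ : IrrCharacter G, (if χ ∈ principalBlock M G then
        ((χ : G → ℂ) u + (χ : G → ℂ) 1) * (χ : G → ℂ) t else 0)
        = (if χ ∈ principalBlock M G then (χ : G → ℂ) u * (χ : G → ℂ) t else 0)
          + (if χ ∈ principalBlock M G then (χ : G → ℂ) 1 * (χ : G → ℂ) t else 0) := by
      intro χ
      split_ifs <;> ring
    rw [Finset.sum_congr rfl (fun χ _ => this χ), Finset.sum_add_distrib, o1, o2, add_zero]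
  have hterm : ∀ χ : IrrCharacter G, (if χ ∈ principalBlock M G then
      ((χ : G → ℂ) u + (χ : G → ℂ) 1) * (χ : G → ℂ) t else 0) = if χ = triv G then 2 else 0 := by
    intro χ
    by_cases hχ1 : χ = triv G
    · rw [if_pos hχ1, hχ1, if_pos (triv_mem hM), triv_apply, triv_apply, triv_apply]
      norm_num
    · rw [if_neg hχ1]
      split_ifs with hχ
      · have r1 := rel1 χ hχ
        have r2 := rel2 χ hχ
        rw [Pair.mul_mul hu] at r2
        have hne : (χ : G → ℂ) u - (χ : G → ℂ) 1 ≠ 0 := by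
          intro hc
          exact hχ1 (eq_triv_of_apply_eq hL χ (sub_eq_zero.mp hc))
        have key : ((χ : G → ℂ) u - (χ : G → ℂ) 1) *
            (((χ : G → ℂ) u + (χ : G → ℂ) 1) * (χ : G → ℂ) t) = 0 := by
          have : ((χ : G → ℂ) u - (χ : G → ℂ) 1) *
              (((χ : G → ℂ) u + (χ : G → ℂ) 1) * (χ : G → ℂ) t)
              = (χ : G → ℂ) u * ((χ : G → ℂ) u * (χ : G → ℂ) t)
                - (χ : G → ℂ) 1 * ((χ : G → ℂ) 1 * (χ : G → ℂ) t) := by ring
          rw [this, r1, ← r2]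
          ring
        exact (mul_eq_zero.mp key).resolve_left hne
      · rfl
  rw [Finset.sum_congr rfl (fun χ _ => hterm χ), Finset.sum_ite_eq' Finset.univ (triv G)] at hsum
  simp at hsum

end ZS8

section ZS9
open Cfsg Subgroup


/-- the inductive step of the `Z*`-theorem -/
theorem step (G : Type u) [Group G] [Finite G] (IH : IHyp G) (u : G) (hu : Iso u) :
    ZConcl G u := by
  by_cases hO : Cfsg.oddCore G = ⊥
  swap
  · exact step_oddCore IH hu hO
  by_cases hL : normalClosure ({u} : Set G) = ⊤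
  swap
  · exact zconcl_of_central (step_normalClosure IH hu hO hL)
  by_cases hZ : ∀ s ∈ center G, orderOf s ≠ 2
  swap
  · push Not at hZ
    obtain ⟨s₀, hs₀, hs₀o⟩ := hZ
    exact zconcl_of_central (step_central_involution IH hu hO s₀ hs₀ hs₀o)
  by_cases hP : ∃ t : G, Pair u t
  · obtain ⟨t, ht⟩ := hP
    exact (step_main IH hu hZ hL ht).elim
  · apply step_rank_one hu
    intro t htt ht1 hc
    by_contra htu
    exact hP ⟨t, htt, ht1, htu, hc⟩

/-- **Glauberman's `Z*`-theorem**, for involutions all of whose commutators have odd order. -/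
theorem zstar_aux : ∀ (n : ℕ) (G : Type u) [Group G] [Finite G], Nat.card G = n →
    ∀ u : G, Iso u → ZConcl G u := by
  intro n
  induction n using Nat.strong_induction_on with
  | _ n ih =>
    intro G _ _ hn u hu
    apply step G _ u hu
    intro H _ _ hlt v hv
    exact ih (Nat.card H) (hn ▸ hlt) H rfl v hv

/-- **Glauberman's `Z*`-theorem**. -/
theorem zstar {G : Type u} [Group G] [Finite G] (u : G) (hu : Iso u) : ZConcl G u :=
  zstar_aux (Nat.card G) G rfl u hu

end ZS9

end Cfsg.Agent.Lib.H1.ZStar
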