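import Mathlib
import Cfsg.Agent.Lib.H1.CoprimeAction
import Cfsg.Agent.Lib.H1.ZStar
import Cfsg.Agent.Lib.L0.CyclicSylowTwo
import Cfsg.Prelude.Def_FusionSystem

/-!
# The general form of Glauberman's `Z*`-theorem and the centre of the 2-fusion system (helper1)

* `gz`: if no element of the subgroup `Q` of the Sylow 2-subgroup `S` is conjugate to another
  element of `S`, then `Q` is central modulo the odd core (elements of arbitrary 2-power order).
* `jhyp_of_isCentral`, `isCentral_inf`: the centre of the fusion system of `G` on `S` is the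
  subgroup of the elements of `S` that are central modulo the odd core.
-/

set_option autoImplicit false

namespace Cfsg.Agent.Lib.H1.ZStarGen

universe u

section GZ1
open Cfsg Subgroup MulAction


variable {G : Type u} [Group G]

theorem mem_smul_iff (g x : G) (P : Sylow 2 G) :
    x ∈ ((g • P : Sylow 2 G) : Subgroup G) ↔ g⁻¹ * x * g ∈ (P : Subgroup G) := by
  rw [Sylow.coe_subgroup_smul, Subgroup.mem_pointwise_smul_iff_inv_smul_mem]
  simp [MulAut.smul_def, mul_assoc]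

variable [Finite G]

/-- A 2-subgroup of `H` lies in an `H`-conjugate of a given Sylow subgroup inside `H`. -/
theorem exists_le_smul_of_le (H : Subgroup G) (T : Sylow 2 G)
    (hT : (T : Subgroup G) ≤ H) (R : Subgroup G) (hR : IsPGroup 2 R) (hRH : R ≤ H) :
    ∃ h ∈ H, R ≤ ((h • T : Sylow 2 G) : Subgroup G) := by
  have hp2 : Fact (Nat.Prime 2) := ⟨Nat.prime_two⟩
  obtain ⟨Q, hQ⟩ := (hR.comap_subtype (K := H)).exists_le_sylow
  obtain ⟨h, hh⟩ := exists_smul_eq H (T.subtype hT) Q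
  rw [Sylow.smul_subtype] at hh
  refine ⟨h, h.2, fun r hr => ?_⟩
  have h1 : (⟨r, hRH hr⟩ : H) ∈ (Q : Subgroup H) := hQ (show r ∈ R from hr)
  rw [← hh, Sylow.coe_subtype, Subgroup.mem_subgroupOf] at h1
  exact h1

/-- a 2-element of `N S` is conjugate into `S` by an element of the normal subgroup `N` -/
theorem exists_conj_mem_of_mem_sup (S : Sylow 2 G) (N : Subgroup G) [N.Normal] (x : G)
    (hx : x ∈ N ⊔ (S : Subgroup G)) (hx2 : ∃ k : ℕ, x ^ 2 ^ k = 1) :
    ∃ o ∈ N, o⁻¹ * x * o ∈ (S : Subgroup G) := by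
  have hp2 : Fact (Nat.Prime 2) := ⟨Nat.prime_two⟩
  obtain ⟨k, hk⟩ := hx2
  have hz : IsPGroup 2 (zpowers x) := by
    obtain ⟨j, -, hj⟩ := (Nat.dvd_prime_pow Nat.prime_two).mp (orderOf_dvd_of_pow_eq_one hk)
    apply IsPGroup.of_card (n := j)
    rw [Nat.card_zpowers, hj]
  obtain ⟨l, hl, hle⟩ := exists_le_smul_of_le (N ⊔ (S : Subgroup G)) S le_sup_right (zpowers x) hz
    (by rw [zpowers_le]; exact hx)
  have hl' : l ∈ ((N ⊔ (S : Subgroup G) : Subgroup G) : Set G) := hl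
  rw [Subgroup.normal_mul] at hl'
  obtain ⟨o, ho, s, hs, rfl⟩ := Set.mem_mul.mp hl'
  refine ⟨o, ho, ?_⟩
  have h1 := hle (mem_zpowers x)
  rw [mem_smul_iff] at h1
  have : o⁻¹ * x * o = s * ((o * s)⁻¹ * x * (o * s)) * s⁻¹ := by group
  rw [this]
  exact Subgroup.mul_mem _ (Subgroup.mul_mem _ hs h1) (Subgroup.inv_mem _ hs)

/-- order of a preimage -/
theorem card_comap_mk' (N : Subgroup G) [N.Normal] (H : Subgroup (G ⧸ N)) :
    Nat.card (H.comap (QuotientGroup.mk' N)) = Nat.card H * Nat.card N := by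
  have hidx : (H.comap (QuotientGroup.mk' N)).index = H.index :=
    Subgroup.index_comap_of_surjective _ (QuotientGroup.mk'_surjective N)
  have h1 := Subgroup.card_mul_index (H.comap (QuotientGroup.mk' N))
  have h2 := Subgroup.card_mul_index H
  have h3 := Subgroup.card_eq_card_quotient_mul_card_subgroup N
  have hpos : 0 < (H.comap (QuotientGroup.mk' N)).index :=
    Nat.pos_of_ne_zero Subgroup.index_ne_zero_of_finite
  apply Nat.eq_of_mul_eq_mul_right hpos
  rw [h1, h3, ← h2, hidx]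
  ring

/-- The hypothesis: `Q` is a subgroup of the Sylow subgroup `S` each of whose elements is
conjugate to no other element of `S`. -/
def JHyp (S : Sylow 2 G) (Q : Subgroup G) : Prop :=
  Q ≤ (S : Subgroup G) ∧ ∀ y ∈ Q, ∀ g : G, g * y * g⁻¹ ∈ (S : Subgroup G) → g * y * g⁻¹ = y

/-- The induction hypothesis. -/
def GHyp (G : Type u) [Group G] : Prop :=
  ∀ (H : Type u) [Group H] [Finite H], Nat.card H < Nat.card G → ∀ (S : Sylow 2 H)
    (Q : Subgroup H), JHyp S Q → ∀ y ∈ Q, ∀ g : H, y * g * y⁻¹ * g⁻¹ ∈ Cfsg.oddCore H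

omit [Finite G] in
theorem exists_pow_of_mem_sylow (S : Sylow 2 G) {y : G} (hy : y ∈ (S : Subgroup G)) :
    ∃ k : ℕ, y ^ 2 ^ k = 1 := by
  obtain ⟨k, hk⟩ := S.2 ⟨y, hy⟩
  exact ⟨k, by simpa using congrArg Subtype.val hk⟩

/-- reduction to trivial odd core -/
theorem step_oddCore (IH : GHyp G) (S : Sylow 2 G) (Q : Subgroup G) (hJ : JHyp S Q)
    (hO : Cfsg.oddCore G ≠ ⊥) : ∀ y ∈ Q, ∀ g : G, y * g * y⁻¹ * g⁻¹ ∈ Cfsg.oddCore G := by
  have hp2 : Fact (Nat.Prime 2) := ⟨Nat.prime_two⟩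
  have hlt : Nat.card (G ⧸ Cfsg.oddCore G) < Nat.card G := by
    rw [Subgroup.card_eq_card_quotient_mul_card_subgroup (Cfsg.oddCore G)]
    have h1 : 1 < Nat.card (Cfsg.oddCore G) := (Subgroup.one_lt_card_iff_ne_bot _).mpr hO
    have hpos : 0 < Nat.card (G ⧸ Cfsg.oddCore G) := Nat.card_pos
    nlinarith
  set π := QuotientGroup.mk' (Cfsg.oddCore G) with hπ
  have hsurj : Function.Surjective π := QuotientGroup.mk'_surjective _
  have hJ' : JHyp (S.mapSurjective hsurj) (Q.map π) := by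
    refine ⟨?_, ?_⟩
    · rw [Sylow.coe_mapSurjective]; exact Subgroup.map_mono hJ.1
    · rintro _ ⟨y, hy, rfl⟩ gb hgb
      obtain ⟨g, rfl⟩ := hsurj gb
      rw [Sylow.coe_mapSurjective] at hgb
      obtain ⟨s, hs, hsg⟩ := hgb
      have h1 : s⁻¹ * (g * y * g⁻¹) ∈ Cfsg.oddCore G := by
        apply QuotientGroup.eq.mp
        have : π s = π g * π y * (π g)⁻¹ := hsg
        show π s = π (g * y * g⁻¹)
        rw [this]; simp
      have h2 : g * y * g⁻¹ ∈ Cfsg.oddCore G ⊔ (S : Subgroup G) := by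
        have : g * y * g⁻¹ = s * (s⁻¹ * (g * y * g⁻¹)) := by group
        rw [this]
        have hn := (inferInstance : (Cfsg.oddCore G).Normal)
        have h3 : s * (s⁻¹ * (g * y * g⁻¹)) = (s * (s⁻¹ * (g * y * g⁻¹)) * s⁻¹) * s := by group
        rw [h3]
        exact Subgroup.mul_mem_sup (hn.conj_mem _ h1 s) hs
      obtain ⟨k, hk⟩ := exists_pow_of_mem_sylow S (hJ.1 hy)
      have h4 : (g * y * g⁻¹) ^ 2 ^ k = 1 := by rw [conj_pow, hk]; group
      obtain ⟨o, ho, hoS⟩ := exists_conj_mem_of_mem_sup S (Cfsg.oddCore G) _ h2 ⟨k, h4⟩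
      have h5 : (o⁻¹ * g) * y * (o⁻¹ * g)⁻¹ = y := by
        apply hJ.2 y hy
        have : (o⁻¹ * g) * y * (o⁻¹ * g)⁻¹ = o⁻¹ * (g * y * g⁻¹) * o := by group
        rw [this]; exact hoS
      have h6 : g * y * g⁻¹ = o * y * o⁻¹ := by
        calc g * y * g⁻¹ = o * ((o⁻¹ * g) * y * (o⁻¹ * g)⁻¹) * o⁻¹ := by group
          _ = o * y * o⁻¹ := by rw [h5]
      have h7 : π o = 1 := (QuotientGroup.eq_one_iff o).mpr ho
      have : π g * π y * (π g)⁻¹ = π (g * y * g⁻¹) := by simp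
      rw [this, h6]
      simp [h7]
  intro y hy g
  have key := IH (G ⧸ Cfsg.oddCore G) hlt _ _ hJ' (π y) ⟨y, hy, rfl⟩ (π g)
  have hb : Cfsg.oddCore (G ⧸ Cfsg.oddCore G) = ⊥ :=
    Cfsg.Agent.Lib.H9.pPrimeCore_quotient_eq_bot 2
  rw [hb, Subgroup.mem_bot] at key
  apply (QuotientGroup.eq_one_iff _).mp
  have : ((y * g * y⁻¹ * g⁻¹ : G) : G ⧸ Cfsg.oddCore G) = π y * π g * (π y)⁻¹ * (π g)⁻¹ := by
    simp [hπ]
  rw [this]; exact key

end GZ1

section GZ2
open Cfsg Subgroup MulAction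


variable {G : Type u} [Group G] [Finite G]

/-- the odd core of the quotient by a central subgroup of order two is trivial when the odd core
of the group is -/
theorem oddCore_quotient_eq_bot (hO : Cfsg.oddCore G = ⊥) (u : G) (hu2 : orderOf u = 2)
    [hN : (zpowers u).Normal] : Cfsg.oddCore (G ⧸ zpowers u) = ⊥ := by
  have hp2 : Fact (Nat.Prime 2) := ⟨Nat.prime_two⟩
  set π := QuotientGroup.mk' (zpowers u) with hπ
  set Ob := Cfsg.oddCore (G ⧸ zpowers u) with hOb
  set M : Subgroup G := Ob.comap π with hM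
  have hMn : M.Normal := Subgroup.Normal.comap inferInstance π
  have hObodd : (Nat.card Ob).Coprime 2 := Cfsg.Agent.Lib.H22.card_pPrimeCore_coprime 2
  have hcardM : Nat.card M = Nat.card Ob * 2 := by
    rw [hM, card_comap_mk', Nat.card_zpowers, hu2]
  have h2M : 2 ∣ Nat.card M := ⟨Nat.card Ob, by rw [hcardM, mul_comm]⟩
  have hfac : (Nat.card M).factorization 2 = 1 := by
    rw [hcardM, Nat.factorization_mul Nat.card_pos.ne' (by norm_num), Finsupp.add_apply,
      Nat.factorization_eq_zero_of_not_dvd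
        (fun h => by
          have := Nat.Coprime.eq_one_of_dvd hObodd.symm h
          omega),
      Nat.Prime.factorization_self Nat.prime_two]
  let QX : Sylow 2 ↥M := default
  have hQX : Nat.card (QX : Subgroup ↥M) = 2 := by
    rw [Sylow.card_eq_multiplicity, hfac, pow_one]
  have hcyc : IsCyclic (QX : Subgroup ↥M) := isCyclic_of_prime_card hQX
  obtain ⟨K, hKn, hKc, hKmem⟩ :=
    Cfsg.Agent.Lib.L0.exists_odd_normal_complement_of_cyclic_sylow QX hcyc h2M
  have hcardK : Nat.card K = Nat.card Ob := by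
    have := hKc.card_mul_card
    rw [hQX, hcardM] at this
    exact Nat.eq_of_mul_eq_mul_right (by norm_num) this
  have hK'n : (K.map M.subtype).Normal := by
    constructor
    rintro _ ⟨k, hk, rfl⟩ g
    have hmem : g * (k : G) * g⁻¹ ∈ M := hMn.conj_mem _ k.2 g
    refine ⟨⟨_, hmem⟩, ?_, rfl⟩
    show (⟨_, hmem⟩ : ↥M) ∈ K
    rw [hKmem, ← Subgroup.orderOf_coe]
    have h1 := (hKmem k).mp hk
    rw [← Subgroup.orderOf_coe] at h1
    show (orderOf (g * (k : G) * g⁻¹)).Coprime 2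
    rw [Cfsg.Agent.Lib.H1.ZStar.orderOf_conj_eq']
    exact h1
  have hK'card : (Nat.card (K.map M.subtype)).Coprime 2 := by
    rw [Subgroup.card_map_of_injective M.subtype_injective, hcardK]
    exact hObodd
  have hK'le := Cfsg.Agent.Lib.H22.le_pPrimeCore 2 _ hK'n hK'card
  change K.map M.subtype ≤ Cfsg.oddCore G at hK'le
  rw [hO, le_bot_iff] at hK'le
  have hK1 : Nat.card (K.map M.subtype) = 1 := by rw [hK'le]; exact Subgroup.card_bot
  rw [Subgroup.card_map_of_injective M.subtype_injective, hcardK] at hK1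
  exact Subgroup.card_eq_one.mp hK1

/-- the case of trivial odd core -/
theorem step_central (IH : GHyp G) (S : Sylow 2 G) (Q : Subgroup G) (hJ : JHyp S Q)
    (hO : Cfsg.oddCore G = ⊥) : ∀ y ∈ Q, ∀ g : G, y * g * y⁻¹ * g⁻¹ ∈ Cfsg.oddCore G := by
  have hp2 : Fact (Nat.Prime 2) := ⟨Nat.prime_two⟩
  by_cases hQ : Q = ⊥
  · intro y hy g
    rw [hQ, Subgroup.mem_bot] at hy
    rw [hy]
    have : (1 : G) * g * 1⁻¹ * g⁻¹ = 1 := by group
    rw [this]; exact one_mem _
  -- an involution of `Q`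
  have hQ2 : IsPGroup 2 Q := S.2.to_le hJ.1
  obtain ⟨n, hn⟩ := IsPGroup.iff_card.mp hQ2
  have hn0 : n ≠ 0 := by
    intro h0
    rw [h0, pow_zero] at hn
    exact hQ (Subgroup.card_eq_one.mp hn)
  have h2Q : 2 ∣ Nat.card Q := by rw [hn]; exact dvd_pow_self 2 hn0
  obtain ⟨u₀, hu₀⟩ := exists_prime_orderOf_dvd_card' 2 h2Q
  set u : G := (u₀ : G) with hu
  have hu2 : orderOf u = 2 := by rw [hu, Subgroup.orderOf_coe]; exact hu₀
  have huQ : u ∈ Q := u₀.2
  have huS : u ∈ (S : Subgroup G) := hJ.1 huQ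
  have hzs := Cfsg.Agent.Lib.H1.ZStar.zstar u
    ⟨hu2, (Cfsg.Agent.S0216.result S u hu2 huS).mp (hJ.2 u huQ)⟩
  have hucen : ∀ g : G, g * u = u * g := by
    intro g
    have h1 := hzs g
    rw [hO, Subgroup.mem_bot] at h1
    calc g * u = (u * g * u⁻¹ * g⁻¹)⁻¹ * (u * g) := by group
      _ = u * g := by rw [h1, inv_one, one_mul]
  have hN : (zpowers u).Normal := by
    constructor
    intro x hx g
    obtain ⟨k, rfl⟩ := mem_zpowers_iff.mp hx
    have hc : Commute g (u ^ k) := Commute.zpow_right (hucen g) k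
    have : g * u ^ k * g⁻¹ = u ^ k := by rw [hc.eq]; group
    rw [this]; exact hx
  have hNS : zpowers u ≤ (S : Subgroup G) := by rw [zpowers_le]; exact huS
  have hNQ : zpowers u ≤ Q := by rw [zpowers_le]; exact huQ
  have hNcard : Nat.card (zpowers u) = 2 := by rw [Nat.card_zpowers, hu2]
  have hlt : Nat.card (G ⧸ zpowers u) < Nat.card G := by
    rw [Subgroup.card_eq_card_quotient_mul_card_subgroup (zpowers u), hNcard]
    have hpos : 0 < Nat.card (G ⧸ zpowers u) := Nat.card_pos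
    omega
  set π := QuotientGroup.mk' (zpowers u) with hπ
  have hsurj : Function.Surjective π := QuotientGroup.mk'_surjective _
  have hJ' : JHyp (S.mapSurjective hsurj) (Q.map π) := by
    refine ⟨?_, ?_⟩
    · rw [Sylow.coe_mapSurjective]; exact Subgroup.map_mono hJ.1
    · rintro _ ⟨y, hy, rfl⟩ gb hgb
      obtain ⟨g, rfl⟩ := hsurj gb
      rw [Sylow.coe_mapSurjective] at hgb
      obtain ⟨s, hs, hsg⟩ := hgb
      have h1 : s⁻¹ * (g * y * g⁻¹) ∈ zpowers u := by
        apply QuotientGroup.eq.mp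
        have : π s = π g * π y * (π g)⁻¹ := hsg
        show π s = π (g * y * g⁻¹)
        rw [this]; simp
      have h2 : g * y * g⁻¹ ∈ (S : Subgroup G) := by
        have : g * y * g⁻¹ = s * (s⁻¹ * (g * y * g⁻¹)) := by group
        rw [this]
        exact Subgroup.mul_mem _ hs (hNS h1)
      have h3 := hJ.2 y hy g h2
      have : π g * π y * (π g)⁻¹ = π (g * y * g⁻¹) := by simp
      rw [this, h3]
  have key := IH (G ⧸ zpowers u) hlt _ _ hJ'
  have hb : Cfsg.oddCore (G ⧸ zpowers u) = ⊥ := oddCore_quotient_eq_bot hO u hu2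
  intro y hy g
  have h1 := key (π y) ⟨y, hy, rfl⟩ (π g)
  rw [hb, Subgroup.mem_bot] at h1
  have h2 : y * g * y⁻¹ * g⁻¹ ∈ zpowers u := by
    apply (QuotientGroup.eq_one_iff _).mp
    have : ((y * g * y⁻¹ * g⁻¹ : G) : G ⧸ zpowers u) = π y * π g * (π y)⁻¹ * (π g)⁻¹ := by
      simp [hπ]
    rw [this]; exact h1
  have h3 : g * y * g⁻¹ ∈ (S : Subgroup G) := by
    have : g * y * g⁻¹ = (y * g * y⁻¹ * g⁻¹)⁻¹ * y := by group
    rw [this]
    exact Subgroup.mul_mem _ (Subgroup.inv_mem _ (hNS h2)) (hJ.1 hy)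
  have h4 := hJ.2 y hy g h3
  have : y * g * y⁻¹ * g⁻¹ = y * (g * y * g⁻¹)⁻¹ := by group
  rw [this, h4, mul_inv_cancel]
  exact one_mem _

/-- the general form of the `Z*`-theorem, by induction on the order -/
theorem gz_aux : ∀ (n : ℕ) (G : Type u) [Group G] [Finite G], Nat.card G = n →
    ∀ (S : Sylow 2 G) (Q : Subgroup G), JHyp S Q →
      ∀ y ∈ Q, ∀ g : G, y * g * y⁻¹ * g⁻¹ ∈ Cfsg.oddCore G := by
  intro n
  induction n using Nat.strong_induction_on with
  | _ n ih =>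
    intro G _ _ hn S Q hJ
    have IH : GHyp G := by
      intro H _ _ hlt S' Q' hJ'
      exact ih (Nat.card H) (hn ▸ hlt) H rfl S' Q' hJ'
    by_cases hO : Cfsg.oddCore G = ⊥
    · exact step_central IH S Q hJ hO
    · exact step_oddCore IH S Q hJ hO

/-- **Glauberman's `Z*`-theorem**, general form: if no element of the subgroup `Q` of the Sylow
2-subgroup `S` is conjugate to another element of `S`, then `Q` is central modulo the odd
core. -/
theorem gz (S : Sylow 2 G) (Q : Subgroup G) (hJ : JHyp S Q) :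
    ∀ y ∈ Q, ∀ g : G, y * g * y⁻¹ * g⁻¹ ∈ Cfsg.oddCore G :=
  gz_aux (Nat.card G) G rfl S Q hJ

end GZ2

section GZ3
open Cfsg Subgroup MulAction


variable {G : Type u} [Group G] [Finite G]

omit [Finite G] in
/-- membership in the preimage of the centre of `G / O(G)` -/
theorem mem_comap_center_iff (x : G) :
    x ∈ (Subgroup.center (G ⧸ Cfsg.oddCore G)).comap (QuotientGroup.mk' (Cfsg.oddCore G)) ↔
      ∀ g : G, x * g * x⁻¹ * g⁻¹ ∈ Cfsg.oddCore G := by
  rw [Subgroup.mem_comap, Subgroup.mem_center_iff]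
  constructor
  · intro h g
    apply (QuotientGroup.eq_one_iff _).mp
    have h1 := h (QuotientGroup.mk' _ g)
    have : ((x * g * x⁻¹ * g⁻¹ : G) : G ⧸ Cfsg.oddCore G) =
        (QuotientGroup.mk' (Cfsg.oddCore G) x) * (QuotientGroup.mk' (Cfsg.oddCore G) g) *
        (QuotientGroup.mk' (Cfsg.oddCore G) x)⁻¹ * (QuotientGroup.mk' (Cfsg.oddCore G) g)⁻¹ := by
      simp
    rw [this, ← h1]
    group
  · intro h gb
    obtain ⟨g, rfl⟩ := QuotientGroup.mk'_surjective _ gb
    have h1 := (QuotientGroup.eq_one_iff _).mpr (h g)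
    have : ((x * g * x⁻¹ * g⁻¹ : G) : G ⧸ Cfsg.oddCore G) =
        (QuotientGroup.mk' (Cfsg.oddCore G) x) * (QuotientGroup.mk' (Cfsg.oddCore G) g) *
        (QuotientGroup.mk' (Cfsg.oddCore G) x)⁻¹ * (QuotientGroup.mk' (Cfsg.oddCore G) g)⁻¹ := by
      simp
    rw [this] at h1
    calc QuotientGroup.mk' (Cfsg.oddCore G) g * QuotientGroup.mk' (Cfsg.oddCore G) x
        = ((QuotientGroup.mk' (Cfsg.oddCore G) x) * (QuotientGroup.mk' (Cfsg.oddCore G) g) *
        (QuotientGroup.mk' (Cfsg.oddCore G) x)⁻¹ * (QuotientGroup.mk' (Cfsg.oddCore G) g)⁻¹)⁻¹ *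
        (QuotientGroup.mk' (Cfsg.oddCore G) x * QuotientGroup.mk' (Cfsg.oddCore G) g) := by group
      _ = _ := by rw [h1, inv_one, one_mul]

omit [Finite G] in
/-- a subgroup central in the fusion system consists of elements not fused to other elements -/
theorem jhyp_of_isCentral (S : Sylow 2 G) (Q : Subgroup G)
    (hQ : (Cfsg.groupFusionSystem (S : Subgroup G)).IsCentral Q) : JHyp S Q := by
  refine ⟨hQ.1, fun y hy g hg => ?_⟩
  have hPS : zpowers y ≤ (S : Subgroup G) := by rw [zpowers_le]; exact hQ.1 hy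
  have hle : zpowers y ≤ (S : Subgroup G).comap (MulAut.conj g).toMonoidHom := by
    rw [zpowers_le, Subgroup.mem_comap]
    exact hg
  have hφ : Cfsg.conjHom (zpowers y) g ∈ (Cfsg.groupFusionSystem (S : Subgroup G)).Hom (zpowers y) :=
    ⟨hPS, fun x => hle x.2, g, fun x => rfl⟩
  obtain ⟨ψ, -, h1, h2⟩ := hQ.2 (zpowers y) _ hφ
  have e1 := h1 ⟨y, mem_zpowers y⟩
  have e2 := h2 ⟨y, hy⟩
  have e3 : (Subgroup.inclusion le_sup_left ⟨y, mem_zpowers y⟩ : ↥(zpowers y ⊔ Q)) =
      Subgroup.inclusion le_sup_right ⟨y, hy⟩ := Subtype.ext rfl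
  rw [e3, e2] at e1
  exact e1.symm

/-- the elements of `S` central modulo the odd core commute with `S` -/
theorem commute_of_mem_inf (S : Sylow 2 G) {a s : G}
    (ha : ∀ g : G, a * g * a⁻¹ * g⁻¹ ∈ Cfsg.oddCore G) (haS : a ∈ (S : Subgroup G))
    (hs : s ∈ (S : Subgroup G)) : a * s = s * a := by
  have h1 := ha s
  have h2 : a * s * a⁻¹ * s⁻¹ ∈ (S : Subgroup G) :=
    Subgroup.mul_mem _ (Subgroup.mul_mem _ (Subgroup.mul_mem _ haS hs) (Subgroup.inv_mem _ haS))
      (Subgroup.inv_mem _ hs)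
  obtain ⟨k, hk⟩ := exists_pow_of_mem_sylow S h2
  obtain ⟨j, -, hj⟩ := (Nat.dvd_prime_pow Nat.prime_two).mp (orderOf_dvd_of_pow_eq_one hk)
  have h3 := Cfsg.Agent.Lib.H1.ZRankOne.eq_one_of_mem_oddCore hj h1
  calc a * s = (a * s * a⁻¹ * s⁻¹) * (s * a) := by group
    _ = s * a := by rw [h3, one_mul]

end GZ3

section GZ4
open Cfsg Subgroup MulAction


variable {G : Type u} [Group G] [Finite G]

/-- the subgroup of `S` of elements central modulo the odd core is central in the fusion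
system -/
theorem isCentral_inf (S : Sylow 2 G) :
    (Cfsg.groupFusionSystem (S : Subgroup G)).IsCentral ((S : Subgroup G) ⊓
      (Subgroup.center (G ⧸ Cfsg.oddCore G)).comap (QuotientGroup.mk' (Cfsg.oddCore G))) := by
  have hp2 : Fact (Nat.Prime 2) := ⟨Nat.prime_two⟩
  set O := Cfsg.oddCore G with hO
  have hOn : O.Normal := inferInstance
  set Q₀ : Subgroup G := (S : Subgroup G) ⊓
      (Subgroup.center (G ⧸ O)).comap (QuotientGroup.mk' O) with hQ₀
  have hQ₀S : Q₀ ≤ (S : Subgroup G) := inf_le_left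
  have hQ₀c : ∀ a ∈ Q₀, ∀ g : G, a * g * a⁻¹ * g⁻¹ ∈ O :=
    fun a ha => (mem_comap_center_iff a).mp ha.2
  have hQ₀comm : ∀ a ∈ Q₀, ∀ s ∈ (S : Subgroup G), a * s = s * a :=
    fun a ha s hs => commute_of_mem_inf S (hQ₀c a ha) ha.1 hs
  -- coprime action of `Q₀` on the odd core
  have hQ₀2 : IsPGroup 2 Q₀ := S.2.to_le hQ₀S
  have hOodd : (Nat.card O).Coprime 2 := Cfsg.Agent.Lib.H22.card_pPrimeCore_coprime 2
  have hact : Cfsg.Agent.Lib.H1.CoprimeAction Q₀ O := by
    refine ⟨?_, ?_, Or.inl ?_⟩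
    · intro a _
      rw [Subgroup.mem_normalizer_iff]
      intro x
      exact ⟨fun h => hOn.conj_mem x h a, fun h => by
        have := hOn.conj_mem _ h a⁻¹
        have e : a⁻¹ * (a * x * a⁻¹) * a⁻¹⁻¹ = x := by group
        rwa [e] at this⟩
    · obtain ⟨n, hn⟩ := IsPGroup.iff_card.mp hQ₀2
      rw [hn]
      exact Nat.Coprime.pow_left n hOodd.symm
    · have := hQ₀2.isNilpotent
      infer_instance
  refine ⟨hQ₀S, ?_⟩
  rintro P φ ⟨hPS, hφS, g, hg⟩
  -- first correction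
  obtain ⟨d, hd, hh⟩ := Cfsg.Agent.Lib.H1.coprime_coset_fixed hact g (by
    intro a ha
    have h1 := O.inv_mem (hQ₀c a ha g⁻¹)
    have e : (a * g⁻¹ * a⁻¹ * g⁻¹⁻¹)⁻¹ = g⁻¹ * a * g * a⁻¹ := by group
    rwa [e] at h1)
  set h : G := g * d with hh'
  set o : G := d⁻¹ with ho'
  have hgo : g = h * o := by rw [hh', ho']; group
  have hoO : o ∈ O := O.inv_mem hd
  have hhc : ∀ a ∈ Q₀, a * h = h * a := fun a ha =>
    (Subgroup.mem_centralizer_iff.mp hh a ha)
  -- second correction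
  set D₂ : Subgroup G := O ⊓ Subgroup.centralizer (P : Set G) with hD₂
  have hact₂ : Cfsg.Agent.Lib.H1.CoprimeAction Q₀ D₂ := by
    apply hact.mono inf_le_left
    intro a ha
    rw [Subgroup.mem_normalizer_iff]
    have hac : ∀ x ∈ P, a * x = x * a := fun x hx => hQ₀comm a ha x (hPS hx)
    intro y
    rw [Subgroup.mem_inf, Subgroup.mem_inf]
    constructor
    · rintro ⟨hy1, hy2⟩
      refine ⟨hOn.conj_mem y hy1 a, ?_⟩
      rw [Subgroup.mem_centralizer_iff] at hy2 ⊢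
      intro x hx
      have h1 := hy2 x hx
      have h2 := hac x hx
      calc x * (a * y * a⁻¹) = a * (x * y) * a⁻¹ := by
            rw [← mul_assoc, ← mul_assoc, ← h2]; group
        _ = a * (y * x) * a⁻¹ := by rw [h1]
        _ = a * y * a⁻¹ * x := by
            have h3 : x * a⁻¹ = a⁻¹ * x := by
              calc x * a⁻¹ = a⁻¹ * (a * x) * a⁻¹ := by group
                _ = a⁻¹ * (x * a) * a⁻¹ := by rw [h2]
                _ = a⁻¹ * x := by group
            calc a * (y * x) * a⁻¹ = a * y * (x * a⁻¹) := by group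
              _ = a * y * (a⁻¹ * x) := by rw [h3]
              _ = a * y * a⁻¹ * x := by group
    · rintro ⟨hy1, hy2⟩
      refine ⟨?_, ?_⟩
      · have := hOn.conj_mem _ hy1 a⁻¹
        have e : a⁻¹ * (a * y * a⁻¹) * a⁻¹⁻¹ = y := by group
        rwa [e] at this
      · rw [Subgroup.mem_centralizer_iff] at hy2 ⊢
        intro x hx
        have h1 := hy2 x hx
        have h2 := hac x hx
        have h3 : x * a⁻¹ = a⁻¹ * x := by
          calc x * a⁻¹ = a⁻¹ * (a * x) * a⁻¹ := by group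
            _ = a⁻¹ * (x * a) * a⁻¹ := by rw [h2]
            _ = a⁻¹ * x := by group
        calc x * y = a⁻¹ * ((a * x) * y * a⁻¹) * a := by group
          _ = a⁻¹ * (x * (a * y * a⁻¹)) * a := by rw [h2]; group
          _ = a⁻¹ * ((a * y * a⁻¹) * x) * a := by rw [h1]
          _ = y * (a⁻¹ * x * a) := by group
          _ = y * x := by rw [← h3]; group
  obtain ⟨c, hc, hoc⟩ := Cfsg.Agent.Lib.H1.coprime_coset_fixed hact₂ o (by
    intro a ha
    rw [hD₂, Subgroup.mem_inf]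
    refine ⟨?_, ?_⟩
    · have h1 := hOn.conj_mem _ hoO a
      have e : o⁻¹ * a * o * a⁻¹ = o⁻¹ * (a * o * a⁻¹) := by group
      rw [e]
      exact O.mul_mem (O.inv_mem hoO) h1
    · rw [Subgroup.mem_centralizer_iff]
      intro x hx
      have hxS : x ∈ (S : Subgroup G) := hPS hx
      have hax : a * x = x * a := hQ₀comm a ha x hxS
      have hs₁ : g * x * g⁻¹ ∈ (S : Subgroup G) := by
        have := hφS ⟨x, hx⟩
        rwa [hg ⟨x, hx⟩] at this
      have has₁ : a * (g * x * g⁻¹) = (g * x * g⁻¹) * a := hQ₀comm a ha _ hs₁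
      have hah : a * h = h * a := hhc a ha
      -- `y = o x o⁻¹ = h⁻¹ (g x g⁻¹) h` commutes with `a`
      have hy : o * x * o⁻¹ = h⁻¹ * (g * x * g⁻¹) * h := by rw [hgo]; group
      have hay : a * (o * x * o⁻¹) = (o * x * o⁻¹) * a := by
        have hah' : a * h⁻¹ = h⁻¹ * a := by
          calc a * h⁻¹ = h⁻¹ * (h * a) * h⁻¹ := by group
            _ = h⁻¹ * (a * h) * h⁻¹ := by rw [hah]
            _ = h⁻¹ * a := by group
        rw [hy]
        calc a * (h⁻¹ * (g * x * g⁻¹) * h) = (a * h⁻¹) * (g * x * g⁻¹) * h := by group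
          _ = h⁻¹ * (a * (g * x * g⁻¹)) * h := by rw [hah']; group
          _ = h⁻¹ * ((g * x * g⁻¹) * a) * h := by rw [has₁]
          _ = h⁻¹ * (g * x * g⁻¹) * (a * h) := by group
          _ = h⁻¹ * (g * x * g⁻¹) * (h * a) := by rw [hah]
          _ = h⁻¹ * (g * x * g⁻¹) * h * a := by group
      have hax' : x * a⁻¹ = a⁻¹ * x := by
        calc x * a⁻¹ = a⁻¹ * (a * x) * a⁻¹ := by group
          _ = a⁻¹ * (x * a) * a⁻¹ := by rw [hax]
          _ = a⁻¹ * x := by group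
      calc x * (o⁻¹ * a * o * a⁻¹) = o⁻¹ * ((o * x * o⁻¹) * a) * o * a⁻¹ := by group
        _ = o⁻¹ * (a * (o * x * o⁻¹)) * o * a⁻¹ := by rw [hay]
        _ = o⁻¹ * a * o * (x * a⁻¹) := by group
        _ = o⁻¹ * a * o * (a⁻¹ * x) := by rw [hax']
        _ = o⁻¹ * a * o * a⁻¹ * x := by group)
  set g' : G := h * (o * c) with hg'
  have hg'c : ∀ a ∈ Q₀, g' * a * g'⁻¹ = a := by
    intro a ha
    have h1 : a * h = h * a := hhc a ha
    have h2 : a * (o * c) = (o * c) * a := Subgroup.mem_centralizer_iff.mp hoc a ha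
    calc g' * a * g'⁻¹ = h * ((o * c) * a) * (o * c)⁻¹ * h⁻¹ := by rw [hg']; group
      _ = h * (a * (o * c)) * (o * c)⁻¹ * h⁻¹ := by rw [h2]
      _ = (h * a) * h⁻¹ := by group
      _ = (a * h) * h⁻¹ := by rw [h1]
      _ = a := by group
  have hg'P : ∀ x ∈ P, g' * x * g'⁻¹ = g * x * g⁻¹ := by
    intro x hx
    have h1 : x * c = c * x := Subgroup.mem_centralizer_iff.mp hc.2 x hx
    calc g' * x * g'⁻¹ = h * o * (c * x) * c⁻¹ * o⁻¹ * h⁻¹ := by rw [hg']; group
      _ = h * o * (x * c) * c⁻¹ * o⁻¹ * h⁻¹ := by rw [h1]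
      _ = (h * o) * x * (h * o)⁻¹ := by group
      _ = g * x * g⁻¹ := by rw [← hgo]
  have hle : P ⊔ Q₀ ≤ (S : Subgroup G).comap (MulAut.conj g').toMonoidHom := by
    apply sup_le
    · intro x hx
      rw [Subgroup.mem_comap]
      show g' * x * g'⁻¹ ∈ (S : Subgroup G)
      rw [hg'P x hx]
      have := hφS ⟨x, hx⟩
      rwa [hg ⟨x, hx⟩] at this
    · intro a ha
      rw [Subgroup.mem_comap]
      show g' * a * g'⁻¹ ∈ (S : Subgroup G)
      rw [hg'c a ha]
      exact hQ₀S ha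
  refine ⟨Cfsg.conjHom (P ⊔ Q₀) g', ⟨sup_le hPS hQ₀S, fun x => hle x.2, g', fun x => rfl⟩, ?_, ?_⟩
  · intro x
    show g' * (x : G) * g'⁻¹ = φ x
    rw [hg'P x x.2, hg x]
  · intro a
    show g' * (a : G) * g'⁻¹ = a
    exact hg'c a a.2

end GZ4

end Cfsg.Agent.Lib.H1.ZStarGen
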