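import Mathlib
import Cfsg.Prelude.Def_CaseTheorems
import Cfsg.Prelude.Def_TwoFusion
import Cfsg.Agent.S4593

/-!
# S3206 piece INN: an abelian 2-subgroup of `E` containing a Sylow 2 `V` of `N ⊴ E` equals `V`
-/

set_option autoImplicit false

namespace Cfsg.Agent.Lib.H1.JRINN

theorem INN {E : Type*} [Group E] [Finite E] (N : Subgroup E) [N.Normal]
    (hNc : Subgroup.centralizer (N : Set E) = ⊥) (hZ : Subgroup.center ↥N = ⊥)
    (hcore : Cfsg.pPrimeCore 2 ↥N = ⊥) (V : Sylow 2 ↥N)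
    (hVc : Subgroup.centralizer (((V : Subgroup ↥N)) : Set ↥N) ≤ V)
    (Q : Subgroup E) (hQ2 : IsPGroup 2 ↥Q) (hQab : ∀ a ∈ Q, ∀ b ∈ Q, a * b = b * a)
    (hVQ : (V : Subgroup ↥N).map N.subtype ≤ Q) : Q ≤ (V : Subgroup ↥N).map N.subtype := by
  intro s hs
  have hVmem : ∀ x : ↥N, x ∈ (V : Subgroup ↥N) → (x : E) ∈ Q := fun x hx =>
    hVQ (Subgroup.mem_map.mpr ⟨x, hx, rfl⟩)
  -- `V` is commutative
  have hVab : IsMulCommutative ↥(V : Subgroup ↥N) := by
    refine ⟨⟨fun a b => ?_⟩⟩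
    apply Subtype.ext
    apply Subtype.ext
    exact hQab _ (hVmem a.1 a.2) _ (hVmem b.1 b.2)
  -- the automorphism induced by `s`
  set α : MulAut ↥N := MulAut.conjNormal s with hα
  have hαx : ∀ x : ↥N, ((α x : ↥N) : E) = s * x * s⁻¹ := fun x => MulAut.conjNormal_apply s x
  -- its order is a power of two
  have h2 : ∃ j : ℕ, orderOf α = 2 ^ j := by
    obtain ⟨k, hk⟩ := hQ2 ⟨s, hs⟩
    have hsk : s ^ (2 ^ k) = 1 := by
      have := congrArg Subtype.val hk
      simpa using this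
    have hαk : α ^ (2 ^ k) = 1 := by
      rw [hα, ← map_pow, hsk, map_one]
    exact (Nat.dvd_prime_pow Nat.prime_two).mp (orderOf_dvd_of_pow_eq_one hαk) |>.imp fun j hj => hj.2
  have hfix : ∀ x ∈ (V : Subgroup ↥N), α x = x := by
    intro x hx
    apply Subtype.ext
    rw [hαx, hQab s hs _ (hVmem x hx), mul_assoc, mul_inv_cancel, mul_one]
  obtain ⟨g, hg⟩ := Cfsg.Agent.S4593.result hZ hcore V hVab α h2 hfix
  -- `g⁻¹ s` centralizes `N`
  have hcen : (g : E)⁻¹ * s ∈ Subgroup.centralizer (N : Set E) := by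
    rw [Subgroup.mem_centralizer_iff]
    intro x hx
    have h1 := congrArg Subtype.val (hg ⟨x, hx⟩)
    rw [hαx] at h1
    simp only [Subgroup.coe_mul, Subgroup.coe_inv] at h1
    -- h1 : s * x * s⁻¹ = g * x * g⁻¹
    have h3 : s * x = (g : E) * x * (g : E)⁻¹ * s := by
      rw [← h1]; group
    calc x * ((g : E)⁻¹ * s) = (g : E)⁻¹ * ((g : E) * x * (g : E)⁻¹ * s) := by group
      _ = (g : E)⁻¹ * (s * x) := by rw [h3]
      _ = (g : E)⁻¹ * s * x := by group
  rw [hNc, Subgroup.mem_bot] at hcen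
  have hsg : s = (g : E) := by
    have := congrArg (fun y => (g : E) * y) hcen
    simpa [mul_assoc] using this
  -- `g` centralizes `V`
  have hgV : g ∈ (V : Subgroup ↥N) := by
    apply hVc
    rw [Subgroup.mem_centralizer_iff]
    intro x hx
    apply Subtype.ext
    simp only [Subgroup.coe_mul]
    rw [← hsg]
    exact hQab _ (hVmem x hx) s hs
  exact Subgroup.mem_map.mpr ⟨g, hgV, hsg.symm⟩

end Cfsg.Agent.Lib.H1.JRINN
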