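import Mathlib

/-! # Jordan–Frobenius–Blichfeldt, part A: unitarization of a complex representation (helper1) -/

set_option autoImplicit false
set_option linter.deprecated false

namespace Cfsg.Agent.Lib.H1.Jordan

open Matrix
open scoped MatrixOrder ComplexOrder

variable {G : Type*} [Group G] {n : ℕ}

/-- The matrix of `ρ g` in the standard basis. -/
noncomputable def repMat (ρ : Representation ℂ G (Fin n → ℂ)) (g : G) : Matrix (Fin n) (Fin n) ℂ :=
  LinearMap.toMatrix' (ρ g)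

theorem repMat_mul (ρ : Representation ℂ G (Fin n → ℂ)) (g h : G) :
    repMat ρ (g * h) = repMat ρ g * repMat ρ h := by
  unfold repMat
  rw [map_mul, Module.End.mul_eq_comp, LinearMap.toMatrix'_comp]

theorem repMat_one (ρ : Representation ℂ G (Fin n → ℂ)) : repMat ρ 1 = 1 := by
  unfold repMat
  rw [map_one, Module.End.one_eq_id, LinearMap.toMatrix'_id]

theorem trace_repMat (ρ : Representation ℂ G (Fin n → ℂ)) (g : G) :
    (repMat ρ g).trace = ρ.character g := by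
  unfold repMat Representation.character
  rw [LinearMap.trace_eq_matrix_trace ℂ (Pi.basisFun ℂ (Fin n)), LinearMap.toMatrix_eq_toMatrix']

/-- Weyl's unitary trick in matrix form. -/
theorem exists_unitary_rep [Finite G] (ρ : Representation ℂ G (Fin n → ℂ)) :
    ∃ U : G →* unitaryGroup (Fin n) ℂ,
      ∀ g, ((U g : unitaryGroup (Fin n) ℂ) : Matrix (Fin n) (Fin n) ℂ).trace = ρ.character g := by
  classical
  have := Fintype.ofFinite G
  set M := repMat ρ with hM
  obtain ⟨H, hH⟩ : ∃ H : Matrix (Fin n) (Fin n) ℂ, H = ∑ g : G, (M g)ᴴ * M g := ⟨_, rfl⟩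
  have hinv : ∀ x : G, (M x)ᴴ * H * M x = H := by
    intro x
    rw [hH, Finset.mul_sum, Finset.sum_mul]
    rw [← Equiv.sum_comp (Equiv.mulRight x) (fun g => (M g)ᴴ * M g)]
    refine Finset.sum_congr rfl fun g _ => ?_
    simp only [Equiv.coe_mulRight]
    rw [hM, repMat_mul, conjTranspose_mul]
    simp only [Matrix.mul_assoc]
  have hpos : H.PosDef := by
    rw [hH, ← Finset.add_sum_erase Finset.univ _ (Finset.mem_univ (1 : G))]
    refine PosDef.add_posSemidef ?_ (posSemidef_sum _ fun g _ => posSemidef_conjTranspose_mul_self _)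
    rw [hM, repMat_one, conjTranspose_one, Matrix.one_mul]
    exact PosDef.one
  obtain ⟨P, hP⟩ := CStarAlgebra.nonneg_iff_eq_star_mul_self.mp hpos.posSemidef.nonneg
  rw [star_eq_conjTranspose] at hP
  have hdet : P.det ≠ 0 := by
    have h1 : H.det ≠ 0 := hpos.det_pos.ne'
    rw [hP, det_mul] at h1
    exact right_ne_zero_of_mul h1
  have hPu : IsUnit P.det := isUnit_iff_ne_zero.mpr hdet
  have hPP : P⁻¹ * P = 1 := nonsing_inv_mul P hPu
  have hPP' : P * P⁻¹ = 1 := mul_nonsing_inv P hPu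
  have hunit : ∀ g : G, P * M g * P⁻¹ ∈ unitaryGroup (Fin n) ℂ := by
    intro g
    rw [mem_unitaryGroup_iff', star_eq_conjTranspose, conjTranspose_mul, conjTranspose_mul]
    have e1 : (P⁻¹)ᴴ * ((M g)ᴴ * Pᴴ) * (P * M g * P⁻¹)
        = (P⁻¹)ᴴ * ((M g)ᴴ * (Pᴴ * P) * M g) * P⁻¹ := by
      simp only [Matrix.mul_assoc]
    rw [e1, ← hP, hinv g, hP]
    have e2 : (P⁻¹)ᴴ * (Pᴴ * P) * P⁻¹ = (P * P⁻¹)ᴴ * (P * P⁻¹) := by
      rw [conjTranspose_mul]; simp only [Matrix.mul_assoc]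
    rw [e2, hPP', conjTranspose_one, Matrix.one_mul]
  refine ⟨MonoidHom.mk' (fun g => ⟨P * M g * P⁻¹, hunit g⟩) ?_, ?_⟩
  · intro a b
    apply Subtype.ext
    show P * M (a * b) * P⁻¹ = (P * M a * P⁻¹) * (P * M b * P⁻¹)
    rw [hM, repMat_mul]
    have e : P * repMat ρ a * P⁻¹ * (P * repMat ρ b * P⁻¹)
        = P * repMat ρ a * (P⁻¹ * P) * repMat ρ b * P⁻¹ := by
      simp only [Matrix.mul_assoc]
    rw [e, hPP, Matrix.mul_one]
    simp only [Matrix.mul_assoc]
  · intro g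
    show (P * M g * P⁻¹).trace = _
    rw [Matrix.trace_mul_cycle, hPP, Matrix.one_mul, hM, trace_repMat]

theorem norm_toLpLin_unitary (A : unitaryGroup (Fin n) ℂ) (v : EuclideanSpace ℂ (Fin n)) :
    ‖toLpLin 2 2 (A : Matrix (Fin n) (Fin n) ℂ) v‖ = ‖v‖ := by
  have h1 : inner ℂ (toLpLin 2 2 (A : Matrix (Fin n) (Fin n) ℂ) v)
      (toLpLin 2 2 (A : Matrix (Fin n) (Fin n) ℂ) v) = inner ℂ v v := by
    have h2 := LinearMap.adjoint_inner_right
      (toEuclideanLin (A : Matrix (Fin n) (Fin n) ℂ)) v (toEuclideanLin (A : Matrix (Fin n) (Fin n) ℂ) v)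
    rw [← Matrix.toEuclideanLin_conjTranspose_eq_adjoint] at h2
    show inner ℂ (toEuclideanLin (A : Matrix (Fin n) (Fin n) ℂ) v)
      (toEuclideanLin (A : Matrix (Fin n) (Fin n) ℂ) v) = inner ℂ v v
    rw [← h2]
    have h3 : toEuclideanLin (A : Matrix (Fin n) (Fin n) ℂ)ᴴ
        (toEuclideanLin (A : Matrix (Fin n) (Fin n) ℂ) v) = v := by
      show (toLpLin 2 2 (A : Matrix (Fin n) (Fin n) ℂ)ᴴ ∘ₗ
        toLpLin 2 2 (A : Matrix (Fin n) (Fin n) ℂ)) v = v
      rw [← toLpLin_mul_same, ← star_eq_conjTranspose, (mem_unitaryGroup_iff').mp A.2,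
        toLpLin_one]
      rfl
    rw [h3]
  rw [inner_self_eq_norm_sq_to_K, inner_self_eq_norm_sq_to_K] at h1
  have h5 : ‖(toLpLin 2 2 (A : Matrix (Fin n) (Fin n) ℂ)) v‖ ^ 2 = ‖v‖ ^ 2 := by
    exact_mod_cast h1
  exact (sq_eq_sq₀ (norm_nonneg _) (norm_nonneg _)).mp h5

/-- The linear equivalence of Euclidean space attached to a unitary matrix. -/
noncomputable def linOf (A : unitaryGroup (Fin n) ℂ) :
    EuclideanSpace ℂ (Fin n) ≃ₗ[ℂ] EuclideanSpace ℂ (Fin n) :=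
  LinearEquiv.ofLinear (toLpLin 2 2 (A : Matrix (Fin n) (Fin n) ℂ))
      (toLpLin 2 2 (star (A : Matrix (Fin n) (Fin n) ℂ)))
      (by rw [← toLpLin_mul_same, (mem_unitaryGroup_iff).mp A.2, toLpLin_one])
      (by rw [← toLpLin_mul_same, (mem_unitaryGroup_iff').mp A.2, toLpLin_one])

/-- The isometry of Euclidean space attached to a unitary matrix. -/
noncomputable def isoOf (A : unitaryGroup (Fin n) ℂ) :
    EuclideanSpace ℂ (Fin n) ≃ₗᵢ[ℂ] EuclideanSpace ℂ (Fin n) :=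
  ⟨linOf A, fun v => norm_toLpLin_unitary A v⟩

theorem isoOf_apply (A : unitaryGroup (Fin n) ℂ) (v : EuclideanSpace ℂ (Fin n)) :
    isoOf A v = toLpLin 2 2 (A : Matrix (Fin n) (Fin n) ℂ) v := rfl

theorem isoOf_mul (A B : unitaryGroup (Fin n) ℂ) : isoOf (A * B) = isoOf A * isoOf B := by
  refine LinearIsometryEquiv.ext fun v => ?_
  show toLpLin 2 2 ((A : Matrix (Fin n) (Fin n) ℂ) * (B : Matrix (Fin n) (Fin n) ℂ)) v
    = toLpLin 2 2 (A : Matrix (Fin n) (Fin n) ℂ) (toLpLin 2 2 (B : Matrix (Fin n) (Fin n) ℂ) v)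
  rw [toLpLin_mul_same]
  rfl

theorem trace_isoOf (A : unitaryGroup (Fin n) ℂ) :
    LinearMap.trace ℂ _ ((isoOf A).toLinearEquiv : EuclideanSpace ℂ (Fin n) →ₗ[ℂ] _)
      = (A : Matrix (Fin n) (Fin n) ℂ).trace := by
  have e : ((isoOf A).toLinearEquiv : EuclideanSpace ℂ (Fin n) →ₗ[ℂ] _)
      = toEuclideanLin (A : Matrix (Fin n) (Fin n) ℂ) := rfl
  rw [e, LinearMap.trace_eq_matrix_trace ℂ (EuclideanSpace.basisFun (Fin n) ℂ).toBasis]
  congr 1
  simp [toEuclideanLin_eq_toLin_orthonormal]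

/-- A complex representation of a finite group on `ℂⁿ` is equivalent to an action by isometries of
Euclidean space, with the same character. -/
theorem exists_isometric_rep [Finite G] (ρ : Representation ℂ G (Fin n → ℂ)) :
    ∃ R : G →* (EuclideanSpace ℂ (Fin n) ≃ₗᵢ[ℂ] EuclideanSpace ℂ (Fin n)),
      ∀ g, LinearMap.trace ℂ _ ((R g).toLinearEquiv : EuclideanSpace ℂ (Fin n) →ₗ[ℂ] _)
        = ρ.character g := by
  obtain ⟨U, hU⟩ := exists_unitary_rep ρ
  refine ⟨MonoidHom.mk' (fun g => isoOf (U g)) ?_, ?_⟩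
  · intro a b
    rw [map_mul, isoOf_mul]
  · intro g
    show LinearMap.trace ℂ _ ((isoOf (U g)).toLinearEquiv : EuclideanSpace ℂ (Fin n) →ₗ[ℂ] _) = _
    rw [trace_isoOf, hU]

end Cfsg.Agent.Lib.H1.Jordan
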