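import Mathlib
import Cfsg.Agent.Lib.H1.JordanE

/-! # Jordan–Frobenius–Blichfeldt, part F: the group-level argument (helper1) -/

set_option autoImplicit false

namespace Cfsg.Agent.Lib.H1.Jordan

open Module.End

variable {E : Type*} [NormedAddCommGroup E] [InnerProductSpace ℂ E] [FiniteDimensional ℂ E]
variable {G : Type*} [Group G] [Finite G]

/-- an element of `S` commutes with every element whose numerical range lies in the right half
plane -/
theorem comm_of_inS_of_near {n : ℕ} (hn : Module.finrank ℂ E = n) (R : G →* (E ≃ₗᵢ[ℂ] E))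
    (hinj : ∀ x, R x = 1 → x = 1) :
    ∀ c : G, Near (R c) → ∀ g : G, InS (R g) → g * c = c * g := by
  set f : G → ℝ := fun x => (LinearMap.trace ℂ E (lin (R x))).re with hf
  have hwf : WellFounded (fun c' c : G => f c < f c') := by
    have : IsTrans G (fun c' c : G => f c < f c') := ⟨fun a b c h1 h2 => lt_trans h2 h1⟩
    have : Std.Irrefl (fun c' c : G => f c < f c') := ⟨fun a => lt_irrefl _⟩
    exact Finite.wellFounded_of_trans_of_irrefl _
  intro c
  induction c using hwf.induction with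
  | _ c ih =>
  intro hc g hg
  by_contra hne
  have hRc' : R (g * c * g⁻¹ * c⁻¹) = R g * R c * (R g)⁻¹ * (R c)⁻¹ := by
    rw [map_mul, map_mul, map_mul, map_inv, map_inv]
  have hRne : R g * R c ≠ R c * R g := by
    intro h
    apply hne
    have h1 : R (g * c * (c * g)⁻¹) = 1 := by
      rw [map_mul, map_inv, map_mul, map_mul, h, mul_inv_cancel]
    exact mul_inv_eq_one.mp (hinj _ h1)
  obtain ⟨b, hb⟩ := exists_joint_eigenbasis (fun _ : Unit => R g) (fun _ _ => rfl) hn
  choose a ha using hb ()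
  have hA : ∀ k l, ‖a k - a l‖ < 1 := fun k l =>
    norm_sub_lt_one (norm_eig ha k) (norm_eig ha l) (hg.eig_re ha k) (hg.eig_re ha l)
  have hlt : f c < f (g * c * g⁻¹ * c⁻¹) := by
    have := contraction (R g) (R c) b a ha hA hRne
    simp only [hf, hRc']
    exact this
  have hnear' : Near (R (g * c * g⁻¹ * c⁻¹)) := by
    have h1 : InS (R c * (R g)⁻¹ * (R c)⁻¹) := hg.inv.conj (R c)
    have h2 := near_mul hg h1
    have h3 : R (g * c * g⁻¹ * c⁻¹) = R g * (R c * (R g)⁻¹ * (R c)⁻¹) := by
      rw [hRc']; group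
    rwa [h3]
  have hcomm : g * (g * c * g⁻¹ * c⁻¹) = (g * c * g⁻¹ * c⁻¹) * g := ih _ hlt hnear' g hg
  have hRcomm : R g * (R g * R c * (R g)⁻¹ * (R c)⁻¹)
      = (R g * R c * (R g)⁻¹ * (R c)⁻¹) * R g := by
    have := congrArg R hcomm
    rwa [map_mul, map_mul (f := R) _ g, hRc'] at this
  have hfin : (R g * R c * (R g)⁻¹ * (R c)⁻¹) ^ (orderOf (g * c * g⁻¹ * c⁻¹)) = 1 := by
    rw [← hRc', ← map_pow, pow_orderOf_eq_one, map_one]
  have h1 := frobenius_comm hn (R g) (R c) hRcomm hc (orderOf_pos _) hfin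
  rw [← hRc'] at h1
  have h2 : g * c * g⁻¹ * c⁻¹ = 1 := hinj _ h1
  apply hne
  calc g * c = (g * c * g⁻¹ * c⁻¹) * (c * g) := by group
    _ = c * g := by rw [h2, one_mul]

/-- the box of a unit complex number: one of 12 arcs of the circle -/
noncomputable def box (z : ℂ) : ℤ := ⌈(Complex.arg z + Real.pi) * 6 / Real.pi⌉

theorem box_mem (z : ℂ) : box z ∈ Finset.Icc (1 : ℤ) 12 := by
  have h1 := Complex.neg_pi_lt_arg z
  have h2 := Complex.arg_le_pi z
  have hpi := Real.pi_pos
  rw [Finset.mem_Icc]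
  constructor
  · have h3 : 0 < (Complex.arg z + Real.pi) * 6 / Real.pi := by
      apply div_pos _ hpi
      nlinarith
    have : 0 < box z := Int.ceil_pos.mpr h3
    omega
  · apply Int.ceil_le.mpr
    rw [div_le_iff₀ hpi]
    push_cast
    nlinarith

theorem re_exp_of_abs_lt {θ θ' : ℝ} (h : |θ' - θ| < Real.pi / 6) :
    c30 < ((Complex.exp (θ * Complex.I))⁻¹ * Complex.exp (θ' * Complex.I)).re := by
  have e : (Complex.exp (θ * Complex.I))⁻¹ * Complex.exp (θ' * Complex.I)
      = Complex.exp (((θ' - θ : ℝ) : ℂ) * Complex.I) := by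
    rw [← Complex.exp_neg, ← Complex.exp_add]
    congr 1
    push_cast
    ring
  rw [e, Complex.exp_ofReal_mul_I_re, ← Real.cos_abs]
  have hpi := Real.pi_pos
  have := Real.strictAntiOn_cos (a := |θ' - θ|) (b := Real.pi / 6)
    ⟨abs_nonneg _, by linarith⟩ ⟨by positivity, by linarith⟩ h
  rw [Real.cos_pi_div_six] at this
  exact this

theorem re_of_box_eq {z z' : ℂ} (hz : ‖z‖ = 1) (hz' : ‖z'‖ = 1) (h : box z = box z') :
    c30 < (z⁻¹ * z').re := by
  have e1 : Complex.exp (Complex.arg z * Complex.I) = z := by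
    have := Complex.norm_mul_exp_arg_mul_I z
    rwa [hz, Complex.ofReal_one, one_mul] at this
  have e2 : Complex.exp (Complex.arg z' * Complex.I) = z' := by
    have := Complex.norm_mul_exp_arg_mul_I z'
    rwa [hz', Complex.ofReal_one, one_mul] at this
  have hpi := Real.pi_pos
  have habs : |Complex.arg z' - Complex.arg z| < Real.pi / 6 := by
    unfold box at h
    obtain ⟨l1, u1⟩ := Int.ceil_eq_iff.mp h
    obtain ⟨l2, u2⟩ := Int.ceil_eq_iff.mp (rfl : ⌈(Complex.arg z' + Real.pi) * 6 / Real.pi⌉ = _)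
    have hd : |(Complex.arg z' + Real.pi) * 6 / Real.pi - (Complex.arg z + Real.pi) * 6 / Real.pi|
        < 1 := by
      rw [abs_lt]; constructor <;> linarith
    have he : (Complex.arg z' + Real.pi) * 6 / Real.pi - (Complex.arg z + Real.pi) * 6 / Real.pi
        = (Complex.arg z' - Complex.arg z) * (6 / Real.pi) := by
      field_simp
      ring
    rw [he, abs_mul, abs_of_pos (by positivity : (0 : ℝ) < 6 / Real.pi)] at hd
    have : |Complex.arg z' - Complex.arg z| * (6 / Real.pi) * (Real.pi / 6) < 1 * (Real.pi / 6) :=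
      mul_lt_mul_of_pos_right hd (by positivity)
    have h6 : (6 / Real.pi) * (Real.pi / 6) = 1 := by field_simp
    rw [mul_assoc, h6, mul_one, one_mul] at this
    exact this
  have := re_exp_of_abs_lt habs
  rwa [e1, e2] at this

omit [Finite G] in
theorem index_le_of_comm {n : ℕ} (hn : Module.finrank ℂ E = n) (R : G →* (E ≃ₗᵢ[ℂ] E))
    (A : Subgroup G) (hA : ∀ g, InS (R g) → g ∈ A) (H : Subgroup G)
    (hH : ∀ x ∈ H, ∀ y ∈ H, x * y = y * x) : (A.subgroupOf H).index ≤ 12 ^ n := by
  classical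
  obtain ⟨b, hb⟩ := exists_joint_eigenbasis (fun h : H => R (h : G))
    (by intro i j; rw [← map_mul, ← map_mul, hH i i.2 j j.2]) hn
  choose lam hlam using hb
  let F : H → (Fin n → ℤ) := fun h k => box (lam h k)
  have hF : ∀ h, F h ∈ Fintype.piFinset (fun _ : Fin n => Finset.Icc (1 : ℤ) 12) :=
    fun h => Fintype.mem_piFinset.mpr fun k => box_mem _
  have hkey : ∀ h h' : H, F h = F h' → h⁻¹ * h' ∈ A.subgroupOf H := by
    intro h h' hFF
    rw [Subgroup.mem_subgroupOf]
    apply hA
    have hdat : ∀ k, R ((h⁻¹ * h' : H) : G) (b k) = ((lam h k)⁻¹ * lam h' k) • b k := by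
      intro k
      rw [Subgroup.coe_mul, Subgroup.coe_inv, map_mul, map_inv, mul_apply', hlam h' k, map_smul,
        inv_apply', symm_eig (hlam h) k, smul_smul, mul_comm]
    exact inS_of_eig hdat fun k =>
      re_of_box_eq (norm_eig (hlam h) k) (norm_eig (hlam h') k) (congrFun hFF k)
  rw [Subgroup.index_eq_card]
  let Φ : (H ⧸ A.subgroupOf H) → Fintype.piFinset (fun _ : Fin n => Finset.Icc (1 : ℤ) 12) :=
    fun q => ⟨F q.out, hF _⟩
  have hΦ : Function.Injective Φ := by
    intro q q' hqq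
    have h1 : F q.out = F q'.out := congrArg Subtype.val hqq
    have h2 := hkey _ _ h1
    rw [← QuotientGroup.out_eq' q, ← QuotientGroup.out_eq' q']
    exact QuotientGroup.eq.mpr h2
  calc Nat.card (H ⧸ A.subgroupOf H)
      ≤ Nat.card (Fintype.piFinset (fun _ : Fin n => Finset.Icc (1 : ℤ) 12)) :=
        Nat.card_le_card_of_injective Φ hΦ
    _ = 12 ^ n := by
        rw [Nat.card_eq_fintype_card, Fintype.card_coe, Fintype.card_piFinset]
        simp

/-- **Jordan's theorem in the form of Frobenius–Blichfeldt**, for a faithful isometric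
representation. -/
theorem jordan_blichfeldt {n : ℕ} (hn : Module.finrank ℂ E = n) (R : G →* (E ≃ₗᵢ[ℂ] E))
    (hinj : ∀ x, R x = 1 → x = 1) :
    ∃ A : Subgroup G, A.Normal ∧ (∀ x ∈ A, ∀ y ∈ A, x * y = y * x) ∧
      ∀ H : Subgroup G, (∀ x ∈ H, ∀ y ∈ H, x * y = y * x) → (A.subgroupOf H).index ≤ 12 ^ n := by
  set S : Set G := {g | InS (R g)} with hS
  have hSc : ∀ x ∈ S, ∀ y ∈ S, x * y = y * x := fun x hx y hy =>
    comm_of_inS_of_near hn R hinj y (InS.near hy) x hx
  refine ⟨Subgroup.closure S, ?_, ?_, ?_⟩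
  · refine ⟨fun x hx g => ?_⟩
    induction hx using Subgroup.closure_induction with
    | mem x hx =>
      apply Subgroup.subset_closure
      show InS (R (g * x * g⁻¹))
      rw [map_mul, map_mul, map_inv]
      exact InS.conj hx (R g)
    | one => simp
    | mul x y _ _ ihx ihy =>
      have : g * (x * y) * g⁻¹ = (g * x * g⁻¹) * (g * y * g⁻¹) := by group
      rw [this]
      exact mul_mem ihx ihy
    | inv x _ ihx =>
      have : g * x⁻¹ * g⁻¹ = (g * x * g⁻¹)⁻¹ := by group
      rw [this]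
      exact inv_mem ihx
  · intro x hx y hy
    have := Subgroup.isMulCommutative_closure hSc
    have h1 := this.is_comm.comm (⟨x, hx⟩ : Subgroup.closure S) ⟨y, hy⟩
    exact congrArg Subtype.val h1
  · intro H hH
    exact index_le_of_comm hn R _ (fun g hg => Subgroup.subset_closure hg) H hH

end Cfsg.Agent.Lib.H1.Jordan
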