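import Mathlib
import Cfsg.Agent.Lib.H7.K4Defs
import Cfsg.Agent.Lib.H18.K4CE3

/-!
# S3805 piece CE (helper1; architect helper7): the seven class equations
-/

set_option autoImplicit false
set_option linter.unusedSectionVars false
set_option maxRecDepth 100000

namespace Cfsg.Agent.Lib.H1.K4

open Cfsg Cfsg.Agent.Lib.H7.K4
open scoped ComplexConjugate

/-! ### computations in `S₃ × S₃` -/

theorem c3_ne_one : c3 ≠ 1 := by decide

theorem c3_pow_three : c3 ^ 3 = 1 := by decide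

/-- an element of `S₃ × S₃` whose first coordinate is a nontrivial 3-cycle power is not conjugate to one
with trivial first coordinate -/
theorem not_isConj_fst {a b : S33} (ha : a.1 ≠ 1) (hb : b.1 = 1) : ¬ IsConj a b := by
  intro hc
  rw [isConj_iff] at hc
  obtain ⟨c, hc⟩ := hc
  apply ha
  have h1 := congrArg Prod.fst hc
  rw [Prod.fst_mul, Prod.fst_mul, hb] at h1
  have h2 : a.1 = c.1⁻¹ * (c.1 * a.1 * (c⁻¹).1) * c.1 := by
    rw [Prod.fst_inv]; group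
  rw [h2, h1]
  group

theorem not_isConj_snd {a b : S33} (ha : a.2 ≠ 1) (hb : b.2 = 1) : ¬ IsConj a b := by
  intro hc
  rw [isConj_iff] at hc
  obtain ⟨c, hc⟩ := hc
  apply ha
  have h1 := congrArg Prod.snd hc
  rw [Prod.snd_mul, Prod.snd_mul, hb] at h1
  have h2 : a.2 = c.2⁻¹ * (c.2 * a.2 * (c⁻¹).2) * c.2 := by
    rw [Prod.snd_inv]; group
  rw [h2, h1]
  group

theorem cnt_xxy : cnt (c3, 1) (c3, 1) ((1, c3) : S33)⁻¹ = 0 := by decide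
theorem cnt_yyx : cnt (1, c3) (1, c3) ((c3, 1) : S33)⁻¹ = 0 := by decide
theorem cnt_xxz : cnt (c3, 1) (c3, 1) ((c3, c3) : S33)⁻¹ = 0 := by decide
theorem cnt_yyz : cnt (1, c3) (1, c3) ((c3, c3) : S33)⁻¹ = 0 := by decide
theorem cnt_xyz : cnt (c3, 1) (1, c3) ((c3, c3) : S33)⁻¹ = 324 := by decide
theorem cnt_xzz : cnt (c3, 1) (c3, c3) ((c3, c3) : S33)⁻¹ = 162 := by decide
theorem cnt_yzz : cnt (1, c3) (c3, c3) ((c3, c3) : S33)⁻¹ = 162 := by decide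


/-! ### the class multiplication formula, localised by CE3 -/

section ce
variable {G : Type*} [Group G] [Fintype G]

/-- the class equation for `(s1, s2, s3)`: the structure constant is computed in `S₃ × S₃` -/
theorem class_eq_of_cnt (h : Hyp G) [Fintype (IrrCharacter G)] (s1 s2 s3 : S33)
    (h1 : s1 ^ 3 = 1) (h2 : s2 ^ 3 = 1) (h3 : s3 ^ 3 = 1) (h1' : s1 ≠ 1) (h2' : s2 ≠ 1) (h3' : s3 ≠ 1)
    (hnc : ¬ (IsConj s1 s2 ∧ IsConj s3⁻¹ s1⁻¹)) (n : ℕ) (hn : cnt s1 s2 s3⁻¹ = n) :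
    ∑ χ : IrrCharacter G, (χ : G → ℂ) (h.el s1) * (χ : G → ℂ) (h.el s2) * (χ : G → ℂ) (h.el s3) /
      (χ : G → ℂ) 1 = (n : ℂ) / (Nat.card G : ℂ) := by
  classical
  have hG : (Nat.card G : ℂ) ≠ 0 := by exact_mod_cast (Nat.card_pos (α := G)).ne'
  have hc := Cfsg.Agent.Lib.H18.K4.count_eq_cnt h s1 s2 s3⁻¹ h1 h2
    (by rw [inv_pow, h3, inv_one]) h1' h2' (by rwa [Ne, inv_eq_one]) hnc
  have hf := Cfsg.Agent.Lib.H23.sum_sum_ite_conj_mul_eq (h.el s1) (h.el s2) (h.el s3⁻¹)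
  rw [hc, hn, h.el_inv, inv_inv] at hf
  rw [eq_div_iff hG, mul_comm]
  exact hf.symm

/-- CE.  The seven class equations. -/
theorem class_eqs (h : Hyp G) [Fintype (IrrCharacter G)] :
    (∑ χ : IrrCharacter G, (χ : G → ℂ) h.x * (χ : G → ℂ) h.x * (χ : G → ℂ) h.y / (χ : G → ℂ) 1 = 0) ∧
    (∑ χ : IrrCharacter G, (χ : G → ℂ) h.y * (χ : G → ℂ) h.y * (χ : G → ℂ) h.x / (χ : G → ℂ) 1 = 0) ∧
    (∑ χ : IrrCharacter G, (χ : G → ℂ) h.x * (χ : G → ℂ) h.x * (χ : G → ℂ) h.z / (χ : G → ℂ) 1 = 0) ∧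
    (∑ χ : IrrCharacter G, (χ : G → ℂ) h.y * (χ : G → ℂ) h.y * (χ : G → ℂ) h.z / (χ : G → ℂ) 1 = 0) ∧
    (∑ χ : IrrCharacter G, (χ : G → ℂ) h.x * (χ : G → ℂ) h.y * (χ : G → ℂ) h.z / (χ : G → ℂ) 1 =
      324 / (Nat.card G : ℂ)) ∧
    (∑ χ : IrrCharacter G, (χ : G → ℂ) h.x * (χ : G → ℂ) h.z * (χ : G → ℂ) h.z / (χ : G → ℂ) 1 =
      162 / (Nat.card G : ℂ)) ∧
    (∑ χ : IrrCharacter G, (χ : G → ℂ) h.y * (χ : G → ℂ) h.z * (χ : G → ℂ) h.z / (χ : G → ℂ) 1 =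
      162 / (Nat.card G : ℂ)) := by
  have hx3 : ((c3, 1) : S33) ^ 3 = 1 := by decide
  have hy3 : ((1, c3) : S33) ^ 3 = 1 := by decide
  have hz3 : ((c3, c3) : S33) ^ 3 = 1 := by decide
  have hx1 : ((c3, 1) : S33) ≠ 1 := by decide
  have hy1 : ((1, c3) : S33) ≠ 1 := by decide
  have hz1 : ((c3, c3) : S33) ≠ 1 := by decide
  have hci : (c3⁻¹ : S3) ≠ 1 := by decide
  refine ⟨?_, ?_, ?_, ?_, ?_, ?_, ?_⟩
  · have := class_eq_of_cnt h (c3, 1) (c3, 1) (1, c3) hx3 hx3 hy3 hx1 hx1 hy1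
      (fun hh => not_isConj_snd (a := ((1, c3) : S33)⁻¹) (b := ((c3, 1) : S33)⁻¹) hci rfl hh.2) 0 cnt_xxy
    rw [Nat.cast_zero, zero_div] at this
    exact this
  · have := class_eq_of_cnt h (1, c3) (1, c3) (c3, 1) hy3 hy3 hx3 hy1 hy1 hx1
      (fun hh => not_isConj_fst (a := ((c3, 1) : S33)⁻¹) (b := ((1, c3) : S33)⁻¹) hci rfl hh.2) 0 cnt_yyx
    rw [Nat.cast_zero, zero_div] at this
    exact this
  · have := class_eq_of_cnt h (c3, 1) (c3, 1) (c3, c3) hx3 hx3 hz3 hx1 hx1 hz1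
      (fun hh => not_isConj_snd (a := ((c3, c3) : S33)⁻¹) (b := ((c3, 1) : S33)⁻¹) hci rfl hh.2) 0 cnt_xxz
    rw [Nat.cast_zero, zero_div] at this
    exact this
  · have := class_eq_of_cnt h (1, c3) (1, c3) (c3, c3) hy3 hy3 hz3 hy1 hy1 hz1
      (fun hh => not_isConj_fst (a := ((c3, c3) : S33)⁻¹) (b := ((1, c3) : S33)⁻¹) hci rfl hh.2) 0 cnt_yyz
    rw [Nat.cast_zero, zero_div] at this
    exact this
  · have := class_eq_of_cnt h (c3, 1) (1, c3) (c3, c3) hx3 hy3 hz3 hx1 hy1 hz1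
      (fun hh => not_isConj_fst (a := ((c3, 1) : S33)) (b := ((1, c3) : S33)) c3_ne_one rfl hh.1) 324 cnt_xyz
    exact_mod_cast this
  · have := class_eq_of_cnt h (c3, 1) (c3, c3) (c3, c3) hx3 hz3 hz3 hx1 hz1 hz1
      (fun hh => not_isConj_snd (a := ((c3, c3) : S33)) (b := ((c3, 1) : S33)) c3_ne_one rfl hh.1.symm) 162 cnt_xzz
    exact_mod_cast this
  · have := class_eq_of_cnt h (1, c3) (c3, c3) (c3, c3) hy3 hz3 hz3 hy1 hz1 hz1
      (fun hh => not_isConj_fst (a := ((c3, c3) : S33)) (b := ((1, c3) : S33)) c3_ne_one rfl hh.1.symm) 162 cnt_yzz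
    exact_mod_cast this

end ce

end Cfsg.Agent.Lib.H1.K4
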