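import Mathlib
import Cfsg.Agent.Lib.H7.K4Defs
import Cfsg.Agent.Lib.H8.DadeInd
import Cfsg.Agent.Lib.L0.CharOps

/-!
# S3805 pieces TR, IND1, IND2 (helper1; architect helper7): transport along `e : N ≃* S₃ × S₃` and induction to `G`
-/

set_option autoImplicit false
set_option linter.unusedSectionVars false

namespace Cfsg.Agent.Lib.H1.K4

open Cfsg Cfsg.Agent.Lib.H7.K4
open scoped ComplexConjugate

variable {G : Type*} [Group G] [Fintype G]

/-- `h.pull f = toC f ∘ e` -/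
theorem pull_eq_comp (h : Hyp G) (f : S33 → ℤ) : h.pull f = toC f ∘ (h.e : ↥h.N →* S33) := rfl

/-- TR.  Transport of generalized characters along `e`. -/
theorem isGenChar_pull (h : Hyp G) (f : S33 → ℤ) (hf : IsGeneralizedCharacter S33 (toC f)) :
    IsGeneralizedCharacter ↥h.N (h.pull f) := by
  obtain ⟨χ, ψ, hχ, hψ, hfe⟩ := hf
  refine ⟨χ ∘ (h.e : ↥h.N →* S33), ψ ∘ (h.e : ↥h.N →* S33),
    Cfsg.Agent.Lib.L0.isCharacter_comp _ hχ, Cfsg.Agent.Lib.L0.isCharacter_comp _ hψ, ?_⟩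
  rw [pull_eq_comp, hfe]
  rfl

/-- transport of the inner product along `e` -/
theorem classInner_transport (h : Hyp G) [Fintype ↥h.N] (φ ψ : S33 → ℂ) :
    classInner (fun n : ↥h.N => φ (h.e n)) (fun n : ↥h.N => ψ (h.e n)) = classInner φ ψ := by
  rw [Cfsg.Agent.Lib.H8.classInner_def, Cfsg.Agent.Lib.H8.classInner_def,
    Nat.card_congr h.e.toEquiv]
  congr 1
  exact Fintype.sum_equiv h.e.toEquiv _ _ (fun n => rfl)

/-- IND1.  Induction from `N` is an isometry on functions vanishing off `D`. -/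
theorem inner_ind_ind (h : Hyp G) (f g : S33 → ℤ)
    (hg : ∀ s t : S33, g (t * s * t⁻¹) = g s)
    (hf0 : ∀ s : S33, s ^ 4 = 1 → f s = 0) (hg0 : ∀ s : S33, s ^ 4 = 1 → g s = 0) :
    classInner (indFun h.N (h.pull f)) (indFun h.N (h.pull g)) = classInner (toC f) (toC g) := by
  classical
  have : Fintype ↥h.N := Fintype.ofFinite _
  have hTI : ∀ x : G, ∀ a ∈ {d : G | d ∈ h.N ∧ d ^ 4 ≠ 1}, x * a * x⁻¹ ∈ {d : G | d ∈ h.N ∧ d ^ 4 ≠ 1} →
      x ∈ h.N := fun x a ha hxa => h.ti x a ha.1 ha.2 hxa.1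
  have hzero : ∀ (k : S33 → ℤ), (∀ s : S33, s ^ 4 = 1 → k s = 0) →
      ∀ x : ↥h.N, (x : G) ∉ {d : G | d ∈ h.N ∧ d ^ 4 ≠ 1} → h.pull k x = 0 := by
    intro k hk x hx
    have hx4 : (x : G) ^ 4 = 1 := by
      by_contra hne
      exact hx ⟨x.2, hne⟩
    have hx4' : x ^ 4 = 1 := Subtype.ext (by rw [Subgroup.coe_pow, hx4]; rfl)
    have he4 : (h.e x) ^ 4 = 1 := by rw [← map_pow, hx4', map_one]
    show ((k (h.e x) : ℤ) : ℂ) = 0
    rw [hk _ he4, Int.cast_zero]
  have hcl : IsClassFunction ↥h.N (h.pull g) := by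
    intro n k
    show ((g (h.e (k * n * k⁻¹)) : ℤ) : ℂ) = ((g (h.e n) : ℤ) : ℂ)
    rw [map_mul, map_mul, map_inv, hg]
  rw [Cfsg.Agent.Lib.H8.classInner_indFun_of_tiSet h.N {d : G | d ∈ h.N ∧ d ^ 4 ≠ 1} hTI
    (h.pull f) (h.pull g) hcl (hzero f hf0) (hzero g hg0)]
  exact classInner_transport h (toC f) (toC g)

/-- IND2.  Frobenius reciprocity and transport along `e`. -/
theorem inner_ind_class (h : Hyp G) (f : S33 → ℤ) (F : G → ℂ) (hF : IsClassFunction G F) :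
    classInner (indFun h.N (h.pull f)) F = classInner (toC f) (fun s => F (h.el s)) ∧
      IsClassFunction S33 (fun s => F (h.el s)) := by
  classical
  have : Fintype ↥h.N := Fintype.ofFinite _
  refine ⟨?_, ?_⟩
  · rw [Cfsg.Agent.Lib.H8.frobenius_reciprocity h.N (h.pull f) F hF]
    have h1 : (fun n : ↥h.N => F (n : G)) = fun n : ↥h.N => (fun s => F (h.el s)) (h.e n) := by
      funext n
      show F (n : G) = F (h.el (h.e n))
      rw [h.el_e]
    rw [h1]
    exact classInner_transport h (toC f) (fun s => F (h.el s))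
  · intro s t
    show F (h.el (t * s * t⁻¹)) = F (h.el s)
    rw [h.el_mul, h.el_mul, h.el_inv, hF]

end Cfsg.Agent.Lib.H1.K4
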