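/-
S4958 piece PI (architect helper20): `Good` for finite products.
-/
import Cfsg.Agent.Lib.H20.KGVDefs
import Cfsg.Agent.Lib.H6.KGVAS
import Cfsg.Agent.Lib.H26.KGVB

set_option autoImplicit false

namespace Cfsg.Agent.Lib.H1.KGV

open Cfsg.Agent.Lib.H20.KGV
open scoped ComplexConjugate
open Classical

universe u

/-- a change of the weight and of the constant in `Good` -/
theorem good_congr {H : Type*} [CommGroup H] [Fintype H] {μ μ' : H → ℝ} {κ κ' : ℝ}
    (h : Good μ κ) (hμ : ∀ x, μ x = μ' x) (hκ : κ = κ') : Good μ' κ' := by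
  have : μ = μ' := funext hμ
  rw [← this, ← hκ]
  exact h

/-- **Piece PI** (finite products; from AS + B + `good_one`). -/
theorem good_pi : ∀ (r : ℕ) (K : Fin r → Type u) [∀ i, CommGroup (K i)] [∀ i, Fintype (K i)]
    (w : Fin r → ℝ) (_ : ∀ i, (Fintype.card (K i) : ℝ) + 1 ≤ w i),
    Good (fun x : ∀ i, K i => ∏ i, if x i = 1 then 1 else w i)
      ((Fintype.card (∀ i, K i) : ℝ) ^ 2) := by
  intro r
  induction r with
  | zero =>
    intro K _ _ w _
    have h := good_one (H := ∀ i, K i)
    refine good_congr h (fun x => ?_) ?_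
    · rw [Finset.univ_eq_empty, Finset.prod_empty]
    · rw [Fintype.card_pi, Finset.univ_eq_empty, Finset.prod_empty]
      norm_num
  | succ r ih =>
    intro K _ _ w hw
    have hw1 : ∀ i, (1 : ℝ) ≤ w i := by
      intro i
      have : (0 : ℝ) ≤ (Fintype.card (K i) : ℝ) := by positivity
      linarith [hw i]
    have hih := ih (fun i : Fin r => K i.succ) (fun i => w i.succ) (fun i => hw i.succ)
    have hμ' : ∀ x : (∀ i : Fin r, K i.succ), 0 ≤ ∏ i, if x i = 1 then 1 else w i.succ := by
      intro x
      apply Finset.prod_nonneg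
      intro i _
      split_ifs
      · exact zero_le_one
      · linarith [hw1 i.succ]
    have hAS := Cfsg.Agent.Lib.H6.KGV.good_prod (H₁ := K 0) (H' := ∀ i : Fin r, K i.succ) (w 0) (hw 0)
      (fun x => ∏ i, if x i = 1 then 1 else w i.succ) hμ'
      ((Fintype.card (∀ i : Fin r, K i.succ) : ℝ) ^ 2) (by positivity) hih
    let ι : (∀ i, K i) →* K 0 × (∀ i : Fin r, K i.succ) :=
      MonoidHom.prod (Pi.evalMonoidHom K 0) (MonoidHom.pi fun i => Pi.evalMonoidHom K i.succ)
    have hι : Function.Injective ι := by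
      intro x y hxy
      funext i
      have h1 : x 0 = y 0 := congrArg Prod.fst hxy
      have h2 : (fun i : Fin r => x i.succ) = fun i : Fin r => y i.succ := congrArg Prod.snd hxy
      refine Fin.cases h1 (fun j => ?_) i
      exact congrFun h2 j
    have hB := Cfsg.Agent.Lib.H26.KGV.good_comap ι hι _ _ hAS
    have hcard : Fintype.card (∀ i, K i) = Fintype.card (K 0) * Fintype.card (∀ i : Fin r, K i.succ) := by
      rw [Fintype.card_pi, Fintype.card_pi, Fin.prod_univ_succ]
    have hcard2 : Fintype.card (K 0 × (∀ i : Fin r, K i.succ)) = Fintype.card (∀ i, K i) := by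
      rw [Fintype.card_prod, hcard]
    refine good_congr hB (fun x => ?_) ?_
    · show (if x 0 = 1 then 1 else w 0) * (∏ i : Fin r, if x i.succ = 1 then 1 else w i.succ) = _
      rw [Fin.prod_univ_succ]
    · rw [hcard2]
      have hpos : (Fintype.card (∀ i, K i) : ℝ) ≠ 0 := by
        have : 0 < Fintype.card (∀ i, K i) := Fintype.card_pos
        exact_mod_cast this.ne'
      rw [mul_div_assoc, div_self (pow_ne_zero 2 hpos), mul_one, hcard]
      push_cast
      ring

end Cfsg.Agent.Lib.H1.KGV
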