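/-
S4958 piece KEY (architect helper20): the lattice lemma.
-/
import Cfsg.Agent.Lib.H1.KGVPI

set_option autoImplicit false

namespace Cfsg.Agent.Lib.H1.KGV

open Cfsg.Agent.Lib.H20.KGV
open scoped ComplexConjugate
open Classical

universe u

/-- **Piece KEY** (lattice lemma; from PI + B). -/
theorem good_of_subgroups {H : Type u} [CommGroup H] [Fintype H] (r : ℕ) (C : Fin r → Subgroup H)
    (w : Fin r → ℝ) (hw : ∀ i, ((C i).index : ℝ) + 1 ≤ w i) (hC : ⨅ i, C i = ⊥) :
    Good (fun h => ∏ i, if h ∈ C i then 1 else w i) ((Fintype.card H : ℝ) ^ 2) := by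
  have hfin : ∀ i, Fintype (H ⧸ C i) := fun i => Fintype.ofFinite _
  have hcard : ∀ i, Fintype.card (H ⧸ C i) = (C i).index := by
    intro i
    rw [Subgroup.index_eq_card, Nat.card_eq_fintype_card]
  have hPI := good_pi r (fun i => H ⧸ C i) w (fun i => by rw [hcard i]; exact hw i)
  let ι : H →* ∀ i, H ⧸ C i := MonoidHom.pi fun i => QuotientGroup.mk' (C i)
  have hι : Function.Injective ι := by
    rw [injective_iff_map_eq_one]
    intro h hh
    have h1 : ∀ i, h ∈ C i := by
      intro i
      have := congrFun hh i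
      exact (QuotientGroup.eq_one_iff h).mp this
    have h2 : h ∈ ⨅ i, C i := Subgroup.mem_iInf.mpr h1
    rw [hC] at h2
    exact Subgroup.mem_bot.mp h2
  have hB := Cfsg.Agent.Lib.H26.KGV.good_comap ι hι _ _ hPI
  refine good_congr hB (fun h => ?_) ?_
  · refine Finset.prod_congr rfl fun i _ => ?_
    have : (ι h i = 1) ↔ h ∈ C i := QuotientGroup.eq_one_iff h
    by_cases hh : h ∈ C i
    · rw [if_pos hh, if_pos (this.mpr hh)]
    · rw [if_neg hh, if_neg (fun h' => hh (this.mp h'))]
  · have hpos : (Fintype.card (∀ i, H ⧸ C i) : ℝ) ≠ 0 := by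
      have : 0 < Fintype.card (∀ i, H ⧸ C i) := Fintype.card_pos
      exact_mod_cast this.ne'
    field_simp

end Cfsg.Agent.Lib.H1.KGV
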