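/-
S4591 piece E (architect helper20): a normal subgroup `M` with `M ∩ P ≤ P'` has a normal `p`-complement (Tate, S0081),
which is normal in `G`, and `M = N₀ (M ∩ P)`.
-/
import Mathlib
import Cfsg.Agent.S0081
import Cfsg.Agent.Lib.H1.PGroupBasic

set_option autoImplicit false

namespace Cfsg.Agent.Lib.H1.KPP

open Cfsg

variable {G : Type*} [Group G] [Fintype G] (p : ℕ) [hp : Fact p.Prime]

/-- the intersection of a Sylow subgroup with a normal subgroup has index prime to `p` there -/
theorem not_dvd_index_subgroupOf' (N : Subgroup G) [N.Normal] (P : Sylow p G) :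
    ¬ p ∣ ((P : Subgroup G).subgroupOf N).index := by
  have h1 : (P : Subgroup G).relIndex N = (P : Subgroup G).relIndex ((P : Subgroup G) ⊔ N) := by
    have e1 : ((P : Subgroup G) ⊓ N).relIndex N * N.relIndex ((P : Subgroup G) ⊔ N) =
        ((P : Subgroup G) ⊓ N).relIndex ((P : Subgroup G) ⊔ N) :=
      Subgroup.relIndex_mul_relIndex _ _ _ inf_le_right le_sup_right
    have e2 : ((P : Subgroup G) ⊓ N).relIndex P * (P : Subgroup G).relIndex ((P : Subgroup G) ⊔ N) =
        ((P : Subgroup G) ⊓ N).relIndex ((P : Subgroup G) ⊔ N) :=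
      Subgroup.relIndex_mul_relIndex _ _ _ inf_le_left le_sup_left
    rw [Subgroup.inf_relIndex_right, Subgroup.relIndex_sup_right] at e1
    rw [Subgroup.inf_relIndex_left] at e2
    have hne : N.relIndex (P : Subgroup G) ≠ 0 := Subgroup.index_ne_zero_of_finite
    have e3 : N.relIndex (P : Subgroup G) * (P : Subgroup G).relIndex N =
        N.relIndex (P : Subgroup G) * (P : Subgroup G).relIndex ((P : Subgroup G) ⊔ N) := by
      rw [e2, ← e1, mul_comm]
    exact Nat.eq_of_mul_eq_mul_left (Nat.pos_of_ne_zero hne) e3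
  intro h2
  apply P.not_dvd_index
  have h3 : ((P : Subgroup G).subgroupOf N).index = (P : Subgroup G).relIndex N := rfl
  rw [h3, h1] at h2
  exact h2.trans (Subgroup.relIndex_dvd_index_of_le le_sup_left)

/-- E (Tate): a normal subgroup `M` with `M ∩ P ≤ P'` has a normal `p`-complement, normal in `G`. -/
theorem exists_normal_complement (P : Sylow p G) (M : Subgroup G) [M.Normal]
    (h : M ⊓ (P : Subgroup G) ≤ ⁅(P : Subgroup G), (P : Subgroup G)⁆) :
    ∃ N₀ : Subgroup G, N₀.Normal ∧ N₀ ≤ M ∧ (Nat.card N₀).Coprime p ∧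
      M ≤ N₀ ⊔ (M ⊓ (P : Subgroup G)) := by
  classical
  have hpp : p.Prime := hp.out
  have hfr : M ⊓ (P : Subgroup G) ≤ (frattini ↥(P : Subgroup G)).map (P : Subgroup G).subtype := by
    refine h.trans ?_
    rw [← Subgroup.map_subtype_commutator]
    exact Subgroup.map_mono (Cfsg.Agent.Lib.H1.isPGroup_commutator_le_frattini P.2)
  obtain ⟨Q, K, hKn, hKQ⟩ := Cfsg.Agent.S0081.result P M hfr
  -- orders
  have hidxK : K.index = Nat.card (Q : Subgroup ↥M) := hKQ.symm.index_eq_card
  have hidxQ : (Q : Subgroup ↥M).index = Nat.card K := hKQ.index_eq_card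
  obtain ⟨v, hv⟩ := IsPGroup.iff_card.mp Q.2
  have hKp : ¬ p ∣ Nat.card K := by
    rw [← hidxQ]
    exact Q.not_dvd_index
  have hKcop : (Nat.card K).Coprime p := (Nat.Coprime.symm ((Nat.Prime.coprime_iff_not_dvd hpp).mpr hKp))
  have hcop : (Nat.card K).Coprime K.index := by
    rw [hidxK, hv]
    exact Nat.Coprime.pow_right v hKcop
  -- characterisation of `K`
  have hchar : ∀ x : ↥M, x ∈ K ↔ x ^ Nat.card K = 1 := by
    intro x
    constructor
    · intro hx
      have := pow_card_eq_one' (G := ↥K) (x := ⟨x, hx⟩)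
      exact congrArg Subtype.val this
    · intro hx
      have h1 : ((x : ↥M) : ↥M ⧸ K) ^ Nat.card K = 1 := by
        rw [← QuotientGroup.mk_pow, hx, QuotientGroup.mk_one]
      have h2 : ((x : ↥M) : ↥M ⧸ K) ^ K.index = 1 := by
        rw [Subgroup.index_eq_card]
        exact pow_card_eq_one'
      have h3 : ((x : ↥M) : ↥M ⧸ K) ^ Nat.gcd (Nat.card K) K.index = 1 :=
        pow_gcd_eq_one.mpr ⟨h1, h2⟩
      rw [hcop, pow_one] at h3
      exact (QuotientGroup.eq_one_iff x).mp h3
  refine ⟨K.map M.subtype, ?_, Subgroup.map_subtype_le K, ?_, ?_⟩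
  · constructor
    rintro _ ⟨x, hx, rfl⟩ g
    have hxm : g * (x : G) * g⁻¹ ∈ M := (inferInstance : M.Normal).conj_mem _ x.2 g
    refine ⟨⟨_, hxm⟩, ?_, rfl⟩
    rw [SetLike.mem_coe, hchar] at hx ⊢
    apply Subtype.ext
    have h1 : ((x ^ Nat.card K : ↥M) : G) = 1 := by rw [hx]; rfl
    rw [Subgroup.coe_pow] at h1
    rw [Subgroup.coe_pow, Subgroup.coe_mk, conj_pow, h1, mul_one, mul_inv_cancel]
    rfl
  · rw [Subgroup.card_map_of_injective M.subtype_injective]
    exact hKcop
  · -- `K ⊔ (P ∩ M) = ⊤` in `M`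
    have hL : K ⊔ (P : Subgroup G).subgroupOf M = ⊤ := by
      rw [← Subgroup.index_eq_one]
      have d1 : (K ⊔ (P : Subgroup G).subgroupOf M).index ∣ p ^ v := by
        rw [← hv, ← hidxK]
        exact Subgroup.index_dvd_of_le le_sup_left
      have d2 : (K ⊔ (P : Subgroup G).subgroupOf M).index ∣ ((P : Subgroup G).subgroupOf M).index :=
        Subgroup.index_dvd_of_le le_sup_right
      obtain ⟨k, -, hk⟩ := (Nat.dvd_prime_pow hpp).mp d1
      rcases Nat.eq_zero_or_pos k with rfl | hk0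
      · rw [hk, pow_zero]
      · exfalso
        apply not_dvd_index_subgroupOf' p M P
        refine dvd_trans ?_ d2
        rw [hk]
        exact dvd_pow_self p hk0.ne'
    intro x hx
    have h1 : (⟨x, hx⟩ : ↥M) ∈ K ⊔ (P : Subgroup G).subgroupOf M := by
      rw [hL]
      exact Subgroup.mem_top _
    have h2 := Subgroup.mem_map_of_mem M.subtype h1
    rw [Subgroup.map_sup, Subgroup.subgroupOf_map_subtype, inf_comm] at h2
    exact h2

end Cfsg.Agent.Lib.H1.KPP
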