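/-
S4591 piece B1 (architect helper20): a normal subgroup meeting `C_G(P)` trivially is a `p'`-group.
-/
import Cfsg.Agent.Lib.H1.KPPE
import Cfsg.Agent.Lib.H1.NilpotentBasic

set_option autoImplicit false

namespace Cfsg.Agent.Lib.H1.KPP

open Cfsg

variable {G : Type*} [Group G] [Fintype G] (p : ℕ) [hp : Fact p.Prime]

/-- B1: a normal subgroup meeting `C_G(P)` trivially is a `p'`-group. -/
theorem card_coprime_of_inf_centralizer (P : Sylow p G) (L : Subgroup G) [L.Normal]
    (hL : L ⊓ Subgroup.centralizer ((P : Subgroup G) : Set G) = ⊥) : (Nat.card L).Coprime p := by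
  have hpp : p.Prime := hp.out
  rw [Nat.coprime_comm, Nat.Prime.coprime_iff_not_dvd hpp]
  intro hdvd
  have hDne : L.subgroupOf (P : Subgroup G) ≠ ⊥ := by
    intro h0
    rw [Subgroup.subgroupOf_eq_bot] at h0
    have h1 : (P : Subgroup G).subgroupOf L = ⊥ := by
      rw [Subgroup.subgroupOf_eq_bot]
      exact h0.symm
    apply not_dvd_index_subgroupOf' p L P
    rw [h1, Subgroup.index_bot]
    exact hdvd
  have : Group.IsNilpotent ↥(P : Subgroup G) := P.2.isNilpotent
  have h2 := Cfsg.Agent.Lib.H1.normal_inf_center_ne_bot (L.subgroupOf (P : Subgroup G)) hDne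
  obtain ⟨z, hz1⟩ := (Subgroup.ne_bot_iff_exists_ne_one).mp h2
  apply hz1
  have hzL : (z : ↥(P : Subgroup G)) ∈ L.subgroupOf (P : Subgroup G) := z.2.1
  have hzc : (z : ↥(P : Subgroup G)) ∈ Subgroup.center ↥(P : Subgroup G) := z.2.2
  have h3 : (((z : ↥(P : Subgroup G)) : ↥(P : Subgroup G)) : G) ∈
      L ⊓ Subgroup.centralizer ((P : Subgroup G) : Set G) := by
    refine Subgroup.mem_inf.mpr ⟨Subgroup.mem_subgroupOf.mp hzL, ?_⟩
    rw [Subgroup.mem_centralizer_iff]
    intro g hg
    have h4 := (Subgroup.mem_center_iff.mp hzc) ⟨g, hg⟩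
    exact congrArg Subtype.val h4
  rw [hL, Subgroup.mem_bot] at h3
  apply Subtype.ext
  apply Subtype.ext
  exact h3

end Cfsg.Agent.Lib.H1.KPP
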