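import Mathlib
import Cfsg.Agent.Lib.H23.DegreeDvd
import Cfsg.Agent.Lib.L0.CharBasic
import Cfsg.Agent.Lib.L0.CharLinear
import Cfsg.Agent.Lib.L0.CharOps
import Cfsg.Agent.Lib.L0.CharDecomp

/-!
# S4591 piece C2 (helper1): a `p'`-degree irreducible character has nonzero sum over any
subgroup of the derived subgroup of a Sylow `p`-subgroup.

The restriction of `χ` to `P` has a linear constituent (degrees of irreducible characters of a
`p`-group are powers of `p`, and `χ 1` is prime to `p`); a linear character is trivial on `P'`,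
so the trivial character of `R ≤ P'` is a constituent of `χ|_R`.
-/

set_option autoImplicit false

namespace Cfsg.Agent.Lib.H1.KPP

open Cfsg Cfsg.Agent.Lib.L0 Cfsg.Agent.Lib.H23
open scoped ComplexConjugate

/-- the value at `1` of a sum of irreducible characters, all of degree divisible by `p` -/
theorem list_sum_apply_one_dvd' {H : Type*} [Group H] [Finite H] (p : ℕ) :
    ∀ l : List (H → ℂ), (∀ ψ ∈ l, IsIrrCharacter H ψ) → (∀ ψ ∈ l, p ∣ charDegree ψ) →
      ∃ n : ℕ, l.sum 1 = (n : ℂ) ∧ p ∣ n := by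
  intro l
  induction l with
  | nil => intro _ _; exact ⟨0, by simp, dvd_zero p⟩
  | cons ψ l ih =>
    intro hl hd
    obtain ⟨n, hn, hpn⟩ := ih (fun φ hφ => hl φ (List.mem_cons_of_mem _ hφ))
      (fun φ hφ => hd φ (List.mem_cons_of_mem _ hφ))
    refine ⟨charDegree ψ + n, ?_, dvd_add (hd ψ List.mem_cons_self) hpn⟩
    rw [List.sum_cons, Pi.add_apply, hn, apply_one_eq_charDegree ψ (hl ψ List.mem_cons_self)]
    push_cast
    rfl

/-- a list of natural numbers (in `ℂ`) containing `1` has nonzero sum -/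
theorem list_sum_ne_zero_of_nat (l : List ℂ) (hl : ∀ z ∈ l, ∃ n : ℕ, z = n) (h1 : (1 : ℂ) ∈ l) :
    l.sum ≠ 0 := by
  have key : ∀ l : List ℂ, (∀ z ∈ l, ∃ n : ℕ, z = n) →
      ∃ n : ℕ, l.sum = n ∧ ∀ m : ℕ, (m : ℂ) ∈ l → m ≤ n := by
    intro l
    induction l with
    | nil => intro _; exact ⟨0, by simp, by simp⟩
    | cons a l ih =>
      intro h
      obtain ⟨n, hn, hle⟩ := ih (fun z hz => h z (List.mem_cons_of_mem _ hz))
      obtain ⟨k, hk⟩ := h a List.mem_cons_self
      refine ⟨k + n, by rw [List.sum_cons, hn, hk]; push_cast; rfl, ?_⟩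
      intro m hm
      rcases List.mem_cons.mp hm with h' | h'
      · have : m = k := by
          rw [hk] at h'
          exact_mod_cast h'
        omega
      · have := hle m h'
        omega
  obtain ⟨n, hn, hle⟩ := key l hl
  have h1n : 1 ≤ n := hle 1 (by simpa using h1)
  rw [hn]
  exact_mod_cast (by omega : n ≠ 0)

/-- composing a list sum of functions with a map -/
theorem list_sum_comp {A B : Type*} (f : A → B) (l : List (B → ℂ)) :
    (l.map fun ψ => ψ ∘ f).sum = l.sum ∘ f := by
  induction l with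
  | nil => rfl
  | cons a l ih =>
    rw [List.map_cons, List.sum_cons, List.sum_cons, ih]
    rfl

variable {G : Type*} [Group G] [Fintype G] (p : ℕ) [hp : Fact p.Prime]

/-- C2: a `p'`-degree irreducible character has nonzero sum over any subgroup of `P'`. -/
theorem sum_ne_zero_of_le_commutator (P : Sylow p G) (χ : G → ℂ) (hχ : IsIrrCharacter G χ)
    (hdeg : ¬ p ∣ charDegree χ) (R : Subgroup G) [Fintype R]
    (hR : R ≤ ⁅(P : Subgroup G), (P : Subgroup G)⁆) : ∑ r : R, χ r ≠ 0 := by
  classical
  have hPP : ⁅(P : Subgroup G), (P : Subgroup G)⁆ ≤ (P : Subgroup G) :=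
    Subgroup.commutator_le_self _
  have hRP : R ≤ (P : Subgroup G) := hR.trans hPP
  -- restriction to `P`
  have hχP : IsCharacter (P : Subgroup G) (fun x : (P : Subgroup G) => χ x) :=
    isCharacter_restrict (P : Subgroup G) (isCharacter_of_irr hχ)
  obtain ⟨l, hl, hsum⟩ := isCharacter_exists_irr_decomp hχP
  -- a constituent of degree prime to `p`
  have hex : ∃ μ ∈ l, ¬ p ∣ charDegree μ := by
    by_contra hcon
    push Not at hcon
    obtain ⟨n, hn, hpn⟩ := list_sum_apply_one_dvd' p l hl hcon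
    have h1 : (fun x : (P : Subgroup G) => χ x) 1 = (n : ℂ) := by rw [hsum]; exact hn
    have h2 : χ 1 = (n : ℂ) := h1
    rw [apply_one_eq_charDegree χ hχ] at h2
    have h3 : charDegree χ = n := by exact_mod_cast h2
    exact hdeg (h3 ▸ hpn)
  obtain ⟨μ, hμl, hμp⟩ := hex
  have hμ := hl μ hμl
  -- its degree is `1`
  have hμ1 : charDegree μ = 1 := by
    obtain ⟨k, hk⟩ := IsPGroup.iff_card.mp P.2
    have hd := charDegree_dvd_card μ hμ
    rw [hk] at hd
    obtain ⟨m, _, hm⟩ := (Nat.dvd_prime_pow hp.out).mp hd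
    rcases Nat.eq_zero_or_pos m with h0 | h0
    · rw [hm, h0, pow_zero]
    · exact absurd (hm ▸ dvd_pow_self p (by omega)) hμp
  have hμone : μ 1 = 1 := by
    rw [apply_one_eq_charDegree μ hμ, hμ1]; simp
  -- the linear character is trivial on the derived subgroup
  let f : (P : Subgroup G) →* ℂˣ := linearCharHom (isCharacter_of_irr hμ) hμone
  have hfker : ∀ x : (P : Subgroup G), x ∈ _root_.commutator (P : Subgroup G) → μ x = 1 := by
    intro x hx
    have h1 : f x = 1 := MonoidHom.mem_ker.mp (Abelianization.commutator_subset_ker f hx)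
    have h2 : (f x : ℂ) = μ x := linearCharHom_apply (isCharacter_of_irr hμ) hμone x
    rw [← h2, h1]; rfl
  let ι : R →* (P : Subgroup G) := Subgroup.inclusion hRP
  have hμι : μ ∘ ι = (1 : R → ℂ) := by
    funext r
    have hr : (r : G) ∈ ⁅(P : Subgroup G), (P : Subgroup G)⁆ := hR r.2
    rw [← Subgroup.map_subtype_commutator] at hr
    obtain ⟨y, hy, hyr⟩ := hr
    have : ι r = y := Subtype.ext hyr.symm
    show μ (ι r) = 1
    rw [this]
    exact hfker y hy
  -- the restriction to `R`
  have hres : (fun r : R => χ r) = (l.map fun ψ => ψ ∘ ι).sum := by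
    rw [list_sum_comp, ← hsum]
    rfl
  have hin : classInner (fun r : R => χ r) (1 : R → ℂ) ≠ 0 := by
    rw [hres, classInner_list_sum_left]
    apply list_sum_ne_zero_of_nat
    · intro z hz
      obtain ⟨φ, hφ, rfl⟩ := List.mem_map.mp hz
      obtain ⟨ψ, hψ, rfl⟩ := List.mem_map.mp hφ
      exact classInner_char_irr_nat (isCharacter_comp ι (isCharacter_of_irr (hl ψ hψ)))
        isIrrCharacter_one
    · refine List.mem_map.mpr ⟨μ ∘ ι, List.mem_map.mpr ⟨μ, hμl, rfl⟩, ?_⟩
      rw [hμι]
      exact irr_classInner_self isIrrCharacter_one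
  intro h0
  apply hin
  unfold classInner
  have : ∑ g : R, (fun r : R => χ r) g * conj ((1 : R → ℂ) g) = ∑ r : R, χ r := by
    apply Finset.sum_congr rfl
    intro r _
    simp
  rw [this, h0, mul_zero]

end Cfsg.Agent.Lib.H1.KPP
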