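import Mathlib
import Cfsg.Agent.Lib.H2.KRDEFS

/-!
# S4651, piece C4 (helper1)

In a finite `p`-group a subgroup whose normal closure is everything is everything.
-/

set_option autoImplicit false

namespace Cfsg.Agent.Lib.H1.KR

open Cfsg Cfsg.Agent.Lib.H2.KR
open scoped Classical

section chains

variable {G : Type*} [Group G] [Finite G] {p : ℕ} [Fact p.Prime]

/-- A proper subgroup of a finite `p`-subgroup `T` lies in a proper subgroup normalized by `T`. -/
theorem exists_normal_proper_of_ne {T : Subgroup G} (hT : IsPGroup p T) :
    ∀ (n : ℕ) (A : Subgroup G), A ≤ T → A ≠ T → Nat.card T - Nat.card A ≤ n →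
      ∃ N : Subgroup G, A ≤ N ∧ N ≤ T ∧ T ≤ Subgroup.normalizer (N : Set G) ∧ N ≠ T := by
  intro n
  induction n with
  | zero =>
    intro A hAT hne hn
    exfalso
    apply hne
    exact Subgroup.eq_of_le_of_card_ge hAT (by omega)
  | succ n ih =>
    intro A hAT hne hn
    by_cases hnorm : T ≤ Subgroup.normalizer (A : Set G)
    · exact ⟨A, le_rfl, hAT, hnorm, hne⟩
    · set B := Subgroup.normalizer (A : Set G) ⊓ T with hB
      have hAB : A ≤ B := le_inf Subgroup.le_normalizer hAT
      have hBT : B ≤ T := inf_le_right
      have hBne : B ≠ T := by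
        intro h
        apply hnorm
        rw [← h]; exact inf_le_left
      have hlt : A ≠ B := by
        have : Group.IsNilpotent T := hT.isNilpotent
        have hnc := Group.normalizerCondition_of_isNilpotent (G := T)
        have h1 : A.subgroupOf T < ⊤ := by
          rw [lt_top_iff_ne_top]
          intro h
          rw [Subgroup.subgroupOf_eq_top] at h
          exact hne (le_antisymm hAT h)
        have h2 := hnc _ h1
        rw [← Subgroup.subgroupOf_normalizer_eq hAT] at h2
        intro hEq
        apply h2.ne
        rw [← Subgroup.inf_subgroupOf_right (Subgroup.normalizer (A : Set G)) T, ← hB, ← hEq]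
      have hcard : Nat.card A < Nat.card B := by
        by_contra hcon
        exact hlt (Subgroup.eq_of_le_of_card_ge hAB (by omega))
      have hBTc : Nat.card B ≤ Nat.card T := Subgroup.card_le_of_le hBT
      obtain ⟨N, hBN, hNT, hTN, hNne⟩ := ih B hBT hBne (by omega)
      exact ⟨N, hAB.trans hBN, hNT, hTN, hNne⟩

/-- (C4 PG) in a finite `p`-group a subgroup whose normal closure is everything is everything. -/
theorem eq_of_forall_normal_eq {T A : Subgroup G} (hT : IsPGroup p T) (hAT : A ≤ T)
    (h : ∀ N : Subgroup G, A ≤ N → N ≤ T → T ≤ Subgroup.normalizer (N : Set G) → N = T) :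
    A = T := by
  by_contra hne
  obtain ⟨N, hAN, hNT, hTN, hNne⟩ := exists_normal_proper_of_ne hT _ A hAT hne le_rfl
  exact hNne (h N hAN hNT hTN)

end chains

end Cfsg.Agent.Lib.H1.KR
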