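/-
S0406 piece LC-EQ (helper1, for helper27): the transported coordinate lattice is all of `leechLattice`.
-/
import Cfsg.Agent.Lib.H27.LCDefs
import Cfsg.Agent.S0394
import Cfsg.Agent.S1567

set_option autoImplicit false

namespace Cfsg.Agent.Lib.H1.LC

open Cfsg Cfsg.Agent.Lib.H27.LC

variable {Λ : AddSubgroup (Fin 24 → ℤ)}

theorem exists_tr_eq (e : Fin 24 ≃ GolayPt) (s : Fin 24 → ℤ) (hs : ∀ i, s i = 1 ∨ s i = -1)
    (hsub : ∀ c ∈ Λ, tr e s c ∈ leechLattice)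
    (hcount : {c : Fin 24 → ℤ | c ∈ Λ ∧ nrm c = 32}.ncard = 196560)
    (x : GolayPt → ℤ) (hx : x ∈ leechLattice) : ∃ c ∈ Λ, tr e s c = x := by
  set S : Set (Fin 24 → ℤ) := {c : Fin 24 → ℤ | c ∈ Λ ∧ nrm c = 32} with hS
  set T : Set (GolayPt → ℤ) := {x : GolayPt → ℤ | x ∈ leechLattice ∧ sqNorm x = 32} with hT
  have hTcard : T.ncard = 196560 := Cfsg.Agent.S0394.result
  have hTfin : T.Finite := Set.finite_of_ncard_ne_zero (by rw [hTcard]; norm_num)
  have himg : tr e s '' S ⊆ T := by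
    rintro _ ⟨c, ⟨hc, hn⟩, rfl⟩
    exact ⟨hsub c hc, by rw [sqNorm_tr e s hs, hn]⟩
  have hcard : (tr e s '' S).ncard = S.ncard :=
    Set.ncard_image_of_injective S (tr_injective e s hs)
  have heq : tr e s '' S = T :=
    Set.eq_of_subset_of_ncard_le himg (by rw [hcard, hcount, hTcard]) hTfin
  -- the image of Λ as an additive subgroup
  let f : (Fin 24 → ℤ) →+ (GolayPt → ℤ) :=
    { toFun := tr e s
      map_zero' := tr_zero e s
      map_add' := tr_add e s }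
  have hle : leechLattice ≤ Λ.map f := by
    rw [← Cfsg.Agent.S1567.result, AddSubgroup.closure_le]
    intro y hy
    have hy' : y ∈ tr e s '' S := by rw [heq]; exact hy
    obtain ⟨c, ⟨hc, _⟩, rfl⟩ := hy'
    exact ⟨c, hc, rfl⟩
  obtain ⟨c, hc, hcx⟩ := hle hx
  exact ⟨c, hc, hcx⟩

end Cfsg.Agent.Lib.H1.LC
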