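/-
S0406 piece LC-INCL (helper1, for helper27): the sign-normalised, permuted vectors of a Leech-like lattice
whose code is the Golay code lie in `leechSet`.
-/
import Cfsg.Agent.Lib.H27.LCDefs

set_option autoImplicit false

namespace Cfsg.Agent.Lib.H1.LC

open Cfsg Cfsg.Agent.Lib.H27.LC

variable {Λ : AddSubgroup (Fin 24 → ℤ)}

theorem incl_dot_dvd (h : LeechLike Λ) {c d : Fin 24 → ℤ} (hc : c ∈ Λ) (hd : d ∈ Λ) :
    (8 : ℤ) ∣ ∑ i, c i * d i := by
  have h1 := h.h16 _ (Λ.add_mem hc hd)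
  have h2 := h.h16 _ hc
  have h3 := h.h16 _ hd
  rw [nrm_add] at h1
  omega

theorem incl_one_mem_golayCode : (1 : GolayPt → ZMod 2) ∈ golayCode :=
  Submodule.subset_span (Or.inr rfl)

theorem tr_mem_leechSet_aux (h : LeechLike Λ) (e : Fin 24 ≃ GolayPt)
    (he : ∀ w : GolayPt → ZMod 2, w ∈ golayCode ↔ (fun i => w (e i)) ∈ codeOf Λ)
    {c₀ : Fin 24 → ℤ} (hc₀ : c₀ ∈ Λ) (hodd : ∀ i, c₀ i % 2 = 1)
    (d : Fin 24 → ℤ) (hd : (fun i => 2 * d i) ∈ Λ) (m : ℤ) (hm : m = 0 ∨ m = 1)
    (c : Fin 24 → ℤ) (hcd : ∀ i, c i = 2 * d i + m * c₀ i) :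
    tr e (sgn c₀) c ∈ leechSet := by
  set s := sgn c₀ with hsdef
  have hs : ∀ i, s i = 1 ∨ s i = -1 := sgn_eq c₀
  have ha : ∀ i, (s i * c₀ i) % 4 = 1 := by
    intro i
    have := hodd i
    simp only [hsdef, sgn]
    split_ifs with h1
    · omega
    · omega
  have hx4 : ∀ i, (s i * c i) % 4 = (2 * d i + m) % 4 := by
    intro i
    have h1 := ha i
    have h2 := hcd i
    rcases hs i with h3 | h3 <;> rcases hm with rfl | rfl <;> rw [h3] at h1 ⊢ <;> omega
  refine ⟨m, ?_, ?_, ?_⟩
  · intro p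
    show tr e s c p % 2 = m % 2
    rw [tr_apply]
    have := hx4 (e.symm p)
    omega
  · -- the coordinate sum
    have hsum : ∑ p, tr e s c p = ∑ i, s i * c i := by
      rw [← Equiv.sum_comp e]
      refine Finset.sum_congr rfl fun i _ => ?_
      simp [tr_apply]
    have h2a : (8 : ℤ) ∣ ∑ i, s i * (2 * d i) := by
      have hdot : (8 : ℤ) ∣ ∑ i, (2 * d i) * c₀ i := incl_dot_dvd h hd hc₀
      have hdiff : (8 : ℤ) ∣ ∑ i, (s i * (2 * d i) - (2 * d i) * c₀ i) := by
        apply Finset.dvd_sum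
        intro i _
        have h4 : (4 : ℤ) ∣ s i - c₀ i := by
          have := ha i
          rcases hs i with h3 | h3 <;> rw [h3] at this ⊢ <;> omega
        obtain ⟨u, hu⟩ := h4
        refine ⟨d i * u, ?_⟩
        rw [show s i * (2 * d i) - 2 * d i * c₀ i = 2 * d i * (s i - c₀ i) by ring, hu]
        ring
      rw [Finset.sum_sub_distrib] at hdiff
      have := dvd_add hdiff hdot
      rwa [sub_add_cancel] at this
    have h2b : (∑ i, s i * c₀ i) % 8 = 4 := by
      let t : Fin 24 → ℤ := fun i => (s i * c₀ i) / 4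
      have hat : ∀ i, s i * c₀ i = 1 + 4 * t i := by
        intro i
        have := ha i
        show s i * c₀ i = 1 + 4 * ((s i * c₀ i) / 4)
        omega
      have hn : nrm c₀ = 24 + 8 * ∑ i, t i + 16 * ∑ i, t i ^ 2 := by
        unfold nrm
        have hsq : ∀ i, c₀ i ^ 2 = 1 + 8 * t i + 16 * t i ^ 2 := by
          intro i
          have h1 : c₀ i ^ 2 = (s i * c₀ i) ^ 2 := by
            rcases hs i with h3 | h3 <;> rw [h3] <;> ring
          rw [h1, hat i]; ring
        rw [Finset.sum_congr rfl (fun i _ => hsq i), Finset.sum_add_distrib,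
          Finset.sum_add_distrib, ← Finset.mul_sum, ← Finset.mul_sum]
        simp
      have h16 := h.h16 _ hc₀
      rw [hn] at h16
      have hsum' : ∑ i, s i * c₀ i = 24 + 4 * ∑ i, t i := by
        rw [Finset.sum_congr rfl (fun i _ => hat i), Finset.sum_add_distrib, ← Finset.mul_sum]
        simp
      rw [hsum']
      omega
    have hsplit : ∑ i, s i * c i = ∑ i, s i * (2 * d i) + m * ∑ i, s i * c₀ i := by
      rw [Finset.mul_sum, ← Finset.sum_add_distrib]
      refine Finset.sum_congr rfl fun i _ => ?_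
      rw [hcd i]; ring
    show (∑ p, tr e s c p) % 8 = (4 * m) % 8
    rw [hsum, hsplit]
    rcases hm with rfl | rfl <;> omega
  · intro k
    let w : Fin 24 → ZMod 2 := fun i => ((d i : ℤ) : ZMod 2)
    have hw : w ∈ codeOf Λ := mem_codeOf.2 ⟨d, hd, fun i => rfl⟩
    let w' : GolayPt → ZMod 2 := fun p => w (e.symm p)
    have hw' : w' ∈ golayCode := by
      rw [he]
      have : (fun i => w' (e i)) = w := by funext i; simp [w']
      rw [this]; exact hw
    have hw'p : ∀ p, w' p ≠ 0 ↔ d (e.symm p) % 2 = 1 := by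
      intro p
      show ((d (e.symm p) : ℤ) : ZMod 2) ≠ 0 ↔ _
      rw [Ne, ZMod.intCast_zmod_eq_zero_iff_dvd]
      push_cast
      omega
    have hxp : ∀ p, (tr e s c p ≡ k [ZMOD 4]) ↔ (2 * d (e.symm p) + m) % 4 = k % 4 := by
      intro p
      unfold Int.ModEq
      rw [tr_apply, hx4]
    have hz : ∀ z : ZMod 2, z + 1 ≠ 0 ↔ ¬ (z ≠ 0) := by decide
    have hkm : (k - m) % 4 = 0 ∨ (k - m) % 4 = 1 ∨ (k - m) % 4 = 2 ∨ (k - m) % 4 = 3 := by omega
    rcases hkm with hk | hk | hk | hk
    · refine ⟨w' + 1, golayCode.add_mem hw' incl_one_mem_golayCode, ?_⟩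
      ext p
      simp only [support₂, Finset.mem_filter, Finset.mem_univ, true_and, Pi.add_apply, Pi.one_apply]
      rw [hxp, hz, hw'p]
      omega
    · refine ⟨0, golayCode.zero_mem, ?_⟩
      ext p
      simp only [support₂, Finset.mem_filter, Finset.mem_univ, true_and, Pi.zero_apply, ne_eq,
        not_true_eq_false]
      rw [hxp, false_iff]
      omega
    · refine ⟨w', hw', ?_⟩
      ext p
      simp only [support₂, Finset.mem_filter, Finset.mem_univ, true_and]
      rw [hxp, hw'p]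
      omega
    · refine ⟨0, golayCode.zero_mem, ?_⟩
      ext p
      simp only [support₂, Finset.mem_filter, Finset.mem_univ, true_and, Pi.zero_apply, ne_eq,
        not_true_eq_false]
      rw [hxp, false_iff]
      omega

theorem tr_mem_leechSet (h : LeechLike Λ) (e : Fin 24 ≃ GolayPt)
    (he : ∀ w : GolayPt → ZMod 2, w ∈ golayCode ↔ (fun i => w (e i)) ∈ codeOf Λ)
    {c₀ : Fin 24 → ℤ} (hc₀ : c₀ ∈ Λ) (hodd : ¬ (2 : ℤ) ∣ c₀ 0) {c : Fin 24 → ℤ} (hc : c ∈ Λ) :
    tr e (sgn c₀) c ∈ leechSet := by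
  have hodd' : ∀ i, c₀ i % 2 = 1 := by
    intro i
    have := h.hpar c₀ hc₀ i 0
    omega
  by_cases hc0 : (2 : ℤ) ∣ c 0
  · have heven : ∀ i, (2 : ℤ) ∣ c i := by
      intro i
      have := h.hpar c hc i 0
      omega
    refine tr_mem_leechSet_aux h e he hc₀ hodd' (fun i => c i / 2) ?_ 0 (Or.inl rfl) c ?_
    · have : (fun i => 2 * (c i / 2)) = c := by
        funext i
        have := heven i
        omega
      rw [this]; exact hc
    · intro i
      show c i = 2 * (c i / 2) + 0 * c₀ i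
      have := heven i
      omega
  · have hcodd : ∀ i, c i % 2 = 1 := by
      intro i
      have := h.hpar c hc i 0
      omega
    refine tr_mem_leechSet_aux h e he hc₀ hodd' (fun i => (c i - c₀ i) / 2) ?_ 1 (Or.inr rfl) c ?_
    · have : (fun i => 2 * ((c i - c₀ i) / 2)) = c - c₀ := by
        funext i
        have h1 := hcodd i
        have h2 := hodd' i
        simp only [Pi.sub_apply]
        omega
      rw [this]; exact Λ.sub_mem hc hc₀
    · intro i
      show c i = 2 * ((c i - c₀ i) / 2) + 1 * c₀ i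
      have h1 := hcodd i
      have h2 := hodd' i
      omega

end Cfsg.Agent.Lib.H1.LC
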