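import Mathlib

set_option autoImplicit false

/-!
# The lower central series in classical indexing, and the graded pieces `Γ_w / Γ_{w+1}`
-/

namespace Cfsg.Agent.Lib.H1.LieG

open Subgroup
open scoped commutatorElement

variable (G : Type*) [Group G]

/-- lower central series in classical indexing: `Gam 0 = Gam 1 = ⊤`, `Gam (w+1) = γ_w` -/
def Gam : ℕ → Subgroup G
  | 0 => ⊤
  | (w + 1) => (⊤ : Subgroup G).lowerCentralSeries w

@[simp] theorem Gam_zero : Gam G 0 = ⊤ := rfl
@[simp] theorem Gam_one : Gam G 1 = ⊤ := rfl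
theorem Gam_succ (w : ℕ) : Gam G (w + 1) = (⊤ : Subgroup G).lowerCentralSeries w := rfl

instance Gam_normal (w : ℕ) : (Gam G w).Normal := by
  cases w with
  | zero => exact inferInstanceAs (⊤ : Subgroup G).Normal
  | succ w => exact inferInstanceAs ((⊤ : Subgroup G).lowerCentralSeries w).Normal

instance Gam_characteristic (w : ℕ) : (Gam G w).Characteristic := by
  cases w with
  | zero => exact inferInstanceAs (⊤ : Subgroup G).Characteristic
  | succ w => exact inferInstanceAs ((⊤ : Subgroup G).lowerCentralSeries w).Characteristic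

theorem Gam_succ_le (w : ℕ) : Gam G (w + 1) ≤ Gam G w := by
  cases w with
  | zero => exact le_top
  | succ w => exact (Subgroup.lowerCentralSeries_antitone (⊤ : Subgroup G)) (Nat.le_succ w)

theorem Gam_anti {i j : ℕ} (h : i ≤ j) : Gam G j ≤ Gam G i := by
  induction h with
  | refl => exact le_rfl
  | step _ ih => exact (Gam_succ_le G _).trans ih

theorem comm_top_le (w : ℕ) : ⁅Gam G w, (⊤ : Subgroup G)⁆ ≤ Gam G (w + 1) := by
  cases w with
  | zero => exact le_top
  | succ w => exact le_rfl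

/-- three subgroups lemma, normal version -/
theorem three_subgroups (A B C N : Subgroup G) [N.Normal] (h1 : ⁅⁅B, C⁆, A⁆ ≤ N)
    (h2 : ⁅⁅C, A⁆, B⁆ ≤ N) : ⁅⁅A, B⁆, C⁆ ≤ N := by
  have hk : ∀ H : Subgroup G, H ≤ N → H.map (QuotientGroup.mk' N) = ⊥ := by
    intro H hH
    rw [eq_bot_iff]
    rintro _ ⟨x, hx, rfl⟩
    rw [mem_bot, QuotientGroup.mk'_apply, QuotientGroup.eq_one_iff]
    exact hH hx
  have e : ∀ X Y Z : Subgroup G, ⁅⁅X.map (QuotientGroup.mk' N), Y.map (QuotientGroup.mk' N)⁆,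
      Z.map (QuotientGroup.mk' N)⁆ = (⁅⁅X, Y⁆, Z⁆ : Subgroup G).map (QuotientGroup.mk' N) := by
    intro X Y Z
    rw [map_commutator, map_commutator]
  have hbot : (⁅⁅A, B⁆, C⁆ : Subgroup G).map (QuotientGroup.mk' N) = ⊥ := by
    rw [← e]
    refine commutator_commutator_eq_bot_of_rotate ?_ ?_
    · rw [e]; exact hk _ h1
    · rw [e]; exact hk _ h2
  intro x hx
  have hx' : QuotientGroup.mk' N x ∈ (⁅⁅A, B⁆, C⁆ : Subgroup G).map (QuotientGroup.mk' N) :=
    mem_map_of_mem _ hx
  rw [hbot, mem_bot, QuotientGroup.mk'_apply, QuotientGroup.eq_one_iff] at hx'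
  exact hx'

/-- `[γ_a, γ_b] ≤ γ_{a+b+1}` (Mathlib indexing) -/
theorem lcs_comm (b : ℕ) : ∀ a : ℕ,
    ⁅(⊤ : Subgroup G).lowerCentralSeries a, (⊤ : Subgroup G).lowerCentralSeries b⁆ ≤
      (⊤ : Subgroup G).lowerCentralSeries (a + b + 1) := by
  induction b with
  | zero => intro a; exact le_rfl
  | succ b ih =>
    intro a
    rw [Subgroup.lowerCentralSeries_succ, commutator_comm]
    refine three_subgroups G _ _ _ _ ?_ ?_
    · rw [commutator_comm (⊤ : Subgroup G)]
      have := ih (a + 1)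
      rw [← Subgroup.lowerCentralSeries_succ]
      have e : a + 1 + b + 1 = a + (b + 1) + 1 := by omega
      rw [e] at this
      exact this
    · have h1 := ih a
      have h2 : ⁅⁅(⊤ : Subgroup G).lowerCentralSeries a, (⊤ : Subgroup G).lowerCentralSeries b⁆,
          (⊤ : Subgroup G)⁆ ≤ ⁅(⊤ : Subgroup G).lowerCentralSeries (a + b + 1), ⊤⁆ :=
        commutator_mono h1 le_rfl
      exact h2

theorem comm_Gam_le (i j : ℕ) : ⁅Gam G i, Gam G j⁆ ≤ Gam G (i + j) := by
  cases i with
  | zero =>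
    rw [Nat.zero_add]
    exact commutator_le_right _ _
  | succ a =>
    cases j with
    | zero => exact commutator_le_left _ _
    | succ b =>
      have := lcs_comm G b a
      have e : a + 1 + (b + 1) = (a + b + 1) + 1 := by omega
      rw [e]
      exact this

variable {G}

theorem comm_mem {i j : ℕ} {g h : G} (hg : g ∈ Gam G i) (hh : h ∈ Gam G j) :
    ⁅g, h⁆ ∈ Gam G (i + j) :=
  comm_Gam_le G i j (commutator_mem_commutator hg hh)

theorem comm_mem_succ {w : ℕ} {g : G} (hg : g ∈ Gam G w) (x : G) : ⁅g, x⁆ ∈ Gam G (w + 1) :=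
  comm_top_le G w (commutator_mem_commutator hg (mem_top x))

theorem comm_mem_succ' {w : ℕ} {g : G} (hg : g ∈ Gam G w) (x : G) : ⁅x, g⁆ ∈ Gam G (w + 1) := by
  rw [← commutatorElement_inv]
  exact inv_mem (comm_mem_succ hg x)

theorem conj_mem {w : ℕ} {g : G} (hg : g ∈ Gam G w) (x : G) : x * g * x⁻¹ ∈ Gam G w :=
  (Gam_normal G w).conj_mem g hg x

theorem mem_of_succ {w : ℕ} {g : G} (hg : g ∈ Gam G (w + 1)) : g ∈ Gam G w :=
  Gam_succ_le G w hg

end Cfsg.Agent.Lib.H1.LieG
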