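import Mathlib
import Cfsg.Agent.Lib.H1.LieGa

set_option autoImplicit false

/-!
# The associated graded additive group of the lower central series
-/

namespace Cfsg.Agent.Lib.H1.LieG

open Subgroup
open scoped commutatorElement DirectSum

universe u

variable (G : Type u) [Group G]

/-- the multiplicative quotient `Γ_w / Γ_{w+1}` -/
abbrev Qw (w : ℕ) : Type u := Gam G w ⧸ (Gam G (w + 1)).subgroupOf (Gam G w)

instance Qw_commGroup (w : ℕ) : CommGroup (Qw G w) :=
  { (inferInstance : Group (Qw G w)) with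
    mul_comm := by
      intro a b
      induction a using QuotientGroup.induction_on with | _ a => ?_
      induction b using QuotientGroup.induction_on with | _ b => ?_
      rw [← QuotientGroup.mk_mul, ← QuotientGroup.mk_mul, QuotientGroup.eq, mem_subgroupOf]
      have h : (((a * b)⁻¹ * (b * a) : Gam G w) : G) = ⁅(b : G)⁻¹, (a : G)⁻¹⁆ := by
        simp [commutatorElement_def, mul_assoc]
      rw [h]
      exact comm_mem_succ (inv_mem b.2) _ }

/-- the additive version -/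
def Aw (w : ℕ) : Type u := Additive (Qw G w)

instance Aw_addCommGroup (w : ℕ) : AddCommGroup (Aw G w) :=
  inferInstanceAs (AddCommGroup (Additive (Qw G w)))

variable {G}

open Classical in
/-- class of `x` in `Γ_w / Γ_{w+1}` (junk value `0` if `x ∉ Γ_w`) -/
noncomputable def clsA (w : ℕ) (x : G) : Aw G w :=
  if h : x ∈ Gam G w then (Additive.ofMul (QuotientGroup.mk (⟨x, h⟩ : Gam G w)) : Additive (Qw G w))
  else 0

theorem clsA_of_mem {w : ℕ} {x : G} (h : x ∈ Gam G w) :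
    clsA w x = (Additive.ofMul (QuotientGroup.mk (⟨x, h⟩ : Gam G w)) : Additive (Qw G w)) := by
  unfold clsA
  exact dif_pos h

theorem clsA_mul {w : ℕ} {x y : G} (hx : x ∈ Gam G w) (hy : y ∈ Gam G w) :
    clsA w (x * y) = clsA w x + clsA w y := by
  rw [clsA_of_mem hx, clsA_of_mem hy, clsA_of_mem (mul_mem hx hy)]
  rfl

theorem clsA_one (w : ℕ) : clsA w (1 : G) = 0 := by
  rw [clsA_of_mem (one_mem _)]
  rfl

theorem clsA_inv {w : ℕ} {x : G} (hx : x ∈ Gam G w) : clsA w x⁻¹ = - clsA w x := by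
  rw [clsA_of_mem hx, clsA_of_mem (inv_mem hx)]
  rfl

theorem clsA_eq_iff {w : ℕ} {x y : G} (hx : x ∈ Gam G w) (hy : y ∈ Gam G w) :
    clsA w x = clsA w y ↔ x⁻¹ * y ∈ Gam G (w + 1) := by
  rw [clsA_of_mem hx, clsA_of_mem hy]
  constructor
  · intro h
    have h' : (QuotientGroup.mk (⟨x, hx⟩ : Gam G w) : Qw G w) = QuotientGroup.mk ⟨y, hy⟩ :=
      Additive.ofMul.injective h
    rw [QuotientGroup.eq, mem_subgroupOf] at h'
    exact h'
  · intro h
    have h' : (QuotientGroup.mk (⟨x, hx⟩ : Gam G w) : Qw G w) = QuotientGroup.mk ⟨y, hy⟩ := by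
      rw [QuotientGroup.eq, mem_subgroupOf]
      exact h
    rw [h']

theorem clsA_eq_zero_iff {w : ℕ} {x : G} (hx : x ∈ Gam G w) :
    clsA w x = 0 ↔ x ∈ Gam G (w + 1) := by
  rw [← clsA_one w, clsA_eq_iff hx (one_mem _), mul_one, inv_mem_iff]

theorem clsA_of_succ {w : ℕ} {x : G} (hx : x ∈ Gam G (w + 1)) : clsA w x = 0 :=
  (clsA_eq_zero_iff (mem_of_succ hx)).2 hx

theorem clsA_surj {w : ℕ} (a : Aw G w) : ∃ x, x ∈ Gam G w ∧ clsA w x = a := by
  obtain ⟨⟨x, hx⟩, hxa⟩ := QuotientGroup.mk_surjective (Additive.toMul (a : Additive (Qw G w)))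
  refine ⟨x, hx, ?_⟩
  rw [clsA_of_mem hx, hxa]
  rfl

/-- a representative -/
noncomputable def repA {w : ℕ} (a : Aw G w) : G := (clsA_surj a).choose

theorem repA_mem {w : ℕ} (a : Aw G w) : repA a ∈ Gam G w := (clsA_surj a).choose_spec.1

theorem clsA_repA {w : ℕ} (a : Aw G w) : clsA w (repA a) = a := (clsA_surj a).choose_spec.2

theorem clsA_conj {w : ℕ} {x : G} (hx : x ∈ Gam G w) (g : G) :
    clsA w (g * x * g⁻¹) = clsA w x := by
  rw [clsA_eq_iff (conj_mem hx g) hx]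
  have h : (g * x * g⁻¹)⁻¹ * x = ⁅g, x⁻¹⁆ := by
    simp [commutatorElement_def, mul_assoc]
  rw [h]
  exact comm_mem_succ' (inv_mem hx) g

theorem clsA_comm_left {i j : ℕ} {x n y : G} (hx : x ∈ Gam G i) (hn : n ∈ Gam G (i + 1))
    (hy : y ∈ Gam G j) : clsA (i + j) ⁅x * n, y⁆ = clsA (i + j) ⁅x, y⁆ := by
  rw [commutatorElement_mul_left_eq_conj_mul]
  have h1 : ⁅n, y⁆ ∈ Gam G (i + j + 1) := by
    have := comm_mem hn hy
    rwa [show i + 1 + j = i + j + 1 by omega] at this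
  have h2 : x * ⁅n, y⁆ * x⁻¹ ∈ Gam G (i + j + 1) := conj_mem h1 x
  rw [clsA_mul (mem_of_succ h2) (comm_mem hx hy), clsA_of_succ h2, zero_add]

theorem clsA_comm_right {i j : ℕ} {x y n : G} (hx : x ∈ Gam G i) (hy : y ∈ Gam G j)
    (hn : n ∈ Gam G (j + 1)) : clsA (i + j) ⁅x, y * n⁆ = clsA (i + j) ⁅x, y⁆ := by
  have e : ⁅x, y * n⁆ = ⁅x, y⁆ * (y * ⁅x, n⁆ * y⁻¹) := by
    simp [commutatorElement_def, mul_assoc]
  rw [e]
  have h1 : ⁅x, n⁆ ∈ Gam G (i + j + 1) := by
    have := comm_mem hx hn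
    exact this
  have h2 : y * ⁅x, n⁆ * y⁻¹ ∈ Gam G (i + j + 1) := conj_mem h1 y
  rw [clsA_mul (comm_mem hx hy) (mem_of_succ h2), clsA_of_succ h2, add_zero]

theorem clsA_comm_congr {i j : ℕ} {x x' y y' : G} (hx : x ∈ Gam G i) (hx' : x' ∈ Gam G i)
    (hy : y ∈ Gam G j) (hy' : y' ∈ Gam G j) (h1 : clsA i x = clsA i x')
    (h2 : clsA j y = clsA j y') : clsA (i + j) ⁅x, y⁆ = clsA (i + j) ⁅x', y'⁆ := by
  have e1 : x' = x * (x⁻¹ * x') := by group
  have e2 : y' = y * (y⁻¹ * y') := by group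
  rw [e1, e2, clsA_comm_right (mul_mem hx ((Gam G i).mul_mem (inv_mem hx) hx')) hy
    ((clsA_eq_iff hy hy').1 h2), clsA_comm_left hx ((clsA_eq_iff hx hx').1 h1) hy]

theorem clsA_comm_mul_left {i j : ℕ} {x x' y : G} (hx : x ∈ Gam G i) (hx' : x' ∈ Gam G i)
    (hy : y ∈ Gam G j) :
    clsA (i + j) ⁅x * x', y⁆ = clsA (i + j) ⁅x, y⁆ + clsA (i + j) ⁅x', y⁆ := by
  rw [commutatorElement_mul_left_eq_conj_mul,
    clsA_mul (conj_mem (comm_mem hx' hy) x) (comm_mem hx hy), clsA_conj (comm_mem hx' hy)]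
  exact add_comm _ _

theorem clsA_comm_mul_right {i j : ℕ} {x y y' : G} (hx : x ∈ Gam G i) (hy : y ∈ Gam G j)
    (hy' : y' ∈ Gam G j) :
    clsA (i + j) ⁅x, y * y'⁆ = clsA (i + j) ⁅x, y⁆ + clsA (i + j) ⁅x, y'⁆ := by
  have e : ⁅x, y * y'⁆ = ⁅x, y⁆ * (y * ⁅x, y'⁆ * y⁻¹) := by
    simp [commutatorElement_def, mul_assoc]
  rw [e, clsA_mul (comm_mem hx hy) (conj_mem (comm_mem hx hy') y), clsA_conj (comm_mem hx hy')]

/-- component bracket -/
noncomputable def brA {i j : ℕ} (a : Aw G i) (b : Aw G j) : Aw G (i + j) :=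
  clsA (i + j) ⁅repA a, repA b⁆

theorem brA_clsA {i j : ℕ} {x y : G} (hx : x ∈ Gam G i) (hy : y ∈ Gam G j) :
    brA (clsA i x) (clsA j y) = clsA (i + j) ⁅x, y⁆ := by
  unfold brA
  exact clsA_comm_congr (repA_mem _) hx (repA_mem _) hy (clsA_repA _) (clsA_repA _)

theorem brA_add_left {i j : ℕ} (a a' : Aw G i) (b : Aw G j) :
    brA (a + a') b = brA a b + brA a' b := by
  obtain ⟨x, hx, rfl⟩ := clsA_surj a
  obtain ⟨x', hx', rfl⟩ := clsA_surj a'
  obtain ⟨y, hy, rfl⟩ := clsA_surj b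
  rw [← clsA_mul hx hx', brA_clsA (mul_mem hx hx') hy, brA_clsA hx hy, brA_clsA hx' hy,
    clsA_comm_mul_left hx hx' hy]

theorem brA_add_right {i j : ℕ} (a : Aw G i) (b b' : Aw G j) :
    brA a (b + b') = brA a b + brA a b' := by
  obtain ⟨x, hx, rfl⟩ := clsA_surj a
  obtain ⟨y, hy, rfl⟩ := clsA_surj b
  obtain ⟨y', hy', rfl⟩ := clsA_surj b'
  rw [← clsA_mul hy hy', brA_clsA hx (mul_mem hy hy'), brA_clsA hx hy, brA_clsA hx hy',
    clsA_comm_mul_right hx hy hy']

theorem brA_zero_left {i j : ℕ} (b : Aw G j) : brA (0 : Aw G i) b = 0 := by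
  have h := brA_add_left (0 : Aw G i) 0 b
  rw [add_zero] at h
  exact left_eq_add.mp h

theorem brA_zero_right {i j : ℕ} (a : Aw G i) : brA a (0 : Aw G j) = 0 := by
  have h := brA_add_right a (0 : Aw G j) 0
  rw [add_zero] at h
  exact left_eq_add.mp h

noncomputable instance Aw_gmul : DirectSum.GNonUnitalNonAssocSemiring (Aw G) where
  mul := fun a b => brA a b
  mul_zero := fun a => brA_zero_right a
  zero_mul := fun b => brA_zero_left b
  mul_add := fun a b c => brA_add_right a b c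
  add_mul := fun a b c => brA_add_left a b c

variable (G)

/-- the associated graded additive group -/
def LG : Type u := ⨁ w : ℕ, Aw G w

noncomputable instance LG_addCommGroup : AddCommGroup (LG G) :=
  inferInstanceAs (AddCommGroup (⨁ w : ℕ, Aw G w))

variable {G}

/-- class of `x ∈ Γ_w` in the `w`-th component of `LG G` -/
noncomputable def clsL (w : ℕ) (x : G) : LG G := DirectSum.of (Aw G) w (clsA w x)

/-- the bracket as a biadditive map -/
noncomputable def lieL : LG G →+ LG G →+ LG G := DirectSum.mulHom (Aw G)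

theorem lieL_clsL {i j : ℕ} {x y : G} (hx : x ∈ Gam G i) (hy : y ∈ Gam G j) :
    lieL (clsL i x) (clsL j y) = clsL (i + j) ⁅x, y⁆ := by
  have h := DirectSum.mulHom_of_of (A := Aw G) (clsA i x) (clsA j y)
  have h2 : (GradedMonoid.GMul.mul (clsA i x) (clsA j y) : Aw G (i + j)) = clsA (i + j) ⁅x, y⁆ :=
    brA_clsA hx hy
  rw [h2] at h
  exact h

theorem LG_induction {P : LG G → Prop} (h0 : P 0)
    (hgen : ∀ (w : ℕ) (x : G), x ∈ Gam G w → P (clsL w x))
    (hadd : ∀ a b, P a → P b → P (a + b)) : ∀ y, P y := by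
  intro y
  refine DirectSum.induction_on (motive := P) y h0 ?_ hadd
  intro w a
  obtain ⟨x, hx, rfl⟩ := clsA_surj a
  exact hgen w x hx

theorem clsL_mul {w : ℕ} {x y : G} (hx : x ∈ Gam G w) (hy : y ∈ Gam G w) :
    clsL w (x * y) = clsL w x + clsL w y := by
  have h := map_add (DirectSum.of (Aw G) w) (clsA w x) (clsA w y)
  rw [← clsA_mul hx hy] at h
  exact h

theorem clsL_one (w : ℕ) : clsL w (1 : G) = 0 := by
  have h := map_zero (DirectSum.of (Aw G) w)
  rw [← clsA_one (G := G) w] at h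
  exact h

theorem clsL_inv {w : ℕ} {x : G} (hx : x ∈ Gam G w) : clsL w x⁻¹ = - clsL w x := by
  have h := map_neg (DirectSum.of (Aw G) w) (clsA w x)
  rw [← clsA_inv hx] at h
  exact h

theorem clsL_eq_zero_iff {w : ℕ} {x : G} (hx : x ∈ Gam G w) :
    clsL w x = 0 ↔ x ∈ Gam G (w + 1) := by
  rw [← clsA_eq_zero_iff hx]
  constructor
  · intro h
    apply DirectSum.of_injective (β := Aw G) w
    rw [map_zero]
    exact h
  · intro h
    have h' := map_zero (DirectSum.of (Aw G) w)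
    rw [← h] at h'
    exact h'

theorem clsL_of_succ {w : ℕ} {x : G} (hx : x ∈ Gam G (w + 1)) : clsL w x = 0 :=
  (clsL_eq_zero_iff (mem_of_succ hx)).2 hx

theorem clsL_conj {w : ℕ} {x : G} (hx : x ∈ Gam G w) (g : G) :
    clsL w (g * x * g⁻¹) = clsL w x := by
  unfold clsL
  rw [clsA_conj hx]

theorem clsL_pow {w : ℕ} {x : G} (hx : x ∈ Gam G w) (n : ℕ) :
    clsL w (x ^ n) = n • clsL w x := by
  induction n with
  | zero => rw [pow_zero, zero_smul, clsL_one]
  | succ n ih => rw [pow_succ, clsL_mul (pow_mem hx n) hx, ih, succ_nsmul]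

end Cfsg.Agent.Lib.H1.LieG
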