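import Mathlib
import Cfsg.Agent.Lib.H1.LieGb

set_option autoImplicit false

/-!
# The Lie ring structure on the associated graded group of the lower central series
-/

namespace Cfsg.Agent.Lib.H1.LieG

open Subgroup
open scoped commutatorElement

universe u

variable {G : Type u} [Group G]

theorem lieL_skew_gen {i j : ℕ} {x y : G} (hx : x ∈ Gam G i) (hy : y ∈ Gam G j) :
    lieL (clsL i x) (clsL j y) = - lieL (clsL j y) (clsL i x) := by
  rw [lieL_clsL hx hy, lieL_clsL hy hx, ← clsL_inv (comm_mem hy hx), commutatorElement_inv,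
    Nat.add_comm j i]

theorem lieL_skew (a b : LG G) : lieL a b = - lieL b a := by
  revert b
  refine LG_induction (P := fun a => ∀ b, lieL a b = - lieL b a) ?_ ?_ ?_ a
  · intro b
    simp
  · intro i x hx b
    refine LG_induction (P := fun b => lieL (clsL i x) b = - lieL b (clsL i x)) ?_ ?_ ?_ b
    · simp
    · intro j y hy
      exact lieL_skew_gen hx hy
    · intro b b' h h'
      rw [map_add, map_add, AddMonoidHom.add_apply, h, h', neg_add]
  · intro a a' h h' b
    rw [map_add, map_add, AddMonoidHom.add_apply, h, h', neg_add]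

theorem lieL_self (a : LG G) : lieL a a = 0 := by
  refine LG_induction (P := fun a => lieL a a = 0) ?_ ?_ ?_ a
  · simp
  · intro i x hx
    rw [lieL_clsL hx hx, commutatorElement_self, clsL_one]
  · intro a b ha hb
    rw [map_add, map_add, AddMonoidHom.add_apply, AddMonoidHom.add_apply, ha, hb,
      lieL_skew b a]
    abel

theorem jacobi_gen {i j k : ℕ} {a b c : G} (ha : a ∈ Gam G i) (hb : b ∈ Gam G j)
    (hc : c ∈ Gam G k) :
    lieL (lieL (clsL i a) (clsL j b)) (clsL k c) + lieL (lieL (clsL j b) (clsL k c)) (clsL i a)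
      + lieL (lieL (clsL k c) (clsL i a)) (clsL j b) = 0 := by
  have key : ∀ {i j k : ℕ} {a b c : G}, a ∈ Gam G i → b ∈ Gam G j → c ∈ Gam G k →
      lieL (lieL (clsL i a) (clsL j b)) (clsL k c) =
        clsL (i + j + k) ⁅⁅a, b⁆, b * c * b⁻¹⁆ := by
    intro i j k a b c ha hb hc
    rw [lieL_clsL ha hb, ← clsL_conj hc b, lieL_clsL (comm_mem ha hb) (conj_mem hc b)]
  rw [key ha hb hc, key hb hc ha, key hc ha hb]
  rw [show j + k + i = i + j + k by omega, show k + i + j = i + j + k by omega]
  have m1 : ⁅⁅a, b⁆, b * c * b⁻¹⁆ ∈ Gam G (i + j + k) :=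
    comm_mem (comm_mem ha hb) (conj_mem hc b)
  have m2 : ⁅⁅b, c⁆, c * a * c⁻¹⁆ ∈ Gam G (i + j + k) := by
    have := comm_mem (comm_mem hb hc) (conj_mem ha c)
    rwa [show j + k + i = i + j + k by omega] at this
  have m3 : ⁅⁅c, a⁆, a * b * a⁻¹⁆ ∈ Gam G (i + j + k) := by
    have := comm_mem (comm_mem hc ha) (conj_mem hb a)
    rwa [show k + i + j = i + j + k by omega] at this
  rw [← clsL_mul m1 m2, ← clsL_mul (mul_mem m1 m2) m3,
    commutatorElement_commutatorElement_conj_mul, clsL_one]

/-- the Jacobiator -/
noncomputable def jac (x y z : LG G) : LG G :=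
  lieL (lieL x y) z + lieL (lieL y z) x + lieL (lieL z x) y

theorem jac_add_left (x x' y z : LG G) : jac (x + x') y z = jac x y z + jac x' y z := by
  unfold jac
  simp only [map_add, AddMonoidHom.add_apply]
  abel

theorem jac_add_mid (x y y' z : LG G) : jac x (y + y') z = jac x y z + jac x y' z := by
  unfold jac
  simp only [map_add, AddMonoidHom.add_apply]
  abel

theorem jac_add_right (x y z z' : LG G) : jac x y (z + z') = jac x y z + jac x y z' := by
  unfold jac
  simp only [map_add, AddMonoidHom.add_apply]
  abel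

theorem jac_eq_zero (x y z : LG G) : jac x y z = 0 := by
  revert y z
  refine LG_induction (P := fun x => ∀ y z, jac x y z = 0) ?_ ?_ ?_ x
  · intro y z
    simp [jac]
  · intro i a ha y
    refine LG_induction (P := fun y => ∀ z, jac (clsL i a) y z = 0) ?_ ?_ ?_ y
    · intro z
      simp [jac]
    · intro j b hb z
      refine LG_induction (P := fun z => jac (clsL i a) (clsL j b) z = 0) ?_ ?_ ?_ z
      · simp [jac]
      · intro k c hc
        exact jacobi_gen ha hb hc
      · intro z z' h h'
        rw [jac_add_right, h, h', add_zero]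
    · intro y y' h h' z
      rw [jac_add_mid, h, h', add_zero]
  · intro x x' h h' y z
    rw [jac_add_left, h, h', add_zero]

noncomputable instance LG_lieRing : LieRing (LG G) :=
  { (inferInstance : AddCommGroup (LG G)) with
    bracket := fun x y => lieL x y
    add_lie := fun x y z => by
      show lieL (x + y) z = lieL x z + lieL y z
      rw [map_add, AddMonoidHom.add_apply]
    lie_add := fun x y z => by
      show lieL x (y + z) = lieL x y + lieL x z
      rw [map_add]
    lie_self := lieL_self
    leibniz_lie := fun x y z => by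
      show lieL x (lieL y z) = lieL (lieL x y) z + lieL y (lieL x z)
      have h := jac_eq_zero x y z
      unfold jac at h
      rw [lieL_skew x (lieL y z), lieL_skew y (lieL x z), lieL_skew x z]
      simp only [map_neg, AddMonoidHom.neg_apply, neg_neg]
      rw [eq_comm, eq_neg_iff_add_eq_zero, ← h]
      abel }

theorem lie_def (x y : LG G) : ⁅x, y⁆ = lieL x y := rfl

theorem lie_clsL {i j : ℕ} {x y : G} (hx : x ∈ Gam G i) (hy : y ∈ Gam G j) :
    ⁅clsL i x, clsL j y⁆ = clsL (i + j) ⁅x, y⁆ :=
  lieL_clsL hx hy

end Cfsg.Agent.Lib.H1.LieG
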