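import Mathlib
import Cfsg.Agent.Lib.H1.LieGc
import Cfsg.Agent.Lib.H1.FpfBasic

set_option autoImplicit false

/-!
# The action of an automorphism on the associated Lie ring
-/

namespace Cfsg.Agent.Lib.H1.LieG

open Subgroup
open scoped commutatorElement

universe u

variable {G : Type u} [Group G] (α : MulAut G)

theorem aut_mem_iff (w : ℕ) (x : G) : α x ∈ Gam G w ↔ x ∈ Gam G w := by
  have h := (Gam_characteristic G w).fixed α
  constructor
  · intro hx
    rw [← h]
    exact hx
  · intro hx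
    rw [← h] at hx
    exact hx

theorem clsA_aut_congr {w : ℕ} {x x' : G} (hx : x ∈ Gam G w) (hx' : x' ∈ Gam G w)
    (h : clsA w x = clsA w x') : clsA w (α x) = clsA w (α x') := by
  rw [clsA_eq_iff ((aut_mem_iff α w x).2 hx) ((aut_mem_iff α w x').2 hx'), ← map_inv, ← map_mul,
    aut_mem_iff]
  exact (clsA_eq_iff hx hx').1 h

/-- component map, raw -/
noncomputable def phiAfun (w : ℕ) (a : Aw G w) : Aw G w := clsA w (α (repA a))

theorem phiAfun_clsA {w : ℕ} {x : G} (hx : x ∈ Gam G w) :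
    phiAfun α w (clsA w x) = clsA w (α x) := by
  unfold phiAfun
  exact clsA_aut_congr α (repA_mem _) hx (clsA_repA _)

/-- component map -/
noncomputable def phiA (w : ℕ) : Aw G w →+ Aw G w where
  toFun := phiAfun α w
  map_zero' := by
    rw [← clsA_one w, phiAfun_clsA α (one_mem _), map_one]
  map_add' := by
    intro a b
    obtain ⟨x, hx, rfl⟩ := clsA_surj a
    obtain ⟨y, hy, rfl⟩ := clsA_surj b
    rw [← clsA_mul hx hy, phiAfun_clsA α (mul_mem hx hy), phiAfun_clsA α hx, phiAfun_clsA α hy,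
      map_mul, clsA_mul ((aut_mem_iff α w x).2 hx) ((aut_mem_iff α w y).2 hy)]

theorem phiA_clsA {w : ℕ} {x : G} (hx : x ∈ Gam G w) :
    phiA α w (clsA w x) = clsA w (α x) :=
  phiAfun_clsA α hx

/-- the induced additive map on `LG G` -/
noncomputable def phiL : LG G →+ LG G := DirectSum.map (fun w => phiA α w)

theorem phiL_clsL {w : ℕ} {x : G} (hx : x ∈ Gam G w) :
    phiL α (clsL w x) = clsL w (α x) := by
  have h := DirectSum.map_of (fun w => phiA α w) w (clsA w x)
  rw [phiA_clsA α hx] at h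
  exact h

/-- the induced `ℤ`-linear endomorphism -/
noncomputable def phiE : Module.End ℤ (LG G) := (phiL α).toIntLinearMap

theorem phiE_clsL {w : ℕ} {x : G} (hx : x ∈ Gam G w) :
    phiE α (clsL w x) = clsL w (α x) :=
  phiL_clsL α hx

theorem phiE_lie (x y : LG G) : phiE α ⁅x, y⁆ = ⁅phiE α x, phiE α y⁆ := by
  revert y
  refine LG_induction (P := fun x => ∀ y, phiE α ⁅x, y⁆ = ⁅phiE α x, phiE α y⁆) ?_ ?_ ?_ x
  · intro y
    simp
  · intro i a ha y
    refine LG_induction
      (P := fun y => phiE α ⁅clsL i a, y⁆ = ⁅phiE α (clsL i a), phiE α y⁆) ?_ ?_ ?_ y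
    · simp
    · intro j b hb
      rw [lie_clsL ha hb, phiE_clsL α (comm_mem ha hb), phiE_clsL α ha, phiE_clsL α hb,
        lie_clsL ((aut_mem_iff α i a).2 ha) ((aut_mem_iff α j b).2 hb), map_commutatorElement]
    · intro y y' h h'
      rw [lie_add, map_add, h, h', map_add, lie_add]
  · intro x x' h h' y
    rw [add_lie, map_add, h, h', map_add, add_lie]

theorem phiE_pow_clsL (k : ℕ) {w : ℕ} {x : G} (hx : x ∈ Gam G w) :
    (phiE α ^ k) (clsL w x) = clsL w ((α ^ k) x) := by
  induction k with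
  | zero => simp
  | succ k ih =>
    rw [pow_succ', Module.End.mul_apply, ih, pow_succ', MulAut.mul_apply]
    refine phiE_clsL α ?_
    clear ih
    induction k with
    | zero => simpa using hx
    | succ k ih2 =>
      rw [pow_succ', MulAut.mul_apply, aut_mem_iff]
      exact ih2

theorem phiE_pow_eq_one {p : ℕ} (h : α ^ p = 1) : phiE α ^ p = 1 := by
  ext y
  refine LG_induction (P := fun y => (phiE α ^ p) y = (1 : Module.End ℤ (LG G)) y) ?_ ?_ ?_ y
  · simp
  · intro w x hx
    rw [phiE_pow_clsL α p hx, h]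
    simp
  · intro a b ha hb
    rw [map_add, map_add, ha, hb]

theorem fpf_surj [Finite G] (hfpf : Fpf α) (w : ℕ) {g : G} (hg : g ∈ Gam G w) :
    ∃ h, h ∈ Gam G w ∧ g = h⁻¹ * α h := by
  let f : Gam G w → Gam G w := fun h =>
    ⟨(h : G)⁻¹ * α h, mul_mem (inv_mem h.2) ((aut_mem_iff α w h).2 h.2)⟩
  have hinj : Function.Injective f := by
    intro h k hk
    have hk' : (h : G)⁻¹ * α h = (k : G)⁻¹ * α k := congrArg Subtype.val hk
    have h1 : α ((k : G) * (h : G)⁻¹) = (k : G) * (h : G)⁻¹ := by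
      rw [map_mul, map_inv]
      have : α (k : G) = (k : G) * ((h : G)⁻¹ * α h) := by
        rw [hk']
        group
      rw [this]
      group
    have h2 := hfpf _ h1
    apply Subtype.ext
    have : (k : G) = h := by
      rw [mul_inv_eq_one] at h2
      exact h2
    exact this.symm
  have hsurj := Finite.injective_iff_surjective.1 hinj
  obtain ⟨h, hh⟩ := hsurj ⟨g, hg⟩
  exact ⟨h, h.2, (congrArg Subtype.val hh).symm⟩

theorem phiE_sub_one_surj [Finite G] (hfpf : Fpf α) (y : LG G) :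
    ∃ z, y = (phiE α - 1) z := by
  refine LG_induction (P := fun y => ∃ z, y = (phiE α - 1) z) ?_ ?_ ?_ y
  · exact ⟨0, by simp⟩
  · intro w g hg
    obtain ⟨h, hh, rfl⟩ := fpf_surj α hfpf w hg
    refine ⟨clsL w h, ?_⟩
    rw [LinearMap.sub_apply, phiE_clsL α hh, Module.End.one_apply,
      clsL_mul (inv_mem hh) ((aut_mem_iff α w h).2 hh), clsL_inv hh]
    abel
  · rintro a b ⟨z, rfl⟩ ⟨z', rfl⟩
    exact ⟨z + z', by rw [map_add]⟩

theorem phiE_geom_sum [Finite G] (hfpf : Fpf α) {p : ℕ} (h : α ^ p = 1) :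
    ∑ k ∈ Finset.range p, phiE α ^ k = 0 := by
  ext y
  obtain ⟨z, rfl⟩ := phiE_sub_one_surj α hfpf y
  rw [← Module.End.mul_apply, geom_sum_mul, phiE_pow_eq_one α h, sub_self]
  simp

theorem card_nsmul [Finite G] (y : LG G) : Nat.card G • y = 0 := by
  refine LG_induction (P := fun y => Nat.card G • y = 0) ?_ ?_ ?_ y
  · simp
  · intro w x hx
    rw [← clsL_pow hx, pow_card_eq_one', clsL_one]
  · intro a b ha hb
    rw [smul_add, ha, hb, add_zero]

theorem card_modEq_one [Finite G] {p : ℕ} [Fact p.Prime] (hα : orderOf α = p) (hfpf : Fpf α) :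
    Nat.card G ≡ 1 [MOD p] := by
  have hZ : IsPGroup p (Subgroup.zpowers α) := by
    apply IsPGroup.of_card (n := 1)
    rw [Nat.card_zpowers, hα, pow_one]
  have h := hZ.card_modEq_card_fixedPoints G
  have hfix : MulAction.fixedPoints (Subgroup.zpowers α) G = {1} := by
    ext x
    simp only [MulAction.mem_fixedPoints, Set.mem_singleton_iff]
    constructor
    · intro hx
      apply hfpf
      exact hx ⟨α, Subgroup.mem_zpowers α⟩
    · rintro rfl ⟨β, hβ⟩
      exact map_one β
  rw [hfix] at h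
  simpa using h

theorem exists_inv_p [Finite G] {p : ℕ} [Fact p.Prime] (hα : orderOf α = p) (hfpf : Fpf α) :
    ∃ m : ℤ, ∀ y : LG G, (m * (p : ℤ)) • y = y := by
  have hcop : Nat.Coprime p (Nat.card G) := by
    have h := card_modEq_one α hα hfpf
    have h2 := h.gcd_eq
    rw [Nat.gcd_one_left] at h2
    exact (Nat.coprime_comm.1 h2)
  have hb := Nat.gcd_eq_gcd_ab p (Nat.card G)
  rw [hcop.gcd_eq_one] at hb
  refine ⟨Nat.gcdA p (Nat.card G), fun y => ?_⟩
  have h1 : ((Nat.card G : ℤ) * Nat.gcdB p (Nat.card G)) • y = 0 := by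
    rw [mul_comm, mul_smul, natCast_zsmul, card_nsmul, smul_zero]
  have h2 : ((1 : ℕ) : ℤ) • y = y := by simp
  rw [hb, add_smul, h1, add_zero, mul_comm] at h2
  exact h2

end Cfsg.Agent.Lib.H1.LieG
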