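import Mathlib
import Cfsg.Agent.Lib.H1.LieGd
import Cfsg.Agent.Lib.H1.LieGg
import Cfsg.Agent.Lib.H1.FpfNilpotent

set_option autoImplicit false

/-!
# From the associated Lie ring back to the group: the Higman–Kreknin–Kostrikin bound
-/

namespace Cfsg.Agent.Lib.H1.LieG

open Subgroup
open scoped commutatorElement

universe u

variable {G : Type u} [Group G]

/-- for `x ∈ γ_n` (Mathlib indexing), the class of `x` lies in the `n`-th term of the lower central
series of the Lie ring -/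
theorem clsL_mem_Gam (n : ℕ) :
    ∀ x ∈ Gam G (n + 1), clsL (n + 1) x ∈ KK.Gam n (⊤ : AddSubgroup (LG G)) := by
  induction n with
  | zero =>
    intro x _
    rw [KK.Gam_zero]
    exact AddSubgroup.mem_top _
  | succ n ih =>
    let S : Subgroup G :=
      { carrier := {x | x ∈ Gam G (n + 2) ∧
          clsL (n + 2) x ∈ KK.Gam (n + 1) (⊤ : AddSubgroup (LG G))}
        mul_mem' := by
          rintro a b ⟨ha, ha'⟩ ⟨hb, hb'⟩
          refine ⟨mul_mem ha hb, ?_⟩
          rw [clsL_mul ha hb]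
          exact add_mem ha' hb'
        one_mem' := by
          refine ⟨one_mem _, ?_⟩
          rw [clsL_one]
          exact zero_mem _
        inv_mem' := by
          rintro a ⟨ha, ha'⟩
          refine ⟨inv_mem ha, ?_⟩
          rw [clsL_inv ha]
          exact neg_mem ha' }
    have hle : Gam G (n + 2) ≤ S := by
      have e : Gam G (n + 2) = ⁅Gam G (n + 1), (⊤ : Subgroup G)⁆ := by
        rw [Gam_succ, Gam_succ, Subgroup.lowerCentralSeries_succ]
      rw [e, Subgroup.commutator_def, Subgroup.closure_le]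
      rintro z ⟨a, ha, b, _, rfl⟩
      refine ⟨comm_mem_succ ha b, ?_⟩
      have hb : b ∈ Gam G 1 := by
        rw [Gam_one]
        exact Subgroup.mem_top b
      have h1 := lie_clsL ha hb
      have h2 : clsL (n + 2) ⁅a, b⁆ = ⁅clsL (n + 1) a, clsL 1 b⁆ := h1.symm
      rw [h2, KK.Gam_succ]
      exact KK.lie_mem_br (ih a ha) (AddSubgroup.mem_top _)
    intro x hx
    exact (hle hx).2

theorem lcs_eq_bot_of_Gam_eq_bot (hnil : Group.IsNilpotent G) (N : ℕ)
    (h : KK.Gam N (⊤ : AddSubgroup (LG G)) = ⊥) :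
    (⊤ : Subgroup G).lowerCentralSeries N = ⊥ := by
  have h1 : (⊤ : Subgroup G).lowerCentralSeries N ≤ (⊤ : Subgroup G).lowerCentralSeries (N + 1) := by
    intro x hx
    have hx' : x ∈ Gam G (N + 1) := hx
    have h2 := clsL_mem_Gam N x hx'
    rw [h, AddSubgroup.mem_bot, clsL_eq_zero_iff hx'] at h2
    exact h2
  have h2 : (⊤ : Subgroup G).lowerCentralSeries (N + 1) = (⊤ : Subgroup G).lowerCentralSeries N :=
    le_antisymm (Subgroup.lowerCentralSeries_antitone (⊤ : Subgroup G) (Nat.le_succ N)) h1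
  have h3 : ∀ k : ℕ, (⊤ : Subgroup G).lowerCentralSeries (N + k) =
      (⊤ : Subgroup G).lowerCentralSeries N := by
    intro k
    induction k with
    | zero => rfl
    | succ k ih =>
      rw [← Nat.add_assoc, Subgroup.lowerCentralSeries_succ, ih,
        ← Subgroup.lowerCentralSeries_succ, h2]
  obtain ⟨c, hc⟩ := Subgroup.nilpotent_iff_lowerCentralSeries.1 hnil
  rw [← h3 c, eq_bot_iff, ← hc]
  exact Subgroup.lowerCentralSeries_antitone (⊤ : Subgroup G) (Nat.le_add_left c N)

variable [Finite G] {p : ℕ} [hp : Fact p.Prime] (α : MulAut G)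

omit [Finite G] hp in
theorem alpha_pow (hα : orderOf α = p) : α ^ p = 1 := by
  rw [← hα]
  exact pow_orderOf_eq_one α

theorem hkk_main (hα : orderOf α = p) (hfpf : Fpf α) :
    (⊤ : Subgroup G).lowerCentralSeries
      (∑ i ∈ Finset.range (2 ^ (p - 1) - 1), (p - 1) ^ i) = ⊥ := by
  have hnil : Group.IsNilpotent G :=
    fpf_prime_nilpotent hp.out (Nat.card G) G rfl α hfpf (alpha_pow α hα)
  obtain ⟨m, hm⟩ := exists_inv_p α hα hfpf
  exact lcs_eq_bot_of_Gam_eq_bot hnil _
    (LieT.lie_kk_main (phiE_lie α) (phiE_pow_eq_one α (alpha_pow α hα))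
      (phiE_geom_sum α hfpf (alpha_pow α hα)) hm)

theorem hkk_two (hp2 : p = 2) (hα : orderOf α = p) (hfpf : Fpf α) :
    (⊤ : Subgroup G).lowerCentralSeries 1 = ⊥ := by
  have hnil : Group.IsNilpotent G :=
    fpf_prime_nilpotent hp.out (Nat.card G) G rfl α hfpf (alpha_pow α hα)
  obtain ⟨m, hm⟩ := exists_inv_p α hα hfpf
  exact lcs_eq_bot_of_Gam_eq_bot hnil _
    (LieT.lie_kk_two hp2 (phiE_lie α) (phiE_pow_eq_one α (alpha_pow α hα))
      (phiE_geom_sum α hfpf (alpha_pow α hα)) hm)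

theorem hkk_three (hp3 : p = 3) (hα : orderOf α = p) (hfpf : Fpf α) :
    (⊤ : Subgroup G).lowerCentralSeries 2 = ⊥ := by
  have hnil : Group.IsNilpotent G :=
    fpf_prime_nilpotent hp.out (Nat.card G) G rfl α hfpf (alpha_pow α hα)
  obtain ⟨m, hm⟩ := exists_inv_p α hα hfpf
  exact lcs_eq_bot_of_Gam_eq_bot hnil _
    (LieT.lie_kk_three hp3 (phiE_lie α) (phiE_pow_eq_one α (alpha_pow α hα))
      (phiE_geom_sum α hfpf (alpha_pow α hα)) hm)

end Cfsg.Agent.Lib.H1.LieG
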