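import Mathlib

/-!
# Group algebra generalities for the lifting library (helper1)

`MonoidAlgebra R G` for a finite group `G` over a commutative ring `R`:
coefficient formulas, class-function coefficients ⇔ central, the left multiplication matrix, and the
determinant trick: a nonzero quasi-idempotent (`ε * ε = a • ε`) over a domain has nonzero image under
any ring homomorphism to a field in which `a` stays nonzero.
-/

set_option autoImplicit false
set_option linter.unusedSectionVars false

namespace Cfsg.Agent.Lib.H1.Lift

open MonoidAlgebra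

variable {G : Type*} [Group G] [Fintype G] {R : Type*} [CommRing R]

/-- The group algebra element with prescribed coefficients. -/
noncomputable def ofFun (f : G → R) : MonoidAlgebra R G :=
  MonoidAlgebra.ofCoeff (Finsupp.equivFunOnFinite.symm f)

@[simp] theorem coeff_ofFun (f : G → R) (g : G) : (ofFun f).coeff g = f g := rfl

theorem ext_coeff {z w : MonoidAlgebra R G} (h : ∀ g, z.coeff g = w.coeff g) : z = w := by
  apply MonoidAlgebra.ext
  ext g
  exact h g

theorem coeff_mul (z w : MonoidAlgebra R G) (g : G) :
    (z * w).coeff g = ∑ h, z.coeff h * w.coeff (h⁻¹ * g) := by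
  rw [MonoidAlgebra.coeff_mul_apply_left, Finsupp.sum_fintype]
  simp

theorem coeff_mul' (z w : MonoidAlgebra R G) (g : G) :
    (z * w).coeff g = ∑ h, z.coeff (g * h⁻¹) * w.coeff h := by
  rw [MonoidAlgebra.coeff_mul_apply_right, Finsupp.sum_fintype]
  simp

theorem coeff_single_mul (k : G) (z : MonoidAlgebra R G) (g : G) :
    (single k (1 : R) * z).coeff g = z.coeff (k⁻¹ * g) := by
  rw [MonoidAlgebra.coeff_single_mul_apply, one_mul]

theorem coeff_mul_single (z : MonoidAlgebra R G) (k : G) (g : G) :
    (z * single k (1 : R)).coeff g = z.coeff (g * k⁻¹) := by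
  rw [MonoidAlgebra.coeff_mul_single_apply, mul_one]

theorem coeff_finset_sum {ι : Type*} (s : Finset ι) (f : ι → MonoidAlgebra R G) (g : G) :
    (∑ i ∈ s, f i).coeff g = ∑ i ∈ s, (f i).coeff g := by
  rw [MonoidAlgebra.coeff_sum, Finsupp.finsetSum_apply]

theorem coeff_smul' (a : R) (z : MonoidAlgebra R G) (g : G) : (a • z).coeff g = a * z.coeff g := by
  rw [MonoidAlgebra.coeff_smul]; rfl

theorem coeff_nsmul (a : ℕ) (z : MonoidAlgebra R G) (g : G) :
    (a • z).coeff g = (a : R) * z.coeff g := by
  rw [← Nat.cast_smul_eq_nsmul R a z, coeff_smul']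

theorem coeff_one (g : G) [Decidable (g = 1)] :
    (1 : MonoidAlgebra R G).coeff g = if g = 1 then 1 else 0 := by
  classical
  rw [MonoidAlgebra.one_def, MonoidAlgebra.coeff_single, Finsupp.single_apply]
  by_cases h : g = 1
  · simp [h]
  · rw [if_neg h, if_neg (fun h' => h h'.symm)]

/-- An element with class-function coefficients commutes with group elements. -/
theorem comm_single_of_classFun {z : MonoidAlgebra R G}
    (hz : ∀ g k : G, z.coeff (k * g * k⁻¹) = z.coeff g) (k : G) :
    z * single k (1 : R) = single k (1 : R) * z := by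
  apply ext_coeff
  intro g
  rw [coeff_mul_single, coeff_single_mul]
  have := hz (k⁻¹ * g) k
  rw [← this]
  congr 1
  group

/-- An element with class-function coefficients is central. -/
theorem comm_of_classFun {z : MonoidAlgebra R G}
    (hz : ∀ g k : G, z.coeff (k * g * k⁻¹) = z.coeff g) (w : MonoidAlgebra R G) :
    z * w = w * z := by
  induction w using MonoidAlgebra.induction_on with
  | of g =>
    rw [MonoidAlgebra.of_apply]
    exact comm_single_of_classFun hz g
  | add x y hx hy => rw [mul_add, add_mul, hx, hy]
  | smul r x hx => rw [mul_smul_comm, smul_mul_assoc, hx]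

/-- A central element has class-function coefficients. -/
theorem classFun_of_comm {z : MonoidAlgebra R G}
    (hz : ∀ k : G, z * single k (1 : R) = single k (1 : R) * z) (g k : G) :
    z.coeff (k * g * k⁻¹) = z.coeff g := by
  have h1 := congrArg (fun x : MonoidAlgebra R G => x.coeff (k * g)) (hz k)
  simp only [coeff_mul_single, coeff_single_mul] at h1
  rw [h1]
  congr 1
  group

section map

variable {S : Type*} [CommRing S]

theorem coeff_map (f : R →+* S) (z : MonoidAlgebra R G) (g : G) :
    (MonoidAlgebra.mapRingHom G f z).coeff g = f (z.coeff g) :=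
  MonoidAlgebra.coeff_mapRingHom f z g

theorem map_injective (f : R →+* S) (hf : Function.Injective f) :
    Function.Injective (MonoidAlgebra.mapRingHom G f) := by
  intro z w h
  apply ext_coeff
  intro g
  apply hf
  rw [← coeff_map, ← coeff_map, h]

theorem map_ofFun (f : R →+* S) (φ : G → R) :
    MonoidAlgebra.mapRingHom G f (ofFun φ) = ofFun (fun g => f (φ g)) := by
  apply ext_coeff
  intro g
  rw [coeff_map, coeff_ofFun, coeff_ofFun]

theorem map_nsmul' (f : R →+* S) (a : ℕ) (z : MonoidAlgebra R G) :
    MonoidAlgebra.mapRingHom G f (a • z) = a • MonoidAlgebra.mapRingHom G f z :=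
  map_nsmul _ _ _

end map

section matrix

variable [DecidableEq G]

/-- The matrix of left multiplication by `z` on the group algebra. -/
def lmul (z : MonoidAlgebra R G) : Matrix G G R := Matrix.of fun x y => z.coeff (x * y⁻¹)

theorem lmul_apply (z : MonoidAlgebra R G) (x y : G) : lmul z x y = z.coeff (x * y⁻¹) := rfl

theorem lmul_mul (z w : MonoidAlgebra R G) : lmul (z * w) = lmul z * lmul w := by
  ext x y
  rw [Matrix.mul_apply, lmul_apply, coeff_mul]
  refine Fintype.sum_equiv ((Equiv.inv G).trans (Equiv.mulRight x)) _ _ ?_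
  intro u
  simp only [Equiv.trans_apply, Equiv.inv_apply, Equiv.coe_mulRight, lmul_apply]
  congr 2
  · group
  · group

theorem lmul_nsmul (a : ℕ) (z : MonoidAlgebra R G) : lmul (a • z) = (a : R) • lmul z := by
  ext x y
  rw [Matrix.smul_apply, lmul_apply, lmul_apply, coeff_nsmul, smul_eq_mul]

theorem lmul_map {S : Type*} [CommRing S] (f : R →+* S) (z : MonoidAlgebra R G) :
    lmul (MonoidAlgebra.mapRingHom G f z) = (lmul z).map f := by
  ext x y
  rw [Matrix.map_apply, lmul_apply, lmul_apply, coeff_map]

theorem lmul_eq_zero_iff (z : MonoidAlgebra R G) : lmul z = 0 ↔ z = 0 := by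
  constructor
  · intro h
    apply ext_coeff
    intro g
    have := congrFun (congrFun h g) 1
    rw [lmul_apply] at this
    simpa using this
  · rintro rfl
    ext x y
    rfl

/-- **Determinant trick.** A nonzero quasi-idempotent of the group algebra over a domain does not
vanish under a ring homomorphism to a field that keeps the quasi-idempotency constant nonzero. -/
theorem map_ne_zero_of_quasiIdem [IsDomain R] {F : Type*} [Field F] (f : R →+* F)
    {ε : MonoidAlgebra R G} {a : ℕ} (hε : ε * ε = a • ε) (h0 : ε ≠ 0) (ha : f (a : R) ≠ 0) :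
    MonoidAlgebra.mapRingHom G f ε ≠ 0 := by
  intro hmap
  set E : Matrix G G R := lmul ε with hE
  have hEE : E * E = (a : R) • E := by rw [hE, ← lmul_mul, hε, lmul_nsmul]
  have hE0 : E ≠ 0 := fun h => h0 ((lmul_eq_zero_iff ε).1 h)
  -- a nonzero column
  obtain ⟨x, y, hxy⟩ : ∃ x y, E x y ≠ 0 := by
    by_contra hcon
    push Not at hcon
    apply hE0
    ext x y
    exact hcon x y
  set v : G → R := fun x => E x y with hv
  have hv0 : v ≠ 0 := fun h => hxy (congrFun h x)
  have hEv : E.mulVec v = (a : R) • v := by
    ext x'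
    have := congrFun (congrFun hEE x') y
    rw [Matrix.mul_apply, Matrix.smul_apply] at this
    rw [Matrix.mulVec, dotProduct]
    simpa [hv] using this
  have hker : ((a : R) • (1 : Matrix G G R) - E).mulVec v = 0 := by
    rw [Matrix.sub_mulVec, Matrix.smul_mulVec, Matrix.one_mulVec, hEv, sub_self]
  have hdet : ((a : R) • (1 : Matrix G G R) - E).det = 0 :=
    Matrix.exists_mulVec_eq_zero_iff.1 ⟨v, hv0, hker⟩
  have h1 := congrArg f hdet
  rw [RingHom.map_det, map_zero] at h1
  have hmapE : f.mapMatrix E = 0 := by
    rw [RingHom.mapMatrix_apply, hE, ← lmul_map, hmap]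
    ext x y
    rfl
  rw [map_sub, hmapE, sub_zero] at h1
  have h2 : f.mapMatrix ((a : R) • (1 : Matrix G G R)) = (f (a : R)) • (1 : Matrix G G F) := by
    ext i j
    simp [Matrix.one_apply]
    split_ifs <;> simp
  rw [h2, Matrix.det_smul, Matrix.det_one, mul_one] at h1
  exact ha (pow_eq_zero_iff (Fintype.card_ne_zero) |>.1 h1)

end matrix

end Cfsg.Agent.Lib.H1.Lift
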