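import Mathlib
import Cfsg.Prelude.Def_Blocks
import Cfsg.Agent.Lib.H1.LiftA
import Cfsg.Agent.Lib.H23.BlockAlgebra
import Cfsg.Agent.Lib.H23.BlockDefect
import Cfsg.Agent.Lib.H23.DegreeDvd
import Cfsg.Agent.Lib.H24.CharOrth

/-!
# The elements `e_χ = ∑ χ(h⁻¹) h` of the group algebra (helper1)

Over `ℂ` and over the ring `AlgInt` of algebraic integers: orthogonality
`e_χ e_ψ = δ (|G|/χ(1)) e_χ`, `∑ χ(1) e_χ = |G|`, class-function coefficients.
-/

set_option autoImplicit false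
set_option linter.unusedSectionVars false

namespace Cfsg.Agent.Lib.H1.Lift

open Cfsg MonoidAlgebra
open scoped ComplexConjugate

variable {G : Type*} [Group G] [Fintype G]

/-- The complex element `∑ χ(h⁻¹) h`. -/
noncomputable def eC (χ : G → ℂ) : MonoidAlgebra ℂ G := ofFun (fun h => χ h⁻¹)

theorem coeff_eC (χ : G → ℂ) (h : G) : (eC χ).coeff h = χ h⁻¹ := rfl

theorem eC_classFun (χ : IrrCharacter G) (g k : G) :
    (eC (χ : G → ℂ)).coeff (k * g * k⁻¹) = (eC (χ : G → ℂ)).coeff g := by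
  rw [coeff_eC, coeff_eC]
  have : (k * g * k⁻¹)⁻¹ = k * g⁻¹ * k⁻¹ := by group
  rw [this]
  exact Cfsg.Agent.Lib.H24.irr_conj χ g⁻¹ k

theorem eC_mem_center (χ : IrrCharacter G) :
    eC (χ : G → ℂ) ∈ Subalgebra.center ℂ (MonoidAlgebra ℂ G) :=
  Cfsg.Agent.Lib.H23.mem_center_of_classFunction (fun g k => eC_classFun χ g k)

/-- `∑ g, χ(g⁻¹) ψ(g) = |G| δ`. -/
theorem sum_inv_mul (χ ψ : IrrCharacter G) :
    ∑ g : G, (χ : G → ℂ) g⁻¹ * (ψ : G → ℂ) g = if χ = ψ then (Nat.card G : ℂ) else 0 := by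
  have h := Cfsg.Agent.Lib.H24.irr_orthonormal ψ χ
  unfold classInner at h
  have hG : (Nat.card G : ℂ) ≠ 0 := by exact_mod_cast (Nat.card_pos (α := G)).ne'
  have h2 : ∑ g : G, (ψ : G → ℂ) g * conj ((χ : G → ℂ) g) =
      (Nat.card G : ℂ) * (if ψ = χ then 1 else 0) := by
    rw [← h, ← mul_assoc, mul_inv_cancel₀ hG, one_mul]
  have h3 : ∑ g : G, (χ : G → ℂ) g⁻¹ * (ψ : G → ℂ) g =
      ∑ g : G, (ψ : G → ℂ) g * conj ((χ : G → ℂ) g) := by
    refine Finset.sum_congr rfl (fun g _ => ?_)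
    rw [Cfsg.Agent.Lib.H24.irr_inv, mul_comm]
  rw [h3, h2]
  by_cases hc : χ = ψ
  · rw [if_pos hc, if_pos hc.symm, mul_one]
  · rw [if_neg hc, if_neg (fun h' => hc h'.symm), mul_zero]

/-- Generalized orthogonality: `e_χ e_ψ = δ (|G|/χ(1)) e_χ`. -/
theorem eC_mul_eC (χ ψ : IrrCharacter G) :
    eC (χ : G → ℂ) * eC (ψ : G → ℂ) =
      if χ = ψ then ((Nat.card G : ℂ) / (χ : G → ℂ) 1) • eC (χ : G → ℂ) else 0 := by
  apply ext_coeff
  intro y
  -- the coefficient as a character evaluation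
  have h1 : (eC (χ : G → ℂ) * eC (ψ : G → ℂ)).coeff y =
      Cfsg.Agent.Lib.H23.charEval (ψ : G → ℂ) (eC (χ : G → ℂ) * single y⁻¹ (1 : ℂ)) := by
    rw [coeff_mul, Cfsg.Agent.Lib.H23.charEval]
    refine Fintype.sum_equiv (Equiv.mulLeft y⁻¹) _ _ ?_
    intro h
    simp only [Equiv.coe_mulLeft]
    rw [coeff_mul_single, coeff_eC, coeff_eC, coeff_eC, inv_inv]
    congr 1
    · have e1 : (y⁻¹ * h * y)⁻¹ = y⁻¹ * h⁻¹ * y⁻¹⁻¹ := by group
      rw [e1]
      exact (Cfsg.Agent.Lib.H24.irr_conj χ h⁻¹ y⁻¹).symm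
    · congr 1
      group
  rw [h1, Cfsg.Agent.Lib.H23.charEval_mul_of_mem_center ψ.2 (eC_mem_center χ),
    Cfsg.Agent.Lib.H23.charEval_single, one_mul]
  have h2 : Cfsg.Agent.Lib.H23.charEval (ψ : G → ℂ) (eC (χ : G → ℂ)) =
      if χ = ψ then (Nat.card G : ℂ) else 0 := by
    rw [← sum_inv_mul]
    rfl
  rw [h2]
  by_cases hc : χ = ψ
  · rw [if_pos hc, if_pos hc, coeff_smul', coeff_eC, hc]
  · rw [if_neg hc, if_neg hc, zero_div, zero_mul]
    rfl

/-- `∑ χ(1) e_χ = |G|`. -/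
theorem sum_deg_smul_eC [Fintype (IrrCharacter G)] :
    ∑ χ : IrrCharacter G, ((χ : G → ℂ) 1) • eC (χ : G → ℂ) =
      (Nat.card G : ℂ) • (1 : MonoidAlgebra ℂ G) := by
  classical
  apply ext_coeff
  intro h
  rw [coeff_finset_sum, coeff_smul', coeff_one]
  have h2 := Cfsg.Agent.Lib.H24.second_orthogonality (G := G) 1 h
  have h3 : ∑ χ : IrrCharacter G, (((χ : G → ℂ) 1) • eC (χ : G → ℂ)).coeff h =
      ∑ χ : IrrCharacter G, (χ : G → ℂ) 1 * conj ((χ : G → ℂ) h) := by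
    refine Finset.sum_congr rfl (fun χ _ => ?_)
    rw [coeff_smul', coeff_eC, Cfsg.Agent.Lib.H24.irr_inv]
  rw [h3, h2]
  have hc : Subgroup.centralizer ({1} : Set G) = ⊤ := by
    ext x
    simp [Subgroup.mem_centralizer_iff]
  by_cases h1 : h = 1
  · subst h1
    rw [if_pos (IsConj.refl 1), if_pos rfl, hc, Subgroup.card_top, mul_one]
  · have : ¬ IsConj (1 : G) h := by
      intro hcj
      apply h1
      obtain ⟨c, hc'⟩ := isConj_iff.1 hcj
      rw [← hc']
      group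
    rw [if_neg this, if_neg h1, mul_zero]

/-! ### Integral versions -/

/-- The algebraic integer `χ(g)`. -/
noncomputable def aI (χ : IrrCharacter G) (g : G) : AlgInt :=
  ⟨(χ : G → ℂ) g, Cfsg.Agent.Lib.H23.irr_isIntegral χ g⟩

@[simp] theorem coe_aI (χ : IrrCharacter G) (g : G) : ((aI χ g : AlgInt) : ℂ) = (χ : G → ℂ) g := rfl

/-- The inclusion of the algebraic integers into `ℂ` as a ring homomorphism. -/
noncomputable def incl : AlgInt →+* ℂ := (Subalgebra.val AlgInt : AlgInt →ₐ[ℤ] ℂ).toRingHom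

@[simp] theorem incl_apply (a : AlgInt) : incl a = (a : ℂ) := rfl

theorem incl_injective : Function.Injective incl := fun a b h => Subtype.ext h

/-- The integral element `∑ χ(h⁻¹) h`. -/
noncomputable def eI (χ : IrrCharacter G) : MonoidAlgebra AlgInt G := ofFun (fun h => aI χ h⁻¹)

theorem coeff_eI (χ : IrrCharacter G) (h : G) : (eI χ).coeff h = aI χ h⁻¹ := rfl

theorem map_eI (χ : IrrCharacter G) :
    MonoidAlgebra.mapRingHom G incl (eI χ) = eC (χ : G → ℂ) := by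
  apply ext_coeff
  intro h
  rw [coeff_map, coeff_eI, coeff_eC]
  rfl

theorem eI_classFun (χ : IrrCharacter G) (g k : G) :
    (eI χ).coeff (k * g * k⁻¹) = (eI χ).coeff g := by
  apply incl_injective
  have := eC_classFun χ g k
  rw [← map_eI, coeff_map, coeff_map] at this
  exact this

/-- The degree of `χ` as a natural number. -/
noncomputable def deg (χ : IrrCharacter G) : ℕ := charDegree (χ : G → ℂ)

theorem deg_cast (χ : IrrCharacter G) : ((deg χ : ℕ) : ℂ) = (χ : G → ℂ) 1 :=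
  Cfsg.Agent.Lib.H24.charDegree_irr χ

theorem deg_pos (χ : IrrCharacter G) : 0 < deg χ := Cfsg.Agent.Lib.H24.charDegree_pos χ

theorem deg_dvd (χ : IrrCharacter G) : deg χ ∣ Nat.card G :=
  Cfsg.Agent.Lib.H23.charDegree_dvd_card (χ : G → ℂ) χ.2

/-- `|G| / χ(1)`. -/
noncomputable def codeg (χ : IrrCharacter G) : ℕ := Nat.card G / deg χ

theorem deg_mul_codeg (χ : IrrCharacter G) : deg χ * codeg χ = Nat.card G :=
  Nat.mul_div_cancel' (deg_dvd χ)

theorem codeg_dvd (χ : IrrCharacter G) : codeg χ ∣ Nat.card G :=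
  Dvd.intro_left _ (deg_mul_codeg χ)

theorem codeg_cast (χ : IrrCharacter G) :
    ((codeg χ : ℕ) : ℂ) = (Nat.card G : ℂ) / (χ : G → ℂ) 1 := by
  have h := deg_mul_codeg χ
  have h1 : ((deg χ : ℕ) : ℂ) * ((codeg χ : ℕ) : ℂ) = (Nat.card G : ℂ) := by exact_mod_cast h
  rw [deg_cast] at h1
  rw [← h1, mul_comm, mul_div_assoc, div_self (Cfsg.Agent.Lib.H24.irr_one_ne_zero χ), mul_one]

theorem eI_mul_eI (χ ψ : IrrCharacter G) :
    eI χ * eI ψ = if χ = ψ then codeg χ • eI χ else 0 := by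
  apply map_injective incl incl_injective
  rw [map_mul, map_eI, map_eI, eC_mul_eC]
  by_cases hc : χ = ψ
  · rw [if_pos hc, if_pos hc, map_nsmul, map_eI, ← codeg_cast, Nat.cast_smul_eq_nsmul]
  · rw [if_neg hc, if_neg hc, map_zero]

theorem sum_deg_smul_eI [Fintype (IrrCharacter G)] :
    ∑ χ : IrrCharacter G, deg χ • eI χ = Nat.card G • (1 : MonoidAlgebra AlgInt G) := by
  apply map_injective incl incl_injective
  rw [map_sum, map_nsmul, map_one]
  have h := sum_deg_smul_eC (G := G)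
  rw [Nat.cast_smul_eq_nsmul] at h
  rw [← h]
  refine Finset.sum_congr rfl (fun χ _ => ?_)
  rw [map_nsmul, map_eI, ← deg_cast, Nat.cast_smul_eq_nsmul]

/-- Second orthogonality for the integral values. -/
theorem sum_aI_mul_aI [Fintype (IrrCharacter G)] [DecidableRel (IsConj (α := G))] (g x : G) :
    ∑ χ : IrrCharacter G, aI χ g * aI χ x⁻¹ =
      if IsConj g x then ((Nat.card (Subgroup.centralizer ({g} : Set G)) : ℕ) : AlgInt) else 0 := by
  apply incl_injective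
  rw [map_sum]
  have h := Cfsg.Agent.Lib.H24.second_orthogonality (G := G) g x
  have h2 : ∑ χ : IrrCharacter G, incl (aI χ g * aI χ x⁻¹) =
      ∑ χ : IrrCharacter G, (χ : G → ℂ) g * conj ((χ : G → ℂ) x) := by
    refine Finset.sum_congr rfl (fun χ _ => ?_)
    rw [map_mul, incl_apply, incl_apply, coe_aI, coe_aI, Cfsg.Agent.Lib.H24.irr_inv]
  rw [h2, h]
  split_ifs
  · simp
  · simp

end Cfsg.Agent.Lib.H1.Lift
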