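import Mathlib
import Cfsg.Prelude.Def_Blocks
import Cfsg.Agent.Lib.H1.LiftA
import Cfsg.Agent.Lib.H1.LiftB

/-!
# Lifting fixed-point-free modules from characteristic `p ∤ |G|` to characteristic zero (helper1)

`FpfChar χ`: the character `χ` has no trivial constituent on any nontrivial cyclic subgroup.
Main theorem `exists_fpf_irr`: if `F` is a field receiving the algebraic integers, of characteristic
`p ∤ |G|`, and `G` has a nonzero `F`-representation in which nonidentity elements fix no nonzero
vector, then some irreducible complex character of `G` is fixed-point-free.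

The proof avoids modular representation theory: the reductions of the `e_χ` are orthogonal central
quasi-idempotents spanning the centre of `F[G]`; an averaging argument shows that each block is a
simple algebra; and nonzero quasi-idempotents stay nonzero under reduction (determinant trick).
-/

set_option autoImplicit false
set_option linter.unusedSectionVars false

namespace Cfsg.Agent.Lib.H1.Lift

open Cfsg MonoidAlgebra
open scoped ComplexConjugate

variable {G : Type*} [Group G] [Fintype G]

/-- `χ` has no trivial constituent on any nontrivial cyclic subgroup. -/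
def FpfChar (χ : G → ℂ) : Prop :=
  ∀ g : G, g ≠ 1 → ∑ k ∈ Finset.range (orderOf g), χ (g ^ k) = 0

section sumS

variable {R : Type*} [CommRing R]

/-- The sum of the elements of a subgroup. -/
noncomputable def sumS (C : Subgroup G) [Fintype C] : MonoidAlgebra R G :=
  ∑ c : C, single (c : G) (1 : R)

theorem single_mul_sumS (C : Subgroup G) [Fintype C] {c : G} (hc : c ∈ C) :
    single c (1 : R) * sumS (R := R) C = sumS C := by
  unfold sumS
  rw [Finset.mul_sum]
  refine Fintype.sum_equiv (Equiv.mulLeft (⟨c, hc⟩ : C)) _ _ ?_
  intro d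
  rw [MonoidAlgebra.single_mul_single, one_mul]
  rfl

theorem sumS_mul_sumS (C : Subgroup G) [Fintype C] :
    sumS (R := R) C * sumS C = Fintype.card C • sumS C := by
  have h1 : sumS (R := R) C * sumS C = ∑ c : C, single (c : G) (1 : R) * sumS C := by
    conv_lhs => rw [sumS, Finset.sum_mul]
    rfl
  rw [h1, Finset.sum_congr rfl (fun c _ => single_mul_sumS (R := R) C c.2), Finset.sum_const,
    Finset.card_univ]

theorem coeff_sumS_mul (C : Subgroup G) [Fintype C] (z : MonoidAlgebra R G) (x : G) :
    (sumS C * z).coeff x = ∑ c : C, z.coeff ((c : G)⁻¹ * x) := by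
  unfold sumS
  rw [Finset.sum_mul, coeff_finset_sum]
  refine Finset.sum_congr rfl (fun c _ => ?_)
  rw [coeff_single_mul]

theorem map_sumS {S : Type*} [CommRing S] (f : R →+* S) (C : Subgroup G) [Fintype C] :
    MonoidAlgebra.mapRingHom G f (sumS C) = sumS C := by
  unfold sumS
  rw [map_sum]
  refine Finset.sum_congr rfl (fun c _ => ?_)
  rw [MonoidAlgebra.mapRingHom_single, map_one]

end sumS

section expansion

variable {F : Type*} [Field F] (π : AlgInt →+* F)

/-- Reduction of the group algebra. -/
noncomputable abbrev red : MonoidAlgebra AlgInt G →+* MonoidAlgebra F G :=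
  MonoidAlgebra.mapRingHom G π

theorem red_eI_classFun (χ : IrrCharacter G) (g k : G) :
    (red π (eI χ)).coeff (k * g * k⁻¹) = (red π (eI χ)).coeff g := by
  rw [coeff_map, coeff_map, eI_classFun]

theorem red_eI_comm (χ : IrrCharacter G) (w : MonoidAlgebra F G) :
    red π (eI χ) * w = w * red π (eI χ) :=
  comm_of_classFun (red_eI_classFun π χ) w

theorem red_eI_mul (χ ψ : IrrCharacter G) :
    red π (eI χ) * red π (eI ψ) = if χ = ψ then codeg χ • red π (eI χ) else 0 := by
  rw [← map_mul, eI_mul_eI]
  by_cases hc : χ = ψ
  · rw [if_pos hc, if_pos hc, map_nsmul]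
  · rw [if_neg hc, if_neg hc, map_zero]

/-- A central element of `F[G]` is a combination of the reductions of the `e_χ`
(second orthogonality modulo `π`). -/
theorem center_expansion [Fintype (IrrCharacter G)] (hG : (Nat.card G : F) ≠ 0)
    {z : MonoidAlgebra F G} (hz : ∀ g k : G, z.coeff (k * g * k⁻¹) = z.coeff g) :
    z = ∑ ψ : IrrCharacter G,
      ((Nat.card G : F)⁻¹ * ∑ g : G, z.coeff g * π (aI ψ g)) • red π (eI ψ) := by
  classical
  apply ext_coeff
  intro x
  rw [coeff_finset_sum]
  have h1 : ∀ ψ : IrrCharacter G,
      (((Nat.card G : F)⁻¹ * ∑ g : G, z.coeff g * π (aI ψ g)) • red π (eI ψ)).coeff x =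
      (Nat.card G : F)⁻¹ * ∑ g : G, z.coeff g * (π (aI ψ g) * π (aI ψ x⁻¹)) := by
    intro ψ
    rw [coeff_smul', coeff_map, coeff_eI, mul_assoc, Finset.sum_mul]
    congr 1
    refine Finset.sum_congr rfl (fun g _ => ?_)
    rw [mul_assoc]
  rw [Finset.sum_congr rfl (fun ψ _ => h1 ψ), ← Finset.mul_sum, Finset.sum_comm]
  have h2 : ∀ g : G, ∑ ψ : IrrCharacter G, z.coeff g * (π (aI ψ g) * π (aI ψ x⁻¹)) =
      if IsConj g x then z.coeff x * ((Nat.card (Subgroup.centralizer ({x} : Set G)) : ℕ) : F)
      else 0 := by
    intro g
    rw [← Finset.mul_sum]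
    have h3 : ∑ ψ : IrrCharacter G, π (aI ψ g) * π (aI ψ x⁻¹) =
        π (∑ ψ : IrrCharacter G, aI ψ g * aI ψ x⁻¹) := by
      rw [map_sum]
      refine Finset.sum_congr rfl (fun ψ _ => ?_)
      rw [map_mul]
    rw [h3, sum_aI_mul_aI]
    by_cases hc : IsConj g x
    · rw [if_pos hc, if_pos hc, map_natCast]
      obtain ⟨c, hc'⟩ := isConj_iff.1 hc
      have e1 : z.coeff g = z.coeff x := by rw [← hc', hz]
      have e2 : Nat.card (Subgroup.centralizer ({g} : Set G)) =
          Nat.card (Subgroup.centralizer ({x} : Set G)) := by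
        have : Subgroup.centralizer ({x} : Set G) =
            (Subgroup.centralizer ({g} : Set G)).map (MulAut.conj c).toMonoidHom := by
          ext u
          simp only [Subgroup.mem_centralizer_iff, Set.mem_singleton_iff, forall_eq,
            Subgroup.mem_map, MulEquiv.coe_toMonoidHom, MulAut.conj_apply]
          constructor
          · intro hu
            refine ⟨c⁻¹ * u * c, ?_, by group⟩
            rw [← hc'] at hu
            have : c * g * c⁻¹ * u = u * (c * g * c⁻¹) := hu
            calc g * (c⁻¹ * u * c) = c⁻¹ * (c * g * c⁻¹ * u) * c := by group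
              _ = c⁻¹ * (u * (c * g * c⁻¹)) * c := by rw [this]
              _ = c⁻¹ * u * c * g := by group
          · rintro ⟨v, hv, rfl⟩
            rw [← hc']
            calc c * g * c⁻¹ * (c * v * c⁻¹) = c * (g * v) * c⁻¹ := by group
              _ = c * (v * g) * c⁻¹ := by rw [hv]
              _ = c * v * c⁻¹ * (c * g * c⁻¹) := by group
        rw [this]
        exact (Nat.card_congr ((MulAut.conj c).subgroupMap _).toEquiv)
      rw [e1, e2]
    · rw [if_neg hc, if_neg hc, map_zero, mul_zero]
  rw [Finset.sum_congr rfl (fun g _ => h2 g), ← Finset.sum_filter, Finset.sum_const,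
    nsmul_eq_mul]
  -- the class of x has |G| / |C(x)| elements
  have h4 : (Finset.univ.filter (fun g : G => IsConj g x)).card *
      Nat.card (Subgroup.centralizer ({x} : Set G)) = Nat.card G := by
    have h5 : (Finset.univ.filter (fun g : G => IsConj g x)).card =
        (Subgroup.centralizer ({x} : Set G)).index := by
      rw [Cfsg.Agent.Lib.H24.index_centralizer_eq_card_conj x, Nat.card_eq_fintype_card,
        Fintype.card_subtype]
      congr 1
      ext g
      simp only [Finset.mem_filter, Finset.mem_univ, true_and]
      exact ⟨fun h => h.symm, fun h => h.symm⟩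
    rw [h5]
    exact Subgroup.index_mul_card _
  have h6 : ((Finset.univ.filter (fun g : G => IsConj g x)).card : F) *
      ((Nat.card (Subgroup.centralizer ({x} : Set G)) : ℕ) : F) = (Nat.card G : F) := by
    exact_mod_cast congrArg (Nat.cast : ℕ → F) h4
  calc z.coeff x = (Nat.card G : F)⁻¹ * ((Nat.card G : F) * z.coeff x) := by
        rw [← mul_assoc, inv_mul_cancel₀ hG, one_mul]
    _ = _ := by rw [← h6]; ring

end expansion

end Cfsg.Agent.Lib.H1.Lift
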