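import Mathlib
import Cfsg.Prelude.Def_Blocks
import Cfsg.Agent.Lib.H1.LiftC

/-!
# The lifting theorem (helper1)

`exists_fpf_irr`: a nonzero fixed-point-free representation of `G` over a field `F` of characteristic
`p ∤ |G|` receiving the algebraic integers forces a fixed-point-free irreducible complex character.
-/

set_option autoImplicit false
set_option linter.unusedSectionVars false

namespace Cfsg.Agent.Lib.H1.Lift

open Cfsg MonoidAlgebra
open scoped ComplexConjugate

variable {G : Type*} [Group G] [Fintype G]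

section

variable {F : Type*} [Field F]

/-- natural numbers prime to `p` are nonzero in a field where `p = 0`. -/
theorem natCast_ne_zero_of_not_dvd {p : ℕ} (hp : p.Prime) (hpF : (p : F) = 0) {n : ℕ}
    (hn : ¬ p ∣ n) : (n : F) ≠ 0 := by
  intro h0
  have hcop : Nat.Coprime n p := ((Nat.Prime.coprime_iff_not_dvd hp).2 hn).symm
  have h1 : ((Nat.gcd n p : ℕ) : ℤ) = n * Nat.gcdA n p + p * Nat.gcdB n p := Nat.gcd_eq_gcd_ab n p
  rw [hcop] at h1
  have h2 := congrArg (Int.cast : ℤ → F) h1
  push_cast at h2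
  rw [h0, hpF, zero_mul, zero_mul, add_zero] at h2
  exact one_ne_zero h2

variable (π : AlgInt →+* F) {W : Type*} [AddCommGroup W] [Module F W] (ρ : Representation F G W)

/-- The conjugation average used to show that blocks are simple. -/
noncomputable def avg (u : MonoidAlgebra F G) : MonoidAlgebra F G :=
  ∑ k : G, single k (1 : F) * u * single k⁻¹ (1 : F)

theorem avg_comm_single (u : MonoidAlgebra F G) (k' : G) :
    avg u * single k' (1 : F) = single k' (1 : F) * avg u := by
  unfold avg
  rw [Finset.sum_mul, Finset.mul_sum]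
  refine Fintype.sum_equiv (Equiv.mulLeft k'⁻¹) _ _ ?_
  intro k
  simp only [Equiv.coe_mulLeft]
  have e1 : single k⁻¹ (1 : F) * single k' (1 : F) = single (k'⁻¹ * k)⁻¹ (1 : F) := by
    rw [MonoidAlgebra.single_mul_single, one_mul, mul_inv_rev, inv_inv]
  have e2 : single k' (1 : F) * single (k'⁻¹ * k) (1 : F) = single k (1 : F) := by
    rw [MonoidAlgebra.single_mul_single, one_mul, mul_inv_cancel_left]
  rw [mul_assoc (single k (1 : F) * u), e1, ← mul_assoc, ← mul_assoc, e2]

theorem avg_classFun (u : MonoidAlgebra F G) (g k : G) :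
    (avg u).coeff (k * g * k⁻¹) = (avg u).coeff g :=
  classFun_of_comm (fun k' => avg_comm_single u k') g k

theorem coeff_avg_one (u : MonoidAlgebra F G) :
    (avg u).coeff 1 = (Nat.card G : F) * u.coeff 1 := by
  unfold avg
  rw [coeff_finset_sum]
  have h : ∀ k : G, (single k (1 : F) * u * single k⁻¹ (1 : F)).coeff 1 = u.coeff 1 := by
    intro k
    rw [coeff_mul_single, coeff_single_mul]
    congr 1
    group
  rw [Finset.sum_congr rfl (fun k _ => h k), Finset.sum_const, Finset.card_univ, nsmul_eq_mul,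
    Nat.card_eq_fintype_card]

/-- `avg` of a product with a central element. -/
theorem avg_mul_central (u c : MonoidAlgebra F G) (hc : ∀ w, c * w = w * c) :
    avg (u * c) = avg u * c := by
  unfold avg
  rw [Finset.sum_mul]
  refine Finset.sum_congr rfl (fun k _ => ?_)
  calc single k (1 : F) * (u * c) * single k⁻¹ 1
      = single k (1 : F) * u * (c * single k⁻¹ 1) := by simp only [mul_assoc]
    _ = single k (1 : F) * u * (single k⁻¹ 1 * c) := by rw [hc]
    _ = single k (1 : F) * u * single k⁻¹ 1 * c := by simp only [mul_assoc]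

theorem asAlgebraHom_avg (u : MonoidAlgebra F G) :
    ρ.asAlgebraHom (avg u) = ∑ k : G, ρ k * ρ.asAlgebraHom u * ρ k⁻¹ := by
  unfold avg
  rw [map_sum]
  refine Finset.sum_congr rfl (fun k _ => ?_)
  rw [map_mul, map_mul, Representation.asAlgebraHom_single, Representation.asAlgebraHom_single,
    one_smul, one_smul]

theorem sum_zpowers_eq_sum_range {A : Type*} [AddCommMonoid A] (g : G) (f : G → A)
    [Fintype (Subgroup.zpowers g)] :
    ∑ c : Subgroup.zpowers g, f (c : G) = ∑ k ∈ Finset.range (orderOf g), f (g ^ k) := by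
  rw [← Fin.sum_univ_eq_sum_range (fun k => f (g ^ k))]
  symm
  refine Fintype.sum_equiv (finEquivZPowers (isOfFinOrder_of_finite g)) _ _ ?_
  intro k
  simp [finEquivZPowers_apply]

/-- **Lifting theorem.** -/
theorem exists_fpf_irr (π : AlgInt →+* F) {p : ℕ} (hp : p.Prime) (hpF : (p : F) = 0) (hpG : ¬ p ∣ Nat.card G)
    (hW : ∃ w : W, w ≠ 0) (hfpf : ∀ g : G, g ≠ 1 → ∀ w : W, ρ g w = w → w = 0) :
    ∃ χ : IrrCharacter G, FpfChar (χ : G → ℂ) := by
  classical
  have : Fintype (IrrCharacter G) := Fintype.ofFinite _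
  have hGF : (Nat.card G : F) ≠ 0 := natCast_ne_zero_of_not_dvd hp hpF hpG
  have hdvdF : ∀ n : ℕ, n ∣ Nat.card G → (n : F) ≠ 0 := fun n hn =>
    natCast_ne_zero_of_not_dvd hp hpF (fun h => hpG (h.trans hn))
  -- Step 1: some block acts nontrivially
  have hsum : ∑ χ : IrrCharacter G, (deg χ : F) • ρ.asAlgebraHom (red π (eI χ)) =
      (Nat.card G : F) • (1 : Module.End F W) := by
    have h := congrArg (fun z => ρ.asAlgebraHom (red π z)) (sum_deg_smul_eI (G := G))
    simp only [map_sum, map_nsmul, map_one] at h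
    rw [Nat.cast_smul_eq_nsmul, ← h]
    refine Finset.sum_congr rfl (fun χ _ => ?_)
    rw [Nat.cast_smul_eq_nsmul]
  obtain ⟨χ, hχ⟩ : ∃ χ : IrrCharacter G, ρ.asAlgebraHom (red π (eI χ)) ≠ 0 := by
    by_contra hcon
    push Not at hcon
    obtain ⟨w, hw⟩ := hW
    have h1 : (Nat.card G : F) • (1 : Module.End F W) = 0 := by
      rw [← hsum]
      apply Finset.sum_eq_zero
      intro χ _
      rw [hcon χ, smul_zero]
    have h2 := congrArg (fun f : Module.End F W => f w) h1
    simp only [LinearMap.smul_apply, Module.End.one_apply, LinearMap.zero_apply] at h2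
    rcases smul_eq_zero.1 h2 with h3 | h3
    · exact hGF h3
    · exact hw h3
  refine ⟨χ, ?_⟩
  intro g hg
  by_contra hne
  have : Fintype (Subgroup.zpowers g) := Fintype.ofFinite _
  set C := Subgroup.zpowers g with hC
  set ε : MonoidAlgebra AlgInt G := sumS C * eI χ with hε
  have hcoef1 : ε.coeff 1 = ∑ c : C, aI χ (c : G) := by
    rw [hε, coeff_sumS_mul]
    refine Finset.sum_congr rfl (fun c _ => ?_)
    rw [mul_one, coeff_eI, inv_inv]
  have hε0 : ε ≠ 0 := by
    intro h0
    apply hne
    rw [← sum_zpowers_eq_sum_range g (χ : G → ℂ)]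
    have h1 : incl (ε.coeff 1) = 0 := by rw [h0]; rfl
    rw [hcoef1, map_sum] at h1
    exact h1
  have hεε : ε * ε = (Fintype.card C * codeg χ) • ε := by
    have h1 : eI χ * sumS C = sumS C * eI χ := comm_of_classFun (eI_classFun χ) (sumS C)
    calc ε * ε = sumS C * (eI χ * sumS C) * eI χ := by rw [hε]; simp only [mul_assoc]
      _ = (sumS C * sumS C) * (eI χ * eI χ) := by rw [h1]; simp only [mul_assoc]
      _ = (Fintype.card C • sumS C) * (codeg χ • eI χ) := by
          rw [sumS_mul_sumS, eI_mul_eI, if_pos rfl]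
      _ = (Fintype.card C * codeg χ) • ε := by
          rw [smul_mul_assoc, mul_smul_comm, smul_smul]
  have hcardC : Fintype.card C ∣ Nat.card G := by
    rw [← Nat.card_eq_fintype_card]
    exact Subgroup.card_subgroup_dvd_card C
  have ha : π ((Fintype.card C * codeg χ : ℕ) : AlgInt) ≠ 0 := by
    rw [map_natCast]
    apply natCast_ne_zero_of_not_dvd hp hpF
    intro hdvd
    rcases (Nat.Prime.dvd_mul hp).1 hdvd with h | h
    · exact hpG (h.trans hcardC)
    · exact hpG (h.trans (codeg_dvd χ))
  have hεbar : red π ε ≠ 0 := map_ne_zero_of_quasiIdem π hεε hε0 ha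
  obtain ⟨g₀, hg₀⟩ : ∃ g₀ : G, (red π ε).coeff g₀ ≠ 0 := by
    by_contra hcon
    push Not at hcon
    exact hεbar (ext_coeff (fun x => by rw [hcon x]; rfl))
  -- the averaged element
  set u : MonoidAlgebra F G := single g₀⁻¹ (1 : F) * red π ε with hu
  set y : MonoidAlgebra F G := avg u with hy
  have hy1 : y.coeff 1 ≠ 0 := by
    rw [hy, coeff_avg_one, hu, coeff_single_mul, inv_inv, mul_one]
    exact mul_ne_zero hGF hg₀
  have hεe : red π ε * red π (eI χ) = codeg χ • red π ε := by
    rw [← map_mul, hε, mul_assoc, eI_mul_eI, if_pos rfl, mul_smul_comm, map_nsmul]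
  have hye : y * red π (eI χ) = codeg χ • y := by
    rw [hy, ← avg_mul_central u _ (red_eI_comm π χ), hu, mul_assoc, hεe, mul_smul_comm]
    unfold avg
    rw [Finset.smul_sum]
    refine Finset.sum_congr rfl (fun k _ => ?_)
    rw [mul_smul_comm, smul_mul_assoc]
  have hexp := center_expansion π hGF (z := y) (fun g' k => avg_classFun u g' k)
  set cψ : IrrCharacter G → F := fun ψ =>
    (Nat.card G : F)⁻¹ * ∑ g' : G, y.coeff g' * π (aI ψ g') with hcψ
  have hye2 : y * red π (eI χ) = (cψ χ * (codeg χ : F)) • red π (eI χ) := by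
    conv_lhs => rw [hexp, Finset.sum_mul]
    rw [Finset.sum_eq_single χ]
    · rw [smul_mul_assoc, red_eI_mul, if_pos rfl, ← Nat.cast_smul_eq_nsmul F, smul_smul]
    · intro ψ _ hψ
      rw [smul_mul_assoc, red_eI_mul, if_neg hψ, smul_zero]
    · intro h
      exact absurd (Finset.mem_univ χ) h
  have hcodeg : (codeg χ : F) ≠ 0 := hdvdF _ (codeg_dvd χ)
  have hyeq : y = cψ χ • red π (eI χ) := by
    have h1 : (codeg χ : F) • y = (codeg χ : F) • (cψ χ • red π (eI χ)) := by
      rw [Nat.cast_smul_eq_nsmul, ← hye, hye2, smul_smul, mul_comm]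
    exact smul_right_injective _ hcodeg h1
  have hc0 : cψ χ ≠ 0 := by
    intro h0
    apply hy1
    rw [hyeq, h0, zero_smul]
    rfl
  -- the operator of ε is nonzero
  have hTy : ρ.asAlgebraHom y ≠ 0 := by
    rw [hyeq, map_smul]
    exact smul_ne_zero hc0 hχ
  have hTε : ρ.asAlgebraHom (red π ε) ≠ 0 := by
    intro h0
    apply hTy
    rw [hy, asAlgebraHom_avg, hu, map_mul, h0, mul_zero]
    simp
  obtain ⟨w, hw⟩ : ∃ w : W, ρ.asAlgebraHom (red π ε) w ≠ 0 := by
    by_contra hcon
    push Not at hcon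
    exact hTε (LinearMap.ext hcon)
  -- a nonzero fixed vector of g
  apply hw
  apply hfpf g hg
  have hgC : g ∈ C := Subgroup.mem_zpowers g
  have h1 : single g (1 : F) * red π ε = red π ε := by
    rw [hε, map_mul, map_sumS, ← mul_assoc, single_mul_sumS C hgC]
  have h2 : ρ g * ρ.asAlgebraHom (red π ε) = ρ.asAlgebraHom (red π ε) := by
    conv_rhs => rw [← h1, map_mul, Representation.asAlgebraHom_single, one_smul]
  exact congrArg (fun f : Module.End F W => f w) h2

end

end Cfsg.Agent.Lib.H1.Lift
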