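import Mathlib
import Cfsg.Prelude.Def_Blocks
import Cfsg.Agent.Lib.H1.LiftD
import Cfsg.Agent.Lib.L0.PRegCongP

/-!
# From a fixed-point-free action on an elementary abelian group to a fixed-point-free character
(helper1)
-/

set_option autoImplicit false
set_option linter.unusedSectionVars false

namespace Cfsg.Agent.Lib.H1.Lift

open Cfsg

section

variable {V : Type*} [Group V] {F : Type*} [Field F]

theorem exists_addHom_ne_zero_aux {A : Type*} [AddCommGroup A] {p : ℕ} [Fact p.Prime]
    [Module (ZMod p) A] [CharP F p] {a : A} (ha : a ≠ 0) : ∃ φ : A →+ F, φ a ≠ 0 := by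
  classical
  obtain ⟨ψ, hψ⟩ : ∃ ψ : A →ₗ[ZMod p] ZMod p, ψ a ≠ 0 := by
    by_contra hcon
    push Not at hcon
    exact ha ((Module.forall_dual_apply_eq_zero_iff (ZMod p) a).1 hcon)
  refine ⟨(ZMod.castHom (dvd_refl p) F).toAddMonoidHom.comp ψ.toAddMonoidHom, ?_⟩
  intro h0
  apply hψ
  have h1 : (ZMod.castHom (dvd_refl p) F) (ψ a) = 0 := h0
  exact (map_eq_zero_iff _ (RingHom.injective _)).1 h1

/-- a nonzero additive functional on a nontrivial elementary abelian group, with values in a field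
of the same characteristic. -/
theorem exists_addHom_ne_zero {p : ℕ} (hp : p.Prime) (hpF : (p : F) = 0)
    (hcomm : ∀ a b : V, a * b = b * a) (hV : ∀ v : V, v ^ p = 1) {v₀ : V} (hv₀ : v₀ ≠ 1) :
    ∃ φ : Additive V →+ F, φ (Additive.ofMul v₀) ≠ 0 := by
  classical
  let _ : CommGroup V := { (inferInstance : Group V) with mul_comm := hcomm }
  have : Fact p.Prime := ⟨hp⟩
  have hV' : ∀ x : Additive V, p • x = 0 := by
    intro x
    exact congrArg Additive.ofMul (hV x.toMul)
  let _ : Module (ZMod p) (Additive V) := AddCommGroup.zmodModule hV'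
  have hne : Additive.ofMul v₀ ≠ (0 : Additive V) := by
    intro h
    exact hv₀ (congrArg Additive.toMul h)
  have : CharP F p := (CharP.charP_iff_prime_eq_zero hp).2 hpF
  exact exists_addHom_ne_zero_aux hne

variable {G : Type*} [Group G]

/-- the representation on additive functionals induced by an action by automorphisms. -/
noncomputable def dualRep (F : Type*) [Field F] (α : G →* MulAut V) :
    Representation F G (Additive V →+ F) where
  toFun g :=
    { toFun := fun φ => φ.comp (MulEquiv.toAdditive (α g⁻¹)).toAddMonoidHom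
      map_add' := fun φ ψ => by ext v; rfl
      map_smul' := fun c φ => by ext v; rfl }
  map_one' := by
    apply LinearMap.ext
    intro φ
    apply AddMonoidHom.ext
    intro v
    simp
  map_mul' g h := by
    apply LinearMap.ext
    intro φ
    apply AddMonoidHom.ext
    intro v
    simp [mul_inv_rev, map_mul]

theorem dualRep_apply (α : G →* MulAut V) (g : G) (φ : Additive V →+ F) (v : V) :
    dualRep F α g φ (Additive.ofMul v) = φ (Additive.ofMul (α g⁻¹ v)) := rfl

theorem dualRep_fpf [Finite V] (α : G →* MulAut V)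
    (hfpf : ∀ g : G, g ≠ 1 → ∀ v : V, α g v = v → v = 1) :
    ∀ g : G, g ≠ 1 → ∀ φ : Additive V →+ F, dualRep F α g φ = φ → φ = 0 := by
  intro g hg φ hφ
  have hg' : g⁻¹ ≠ 1 := fun h => hg (inv_eq_one.1 h)
  have hinj : Function.Injective (fun v : V => α g⁻¹ v * v⁻¹) := by
    intro v w hvw
    simp only at hvw
    have h1 : α g⁻¹ (w⁻¹ * v) = w⁻¹ * v := by
      rw [map_mul, map_inv]
      calc (α g⁻¹ w)⁻¹ * α g⁻¹ v = (α g⁻¹ w)⁻¹ * (α g⁻¹ v * v⁻¹) * v := by group
        _ = (α g⁻¹ w)⁻¹ * (α g⁻¹ w * w⁻¹) * v := by rw [hvw]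
        _ = w⁻¹ * v := by group
    have h2 := hfpf g⁻¹ hg' _ h1
    calc v = w * (w⁻¹ * v) := by group
      _ = w := by rw [h2, mul_one]
  have hsurj := Finite.injective_iff_surjective.1 hinj
  apply AddMonoidHom.ext
  intro x
  obtain ⟨v, hv⟩ := hsurj x.toMul
  simp only at hv
  have h3 : φ (Additive.ofMul (α g⁻¹ v)) = φ (Additive.ofMul v) := by
    rw [← dualRep_apply, hφ]
  have h4 : x = Additive.ofMul (α g⁻¹ v) - Additive.ofMul v := by
    have h5 : Additive.ofMul (α g⁻¹ v) - Additive.ofMul v = Additive.ofMul (α g⁻¹ v * v⁻¹) := by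
      rw [← ofMul_div, div_eq_mul_inv]
    rw [h5, hv]
    rfl
  rw [h4, map_sub, h3, sub_self]
  rfl

end

/-- **From an action to a character.**  A finite group `G` of order prime to `p` acting
fixed-point-freely on a nontrivial finite elementary abelian `p`-group has a fixed-point-free
irreducible complex character. -/
theorem exists_fpf_irr_of_mulAut {G : Type*} [Group G] [Fintype G] {V : Type*} [Group V] [Finite V]
    {p : ℕ} (hp : p.Prime) (hpG : ¬ p ∣ Nat.card G)
    (hcomm : ∀ a b : V, a * b = b * a) (hV : ∀ v : V, v ^ p = 1) (hV1 : ∃ v : V, v ≠ 1)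
    (α : G →* MulAut V) (hfpf : ∀ g : G, g ≠ 1 → ∀ v : V, α g v = v → v = 1) :
    ∃ χ : IrrCharacter G, FpfChar (χ : G → ℂ) := by
  classical
  obtain ⟨M, hM⟩ := Cfsg.Agent.Lib.L0.PRegP.exists_isPModular hp
  have hMmax : M.IsMaximal := hM.2.1
  let _ : Field (AlgInt ⧸ M) := Ideal.Quotient.field M
  have hpF : ((p : ℕ) : AlgInt ⧸ M) = 0 := by
    have h1 : (Ideal.Quotient.mk M) (p : AlgInt) = 0 := Ideal.Quotient.eq_zero_iff_mem.2 hM.2.2
    rwa [map_natCast] at h1
  obtain ⟨v₀, hv₀⟩ := hV1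
  obtain ⟨φ, hφ⟩ := exists_addHom_ne_zero (F := AlgInt ⧸ M) hp hpF hcomm hV hv₀
  refine exists_fpf_irr (dualRep (AlgInt ⧸ M) α) (Ideal.Quotient.mk M) hp hpF hpG ⟨φ, ?_⟩
    (dualRep_fpf α hfpf)
  intro h0
  apply hφ
  rw [h0]
  rfl

end Cfsg.Agent.Lib.H1.Lift
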