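import Mathlib
import Cfsg.Prelude.Def_Blocks
import Cfsg.Agent.Lib.H1.LiftE
import Cfsg.Agent.Lib.H1.OmegaZ
import Cfsg.Agent.Lib.H20.FrobGiven

/-!
# A Frobenius complement has a fixed-point-free irreducible character (helper1)
-/

set_option autoImplicit false
set_option linter.unusedSectionVars false

namespace Cfsg.Agent.Lib.H1.Lift

open Cfsg

/-- group side: a Frobenius complement `H` acts fixed-point-freely on a nontrivial normal
elementary abelian `p`-subgroup, `p ∤ |H|`. -/
theorem exists_elemAb_of_frobComp {L : Type*} [Group L] [Finite L] {H : Subgroup L}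
    (hH : IsFrobeniusComplement H) :
    ∃ (p : ℕ) (V : Subgroup L), p.Prime ∧ ¬ p ∣ Nat.card H ∧ V ≠ ⊥ ∧ V.Normal ∧
      (∀ a ∈ V, ∀ b ∈ V, a * b = b * a) ∧ (∀ v ∈ V, v ^ p = 1) ∧
      ∀ h ∈ H, h ≠ 1 → ∀ v ∈ V, h * v = v * h → v = 1 := by
  classical
  set N := Cfsg.Agent.Lib.H18.frobKer H hH with hNdef
  have hN : frobeniusKernel H = (N : Set L) := (Cfsg.Agent.Lib.H18.coe_frobKer H hH).symm
  have hnorm : N.Normal := Cfsg.Agent.Lib.H20.FG.normal hH hN
  have hnil : Group.IsNilpotent N := Cfsg.Agent.Lib.H20.FG.nilpotent hH hN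
  have hne : N ≠ ⊥ := Cfsg.Agent.Lib.H20.FG.ne_bot hH hN
  have hcop := Cfsg.Agent.Lib.H20.FG.coprime hH hN
  have hfpf := Cfsg.Agent.Lib.H20.FG.fpf hH hN
  have : Nontrivial N := (Subgroup.nontrivial_iff_ne_bot N).2 hne
  have hZ : Subgroup.center N ≠ ⊥ := Group.IsNilpotent.center_ne_bot N
  have hZcard : Nat.card (Subgroup.center N) ≠ 1 := by
    intro h
    exact hZ (Subgroup.card_eq_one.1 h)
  obtain ⟨p, hp, hpdvd⟩ := Nat.exists_prime_and_dvd hZcard
  have : Fact p.Prime := ⟨hp⟩
  obtain ⟨z, hz⟩ := exists_prime_orderOf_dvd_card' p hpdvd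
  have hpN : p ∣ Nat.card N := hpdvd.trans (Subgroup.card_subgroup_dvd_card _)
  refine ⟨p, Cfsg.Agent.Lib.H1.omegaZ p N, hp, ?_, ?_, Cfsg.Agent.Lib.H1.omegaZ_normal N,
    Cfsg.Agent.Lib.H1.omegaZ_comm N, fun v hv => hv.2.2, ?_⟩
  · intro hpH
    have h1 : p ∣ Nat.gcd (Nat.card N) (Nat.card H) := Nat.dvd_gcd hpN hpH
    rw [hcop] at h1
    exact hp.one_lt.ne' (Nat.dvd_one.1 h1)
  · intro hbot
    have hx : ((z : N) : L) ∈ Cfsg.Agent.Lib.H1.omegaZ p N := by
      refine ⟨(z : N).2, ?_, ?_⟩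
      · rw [Subgroup.mem_centralizer_iff]
        intro n hn
        have h1 := Subgroup.mem_center_iff.1 z.2 ⟨n, hn⟩
        exact congrArg Subtype.val h1
      · have h1 : z ^ p = 1 := by rw [← hz]; exact pow_orderOf_eq_one z
        have h2 := congrArg (fun y : Subgroup.center N => ((y : N) : L)) h1
        simpa using h2
    rw [hbot, Subgroup.mem_bot] at hx
    have hz1 : z = 1 := by
      apply Subtype.ext
      apply Subtype.ext
      simpa using hx
    rw [hz1, orderOf_one] at hz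
    exact hp.one_lt.ne hz
  · intro h hh hh1 v hv hcomm
    exact hfpf h hh hh1 v hv.1 hcomm

/-- **A Frobenius complement has a fixed-point-free irreducible character.** -/
theorem exists_fpf_irr_of_frobComp {L : Type*} [Group L] [Finite L] {H : Subgroup L}
    (hH : IsFrobeniusComplement H) {G : Type*} [Group G] [Fintype G] (e : G ≃* H) :
    ∃ χ : IrrCharacter G, FpfChar (χ : G → ℂ) := by
  classical
  obtain ⟨p, V, hp, hpH, hVne, hVn, hVcomm, hVexp, hVfpf⟩ := exists_elemAb_of_frobComp hH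
  have hcard : Nat.card G = Nat.card H := Nat.card_congr e.toEquiv
  set α : G →* MulAut V := (MulAut.conjNormal (H := V)).comp (H.subtype.comp e.toMonoidHom) with hα
  have hαapp : ∀ (g : G) (v : V), ((α g v : V) : L) = (e g : L) * v * ((e g : L))⁻¹ := by
    intro g v
    rw [hα]
    simp [MulAut.conjNormal_apply]
  refine exists_fpf_irr_of_mulAut (V := V) hp (by rw [hcard]; exact hpH)
    (fun a b => Subtype.ext (hVcomm a a.2 b b.2))
    (fun v => Subtype.ext (by simpa using hVexp v v.2)) ?_ α ?_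
  · obtain ⟨v, hv⟩ := (Subgroup.ne_bot_iff_exists_ne_one).1 hVne
    exact ⟨v, hv⟩
  · intro g hg v hv
    have h1 : (e g : L) * v * ((e g : L))⁻¹ = v := by rw [← hαapp, hv]
    have h2 : (e g : L) * v = v * (e g : L) := by
      calc (e g : L) * v = ((e g : L) * v * ((e g : L))⁻¹) * (e g : L) := by group
        _ = v * (e g : L) := by rw [h1]
    have hg1 : (e g : L) ≠ 1 := by
      intro h
      apply hg
      apply e.injective
      apply Subtype.ext
      simpa using h
    exact Subtype.ext (hVfpf (e g) (e g).2 hg1 v v.2 h2)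

end Cfsg.Agent.Lib.H1.Lift
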