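import Mathlib
import Cfsg.Agent.Lib.L0.CharEquiv

/-!
Representations over a subfield `K` of `ℂ` (given by a ring hom `ι : K →+* ℂ`):
turning them into complex matrix representations with entries in the image of `ι`.
-/
open Module

namespace Cfsg.Agent.Lib.H1.Split

section Complexify
variable {K : Type*} [Field K] (ι : K →+* ℂ) {G : Type*} [Monoid G]
  {V : Type*} [AddCommGroup V] [Module K V]

/-- The complex matrix representation obtained from a `K`-representation and a basis. -/
noncomputable def complexify {n : ℕ} (b : Basis (Fin n) K V) (ρ : Representation K G V) :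
    Representation ℂ G (Fin n → ℂ) where
  toFun g := Matrix.toLin' ((LinearMap.toMatrix b b (ρ g)).map ι)
  map_one' := by
    rw [map_one, LinearMap.toMatrix_one, Matrix.map_one _ (map_zero ι) (map_one ι), Matrix.toLin'_one]
    rfl
  map_mul' g h := by
    rw [map_mul, LinearMap.toMatrix_mul, Matrix.map_mul, Matrix.toLin'_mul]
    rfl

theorem complexify_entry {n : ℕ} (b : Basis (Fin n) K V) (ρ : Representation K G V) (g : G)
    (i j : Fin n) :
    LinearMap.toMatrix' (complexify ι b ρ g) i j = ι (LinearMap.toMatrix b b (ρ g) i j) := by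
  show LinearMap.toMatrix' (Matrix.toLin' ((LinearMap.toMatrix b b (ρ g)).map ι)) i j = _
  rw [LinearMap.toMatrix'_toLin']
  rfl

theorem complexify_character {n : ℕ} (b : Basis (Fin n) K V) (ρ : Representation K G V) (g : G) :
    (complexify ι b ρ).character g = ι (ρ.character g) := by
  show LinearMap.trace ℂ (Fin n → ℂ) (Matrix.toLin' ((LinearMap.toMatrix b b (ρ g)).map ι)) = _
  rw [LinearMap.trace_eq_matrix_trace ℂ (Pi.basisFun ℂ (Fin n)), LinearMap.toMatrix_eq_toMatrix',
    LinearMap.toMatrix'_toLin']
  show _ = ι (LinearMap.trace K V (ρ g))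
  rw [LinearMap.trace_eq_matrix_trace K b, AddMonoidHom.map_trace ι]

end Complexify

end Cfsg.Agent.Lib.H1.Split
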