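import Mathlib
import Cfsg.Agent.Lib.H1.SplitA

/-!
`Repble ι φ`: the complex class function `φ` is (the image under `ι` of) the character of a
finite-dimensional representation over `K`.  Cancellation: if `χ` is a complex character and
`χ = ψ₁ - ψ₂` with `ψ₁, ψ₂` realizable over `K`, then `χ` is realizable over `K`.
-/
open Module

namespace Cfsg.Agent.Lib.H1.Split

universe u v

section Defs
variable {K : Type v} [Field K] (ι : K →+* ℂ) {G : Type u} [Group G]

/-- `φ` is the (image of the) character of a finite-dimensional `K`-representation living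
in universe `max u v`. -/
def Repble (φ : G → ℂ) : Prop :=
  ∃ (W : Type (max u v)) (_ : AddCommGroup W) (_ : Module K W) (_ : FiniteDimensional K W)
    (σ : Representation K G W), ∀ g, ι (σ.character g) = φ g

variable {ι}

theorem Repble.isCharacter {φ : G → ℂ} (h : Repble ι φ) : Cfsg.IsCharacter G φ := by
  obtain ⟨W, _, _, _, σ, hσ⟩ := h
  refine ⟨finrank K W, complexify ι (Module.finBasis K W) σ, ?_⟩
  funext g
  rw [complexify_character, hσ]

theorem repble_zero : Repble ι (0 : G → ℂ) := by
  refine ⟨PUnit.{max u v + 1}, inferInstance, inferInstance, inferInstance,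
    Representation.trivial K G PUnit.{max u v + 1}, ?_⟩
  intro g
  have : (Representation.trivial K G PUnit.{max u v + 1}).character g = 0 := by
    unfold Representation.character
    have h0 : (Representation.trivial K G PUnit.{max u v + 1}) g = 0 := by
      ext x
    rw [h0, map_zero]
  rw [this, map_zero]
  rfl

theorem Repble.add {φ ψ : G → ℂ} (hφ : Repble ι φ) (hψ : Repble ι ψ) : Repble ι (φ + ψ) := by
  obtain ⟨W, _, _, _, σ, hσ⟩ := hφ
  obtain ⟨W', _, _, _, σ', hσ'⟩ := hψ
  refine ⟨W × W', inferInstance, inferInstance, inferInstance, σ.prod σ', ?_⟩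
  intro g
  have : (σ.prod σ').character g = σ.character g + σ'.character g := by
    show LinearMap.trace K (W × W') ((σ g).prodMap (σ' g)) = _
    rw [LinearMap.trace_prodMap']
    rfl
  rw [this, map_add, hσ, hσ']
  rfl

theorem Repble.nsmul {φ : G → ℂ} (hφ : Repble ι φ) (n : ℕ) : Repble ι (n • φ) := by
  induction n with
  | zero => rw [zero_smul]; exact repble_zero
  | succ n ih => rw [succ_nsmul]; exact ih.add hφ

end Defs

section Cancel
variable {K : Type v} [Field K] [CharZero K] (ι : K →+* ℂ) {G : Type u} [Group G] [Finite G]

omit [CharZero K] [Finite G] in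
theorem isCompl_toSubmodule {V : Type*} [AddCommGroup V] [Module K V] {ρ : Representation K G V}
    {U U' : Subrepresentation ρ} (h : IsCompl U U') : IsCompl U.toSubmodule U'.toSubmodule := by
  constructor
  · rw [disjoint_iff]
    exact congrArg Subrepresentation.toSubmodule h.inf_eq_bot
  · rw [codisjoint_iff]
    exact congrArg Subrepresentation.toSubmodule h.sup_eq_top

theorem cancel_aux : ∀ (d : ℕ) {V₁ V₂ : Type (max u v)} [AddCommGroup V₁] [Module K V₁]
    [FiniteDimensional K V₁] [AddCommGroup V₂] [Module K V₂] [FiniteDimensional K V₂]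
    (ρ₁ : Representation K G V₁) (ρ₂ : Representation K G V₂) (χ : G → ℂ),
    Cfsg.IsCharacter G χ → finrank K V₂ = d →
    (∀ g, ι (ρ₁.character g) = χ g + ι (ρ₂.character g)) → Repble ι χ := by
  intro d
  induction d using Nat.strong_induction_on with
  | _ d ih =>
  intro V₁ V₂ _ _ _ _ _ _ ρ₁ ρ₂ χ hχ hd hrel
  classical
  letI : Fintype G := Fintype.ofFinite G
  by_cases h0 : d = 0
  · subst h0
    have hsub : Subsingleton V₂ := Module.finrank_zero_iff.mp hd
    refine ⟨V₁, inferInstance, inferInstance, inferInstance, ρ₁, fun g => ?_⟩
    have hz : ρ₂.character g = 0 := by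
      unfold Representation.character
      have : ρ₂ g = 0 := by ext x; exact Subsingleton.elim _ _
      rw [this, map_zero]
    rw [hrel g, hz, map_zero, add_zero]
  · have hpos : 0 < finrank K V₂ := by omega
    have : Nontrivial V₂ := Module.finrank_pos_iff.mp hpos
    obtain ⟨S, hS, hirr⟩ := Cfsg.Agent.Lib.L0.exists_irreducible_subrep ρ₂
    have := hirr
    have hcardK : (Nat.card G : K) ≠ 0 := by exact_mod_cast (Nat.card_pos (α := G)).ne'
    have : NeZero (Nat.card G : K) := ⟨hcardK⟩
    obtain ⟨S', hc⟩ := exists_isCompl S
    have h2 := Cfsg.Agent.Lib.L0.char_eq_add_of_isCompl ρ₂ S S' hc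
    have hcS := isCompl_toSubmodule hc
    -- complex characters
    have hψS : Repble ι (fun g => ι (S.toRepresentation.character g)) :=
      ⟨_, inferInstance, inferInstance, inferInstance, S.toRepresentation, fun _ => rfl⟩
    have hψS' : Repble ι (fun g => ι (S'.toRepresentation.character g)) :=
      ⟨_, inferInstance, inferInstance, inferInstance, S'.toRepresentation, fun _ => rfl⟩
    have cS := hψS.isCharacter
    have cS' := hψS'.isCharacter
    letI : Invertible (Nat.card G : K) := invertibleOfNonzero hcardK
    have hfin := Representation.card_inv_mul_sum_char_mul_char_eq_finrank S.toRepresentation ρ₁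
    have hfinC : (finrank K (Representation.IntertwiningMap S.toRepresentation ρ₁) : ℂ) =
        Cfsg.classInner χ (fun g => ι (S.toRepresentation.character g)) +
        Cfsg.classInner (fun g => ι (S.toRepresentation.character g))
          (fun g => ι (S.toRepresentation.character g)) +
        Cfsg.classInner (fun g => ι (S'.toRepresentation.character g))
          (fun g => ι (S.toRepresentation.character g)) := by
      have := congrArg ι hfin
      rw [map_mul, map_inv₀, map_natCast, map_natCast, map_sum] at this
      rw [← this]
      unfold Cfsg.classInner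
      rw [← mul_add, ← mul_add, ← Finset.sum_add_distrib, ← Finset.sum_add_distrib]
      congr 1
      refine Finset.sum_congr rfl fun g _ => ?_
      rw [map_mul, hrel g, h2]
      have hinv := Cfsg.Agent.Lib.L0.isCharacter_apply_inv cS g
      rw [hinv, Pi.add_apply, map_add]
      ring
    obtain ⟨a, ha⟩ := Cfsg.Agent.Lib.L0.classInner_char_char_nat hχ cS
    obtain ⟨b, hb⟩ := Cfsg.Agent.Lib.L0.classInner_char_char_nat cS cS
    obtain ⟨c, hc'⟩ := Cfsg.Agent.Lib.L0.classInner_char_char_nat cS' cS
    have hSpos : 0 < finrank K S.toSubmodule := by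
      rw [Module.finrank_pos_iff, Submodule.nontrivial_iff_ne_bot]
      intro h; exact hS (Subrepresentation.toSubmodule_injective h)
    have hb0 : b ≠ 0 := by
      intro hb0
      rw [hb0, Nat.cast_zero] at hb
      have := Cfsg.Agent.Lib.L0.classInner_self_eq_zero hb
      have h1 := congrFun this 1
      simp only [Representation.char_one, map_natCast, Pi.zero_apply] at h1
      have : finrank K S.toSubmodule = 0 := by exact_mod_cast h1
      omega
    rw [ha, hb, hc'] at hfinC
    have hHom : finrank K (Representation.IntertwiningMap S.toRepresentation ρ₁) ≠ 0 := by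
      intro h
      rw [h] at hfinC
      have : (0 : ℕ) = a + b + c := by exact_mod_cast hfinC
      omega
    have hex : ∃ f : Representation.IntertwiningMap S.toRepresentation ρ₁, f ≠ 0 := by
      by_contra hall
      push Not at hall
      have : Subsingleton (Representation.IntertwiningMap S.toRepresentation ρ₁) :=
        ⟨fun f g => by rw [hall f, hall g]⟩
      exact hHom (Module.finrank_zero_of_subsingleton)
    obtain ⟨f, hf⟩ := hex
    have hinj : Function.Injective f := (Representation.IsIrreducible.injective_or_eq_zero f).resolve_right hf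
    have e := Cfsg.Agent.Lib.L0.equivRangeOfInjective f hinj
    obtain ⟨T, hT⟩ := exists_isCompl f.range
    have h1 := Cfsg.Agent.Lib.L0.char_eq_add_of_isCompl ρ₁ f.range T hT
    have he := Representation.char_iso e
    have hlt : finrank K S'.toSubmodule < d := by
      have := Submodule.finrank_add_eq_of_isCompl hcS
      omega
    refine ih (finrank K S'.toSubmodule) hlt T.toRepresentation S'.toRepresentation χ hχ rfl ?_
    intro g
    have hg := hrel g
    rw [h1, h2, ← he] at hg
    simp only [Pi.add_apply, map_add] at hg
    have : ι (T.toRepresentation.character g) = χ g + ι (S'.toRepresentation.character g) := by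
      linear_combination hg
    exact this

/-- Cancellation: a complex character which is a difference of two `K`-realizable class
functions is `K`-realizable. -/
theorem repble_of_sub {χ φ₁ φ₂ : G → ℂ} (hχ : Cfsg.IsCharacter G χ) (h₁ : Repble ι φ₁)
    (h₂ : Repble ι φ₂) (h : φ₁ = χ + φ₂) : Repble ι χ := by
  obtain ⟨W₁, _, _, _, σ₁, hσ₁⟩ := h₁
  obtain ⟨W₂, _, _, _, σ₂, hσ₂⟩ := h₂
  refine cancel_aux ι _ σ₁ σ₂ χ hχ rfl fun g => ?_
  rw [hσ₁, hσ₂, h]
  rfl

end Cancel

end Cfsg.Agent.Lib.H1.Split
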