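import Mathlib
import Cfsg.Agent.Lib.H1.SplitB
import Cfsg.Agent.Lib.L0.CharInd

/-!
The representation induced from a linear character `lam : E →* K` of a subgroup, realized over `K`
as the image of the idempotent `f ↦ (x ↦ |E|⁻¹ ∑ e, lam e * f (x * e))` on the left regular
representation on `G → K`; its character is `indFun`.
-/
open Module

namespace Cfsg.Agent.Lib.H1.Split

universe u v

section TraceProj
variable {K : Type*} [Field K] {V : Type*} [AddCommGroup V] [Module K V] [FiniteDimensional K V]

/-- If `R` is an idempotent commuting with `T`, then the trace of `T` on the range of `R` is the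
trace of `T ∘ R`. -/
theorem trace_restrict_range_of_idem (T R : V →ₗ[K] V) (hR : R ∘ₗ R = R) (hTR : T ∘ₗ R = R ∘ₗ T)
    (hp : Set.MapsTo T (LinearMap.range R) (LinearMap.range R)) :
    LinearMap.trace K (LinearMap.range R) (T.restrict hp) = LinearMap.trace K V (T ∘ₗ R) := by
  have hRR : ∀ x, R (R x) = R x := fun x => LinearMap.congr_fun hR x
  have hTRx : ∀ x, T (R x) = R (T x) := fun x => LinearMap.congr_fun hTR x
  have hc : IsCompl (LinearMap.range R) (LinearMap.ker R) := by
    constructor
    · rw [disjoint_iff, Submodule.eq_bot_iff]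
      rintro x ⟨⟨y, rfl⟩, hx⟩
      have hx' : R (R y) = 0 := hx
      rw [hRR] at hx'
      exact hx'
    · rw [codisjoint_iff, Submodule.eq_top_iff']
      intro x
      have : x = R x + (x - R x) := by abel
      rw [this]
      refine Submodule.add_mem_sup ⟨x, rfl⟩ ?_
      rw [LinearMap.mem_ker, map_sub, hRR, sub_self]
  have hp' : Set.MapsTo (T ∘ₗ R) (LinearMap.range R) (LinearMap.range R) := by
    rintro x ⟨y, rfl⟩
    exact ⟨T (R y), by simp [hTRx, hRR]⟩
  have hq' : Set.MapsTo (T ∘ₗ R) (LinearMap.ker R) (LinearMap.ker R) := by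
    intro x hx
    have hx' : R x = 0 := hx
    show R ((T ∘ₗ R) x) = 0
    simp [hx']
  rw [Cfsg.Agent.Lib.L0.trace_eq_add_of_isCompl (T ∘ₗ R) _ _ hc hp' hq']
  have h1 : (T ∘ₗ R).restrict hp' = T.restrict hp := by
    ext ⟨x, y, rfl⟩
    show T (R (R y)) = T (R y)
    rw [hRR]
  have h2 : (T ∘ₗ R).restrict hq' = 0 := by
    ext ⟨x, hx⟩
    have hx' : R x = 0 := hx
    show T (R x) = 0
    rw [hx', map_zero]
  rw [h1, h2, map_zero, add_zero]

end TraceProj

section Ind
variable {K : Type v} [Field K] {G : Type u} [Group G]

/-- The left regular representation on functions. -/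
def lreg : Representation K G (G → K) where
  toFun g := LinearMap.funLeft K K (fun x => g⁻¹ * x)
  map_one' := by ext f x; simp [LinearMap.funLeft_apply]
  map_mul' g h := by ext f x; simp [LinearMap.funLeft_apply, mul_assoc]

theorem lreg_apply (g : G) (f : G → K) (x : G) : (lreg (K := K) g) f x = f (g⁻¹ * x) := rfl

variable (E : Subgroup G) [Fintype E] (lam : E →* K)

/-- Right multiplication by the idempotent attached to `lam`. -/
noncomputable def rop : (G → K) →ₗ[K] (G → K) :=
  (Nat.card E : K)⁻¹ • ∑ e : E, lam e • LinearMap.funLeft K K (fun x : G => x * (e : G))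

theorem rop_apply (f : G → K) (x : G) :
    rop E lam f x = (Nat.card E : K)⁻¹ * ∑ e : E, lam e * f (x * (e : G)) := by
  simp [rop, LinearMap.funLeft_apply, Finset.sum_apply]

theorem lreg_comp_rop (g : G) : (lreg (K := K) g) ∘ₗ rop E lam = rop E lam ∘ₗ (lreg g) := by
  ext f x
  simp only [LinearMap.comp_apply, lreg_apply, rop_apply, mul_assoc]

theorem rop_comp_rop [CharZero K] : rop E lam ∘ₗ rop E lam = rop E lam := by
  have hcard : (Nat.card E : K) ≠ 0 := by
    exact_mod_cast (Nat.card_pos (α := E)).ne'
  ext f x
  simp only [LinearMap.comp_apply, rop_apply]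
  have key : ∀ e : E, lam e * ((Nat.card E : K)⁻¹ * ∑ e' : E, lam e' * f (x * (e : G) * (e' : G))) =
      (Nat.card E : K)⁻¹ * ∑ e'' : E, lam e'' * f (x * (e'' : G)) := by
    intro e
    rw [mul_left_comm, Finset.mul_sum]
    congr 1
    refine Fintype.sum_equiv (Equiv.mulLeft e) _ _ fun e' => ?_
    simp [mul_assoc]
  rw [Finset.sum_congr rfl fun e _ => key e, Finset.sum_const, Finset.card_univ,
    ← Nat.card_eq_fintype_card, nsmul_eq_mul]
  field_simp

/-- `rop` as an intertwining map of the regular representation. -/
noncomputable def ropI : Representation.IntertwiningMap (lreg (K := K) (G := G)) (lreg (K := K) (G := G)) where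
  toLinearMap := rop E lam
  isIntertwining' g := (lreg_comp_rop E lam g).symm

/-- The induced representation. -/
noncomputable def indRep : Representation K G (ropI E lam).range.toSubmodule :=
  (ropI E lam).range.toRepresentation

theorem indRep_character [CharZero K] [Fintype G] [DecidableEq G] (g : G) :
    (indRep E lam).character g =
      (Nat.card E : K)⁻¹ * ∑ x : G, ∑ e : E, lam e * (if g⁻¹ * (x * (e : G)) = x then 1 else 0) := by
  have hp : Set.MapsTo (lreg (K := K) g) (LinearMap.range (rop E lam)) (LinearMap.range (rop E lam)) :=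
    fun v hv => (ropI E lam).range.apply_mem_toSubmodule g hv
  have h1 : (indRep E lam).character g =
      LinearMap.trace K (LinearMap.range (rop E lam)) ((lreg (K := K) g).restrict hp) := rfl
  rw [h1, trace_restrict_range_of_idem _ _ (rop_comp_rop E lam) (lreg_comp_rop E lam g),
    LinearMap.trace_eq_matrix_trace K (Pi.basisFun K G), LinearMap.toMatrix_eq_toMatrix',
    Matrix.trace, Finset.mul_sum]
  refine Finset.sum_congr rfl fun x _ => ?_
  rw [Matrix.diag_apply, LinearMap.toMatrix'_apply, LinearMap.comp_apply, lreg_apply, rop_apply]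
  congr 1
  refine Finset.sum_congr rfl fun e _ => ?_
  rw [Pi.single_apply, mul_assoc]

end Ind

section IndFun
variable {K : Type v} [Field K] [CharZero K] (ι : K →+* ℂ) {G : Type u} [Group G] [Fintype G]

/-- The class function induced from a `K`-valued linear character is `K`-realizable. -/
theorem repble_indFun (E : Subgroup G) (lam : E →* K) :
    Repble ι (Cfsg.indFun E (fun e => ι (lam e))) := by
  classical
  letI : Fintype E := Fintype.ofFinite E
  refine ⟨_, inferInstance, inferInstance, inferInstance, indRep E lam, fun g => ?_⟩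
  rw [indRep_character]
  unfold Cfsg.indFun
  rw [map_mul, map_inv₀, map_natCast, map_sum]
  congr 1
  refine Finset.sum_congr rfl fun x _ => ?_
  rw [map_sum]
  by_cases hx : x⁻¹ * g * x ∈ E
  · rw [Cfsg.Agent.Lib.L0.extendByZero_apply_of_mem _ _ hx]
    rw [Finset.sum_eq_single (⟨x⁻¹ * g * x, hx⟩ : E)]
    · have : g⁻¹ * (x * (x⁻¹ * g * x)) = x := by group
      simp [this]
    · intro e _ hne
      have : ¬ g⁻¹ * (x * (e : G)) = x := by
        intro h
        apply hne
        apply Subtype.ext
        show (e : G) = x⁻¹ * g * x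
        calc (e : G) = x⁻¹ * (g * (g⁻¹ * (x * (e : G)))) := by group
          _ = x⁻¹ * (g * x) := by rw [h]
          _ = x⁻¹ * g * x := by group
      simp [this]
    · intro h; exact absurd (Finset.mem_univ _) h
  · rw [Cfsg.Agent.Lib.L0.extendByZero_apply_not_mem _ _ hx]
    refine Finset.sum_eq_zero fun e _ => ?_
    have : ¬ g⁻¹ * (x * (e : G)) = x := by
      intro h
      apply hx
      have : x⁻¹ * g * x = (e : G) := by
        calc x⁻¹ * g * x = x⁻¹ * (g * x) := by group
          _ = x⁻¹ * (g * (g⁻¹ * (x * (e : G)))) := by rw [h]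
          _ = (e : G) := by group
      rw [this]; exact e.2
    simp [this]

end IndFun

end Cfsg.Agent.Lib.H1.Split
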