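import Mathlib
import Cfsg.Agent.Lib.H1.SplitC
import Cfsg.Agent.S0163

/-!
Brauer's splitting field theorem, abstract form: if `K ⊆ ℂ` (via `ι`) contains the values of all
linear characters of all subgroups of `G`, every complex representation of `G` is equivalent to one
with matrix entries in `K`.
-/
open Module

namespace Cfsg.Agent.Lib.H1.Split

universe u v

section Main
variable {K : Type v} [Field K] [CharZero K] (ι : K →+* ℂ) {G : Type u} [Group G]

/-- Differences of `K`-realizable class functions. -/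
def DiffRepble (φ : G → ℂ) : Prop := ∃ φ₁ φ₂, Repble ι φ₁ ∧ Repble ι φ₂ ∧ φ + φ₂ = φ₁

variable {ι}

omit [CharZero K] in
theorem diffRepble_zero : DiffRepble ι (0 : G → ℂ) :=
  ⟨0, 0, repble_zero, repble_zero, by simp⟩

omit [CharZero K] in
theorem DiffRepble.add {φ ψ : G → ℂ} (h1 : DiffRepble ι φ) (h2 : DiffRepble ι ψ) :
    DiffRepble ι (φ + ψ) := by
  obtain ⟨a, b, ha, hb, hab⟩ := h1
  obtain ⟨c, d, hc, hd, hcd⟩ := h2
  refine ⟨a + c, b + d, ha.add hc, hb.add hd, ?_⟩
  rw [← hab, ← hcd]; abel

omit [CharZero K] in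
theorem diffRepble_zsmul {φ : G → ℂ} (h : Repble ι φ) (a : ℤ) : DiffRepble ι ((a : ℂ) • φ) := by
  rcases Int.eq_nat_or_neg a with ⟨n, rfl | rfl⟩
  · refine ⟨n • φ, 0, h.nsmul n, repble_zero, ?_⟩
    funext g
    simp
  · refine ⟨0, n • φ, repble_zero, h.nsmul n, ?_⟩
    funext g
    simp

variable (ι)

/-- Main abstract theorem. -/
theorem repble_of_isCharacter [Fintype G]
    (hK : ∀ (E : Subgroup G) (lam : E →* ℂˣ) (e : E), (lam e : ℂ) ∈ Set.range ι)
    {χ : G → ℂ} (hχ : Cfsg.IsCharacter G χ) : Repble ι χ := by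
  classical
  obtain ⟨l, -, hl⟩ := Cfsg.Agent.S0163.result χ hχ
  have key : ∀ l : List ((E : Subgroup G) × ((E →* ℂˣ) × ℤ)),
      DiffRepble ι (l.map fun t => (t.2.2 : ℂ) • Cfsg.indFun t.1 (fun e => (t.2.1 e : ℂ))).sum := by
    intro l
    induction l with
    | nil => simpa using diffRepble_zero
    | cons t l ih =>
      rw [List.map_cons, List.sum_cons]
      refine DiffRepble.add ?_ ih
      obtain ⟨E, lam, a⟩ := t
      -- the `K`-valued version of `lam`
      have hch : ∀ e : E, ∃ k : K, ι k = (lam e : ℂ) := fun e => hK E lam e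
      choose f hf using hch
      let lamK : E →* K :=
        { toFun := f
          map_one' := by
            apply ι.injective
            rw [hf, map_one, map_one]; rfl
          map_mul' := fun x y => by
            apply ι.injective
            rw [hf, map_mul, map_mul, hf, hf]; rfl }
      have heq : (fun e : E => (lam e : ℂ)) = fun e => ι (lamK e) := by
        funext e; exact (hf e).symm
      show DiffRepble ι ((a : ℂ) • Cfsg.indFun E (fun e => (lam e : ℂ)))
      rw [heq]
      exact diffRepble_zsmul (repble_indFun ι E lamK) a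
  have hd := key l
  rw [← hl] at hd
  obtain ⟨φ₁, φ₂, h₁, h₂, h⟩ := hd
  exact repble_of_sub ι hχ h₁ h₂ h.symm

/-- Every complex representation is equivalent to one with entries in the image of `ι`. -/
theorem exists_equiv_entries [Finite G]
    (hK : ∀ (E : Subgroup G) (lam : E →* ℂˣ) (e : E), (lam e : ℂ) ∈ Set.range ι)
    (n : ℕ) (ρ : Representation ℂ G (Fin n → ℂ)) :
    ∃ σ : Representation ℂ G (Fin n → ℂ), Nonempty (ρ.Equiv σ) ∧
      ∀ g : G, ∀ i j : Fin n, LinearMap.toMatrix' (σ g) i j ∈ Set.range ι := by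
  classical
  letI : Fintype G := Fintype.ofFinite G
  have hχ : Cfsg.IsCharacter G ρ.character := ⟨n, ρ, rfl⟩
  obtain ⟨W, _, _, _, σ, hσ⟩ := repble_of_isCharacter ι hK hχ
  have hfin : finrank K W = n := by
    have h1 := hσ 1
    rw [Representation.char_one, Representation.char_one, map_natCast] at h1
    have : (finrank K W : ℂ) = (n : ℂ) := by
      rw [h1]; simp
    exact_mod_cast this
  let b := Module.finBasisOfFinrankEq K W hfin
  refine ⟨complexify ι b σ, ?_, ?_⟩
  · apply Cfsg.Agent.Lib.L0.equiv_of_char_eq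
    funext g
    rw [complexify_character, hσ]
  · intro g i j
    rw [complexify_entry]
    exact ⟨_, rfl⟩

end Main

end Cfsg.Agent.Lib.H1.Split
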