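import Mathlib
import Cfsg.Prelude.Def_Blocks
import Cfsg.Agent.Lib.H1.LiftC
import Cfsg.Agent.Lib.H1.SplitD
import Cfsg.Agent.Lib.H24.CharBasic
import Cfsg.Agent.Lib.H24.CharComplete

/-!
# From a fixed-point-free irreducible character to a matrix representation over the algebraic
numbers (helper1)
-/

set_option autoImplicit false
set_option linter.unusedSectionVars false

namespace Cfsg.Agent.Lib.H1.Lift

open Cfsg

section fixed

variable {k V : Type*} [Field k] [CharZero k] [AddCommGroup V] [Module k V] [FiniteDimensional k V]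
  {G : Type*} [Group G]

/-- if the character sums to zero over the cyclic group generated by `g`, then `g` fixes no nonzero
vector. -/
theorem fixed_eq_zero_of_sum_character (σ : Representation k G V) (g : G) (hg : IsOfFinOrder g)
    (hsum : ∑ i ∈ Finset.range (orderOf g), σ.character (g ^ i) = 0) (v : V) (hv : σ g v = v) :
    v = 0 := by
  classical
  set m := orderOf g with hm
  have hm0 : 0 < m := hg.orderOf_pos
  have hmk : (m : k) ≠ 0 := Nat.cast_ne_zero.2 hm0.ne'
  set P : Module.End k V := ∑ i ∈ Finset.range m, σ (g ^ i) with hP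
  have hgP : σ g * P = P := by
    rw [hP, Finset.mul_sum]
    have h1 : ∀ i, σ g * σ (g ^ i) = σ (g ^ (i + 1)) := by
      intro i
      rw [← map_mul, ← pow_succ']
    rw [Finset.sum_congr rfl (fun i _ => h1 i)]
    have h2 := Finset.sum_range_succ (fun i => σ (g ^ i)) m
    have h3 := Finset.sum_range_succ' (fun i => σ (g ^ i)) m
    rw [h3] at h2
    simp only [pow_zero, pow_orderOf_eq_one, hm] at h2
    rw [← hm] at h2
    exact add_right_cancel h2
  have hgiP : ∀ i : ℕ, σ (g ^ i) * P = P := by
    intro i
    induction i with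
    | zero => rw [pow_zero, map_one, one_mul]
    | succ i ih => rw [pow_succ', map_mul, mul_assoc, ih, hgP]
  have hPP : P * P = (m : k) • P := by
    conv_lhs => rw [hP, Finset.sum_mul]
    rw [← hP, Finset.sum_congr rfl (fun i _ => hgiP i), Finset.sum_const, Finset.card_range,
      Nat.cast_smul_eq_nsmul]
  set Q : Module.End k V := (m : k)⁻¹ • P with hQ
  have hQQ : IsIdempotentElem Q := by
    unfold IsIdempotentElem
    rw [hQ, smul_mul_smul_comm, hPP, smul_smul, mul_assoc, inv_mul_cancel₀ hmk, mul_one]
  have htr : LinearMap.trace k V Q = 0 := by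
    rw [hQ, map_smul, hP, map_sum]
    have : ∑ i ∈ Finset.range m, LinearMap.trace k V (σ (g ^ i)) = 0 := hsum
    rw [this, smul_zero]
  obtain ⟨p, hp⟩ := (LinearMap.isProj_iff_isIdempotentElem Q).2 hQQ
  have h1 := hp.trace
  rw [htr] at h1
  have h2 : Module.finrank k p = 0 := by exact_mod_cast h1.symm
  have h3 : p = ⊥ := Submodule.finrank_eq_zero.1 h2
  have h4 : Q v = 0 := by
    have := hp.map_mem v
    rw [h3, Submodule.mem_bot] at this
    exact this
  have h5 : P v = (m : k) • v := by
    rw [hP, LinearMap.sum_apply]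
    have h6 : ∀ i : ℕ, σ (g ^ i) v = v := by
      intro i
      induction i with
      | zero => rw [pow_zero, map_one]; rfl
      | succ i ih => rw [pow_succ, map_mul, Module.End.mul_apply, hv, ih]
    rw [Finset.sum_congr rfl (fun i _ => h6 i), Finset.sum_const, Finset.card_range,
      Nat.cast_smul_eq_nsmul]
  rw [hQ, LinearMap.smul_apply, h5, smul_smul, inv_mul_cancel₀ hmk, one_smul] at h4
  exact h4

end fixed

/-- an embedding of the algebraic closure of `ℚ` into `ℂ`. -/
noncomputable def embQbar : AlgebraicClosure ℚ →+* ℂ :=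
  (@IsAlgClosed.lift ℂ _ _ ℚ _ _ (AlgebraicClosure ℚ) _ _ (AlgebraicClosure.instAlgebra ℚ)
    _ _ _ _).toRingHom

theorem embQbar_injective : Function.Injective embQbar := embQbar.injective

open Polynomial in
theorem mem_range_embQbar {x : ℂ} (hx : IsAlgebraic ℚ x) : x ∈ Set.range embQbar := by
  obtain ⟨p, hp0, hpx⟩ := hx
  set i : ℚ →+* AlgebraicClosure ℚ := Rat.castHom _ with hi
  set q : (AlgebraicClosure ℚ)[X] := p.map i with hq
  have hq0 : q ≠ 0 := by
    rw [hq]
    exact (Polynomial.map_ne_zero_iff i.injective).2 hp0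
  have hsplit : q.Splits := IsAlgClosed.splits q
  have hroots := hsplit.roots_map embQbar
  have hcomp : q.map embQbar = p.map (algebraMap ℚ ℂ) := by
    rw [hq, Polynomial.map_map]
    congr 1
    exact Subsingleton.elim _ _
  have hx' : x ∈ (q.map embQbar).roots := by
    rw [hcomp, Polynomial.mem_roots]
    · rw [IsRoot, eval_map, ← aeval_def]; exact hpx
    · exact (Polynomial.map_ne_zero_iff (algebraMap ℚ ℂ).injective).2 hp0
  rw [hroots, Multiset.mem_map] at hx'
  obtain ⟨r, -, hr⟩ := hx'
  exact ⟨r, hr⟩

/-- **From a character to a representation over the algebraic numbers.** -/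
theorem exists_rep_of_fpf_irr {G : Type*} [Group G] [Finite G] (χ : IrrCharacter G)
    (hχ : FpfChar (χ : G → ℂ)) :
    ∃ (n : ℕ) (ρ : G →* GL (Fin n) (AlgebraicClosure ℚ)), 0 < n ∧ Function.Injective ρ ∧
      (∀ W : Submodule (AlgebraicClosure ℚ) (Fin n → AlgebraicClosure ℚ),
        (∀ g : G, ∀ w ∈ W, ((ρ g : GL (Fin n) (AlgebraicClosure ℚ)) :
          Matrix (Fin n) (Fin n) (AlgebraicClosure ℚ)).mulVec w ∈ W) → W = ⊥ ∨ W = ⊤) ∧
      ∀ g : G, g ≠ 1 → ∀ v : Fin n → AlgebraicClosure ℚ,
        ((ρ g : GL (Fin n) (AlgebraicClosure ℚ)) :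
          Matrix (Fin n) (Fin n) (AlgebraicClosure ℚ)).mulVec v = v → v = 0 := by
  classical
  obtain ⟨n, ρ, hirr, hchar⟩ := Cfsg.Agent.Lib.H24.irr_exists_rep χ
  have hn : 0 < n := Cfsg.Agent.Lib.H24.irreducible_dim_pos ρ hirr
  have hK : ∀ (E : Subgroup G) (lam : E →* ℂˣ) (e : E), (lam e : ℂ) ∈ Set.range embQbar := by
    intro E lam e
    apply mem_range_embQbar
    apply IsIntegral.isAlgebraic
    apply IsIntegral.of_pow (orderOf_pos e)
    have : ((lam e : ℂˣ) : ℂ) ^ orderOf e = 1 := by
      rw [← Units.val_pow_eq_pow_val, ← map_pow, pow_orderOf_eq_one, map_one, Units.val_one]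
    rw [this]
    exact isIntegral_one
  obtain ⟨σ, ⟨hσ⟩, hent⟩ := Cfsg.Agent.Lib.H1.Split.exists_equiv_entries embQbar hK n ρ
  have hσirr : σ.IsIrreducible := Cfsg.Agent.Lib.H24.isIrreducible_of_equiv hσ hirr
  have hσchar : σ.character = (χ : G → ℂ) := by rw [← Representation.char_iso hσ, hchar]
  -- the matrices over the algebraic numbers
  set τ0 : G → Matrix (Fin n) (Fin n) (AlgebraicClosure ℚ) :=
    fun g => Matrix.of fun i j => (hent g i j).choose with hτ0
  have hτ0map : ∀ g, (τ0 g).map embQbar = LinearMap.toMatrix' (σ g) := by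
    intro g
    ext i j
    exact (hent g i j).choose_spec
  have hmapinj : Function.Injective
      (fun M : Matrix (Fin n) (Fin n) (AlgebraicClosure ℚ) => M.map embQbar) :=
    Matrix.map_injective embQbar_injective
  set τ : G →* Matrix (Fin n) (Fin n) (AlgebraicClosure ℚ) :=
    { toFun := τ0
      map_one' := by
        apply hmapinj
        simp only
        rw [hτ0map, map_one, Matrix.map_one _ (map_zero _) (map_one _)]
        exact LinearMap.toMatrix'_one
      map_mul' := fun g h => by
        apply hmapinj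
        simp only
        rw [hτ0map, Matrix.map_mul, hτ0map, hτ0map, map_mul]
        exact LinearMap.toMatrix'_mul _ _ } with hτ
  have hτmap : ∀ g, (τ g).map embQbar = LinearMap.toMatrix' (σ g) := hτ0map
  have hkey : ∀ (g : G) (v : Fin n → AlgebraicClosure ℚ),
      embQbar ∘ ((τ g).mulVec v) = σ g (embQbar ∘ v) := by
    intro g v
    funext i
    rw [Function.comp_apply, RingHom.map_mulVec, hτmap, LinearMap.toMatrix'_mulVec]
  have hcompinj : ∀ v : Fin n → AlgebraicClosure ℚ, embQbar ∘ v = 0 → v = 0 := by
    intro v hv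
    funext i
    have := congrFun hv i
    simp only [Function.comp_apply, Pi.zero_apply] at this
    exact (map_eq_zero_iff _ embQbar_injective).1 this
  have hfpfσ : ∀ g : G, g ≠ 1 → ∀ w : Fin n → ℂ, σ g w = w → w = 0 := by
    intro g hg w hw
    refine fixed_eq_zero_of_sum_character σ g (isOfFinOrder_of_finite g) ?_ w hw
    rw [hσchar]
    exact hχ g hg
  have hfpf : ∀ g : G, g ≠ 1 → ∀ v : Fin n → AlgebraicClosure ℚ, (τ g).mulVec v = v → v = 0 := by
    intro g hg v hv
    apply hcompinj
    apply hfpfσ g hg
    rw [← hkey, hv]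
  refine ⟨n, τ.toHomUnits, hn, ?_, ?_, ?_⟩
  · rw [injective_iff_map_eq_one]
    intro g hg1
    by_contra hg
    have h1 : τ g = 1 := by
      have := congrArg (fun u : GL (Fin n) (AlgebraicClosure ℚ) =>
        (u : Matrix (Fin n) (Fin n) (AlgebraicClosure ℚ))) hg1
      simpa using this
    have h2 := hfpf g hg (fun _ => 1) (by rw [h1, Matrix.one_mulVec])
    have h3 := congrFun h2 ⟨0, hn⟩
    simp at h3
  · intro U hU
    have hU' : ∀ g : G, ∀ w ∈ U, (τ g).mulVec w ∈ U := by
      intro g w hw
      have := hU g w hw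
      simpa using this
    -- the complex span
    set U' : Submodule ℂ (Fin n → ℂ) :=
      Submodule.span ℂ ((fun v : Fin n → AlgebraicClosure ℚ => embQbar ∘ v) '' (U : Set _))
      with hU'def
    have hinv : ∀ (g : G) ⦃w : Fin n → ℂ⦄, w ∈ U' → σ g w ∈ U' := by
      intro g w hw
      have h1 : U'.map (σ g) ≤ U' := by
        rw [hU'def, Submodule.map_span, Submodule.span_le]
        rintro _ ⟨_, ⟨u, hu, rfl⟩, rfl⟩
        apply Submodule.subset_span
        refine ⟨(τ g).mulVec u, hU' g u hu, ?_⟩
        exact hkey g u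
      exact h1 (Submodule.mem_map_of_mem hw)
    let S : Subrepresentation σ := ⟨U', hinv⟩
    rcases hσirr.eq_bot_or_eq_top S with hS | hS
    · left
      have hS' : U' = ⊥ := congrArg Subrepresentation.toSubmodule hS
      rw [Submodule.eq_bot_iff]
      intro u hu
      apply hcompinj
      have : embQbar ∘ u ∈ U' := Submodule.subset_span ⟨u, hu, rfl⟩
      rw [hS', Submodule.mem_bot] at this
      exact this
    · right
      have hS' : U' = ⊤ := congrArg Subrepresentation.toSubmodule hS
      by_contra hne
      obtain ⟨f, hf0, hfU⟩ := Submodule.exists_le_ker_of_lt_top U (lt_top_iff_ne_top.2 hne)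
      set a : Fin n → AlgebraicClosure ℚ := fun i => f (Pi.single i 1) with ha
      have hfa : ∀ v : Fin n → AlgebraicClosure ℚ, f v = ∑ i, v i * a i := by
        intro v
        rw [LinearMap.pi_apply_eq_sum_univ f v]
        refine Finset.sum_congr rfl (fun i _ => ?_)
        rw [smul_eq_mul, ha]
        congr 2
        funext j
        simp [Pi.single_apply, eq_comm]
      -- the complex functional
      set Fc : (Fin n → ℂ) →ₗ[ℂ] ℂ :=
        ∑ i, (embQbar (a i)) • (LinearMap.proj i : (Fin n → ℂ) →ₗ[ℂ] ℂ) with hFc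
      have hFcapp : ∀ w : Fin n → ℂ, Fc w = ∑ i, embQbar (a i) * w i := by
        intro w
        rw [hFc, LinearMap.sum_apply]
        rfl
      have hFcU : U' ≤ LinearMap.ker Fc := by
        rw [hU'def, Submodule.span_le]
        rintro _ ⟨u, hu, rfl⟩
        rw [SetLike.mem_coe, LinearMap.mem_ker, hFcapp]
        have h1 : f u = 0 := hfU hu
        rw [hfa] at h1
        have h2 := congrArg embQbar h1
        rw [map_sum, map_zero] at h2
        rw [← h2]
        refine Finset.sum_congr rfl (fun i _ => ?_)
        show embQbar (a i) * embQbar (u i) = _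
        rw [map_mul, mul_comm]
      apply hf0
      have ha0 : ∀ i, a i = 0 := by
        intro i
        have h1 : (Pi.single i 1 : Fin n → ℂ) ∈ U' := by rw [hS']; trivial
        have h2 := hFcU h1
        rw [LinearMap.mem_ker, hFcapp] at h2
        rw [Finset.sum_eq_single i] at h2
        · rw [Pi.single_eq_same, mul_one] at h2
          exact (map_eq_zero_iff _ embQbar_injective).1 h2
        · intro j _ hj
          rw [Pi.single_eq_of_ne hj, mul_zero]
        · intro h
          exact absurd (Finset.mem_univ i) h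
      apply LinearMap.ext
      intro v
      rw [hfa]
      simp [ha0]
  · intro g hg v hv
    apply hfpf g hg v
    simpa using hv

end Cfsg.Agent.Lib.H1.Lift
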