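import Mathlib
import Cfsg.Agent.Lib.H21.FrobShrink

/-!
# From a fixed-point-free representation in characteristic zero to a Frobenius group (helper1)

A finite group acting on a finitely generated torsion-free abelian group `Λ` such that the norm
`∑_{k < o(g)} g^k` vanishes for all `g ≠ 1` acts fixed-point-freely on `Λ / qΛ` for every prime
`q > |G|`; hence it is a Frobenius complement.
-/

set_option autoImplicit false
set_option linter.unusedSectionVars false

namespace Cfsg.Agent.Lib.H1.Lift

open Cfsg

section lattice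

variable {G : Type*} [Group G] [Finite G] [Nontrivial G] {Λ : Type*} [AddCommGroup Λ]
  [Module.Finite ℤ Λ] [Nontrivial Λ]

theorem exists_frobenius_of_lattice (T : G →* Module.End ℤ Λ)
    (htf : ∀ (n : ℤ) (x : Λ), n ≠ 0 → n • x = 0 → x = 0)
    (hT : ∀ g : G, g ≠ 1 → ∀ x : Λ, ∑ k ∈ Finset.range (orderOf g), T (g ^ k) x = 0) :
    ∃ (L : Type) (_ : Group L) (_ : Finite L) (C : Subgroup L),
      Cfsg.IsFrobeniusComplement C ∧ Nonempty (G ≃* C) := by
  classical
  obtain ⟨q, hqge, hq⟩ := Nat.exists_infinite_primes (Nat.card G + 1)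
  have hq0 : (q : ℤ) ≠ 0 := by exact_mod_cast hq.ne_zero
  -- the sublattice `qΛ`
  set I : Submodule ℤ Λ := LinearMap.range (LinearMap.lsmul ℤ Λ (q : ℤ)) with hI
  have hmemI : ∀ x : Λ, x ∈ I ↔ ∃ y : Λ, (q : ℤ) • y = x := by
    intro x
    rw [hI, LinearMap.mem_range]
    rfl
  have hIne : I ≠ ⊤ := by
    intro htop
    have hle : (⊤ : Submodule ℤ Λ) ≤ (Ideal.span {(q : ℤ)}) • (⊤ : Submodule ℤ Λ) := by
      intro x _
      have hx : x ∈ I := by rw [htop]; trivial
      obtain ⟨y, rfl⟩ := (hmemI x).1 hx
      exact Submodule.smul_mem_smul (Ideal.mem_span_singleton_self _) Submodule.mem_top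
    obtain ⟨r, hr1, hr2⟩ := Submodule.exists_sub_one_mem_and_smul_eq_zero_of_fg_of_le_smul
      (Ideal.span {(q : ℤ)}) (⊤ : Submodule ℤ Λ) Module.Finite.fg_top hle
    have hr0 : r ≠ 0 := by
      intro h0
      rw [h0, zero_sub, Ideal.mem_span_singleton] at hr1
      have h1 : (q : ℤ) ∣ 1 := (dvd_neg.1 hr1)
      have h2 : q ∣ 1 := by exact_mod_cast h1
      exact hq.one_lt.ne' (Nat.dvd_one.1 h2)
    obtain ⟨x, hx⟩ := exists_ne (0 : Λ)
    exact hx (htf r x hr0 (hr2 x Submodule.mem_top))
  have hMnt : Nontrivial (Λ ⧸ I) := Submodule.Quotient.nontrivial_iff.2 hIne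
  have hqM : ∀ z : Λ ⧸ I, (q : ℤ) • z = 0 := by
    intro z
    induction z using Submodule.Quotient.induction_on with
    | H y =>
      rw [← Submodule.Quotient.mk_smul, Submodule.Quotient.mk_eq_zero, hmemI]
      exact ⟨y, rfl⟩
  have hMfin : Finite (Λ ⧸ I) := by
    apply Module.finite_of_fg_torsion
    intro z
    refine ⟨⟨(q : ℤ), mem_nonZeroDivisors_of_ne_zero hq0⟩, ?_⟩
    exact hqM z
  -- the induced action
  have hTI : ∀ g : G, I ≤ Submodule.comap (T g) I := by
    intro g x hx
    rw [Submodule.mem_comap]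
    obtain ⟨y, rfl⟩ := (hmemI x).1 hx
    rw [map_smul]
    exact (hmemI _).2 ⟨_, rfl⟩
  set Tq : G →* Module.End ℤ (Λ ⧸ I) :=
    { toFun := fun g => I.mapQ I (T g) (hTI g)
      map_one' := by
        apply LinearMap.ext
        intro z
        induction z using Submodule.Quotient.induction_on with
        | H y => simp
      map_mul' := fun g h => by
        apply LinearMap.ext
        intro z
        induction z using Submodule.Quotient.induction_on with
        | H y => simp } with hTq
  have hTqmk : ∀ (g : G) (y : Λ), Tq g (Submodule.Quotient.mk y) = Submodule.Quotient.mk (T g y) := by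
    intro g y
    rfl
  let _ : DistribMulAction G (Λ ⧸ I) := DistribMulAction.compHom (Λ ⧸ I) Tq
  have hsmul : ∀ (g : G) (z : Λ ⧸ I), g • z = Tq g z := fun g z => rfl
  apply Cfsg.Agent.Lib.H21.exists_frobenius_of_fpf_distribMulAction'
    (V := Λ ⧸ I) (G := G)
  intro g hg z hz
  rw [hsmul] at hz
  set m := orderOf g with hm
  have hm0 : 0 < m := orderOf_pos g
  have hmle : m ≤ Nat.card G := orderOf_le_card
  have hcop : Nat.Coprime m q := by
    apply Nat.Coprime.symm
    rw [Nat.Prime.coprime_iff_not_dvd hq]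
    apply Nat.not_dvd_of_pos_of_lt hm0
    omega
  have hpow : ∀ k : ℕ, Tq (g ^ k) z = z := by
    intro k
    induction k with
    | zero => rw [pow_zero, map_one]; rfl
    | succ k ih => rw [pow_succ, map_mul, Module.End.mul_apply, hz, ih]
  have hsum0 : ∑ k ∈ Finset.range m, Tq (g ^ k) z = 0 := by
    induction z using Submodule.Quotient.induction_on with
    | H y =>
      simp only [hTqmk]
      have h2 := congrArg (Submodule.Quotient.mk (p := I)) (hT g hg y)
      rw [← Submodule.mkQ_apply, map_sum] at h2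
      simpa using h2
  rw [Finset.sum_congr rfl (fun k _ => hpow k), Finset.sum_const, Finset.card_range] at hsum0
  -- Bezout
  have hbez : ((Nat.gcd m q : ℕ) : ℤ) = m * Nat.gcdA m q + q * Nat.gcdB m q := Nat.gcd_eq_gcd_ab m q
  rw [hcop] at hbez
  have h1 : z = ((1 : ℕ) : ℤ) • z := by simp
  rw [h1, hbez, add_smul, mul_comm (m : ℤ), mul_smul, mul_comm (q : ℤ), mul_smul, hqM, smul_zero,
    add_zero, natCast_zsmul, hsum0, smul_zero]

end lattice

section rep

variable {G : Type*} [Group G] [Finite G] [Nontrivial G] {k W : Type*} [Field k] [CharZero k]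
  [AddCommGroup W] [Module k W]

/-- the norm of a nonidentity element vanishes in a fixed-point-free representation. -/
theorem norm_eq_zero_of_fpf (σ : Representation k G W)
    (hfpf : ∀ g : G, g ≠ 1 → ∀ w : W, σ g w = w → w = 0) (g : G) (hg : g ≠ 1) (w : W) :
    ∑ i ∈ Finset.range (orderOf g), σ (g ^ i) w = 0 := by
  apply hfpf g hg
  rw [map_sum]
  have h1 : ∀ i, σ g (σ (g ^ i) w) = σ (g ^ (i + 1)) w := by
    intro i
    rw [pow_succ', map_mul, Module.End.mul_apply]
  rw [Finset.sum_congr rfl (fun i _ => h1 i)]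
  have h2 := Finset.sum_range_succ (fun i => σ (g ^ i) w) (orderOf g)
  have h3 := Finset.sum_range_succ' (fun i => σ (g ^ i) w) (orderOf g)
  rw [h3] at h2
  simp only [pow_zero, pow_orderOf_eq_one] at h2
  exact add_right_cancel h2

/-- **A finite group with a nonzero fixed-point-free representation in characteristic zero is a
Frobenius complement.** -/
theorem exists_frobenius_of_fpf_rep (σ : Representation k G W) (hW : ∃ w : W, w ≠ 0)
    (hfpf : ∀ g : G, g ≠ 1 → ∀ w : W, σ g w = w → w = 0) :
    ∃ (L : Type) (_ : Group L) (_ : Finite L) (C : Subgroup L),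
      Cfsg.IsFrobeniusComplement C ∧ Nonempty (G ≃* C) := by
  classical
  obtain ⟨w₀, hw₀⟩ := hW
  set Λs : Submodule ℤ W := Submodule.span ℤ (Set.range fun g : G => σ g w₀) with hΛs
  have hfin : Module.Finite ℤ Λs := Module.Finite.span_of_finite ℤ (Set.finite_range _)
  have hw₀mem : w₀ ∈ Λs := by
    apply Submodule.subset_span
    exact ⟨1, by simp⟩
  have hnt : Nontrivial Λs := by
    refine ⟨⟨⟨w₀, hw₀mem⟩, 0, ?_⟩⟩
    intro h
    exact hw₀ (congrArg Subtype.val h)
  have hinv : ∀ g : G, ∀ x ∈ Λs, (σ g).toAddMonoidHom.toIntLinearMap x ∈ Λs := by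
    intro g x hx
    have h1 : Λs.map (σ g).toAddMonoidHom.toIntLinearMap ≤ Λs := by
      rw [hΛs, Submodule.map_span, Submodule.span_le]
      rintro _ ⟨_, ⟨h, rfl⟩, rfl⟩
      apply Submodule.subset_span
      refine ⟨g * h, ?_⟩
      simp only
      rw [map_mul]
      rfl
    exact h1 (Submodule.mem_map_of_mem hx)
  set T : G →* Module.End ℤ Λs :=
    { toFun := fun g => ((σ g).toAddMonoidHom.toIntLinearMap).restrict (hinv g)
      map_one' := by
        apply LinearMap.ext
        intro x
        apply Subtype.ext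
        simp
      map_mul' := fun g h => by
        apply LinearMap.ext
        intro x
        apply Subtype.ext
        simp } with hTdef
  have hTcoe : ∀ (g : G) (x : Λs), ((T g x : Λs) : W) = σ g (x : W) := fun g x => rfl
  apply exists_frobenius_of_lattice T
  · intro n x hn hx
    apply Subtype.ext
    have h1 : n • (x : W) = 0 := by
      have := congrArg Subtype.val hx
      simpa using this
    rw [← Int.cast_smul_eq_zsmul k] at h1
    rcases smul_eq_zero.1 h1 with h2 | h2
    · exact absurd (Int.cast_eq_zero.1 h2) hn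
    · simpa using h2
  · intro g hg x
    apply Subtype.ext
    have h1 := norm_eq_zero_of_fpf σ hfpf g hg (x : W)
    rw [Submodule.coe_sum]
    simp only [hTcoe]
    simpa using h1

end rep

end Cfsg.Agent.Lib.H1.Lift
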