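/-
S4079 (architect helper26), pieces G1 + G1' + G4 + G5 (helper1): in a metacyclic `p`-group `L`, `p` odd:
the elements of order dividing `p` form a subgroup (`= Ω₁(L)`), commutators `[g, e]` with `e^p = 1` have order dividing
`p` and are central, and `L'` is cyclic.
-/
import Mathlib
import Cfsg.Agent.Lib.H26.MC3Defs
import Cfsg.Agent.Lib.H19.MetaBasic
import Cfsg.Agent.Lib.H22.UniqueOrderP

set_option autoImplicit false
set_option linter.unusedSectionVars false
set_option linter.unusedVariables false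

namespace Cfsg.Agent.Lib.H1.MC3

open Cfsg.Agent.Lib.H26.MC3

universe u

variable {p : ℕ} [Fact p.Prime] {L : Type u} [Group L] [Finite L]

/-- G4 -/
theorem comm_pow_eq_one (hp2 : p ≠ 2) (hL : IsPGroup p L) (hmc : Cfsg.IsMetacyclic L)
    (g e : L) (he : e ^ p = 1) :
    (g * e * g⁻¹ * e⁻¹) ^ p = 1 ∧ ∀ k : L, k * (g * e * g⁻¹ * e⁻¹) = (g * e * g⁻¹ * e⁻¹) * k := by
  obtain ⟨N, hN, hNc, hQ⟩ := hmc
  have hle : commutator L ≤ N := Cfsg.Agent.Lib.H19.MC.commutator_le_of_isCyclic_quotient' N hQ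
  have hz : g * e * g⁻¹ * e⁻¹ ∈ N := by
    apply hle
    rw [commutator_def]
    have := Subgroup.commutator_mem_commutator (Subgroup.mem_top g) (Subgroup.mem_top e)
    rwa [commutatorElement_def] at this
  have h1 : (g * e * g⁻¹ * e⁻¹) ^ p = 1 :=
    Cfsg.Agent.Lib.H19.MC.commutator_pow_p_eq_one hp2 hL N hNc hz (by rw [he, mul_one, one_mul])
  exact ⟨h1, fun k => Cfsg.Agent.Lib.H19.MC.central_of_pow_p hL N hNc hz h1 k⟩

/-- G1 -/
theorem mul_pow_eq_one (hp2 : p ≠ 2) (hL : IsPGroup p L) (hmc : Cfsg.IsMetacyclic L)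
    {g k : L} (hg : g ^ p = 1) (hk : k ^ p = 1) : (g * k) ^ p = 1 := by
  have hp : p.Prime := Fact.out
  obtain ⟨h1, h2⟩ := comm_pow_eq_one hp2 hL hmc k g hg
  rw [Cfsg.Agent.Lib.H22.mul_pow_of_central h2 p, hg, hk, one_mul, one_mul]
  have hodd : p % 2 = 1 := by
    rcases hp.eq_two_or_odd with h | h
    · exact absurd h hp2
    · exact h
  have e : p * (p - 1) / 2 = p * ((p - 1) / 2) := by
    have h3 : 2 ∣ p - 1 := by omega
    rw [Nat.mul_div_assoc _ h3]
  rw [e, pow_mul, h1, one_pow]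

/-- G1' -/
theorem mem_Om_iff (hp2 : p ≠ 2) (hL : IsPGroup p L) (hmc : Cfsg.IsMetacyclic L) (g : L) :
    g ∈ Om p L ↔ g ^ p = 1 := by
  constructor
  · intro hg
    unfold Om at hg
    induction hg using Subgroup.closure_induction with
    | mem x hx => exact hx
    | one => exact one_pow p
    | mul x y _ _ hx hy => exact mul_pow_eq_one hp2 hL hmc hx hy
    | inv x _ hx => rw [inv_pow, hx, inv_one]
  · intro hg
    exact Subgroup.subset_closure hg

/-- G5 -/
theorem isCyclic_commutator (hmc : Cfsg.IsMetacyclic L) : IsCyclic ↥(commutator L) := by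
  obtain ⟨N, hN, hNc, hQ⟩ := hmc
  have hle : commutator L ≤ N := Cfsg.Agent.Lib.H19.MC.commutator_le_of_isCyclic_quotient' N hQ
  have h1 : IsCyclic ↥((commutator L).subgroupOf N) := inferInstance
  exact isCyclic_of_surjective (Subgroup.subgroupOfEquivOfLe hle) (Subgroup.subgroupOfEquivOfLe hle).surjective

end Cfsg.Agent.Lib.H1.MC3
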