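/-
S4079 (architect helper26), piece G6 (helper1): in a metacyclic `p`-group `L`, `p` odd, the derived subgroup commutes with
every element of order dividing `p`: by G4 the map `g ↦ [g, e]` is a homomorphism into the centre, so it kills `L'`.
-/
import Mathlib
import Cfsg.Agent.Lib.H26.MC3Defs
import Cfsg.Agent.Lib.H1.MC3G1

set_option autoImplicit false
set_option linter.unusedSectionVars false
set_option linter.unusedVariables false

namespace Cfsg.Agent.Lib.H1.MC3

open Cfsg.Agent.Lib.H26.MC3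

universe u

/-- if all `[g, e]` are central then `g ↦ [g, e]` is multiplicative -/
theorem comm_mul_of_central {L : Type u} [Group L] (e : L)
    (hcen : ∀ g k : L, k * (g * e * g⁻¹ * e⁻¹) = (g * e * g⁻¹ * e⁻¹) * k) (g h : L) :
    g * h * e * (g * h)⁻¹ * e⁻¹ = (g * e * g⁻¹ * e⁻¹) * (h * e * h⁻¹ * e⁻¹) := by
  have h1 : g * (h * e * h⁻¹ * e⁻¹) = (h * e * h⁻¹ * e⁻¹) * g := hcen h g
  have h2 : (g * e * g⁻¹ * e⁻¹) * (h * e * h⁻¹ * e⁻¹) = (h * e * h⁻¹ * e⁻¹) * (g * e * g⁻¹ * e⁻¹) := hcen h _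
  rw [h2]
  calc g * h * e * (g * h)⁻¹ * e⁻¹ = g * (h * e * h⁻¹ * e⁻¹) * (e * g⁻¹ * e⁻¹) := by group
    _ = (h * e * h⁻¹ * e⁻¹) * g * (e * g⁻¹ * e⁻¹) := by rw [h1]
    _ = (h * e * h⁻¹ * e⁻¹) * (g * e * g⁻¹ * e⁻¹) := by group

/-- if all `[g, e]` are central then `e` commutes with the derived subgroup -/
theorem comm_of_central_commutators {L : Type u} [Group L] (e : L)
    (hcen : ∀ g k : L, k * (g * e * g⁻¹ * e⁻¹) = (g * e * g⁻¹ * e⁻¹) * k) {c : L} (hc : c ∈ commutator L) :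
    c * e = e * c := by
  have hmem : ∀ g : L, g * e * g⁻¹ * e⁻¹ ∈ Subgroup.center L := fun g =>
    Subgroup.mem_center_iff.mpr (hcen g)
  let f : L → ↥(Subgroup.center L) := fun g => ⟨g * e * g⁻¹ * e⁻¹, hmem g⟩
  have hf : ∀ g h : L, f (g * h) = f g * f h := by
    intro g h
    apply Subtype.ext
    exact comm_mul_of_central e hcen g h
  let φ : L →* ↥(Subgroup.center L) := MonoidHom.mk' f hf
  have hker : commutator L ≤ φ.ker := by
    rw [commutator_def, Subgroup.commutator_le]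
    intro g₁ _ g₂ _
    rw [MonoidHom.mem_ker, commutatorElement_def, map_mul, map_mul, map_mul, map_inv, map_inv]
    apply Subtype.ext
    show ((φ g₁ : ↥(Subgroup.center L)) : L) * (φ g₂ : ↥(Subgroup.center L)) * ((φ g₁ : ↥(Subgroup.center L)) : L)⁻¹ *
      ((φ g₂ : ↥(Subgroup.center L)) : L)⁻¹ = 1
    have h1 : ((φ g₂ : ↥(Subgroup.center L)) : L) * (φ g₁ : ↥(Subgroup.center L)) =
        (φ g₁ : ↥(Subgroup.center L)) * (φ g₂ : ↥(Subgroup.center L)) :=
      Subgroup.mem_center_iff.mp (φ g₁).2 _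
    rw [← h1]
    group
  have h3 : φ c = 1 := MonoidHom.mem_ker.mp (hker hc)
  have h4 : c * e * c⁻¹ * e⁻¹ = 1 := congrArg Subtype.val h3
  have h5 : c * e = (c * e * c⁻¹ * e⁻¹) * (e * c) := by group
  rw [h5, h4, one_mul]

variable {p : ℕ} [Fact p.Prime] {L : Type u} [Group L] [Finite L]

/-- G6 -/
theorem commutator_comm_Om (hp2 : p ≠ 2) (hL : IsPGroup p L) (hmc : Cfsg.IsMetacyclic L)
    {c e : L} (hc : c ∈ commutator L) (he : e ^ p = 1) : c * e = e * c :=
  comm_of_central_commutators e (fun g => (comm_pow_eq_one hp2 hL hmc g e he).2) hc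

end Cfsg.Agent.Lib.H1.MC3
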