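/-
S4079 (architect helper26), piece G7 (helper1): in a metacyclic `p`-group `L`, `p` odd: `(g k)^p = g^p k^p d^p` for some
`d ∈ L'`.  Modulo `Q = {d^p | d ∈ L'}` (a normal subgroup, `L'` being cyclic and normal) the derived subgroup is central of
exponent `p`, and the class-two formula `H22.mul_pow_of_central` applies in `L ⧸ Q`.
-/
import Mathlib
import Cfsg.Agent.Lib.H26.MC3Defs
import Cfsg.Agent.Lib.H1.MC3G1

set_option autoImplicit false
set_option linter.unusedSectionVars false
set_option linter.unusedVariables false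

namespace Cfsg.Agent.Lib.H1.MC3

open Cfsg.Agent.Lib.H26.MC3

universe u

/-- the `p`-th powers of a commutative normal subgroup `D` form a normal subgroup -/
def powSub {L : Type u} [Group L] (p : ℕ) (D : Subgroup L) (hD : ∀ a ∈ D, ∀ b ∈ D, a * b = b * a) : Subgroup L where
  carrier := {x | ∃ d ∈ D, d ^ p = x}
  one_mem' := ⟨1, D.one_mem, one_pow p⟩
  mul_mem' := by
    rintro _ _ ⟨a, ha, rfl⟩ ⟨b, hb, rfl⟩
    exact ⟨a * b, D.mul_mem ha hb, (Commute.mul_pow (hD a ha b hb) p)⟩
  inv_mem' := by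
    rintro _ ⟨a, ha, rfl⟩
    exact ⟨a⁻¹, D.inv_mem ha, inv_pow a p⟩

theorem mem_powSub {L : Type u} [Group L] (p : ℕ) (D : Subgroup L) (hD : ∀ a ∈ D, ∀ b ∈ D, a * b = b * a) (x : L) :
    x ∈ powSub p D hD ↔ ∃ d ∈ D, d ^ p = x := Iff.rfl

theorem powSub_normal {L : Type u} [Group L] (p : ℕ) (D : Subgroup L) [hn : D.Normal]
    (hD : ∀ a ∈ D, ∀ b ∈ D, a * b = b * a) : (powSub p D hD).Normal := by
  constructor
  rintro _ ⟨a, ha, rfl⟩ g
  refine ⟨g * a * g⁻¹, hn.conj_mem a ha g, ?_⟩
  rw [conj_pow]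

variable {p : ℕ} [Fact p.Prime] {L : Type u} [Group L] [Finite L]

/-- G7 -/
theorem mul_pow_mod (hp2 : p ≠ 2) (hL : IsPGroup p L) (hmc : Cfsg.IsMetacyclic L) (g k : L) :
    ∃ d ∈ commutator L, (g * k) ^ p = g ^ p * k ^ p * d ^ p := by
  have hp : p.Prime := Fact.out
  have hcyc : IsCyclic ↥(commutator L) := isCyclic_commutator hmc
  have hcomm : ∀ a ∈ commutator L, ∀ b ∈ commutator L, a * b = b * a := by
    intro a ha b hb
    have h1 := hcyc.isMulCommutative.is_comm.comm (⟨a, ha⟩ : ↥(commutator L)) ⟨b, hb⟩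
    exact congrArg Subtype.val h1
  have hQn : (powSub p (commutator L) hcomm).Normal := powSub_normal p (commutator L) hcomm
  -- modulo `Q` the derived subgroup is central
  have hcen : ∀ c ∈ commutator L, ∀ x : L,
      (QuotientGroup.mk x : L ⧸ powSub p (commutator L) hcomm) * QuotientGroup.mk c =
        QuotientGroup.mk c * QuotientGroup.mk x := by
    intro c hc x
    obtain ⟨ρ, hρ, hconj⟩ := Cfsg.Agent.Lib.H19.MC.exists_pow_conj hL (commutator L) hcyc x
    have h1 := hconj c hc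
    have hρ' : ρ = p * (ρ / p) + 1 := by
      have := Nat.div_add_mod ρ p
      rw [hρ] at this
      omega
    have h2 : x * c * x⁻¹ * c⁻¹ ∈ powSub p (commutator L) hcomm := by
      refine ⟨c ^ (ρ / p), Subgroup.pow_mem _ hc _, ?_⟩
      rw [h1, hρ', pow_succ, mul_inv_cancel_right, ← pow_mul, mul_comm]
      congr 2
      have : p * (ρ / p) + 1 = ρ := hρ'.symm
      rw [this]
    have h3 : (QuotientGroup.mk (x * c * x⁻¹ * c⁻¹) : L ⧸ powSub p (commutator L) hcomm) = 1 :=
      (QuotientGroup.eq_one_iff _).mpr h2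
    rw [QuotientGroup.mk_mul, QuotientGroup.mk_mul, QuotientGroup.mk_mul, QuotientGroup.mk_inv,
      QuotientGroup.mk_inv] at h3
    calc (QuotientGroup.mk x : L ⧸ powSub p (commutator L) hcomm) * QuotientGroup.mk c
        = (QuotientGroup.mk x * QuotientGroup.mk c * (QuotientGroup.mk x)⁻¹ * (QuotientGroup.mk c)⁻¹) *
            (QuotientGroup.mk c * QuotientGroup.mk x) := by group
      _ = QuotientGroup.mk c * QuotientGroup.mk x := by rw [h3, one_mul]
  -- and of exponent `p`
  have hexp : ∀ c ∈ commutator L, (QuotientGroup.mk c : L ⧸ powSub p (commutator L) hcomm) ^ p = 1 := by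
    intro c hc
    rw [← QuotientGroup.mk_pow]
    exact (QuotientGroup.eq_one_iff _).mpr ⟨c, hc, rfl⟩
  have hc₀ : k * g * k⁻¹ * g⁻¹ ∈ commutator L := by
    rw [commutator_def]
    have := Subgroup.commutator_mem_commutator (Subgroup.mem_top k) (Subgroup.mem_top g)
    rwa [commutatorElement_def] at this
  have hcq : ∀ x : L ⧸ powSub p (commutator L) hcomm,
      x * ((QuotientGroup.mk k : L ⧸ powSub p (commutator L) hcomm) * QuotientGroup.mk g *
        (QuotientGroup.mk k)⁻¹ * (QuotientGroup.mk g)⁻¹) =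
      ((QuotientGroup.mk k : L ⧸ powSub p (commutator L) hcomm) * QuotientGroup.mk g *
        (QuotientGroup.mk k)⁻¹ * (QuotientGroup.mk g)⁻¹) * x := by
    intro x
    induction x using QuotientGroup.induction_on with
    | H x =>
      have h4 := hcen _ hc₀ x
      rw [QuotientGroup.mk_mul, QuotientGroup.mk_mul, QuotientGroup.mk_mul, QuotientGroup.mk_inv,
        QuotientGroup.mk_inv] at h4
      exact h4
  have hformula := Cfsg.Agent.Lib.H22.mul_pow_of_central hcq p
  have hodd : p % 2 = 1 := by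
    rcases hp.eq_two_or_odd with h | h
    · exact absurd h hp2
    · exact h
  have e : p * (p - 1) / 2 = p * ((p - 1) / 2) := by
    have h3 : 2 ∣ p - 1 := by omega
    rw [Nat.mul_div_assoc _ h3]
  have hc₀p := hexp _ hc₀
  rw [QuotientGroup.mk_mul, QuotientGroup.mk_mul, QuotientGroup.mk_mul, QuotientGroup.mk_inv,
    QuotientGroup.mk_inv] at hc₀p
  rw [e, pow_mul, hc₀p, one_pow, mul_one] at hformula
  -- back to `L`
  have h5 : (QuotientGroup.mk ((g ^ p * k ^ p)⁻¹ * (g * k) ^ p) : L ⧸ powSub p (commutator L) hcomm) = 1 := by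
    simp only [QuotientGroup.mk_mul, QuotientGroup.mk_inv, QuotientGroup.mk_pow]
    rw [hformula, inv_mul_cancel]
  obtain ⟨d, hd, hdp⟩ := (QuotientGroup.eq_one_iff _).mp h5
  refine ⟨d, hd, ?_⟩
  rw [hdp]
  group

end Cfsg.Agent.Lib.H1.MC3
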