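/-
S4756 (architect helper23), piece DVD (helper1): under the multiplicativity hypothesis every nonlinear `χ ∈ Irr(G)` has an
exceptional prime `r`: for every other prime `s` the full `s`-part of `|G|` divides `χ(1)`.
(Landed S4755: `χ(x) χ(y) = 0` for nonidentity `x`, `y` of prime power orders for different primes; a character vanishing
on the nonidentity elements of a Sylow `s`-subgroup `S` has `χ(1) / |S| = [χ_S, 1_S]` an integer.)
-/
import Mathlib
import Cfsg.Prelude.Def_Blocks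
import Cfsg.Prelude.Def_Characters
import Cfsg.Agent.S4755
import Cfsg.Agent.Lib.H24.CharBasic
import Cfsg.Agent.Lib.L0.CharOps

set_option autoImplicit false
set_option linter.unusedVariables false

namespace Cfsg.Agent.Lib.H1.MUL

open Cfsg
open scoped ComplexConjugate

/-- a character vanishing at the nonidentity `s`-elements has degree divisible by the `s`-part of `|G|` -/
theorem mul_sylow_dvd_of_vanish {G : Type*} [Group G] [Finite G] (s : ℕ) [Fact s.Prime] {χ : G → ℂ}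
    (hχ : IsCharacter G χ) {d : ℕ} (hd : χ 1 = d)
    (hvan : ∀ g : G, g ≠ 1 → (∃ k : ℕ, orderOf g = s ^ k) → χ g = 0) :
    s ^ (Nat.card G).factorization s ∣ d := by
  classical
  obtain ⟨P⟩ := Sylow.nonempty (p := s) (G := G)
  have : Fintype (P : Subgroup G) := Fintype.ofFinite _
  have hres : IsCharacter (P : Subgroup G) (fun x : (P : Subgroup G) => χ x) :=
    Cfsg.Agent.Lib.L0.isCharacter_restrict (P : Subgroup G) hχ
  have hone : IsCharacter (P : Subgroup G) (1 : ↥(P : Subgroup G) → ℂ) :=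
    Cfsg.Agent.Lib.L0.isCharacter_of_irr Cfsg.Agent.Lib.L0.isIrrCharacter_one
  obtain ⟨n, hn⟩ := Cfsg.Agent.Lib.L0.classInner_char_char_nat hres hone
  have hsum : ∑ x : (P : Subgroup G), χ x * conj ((1 : ↥(P : Subgroup G) → ℂ) x) = (d : ℂ) := by
    rw [Finset.sum_eq_single (1 : (P : Subgroup G))]
    · simp [hd]
    · intro x _ hx
      have hx1 : (x : G) ≠ 1 := fun h => hx (Subtype.ext h)
      have hxo : ∃ k : ℕ, orderOf (x : G) = s ^ k := by
        obtain ⟨k, hk⟩ := (IsPGroup.iff_orderOf.1 P.isPGroup') x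
        exact ⟨k, by rw [Subgroup.orderOf_coe, hk]⟩
      rw [hvan _ hx1 hxo, zero_mul]
    · intro h
      exact absurd (Finset.mem_univ _) h
  rw [classInner, hsum] at hn
  have hP0 : (Nat.card (P : Subgroup G) : ℂ) ≠ 0 := by
    exact_mod_cast (Nat.card_pos (α := (P : Subgroup G))).ne'
  have h2 : (d : ℂ) = ((n * Nat.card (P : Subgroup G) : ℕ) : ℂ) := by
    push_cast
    rw [← hn]
    field_simp
  have h3 : d = n * Nat.card (P : Subgroup G) := by exact_mod_cast h2
  rw [h3, Sylow.card_eq_multiplicity]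
  exact dvd_mul_left _ _

/-- **DVD** -/
theorem exists_prime_forall_dvd {G : Type*} [Group G] [Finite G]
    (h : ∀ (x y : G) (χ : IrrCharacter G), x ≠ 1 → y ≠ 1 →
      (∃ p q a b : ℕ, p.Prime ∧ q.Prime ∧ p ≠ q ∧ orderOf x = p ^ a ∧ orderOf y = q ^ b) →
      (χ : G → ℂ) (x * y) = (χ : G → ℂ) x * (χ : G → ℂ) y)
    (χ : IrrCharacter G) (hnl : (χ : G → ℂ) 1 ≠ 1) :
    ∃ r : ℕ, r.Prime ∧ ∀ s : ℕ, s.Prime → s ≠ r →
      s ^ (Nat.card G).factorization s ∣ charDegree (χ : G → ℂ) := by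
  classical
  have hχc : IsCharacter G (χ : G → ℂ) := Cfsg.Agent.Lib.L0.isCharacter_of_irr χ.2
  have hdeg : (χ : G → ℂ) 1 = (charDegree (χ : G → ℂ) : ℂ) := (Cfsg.Agent.Lib.H24.charDegree_irr χ).symm
  -- the product of the values vanishes
  have hzero : ∀ (x y : G) (p q a b : ℕ), x ≠ 1 → y ≠ 1 → p.Prime → q.Prime → p ≠ q → orderOf x = p ^ a →
      orderOf y = q ^ b → (χ : G → ℂ) x * (χ : G → ℂ) y = 0 := by
    intro x y p q a b hx hy hp hq hpq hxo hyo
    have hconj : ∀ (c z : G), z ≠ 1 → c * z * c⁻¹ ≠ 1 := by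
      intro c z hz hc
      apply hz
      have e : z = c⁻¹ * (c * z * c⁻¹) * c := by group
      rw [e, hc]
      group
    have hord : ∀ (c z : G), orderOf (c * z * c⁻¹) = orderOf z := by
      intro c z
      have hsc : SemiconjBy c z (c * z * c⁻¹) := by
        unfold SemiconjBy
        group
      exact (SemiconjBy.orderOf_eq c hsc).symm
    have h' : ∀ (c e : G) (ψ : IrrCharacter G),
        (ψ : G → ℂ) (c * x * c⁻¹ * (e * y * e⁻¹)) = (ψ : G → ℂ) (c * x * c⁻¹) * (ψ : G → ℂ) (e * y * e⁻¹) := by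
      intro c e ψ
      exact h _ _ ψ (hconj c x hx) (hconj e y hy) ⟨p, q, a, b, hp, hq, hpq, by rw [hord, hxo], by rw [hord, hyo]⟩
    have h1 := (Cfsg.Agent.S4755.result x y hx hy h').2.1 χ hnl
    rw [h x y χ hx hy ⟨p, q, a, b, hp, hq, hpq, hxo, hyo⟩] at h1
    exact h1
  -- the conclusion from vanishing
  have hconcl : ∀ s : ℕ, s.Prime →
      (∀ g : G, g ≠ 1 → (∃ k : ℕ, orderOf g = s ^ k) → (χ : G → ℂ) g = 0) →
      s ^ (Nat.card G).factorization s ∣ charDegree (χ : G → ℂ) := by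
    intro s hs hvan
    have : Fact s.Prime := ⟨hs⟩
    exact mul_sylow_dvd_of_vanish s hχc hdeg hvan
  by_cases hex : ∃ (r : ℕ) (x₀ : G) (a : ℕ), r.Prime ∧ x₀ ≠ 1 ∧ orderOf x₀ = r ^ a ∧ (χ : G → ℂ) x₀ ≠ 0
  · obtain ⟨r, x₀, a, hr, hx₀, hx₀o, hx₀χ⟩ := hex
    refine ⟨r, hr, ?_⟩
    intro s hs hsr
    apply hconcl s hs
    rintro g hg ⟨k, hk⟩
    have h1 := hzero x₀ g r s a k hx₀ hg hr hs (Ne.symm hsr) hx₀o hk
    rcases mul_eq_zero.mp h1 with h2 | h2
    · exact absurd h2 hx₀χ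
    · exact h2
  · refine ⟨2, Nat.prime_two, ?_⟩
    intro s hs hs2
    apply hconcl s hs
    rintro g hg ⟨k, hk⟩
    by_contra hne
    exact hex ⟨s, g, k, hs, hg, hk, hne⟩

end Cfsg.Agent.Lib.H1.MUL
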