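/-
S4756 (architect helper23), pieces FPF1 + FPF2 (helper1): if the class of every non-`p`-element `g` is the coset `g G'`
then `G'` is a `p`-group and a nonidentity `p'`-element centralizes no nonidentity element of `G'`.
-/
import Mathlib

set_option autoImplicit false

namespace Cfsg.Agent.Lib.H1.MUL

/-- FPF1 -/
theorem isPGroup_commutator {G : Type*} [Group G] [Finite G] (p : ℕ) (hp : p.Prime)
    (hK : ∀ g z : G, (¬ ∃ k : ℕ, orderOf g = p ^ k) → g⁻¹ * z ∈ commutator G → IsConj g z) :
    IsPGroup p ↥(commutator G) := by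
  have : Fact p.Prime := ⟨hp⟩
  rw [IsPGroup.iff_card]
  -- every prime divisor of the order is `p`
  have hprimes : ∀ s : ℕ, s.Prime → s ∣ Nat.card ↥(commutator G) → s = p := by
    intro s hs hdvd
    by_contra hne
    have : Fact s.Prime := ⟨hs⟩
    obtain ⟨y, hy⟩ := exists_prime_orderOf_dvd_card' s hdvd
    have hyo : orderOf (y : G) = s := by rw [Subgroup.orderOf_coe]; exact hy
    have hnp : ¬ ∃ k : ℕ, orderOf (y : G) = p ^ k := by
      rintro ⟨k, hk⟩
      rw [hyo] at hk
      have h1 : p ∣ s := by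
        rcases Nat.eq_zero_or_pos k with h0 | h0
        · rw [h0, pow_zero] at hk
          exact absurd hk hs.one_lt.ne'
        · rw [hk]
          exact dvd_pow_self p h0.ne'
      exact hne ((Nat.prime_dvd_prime_iff_eq hp hs).mp h1).symm
    have hconj : IsConj (y : G) 1 := by
      apply hK (y : G) 1 hnp
      rw [mul_one]
      exact (commutator G).inv_mem y.2
    have hy1 : (y : G) = 1 := by
      rw [isConj_iff] at hconj
      obtain ⟨c, hc⟩ := hconj
      have e : (y : G) = c⁻¹ * (c * (y : G) * c⁻¹) * c := by group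
      rw [e, hc]
      group
    rw [hy1, orderOf_one] at hyo
    exact hs.one_lt.ne hyo
  have hpos : Nat.card ↥(commutator G) ≠ 0 := Nat.card_pos.ne'
  exact ⟨_, Nat.eq_prime_pow_of_unique_prime_dvd hpos (fun {s} hs hdvd => hprimes s hs hdvd)⟩

/-- FPF2 -/
theorem eq_one_of_commute_of_mem_commutator {G : Type*} [Group G] [Finite G] (p : ℕ) (hp : p.Prime)
    (hK : ∀ g z : G, (¬ ∃ k : ℕ, orderOf g = p ^ k) → g⁻¹ * z ∈ commutator G → IsConj g z)
    (h d : G) (hh : h ≠ 1) (hcop : (orderOf h).Coprime p) (hd : d ∈ commutator G)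
    (hcomm : h * d = d * h) : d = 1 := by
  have : Fact p.Prime := ⟨hp⟩
  have hD : IsPGroup p ↥(commutator G) := isPGroup_commutator p hp hK
  obtain ⟨k, hk⟩ := (IsPGroup.iff_orderOf.mp hD) ⟨d, hd⟩
  have hdo : orderOf d = p ^ k := by
    have := Subgroup.orderOf_coe (⟨d, hd⟩ : ↥(commutator G))
    rw [← hk, ← this]
  have hcop' : (orderOf h).Coprime (orderOf d) := by
    rw [hdo]
    exact Nat.Coprime.pow_right k hcop
  have hmul : orderOf (h * d) = orderOf h * orderOf d :=
    Commute.orderOf_mul_eq_mul_orderOf_of_coprime hcomm hcop'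
  have hnp : ¬ ∃ k : ℕ, orderOf h = p ^ k := by
    rintro ⟨j, hj⟩
    rcases Nat.eq_zero_or_pos j with h0 | h0
    · rw [h0, pow_zero, orderOf_eq_one_iff] at hj
      exact hh hj
    · have h1 : p ∣ orderOf h := by rw [hj]; exact dvd_pow_self p h0.ne'
      have h2 : p ∣ Nat.gcd (orderOf h) p := Nat.dvd_gcd h1 dvd_rfl
      rw [hcop] at h2
      exact hp.one_lt.ne' (Nat.dvd_one.mp h2)
  have hconj : IsConj h (h * d) := by
    apply hK h (h * d) hnp
    rw [inv_mul_cancel_left]
    exact hd
  have hord : orderOf (h * d) = orderOf h := by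
    rw [isConj_iff] at hconj
    obtain ⟨c, hc⟩ := hconj
    have hsc : SemiconjBy c h (h * d) := by
      unfold SemiconjBy
      rw [← hc]
      group
    exact (SemiconjBy.orderOf_eq c hsc).symm
  rw [hord] at hmul
  have hpos : 0 < orderOf h := orderOf_pos h
  have h1 : orderOf d = 1 := by
    have : orderOf h * 1 = orderOf h * orderOf d := by rw [mul_one]; exact hmul
    exact (Nat.eq_of_mul_eq_mul_left hpos this).symm
  exact orderOf_eq_one_iff.mp h1

end Cfsg.Agent.Lib.H1.MUL
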