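/-
S4756 (architect helper23), piece UNIQ (helper1): the exceptional prime of the nonlinear irreducible characters is unique,
by arithmetic on `n_r = r ^ v_r(n)` and `Σ χ(1)² = |G|`.
-/
import Mathlib
import Cfsg.Prelude.Def_Blocks
import Cfsg.Prelude.Def_Characters
import Cfsg.Agent.Lib.H24.CodegreeDvd

set_option autoImplicit false

namespace Cfsg.Agent.Lib.H1.MUL

open Cfsg Cfsg.Agent.Lib.H24

/-- `χ(1)² < |G|` for a nonlinear irreducible character -/
theorem mul_deg_sq_lt {G : Type*} [Group G] [Finite G] (χ : IrrCharacter G) (hnl : (χ : G → ℂ) 1 ≠ 1) :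
    charDegree (χ : G → ℂ) ^ 2 < Nat.card G := by
  classical
  have : Fintype (IrrCharacter G) := Fintype.ofFinite _
  have h := sum_charDegree_sq (G := G)
  have hne : χ ≠ trivialIrr G := by
    intro h1
    apply hnl
    rw [h1]
    rfl
  have h1 : charDegree (trivialIrr G : G → ℂ) = 1 := by
    have h2 := charDegree_irr (trivialIrr G)
    rw [trivialIrr_apply] at h2
    exact_mod_cast h2
  have hsub : ({trivialIrr G, χ} : Finset (IrrCharacter G)) ⊆ Finset.univ := Finset.subset_univ _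
  have h3 := Finset.sum_le_sum_of_subset (f := fun ψ : IrrCharacter G => charDegree (ψ : G → ℂ) ^ 2) hsub
  rw [Finset.sum_pair hne.symm, h] at h3
  simp only [h1] at h3
  omega

/-- the `r'`-part of `n` divides `n / (r`-part`)` -/
theorem mul_ordCompl_dvd {n d r : ℕ} (hn : n ≠ 0) (hd : d ≠ 0)
    (h : ∀ s : ℕ, s.Prime → s ≠ r → s ^ n.factorization s ∣ d) : n / r ^ n.factorization r ∣ d := by
  have hc : n / r ^ n.factorization r ≠ 0 := (Nat.ordCompl_pos r hn).ne'
  rw [← Nat.factorization_prime_le_iff_dvd hc hd]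
  intro s hs
  rw [Nat.factorization_ordCompl]
  by_cases hsr : s = r
  · rw [hsr, Finsupp.erase_same]
    exact Nat.zero_le _
  · rw [Finsupp.erase_ne hsr]
    exact (hs.pow_dvd_iff_le_factorization hd).mp (h s hs hsr)

/-- the arithmetic core: the complement of the `r`-part is smaller than the `r`-part -/
theorem mul_compl_lt {n d r : ℕ} (hn : n ≠ 0) (hd : d ≠ 0) (hlt : d ^ 2 < n)
    (h : ∀ s : ℕ, s.Prime → s ≠ r → s ^ n.factorization s ∣ d) :
    n / r ^ n.factorization r < r ^ n.factorization r := by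
  have h1 := mul_ordCompl_dvd hn hd h
  have h2 : n / r ^ n.factorization r ≤ d := Nat.le_of_dvd (Nat.pos_of_ne_zero hd) h1
  have h3 : r ^ n.factorization r * (n / r ^ n.factorization r) = n := Nat.ordProj_mul_ordCompl_eq_self n r
  have hc : 0 < n / r ^ n.factorization r := Nat.ordCompl_pos r hn
  by_contra hcon
  rw [not_lt] at hcon
  have h4 : n ≤ d ^ 2 := by
    calc n = r ^ n.factorization r * (n / r ^ n.factorization r) := h3.symm
      _ ≤ (n / r ^ n.factorization r) * (n / r ^ n.factorization r) := Nat.mul_le_mul_right _ hcon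
      _ ≤ d * d := Nat.mul_le_mul h2 h2
      _ = d ^ 2 := (sq d).symm
  omega

/-- two exceptional primes coincide -/
theorem mul_prime_unique {n d d' r r' : ℕ} (hr : r.Prime) (hr' : r'.Prime) (hn : n ≠ 0) (hd : d ≠ 0) (hd' : d' ≠ 0)
    (hlt : d ^ 2 < n) (hlt' : d' ^ 2 < n)
    (h : ∀ s : ℕ, s.Prime → s ≠ r → s ^ n.factorization s ∣ d)
    (h' : ∀ s : ℕ, s.Prime → s ≠ r' → s ^ n.factorization s ∣ d') : r = r' := by
  by_contra hne
  have h1 := mul_compl_lt hn hd hlt h
  have h2 := mul_compl_lt hn hd' hlt' h'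
  have hcop : (r' ^ n.factorization r').Coprime (r ^ n.factorization r) :=
    Nat.Coprime.pow _ _ ((Nat.coprime_primes hr' hr).mpr (Ne.symm hne))
  have e1 : r ^ n.factorization r * (n / r ^ n.factorization r) = n := Nat.ordProj_mul_ordCompl_eq_self n r
  have e2 : r' ^ n.factorization r' * (n / r' ^ n.factorization r') = n := Nat.ordProj_mul_ordCompl_eq_self n r'
  have h3 : r' ^ n.factorization r' ∣ n / r ^ n.factorization r := by
    apply hcop.dvd_of_dvd_mul_left
    rw [e1]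
    exact Nat.ordProj_dvd n r'
  have h4 : r ^ n.factorization r ∣ n / r' ^ n.factorization r' := by
    apply hcop.symm.dvd_of_dvd_mul_left
    rw [e2]
    exact Nat.ordProj_dvd n r
  have h5 := Nat.le_of_dvd (Nat.ordCompl_pos r hn) h3
  have h6 := Nat.le_of_dvd (Nat.ordCompl_pos r' hn) h4
  omega

/-- **UNIQ** -/
theorem exists_prime_common {G : Type*} [Group G] [Finite G]
    (hdvd : ∀ χ : IrrCharacter G, (χ : G → ℂ) 1 ≠ 1 → ∃ r : ℕ, r.Prime ∧ ∀ s : ℕ, s.Prime → s ≠ r →
      s ^ (Nat.card G).factorization s ∣ charDegree (χ : G → ℂ)) :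
    ∃ p : ℕ, p.Prime ∧ ∀ χ : IrrCharacter G, (χ : G → ℂ) 1 ≠ 1 → ∀ s : ℕ, s.Prime → s ≠ p →
      s ^ (Nat.card G).factorization s ∣ charDegree (χ : G → ℂ) := by
  by_cases hex : ∃ χ₀ : IrrCharacter G, (χ₀ : G → ℂ) 1 ≠ 1
  · obtain ⟨χ₀, hχ₀⟩ := hex
    obtain ⟨r, hr, hr1⟩ := hdvd χ₀ hχ₀
    refine ⟨r, hr, ?_⟩
    intro ψ hψ
    obtain ⟨r', hr', hr1'⟩ := hdvd ψ hψ
    have hn : Nat.card G ≠ 0 := Nat.card_pos.ne'
    have e : r = r' := mul_prime_unique hr hr' hn (charDegree_pos χ₀).ne' (charDegree_pos ψ).ne'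
      (mul_deg_sq_lt χ₀ hχ₀) (mul_deg_sq_lt ψ hψ) hr1 hr1'
    rw [e]
    exact hr1'
  · refine ⟨2, Nat.prime_two, ?_⟩
    intro χ hχ
    exact absurd ⟨χ, hχ⟩ hex

end Cfsg.Agent.Lib.H1.MUL
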