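import Mathlib
import Cfsg.Agent.Lib.H6.McLM.Defs

set_option autoImplicit false

/-!
# A small engine for monomial models given by packed tables (helper1, S2047 piece MODEL, twin)

A table is one big number of packed entries of 17 bits; entry `v` of the table of a letter is
`4 * (image node) + (twist mod 3)`.  The checks are Boolean loops over ranges of nodes, written with explicit
recursors so that the kernel evaluates them efficiently; nothing is ever proved about the look-up itself.
-/

namespace Cfsg.Agent.Lib.H1.McLM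

/-- evaluate `n` before continuing with `k n` -/
def force {β : Type} (n : ℕ) (k : ℕ → β) : β :=
  Nat.rec (motive := fun _ => β) (k 0) (fun m _ => k (Nat.succ m)) n

theorem force_eq {β : Type} (n : ℕ) (k : ℕ → β) : force n k = k n := by
  cases n <;> rfl

/-- a table: the packed entries of a letter, 17 bits each, in one number; entry `v` is
`32768 * twist + image node` -/
abbrev BT := ℕ

/-- entry `v` of a table: first the block of 256 entries (the shift amount is forced, so that the kernel only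
ever caches few distinct shifts of the big table), then the entry -/
def look (t : BT) (v : ℕ) : ℕ :=
  force (Nat.mul (Nat.div v 256) 4352) fun sh =>
    Nat.mod (Nat.shiftRight (Nat.mod (Nat.shiftRight t sh) (Nat.shiftLeft 1 4352))
      (Nat.mul (Nat.mod v 256) 17)) 131072

/-- image node -/
def ndv (t : BT) (v : ℕ) : ℕ := look t v % 32768

/-- twist -/
def twv (t : BT) (v : ℕ) : ℕ := look t v / 32768

/-- one letter on a state `32768 * (accumulated twist) + node` -/
def step (t : BT) (s : ℕ) : ℕ := Nat.add (Nat.sub s (Nat.mod s 32768)) (look t (Nat.mod s 32768))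

theorem step_mod (t : BT) (s : ℕ) : step t s % 32768 = ndv t (s % 32768) := by
  change (s - s % 32768 + look t (s % 32768)) % 32768 = look t (s % 32768) % 32768
  omega

theorem step_div (t : BT) (s : ℕ) : step t s / 32768 = s / 32768 + twv t (s % 32768) := by
  change (s - s % 32768 + look t (s % 32768)) / 32768 = s / 32768 + look t (s % 32768) / 32768
  omega

/-- run a word (list of tables, first letter first) on a state -/
def run (ts : List BT) (s : ℕ) : ℕ := ts.foldl (fun s t => step t s) s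

theorem run_nil (s : ℕ) : run [] s = s := rfl

theorem run_cons (t : BT) (ts : List BT) (s : ℕ) : run (t :: ts) s = run ts (step t s) := rfl

/-- end node of a word -/
def endN : List BT → ℕ → ℕ
  | [], v => v
  | t :: ts, v => endN ts (ndv t v)

/-- total twist of a word -/
def twS : List BT → ℕ → ℕ
  | [], _ => 0
  | t :: ts, v => twv t v + twS ts (ndv t v)

theorem endN_mod (ts : List BT) (v : ℕ) (hv : v < 32768) : endN ts v < 32768 := by
  induction ts generalizing v with
  | nil => exact hv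
  | cons t ts ih => exact ih _ (Nat.mod_lt _ (by norm_num))

theorem run_mod (ts : List BT) (s : ℕ) : run ts s % 32768 = endN ts (s % 32768) := by
  induction ts generalizing s with
  | nil =>
    rw [run_nil, endN]
  | cons t ts ih => rw [run_cons, ih, step_mod, endN]

theorem run_div (ts : List BT) (s : ℕ) : run ts s / 32768 = s / 32768 + twS ts (s % 32768) := by
  induction ts generalizing s with
  | nil => simp [run_nil, twS]
  | cons t ts ih => rw [run_cons, ih, step_mod, step_div, twS, add_assoc]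

/-- `W` sends every node `lo ≤ v < lo + cnt` (as a state with twist `0`) to itself with twist `≡ j` -/
noncomputable def chkF (W : ℕ → ℕ) (j lo cnt : ℕ) : Bool :=
  Nat.rec (motive := fun _ => Bool) true
    (fun k ih => force (W (Nat.add lo k)) fun r =>
      cond (Nat.beq (Nat.add (Nat.mul (Nat.mod r 32768) 4) (Nat.mod (Nat.div r 32768) 3))
        (Nat.add (Nat.mul (Nat.add lo k) 4) j)) ih false) cnt

theorem chkF_sound (W : ℕ → ℕ) (j lo cnt : ℕ) (h : chkF W j lo cnt = true) :
    ∀ v, lo ≤ v → v < lo + cnt → W v % 32768 * 4 + W v / 32768 % 3 = v * 4 + j := by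
  induction cnt with
  | zero => intro v h1 h2; omega
  | succ k ih =>
    have h' : (force (W (Nat.add lo k)) fun r =>
      cond (Nat.beq (Nat.add (Nat.mul (Nat.mod r 32768) 4) (Nat.mod (Nat.div r 32768) 3))
        (Nat.add (Nat.mul (Nat.add lo k) 4) j)) (chkF W j lo k) false) = true := h
    rw [force_eq] at h'
    cases hb : Nat.beq (Nat.add (Nat.mul (Nat.mod (W (Nat.add lo k)) 32768) 4)
        (Nat.mod (Nat.div (W (Nat.add lo k)) 32768) 3)) (Nat.add (Nat.mul (Nat.add lo k) 4) j) with
    | false => rw [hb] at h'; exact absurd h' (by simp)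
    | true =>
      rw [hb] at h'
      intro v h1 h2
      by_cases hv : v = lo + k
      · subst hv; exact Nat.eq_of_beq_eq_true hb
      · exact ih h' v h1 (by omega)

/-- the image nodes of `lo ≤ v < lo + cnt` are `< n` -/
noncomputable def chkR (t : BT) (n lo cnt : ℕ) : Bool :=
  Nat.rec (motive := fun _ => Bool) true
    (fun k ih => cond (Nat.ble n (Nat.mod (look t (Nat.add lo k)) 32768)) false ih) cnt

theorem chkR_sound (t : BT) (n lo cnt : ℕ) (h : chkR t n lo cnt = true) :
    ∀ v, lo ≤ v → v < lo + cnt → ndv t v < n := by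
  induction cnt with
  | zero => intro v h1 h2; omega
  | succ k ih =>
    have h' : cond (Nat.ble n (Nat.mod (look t (Nat.add lo k)) 32768)) false (chkR t n lo k) = true := h
    cases hb : Nat.ble n (Nat.mod (look t (Nat.add lo k)) 32768) with
    | true => rw [hb] at h'; exact absurd h' (by simp)
    | false =>
      rw [hb] at h'
      intro v h1 h2
      by_cases hv : v = lo + k
      · subst hv
        by_contra hcon
        have h3 : Nat.ble n (Nat.mod (look t (lo + k)) 32768) = true :=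
          Nat.ble_eq.mpr (not_lt.mp hcon)
        have hb' : Nat.ble n (Nat.mod (look t (lo + k)) 32768) = false := hb
        rw [h3] at hb'
        exact absurd hb' (by simp)
      · exact ih h' v h1 (by omega)

/-- what a successful check of a word says -/
def Ok (n : ℕ) (ts : List BT) (j : ℕ) : Prop :=
  ∀ v, v < n → run ts v % 32768 * 4 + run ts v / 32768 % 3 = v * 4 + j

theorem ok_of_chk (n : ℕ) (W : ℕ → ℕ) (ts : List BT) (j : ℕ) (hW : ∀ s, W s = run ts s)
    (h : chkF W j 0 n = true) : Ok n ts j := by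
  intro v hv
  rw [← hW]
  exact chkF_sound W j 0 n h v (Nat.zero_le _) (by omega)

theorem ok_spec {n : ℕ} {ts : List BT} {j : ℕ} (h : Ok n ts j) (hn : n ≤ 32768) (hj : j < 3) (v : ℕ)
    (hv : v < n) : endN ts v = v ∧ twS ts v % 3 = j := by
  have h1 := h v hv
  have hv' : v % 32768 = v := Nat.mod_eq_of_lt (by omega)
  have hd : v / 32768 = 0 := Nat.div_eq_of_lt (by omega)
  rw [run_mod, run_div, hv', hd, zero_add] at h1
  have h5 : twS ts v % 3 < 3 := Nat.mod_lt _ (by norm_num)
  omega

/-! ## the permutations -/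

/-- `t'` is the table of the inverse of the letter with table `t` -/
structure Good (n : ℕ) (t t' : BT) : Prop where
  r : ∀ v, v < n → ndv t v < n
  r' : ∀ v, v < n → ndv t' v < n
  i : ∀ v, v < n → ndv t' (ndv t v) = v ∧ (twv t v + twv t' (ndv t v)) % 3 = 0
  i' : ∀ v, v < n → ndv t (ndv t' v) = v ∧ (twv t' v + twv t (ndv t' v)) % 3 = 0

theorem Good.symm {n : ℕ} {t t' : BT} (h : Good n t t') : Good n t' t :=
  ⟨h.r', h.r, h.i', h.i⟩

theorem good_of_checks (n : ℕ) (hn : n ≤ 32768) (t t' : BT) (h1 : chkR t n 0 n = true)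
    (h2 : chkR t' n 0 n = true) (h3 : Ok n [t, t'] 0) (h4 : Ok n [t', t] 0) : Good n t t' := by
  have key : ∀ (s s' : BT), Ok n [s, s'] 0 → ∀ v, v < n →
      ndv s' (ndv s v) = v ∧ (twv s v + twv s' (ndv s v)) % 3 = 0 := by
    intro s s' h v hv
    have := ok_spec h hn (by norm_num) v hv
    simpa [endN, twS] using this
  exact ⟨fun v hv => chkR_sound t n 0 n h1 v (Nat.zero_le _) (by omega),
    fun v hv => chkR_sound t' n 0 n h2 v (Nat.zero_le _) (by omega), key t t' h3, key t' t h4⟩

theorem cast_add_eq_zero {a b : ℕ} (h : (a + b) % 3 = 0) : ((a : ZMod 3) + (b : ZMod 3)) = 0 := by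
  have : ((a + b : ℕ) : ZMod 3) = 0 := by
    rw [ZMod.natCast_eq_zero_iff]
    exact Nat.dvd_of_mod_eq_zero h
  simpa using this

/-- the monomial permutation of a good pair of tables -/
def H {n : ℕ} {t t' : BT} (h : Good n t t') : Equiv.Perm (Fin n × ZMod 3) where
  toFun p := (⟨ndv t p.1, h.r _ p.1.2⟩, p.2 + (twv t p.1 : ZMod 3))
  invFun p := (⟨ndv t' p.1, h.r' _ p.1.2⟩, p.2 + (twv t' p.1 : ZMod 3))
  left_inv := by
    rintro ⟨⟨v, hv⟩, f⟩
    obtain ⟨h1, h2⟩ := h.i v hv
    refine Prod.ext (Fin.ext h1) ?_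
    change f + (twv t v : ZMod 3) + (twv t' (ndv t v) : ZMod 3) = f
    rw [add_assoc, cast_add_eq_zero h2, add_zero]
  right_inv := by
    rintro ⟨⟨v, hv⟩, f⟩
    obtain ⟨h1, h2⟩ := h.i' v hv
    refine Prod.ext (Fin.ext h1) ?_
    change f + (twv t' v : ZMod 3) + (twv t (ndv t' v) : ZMod 3) = f
    rw [add_assoc, cast_add_eq_zero h2, add_zero]

theorem H_apply {n : ℕ} {t t' : BT} (h : Good n t t') (p : Fin n × ZMod 3) :
    H h p = (⟨ndv t p.1, h.r _ p.1.2⟩, p.2 + (twv t p.1 : ZMod 3)) := rfl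

theorem H_inv {n : ℕ} {t t' : BT} (h : Good n t t') : (H h)⁻¹ = H h.symm := by
  ext p <;> rfl

/-- the central element: add one to the fibre -/
def zeta (n : ℕ) : Equiv.Perm (Fin n × ZMod 3) where
  toFun p := (p.1, p.2 + 1)
  invFun p := (p.1, p.2 - 1)
  left_inv := by intro p; simp
  right_inv := by intro p; simp

theorem zeta_apply (n : ℕ) (p : Fin n × ZMod 3) : zeta n p = (p.1, p.2 + 1) := rfl

theorem zeta_pow_apply (n j : ℕ) (p : Fin n × ZMod 3) : (zeta n ^ j) p = (p.1, p.2 + (j : ZMod 3)) := by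
  induction j generalizing p with
  | zero => simp
  | succ j ih =>
    rw [pow_succ, Equiv.Perm.mul_apply, zeta_apply, ih]
    refine Prod.ext rfl ?_
    change p.2 + 1 + (j : ZMod 3) = p.2 + ((j + 1 : ℕ) : ZMod 3)
    push_cast
    ring

theorem zeta_comm {n : ℕ} {t t' : BT} (h : Good n t t') : H h * zeta n = zeta n * H h := by
  ext p
  · rfl
  · simp only [Equiv.Perm.mul_apply, H_apply, zeta_apply]
    ring

theorem zeta_pow_three (n : ℕ) : zeta n ^ 3 = 1 := by
  ext p
  · rw [zeta_pow_apply]; rfl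
  · rw [zeta_pow_apply]
    change p.2 + ((3 : ℕ) : ZMod 3) = p.2
    have : ((3 : ℕ) : ZMod 3) = 0 := by decide
    rw [this, add_zero]

theorem zeta_ne_one (n : ℕ) (hn : 0 < n) : zeta n ≠ 1 := by
  intro h
  have := congrArg (fun g : Equiv.Perm (Fin n × ZMod 3) => (g (⟨0, hn⟩, 0)).2) h
  simp only [zeta_apply, Equiv.Perm.one_apply] at this
  exact absurd this (by decide)

/-! ## words -/

section words

variable {n : ℕ} (T : ℕ → BT)
  (h0 : Good n (T 0) (T 1)) (h2 : Good n (T 2) (T 3)) (h4 : Good n (T 4) (T 5)) (h6 : Good n (T 6) (T 7))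

/-- the permutation of a letter -/
def Hx (x : ℕ) : Equiv.Perm (Fin n × ZMod 3) :=
  match x with
  | 0 => H h0 | 1 => H h0.symm | 2 => H h2 | 3 => H h2.symm
  | 4 => H h4 | 5 => H h4.symm | 6 => H h6 | 7 => H h6.symm | _ => 1

theorem Hx_apply (x : ℕ) (hx : x < 8) (p : Fin n × ZMod 3) :
    ((Hx T h0 h2 h4 h6 x p).1 : ℕ) = ndv (T x) p.1 ∧
      (Hx T h0 h2 h4 h6 x p).2 = p.2 + (twv (T x) p.1 : ZMod 3) := by
  interval_cases x <;> exact ⟨rfl, rfl⟩

open Cfsg.Agent.Lib.H6.McLM in
theorem gl_eq (x : ℕ) (hx : x < 8) :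
    gl (H h0)⁻¹ (H h2)⁻¹ (H h4)⁻¹ (H h6)⁻¹ x = (Hx T h0 h2 h4 h6 x)⁻¹ := by
  interval_cases x
  · rfl
  · change (H h0)⁻¹⁻¹ = (H h0.symm)⁻¹
    rw [H_inv h0]
  · rfl
  · change (H h2)⁻¹⁻¹ = (H h2.symm)⁻¹
    rw [H_inv h2]
  · rfl
  · change (H h4)⁻¹⁻¹ = (H h4.symm)⁻¹
    rw [H_inv h4]
  · rfl
  · change (H h6)⁻¹⁻¹ = (H h6.symm)⁻¹
    rw [H_inv h6]

theorem prod_apply (w : List ℕ) (hw : ∀ x ∈ w, x < 8) (p : Fin n × ZMod 3) :
    ((((w.reverse.map (Hx T h0 h2 h4 h6)).prod p).1 : ℕ) = endN (w.map T) p.1) ∧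
      ((w.reverse.map (Hx T h0 h2 h4 h6)).prod p).2 = p.2 + (twS (w.map T) p.1 : ZMod 3) := by
  induction w generalizing p with
  | nil => simp [endN, twS]
  | cons x w ih =>
    have hx : x < 8 := hw x List.mem_cons_self
    have hw' : ∀ y ∈ w, y < 8 := fun y hy => hw y (List.mem_cons_of_mem _ hy)
    rw [List.reverse_cons, List.map_append, List.prod_append, List.map_cons, List.map_nil,
      List.prod_cons, List.prod_nil, mul_one, Equiv.Perm.mul_apply]
    obtain ⟨a1, a2⟩ := Hx_apply T h0 h2 h4 h6 x hx p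
    obtain ⟨b1, b2⟩ := ih hw' (Hx T h0 h2 h4 h6 x p)
    rw [List.map_cons, endN, twS]
    refine ⟨by rw [b1, a1], ?_⟩
    rw [b2, a2, a1]
    push_cast
    ring

open Cfsg.Agent.Lib.H6.McLM in
/-- a checked word has the value `z ^ j` for `z = zeta⁻¹` -/
theorem wv_eq (hn : n ≤ 32768) (w : List ℕ) (j : ℕ) (hw : ∀ x ∈ w, x < 8) (hj : j < 3)
    (hc : Ok n (w.map T) j) :
    wv (H h0)⁻¹ (H h2)⁻¹ (H h4)⁻¹ (H h6)⁻¹ w = (zeta n)⁻¹ ^ j := by
  have e1 : (w.reverse.map (Hx T h0 h2 h4 h6)).prod = zeta n ^ j := by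
    ext p
    · rw [(prod_apply T h0 h2 h4 h6 w hw p).1, zeta_pow_apply]
      change endN (w.map T) p.1 = (p.1 : ℕ)
      exact (ok_spec hc hn hj p.1 p.1.2).1
    · rw [(prod_apply T h0 h2 h4 h6 w hw p).2, zeta_pow_apply]
      change p.2 + (twS (w.map T) p.1 : ZMod 3) = p.2 + (j : ZMod 3)
      have h6' : twS (w.map T) p.1 % 3 = j := (ok_spec hc hn hj p.1 p.1.2).2
      congr 1
      have : ((twS (w.map T) p.1 : ℕ) : ZMod 3) = ((twS (w.map T) p.1 % 3 : ℕ) : ZMod 3) := by
        rw [ZMod.natCast_mod]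
      rw [this, h6']
  have e2 : wv (H h0)⁻¹ (H h2)⁻¹ (H h4)⁻¹ (H h6)⁻¹ w =
      ((w.reverse.map (Hx T h0 h2 h4 h6)).prod)⁻¹ := by
    unfold wv
    rw [List.prod_inv_reverse]
    simp only [List.map_reverse, List.reverse_reverse, List.map_map]
    congr 1
    apply List.map_congr_left
    intro x hx
    exact gl_eq T h0 h2 h4 h6 x (hw x hx)
  rw [e2, e1, inv_pow]

end words

end Cfsg.Agent.Lib.H1.McLM
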