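import Cfsg.Agent.Lib.H1.McLMTab0
import Cfsg.Agent.Lib.H1.McLMTab1
import Cfsg.Agent.Lib.H1.McLMTab2
import Cfsg.Agent.Lib.H1.McLMTab3
import Cfsg.Agent.Lib.H1.McLMTab4
import Cfsg.Agent.Lib.H1.McLMTab5
import Cfsg.Agent.Lib.H1.McLMTab6
import Cfsg.Agent.Lib.H1.McLMTab7

set_option autoImplicit false

/-! the eight tables of the monomial model of 3.McL are four pairs of mutually inverse monomial permutations of
`22275 * 3` points (helper1, S2047 piece MODEL, twin) -/

namespace Cfsg.Agent.Lib.H1.McLM

/-- the table of a letter -/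
def T (x : ℕ) : BT :=
  match x with
  | 0 => tab0 | 1 => tab1 | 2 => tab2 | 3 => tab3 | 4 => tab4 | 5 => tab5 | 6 => tab6 | 7 => tab7 | _ => 0

/-- the words of a list are checked -/
def OkL (L : List (List ℕ × ℕ)) : Prop := ∀ p ∈ L, Ok 22275 (p.1.map T) p.2

theorem okL_nil : OkL [] := fun _ h => absurd h (List.not_mem_nil)

theorem okL_cons {p : List ℕ × ℕ} {L : List (List ℕ × ℕ)} (h : Ok 22275 (p.1.map T) p.2) (hL : OkL L) :
    OkL (p :: L) := by
  intro q hq
  rcases List.mem_cons.mp hq with rfl | hq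
  · exact h
  · exact hL q hq

theorem okL_append {L L' : List (List ℕ × ℕ)} (h : OkL L) (h' : OkL L') : OkL (L ++ L') := by
  intro q hq
  rcases List.mem_append.mp hq with hq | hq
  · exact h q hq
  · exact h' q hq

set_option maxRecDepth 1000000 in
theorem rng0 : chkR tab0 22275 0 22275 = true := by decide +kernel

set_option maxRecDepth 1000000 in
theorem rng1 : chkR tab1 22275 0 22275 = true := by decide +kernel

set_option maxRecDepth 1000000 in
theorem rng2 : chkR tab2 22275 0 22275 = true := by decide +kernel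

set_option maxRecDepth 1000000 in
theorem rng3 : chkR tab3 22275 0 22275 = true := by decide +kernel

set_option maxRecDepth 1000000 in
theorem rng4 : chkR tab4 22275 0 22275 = true := by decide +kernel

set_option maxRecDepth 1000000 in
theorem rng5 : chkR tab5 22275 0 22275 = true := by decide +kernel

set_option maxRecDepth 1000000 in
theorem rng6 : chkR tab6 22275 0 22275 = true := by decide +kernel

set_option maxRecDepth 1000000 in
theorem rng7 : chkR tab7 22275 0 22275 = true := by decide +kernel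

/-- letters 0, 1 -/
def V01 (s : ℕ) : ℕ := step tab1 (step tab0 s)

set_option maxRecDepth 1000000 in
theorem cv01 : chkF V01 0 0 22275 = true := by decide +kernel

theorem okv01 : Ok 22275 [tab0, tab1] 0 := ok_of_chk 22275 V01 _ 0 (fun _ => rfl) cv01

/-- letters 1, 0 -/
def V10 (s : ℕ) : ℕ := step tab0 (step tab1 s)

set_option maxRecDepth 1000000 in
theorem cv10 : chkF V10 0 0 22275 = true := by decide +kernel

theorem okv10 : Ok 22275 [tab1, tab0] 0 := ok_of_chk 22275 V10 _ 0 (fun _ => rfl) cv10

/-- letters 2, 3 -/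
def V23 (s : ℕ) : ℕ := step tab3 (step tab2 s)

set_option maxRecDepth 1000000 in
theorem cv23 : chkF V23 0 0 22275 = true := by decide +kernel

theorem okv23 : Ok 22275 [tab2, tab3] 0 := ok_of_chk 22275 V23 _ 0 (fun _ => rfl) cv23

/-- letters 3, 2 -/
def V32 (s : ℕ) : ℕ := step tab2 (step tab3 s)

set_option maxRecDepth 1000000 in
theorem cv32 : chkF V32 0 0 22275 = true := by decide +kernel

theorem okv32 : Ok 22275 [tab3, tab2] 0 := ok_of_chk 22275 V32 _ 0 (fun _ => rfl) cv32

/-- letters 4, 5 -/
def V45 (s : ℕ) : ℕ := step tab5 (step tab4 s)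

set_option maxRecDepth 1000000 in
theorem cv45 : chkF V45 0 0 22275 = true := by decide +kernel

theorem okv45 : Ok 22275 [tab4, tab5] 0 := ok_of_chk 22275 V45 _ 0 (fun _ => rfl) cv45

/-- letters 5, 4 -/
def V54 (s : ℕ) : ℕ := step tab4 (step tab5 s)

set_option maxRecDepth 1000000 in
theorem cv54 : chkF V54 0 0 22275 = true := by decide +kernel

theorem okv54 : Ok 22275 [tab5, tab4] 0 := ok_of_chk 22275 V54 _ 0 (fun _ => rfl) cv54

/-- letters 6, 7 -/
def V67 (s : ℕ) : ℕ := step tab7 (step tab6 s)

set_option maxRecDepth 1000000 in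
theorem cv67 : chkF V67 0 0 22275 = true := by decide +kernel

theorem okv67 : Ok 22275 [tab6, tab7] 0 := ok_of_chk 22275 V67 _ 0 (fun _ => rfl) cv67

/-- letters 7, 6 -/
def V76 (s : ℕ) : ℕ := step tab6 (step tab7 s)

set_option maxRecDepth 1000000 in
theorem cv76 : chkF V76 0 0 22275 = true := by decide +kernel

theorem okv76 : Ok 22275 [tab7, tab6] 0 := ok_of_chk 22275 V76 _ 0 (fun _ => rfl) cv76

theorem good0 : Good 22275 tab0 tab1 :=
  good_of_checks 22275 (by norm_num) tab0 tab1 rng0 rng1 okv01 okv10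

theorem good2 : Good 22275 tab2 tab3 :=
  good_of_checks 22275 (by norm_num) tab2 tab3 rng2 rng3 okv23 okv32

theorem good4 : Good 22275 tab4 tab5 :=
  good_of_checks 22275 (by norm_num) tab4 tab5 rng4 rng5 okv45 okv54

theorem good6 : Good 22275 tab6 tab7 :=
  good_of_checks 22275 (by norm_num) tab6 tab7 rng6 rng7 okv67 okv76

end Cfsg.Agent.Lib.H1.McLM
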