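import Cfsg.Agent.Lib.H1.McLMInv

set_option autoImplicit false

/-! word checks 10 .. 17 of `modelL` on the monomial model of 3.McL (helper1, S2047 piece MODEL, twin) -/

namespace Cfsg.Agent.Lib.H1.McLM

/-- word 10 -/
def W10 (s : ℕ) : ℕ := step tab3 (step tab0 (step tab3 (step tab1 (step tab3 (step tab0 (step tab3 (step tab1 (step tab3 (step tab0 (step tab3 (step tab1 (s))))))))))))

set_option maxRecDepth 1000000 in
theorem c10 : chkF W10 0 0 22275 = true := by decide +kernel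

theorem ok10 : Ok 22275 [tab1, tab3, tab0, tab3, tab1, tab3, tab0, tab3, tab1, tab3, tab0, tab3] 0 := ok_of_chk 22275 W10 _ 0 (fun _ => rfl) c10

/-- word 11 -/
def W11 (s : ℕ) : ℕ := step tab2 (step tab0 (step tab0 (step tab3 (step tab3 (step tab1 (step tab1 (step tab2 (step tab2 (step tab1 (step tab1 (step tab1 (step tab1 (s)))))))))))))

set_option maxRecDepth 1000000 in
theorem c11 : chkF W11 0 0 22275 = true := by decide +kernel

theorem ok11 : Ok 22275 [tab1, tab1, tab1, tab1, tab2, tab2, tab1, tab1, tab3, tab3, tab0, tab0, tab2] 0 := ok_of_chk 22275 W11 _ 0 (fun _ => rfl) c11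

/-- word 12 -/
def W12 (s : ℕ) : ℕ := step tab3 (step tab0 (step tab2 (step tab2 (step tab1 (step tab1 (step tab2 (step tab0 (step tab2 (step tab1 (step tab3 (step tab1 (step tab1 (s)))))))))))))

set_option maxRecDepth 1000000 in
theorem c12 : chkF W12 0 0 22275 = true := by decide +kernel

theorem ok12 : Ok 22275 [tab1, tab1, tab3, tab1, tab2, tab0, tab2, tab1, tab1, tab2, tab2, tab0, tab3] 0 := ok_of_chk 22275 W12 _ 0 (fun _ => rfl) c12

/-- word 13 -/
def W13 (s : ℕ) : ℕ := step tab2 (step tab1 (step tab2 (step tab2 (step tab0 (step tab2 (step tab2 (step tab0 (step tab3 (step tab1 (step tab2 (step tab1 (step tab1 (s)))))))))))))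

set_option maxRecDepth 1000000 in
theorem c13 : chkF W13 0 0 22275 = true := by decide +kernel

theorem ok13 : Ok 22275 [tab1, tab1, tab2, tab1, tab3, tab0, tab2, tab2, tab0, tab2, tab2, tab1, tab2] 0 := ok_of_chk 22275 W13 _ 0 (fun _ => rfl) c13

/-- word 14 -/
def W14 (s : ℕ) : ℕ := step tab2 (step tab2 (step tab2 (step tab1 (step tab2 (step tab0 (step tab3 (step tab1 (step tab2 (step tab1 (step tab2 (step tab1 (step tab1 (s)))))))))))))

set_option maxRecDepth 1000000 in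
theorem c14 : chkF W14 0 0 22275 = true := by decide +kernel

theorem ok14 : Ok 22275 [tab1, tab1, tab2, tab1, tab2, tab1, tab3, tab0, tab2, tab1, tab2, tab2, tab2] 0 := ok_of_chk 22275 W14 _ 0 (fun _ => rfl) c14

/-- word 15 -/
def W15 (s : ℕ) : ℕ := step tab0 (step tab0 (step tab0 (step tab0 (step tab0 (step tab0 (step tab0 (s)))))))

set_option maxRecDepth 1000000 in
theorem c15 : chkF W15 0 0 22275 = true := by decide +kernel

theorem ok15 : Ok 22275 [tab0, tab0, tab0, tab0, tab0, tab0, tab0] 0 := ok_of_chk 22275 W15 _ 0 (fun _ => rfl) c15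

/-- word 16 -/
def W16 (s : ℕ) : ℕ := step tab2 (step tab2 (step tab2 (step tab2 (step tab2 (step tab2 (step tab2 (s)))))))

set_option maxRecDepth 1000000 in
theorem c16 : chkF W16 0 0 22275 = true := by decide +kernel

theorem ok16 : Ok 22275 [tab2, tab2, tab2, tab2, tab2, tab2, tab2] 0 := ok_of_chk 22275 W16 _ 0 (fun _ => rfl) c16

/-- word 17 -/
def W17 (s : ℕ) : ℕ := step tab1 (step tab1 (step tab3 (step tab1 (step tab2 (step tab0 (step tab2 (step tab2 (step tab0 (step tab3 (step tab3 (step tab1 (step tab3 (step tab0 (step tab2 (s)))))))))))))))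

set_option maxRecDepth 1000000 in
theorem c17 : chkF W17 0 0 22275 = true := by decide +kernel

theorem ok17 : Ok 22275 [tab2, tab0, tab3, tab1, tab3, tab3, tab0, tab2, tab2, tab0, tab2, tab1, tab3, tab1, tab1] 0 := ok_of_chk 22275 W17 _ 0 (fun _ => rfl) c17

/-- the words of this file -/
def L1 : List (List ℕ × ℕ) := [([1, 3, 0, 3, 1, 3, 0, 3, 1, 3, 0, 3], 0), ([1, 1, 1, 1, 2, 2, 1, 1, 3, 3, 0, 0, 2], 0), ([1, 1, 3, 1, 2, 0, 2, 1, 1, 2, 2, 0, 3], 0), ([1, 1, 2, 1, 3, 0, 2, 2, 0, 2, 2, 1, 2], 0), ([1, 1, 2, 1, 2, 1, 3, 0, 2, 1, 2, 2, 2], 0), ([0, 0, 0, 0, 0, 0, 0], 0), ([2, 2, 2, 2, 2, 2, 2], 0), ([2, 0, 3, 1, 3, 3, 0, 2, 2, 0, 2, 1, 3, 1, 1], 0)]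

theorem okL1 : OkL L1 :=
  okL_cons (p := ([1, 3, 0, 3, 1, 3, 0, 3, 1, 3, 0, 3], 0)) ok10 (okL_cons (p := ([1, 1, 1, 1, 2, 2, 1, 1, 3, 3, 0, 0, 2], 0)) ok11 (okL_cons (p := ([1, 1, 3, 1, 2, 0, 2, 1, 1, 2, 2, 0, 3], 0)) ok12 (okL_cons (p := ([1, 1, 2, 1, 3, 0, 2, 2, 0, 2, 2, 1, 2], 0)) ok13 (okL_cons (p := ([1, 1, 2, 1, 2, 1, 3, 0, 2, 1, 2, 2, 2], 0)) ok14 (okL_cons (p := ([0, 0, 0, 0, 0, 0, 0], 0)) ok15 (okL_cons (p := ([2, 2, 2, 2, 2, 2, 2], 0)) ok16 (okL_cons (p := ([2, 0, 3, 1, 3, 3, 0, 2, 2, 0, 2, 1, 3, 1, 1], 0)) ok17 (okL_nil))))))))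

end Cfsg.Agent.Lib.H1.McLM
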