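import Cfsg.Agent.Lib.H1.McLMInv

set_option autoImplicit false

/-! word checks 18 .. 25 of `modelL` on the monomial model of 3.McL (helper1, S2047 piece MODEL, twin) -/

namespace Cfsg.Agent.Lib.H1.McLM

/-- word 18 -/
def W18 (s : ℕ) : ℕ := step tab3 (step tab3 (step tab1 (step tab2 (step tab1 (step tab2 (step tab2 (step tab1 (step tab2 (step tab0 (step tab3 (step tab3 (step tab0 (step tab3 (step tab0 (s)))))))))))))))

set_option maxRecDepth 1000000 in
theorem c18 : chkF W18 0 0 22275 = true := by decide +kernel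

theorem ok18 : Ok 22275 [tab0, tab3, tab0, tab3, tab3, tab0, tab2, tab1, tab2, tab2, tab1, tab2, tab1, tab3, tab3] 0 := ok_of_chk 22275 W18 _ 0 (fun _ => rfl) c18

/-- word 19 -/
def W19 (s : ℕ) : ℕ := step tab2 (step tab2 (step tab2 (step tab0 (step tab2 (step tab1 (step tab2 (step tab0 (step tab3 (step tab1 (step tab3 (step tab3 (step tab3 (step tab1 (s))))))))))))))

set_option maxRecDepth 1000000 in
theorem c19 : chkF W19 0 0 22275 = true := by decide +kernel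

theorem ok19 : Ok 22275 [tab1, tab3, tab3, tab3, tab1, tab3, tab0, tab2, tab1, tab2, tab0, tab2, tab2, tab2] 0 := ok_of_chk 22275 W19 _ 0 (fun _ => rfl) c19

/-- word 20 -/
def W20 (s : ℕ) : ℕ := step tab5 (step tab3 (step tab5 (step tab3 (step tab5 (step tab3 (s))))))

set_option maxRecDepth 1000000 in
theorem c20 : chkF W20 0 0 22275 = true := by decide +kernel

theorem ok20 : Ok 22275 [tab3, tab5, tab3, tab5, tab3, tab5] 0 := ok_of_chk 22275 W20 _ 0 (fun _ => rfl) c20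

/-- word 21 -/
def W21 (s : ℕ) : ℕ := step tab5 (step tab1 (step tab5 (step tab1 (step tab5 (step tab1 (step tab5 (step tab1 (step tab5 (step tab1 (s))))))))))

set_option maxRecDepth 1000000 in
theorem c21 : chkF W21 1 0 22275 = true := by decide +kernel

theorem ok21 : Ok 22275 [tab1, tab5, tab1, tab5, tab1, tab5, tab1, tab5, tab1, tab5] 1 := ok_of_chk 22275 W21 _ 1 (fun _ => rfl) c21

/-- word 22 -/
def W22 (s : ℕ) : ℕ := step tab4 (step tab3 (step tab4 (step tab3 (step tab4 (step tab3 (step tab4 (step tab3 (step tab4 (step tab3 (s))))))))))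

set_option maxRecDepth 1000000 in
theorem c22 : chkF W22 2 0 22275 = true := by decide +kernel

theorem ok22 : Ok 22275 [tab3, tab4, tab3, tab4, tab3, tab4, tab3, tab4, tab3, tab4] 2 := ok_of_chk 22275 W22 _ 2 (fun _ => rfl) c22

/-- word 23 -/
def W23 (s : ℕ) : ℕ := step tab5 (step tab1 (step tab1 (step tab5 (step tab1 (step tab1 (step tab5 (step tab1 (step tab1 (step tab5 (step tab1 (step tab1 (s))))))))))))

set_option maxRecDepth 1000000 in
theorem c23 : chkF W23 1 0 22275 = true := by decide +kernel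

theorem ok23 : Ok 22275 [tab1, tab1, tab5, tab1, tab1, tab5, tab1, tab1, tab5, tab1, tab1, tab5] 1 := ok_of_chk 22275 W23 _ 1 (fun _ => rfl) c23

/-- word 24 -/
def W24 (s : ℕ) : ℕ := step tab4 (step tab0 (step tab4 (step tab0 (step tab3 (step tab5 (step tab5 (step tab0 (step tab5 (step tab0 (step tab3 (step tab1 (s))))))))))))

set_option maxRecDepth 1000000 in
theorem c24 : chkF W24 2 0 22275 = true := by decide +kernel

theorem ok24 : Ok 22275 [tab1, tab3, tab0, tab5, tab0, tab5, tab5, tab3, tab0, tab4, tab0, tab4] 2 := ok_of_chk 22275 W24 _ 2 (fun _ => rfl) c24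

/-- word 25 -/
def W25 (s : ℕ) : ℕ := step tab4 (step tab2 (step tab0 (step tab5 (step tab3 (step tab5 (step tab0 (step tab2 (step tab1 (step tab5 (step tab3 (step tab1 (s))))))))))))

set_option maxRecDepth 1000000 in
theorem c25 : chkF W25 2 0 22275 = true := by decide +kernel

theorem ok25 : Ok 22275 [tab1, tab3, tab5, tab1, tab2, tab0, tab5, tab3, tab5, tab0, tab2, tab4] 2 := ok_of_chk 22275 W25 _ 2 (fun _ => rfl) c25

/-- the words of this file -/
def L2 : List (List ℕ × ℕ) := [([0, 3, 0, 3, 3, 0, 2, 1, 2, 2, 1, 2, 1, 3, 3], 0), ([1, 3, 3, 3, 1, 3, 0, 2, 1, 2, 0, 2, 2, 2], 0), ([3, 5, 3, 5, 3, 5], 0), ([1, 5, 1, 5, 1, 5, 1, 5, 1, 5], 1), ([3, 4, 3, 4, 3, 4, 3, 4, 3, 4], 2), ([1, 1, 5, 1, 1, 5, 1, 1, 5, 1, 1, 5], 1), ([1, 3, 0, 5, 0, 5, 5, 3, 0, 4, 0, 4], 2), ([1, 3, 5, 1, 2, 0, 5, 3, 5, 0, 2, 4], 2)]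

theorem okL2 : OkL L2 :=
  okL_cons (p := ([0, 3, 0, 3, 3, 0, 2, 1, 2, 2, 1, 2, 1, 3, 3], 0)) ok18 (okL_cons (p := ([1, 3, 3, 3, 1, 3, 0, 2, 1, 2, 0, 2, 2, 2], 0)) ok19 (okL_cons (p := ([3, 5, 3, 5, 3, 5], 0)) ok20 (okL_cons (p := ([1, 5, 1, 5, 1, 5, 1, 5, 1, 5], 1)) ok21 (okL_cons (p := ([3, 4, 3, 4, 3, 4, 3, 4, 3, 4], 2)) ok22 (okL_cons (p := ([1, 1, 5, 1, 1, 5, 1, 1, 5, 1, 1, 5], 1)) ok23 (okL_cons (p := ([1, 3, 0, 5, 0, 5, 5, 3, 0, 4, 0, 4], 2)) ok24 (okL_cons (p := ([1, 3, 5, 1, 2, 0, 5, 3, 5, 0, 2, 4], 2)) ok25 (okL_nil))))))))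

end Cfsg.Agent.Lib.H1.McLM
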