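import Cfsg.Agent.Lib.H1.McLMInv

set_option autoImplicit false

/-! word checks 26 .. 33 of `modelL` on the monomial model of 3.McL (helper1, S2047 piece MODEL, twin) -/

namespace Cfsg.Agent.Lib.H1.McLM

/-- word 26 -/
def W26 (s : ℕ) : ℕ := step tab2 (step tab2 (step tab1 (step tab4 (step tab3 (step tab1 (step tab2 (step tab2 (step tab1 (step tab4 (step tab3 (step tab1 (s))))))))))))

set_option maxRecDepth 1000000 in
theorem c26 : chkF W26 1 0 22275 = true := by decide +kernel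

theorem ok26 : Ok 22275 [tab1, tab3, tab4, tab1, tab2, tab2, tab1, tab3, tab4, tab1, tab2, tab2] 1 := ok_of_chk 22275 W26 _ 1 (fun _ => rfl) c26

/-- word 27 -/
def W27 (s : ℕ) : ℕ := step tab2 (step tab5 (step tab2 (step tab2 (step tab1 (step tab3 (step tab3 (step tab3 (step tab1 (step tab5 (step tab1 (step tab1 (step tab1 (s)))))))))))))

set_option maxRecDepth 1000000 in
theorem c27 : chkF W27 0 0 22275 = true := by decide +kernel

theorem ok27 : Ok 22275 [tab1, tab1, tab1, tab5, tab1, tab3, tab3, tab3, tab1, tab2, tab2, tab5, tab2] 0 := ok_of_chk 22275 W27 _ 0 (fun _ => rfl) c27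

/-- word 28 -/
def W28 (s : ℕ) : ℕ := step tab2 (step tab1 (step tab2 (step tab5 (step tab1 (step tab3 (step tab3 (step tab0 (step tab5 (step tab3 (step tab5 (step tab1 (step tab1 (s)))))))))))))

set_option maxRecDepth 1000000 in
theorem c28 : chkF W28 1 0 22275 = true := by decide +kernel

theorem ok28 : Ok 22275 [tab1, tab1, tab5, tab3, tab5, tab0, tab3, tab3, tab1, tab5, tab2, tab1, tab2] 1 := ok_of_chk 22275 W28 _ 1 (fun _ => rfl) c28

/-- word 29 -/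
def W29 (s : ℕ) : ℕ := step tab3 (step tab3 (step tab4 (step tab2 (step tab0 (step tab3 (step tab4 (step tab2 (step tab0 (step tab4 (step tab1 (step tab1 (step tab1 (s)))))))))))))

set_option maxRecDepth 1000000 in
theorem c29 : chkF W29 0 0 22275 = true := by decide +kernel

theorem ok29 : Ok 22275 [tab1, tab1, tab1, tab4, tab0, tab2, tab4, tab3, tab0, tab2, tab4, tab3, tab3] 0 := ok_of_chk 22275 W29 _ 0 (fun _ => rfl) c29

/-- word 30 -/
def W30 (s : ℕ) : ℕ := step tab3 (step tab5 (step tab3 (step tab4 (step tab1 (step tab1 (step tab2 (step tab0 (step tab2 (step tab4 (step tab1 (step tab1 (step tab1 (s)))))))))))))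

set_option maxRecDepth 1000000 in
theorem c30 : chkF W30 1 0 22275 = true := by decide +kernel

theorem ok30 : Ok 22275 [tab1, tab1, tab1, tab4, tab2, tab0, tab2, tab1, tab1, tab4, tab3, tab5, tab3] 1 := ok_of_chk 22275 W30 _ 1 (fun _ => rfl) c30

/-- word 31 -/
def W31 (s : ℕ) : ℕ := step tab2 (step tab1 (step tab2 (step tab5 (step tab1 (step tab3 (step tab3 (step tab0 (step tab2 (step tab4 (step tab2 (step tab1 (step tab1 (s)))))))))))))

set_option maxRecDepth 1000000 in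
theorem c31 : chkF W31 1 0 22275 = true := by decide +kernel

theorem ok31 : Ok 22275 [tab1, tab1, tab2, tab4, tab2, tab0, tab3, tab3, tab1, tab5, tab2, tab1, tab2] 1 := ok_of_chk 22275 W31 _ 1 (fun _ => rfl) c31

/-- word 32 -/
def W32 (s : ℕ) : ℕ := step tab6 (step tab6 (step tab6 (step tab6 (step tab6 (step tab6 (step tab6 (step tab6 (step tab6 (step tab6 (step tab6 (s)))))))))))

set_option maxRecDepth 1000000 in
theorem c32 : chkF W32 0 0 22275 = true := by decide +kernel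

theorem ok32 : Ok 22275 [tab6, tab6, tab6, tab6, tab6, tab6, tab6, tab6, tab6, tab6, tab6] 0 := ok_of_chk 22275 W32 _ 0 (fun _ => rfl) c32

/-- word 33 -/
def W33 (s : ℕ) : ℕ := step tab7 (step tab7 (step tab7 (step tab2 (step tab0 (step tab0 (step tab2 (step tab0 (step tab2 (step tab0 (step tab5 (step tab5 (step tab2 (step tab5 (step tab6 (step tab4 (step tab3 (step tab4 (step tab4 (step tab1 (step tab3 (step tab1 (step tab3 (step tab1 (step tab1 (step tab3 (s))))))))))))))))))))))))))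

set_option maxRecDepth 1000000 in
theorem c33 : chkF W33 0 0 22275 = true := by decide +kernel

theorem ok33 : Ok 22275 [tab3, tab1, tab1, tab3, tab1, tab3, tab1, tab4, tab4, tab3, tab4, tab6, tab5, tab2, tab5, tab5, tab0, tab2, tab0, tab2, tab0, tab0, tab2, tab7, tab7, tab7] 0 := ok_of_chk 22275 W33 _ 0 (fun _ => rfl) c33

/-- the words of this file -/
def L3 : List (List ℕ × ℕ) := [([1, 3, 4, 1, 2, 2, 1, 3, 4, 1, 2, 2], 1), ([1, 1, 1, 5, 1, 3, 3, 3, 1, 2, 2, 5, 2], 0), ([1, 1, 5, 3, 5, 0, 3, 3, 1, 5, 2, 1, 2], 1), ([1, 1, 1, 4, 0, 2, 4, 3, 0, 2, 4, 3, 3], 0), ([1, 1, 1, 4, 2, 0, 2, 1, 1, 4, 3, 5, 3], 1), ([1, 1, 2, 4, 2, 0, 3, 3, 1, 5, 2, 1, 2], 1), ([6, 6, 6, 6, 6, 6, 6, 6, 6, 6, 6], 0), ([3, 1, 1, 3, 1, 3, 1, 4, 4, 3, 4, 6, 5, 2, 5, 5, 0, 2, 0, 2, 0, 0, 2, 7, 7, 7], 0)]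

theorem okL3 : OkL L3 :=
  okL_cons (p := ([1, 3, 4, 1, 2, 2, 1, 3, 4, 1, 2, 2], 1)) ok26 (okL_cons (p := ([1, 1, 1, 5, 1, 3, 3, 3, 1, 2, 2, 5, 2], 0)) ok27 (okL_cons (p := ([1, 1, 5, 3, 5, 0, 3, 3, 1, 5, 2, 1, 2], 1)) ok28 (okL_cons (p := ([1, 1, 1, 4, 0, 2, 4, 3, 0, 2, 4, 3, 3], 0)) ok29 (okL_cons (p := ([1, 1, 1, 4, 2, 0, 2, 1, 1, 4, 3, 5, 3], 1)) ok30 (okL_cons (p := ([1, 1, 2, 4, 2, 0, 3, 3, 1, 5, 2, 1, 2], 1)) ok31 (okL_cons (p := ([6, 6, 6, 6, 6, 6, 6, 6, 6, 6, 6], 0)) ok32 (okL_cons (p := ([3, 1, 1, 3, 1, 3, 1, 4, 4, 3, 4, 6, 5, 2, 5, 5, 0, 2, 0, 2, 0, 0, 2, 7, 7, 7], 0)) ok33 (okL_nil))))))))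

end Cfsg.Agent.Lib.H1.McLM
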