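import Cfsg.Agent.Lib.H1.McLMInv

set_option autoImplicit false

/-! word checks 34 .. 40 of `modelL` on the monomial model of 3.McL (helper1, S2047 piece MODEL, twin) -/

namespace Cfsg.Agent.Lib.H1.McLM

/-- word 34 -/
def W34 (s : ℕ) : ℕ := step tab5 (step tab5 (step tab5 (step tab5 (step tab5 (s)))))

set_option maxRecDepth 1000000 in
theorem c34 : chkF W34 0 0 22275 = true := by decide +kernel

theorem ok34 : Ok 22275 [tab5, tab5, tab5, tab5, tab5] 0 := ok_of_chk 22275 W34 _ 0 (fun _ => rfl) c34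

/-- word 35 -/
def W35 (s : ℕ) : ℕ := step tab4 (step tab4 (step tab4 (step tab4 (step tab3 (step tab5 (step tab3 (step tab5 (step tab3 (s)))))))))

set_option maxRecDepth 1000000 in
theorem c35 : chkF W35 0 0 22275 = true := by decide +kernel

theorem ok35 : Ok 22275 [tab3, tab5, tab3, tab5, tab3, tab4, tab4, tab4, tab4] 0 := ok_of_chk 22275 W35 _ 0 (fun _ => rfl) c35

/-- word 36 -/
def W36 (s : ℕ) : ℕ := step tab4 (step tab2 (step tab4 (step tab2 (step tab4 (step tab3 (step tab3 (step tab3 (step tab3 (step tab3 (step tab3 (s)))))))))))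

set_option maxRecDepth 1000000 in
theorem c36 : chkF W36 0 0 22275 = true := by decide +kernel

theorem ok36 : Ok 22275 [tab3, tab3, tab3, tab3, tab3, tab3, tab4, tab2, tab4, tab2, tab4] 0 := ok_of_chk 22275 W36 _ 0 (fun _ => rfl) c36

/-- word 37 -/
def W37 (s : ℕ) : ℕ := step tab4 (step tab4 (step tab1 (step tab5 (step tab1 (step tab4 (step tab0 (step tab5 (step tab0 (step tab2 (step tab1 (step tab1 (step tab1 (s)))))))))))))

set_option maxRecDepth 1000000 in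
theorem c37 : chkF W37 0 0 22275 = true := by decide +kernel

theorem ok37 : Ok 22275 [tab1, tab1, tab1, tab2, tab0, tab5, tab0, tab4, tab1, tab5, tab1, tab4, tab4] 0 := ok_of_chk 22275 W37 _ 0 (fun _ => rfl) c37

/-- word 38 -/
def W38 (s : ℕ) : ℕ := step tab4 (step tab2 (step tab4 (step tab4 (step tab1 (step tab1 (step tab2 (step tab0 (step tab2 (step tab4 (step tab1 (step tab1 (step tab1 (s)))))))))))))

set_option maxRecDepth 1000000 in
theorem c38 : chkF W38 1 0 22275 = true := by decide +kernel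

theorem ok38 : Ok 22275 [tab1, tab1, tab1, tab4, tab2, tab0, tab2, tab1, tab1, tab4, tab4, tab2, tab4] 1 := ok_of_chk 22275 W38 _ 1 (fun _ => rfl) c38

/-- word 39 -/
def W39 (s : ℕ) : ℕ := step tab4 (step tab1 (step tab1 (step tab2 (step tab5 (step tab0 (step tab5 (step tab5 (step tab2 (step tab2 (step tab2 (step tab1 (step tab1 (s)))))))))))))

set_option maxRecDepth 1000000 in
theorem c39 : chkF W39 1 0 22275 = true := by decide +kernel

theorem ok39 : Ok 22275 [tab1, tab1, tab2, tab2, tab2, tab5, tab5, tab0, tab5, tab2, tab1, tab1, tab4] 1 := ok_of_chk 22275 W39 _ 1 (fun _ => rfl) c39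

/-- word 40 -/
def W40 (s : ℕ) : ℕ := step tab3 (step tab5 (step tab0 (step tab3 (step tab5 (step tab1 (step tab3 (step tab4 (step tab4 (step tab1 (step tab3 (step tab3 (step tab1 (s)))))))))))))

set_option maxRecDepth 1000000 in
theorem c40 : chkF W40 1 0 22275 = true := by decide +kernel

theorem ok40 : Ok 22275 [tab1, tab3, tab3, tab1, tab4, tab4, tab3, tab1, tab5, tab3, tab0, tab5, tab3] 1 := ok_of_chk 22275 W40 _ 1 (fun _ => rfl) c40

/-- the words of this file -/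
def L4 : List (List ℕ × ℕ) := [([5, 5, 5, 5, 5], 0), ([3, 5, 3, 5, 3, 4, 4, 4, 4], 0), ([3, 3, 3, 3, 3, 3, 4, 2, 4, 2, 4], 0), ([1, 1, 1, 2, 0, 5, 0, 4, 1, 5, 1, 4, 4], 0), ([1, 1, 1, 4, 2, 0, 2, 1, 1, 4, 4, 2, 4], 1), ([1, 1, 2, 2, 2, 5, 5, 0, 5, 2, 1, 1, 4], 1), ([1, 3, 3, 1, 4, 4, 3, 1, 5, 3, 0, 5, 3], 1)]

theorem okL4 : OkL L4 :=
  okL_cons (p := ([5, 5, 5, 5, 5], 0)) ok34 (okL_cons (p := ([3, 5, 3, 5, 3, 4, 4, 4, 4], 0)) ok35 (okL_cons (p := ([3, 3, 3, 3, 3, 3, 4, 2, 4, 2, 4], 0)) ok36 (okL_cons (p := ([1, 1, 1, 2, 0, 5, 0, 4, 1, 5, 1, 4, 4], 0)) ok37 (okL_cons (p := ([1, 1, 1, 4, 2, 0, 2, 1, 1, 4, 4, 2, 4], 1)) ok38 (okL_cons (p := ([1, 1, 2, 2, 2, 5, 5, 0, 5, 2, 1, 1, 4], 1)) ok39 (okL_cons (p := ([1, 3, 3, 1, 4, 4, 3, 1, 5, 3, 0, 5, 3], 1)) ok40 (okL_nil)))))))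

end Cfsg.Agent.Lib.H1.McLM
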