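import Cfsg.Agent.Lib.H1.McLMInv

set_option autoImplicit false

/-! word checks 41 .. 47 of `modelL` on the monomial model of 3.McL (helper1, S2047 piece MODEL, twin) -/

namespace Cfsg.Agent.Lib.H1.McLM

/-- word 41 -/
def W41 (s : ℕ) : ℕ := step tab4 (step tab0 (step tab2 (step tab2 (step tab2 (step tab0 (step tab3 (step tab3 (step tab4 (step tab3 (step tab1 (step tab1 (step tab1 (step tab1 (s))))))))))))))

set_option maxRecDepth 1000000 in
theorem c41 : chkF W41 0 0 22275 = true := by decide +kernel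

theorem ok41 : Ok 22275 [tab1, tab1, tab1, tab1, tab3, tab4, tab3, tab3, tab0, tab2, tab2, tab2, tab0, tab4] 0 := ok_of_chk 22275 W41 _ 0 (fun _ => rfl) c41

/-- word 42 -/
def W42 (s : ℕ) : ℕ := step tab5 (step tab3 (step tab1 (step tab3 (step tab0 (step tab0 (step tab5 (step tab5 (step tab3 (step tab5 (step tab1 (step tab1 (step tab1 (step tab1 (s))))))))))))))

set_option maxRecDepth 1000000 in
theorem c42 : chkF W42 2 0 22275 = true := by decide +kernel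

theorem ok42 : Ok 22275 [tab1, tab1, tab1, tab1, tab5, tab3, tab5, tab5, tab0, tab0, tab3, tab1, tab3, tab5] 2 := ok_of_chk 22275 W42 _ 2 (fun _ => rfl) c42

/-- word 43 -/
def W43 (s : ℕ) : ℕ := step tab3 (step tab1 (step tab4 (step tab1 (step tab5 (step tab0 (step tab4 (step tab0 (step tab5 (step tab5 (step tab1 (step tab1 (step tab1 (step tab1 (s))))))))))))))

set_option maxRecDepth 1000000 in
theorem c43 : chkF W43 0 0 22275 = true := by decide +kernel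

theorem ok43 : Ok 22275 [tab1, tab1, tab1, tab1, tab5, tab5, tab0, tab4, tab0, tab5, tab1, tab4, tab1, tab3] 0 := ok_of_chk 22275 W43 _ 0 (fun _ => rfl) c43

/-- word 44 -/
def W44 (s : ℕ) : ℕ := step tab5 (step tab3 (step tab1 (step tab3 (step tab0 (step tab0 (step tab5 (step tab2 (step tab4 (step tab2 (step tab1 (step tab1 (step tab1 (step tab1 (s))))))))))))))

set_option maxRecDepth 1000000 in
theorem c44 : chkF W44 2 0 22275 = true := by decide +kernel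

theorem ok44 : Ok 22275 [tab1, tab1, tab1, tab1, tab2, tab4, tab2, tab5, tab0, tab0, tab3, tab1, tab3, tab5] 2 := ok_of_chk 22275 W44 _ 2 (fun _ => rfl) c44

/-- word 45 -/
def W45 (s : ℕ) : ℕ := step tab5 (step tab2 (step tab5 (step tab2 (step tab1 (step tab5 (step tab1 (step tab2 (step tab5 (step tab1 (step tab3 (step tab3 (step tab1 (step tab1 (s))))))))))))))

set_option maxRecDepth 1000000 in
theorem c45 : chkF W45 0 0 22275 = true := by decide +kernel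

theorem ok45 : Ok 22275 [tab1, tab1, tab3, tab3, tab1, tab5, tab2, tab1, tab5, tab1, tab2, tab5, tab2, tab5] 0 := ok_of_chk 22275 W45 _ 0 (fun _ => rfl) c45

/-- word 46 -/
def W46 (s : ℕ) : ℕ := step tab2 (step tab4 (step tab3 (step tab3 (step tab5 (step tab0 (step tab3 (step tab1 (step tab4 (step tab2 (step tab5 (step tab3 (step tab1 (step tab1 (s))))))))))))))

set_option maxRecDepth 1000000 in
theorem c46 : chkF W46 1 0 22275 = true := by decide +kernel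

theorem ok46 : Ok 22275 [tab1, tab1, tab3, tab5, tab2, tab4, tab1, tab3, tab0, tab5, tab3, tab3, tab4, tab2] 1 := ok_of_chk 22275 W46 _ 1 (fun _ => rfl) c46

/-- word 47 -/
def W47 (s : ℕ) : ℕ := step tab3 (step tab1 (step tab2 (step tab1 (step tab3 (step tab3 (step tab0 (step tab3 (step tab1 (step tab3 (step tab0 (step tab3 (step tab1 (step tab1 (s))))))))))))))

set_option maxRecDepth 1000000 in
theorem c47 : chkF W47 0 0 22275 = true := by decide +kernel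

theorem ok47 : Ok 22275 [tab1, tab1, tab3, tab0, tab3, tab1, tab3, tab0, tab3, tab3, tab1, tab2, tab1, tab3] 0 := ok_of_chk 22275 W47 _ 0 (fun _ => rfl) c47

/-- the words of this file -/
def L5 : List (List ℕ × ℕ) := [([1, 1, 1, 1, 3, 4, 3, 3, 0, 2, 2, 2, 0, 4], 0), ([1, 1, 1, 1, 5, 3, 5, 5, 0, 0, 3, 1, 3, 5], 2), ([1, 1, 1, 1, 5, 5, 0, 4, 0, 5, 1, 4, 1, 3], 0), ([1, 1, 1, 1, 2, 4, 2, 5, 0, 0, 3, 1, 3, 5], 2), ([1, 1, 3, 3, 1, 5, 2, 1, 5, 1, 2, 5, 2, 5], 0), ([1, 1, 3, 5, 2, 4, 1, 3, 0, 5, 3, 3, 4, 2], 1), ([1, 1, 3, 0, 3, 1, 3, 0, 3, 3, 1, 2, 1, 3], 0)]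

theorem okL5 : OkL L5 :=
  okL_cons (p := ([1, 1, 1, 1, 3, 4, 3, 3, 0, 2, 2, 2, 0, 4], 0)) ok41 (okL_cons (p := ([1, 1, 1, 1, 5, 3, 5, 5, 0, 0, 3, 1, 3, 5], 2)) ok42 (okL_cons (p := ([1, 1, 1, 1, 5, 5, 0, 4, 0, 5, 1, 4, 1, 3], 0)) ok43 (okL_cons (p := ([1, 1, 1, 1, 2, 4, 2, 5, 0, 0, 3, 1, 3, 5], 2)) ok44 (okL_cons (p := ([1, 1, 3, 3, 1, 5, 2, 1, 5, 1, 2, 5, 2, 5], 0)) ok45 (okL_cons (p := ([1, 1, 3, 5, 2, 4, 1, 3, 0, 5, 3, 3, 4, 2], 1)) ok46 (okL_cons (p := ([1, 1, 3, 0, 3, 1, 3, 0, 3, 3, 1, 2, 1, 3], 0)) ok47 (okL_nil)))))))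

end Cfsg.Agent.Lib.H1.McLM
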