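import Cfsg.Agent.Lib.H1.McLMInv

set_option autoImplicit false

/-! word checks 48 .. 54 of `modelL` on the monomial model of 3.McL (helper1, S2047 piece MODEL, twin) -/

namespace Cfsg.Agent.Lib.H1.McLM

/-- word 48 -/
def W48 (s : ℕ) : ℕ := step tab4 (step tab3 (step tab4 (step tab4 (step tab3 (step tab5 (step tab0 (step tab2 (step tab2 (step tab5 (step tab0 (step tab3 (step tab1 (step tab1 (s))))))))))))))

set_option maxRecDepth 1000000 in
theorem c48 : chkF W48 2 0 22275 = true := by decide +kernel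

theorem ok48 : Ok 22275 [tab1, tab1, tab3, tab0, tab5, tab2, tab2, tab0, tab5, tab3, tab4, tab4, tab3, tab4] 2 := ok_of_chk 22275 W48 _ 2 (fun _ => rfl) c48

/-- word 49 -/
def W49 (s : ℕ) : ℕ := step tab4 (step tab3 (step tab5 (step tab2 (step tab2 (step tab1 (step tab1 (step tab4 (step tab2 (step tab4 (step tab4 (step tab3 (step tab1 (step tab1 (s))))))))))))))

set_option maxRecDepth 1000000 in
theorem c49 : chkF W49 0 0 22275 = true := by decide +kernel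

theorem ok49 : Ok 22275 [tab1, tab1, tab3, tab4, tab4, tab2, tab4, tab1, tab1, tab2, tab2, tab5, tab3, tab4] 0 := ok_of_chk 22275 W49 _ 0 (fun _ => rfl) c49

/-- word 50 -/
def W50 (s : ℕ) : ℕ := step tab5 (step tab3 (step tab3 (step tab5 (step tab2 (step tab5 (step tab0 (step tab3 (step tab5 (step tab1 (step tab5 (step tab5 (step tab1 (step tab1 (s))))))))))))))

set_option maxRecDepth 1000000 in
theorem c50 : chkF W50 2 0 22275 = true := by decide +kernel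

theorem ok50 : Ok 22275 [tab1, tab1, tab5, tab5, tab1, tab5, tab3, tab0, tab5, tab2, tab5, tab3, tab3, tab5] 2 := ok_of_chk 22275 W50 _ 2 (fun _ => rfl) c50

/-- word 51 -/
def W51 (s : ℕ) : ℕ := step tab5 (step tab3 (step tab1 (step tab5 (step tab2 (step tab2 (step tab4 (step tab4 (step tab2 (step tab5 (step tab2 (step tab5 (step tab1 (step tab1 (s))))))))))))))

set_option maxRecDepth 1000000 in
theorem c51 : chkF W51 0 0 22275 = true := by decide +kernel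

theorem ok51 : Ok 22275 [tab1, tab1, tab5, tab2, tab5, tab2, tab4, tab4, tab2, tab2, tab5, tab1, tab3, tab5] 0 := ok_of_chk 22275 W51 _ 0 (fun _ => rfl) c51

/-- word 52 -/
def W52 (s : ℕ) : ℕ := step tab3 (step tab0 (step tab2 (step tab1 (step tab2 (step tab1 (step tab1 (step tab2 (step tab1 (step tab3 (step tab1 (step tab2 (step tab1 (step tab1 (s))))))))))))))

set_option maxRecDepth 1000000 in
theorem c52 : chkF W52 0 0 22275 = true := by decide +kernel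

theorem ok52 : Ok 22275 [tab1, tab1, tab2, tab1, tab3, tab1, tab2, tab1, tab1, tab2, tab1, tab2, tab0, tab3] 0 := ok_of_chk 22275 W52 _ 0 (fun _ => rfl) c52

/-- word 53 -/
def W53 (s : ℕ) : ℕ := step tab3 (step tab3 (step tab0 (step tab2 (step tab1 (step tab1 (step tab3 (step tab1 (step tab3 (step tab3 (step tab1 (step tab2 (step tab1 (step tab1 (s))))))))))))))

set_option maxRecDepth 1000000 in
theorem c53 : chkF W53 0 0 22275 = true := by decide +kernel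

theorem ok53 : Ok 22275 [tab1, tab1, tab2, tab1, tab3, tab3, tab1, tab3, tab1, tab1, tab2, tab0, tab3, tab3] 0 := ok_of_chk 22275 W53 _ 0 (fun _ => rfl) c53

/-- word 54 -/
def W54 (s : ℕ) : ℕ := step tab2 (step tab2 (step tab1 (step tab3 (step tab3 (step tab3 (step tab0 (step tab3 (step tab3 (step tab3 (step tab1 (step tab2 (step tab1 (step tab1 (s))))))))))))))

set_option maxRecDepth 1000000 in
theorem c54 : chkF W54 0 0 22275 = true := by decide +kernel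

theorem ok54 : Ok 22275 [tab1, tab1, tab2, tab1, tab3, tab3, tab3, tab0, tab3, tab3, tab3, tab1, tab2, tab2] 0 := ok_of_chk 22275 W54 _ 0 (fun _ => rfl) c54

/-- the words of this file -/
def L6 : List (List ℕ × ℕ) := [([1, 1, 3, 0, 5, 2, 2, 0, 5, 3, 4, 4, 3, 4], 2), ([1, 1, 3, 4, 4, 2, 4, 1, 1, 2, 2, 5, 3, 4], 0), ([1, 1, 5, 5, 1, 5, 3, 0, 5, 2, 5, 3, 3, 5], 2), ([1, 1, 5, 2, 5, 2, 4, 4, 2, 2, 5, 1, 3, 5], 0), ([1, 1, 2, 1, 3, 1, 2, 1, 1, 2, 1, 2, 0, 3], 0), ([1, 1, 2, 1, 3, 3, 1, 3, 1, 1, 2, 0, 3, 3], 0), ([1, 1, 2, 1, 3, 3, 3, 0, 3, 3, 3, 1, 2, 2], 0)]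

theorem okL6 : OkL L6 :=
  okL_cons (p := ([1, 1, 3, 0, 5, 2, 2, 0, 5, 3, 4, 4, 3, 4], 2)) ok48 (okL_cons (p := ([1, 1, 3, 4, 4, 2, 4, 1, 1, 2, 2, 5, 3, 4], 0)) ok49 (okL_cons (p := ([1, 1, 5, 5, 1, 5, 3, 0, 5, 2, 5, 3, 3, 5], 2)) ok50 (okL_cons (p := ([1, 1, 5, 2, 5, 2, 4, 4, 2, 2, 5, 1, 3, 5], 0)) ok51 (okL_cons (p := ([1, 1, 2, 1, 3, 1, 2, 1, 1, 2, 1, 2, 0, 3], 0)) ok52 (okL_cons (p := ([1, 1, 2, 1, 3, 3, 1, 3, 1, 1, 2, 0, 3, 3], 0)) ok53 (okL_cons (p := ([1, 1, 2, 1, 3, 3, 3, 0, 3, 3, 3, 1, 2, 2], 0)) ok54 (okL_nil)))))))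

end Cfsg.Agent.Lib.H1.McLM
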