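import Cfsg.Agent.Lib.H1.McLMInv

set_option autoImplicit false

/-! word checks 55 .. 61 of `modelL` on the monomial model of 3.McL (helper1, S2047 piece MODEL, twin) -/

namespace Cfsg.Agent.Lib.H1.McLM

/-- word 55 -/
def W55 (s : ℕ) : ℕ := step tab3 (step tab3 (step tab3 (step tab3 (step tab1 (step tab2 (step tab0 (step tab3 (step tab1 (step tab2 (step tab1 (step tab2 (step tab1 (step tab1 (s))))))))))))))

set_option maxRecDepth 1000000 in
theorem c55 : chkF W55 0 0 22275 = true := by decide +kernel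

theorem ok55 : Ok 22275 [tab1, tab1, tab2, tab1, tab2, tab1, tab3, tab0, tab2, tab1, tab3, tab3, tab3, tab3] 0 := ok_of_chk 22275 W55 _ 0 (fun _ => rfl) c55

/-- word 56 -/
def W56 (s : ℕ) : ℕ := step tab2 (step tab2 (step tab2 (step tab1 (step tab3 (step tab1 (step tab3 (step tab3 (step tab0 (step tab3 (step tab0 (step tab2 (step tab1 (step tab1 (s))))))))))))))

set_option maxRecDepth 1000000 in
theorem c56 : chkF W56 0 0 22275 = true := by decide +kernel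

theorem ok56 : Ok 22275 [tab1, tab1, tab2, tab0, tab3, tab0, tab3, tab3, tab1, tab3, tab1, tab2, tab2, tab2] 0 := ok_of_chk 22275 W56 _ 0 (fun _ => rfl) c56

/-- word 57 -/
def W57 (s : ℕ) : ℕ := step tab5 (step tab5 (step tab2 (step tab1 (step tab2 (step tab4 (step tab3 (step tab1 (step tab5 (step tab0 (step tab2 (step tab2 (step tab1 (step tab1 (s))))))))))))))

set_option maxRecDepth 1000000 in
theorem c57 : chkF W57 2 0 22275 = true := by decide +kernel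

theorem ok57 : Ok 22275 [tab1, tab1, tab2, tab2, tab0, tab5, tab1, tab3, tab4, tab2, tab1, tab2, tab5, tab5] 2 := ok_of_chk 22275 W57 _ 2 (fun _ => rfl) c57

/-- word 58 -/
def W58 (s : ℕ) : ℕ := step tab3 (step tab3 (step tab3 (step tab3 (step tab4 (step tab4 (step tab3 (step tab3 (step tab5 (step tab1 (step tab4 (step tab2 (step tab1 (step tab1 (s))))))))))))))

set_option maxRecDepth 1000000 in
theorem c58 : chkF W58 2 0 22275 = true := by decide +kernel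

theorem ok58 : Ok 22275 [tab1, tab1, tab2, tab4, tab1, tab5, tab3, tab3, tab4, tab4, tab3, tab3, tab3, tab3] 2 := ok_of_chk 22275 W58 _ 2 (fun _ => rfl) c58

/-- word 59 -/
def W59 (s : ℕ) : ℕ := step tab5 (step tab5 (step tab1 (step tab3 (step tab4 (step tab1 (step tab5 (step tab2 (step tab5 (step tab1 (step tab4 (step tab2 (step tab1 (step tab1 (s))))))))))))))

set_option maxRecDepth 1000000 in
theorem c59 : chkF W59 2 0 22275 = true := by decide +kernel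

theorem ok59 : Ok 22275 [tab1, tab1, tab2, tab4, tab1, tab5, tab2, tab5, tab1, tab4, tab3, tab1, tab5, tab5] 2 := ok_of_chk 22275 W59 _ 2 (fun _ => rfl) c59

/-- word 60 -/
def W60 (s : ℕ) : ℕ := step tab4 (step tab0 (step tab3 (step tab4 (step tab1 (step tab1 (step tab2 (step tab0 (step tab3 (step tab5 (step tab1 (step tab4 (step tab1 (step tab1 (s))))))))))))))

set_option maxRecDepth 1000000 in
theorem c60 : chkF W60 0 0 22275 = true := by decide +kernel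

theorem ok60 : Ok 22275 [tab1, tab1, tab4, tab1, tab5, tab3, tab0, tab2, tab1, tab1, tab4, tab3, tab0, tab4] 0 := ok_of_chk 22275 W60 _ 0 (fun _ => rfl) c60

/-- word 61 -/
def W61 (s : ℕ) : ℕ := step tab3 (step tab0 (step tab3 (step tab4 (step tab0 (step tab3 (step tab1 (step tab5 (step tab3 (step tab4 (step tab3 (step tab4 (step tab1 (step tab1 (s))))))))))))))

set_option maxRecDepth 1000000 in
theorem c61 : chkF W61 2 0 22275 = true := by decide +kernel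

theorem ok61 : Ok 22275 [tab1, tab1, tab4, tab3, tab4, tab3, tab5, tab1, tab3, tab0, tab4, tab3, tab0, tab3] 2 := ok_of_chk 22275 W61 _ 2 (fun _ => rfl) c61

/-- the words of this file -/
def L7 : List (List ℕ × ℕ) := [([1, 1, 2, 1, 2, 1, 3, 0, 2, 1, 3, 3, 3, 3], 0), ([1, 1, 2, 0, 3, 0, 3, 3, 1, 3, 1, 2, 2, 2], 0), ([1, 1, 2, 2, 0, 5, 1, 3, 4, 2, 1, 2, 5, 5], 2), ([1, 1, 2, 4, 1, 5, 3, 3, 4, 4, 3, 3, 3, 3], 2), ([1, 1, 2, 4, 1, 5, 2, 5, 1, 4, 3, 1, 5, 5], 2), ([1, 1, 4, 1, 5, 3, 0, 2, 1, 1, 4, 3, 0, 4], 0), ([1, 1, 4, 3, 4, 3, 5, 1, 3, 0, 4, 3, 0, 3], 2)]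

theorem okL7 : OkL L7 :=
  okL_cons (p := ([1, 1, 2, 1, 2, 1, 3, 0, 2, 1, 3, 3, 3, 3], 0)) ok55 (okL_cons (p := ([1, 1, 2, 0, 3, 0, 3, 3, 1, 3, 1, 2, 2, 2], 0)) ok56 (okL_cons (p := ([1, 1, 2, 2, 0, 5, 1, 3, 4, 2, 1, 2, 5, 5], 2)) ok57 (okL_cons (p := ([1, 1, 2, 4, 1, 5, 3, 3, 4, 4, 3, 3, 3, 3], 2)) ok58 (okL_cons (p := ([1, 1, 2, 4, 1, 5, 2, 5, 1, 4, 3, 1, 5, 5], 2)) ok59 (okL_cons (p := ([1, 1, 4, 1, 5, 3, 0, 2, 1, 1, 4, 3, 0, 4], 0)) ok60 (okL_cons (p := ([1, 1, 4, 3, 4, 3, 5, 1, 3, 0, 4, 3, 0, 3], 2)) ok61 (okL_nil)))))))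

end Cfsg.Agent.Lib.H1.McLM
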