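import Cfsg.Agent.Lib.H1.McLMInv

set_option autoImplicit false

/-! word checks 62 .. 68 of `modelL` on the monomial model of 3.McL (helper1, S2047 piece MODEL, twin) -/

namespace Cfsg.Agent.Lib.H1.McLM

/-- word 62 -/
def W62 (s : ℕ) : ℕ := step tab4 (step tab3 (step tab0 (step tab4 (step tab2 (step tab0 (step tab2 (step tab5 (step tab3 (step tab1 (step tab5 (step tab1 (step tab3 (step tab1 (s))))))))))))))

set_option maxRecDepth 1000000 in
theorem c62 : chkF W62 1 0 22275 = true := by decide +kernel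

theorem ok62 : Ok 22275 [tab1, tab3, tab1, tab5, tab1, tab3, tab5, tab2, tab0, tab2, tab4, tab0, tab3, tab4] 1 := ok_of_chk 22275 W62 _ 1 (fun _ => rfl) c62

/-- word 63 -/
def W63 (s : ℕ) : ℕ := step tab2 (step tab2 (step tab0 (step tab3 (step tab1 (step tab3 (step tab0 (step tab3 (step tab3 (step tab1 (step tab3 (step tab3 (step tab3 (step tab1 (s))))))))))))))

set_option maxRecDepth 1000000 in
theorem c63 : chkF W63 0 0 22275 = true := by decide +kernel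

theorem ok63 : Ok 22275 [tab1, tab3, tab3, tab3, tab1, tab3, tab3, tab0, tab3, tab1, tab3, tab0, tab2, tab2] 0 := ok_of_chk 22275 W63 _ 0 (fun _ => rfl) c63

/-- word 64 -/
def W64 (s : ℕ) : ℕ := step tab5 (step tab1 (step tab5 (step tab2 (step tab4 (step tab1 (step tab5 (step tab3 (step tab0 (step tab3 (step tab5 (step tab3 (step tab3 (step tab1 (s))))))))))))))

set_option maxRecDepth 1000000 in
theorem c64 : chkF W64 2 0 22275 = true := by decide +kernel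

theorem ok64 : Ok 22275 [tab1, tab3, tab3, tab5, tab3, tab0, tab3, tab5, tab1, tab4, tab2, tab5, tab1, tab5] 2 := ok_of_chk 22275 W64 _ 2 (fun _ => rfl) c64

/-- word 65 -/
def W65 (s : ℕ) : ℕ := step tab3 (step tab0 (step tab3 (step tab4 (step tab3 (step tab3 (step tab1 (step tab3 (step tab0 (step tab3 (step tab4 (step tab3 (step tab3 (step tab1 (s))))))))))))))

set_option maxRecDepth 1000000 in
theorem c65 : chkF W65 0 0 22275 = true := by decide +kernel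

theorem ok65 : Ok 22275 [tab1, tab3, tab3, tab4, tab3, tab0, tab3, tab1, tab3, tab3, tab4, tab3, tab0, tab3] 0 := ok_of_chk 22275 W65 _ 0 (fun _ => rfl) c65

/-- word 66 -/
def W66 (s : ℕ) : ℕ := step tab2 (step tab1 (step tab2 (step tab5 (step tab0 (step tab2 (step tab2 (step tab5 (step tab5 (step tab0 (step tab4 (step tab3 (step tab3 (step tab1 (s))))))))))))))

set_option maxRecDepth 1000000 in
theorem c66 : chkF W66 2 0 22275 = true := by decide +kernel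

theorem ok66 : Ok 22275 [tab1, tab3, tab3, tab4, tab0, tab5, tab5, tab2, tab2, tab0, tab5, tab2, tab1, tab2] 2 := ok_of_chk 22275 W66 _ 2 (fun _ => rfl) c66

/-- word 67 -/
def W67 (s : ℕ) : ℕ := step tab3 (step tab5 (step tab0 (step tab5 (step tab3 (step tab5 (step tab3 (step tab0 (step tab3 (step tab1 (step tab3 (step tab5 (step tab3 (step tab1 (s))))))))))))))

set_option maxRecDepth 1000000 in
theorem c67 : chkF W67 1 0 22275 = true := by decide +kernel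

theorem ok67 : Ok 22275 [tab1, tab3, tab5, tab3, tab1, tab3, tab0, tab3, tab5, tab3, tab5, tab0, tab5, tab3] 1 := ok_of_chk 22275 W67 _ 1 (fun _ => rfl) c67

/-- word 68 -/
def W68 (s : ℕ) : ℕ := step tab4 (step tab1 (step tab4 (step tab1 (step tab4 (step tab1 (step tab4 (step tab1 (step tab3 (step tab5 (step tab3 (step tab5 (step tab3 (step tab1 (s))))))))))))))

set_option maxRecDepth 1000000 in
theorem c68 : chkF W68 0 0 22275 = true := by decide +kernel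

theorem ok68 : Ok 22275 [tab1, tab3, tab5, tab3, tab5, tab3, tab1, tab4, tab1, tab4, tab1, tab4, tab1, tab4] 0 := ok_of_chk 22275 W68 _ 0 (fun _ => rfl) c68

/-- the words of this file -/
def L8 : List (List ℕ × ℕ) := [([1, 3, 1, 5, 1, 3, 5, 2, 0, 2, 4, 0, 3, 4], 1), ([1, 3, 3, 3, 1, 3, 3, 0, 3, 1, 3, 0, 2, 2], 0), ([1, 3, 3, 5, 3, 0, 3, 5, 1, 4, 2, 5, 1, 5], 2), ([1, 3, 3, 4, 3, 0, 3, 1, 3, 3, 4, 3, 0, 3], 0), ([1, 3, 3, 4, 0, 5, 5, 2, 2, 0, 5, 2, 1, 2], 2), ([1, 3, 5, 3, 1, 3, 0, 3, 5, 3, 5, 0, 5, 3], 1), ([1, 3, 5, 3, 5, 3, 1, 4, 1, 4, 1, 4, 1, 4], 0)]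

theorem okL8 : OkL L8 :=
  okL_cons (p := ([1, 3, 1, 5, 1, 3, 5, 2, 0, 2, 4, 0, 3, 4], 1)) ok62 (okL_cons (p := ([1, 3, 3, 3, 1, 3, 3, 0, 3, 1, 3, 0, 2, 2], 0)) ok63 (okL_cons (p := ([1, 3, 3, 5, 3, 0, 3, 5, 1, 4, 2, 5, 1, 5], 2)) ok64 (okL_cons (p := ([1, 3, 3, 4, 3, 0, 3, 1, 3, 3, 4, 3, 0, 3], 0)) ok65 (okL_cons (p := ([1, 3, 3, 4, 0, 5, 5, 2, 2, 0, 5, 2, 1, 2], 2)) ok66 (okL_cons (p := ([1, 3, 5, 3, 1, 3, 0, 3, 5, 3, 5, 0, 5, 3], 1)) ok67 (okL_cons (p := ([1, 3, 5, 3, 5, 3, 1, 4, 1, 4, 1, 4, 1, 4], 0)) ok68 (okL_nil)))))))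

end Cfsg.Agent.Lib.H1.McLM
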