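import Cfsg.Agent.Lib.H1.McLMInv

set_option autoImplicit false

/-! word checks 69 .. 75 of `modelL` on the monomial model of 3.McL (helper1, S2047 piece MODEL, twin) -/

namespace Cfsg.Agent.Lib.H1.McLM

/-- word 69 -/
def W69 (s : ℕ) : ℕ := step tab4 (step tab0 (step tab4 (step tab0 (step tab3 (step tab5 (step tab1 (step tab4 (step tab1 (step tab4 (step tab1 (step tab4 (step tab3 (step tab1 (s))))))))))))))

set_option maxRecDepth 1000000 in
theorem c69 : chkF W69 2 0 22275 = true := by decide +kernel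

theorem ok69 : Ok 22275 [tab1, tab3, tab4, tab1, tab4, tab1, tab4, tab1, tab5, tab3, tab0, tab4, tab0, tab4] 2 := ok_of_chk 22275 W69 _ 2 (fun _ => rfl) c69

/-- word 70 -/
def W70 (s : ℕ) : ℕ := step tab4 (step tab3 (step tab4 (step tab4 (step tab3 (step tab1 (step tab3 (step tab5 (step tab3 (step tab0 (step tab3 (step tab4 (step tab3 (step tab1 (s))))))))))))))

set_option maxRecDepth 1000000 in
theorem c70 : chkF W70 2 0 22275 = true := by decide +kernel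

theorem ok70 : Ok 22275 [tab1, tab3, tab4, tab3, tab0, tab3, tab5, tab3, tab1, tab3, tab4, tab4, tab3, tab4] 2 := ok_of_chk 22275 W70 _ 2 (fun _ => rfl) c70

/-- word 71 -/
def W71 (s : ℕ) : ℕ := step tab4 (step tab3 (step tab4 (step tab4 (step tab3 (step tab1 (step tab4 (step tab2 (step tab4 (step tab0 (step tab3 (step tab4 (step tab3 (step tab1 (s))))))))))))))

set_option maxRecDepth 1000000 in
theorem c71 : chkF W71 2 0 22275 = true := by decide +kernel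

theorem ok71 : Ok 22275 [tab1, tab3, tab4, tab3, tab0, tab4, tab2, tab4, tab1, tab3, tab4, tab4, tab3, tab4] 2 := ok_of_chk 22275 W71 _ 2 (fun _ => rfl) c71

/-- word 72 -/
def W72 (s : ℕ) : ℕ := step tab2 (step tab4 (step tab2 (step tab4 (step tab2 (step tab1 (step tab5 (step tab1 (step tab5 (step tab1 (step tab5 (step tab1 (step tab5 (step tab1 (s))))))))))))))

set_option maxRecDepth 1000000 in
theorem c72 : chkF W72 1 0 22275 = true := by decide +kernel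

theorem ok72 : Ok 22275 [tab1, tab5, tab1, tab5, tab1, tab5, tab1, tab5, tab1, tab2, tab4, tab2, tab4, tab2] 1 := ok_of_chk 22275 W72 _ 1 (fun _ => rfl) c72

/-- word 73 -/
def W73 (s : ℕ) : ℕ := step tab3 (step tab3 (step tab0 (step tab4 (step tab3 (step tab4 (step tab1 (step tab2 (step tab2 (step tab5 (step tab2 (step tab1 (step tab5 (step tab1 (s))))))))))))))

set_option maxRecDepth 1000000 in
theorem c73 : chkF W73 0 0 22275 = true := by decide +kernel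

theorem ok73 : Ok 22275 [tab1, tab5, tab1, tab2, tab5, tab2, tab2, tab1, tab4, tab3, tab4, tab0, tab3, tab3] 0 := ok_of_chk 22275 W73 _ 0 (fun _ => rfl) c73

/-- word 74 -/
def W74 (s : ℕ) : ℕ := step tab5 (step tab3 (step tab3 (step tab4 (step tab2 (step tab1 (step tab5 (step tab3 (step tab3 (step tab3 (step tab5 (step tab3 (step tab5 (step tab1 (s))))))))))))))

set_option maxRecDepth 1000000 in
theorem c74 : chkF W74 0 0 22275 = true := by decide +kernel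

theorem ok74 : Ok 22275 [tab1, tab5, tab3, tab5, tab3, tab3, tab3, tab5, tab1, tab2, tab4, tab3, tab3, tab5] 0 := ok_of_chk 22275 W74 _ 0 (fun _ => rfl) c74

/-- word 75 -/
def W75 (s : ℕ) : ℕ := step tab4 (step tab4 (step tab1 (step tab5 (step tab3 (step tab4 (step tab1 (step tab4 (step tab0 (step tab3 (step tab3 (step tab0 (step tab5 (step tab1 (s))))))))))))))

set_option maxRecDepth 1000000 in
theorem c75 : chkF W75 0 0 22275 = true := by decide +kernel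

theorem ok75 : Ok 22275 [tab1, tab5, tab0, tab3, tab3, tab0, tab4, tab1, tab4, tab3, tab5, tab1, tab4, tab4] 0 := ok_of_chk 22275 W75 _ 0 (fun _ => rfl) c75

/-- the words of this file -/
def L9 : List (List ℕ × ℕ) := [([1, 3, 4, 1, 4, 1, 4, 1, 5, 3, 0, 4, 0, 4], 2), ([1, 3, 4, 3, 0, 3, 5, 3, 1, 3, 4, 4, 3, 4], 2), ([1, 3, 4, 3, 0, 4, 2, 4, 1, 3, 4, 4, 3, 4], 2), ([1, 5, 1, 5, 1, 5, 1, 5, 1, 2, 4, 2, 4, 2], 1), ([1, 5, 1, 2, 5, 2, 2, 1, 4, 3, 4, 0, 3, 3], 0), ([1, 5, 3, 5, 3, 3, 3, 5, 1, 2, 4, 3, 3, 5], 0), ([1, 5, 0, 3, 3, 0, 4, 1, 4, 3, 5, 1, 4, 4], 0)]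

theorem okL9 : OkL L9 :=
  okL_cons (p := ([1, 3, 4, 1, 4, 1, 4, 1, 5, 3, 0, 4, 0, 4], 2)) ok69 (okL_cons (p := ([1, 3, 4, 3, 0, 3, 5, 3, 1, 3, 4, 4, 3, 4], 2)) ok70 (okL_cons (p := ([1, 3, 4, 3, 0, 4, 2, 4, 1, 3, 4, 4, 3, 4], 2)) ok71 (okL_cons (p := ([1, 5, 1, 5, 1, 5, 1, 5, 1, 2, 4, 2, 4, 2], 1)) ok72 (okL_cons (p := ([1, 5, 1, 2, 5, 2, 2, 1, 4, 3, 4, 0, 3, 3], 0)) ok73 (okL_cons (p := ([1, 5, 3, 5, 3, 3, 3, 5, 1, 2, 4, 3, 3, 5], 0)) ok74 (okL_cons (p := ([1, 5, 0, 3, 3, 0, 4, 1, 4, 3, 5, 1, 4, 4], 0)) ok75 (okL_nil)))))))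

end Cfsg.Agent.Lib.H1.McLM
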