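import Cfsg.Agent.Lib.H1.McLMInv

set_option autoImplicit false

/-! word checks 76 .. 81 of `modelL` on the monomial model of 3.McL (helper1, S2047 piece MODEL, twin) -/

namespace Cfsg.Agent.Lib.H1.McLM

/-- word 76 -/
def W76 (s : ℕ) : ℕ := step tab2 (step tab4 (step tab4 (step tab1 (step tab2 (step tab5 (step tab1 (step tab2 (step tab4 (step tab4 (step tab1 (step tab2 (step tab5 (step tab1 (s))))))))))))))

set_option maxRecDepth 1000000 in
theorem c76 : chkF W76 1 0 22275 = true := by decide +kernel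

theorem ok76 : Ok 22275 [tab1, tab5, tab2, tab1, tab4, tab4, tab2, tab1, tab5, tab2, tab1, tab4, tab4, tab2] 1 := ok_of_chk 22275 W76 _ 1 (fun _ => rfl) c76

/-- word 77 -/
def W77 (s : ℕ) : ℕ := step tab2 (step tab4 (step tab2 (step tab4 (step tab3 (step tab4 (step tab2 (step tab1 (step tab5 (step tab3 (step tab3 (step tab4 (step tab2 (step tab1 (s))))))))))))))

set_option maxRecDepth 1000000 in
theorem c77 : chkF W77 0 0 22275 = true := by decide +kernel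

theorem ok77 : Ok 22275 [tab1, tab2, tab4, tab3, tab3, tab5, tab1, tab2, tab4, tab3, tab4, tab2, tab4, tab2] 0 := ok_of_chk 22275 W77 _ 0 (fun _ => rfl) c77

/-- word 78 -/
def W78 (s : ℕ) : ℕ := step tab4 (step tab2 (step tab5 (step tab5 (step tab5 (step tab5 (step tab2 (step tab4 (step tab3 (step tab3 (step tab3 (step tab3 (step tab3 (step tab3 (s))))))))))))))

set_option maxRecDepth 1000000 in
theorem c78 : chkF W78 0 0 22275 = true := by decide +kernel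

theorem ok78 : Ok 22275 [tab3, tab3, tab3, tab3, tab3, tab3, tab4, tab2, tab5, tab5, tab5, tab5, tab2, tab4] 0 := ok_of_chk 22275 W78 _ 0 (fun _ => rfl) c78

/-- word 79 -/
def W79 (s : ℕ) : ℕ := step tab0 (step tab2 (step tab2 (step tab5 (step tab0 (step tab5 (step tab3 (step tab4 (step tab6 (step tab5 (step tab0 (step tab3 (step tab4 (step tab0 (step tab0 (step tab7 (s))))))))))))))))

set_option maxRecDepth 1000000 in
theorem c79 : chkF W79 0 0 22275 = true := by decide +kernel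

theorem ok79 : Ok 22275 [tab7, tab0, tab0, tab4, tab3, tab0, tab5, tab6, tab4, tab3, tab5, tab0, tab5, tab2, tab2, tab0] 0 := ok_of_chk 22275 W79 _ 0 (fun _ => rfl) c79

/-- word 80 -/
def W80 (s : ℕ) : ℕ := step tab2 (step tab5 (step tab5 (step tab1 (step tab2 (step tab1 (step tab1 (step tab6 (step tab5 (step tab5 (step tab3 (step tab1 (step tab5 (step tab1 (step tab1 (step tab7 (s))))))))))))))))

set_option maxRecDepth 1000000 in
theorem c80 : chkF W80 0 0 22275 = true := by decide +kernel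

theorem ok80 : Ok 22275 [tab7, tab1, tab1, tab5, tab1, tab3, tab5, tab5, tab6, tab1, tab1, tab2, tab1, tab5, tab5, tab2] 0 := ok_of_chk 22275 W80 _ 0 (fun _ => rfl) c80

/-- word 81 -/
def W81 (s : ℕ) : ℕ := step tab1 (step tab5 (step tab1 (step tab3 (step tab1 (step tab3 (step tab3 (step tab0 (step tab6 (step tab0 (step tab3 (step tab0 (step tab3 (step tab3 (step tab0 (step tab2 (step tab7 (s)))))))))))))))))

set_option maxRecDepth 1000000 in
theorem c81 : chkF W81 2 0 22275 = true := by decide +kernel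

theorem ok81 : Ok 22275 [tab7, tab2, tab0, tab3, tab3, tab0, tab3, tab0, tab6, tab0, tab3, tab3, tab1, tab3, tab1, tab5, tab1] 2 := ok_of_chk 22275 W81 _ 2 (fun _ => rfl) c81

/-- the words of this file -/
def L10 : List (List ℕ × ℕ) := [([1, 5, 2, 1, 4, 4, 2, 1, 5, 2, 1, 4, 4, 2], 1), ([1, 2, 4, 3, 3, 5, 1, 2, 4, 3, 4, 2, 4, 2], 0), ([3, 3, 3, 3, 3, 3, 4, 2, 5, 5, 5, 5, 2, 4], 0), ([7, 0, 0, 4, 3, 0, 5, 6, 4, 3, 5, 0, 5, 2, 2, 0], 0), ([7, 1, 1, 5, 1, 3, 5, 5, 6, 1, 1, 2, 1, 5, 5, 2], 0), ([7, 2, 0, 3, 3, 0, 3, 0, 6, 0, 3, 3, 1, 3, 1, 5, 1], 2)]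

theorem okL10 : OkL L10 :=
  okL_cons (p := ([1, 5, 2, 1, 4, 4, 2, 1, 5, 2, 1, 4, 4, 2], 1)) ok76 (okL_cons (p := ([1, 2, 4, 3, 3, 5, 1, 2, 4, 3, 4, 2, 4, 2], 0)) ok77 (okL_cons (p := ([3, 3, 3, 3, 3, 3, 4, 2, 5, 5, 5, 5, 2, 4], 0)) ok78 (okL_cons (p := ([7, 0, 0, 4, 3, 0, 5, 6, 4, 3, 5, 0, 5, 2, 2, 0], 0)) ok79 (okL_cons (p := ([7, 1, 1, 5, 1, 3, 5, 5, 6, 1, 1, 2, 1, 5, 5, 2], 0)) ok80 (okL_cons (p := ([7, 2, 0, 3, 3, 0, 3, 0, 6, 0, 3, 3, 1, 3, 1, 5, 1], 2)) ok81 (okL_nil))))))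

end Cfsg.Agent.Lib.H1.McLM
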