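import Cfsg.Agent.Lib.H1.McLMInv

set_option autoImplicit false

/-! word checks 82 .. 87 of `modelL` on the monomial model of 3.McL (helper1, S2047 piece MODEL, twin) -/

namespace Cfsg.Agent.Lib.H1.McLM

/-- word 82 -/
def W82 (s : ℕ) : ℕ := step tab2 (step tab2 (step tab5 (step tab2 (step tab4 (step tab3 (step tab5 (step tab2 (step tab6 (step tab0 (step tab5 (step tab0 (step tab4 (step tab2 (step tab1 (step tab2 (step tab7 (s)))))))))))))))))

set_option maxRecDepth 1000000 in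
theorem c82 : chkF W82 1 0 22275 = true := by decide +kernel

theorem ok82 : Ok 22275 [tab7, tab2, tab1, tab2, tab4, tab0, tab5, tab0, tab6, tab2, tab5, tab3, tab4, tab2, tab5, tab2, tab2] 1 := ok_of_chk 22275 W82 _ 1 (fun _ => rfl) c82

/-- word 83 -/
def W83 (s : ℕ) : ℕ := step tab2 (step tab4 (step tab1 (step tab4 (step tab3 (step tab3 (step tab3 (step tab6 (step tab1 (step tab2 (step tab4 (step tab0 (step tab3 (step tab1 (step tab2 (step tab7 (s))))))))))))))))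

set_option maxRecDepth 1000000 in
theorem c83 : chkF W83 1 0 22275 = true := by decide +kernel

theorem ok83 : Ok 22275 [tab7, tab2, tab1, tab3, tab0, tab4, tab2, tab1, tab6, tab3, tab3, tab3, tab4, tab1, tab4, tab2] 1 := ok_of_chk 22275 W83 _ 1 (fun _ => rfl) c83

/-- word 84 -/
def W84 (s : ℕ) : ℕ := step tab3 (step tab5 (step tab3 (step tab0 (step tab0 (step tab5 (step tab6 (step tab1 (step tab4 (step tab4 (step tab0 (step tab3 (step tab4 (step tab2 (step tab7 (s)))))))))))))))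

set_option maxRecDepth 1000000 in
theorem c84 : chkF W84 0 0 22275 = true := by decide +kernel

theorem ok84 : Ok 22275 [tab7, tab2, tab4, tab3, tab0, tab4, tab4, tab1, tab6, tab5, tab0, tab0, tab3, tab5, tab3] 0 := ok_of_chk 22275 W84 _ 0 (fun _ => rfl) c84

/-- word 85 -/
def W85 (s : ℕ) : ℕ := step tab2 (step tab2 (step tab5 (step tab5 (step tab0 (step tab3 (step tab4 (step tab6 (step tab0 (step tab4 (step tab4 (step tab3 (step tab1 (step tab5 (step tab2 (step tab7 (s))))))))))))))))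

set_option maxRecDepth 1000000 in
theorem c85 : chkF W85 1 0 22275 = true := by decide +kernel

theorem ok85 : Ok 22275 [tab7, tab2, tab5, tab1, tab3, tab4, tab4, tab0, tab6, tab4, tab3, tab0, tab5, tab5, tab2, tab2] 1 := ok_of_chk 22275 W85 _ 1 (fun _ => rfl) c85

/-- word 86 -/
def W86 (s : ℕ) : ℕ := step tab5 (step tab3 (step tab4 (step tab1 (step tab2 (step tab5 (step tab3 (step tab6 (step tab5 (step tab5 (step tab1 (step tab3 (step tab1 (step tab4 (step tab3 (step tab7 (s))))))))))))))))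

set_option maxRecDepth 1000000 in
theorem c86 : chkF W86 2 0 22275 = true := by decide +kernel

theorem ok86 : Ok 22275 [tab7, tab3, tab4, tab1, tab3, tab1, tab5, tab5, tab6, tab3, tab5, tab2, tab1, tab4, tab3, tab5] 2 := ok_of_chk 22275 W86 _ 2 (fun _ => rfl) c86

/-- word 87 -/
def W87 (s : ℕ) : ℕ := step tab5 (step tab5 (step tab0 (step tab0 (step tab2 (step tab0 (step tab0 (step tab4 (step tab6 (step tab0 (step tab2 (step tab1 (step tab2 (step tab5 (step tab2 (step tab4 (step tab7 (s)))))))))))))))))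

set_option maxRecDepth 1000000 in
theorem c87 : chkF W87 0 0 22275 = true := by decide +kernel

theorem ok87 : Ok 22275 [tab7, tab4, tab2, tab5, tab2, tab1, tab2, tab0, tab6, tab4, tab0, tab0, tab2, tab0, tab0, tab5, tab5] 0 := ok_of_chk 22275 W87 _ 0 (fun _ => rfl) c87

/-- the words of this file -/
def L11 : List (List ℕ × ℕ) := [([7, 2, 1, 2, 4, 0, 5, 0, 6, 2, 5, 3, 4, 2, 5, 2, 2], 1), ([7, 2, 1, 3, 0, 4, 2, 1, 6, 3, 3, 3, 4, 1, 4, 2], 1), ([7, 2, 4, 3, 0, 4, 4, 1, 6, 5, 0, 0, 3, 5, 3], 0), ([7, 2, 5, 1, 3, 4, 4, 0, 6, 4, 3, 0, 5, 5, 2, 2], 1), ([7, 3, 4, 1, 3, 1, 5, 5, 6, 3, 5, 2, 1, 4, 3, 5], 2), ([7, 4, 2, 5, 2, 1, 2, 0, 6, 4, 0, 0, 2, 0, 0, 5, 5], 0)]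

theorem okL11 : OkL L11 :=
  okL_cons (p := ([7, 2, 1, 2, 4, 0, 5, 0, 6, 2, 5, 3, 4, 2, 5, 2, 2], 1)) ok82 (okL_cons (p := ([7, 2, 1, 3, 0, 4, 2, 1, 6, 3, 3, 3, 4, 1, 4, 2], 1)) ok83 (okL_cons (p := ([7, 2, 4, 3, 0, 4, 4, 1, 6, 5, 0, 0, 3, 5, 3], 0)) ok84 (okL_cons (p := ([7, 2, 5, 1, 3, 4, 4, 0, 6, 4, 3, 0, 5, 5, 2, 2], 1)) ok85 (okL_cons (p := ([7, 3, 4, 1, 3, 1, 5, 5, 6, 3, 5, 2, 1, 4, 3, 5], 2)) ok86 (okL_cons (p := ([7, 4, 2, 5, 2, 1, 2, 0, 6, 4, 0, 0, 2, 0, 0, 5, 5], 0)) ok87 (okL_nil))))))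

end Cfsg.Agent.Lib.H1.McLM
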