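import Cfsg.Agent.Lib.H1.McLMInv

set_option autoImplicit false

/-! word checks 88 .. 93 of `modelL` on the monomial model of 3.McL (helper1, S2047 piece MODEL, twin) -/

namespace Cfsg.Agent.Lib.H1.McLM

/-- word 88 -/
def W88 (s : ℕ) : ℕ := step tab1 (step tab2 (step tab1 (step tab2 (step tab0 (step tab0 (step tab0 (step tab6 (step tab5 (step tab2 (step tab5 (step tab5 (step tab3 (step tab3 (step tab4 (step tab7 (s))))))))))))))))

set_option maxRecDepth 1000000 in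
theorem c88 : chkF W88 2 0 22275 = true := by decide +kernel

theorem ok88 : Ok 22275 [tab7, tab4, tab3, tab3, tab5, tab5, tab2, tab5, tab6, tab0, tab0, tab0, tab2, tab1, tab2, tab1] 2 := ok_of_chk 22275 W88 _ 2 (fun _ => rfl) c88

/-- word 89 -/
def W89 (s : ℕ) : ℕ := step tab1 (step tab1 (step tab1 (step tab3 (step tab0 (step tab3 (step tab0 (step tab6 (step tab5 (step tab2 (step tab2 (step tab4 (step tab4 (step tab3 (step tab4 (step tab7 (s))))))))))))))))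

set_option maxRecDepth 1000000 in
theorem c89 : chkF W89 1 0 22275 = true := by decide +kernel

theorem ok89 : Ok 22275 [tab7, tab4, tab3, tab4, tab4, tab2, tab2, tab5, tab6, tab0, tab3, tab0, tab3, tab1, tab1, tab1] 1 := ok_of_chk 22275 W89 _ 1 (fun _ => rfl) c89

/-- word 90 -/
def W90 (s : ℕ) : ℕ := step tab2 (step tab4 (step tab3 (step tab0 (step tab5 (step tab2 (step tab4 (step tab6 (step tab2 (step tab5 (step tab0 (step tab2 (step tab0 (step tab4 (step tab4 (step tab7 (s))))))))))))))))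

set_option maxRecDepth 1000000 in
theorem c90 : chkF W90 1 0 22275 = true := by decide +kernel

theorem ok90 : Ok 22275 [tab7, tab4, tab4, tab0, tab2, tab0, tab5, tab2, tab6, tab4, tab2, tab5, tab0, tab3, tab4, tab2] 1 := ok_of_chk 22275 W90 _ 1 (fun _ => rfl) c90

/-- word 91 -/
def W91 (s : ℕ) : ℕ := step tab0 (step tab2 (step tab4 (step tab1 (step tab5 (step tab2 (step tab1 (step tab5 (step tab6 (step tab3 (step tab5 (step tab1 (step tab2 (step tab0 (step tab4 (step tab4 (step tab7 (s)))))))))))))))))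

set_option maxRecDepth 1000000 in
theorem c91 : chkF W91 2 0 22275 = true := by decide +kernel

theorem ok91 : Ok 22275 [tab7, tab4, tab4, tab0, tab2, tab1, tab5, tab3, tab6, tab5, tab1, tab2, tab5, tab1, tab4, tab2, tab0] 2 := ok_of_chk 22275 W91 _ 2 (fun _ => rfl) c91

/-- word 92 -/
def W92 (s : ℕ) : ℕ := step tab0 (step tab0 (step tab3 (step tab0 (step tab4 (step tab4 (step tab3 (step tab6 (step tab0 (step tab0 (step tab4 (step tab0 (step tab2 (step tab4 (step tab4 (step tab7 (s))))))))))))))))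

set_option maxRecDepth 1000000 in
theorem c92 : chkF W92 0 0 22275 = true := by decide +kernel

theorem ok92 : Ok 22275 [tab7, tab4, tab4, tab2, tab0, tab4, tab0, tab0, tab6, tab3, tab4, tab4, tab0, tab3, tab0, tab0] 0 := ok_of_chk 22275 W92 _ 0 (fun _ => rfl) c92

/-- word 93 -/
def W93 (s : ℕ) : ℕ := step tab0 (step tab4 (step tab4 (step tab2 (step tab1 (step tab3 (step tab4 (step tab0 (step tab6 (step tab0 (step tab3 (step tab5 (step tab1 (step tab4 (step tab0 (step tab5 (step tab7 (s)))))))))))))))))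

set_option maxRecDepth 1000000 in
theorem c93 : chkF W93 1 0 22275 = true := by decide +kernel

theorem ok93 : Ok 22275 [tab7, tab5, tab0, tab4, tab1, tab5, tab3, tab0, tab6, tab0, tab4, tab3, tab1, tab2, tab4, tab4, tab0] 1 := ok_of_chk 22275 W93 _ 1 (fun _ => rfl) c93

/-- the words of this file -/
def L12 : List (List ℕ × ℕ) := [([7, 4, 3, 3, 5, 5, 2, 5, 6, 0, 0, 0, 2, 1, 2, 1], 2), ([7, 4, 3, 4, 4, 2, 2, 5, 6, 0, 3, 0, 3, 1, 1, 1], 1), ([7, 4, 4, 0, 2, 0, 5, 2, 6, 4, 2, 5, 0, 3, 4, 2], 1), ([7, 4, 4, 0, 2, 1, 5, 3, 6, 5, 1, 2, 5, 1, 4, 2, 0], 2), ([7, 4, 4, 2, 0, 4, 0, 0, 6, 3, 4, 4, 0, 3, 0, 0], 0), ([7, 5, 0, 4, 1, 5, 3, 0, 6, 0, 4, 3, 1, 2, 4, 4, 0], 1)]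

theorem okL12 : OkL L12 :=
  okL_cons (p := ([7, 4, 3, 3, 5, 5, 2, 5, 6, 0, 0, 0, 2, 1, 2, 1], 2)) ok88 (okL_cons (p := ([7, 4, 3, 4, 4, 2, 2, 5, 6, 0, 3, 0, 3, 1, 1, 1], 1)) ok89 (okL_cons (p := ([7, 4, 4, 0, 2, 0, 5, 2, 6, 4, 2, 5, 0, 3, 4, 2], 1)) ok90 (okL_cons (p := ([7, 4, 4, 0, 2, 1, 5, 3, 6, 5, 1, 2, 5, 1, 4, 2, 0], 2)) ok91 (okL_cons (p := ([7, 4, 4, 2, 0, 4, 0, 0, 6, 3, 4, 4, 0, 3, 0, 0], 0)) ok92 (okL_cons (p := ([7, 5, 0, 4, 1, 5, 3, 0, 6, 0, 4, 3, 1, 2, 4, 4, 0], 1)) ok93 (okL_nil))))))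

end Cfsg.Agent.Lib.H1.McLM
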