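import Cfsg.Agent.Lib.H1.McLMInv

set_option autoImplicit false

/-! word checks 94 .. 99 of `modelL` on the monomial model of 3.McL (helper1, S2047 piece MODEL, twin) -/

namespace Cfsg.Agent.Lib.H1.McLM

/-- word 94 -/
def W94 (s : ℕ) : ℕ := step tab1 (step tab5 (step tab2 (step tab2 (step tab5 (step tab0 (step tab5 (step tab0 (step tab6 (step tab2 (step tab5 (step tab2 (step tab1 (step tab2 (step tab1 (step tab5 (step tab7 (s)))))))))))))))))

set_option maxRecDepth 1000000 in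
theorem c94 : chkF W94 1 0 22275 = true := by decide +kernel

theorem ok94 : Ok 22275 [tab7, tab5, tab1, tab2, tab1, tab2, tab5, tab2, tab6, tab0, tab5, tab0, tab5, tab2, tab2, tab5, tab1] 1 := ok_of_chk 22275 W94 _ 1 (fun _ => rfl) c94

/-- word 95 -/
def W95 (s : ℕ) : ℕ := step tab0 (step tab5 (step tab5 (step tab1 (step tab2 (step tab0 (step tab5 (step tab6 (step tab4 (step tab2 (step tab1 (step tab3 (step tab5 (step tab1 (step tab5 (step tab7 (s))))))))))))))))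

set_option maxRecDepth 1000000 in
theorem c95 : chkF W95 1 0 22275 = true := by decide +kernel

theorem ok95 : Ok 22275 [tab7, tab5, tab1, tab5, tab3, tab1, tab2, tab4, tab6, tab5, tab0, tab2, tab1, tab5, tab5, tab0] 1 := ok_of_chk 22275 W95 _ 1 (fun _ => rfl) c95

/-- word 96 -/
def W96 (s : ℕ) : ℕ := step tab1 (step tab2 (step tab0 (step tab3 (step tab3 (step tab4 (step tab0 (step tab6 (step tab4 (step tab4 (step tab0 (step tab3 (step tab0 (step tab5 (step tab5 (step tab7 (s))))))))))))))))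

set_option maxRecDepth 1000000 in
theorem c96 : chkF W96 1 0 22275 = true := by decide +kernel

theorem ok96 : Ok 22275 [tab7, tab5, tab5, tab0, tab3, tab0, tab4, tab4, tab6, tab0, tab4, tab3, tab3, tab0, tab2, tab1] 1 := ok_of_chk 22275 W96 _ 1 (fun _ => rfl) c96

/-- word 97 -/
def W97 (s : ℕ) : ℕ := step tab1 (step tab2 (step tab2 (step tab1 (step tab2 (step tab4 (step tab6 (step tab0 (step tab5 (step tab3 (step tab3 (step tab3 (step tab1 (step tab2 (step tab0 (step tab7 (s))))))))))))))))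

set_option maxRecDepth 1000000 in
theorem c97 : chkF W97 2 0 22275 = true := by decide +kernel

theorem ok97 : Ok 22275 [tab7, tab0, tab2, tab1, tab3, tab3, tab3, tab5, tab0, tab6, tab4, tab2, tab1, tab2, tab2, tab1] 2 := ok_of_chk 22275 W97 _ 2 (fun _ => rfl) c97

/-- word 98 -/
def W98 (s : ℕ) : ℕ := step tab3 (step tab0 (step tab2 (step tab0 (step tab0 (step tab3 (step tab6 (step tab5 (step tab1 (step tab2 (step tab2 (step tab4 (step tab3 (step tab0 (step tab2 (step tab7 (s))))))))))))))))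

set_option maxRecDepth 1000000 in
theorem c98 : chkF W98 1 0 22275 = true := by decide +kernel

theorem ok98 : Ok 22275 [tab7, tab2, tab0, tab3, tab4, tab2, tab2, tab1, tab5, tab6, tab3, tab0, tab0, tab2, tab0, tab3] 1 := ok_of_chk 22275 W98 _ 1 (fun _ => rfl) c98

/-- word 99 -/
def W99 (s : ℕ) : ℕ := step tab0 (step tab4 (step tab2 (step tab1 (step tab4 (step tab4 (step tab1 (step tab6 (step tab1 (step tab5 (step tab3 (step tab0 (step tab5 (step tab2 (step tab2 (step tab2 (step tab7 (s)))))))))))))))))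

set_option maxRecDepth 1000000 in
theorem c99 : chkF W99 2 0 22275 = true := by decide +kernel

theorem ok99 : Ok 22275 [tab7, tab2, tab2, tab2, tab5, tab0, tab3, tab5, tab1, tab6, tab1, tab4, tab4, tab1, tab2, tab4, tab0] 2 := ok_of_chk 22275 W99 _ 2 (fun _ => rfl) c99

/-- the words of this file -/
def L13 : List (List ℕ × ℕ) := [([7, 5, 1, 2, 1, 2, 5, 2, 6, 0, 5, 0, 5, 2, 2, 5, 1], 1), ([7, 5, 1, 5, 3, 1, 2, 4, 6, 5, 0, 2, 1, 5, 5, 0], 1), ([7, 5, 5, 0, 3, 0, 4, 4, 6, 0, 4, 3, 3, 0, 2, 1], 1), ([7, 0, 2, 1, 3, 3, 3, 5, 0, 6, 4, 2, 1, 2, 2, 1], 2), ([7, 2, 0, 3, 4, 2, 2, 1, 5, 6, 3, 0, 0, 2, 0, 3], 1), ([7, 2, 2, 2, 5, 0, 3, 5, 1, 6, 1, 4, 4, 1, 2, 4, 0], 2)]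

theorem okL13 : OkL L13 :=
  okL_cons (p := ([7, 5, 1, 2, 1, 2, 5, 2, 6, 0, 5, 0, 5, 2, 2, 5, 1], 1)) ok94 (okL_cons (p := ([7, 5, 1, 5, 3, 1, 2, 4, 6, 5, 0, 2, 1, 5, 5, 0], 1)) ok95 (okL_cons (p := ([7, 5, 5, 0, 3, 0, 4, 4, 6, 0, 4, 3, 3, 0, 2, 1], 1)) ok96 (okL_cons (p := ([7, 0, 2, 1, 3, 3, 3, 5, 0, 6, 4, 2, 1, 2, 2, 1], 2)) ok97 (okL_cons (p := ([7, 2, 0, 3, 4, 2, 2, 1, 5, 6, 3, 0, 0, 2, 0, 3], 1)) ok98 (okL_cons (p := ([7, 2, 2, 2, 5, 0, 3, 5, 1, 6, 1, 4, 4, 1, 2, 4, 0], 2)) ok99 (okL_nil))))))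

end Cfsg.Agent.Lib.H1.McLM
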