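import Cfsg.Agent.Lib.H1.McLMInv

set_option autoImplicit false

/-! word checks 106 .. 111 of `modelL` on the monomial model of 3.McL (helper1, S2047 piece MODEL, twin) -/

namespace Cfsg.Agent.Lib.H1.McLM

/-- word 106 -/
def W106 (s : ℕ) : ℕ := step tab4 (step tab3 (step tab0 (step tab5 (step tab1 (step tab4 (step tab6 (step tab2 (step tab5 (step tab1 (step tab5 (step tab5 (step tab2 (step tab5 (step tab5 (step tab7 (s))))))))))))))))

set_option maxRecDepth 1000000 in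
theorem c106 : chkF W106 2 0 22275 = true := by decide +kernel

theorem ok106 : Ok 22275 [tab7, tab5, tab5, tab2, tab5, tab5, tab1, tab5, tab2, tab6, tab4, tab1, tab5, tab0, tab3, tab4] 2 := ok_of_chk 22275 W106 _ 2 (fun _ => rfl) c106

/-- word 107 -/
def W107 (s : ℕ) : ℕ := step tab4 (step tab2 (step tab4 (step tab6 (step tab6 (step tab3 (step tab5 (step tab0 (step tab3 (step tab7 (step tab3 (step tab4 (step tab3 (step tab0 (s))))))))))))))

set_option maxRecDepth 1000000 in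
theorem c107 : chkF W107 1 0 22275 = true := by decide +kernel

theorem ok107 : Ok 22275 [tab0, tab3, tab4, tab3, tab7, tab3, tab0, tab5, tab3, tab6, tab6, tab4, tab2, tab4] 1 := ok_of_chk 22275 W107 _ 1 (fun _ => rfl) c107

/-- word 108 -/
def W108 (s : ℕ) : ℕ := step tab5 (step tab2 (step tab7 (step tab7 (step tab2 (step tab6 (step tab6 (step tab6 (step tab4 (step tab3 (step tab4 (step tab0 (step tab0 (s)))))))))))))

set_option maxRecDepth 1000000 in
theorem c108 : chkF W108 1 0 22275 = true := by decide +kernel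

theorem ok108 : Ok 22275 [tab0, tab0, tab4, tab3, tab4, tab6, tab6, tab6, tab2, tab7, tab7, tab2, tab5] 1 := ok_of_chk 22275 W108 _ 1 (fun _ => rfl) c108

/-- word 109 -/
def W109 (s : ℕ) : ℕ := step tab3 (step tab3 (step tab5 (step tab6 (step tab1 (step tab3 (step tab6 (step tab1 (step tab4 (step tab1 (step tab2 (step tab2 (step tab0 (s)))))))))))))

set_option maxRecDepth 1000000 in
theorem c109 : chkF W109 2 0 22275 = true := by decide +kernel

theorem ok109 : Ok 22275 [tab0, tab2, tab2, tab1, tab4, tab1, tab6, tab3, tab1, tab6, tab5, tab3, tab3] 2 := ok_of_chk 22275 W109 _ 2 (fun _ => rfl) c109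

/-- word 110 -/
def W110 (s : ℕ) : ℕ := step tab3 (step tab1 (step tab7 (step tab3 (step tab5 (step tab5 (step tab1 (step tab6 (step tab1 (step tab2 (step tab4 (step tab3 (step tab3 (step tab0 (s))))))))))))))

set_option maxRecDepth 1000000 in
theorem c110 : chkF W110 0 0 22275 = true := by decide +kernel

theorem ok110 : Ok 22275 [tab0, tab3, tab3, tab4, tab2, tab1, tab6, tab1, tab5, tab5, tab3, tab7, tab1, tab3] 0 := ok_of_chk 22275 W110 _ 0 (fun _ => rfl) c110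

/-- word 111 -/
def W111 (s : ℕ) : ℕ := step tab6 (step tab0 (step tab6 (step tab0 (step tab6 (step tab0 (step tab6 (step tab0 (step tab6 (step tab0 (s))))))))))

set_option maxRecDepth 1000000 in
theorem c111 : chkF W111 2 0 22275 = true := by decide +kernel

theorem ok111 : Ok 22275 [tab0, tab6, tab0, tab6, tab0, tab6, tab0, tab6, tab0, tab6] 2 := ok_of_chk 22275 W111 _ 2 (fun _ => rfl) c111

/-- the words of this file -/
def L15 : List (List ℕ × ℕ) := [([7, 5, 5, 2, 5, 5, 1, 5, 2, 6, 4, 1, 5, 0, 3, 4], 2), ([0, 3, 4, 3, 7, 3, 0, 5, 3, 6, 6, 4, 2, 4], 1), ([0, 0, 4, 3, 4, 6, 6, 6, 2, 7, 7, 2, 5], 1), ([0, 2, 2, 1, 4, 1, 6, 3, 1, 6, 5, 3, 3], 2), ([0, 3, 3, 4, 2, 1, 6, 1, 5, 5, 3, 7, 1, 3], 0), ([0, 6, 0, 6, 0, 6, 0, 6, 0, 6], 2)]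

theorem okL15 : OkL L15 :=
  okL_cons (p := ([7, 5, 5, 2, 5, 5, 1, 5, 2, 6, 4, 1, 5, 0, 3, 4], 2)) ok106 (okL_cons (p := ([0, 3, 4, 3, 7, 3, 0, 5, 3, 6, 6, 4, 2, 4], 1)) ok107 (okL_cons (p := ([0, 0, 4, 3, 4, 6, 6, 6, 2, 7, 7, 2, 5], 1)) ok108 (okL_cons (p := ([0, 2, 2, 1, 4, 1, 6, 3, 1, 6, 5, 3, 3], 2)) ok109 (okL_cons (p := ([0, 3, 3, 4, 2, 1, 6, 1, 5, 5, 3, 7, 1, 3], 0)) ok110 (okL_cons (p := ([0, 6, 0, 6, 0, 6, 0, 6, 0, 6], 2)) ok111 (okL_nil))))))

end Cfsg.Agent.Lib.H1.McLM
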