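import Cfsg.Agent.Lib.H1.McLMW00
import Cfsg.Agent.Lib.H1.McLMW01
import Cfsg.Agent.Lib.H1.McLMW02
import Cfsg.Agent.Lib.H1.McLMW03
import Cfsg.Agent.Lib.H1.McLMW04
import Cfsg.Agent.Lib.H1.McLMW05
import Cfsg.Agent.Lib.H1.McLMW06
import Cfsg.Agent.Lib.H1.McLMW07
import Cfsg.Agent.Lib.H1.McLMW08
import Cfsg.Agent.Lib.H1.McLMW09
import Cfsg.Agent.Lib.H1.McLMW10
import Cfsg.Agent.Lib.H1.McLMW11
import Cfsg.Agent.Lib.H1.McLMW12
import Cfsg.Agent.Lib.H1.McLMW13
import Cfsg.Agent.Lib.H1.McLMW14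
import Cfsg.Agent.Lib.H1.McLMW15

set_option autoImplicit false

/-! # S2047 piece MODEL (twin, helper1): the monomial model of 3.McL on `22275 * 3` points -/

namespace Cfsg.Agent.Lib.H1.McLM

open Cfsg.Agent.Lib.H6.McLM

theorem modelL_eq : modelL = L0 ++ (L1 ++ (L2 ++ (L3 ++ (L4 ++ (L5 ++ (L6 ++ (L7 ++ (L8 ++ (L9 ++ (L10 ++ (L11 ++ (L12 ++ (L13 ++ (L14 ++ (L15))))))))))))))) := by decide +kernel

theorem okL_all : OkL modelL := by
  rw [modelL_eq]
  exact okL_append okL0 (okL_append okL1 (okL_append okL2 (okL_append okL3 (okL_append okL4 (okL_append okL5 (okL_append okL6 (okL_append okL7 (okL_append okL8 (okL_append okL9 (okL_append okL10 (okL_append okL11 (okL_append okL12 (okL_append okL13 (okL_append okL14 (okL15)))))))))))))))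

theorem modelL_small : ∀ p ∈ modelL, p.2 < 3 ∧ ∀ x ∈ p.1, x < 8 := by decide +kernel

theorem inv_comm {n : ℕ} {t t' : BT} (h : Good n t t') :
    (H h)⁻¹ * (zeta n)⁻¹ = (zeta n)⁻¹ * (H h)⁻¹ := by
  rw [← mul_inv_rev, ← mul_inv_rev, zeta_comm h]

/-- MODEL: a group with four marked elements and a central element `z` of order 3 in which every word of
`modelL` has the listed value (data: tools/mcl_h6/model3.json, as monomial permutations of 22275 * 3 points) -/
theorem exists_model3 : ∃ (M : Type) (_ : Group M) (ga gb gc gd z : M), z ≠ 1 ∧ z ^ 3 = 1 ∧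
    ga * z = z * ga ∧ gb * z = z * gb ∧ gc * z = z * gc ∧ gd * z = z * gd ∧
    ∀ p ∈ modelL, wv ga gb gc gd p.1 = z ^ p.2 := by
  have g0 : Good 22275 (T 0) (T 1) := good0
  have g2 : Good 22275 (T 2) (T 3) := good2
  have g4 : Good 22275 (T 4) (T 5) := good4
  have g6 : Good 22275 (T 6) (T 7) := good6
  refine ⟨Equiv.Perm (Fin 22275 × ZMod 3), inferInstance, (H g0)⁻¹, (H g2)⁻¹, (H g4)⁻¹, (H g6)⁻¹,
    (zeta 22275)⁻¹, ?_, ?_, inv_comm g0, inv_comm g2, inv_comm g4, inv_comm g6, ?_⟩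
  · exact inv_ne_one.mpr (zeta_ne_one 22275 (by norm_num))
  · rw [inv_pow, zeta_pow_three, inv_one]
  · intro p hp
    exact wv_eq T g0 g2 g4 g6 (by norm_num) p.1 p.2 (modelL_small p hp).2 (modelL_small p hp).1
      (okL_all p hp)

end Cfsg.Agent.Lib.H1.McLM
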