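import Cfsg.Agent.Lib.H1.McLMInv

set_option autoImplicit false

/-! word checks 0 .. 9 of `modelL` on the monomial model of 3.McL (helper1, S2047 piece MODEL, twin) -/

namespace Cfsg.Agent.Lib.H1.McLM

/-- word 0 -/
def W0 (s : ℕ) : ℕ := step tab4 (step tab4 (step tab4 (step tab4 (step tab4 (s)))))

set_option maxRecDepth 1000000 in
theorem c0 : chkF W0 0 0 22275 = true := by decide +kernel

theorem ok0 : Ok 22275 [tab4, tab4, tab4, tab4, tab4] 0 := ok_of_chk 22275 W0 _ 0 (fun _ => rfl) c0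

/-- word 1 -/
def W1 (s : ℕ) : ℕ := step tab4 (step tab1 (step tab3 (step tab4 (step tab2 (step tab1 (step tab5 (step tab3 (step tab0 (step tab4 (step tab1 (step tab2 (step tab4 (step tab0 (step tab3 (step tab5 (step tab2 (step tab0 (s))))))))))))))))))

set_option maxRecDepth 1000000 in
theorem c1 : chkF W1 0 0 22275 = true := by decide +kernel

theorem ok1 : Ok 22275 [tab0, tab2, tab5, tab3, tab0, tab4, tab2, tab1, tab4, tab0, tab3, tab5, tab1, tab2, tab4, tab3, tab1, tab4] 0 := ok_of_chk 22275 W1 _ 0 (fun _ => rfl) c1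

/-- word 2 -/
def W2 (s : ℕ) : ℕ := step tab1 (step tab1 (step tab1 (step tab1 (step tab1 (step tab1 (step tab1 (s)))))))

set_option maxRecDepth 1000000 in
theorem c2 : chkF W2 0 0 22275 = true := by decide +kernel

theorem ok2 : Ok 22275 [tab1, tab1, tab1, tab1, tab1, tab1, tab1] 0 := ok_of_chk 22275 W2 _ 0 (fun _ => rfl) c2

/-- word 3 -/
def W3 (s : ℕ) : ℕ := step tab3 (step tab3 (step tab3 (step tab3 (step tab3 (step tab3 (step tab3 (s)))))))

set_option maxRecDepth 1000000 in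
theorem c3 : chkF W3 0 0 22275 = true := by decide +kernel

theorem ok3 : Ok 22275 [tab3, tab3, tab3, tab3, tab3, tab3, tab3] 0 := ok_of_chk 22275 W3 _ 0 (fun _ => rfl) c3

/-- word 4 -/
def W4 (s : ℕ) : ℕ := step tab2 (step tab1 (step tab3 (step tab0 (step tab2 (step tab1 (step tab2 (step tab1 (step tab3 (step tab1 (s))))))))))

set_option maxRecDepth 1000000 in
theorem c4 : chkF W4 0 0 22275 = true := by decide +kernel

theorem ok4 : Ok 22275 [tab1, tab3, tab1, tab2, tab1, tab2, tab0, tab3, tab1, tab2] 0 := ok_of_chk 22275 W4 _ 0 (fun _ => rfl) c4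

/-- word 5 -/
def W5 (s : ℕ) : ℕ := step tab3 (step tab3 (step tab0 (step tab0 (step tab2 (step tab2 (step tab1 (step tab1 (step tab3 (step tab1 (step tab1 (step tab1 (s))))))))))))

set_option maxRecDepth 1000000 in
theorem c5 : chkF W5 0 0 22275 = true := by decide +kernel

theorem ok5 : Ok 22275 [tab1, tab1, tab1, tab3, tab1, tab1, tab2, tab2, tab0, tab0, tab3, tab3] 0 := ok_of_chk 22275 W5 _ 0 (fun _ => rfl) c5

/-- word 6 -/
def W6 (s : ℕ) : ℕ := step tab3 (step tab1 (step tab1 (step tab3 (step tab1 (step tab1 (step tab3 (step tab1 (step tab1 (step tab3 (step tab1 (step tab1 (s))))))))))))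

set_option maxRecDepth 1000000 in
theorem c6 : chkF W6 0 0 22275 = true := by decide +kernel

theorem ok6 : Ok 22275 [tab1, tab1, tab3, tab1, tab1, tab3, tab1, tab1, tab3, tab1, tab1, tab3] 0 := ok_of_chk 22275 W6 _ 0 (fun _ => rfl) c6

/-- word 7 -/
def W7 (s : ℕ) : ℕ := step tab3 (step tab3 (step tab1 (step tab1 (step tab3 (step tab3 (step tab1 (step tab1 (step tab3 (step tab3 (step tab1 (step tab1 (s))))))))))))

set_option maxRecDepth 1000000 in
theorem c7 : chkF W7 0 0 22275 = true := by decide +kernel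

theorem ok7 : Ok 22275 [tab1, tab1, tab3, tab3, tab1, tab1, tab3, tab3, tab1, tab1, tab3, tab3] 0 := ok_of_chk 22275 W7 _ 0 (fun _ => rfl) c7

/-- word 8 -/
def W8 (s : ℕ) : ℕ := step tab2 (step tab1 (step tab3 (step tab0 (step tab2 (step tab2 (step tab0 (step tab3 (step tab0 (step tab3 (step tab1 (step tab1 (s))))))))))))

set_option maxRecDepth 1000000 in
theorem c8 : chkF W8 0 0 22275 = true := by decide +kernel

theorem ok8 : Ok 22275 [tab1, tab1, tab3, tab0, tab3, tab0, tab2, tab2, tab0, tab3, tab1, tab2] 0 := ok_of_chk 22275 W8 _ 0 (fun _ => rfl) c8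

/-- word 9 -/
def W9 (s : ℕ) : ℕ := step tab3 (step tab1 (step tab3 (step tab1 (step tab3 (step tab1 (step tab3 (step tab1 (step tab3 (step tab1 (step tab3 (step tab1 (s))))))))))))

set_option maxRecDepth 1000000 in
theorem c9 : chkF W9 0 0 22275 = true := by decide +kernel

theorem ok9 : Ok 22275 [tab1, tab3, tab1, tab3, tab1, tab3, tab1, tab3, tab1, tab3, tab1, tab3] 0 := ok_of_chk 22275 W9 _ 0 (fun _ => rfl) c9

/-- the words of this file -/
def L0 : List (List ℕ × ℕ) := [([4, 4, 4, 4, 4], 0), ([0, 2, 5, 3, 0, 4, 2, 1, 4, 0, 3, 5, 1, 2, 4, 3, 1, 4], 0), ([1, 1, 1, 1, 1, 1, 1], 0), ([3, 3, 3, 3, 3, 3, 3], 0), ([1, 3, 1, 2, 1, 2, 0, 3, 1, 2], 0), ([1, 1, 1, 3, 1, 1, 2, 2, 0, 0, 3, 3], 0), ([1, 1, 3, 1, 1, 3, 1, 1, 3, 1, 1, 3], 0), ([1, 1, 3, 3, 1, 1, 3, 3, 1, 1, 3, 3], 0), ([1, 1, 3, 0, 3, 0, 2, 2, 0, 3, 1, 2], 0), ([1, 3, 1, 3, 1, 3, 1, 3, 1, 3, 1, 3], 0)]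

theorem okL0 : OkL L0 :=
  okL_cons (p := ([4, 4, 4, 4, 4], 0)) ok0 (okL_cons (p := ([0, 2, 5, 3, 0, 4, 2, 1, 4, 0, 3, 5, 1, 2, 4, 3, 1, 4], 0)) ok1 (okL_cons (p := ([1, 1, 1, 1, 1, 1, 1], 0)) ok2 (okL_cons (p := ([3, 3, 3, 3, 3, 3, 3], 0)) ok3 (okL_cons (p := ([1, 3, 1, 2, 1, 2, 0, 3, 1, 2], 0)) ok4 (okL_cons (p := ([1, 1, 1, 3, 1, 1, 2, 2, 0, 0, 3, 3], 0)) ok5 (okL_cons (p := ([1, 1, 3, 1, 1, 3, 1, 1, 3, 1, 1, 3], 0)) ok6 (okL_cons (p := ([1, 1, 3, 3, 1, 1, 3, 3, 1, 1, 3, 3], 0)) ok7 (okL_cons (p := ([1, 1, 3, 0, 3, 0, 2, 2, 0, 3, 1, 2], 0)) ok8 (okL_cons (p := ([1, 3, 1, 3, 1, 3, 1, 3, 1, 3, 1, 3], 0)) ok9 (okL_nil))))))))))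

end Cfsg.Agent.Lib.H1.McLM
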