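import Cfsg.Agent.Lib.H1.McLMInv

set_option autoImplicit false

/-! word checks 100 .. 105 of `modelL` on the monomial model of 3.McL (helper1, S2047 piece MODEL, twin) -/

namespace Cfsg.Agent.Lib.H1.McLM

/-- word 100 -/
def W100 (s : ℕ) : ℕ := step tab0 (step tab2 (step tab1 (step tab2 (step tab1 (step tab4 (step tab1 (step tab6 (step tab4 (step tab4 (step tab1 (step tab5 (step tab1 (step tab1 (step tab4 (step tab3 (step tab7 (s)))))))))))))))))

set_option maxRecDepth 1000000 in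
theorem c100 : chkF W100 0 0 22275 = true := by decide +kernel

theorem ok100 : Ok 22275 [tab7, tab3, tab4, tab1, tab1, tab5, tab1, tab4, tab4, tab6, tab1, tab4, tab1, tab2, tab1, tab2, tab0] 0 := ok_of_chk 22275 W100 _ 0 (fun _ => rfl) c100

/-- word 101 -/
def W101 (s : ℕ) : ℕ := step tab4 (step tab4 (step tab3 (step tab5 (step tab5 (step tab2 (step tab5 (step tab6 (step tab5 (step tab0 (step tab0 (step tab4 (step tab0 (step tab0 (step tab0 (step tab4 (step tab7 (s)))))))))))))))))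

set_option maxRecDepth 1000000 in
theorem c101 : chkF W101 2 0 22275 = true := by decide +kernel

theorem ok101 : Ok 22275 [tab7, tab4, tab0, tab0, tab0, tab4, tab0, tab0, tab5, tab6, tab5, tab2, tab5, tab5, tab3, tab4, tab4] 2 := ok_of_chk 22275 W101 _ 2 (fun _ => rfl) c101

/-- word 102 -/
def W102 (s : ℕ) : ℕ := step tab2 (step tab2 (step tab5 (step tab0 (step tab3 (step tab4 (step tab2 (step tab6 (step tab1 (step tab4 (step tab1 (step tab5 (step tab3 (step tab0 (step tab0 (step tab4 (step tab7 (s)))))))))))))))))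

set_option maxRecDepth 1000000 in
theorem c102 : chkF W102 1 0 22275 = true := by decide +kernel

theorem ok102 : Ok 22275 [tab7, tab4, tab0, tab0, tab3, tab5, tab1, tab4, tab1, tab6, tab2, tab4, tab3, tab0, tab5, tab2, tab2] 1 := ok_of_chk 22275 W102 _ 1 (fun _ => rfl) c102

/-- word 103 -/
def W103 (s : ℕ) : ℕ := step tab2 (step tab1 (step tab1 (step tab3 (step tab1 (step tab2 (step tab6 (step tab3 (step tab1 (step tab2 (step tab5 (step tab3 (step tab3 (step tab0 (step tab4 (step tab7 (s))))))))))))))))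

set_option maxRecDepth 1000000 in
theorem c103 : chkF W103 2 0 22275 = true := by decide +kernel

theorem ok103 : Ok 22275 [tab7, tab4, tab0, tab3, tab3, tab5, tab2, tab1, tab3, tab6, tab2, tab1, tab3, tab1, tab1, tab2] 2 := ok_of_chk 22275 W103 _ 2 (fun _ => rfl) c103

/-- word 104 -/
def W104 (s : ℕ) : ℕ := step tab3 (step tab5 (step tab1 (step tab4 (step tab0 (step tab4 (step tab0 (step tab6 (step tab4 (step tab3 (step tab1 (step tab1 (step tab3 (step tab4 (step tab3 (step tab4 (step tab7 (s)))))))))))))))))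

set_option maxRecDepth 1000000 in
theorem c104 : chkF W104 2 0 22275 = true := by decide +kernel

theorem ok104 : Ok 22275 [tab7, tab4, tab3, tab4, tab3, tab1, tab1, tab3, tab4, tab6, tab0, tab4, tab0, tab4, tab1, tab5, tab3] 2 := ok_of_chk 22275 W104 _ 2 (fun _ => rfl) c104

/-- word 105 -/
def W105 (s : ℕ) : ℕ := step tab1 (step tab5 (step tab1 (step tab5 (step tab0 (step tab4 (step tab2 (step tab6 (step tab5 (step tab2 (step tab5 (step tab2 (step tab0 (step tab0 (step tab2 (step tab5 (step tab7 (s)))))))))))))))))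

set_option maxRecDepth 1000000 in
theorem c105 : chkF W105 1 0 22275 = true := by decide +kernel

theorem ok105 : Ok 22275 [tab7, tab5, tab2, tab0, tab0, tab2, tab5, tab2, tab5, tab6, tab2, tab4, tab0, tab5, tab1, tab5, tab1] 1 := ok_of_chk 22275 W105 _ 1 (fun _ => rfl) c105

/-- the words of this file -/
def L14 : List (List ℕ × ℕ) := [([7, 3, 4, 1, 1, 5, 1, 4, 4, 6, 1, 4, 1, 2, 1, 2, 0], 0), ([7, 4, 0, 0, 0, 4, 0, 0, 5, 6, 5, 2, 5, 5, 3, 4, 4], 2), ([7, 4, 0, 0, 3, 5, 1, 4, 1, 6, 2, 4, 3, 0, 5, 2, 2], 1), ([7, 4, 0, 3, 3, 5, 2, 1, 3, 6, 2, 1, 3, 1, 1, 2], 2), ([7, 4, 3, 4, 3, 1, 1, 3, 4, 6, 0, 4, 0, 4, 1, 5, 3], 2), ([7, 5, 2, 0, 0, 2, 5, 2, 5, 6, 2, 4, 0, 5, 1, 5, 1], 1)]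

theorem okL14 : OkL L14 :=
  okL_cons (p := ([7, 3, 4, 1, 1, 5, 1, 4, 4, 6, 1, 4, 1, 2, 1, 2, 0], 0)) ok100 (okL_cons (p := ([7, 4, 0, 0, 0, 4, 0, 0, 5, 6, 5, 2, 5, 5, 3, 4, 4], 2)) ok101 (okL_cons (p := ([7, 4, 0, 0, 3, 5, 1, 4, 1, 6, 2, 4, 3, 0, 5, 2, 2], 1)) ok102 (okL_cons (p := ([7, 4, 0, 3, 3, 5, 2, 1, 3, 6, 2, 1, 3, 1, 1, 2], 2)) ok103 (okL_cons (p := ([7, 4, 3, 4, 3, 1, 1, 3, 4, 6, 0, 4, 0, 4, 1, 5, 3], 2)) ok104 (okL_cons (p := ([7, 5, 2, 0, 0, 2, 5, 2, 5, 6, 2, 4, 0, 5, 1, 5, 1], 1)) ok105 (okL_nil))))))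

end Cfsg.Agent.Lib.H1.McLM
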