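import Cfsg.Agent.Lib.H1.FpfNilpotent
import Cfsg.Agent.Lib.H1.CoprimeSylow

/-!
# Thompson: a finite group with a nilpotent maximal subgroup of odd order is solvable (helper1)
-/

set_option autoImplicit false

namespace Cfsg.Agent.Lib.H1

open Cfsg Cfsg.Agent.Lib.L0 Cfsg.Agent.Lib.H26
open scoped commutatorElement

universe u

section General

variable {G : Type*} [Group G]

/-- `G/N` is solvable, phrased without quotients -/
def SolvMod (N : Subgroup G) : Prop := ∃ n : ℕ, derivedSeries G n ≤ N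

theorem solvMod_top : SolvMod (⊤ : Subgroup G) := ⟨0, le_top⟩

theorem SolvMod.inf {A B : Subgroup G} (hA : SolvMod A) (hB : SolvMod B) : SolvMod (A ⊓ B) := by
  obtain ⟨n, hn⟩ := hA
  obtain ⟨m, hm⟩ := hB
  refine ⟨max n m, le_inf ?_ ?_⟩
  · exact (derivedSeries_antitone G (le_max_left n m)).trans hn
  · exact (derivedSeries_antitone G (le_max_right n m)).trans hm

theorem solvMod_of_isSolvable_quotient (N : Subgroup G) [N.Normal] [h : Group.IsSolvable (G ⧸ N)] :
    SolvMod N := by
  obtain ⟨n, hn⟩ := h.solvable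
  refine ⟨n, ?_⟩
  have h1 := map_derivedSeries_le_derivedSeries (QuotientGroup.mk' N) n
  rw [hn, le_bot_iff, Subgroup.map_eq_bot_iff, QuotientGroup.ker_mk'] at h1
  exact h1

theorem derivedSeries_add_le {K : Subgroup G} {n : ℕ} (hn : derivedSeries G n ≤ K) (m : ℕ) :
    derivedSeries G (n + m) ≤ (derivedSeries K m).map K.subtype := by
  induction m with
  | zero =>
    rw [add_zero, derivedSeries_zero, ← MonoidHom.range_eq_map, Subgroup.range_subtype]
    exact hn
  | succ m ih =>
    rw [← add_assoc, derivedSeries_succ, derivedSeries_succ, Subgroup.map_commutator]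
    exact Subgroup.commutator_mono ih ih

theorem isSolvable_of_solvMod {K : Subgroup G} (hK : SolvMod K) [hs : Group.IsSolvable K] :
    Group.IsSolvable G := by
  obtain ⟨n, hn⟩ := hK
  obtain ⟨m, hm⟩ := hs.solvable
  refine ⟨⟨n + m, ?_⟩⟩
  have := derivedSeries_add_le hn m
  rw [hm, Subgroup.map_bot, le_bot_iff] at this
  exact this

theorem solvMod_iInf {ι : Type*} [Finite ι] (f : ι → Subgroup G) (h : ∀ i, SolvMod (f i)) :
    SolvMod (⨅ i, f i) := by
  classical
  let _ := Fintype.ofFinite ι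
  choose n hn using h
  refine ⟨Finset.univ.sup n, le_iInf fun i => ?_⟩
  exact (derivedSeries_antitone G (Finset.le_sup (Finset.mem_univ i))).trans (hn i)

/-- normalizers grow in `p`-groups (second copy, for finite `P`) -/
theorem exists_mem_normalizer_not_mem' {p : ℕ} [Fact p.Prime] {P T : Subgroup G} [Finite P]
    (hP : IsPGroup p P) (hTP : T < P) :
    ∃ u ∈ P, u ∈ Subgroup.normalizer (T : Set G) ∧ u ∉ T := by
  haveI : Group.IsNilpotent P := hP.isNilpotent
  have hlt : T.subgroupOf P < ⊤ := by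
    rw [lt_top_iff_ne_top, Ne, Subgroup.subgroupOf_eq_top]
    exact not_le_of_gt hTP
  have h2 := Group.normalizerCondition_of_isNilpotent (G := P) (T.subgroupOf P) hlt
  obtain ⟨u, hu1, hu2⟩ := SetLike.exists_of_lt h2
  refine ⟨u, u.2, ?_, fun h => hu2 (Subgroup.mem_subgroupOf.mpr h)⟩
  rw [Subgroup.mem_normalizer_iff] at hu1 ⊢
  intro x
  constructor
  · intro hx
    have := (hu1 ⟨x, hTP.le hx⟩).mp (Subgroup.mem_subgroupOf.mpr hx)
    exact Subgroup.mem_subgroupOf.mp this
  · intro hx
    have hxP : x ∈ P := by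
      have h3 : x = (u : G)⁻¹ * ((u : G) * x * (u : G)⁻¹) * (u : G) := by group
      rw [h3]
      exact P.mul_mem (P.mul_mem (P.inv_mem u.2) (hTP.le hx)) u.2
    have := (hu1 ⟨x, hxP⟩).mpr (Subgroup.mem_subgroupOf.mpr hx)
    exact Subgroup.mem_subgroupOf.mp this

end General

section Main

variable {G : Type u} [Group G] [Finite G]

/-- in the core-free case, nontrivial subgroups of `M` normalized by `M` have normalizer `M` -/
theorem normalizer_eq_of_coatom {M : Subgroup G} (hmax : IsCoatom M) (hcore : M.normalCore = ⊥)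
    {C : Subgroup G} (hC : C ≠ ⊥) (hCM : C ≤ M) (hMC : M ≤ Subgroup.normalizer (C : Set G)) :
    Subgroup.normalizer (C : Set G) = M := by
  rcases hmax.le_iff.mp hMC with h | h
  · exfalso
    haveI : C.Normal := Subgroup.normalizer_eq_top_iff.mp h
    have := Subgroup.normal_le_normalCore.mpr hCM
    rw [hcore, le_bot_iff] at this
    exact hC this
  · exact h

/-- Step A: for each prime divisor `p` of `|M|` the group has a normal `p`-complement -/
theorem exists_normal_complement_of_nilpotent_coatom {M : Subgroup G} (hmax : IsCoatom M)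
    (hnil : Group.IsNilpotent M) (hodd : Odd (Nat.card M)) (hcore : M.normalCore = ⊥)
    {p : ℕ} (hp : p.Prime) (hpM : p ∣ Nat.card M) :
    ∃ Kp : Subgroup G, Kp.Normal ∧ ¬ p ∣ Nat.card Kp ∧ ∃ k, Kp.index = p ^ k := by
  haveI : Fact p.Prime := ⟨hp⟩
  have hp2 : p ≠ 2 := by
    rintro rfl
    exact (Nat.not_even_iff_odd.mpr hodd) (even_iff_two_dvd.mpr hpM)
  obtain ⟨P₀⟩ : Nonempty (Sylow p M) := inferInstance
  haveI hP₀n : (P₀ : Subgroup M).Normal := inferInstance
  obtain ⟨P, hP⟩ : ∃ P : Subgroup G, P = (P₀ : Subgroup M).map M.subtype := ⟨_, rfl⟩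
  have hPM : P ≤ M := hP ▸ Subgroup.map_subtype_le _
  have hPp : IsPGroup p P := hP ▸ P₀.2.map _
  have hPne : P ≠ ⊥ := by
    intro h
    have h1 := P₀.card_eq_multiplicity
    have h2 : Nat.card P = Nat.card (P₀ : Subgroup M) := by
      rw [hP]; exact Subgroup.card_map_of_injective M.subtype_injective
    rw [← h2, h, Subgroup.card_bot] at h1
    have h3 : 0 < (Nat.card M).factorization p :=
      hp.factorization_pos_of_dvd Nat.card_pos.ne' hpM
    have : 1 < p ^ (Nat.card M).factorization p := Nat.one_lt_pow h3.ne' hp.one_lt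
    omega
  have hMP : M ≤ Subgroup.normalizer (P : Set G) := by
    apply le_normalizer_of_conj_mem
    intro m hm x hx
    rw [hP] at hx ⊢
    obtain ⟨y, hy, rfl⟩ := hx
    exact ⟨⟨m, hm⟩ * y * ⟨m, hm⟩⁻¹, hP₀n.conj_mem y hy ⟨m, hm⟩, rfl⟩
  have hNP : Subgroup.normalizer (P : Set G) = M :=
    normalizer_eq_of_coatom hmax hcore hPne hPM hMP
  -- `P` is a Sylow subgroup of `G`
  obtain ⟨Ps, hPs⟩ := hPp.exists_le_sylow
  have hPsM : (Ps : Subgroup G) ⊓ M ≤ P := by
    have h1 : IsPGroup p (((Ps : Subgroup G) ⊓ M).subgroupOf M) :=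
      (Ps.2.to_le inf_le_left).comap_subtype
    have h2 : (P₀ : Subgroup M) ≤ ((Ps : Subgroup G) ⊓ M).subgroupOf M := by
      intro x hx
      rw [Subgroup.mem_subgroupOf]
      refine ⟨hPs ?_, x.2⟩
      rw [hP]; exact ⟨x, hx, rfl⟩
    have h3 := P₀.is_maximal' h1 h2
    intro x hx
    rw [hP]
    have hxM : x ∈ M := (Subgroup.mem_inf.mp hx).2
    have hmem : (⟨x, hxM⟩ : M) ∈ ((Ps : Subgroup G) ⊓ M).subgroupOf M :=
      Subgroup.mem_subgroupOf.mpr hx
    rw [h3] at hmem
    exact ⟨⟨x, hxM⟩, hmem, rfl⟩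
  have hPeq : (Ps : Subgroup G) = P := by
    by_contra hne
    have hlt : P < (Ps : Subgroup G) := lt_of_le_of_ne hPs (Ne.symm hne)
    obtain ⟨u, hu1, hu2, hu3⟩ := exists_mem_normalizer_not_mem' Ps.2 hlt
    rw [hNP] at hu2
    exact hu3 (hPsM (Subgroup.mem_inf.mpr ⟨hu1, hu2⟩))
  -- the two local subgroups
  have hJ : Subgroup.normalizer (JJ p (Ps : Subgroup G) : Set G) = M := by
    rw [hPeq]
    apply normalizer_eq_of_coatom hmax hcore (JJ_ne_bot hPp hPne) ((JJ_le p P).trans hPM)
    exact hMP.trans (normalizer_le_normalizer_JJ p P)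
  have hZ : Subgroup.normalizer (((Ps : Subgroup G) ⊓
      Subgroup.centralizer ((Ps : Subgroup G) : Set G) : Subgroup G) : Set G) = M := by
    rw [hPeq]
    apply normalizer_eq_of_coatom hmax hcore (ZZ_ne_bot hPp hPne) (inf_le_left.trans hPM)
    exact hMP.trans (normalizer_le_normalizer_ZZ P)
  haveI := hnil
  have hMnpc : HasNormalPComplement p M := hnpc_of_isNilpotent p
  have hT : ThHyp p G Ps := by
    rw [thHyp_iff]
    refine ⟨hJ ▸ hMnpc, ?_⟩
    exact hnpc_of_le ((Subgroup.centralizer_le_normalizer _).trans hZ.le) hMnpc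
  have hG : HasNormalPComplement p G := (Cfsg.Agent.S0108.result hp2 Ps).mpr hT
  exact HasNormalPComplement.exists_normal hG

/-- the core-free case -/
theorem isSolvable_of_nilpotent_coatom_corefree {M : Subgroup G} (hmax : IsCoatom M)
    (hnil : Group.IsNilpotent M) (hodd : Odd (Nat.card M)) (hcore : M.normalCore = ⊥) :
    Group.IsSolvable G := by
  classical
  have hA : ∀ p : ℕ, p.Prime → p ∣ Nat.card M →
      ∃ Kp : Subgroup G, Kp.Normal ∧ ¬ p ∣ Nat.card Kp ∧ ∃ k, Kp.index = p ^ k :=
    fun p hp hpM => exists_normal_complement_of_nilpotent_coatom hmax hnil hodd hcore hp hpM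
  choose! Kf hKf using hA
  obtain ⟨K, hK⟩ : ∃ K : Subgroup G,
      K = ⨅ i : {p : ℕ // p ∈ (Nat.card M).primeFactors}, Kf i := ⟨_, rfl⟩
  have hmem : ∀ i : {p : ℕ // p ∈ (Nat.card M).primeFactors},
      (i : ℕ).Prime ∧ (i : ℕ) ∣ Nat.card M := fun i =>
    ⟨Nat.prime_of_mem_primeFactors i.2, Nat.dvd_of_mem_primeFactors i.2⟩
  have hKle : ∀ p : ℕ, p.Prime → p ∣ Nat.card M → K ≤ Kf p := by
    intro p hp hpM
    rw [hK]
    exact iInf_le (fun i : {p : ℕ // p ∈ (Nat.card M).primeFactors} => Kf i)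
      ⟨p, Nat.mem_primeFactors.mpr ⟨hp, hpM, Nat.card_pos.ne'⟩⟩
  haveI hKn : K.Normal := by
    rw [hK]
    exact Subgroup.normal_iInf_normal fun i => (hKf i (hmem i).1 (hmem i).2).1
  -- `G/K` is solvable
  have hKsm : SolvMod K := by
    rw [hK]
    apply solvMod_iInf
    intro i
    obtain ⟨hn, _, k, hk⟩ := hKf i (hmem i).1 (hmem i).2
    haveI := hn
    haveI : Fact (i : ℕ).Prime := ⟨(hmem i).1⟩
    have hq : IsPGroup (i : ℕ) (G ⧸ Kf i) := by
      apply IsPGroup.of_card (n := k)
      rw [← Subgroup.index_eq_card, hk]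
    haveI : Group.IsNilpotent (G ⧸ Kf i) := hq.isNilpotent
    exact solvMod_of_isSolvable_quotient (Kf i)
  -- `K ∩ M = 1`
  have hKM : K ⊓ M = ⊥ := by
    rw [eq_bot_iff]
    intro x hx
    rw [Subgroup.mem_bot]
    by_contra hx1
    have ho : orderOf x ≠ 1 := fun h => hx1 (orderOf_eq_one_iff.mp h)
    obtain ⟨p, hp, hpo⟩ := Nat.exists_prime_and_dvd ho
    have hoM : orderOf x ∣ Nat.card M := by
      have := orderOf_dvd_natCard (⟨x, hx.2⟩ : M)
      rwa [Subgroup.orderOf_mk] at this
    have hpM : p ∣ Nat.card M := hpo.trans hoM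
    have hxK : x ∈ Kf p := hKle p hp hpM hx.1
    have hoK : orderOf x ∣ Nat.card (Kf p) := by
      have := orderOf_dvd_natCard (⟨x, hxK⟩ : Kf p)
      rwa [Subgroup.orderOf_mk] at this
    exact (hKf p hp hpM).2.1 (hpo.trans hoK)
  have hcop : (Nat.card M).Coprime (Nat.card K) := by
    apply Nat.coprime_of_dvd
    intro p hp hpM hpK
    exact (hKf p hp hpM).2.1 (hpK.trans (Subgroup.card_dvd_of_le (hKle p hp hpM)))
  haveI := hnil
  have hact : CoprimeAction M K := by
    refine ⟨?_, hcop, Or.inl inferInstance⟩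
    rw [Subgroup.normalizer_eq_top_iff.mpr hKn]; exact le_top
  -- `K` is solvable
  haveI hKs : Group.IsSolvable K := by
    by_cases hKb : K = ⊥
    · haveI : Subsingleton K := by rw [hKb]; infer_instance
      infer_instance
    have hcard1 : Nat.card K ≠ 1 := fun h => hKb (Subgroup.card_eq_one.mp h)
    obtain ⟨q, hq, hqdvd⟩ := Nat.exists_prime_and_dvd hcard1
    haveI : Fact q.Prime := ⟨hq⟩
    obtain ⟨Q, hQ, hMQ⟩ := coprime_exists_invariant_sylow hact q
    have hQne : Q ≠ ⊥ := by
      intro h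
      have h1 := hQ.card_eq
      rw [h, Subgroup.card_bot] at h1
      have h3 : 0 < (Nat.card K).factorization q :=
        hq.factorization_pos_of_dvd Nat.card_pos.ne' hqdvd
      have : 1 < q ^ (Nat.card K).factorization q := Nat.one_lt_pow h3.ne' hq.one_lt
      omega
    have hlt : M < Q ⊔ M := by
      refine lt_of_le_of_ne le_sup_right ?_
      intro h
      apply hQne
      rw [eq_bot_iff, ← hKM]
      exact le_inf hQ.le (h ▸ le_sup_left)
    have htop : Q ⊔ M = ⊤ := hmax.lt_iff.mp hlt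
    have hKQ : K ≤ Q := by
      intro k hk
      obtain ⟨x, hx, m, hm, hkm⟩ := mem_sup_of_le_normalizer hMQ
        (htop ▸ Subgroup.mem_top k : k ∈ Q ⊔ M)
      have hmK : m ∈ K := by
        have : m = x⁻¹ * k := by rw [hkm]; group
        rw [this]
        exact K.mul_mem (K.inv_mem (hQ.le hx)) hk
      have hm1 : m = 1 := by
        have : m ∈ K ⊓ M := ⟨hmK, hm⟩
        rwa [hKM, Subgroup.mem_bot] at this
      rw [hkm, hm1, mul_one]
      exact hx
    have hKeq : K = Q := le_antisymm hKQ hQ.le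
    have hKq : IsPGroup q K := hKeq ▸ hQ.isPGroup
    haveI : Group.IsNilpotent K := hKq.isNilpotent
    infer_instance
  exact isSolvable_of_solvMod hKsm

/-- **Thompson**: a finite group with a nilpotent maximal subgroup of odd order is solvable. -/
theorem isSolvable_of_nilpotent_coatom :
    ∀ (n : ℕ) (G : Type u) [Group G] [Finite G], Nat.card G = n → ∀ M : Subgroup G, IsCoatom M →
      Group.IsNilpotent M → Odd (Nat.card M) → Group.IsSolvable G := by
  intro n
  induction n using Nat.strong_induction_on with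
  | _ n ih =>
    intro G _ _ hn M hmax hnil hodd
    by_cases hcore : M.normalCore = ⊥
    · exact isSolvable_of_nilpotent_coatom_corefree hmax hnil hodd hcore
    obtain ⟨C, hC⟩ : ∃ C : Subgroup G, C = M.normalCore := ⟨_, rfl⟩
    haveI hCn : C.Normal := hC ▸ Subgroup.normalCore_normal M
    have hCM : C ≤ M := hC ▸ Subgroup.normalCore_le M
    have hCne : C ≠ ⊥ := hC ▸ hcore
    have hπ : Function.Surjective (QuotientGroup.mk' C) := QuotientGroup.mk'_surjective C
    have hcomap : (M.map (QuotientGroup.mk' C)).comap (QuotientGroup.mk' C) = M := by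
      rw [Subgroup.comap_map_eq, QuotientGroup.ker_mk', sup_eq_left.mpr hCM]
    have hMb : IsCoatom (M.map (QuotientGroup.mk' C)) := by
      constructor
      · intro h
        apply hmax.1
        rw [← hcomap, h, Subgroup.comap_top]
      · intro L hL
        have h1 : M ≤ L.comap (QuotientGroup.mk' C) := by
          rw [← hcomap]; exact Subgroup.comap_mono hL.le
        have h2 : M ≠ L.comap (QuotientGroup.mk' C) := by
          intro h
          apply hL.ne
          rw [h, Subgroup.map_comap_eq_self_of_surjective hπ]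
        have h3 := hmax.lt_iff.mp (lt_of_le_of_ne h1 h2)
        rw [← Subgroup.map_comap_eq_self_of_surjective hπ L, h3, ← MonoidHom.range_eq_map,
          MonoidHom.range_eq_top]
        exact hπ
    haveI := hnil
    have hMbnil : Group.IsNilpotent (M.map (QuotientGroup.mk' C)) :=
      nilpotent_of_surjective ((QuotientGroup.mk' C).subgroupMap M)
        ((QuotientGroup.mk' C).subgroupMap_surjective M)
    have hMbodd : Odd (Nat.card (M.map (QuotientGroup.mk' C))) :=
      Odd.of_dvd_nat hodd (Subgroup.card_map_dvd M _)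
    have hcardlt : Nat.card (G ⧸ C) < Nat.card G := by
      have h1 : Nat.card G = Nat.card (G ⧸ C) * Nat.card C := by
        rw [← Subgroup.index_eq_card, Subgroup.index_mul_card]
      have h2 : 1 < Nat.card C := (Subgroup.one_lt_card_iff_ne_bot (H := C)).mpr hCne
      have h3 : 0 < Nat.card (G ⧸ C) := Nat.card_pos
      rw [h1]
      nlinarith
    haveI hQ : Group.IsSolvable (G ⧸ C) :=
      ih (Nat.card (G ⧸ C)) (hn ▸ hcardlt) (G ⧸ C) rfl _ hMb hMbnil hMbodd
    haveI hCs : Group.IsSolvable C := by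
      haveI : Group.IsNilpotent C :=
        (Group.isNilpotent_congr (Subgroup.subgroupOfEquivOfLe hCM)).mp inferInstance
      infer_instance
    apply Group.isSolvable_of_ker_le_range C.subtype (QuotientGroup.mk' C)
    rw [QuotientGroup.ker_mk', Subgroup.range_subtype]

end Main

end Cfsg.Agent.Lib.H1
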