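import Mathlib
import Cfsg.Agent.Lib.H5.Ord.InvCount
import Cfsg.Agent.Lib.H5.Ord.Ord1440a

set_option autoImplicit false

/-! # Simple groups of order 5040: the number of Sylow 7-subgroups is not 36 -/

namespace Cfsg.Agent.Lib.H1.O5040

open Subgroup MulAction Cfsg.Agent.Lib.H5 Cfsg.Agent.Lib.H5.SylPrime

variable {G : Type*} [Group G] [Finite G]

set_option linter.unusedSectionVars false

/-- An element of `p`-power order normalizing a Sylow `p`-subgroup lies in it. -/
theorem mem_sylow_of_mem_normalizer {p : ℕ} [Fact p.Prime] (Q : Sylow p G) {x : G}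
    (hx : x ∈ normalizer ((Q : Subgroup G) : Set G)) {k : ℕ} (hk : x ^ p ^ k = 1) :
    x ∈ (Q : Subgroup G) := by
  have hpg : IsPGroup p (zpowers x) := by
    intro y
    obtain ⟨j, hj⟩ := mem_zpowers_iff.mp y.2
    refine ⟨k, ?_⟩
    apply Subtype.ext
    rw [SubgroupClass.coe_pow, Subgroup.coe_one, ← hj, ← zpow_natCast, ← zpow_mul, mul_comm,
      zpow_mul, zpow_natCast, hk, one_zpow]
  have h := hpg.inf_normalizer_sylow Q
  have hx' : x ∈ zpowers x ⊓ normalizer (Q : Set G) := ⟨mem_zpowers x, hx⟩
  rw [h] at hx'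
  exact hx'.2

/-- A subgroup `B` of prime order `p` of `H`, `|H| = p m`, `p ∤ m`, is normal in `H` as soon as
`1` is the only divisor of `m` congruent to `1` modulo `p`. -/
theorem le_normalizer_of_sylow_count {p m : ℕ} [Fact p.Prime] {H B : Subgroup G} (hBH : B ≤ H)
    (hB : Nat.card B = p) (hH : Nat.card H = p * m) (hpm : ¬ p ∣ m)
    (hm : ∀ d, d ∣ m → d % p = 1 → d = 1) : H ≤ normalizer (B : Set G) := by
  have hp : p.Prime := Fact.out
  have hBp : IsPGroup p (B.subgroupOf H) := by
    apply IsPGroup.of_card (n := 1)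
    rw [pow_one, Nat.card_congr (Subgroup.subgroupOfEquivOfLe hBH).toEquiv, hB]
  obtain ⟨R, hR⟩ := hBp.exists_le_sylow
  obtain ⟨hRcard, hRidx⟩ := sylow_card_and_index R (k := 1) (m := m) (by rw [hH, pow_one]) hpm
  rw [pow_one] at hRcard
  have h1 : Nat.card (Sylow p H) = 1 := by
    apply hm
    · rw [← hRidx]; exact Sylow.card_dvd_index R
    · have := card_sylow_modEq_one p H
      rw [Nat.ModEq, Nat.mod_eq_of_lt hp.one_lt] at this
      exact this
  have hsub : Subsingleton (Sylow p H) := (Nat.card_eq_one_iff_unique.mp h1).1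
  have hnR : (R : Subgroup H).Normal := Sylow.normal_of_subsingleton R
  have heq : B.subgroupOf H = (R : Subgroup H) :=
    Subgroup.eq_of_le_of_card_ge hR (by
      rw [hRcard, Nat.card_congr (Subgroup.subgroupOfEquivOfLe hBH).toEquiv, hB])
  rw [← heq] at hnR
  exact (Subgroup.normal_subgroupOf_iff_le_normalizer hBH).mp hnR


theorem card_sylow_seven_ne_36_aux [IsSimpleGroup G] (hG : Nat.card G = 5040)
    [Fact (Nat.Prime 7)] (P : Sylow 7 G) (hPcard : Nat.card (P : Subgroup G) = 7)
    (hNcard : Nat.card (normalizer ((P : Subgroup G) : Set G)) = 140)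
    (hNidx : (normalizer ((P : Subgroup G) : Set G)).index = 36)
    (hCcard : Nat.card (centralizer ((P : Subgroup G) : Set G)) = 70) : False := by
  have : Fact (Nat.Prime 5) := ⟨by norm_num⟩
  have : Fact (Nat.Prime 2) := ⟨Nat.prime_two⟩
  set N := normalizer ((P : Subgroup G) : Set G) with hN
  set C := centralizer ((P : Subgroup G) : Set G) with hC
  have hCN : C ≤ N := centralizer_le_normalizer _
  have hG2 : 2 < Nat.card G := by rw [hG]; norm_num
  have hNtop : N ≠ ⊤ := by
    intro h
    rw [h, Subgroup.index_top] at hNidx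
    omega
  -- an element `b` of order 5 and an involution `t` in `C`
  obtain ⟨b0, hb0⟩ := exists_prime_orderOf_dvd_card' (G := C) 5 (by rw [hCcard]; norm_num)
  have hbC : (b0 : G) ∈ C := b0.2
  have hb : orderOf (b0 : G) = 5 := by rw [Subgroup.orderOf_coe]; exact hb0
  generalize (b0 : G) = b at hbC hb
  obtain ⟨t0, ht0⟩ := exists_prime_orderOf_dvd_card' (G := C) 2 (by rw [hCcard]; norm_num)
  have htC : (t0 : G) ∈ C := t0.2
  have ht : orderOf (t0 : G) = 2 := by rw [Subgroup.orderOf_coe]; exact ht0
  generalize (t0 : G) = t at htC ht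
  have hbN : b ∈ N := hCN hbC
  have htN : t ∈ N := hCN htC
  have htt : t * t = 1 := by rw [← pow_two, ← ht, pow_orderOf_eq_one]
  have hfne : ∀ s : G, orderOf s ≠ 1 → Nat.card (fixedBy (G ⧸ N) s) ≠ 36 := by
    intro s hs h
    apply hs
    rw [eq_one_of_card_fixedBy_eq N hNtop (h.trans hNidx.symm), orderOf_one]
  -- `b` fixes exactly one point
  have hfb : Nat.card (fixedBy (G ⧸ N) b) = 1 := by
    have h7 := card_fixedBy_modEq_one 7 P hPcard hbC
    have h5 := card_modEq_card_fixedBy (Ω := G ⧸ N) (r := 5) (k := 1) (y := b)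
      (by rw [pow_one]; exact hb)
    have hle := card_fixedBy_le_index N b
    have hne := hfne b (by rw [hb]; norm_num)
    rw [← Subgroup.index_eq_card, hNidx] at h5
    rw [hNidx] at hle
    rw [← hN] at h7
    unfold Nat.ModEq at h5 h7
    omega
  obtain ⟨ω₀, hω₀⟩ : ∃ ω₀, fixedBy (G ⧸ N) b = {ω₀} := by
    rw [Nat.card_coe_set_eq] at hfb
    exact Set.ncard_eq_one.mp hfb
  -- no involution of `N` commutes with `b`
  have F2 : ∀ s ∈ N, orderOf s = 2 → ¬ Commute b s := by
    intro s hsN hs hcomm
    have hss : s * s = 1 := by rw [← pow_two, ← hs, pow_orderOf_eq_one]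
    have h5 := card_fixedBy_modEq_one_of_commute (Ω := G ⧸ N) hb hcomm hω₀
    have h4 := four_dvd_index_sub_card_fixedBy hG2 N hs
    have hle := card_fixedBy_le_index N s
    have hne := hfne s (by rw [hs]; norm_num)
    rw [hNidx] at h4 hle
    unfold Nat.ModEq at h5
    by_cases hsC : s ∈ C
    · have h7 := card_fixedBy_modEq_one 7 P hPcard hsC
      rw [← hN] at h7
      unfold Nat.ModEq at h7
      omega
    · have hdc := double_count_of_not_mem_centralizer 7 (by norm_num) P hPcard hsN hss hsC
      rw [← hN, hNidx] at hdc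
      omega
  -- `t` fixes 8 points
  have hft : Nat.card (fixedBy (G ⧸ N) t) = 8 := by
    have h7 := card_fixedBy_modEq_one 7 P hPcard htC
    have h4 := four_dvd_index_sub_card_fixedBy hG2 N ht
    have hle := card_fixedBy_le_index N t
    have hne := hfne t (by rw [ht]; norm_num)
    rw [hNidx] at h4 hle
    rw [← hN] at h7
    unfold Nat.ModEq at h7
    omega
  -- the subgroup `B` generated by `b` is a Sylow 5-subgroup, normal in `N`
  have hBcard : Nat.card (zpowers b) = 5 := by rw [Nat.card_zpowers, hb]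
  have hBN : zpowers b ≤ N := by rw [zpowers_le]; exact hbN
  have hNB : N ≤ normalizer ((zpowers b : Subgroup G) : Set G) := by
    apply le_normalizer_of_sylow_count (p := 5) (m := 28) hBN hBcard (by rw [hNcard])
      (by norm_num)
    intro d hd h1
    have hle : d ≤ 28 := Nat.le_of_dvd (by norm_num) hd
    have h28 : 28 % d = 0 := Nat.mod_eq_zero_of_dvd hd
    interval_cases d <;> omega
  obtain ⟨Q, hQ⟩ : ∃ Q : Sylow 5 G, (Q : Subgroup G) = zpowers b := by
    have hBp : IsPGroup 5 (zpowers b) := by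
      apply IsPGroup.of_card (n := 1)
      rw [pow_one, hBcard]
    obtain ⟨Q, hQ⟩ := hBp.exists_le_sylow
    refine ⟨Q, ?_⟩
    obtain ⟨hQcard, -⟩ := sylow_card_and_index Q (k := 1) (m := 1008) (by rw [hG]; norm_num)
      (by norm_num)
    exact (Subgroup.eq_of_le_of_card_ge hQ (by rw [hQcard, hBcard, pow_one])).symm
  -- involutions of `N` invert `B`
  have hinv : ∀ s ∈ N, orderOf s = 2 → ∀ y ∈ zpowers b, s * y * s⁻¹ = y⁻¹ := by
    intro s hsN hs
    have hss : s * s = 1 := by rw [← pow_two, ← hs, pow_orderOf_eq_one]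
    apply conj_eq_inv_of_not_mem_centralizer (zpowers b) hBcard (hNB hsN)
      (by rw [hss]; exact one_mem _)
    intro hsC
    apply F2 s hsN hs
    exact (mem_centralizer_iff.mp hsC) b (mem_zpowers b)
  -- elements of `N` commuting with `b` have order dividing 35
  have hodd : ∀ u ∈ N, Commute b u → u ^ 35 = 1 := by
    intro u huN hbu
    have hd : orderOf u ∣ 140 := by
      have := orderOf_dvd_natCard (⟨u, huN⟩ : N)
      rwa [Subgroup.orderOf_mk, hNcard] at this
    have h2 : ¬ 2 ∣ orderOf u := by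
      intro h2
      have hpos : 0 < orderOf u := Nat.pos_of_ne_zero (fun h => by rw [h] at hd; omega)
      have hne : orderOf u / 2 ≠ 0 := by
        obtain ⟨k, hk⟩ := h2
        omega
      have hdv : orderOf u / 2 ∣ orderOf u := Nat.div_dvd_of_dvd h2
      have hs : orderOf (u ^ (orderOf u / 2)) = 2 := by
        rw [orderOf_pow_of_dvd hne hdv]
        obtain ⟨k, hk⟩ := h2
        rw [hk, Nat.mul_div_cancel_left k (by norm_num)]
        have : 0 < k := by omega
        exact Nat.div_eq_of_eq_mul_left this rfl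
      exact F2 _ (N.pow_mem huN _) hs (hbu.pow_right _)
    have h35 : orderOf u ∣ 35 := by
      have key : ∀ d ∈ Nat.divisors 140, ¬ 2 ∣ d → d ∣ 35 := by decide
      exact key _ (Nat.mem_divisors.mpr ⟨hd, by norm_num⟩) h2
    exact orderOf_dvd_iff_pow_eq_one.mp h35
  have htinv : t⁻¹ = t := inv_eq_of_mul_eq_one_left htt
  have hcenP : ∀ x ∈ (P : Subgroup G), x * t = t * x := fun x hx =>
    (mem_centralizer_iff.mp htC) x hx
  -- the conjugates of `t` in `N` are the elements `t * y`, `y ∈ B`
  have hset : {g : G | IsConj t g ∧ g ∈ N} = (fun y => t * y) '' (zpowers b : Set G) := by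
    ext g
    constructor
    · rintro ⟨hconj, hgN⟩
      obtain ⟨c, hc⟩ := isConj_iff.mp hconj
      have hg : orderOf g = 2 := by
        rw [← hc, ← ht]
        have := (MulAut.conj c).orderOf_eq t
        rwa [MulAut.conj_apply] at this
      have hgg : g * g = 1 := by rw [← pow_two, ← hg, pow_orderOf_eq_one]
      have hginv : g⁻¹ = g := inv_eq_of_mul_eq_one_left hgg
      have huN : t * g ∈ N := N.mul_mem htN hgN
      -- `u = t * g` commutes with `b`
      have hbu : Commute b (t * g) := by
        have h1 := hinv g hgN hg b (mem_zpowers b)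
        have h2 := hinv t htN ht b⁻¹ ((zpowers b).inv_mem (mem_zpowers b))
        rw [inv_inv] at h2
        have e1 : g * b = b⁻¹ * g := by
          calc g * b = (g * b * g⁻¹) * g := by group
            _ = b⁻¹ * g := by rw [h1]
        have e2 : t * b⁻¹ = b * t := by
          calc t * b⁻¹ = (t * b⁻¹ * t⁻¹) * t := by group
            _ = b * t := by rw [h2]
        show b * (t * g) = t * g * b
        calc b * (t * g) = (b * t) * g := by group
          _ = (t * b⁻¹) * g := by rw [e2]
          _ = t * (b⁻¹ * g) := by group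
          _ = t * (g * b) := by rw [e1]
          _ = t * g * b := by group
      have hu35 := hodd _ huN hbu
      -- `t` inverts `u`
      have htu : t * (t * g) * t⁻¹ = (t * g)⁻¹ := by
        rw [mul_inv_rev, hginv, ← mul_assoc, htt, one_mul]
      -- `v = u ^ 5` lies in `P`
      have hv7 : ((t * g) ^ 5) ^ 7 ^ 1 = 1 := by rw [← pow_mul]; exact hu35
      have hvP : (t * g) ^ 5 ∈ (P : Subgroup G) :=
        mem_sylow_of_mem_normalizer P (N.pow_mem huN 5) hv7
      have hv1 : t * (t * g) ^ 5 * t⁻¹ = ((t * g) ^ 5)⁻¹ := by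
        rw [← conj_pow, htu, inv_pow]
      have hv2 : t * (t * g) ^ 5 * t⁻¹ = (t * g) ^ 5 := by
        rw [← hcenP _ hvP]; group
      have hvv : (t * g) ^ 5 * (t * g) ^ 5 = 1 := by
        have : ((t * g) ^ 5)⁻¹ = (t * g) ^ 5 := by rw [← hv1, hv2]
        calc (t * g) ^ 5 * (t * g) ^ 5 = ((t * g) ^ 5)⁻¹ * (t * g) ^ 5 := by rw [this]
          _ = 1 := inv_mul_cancel _
      have hu5 : (t * g) ^ 5 ^ 1 = 1 := by
        rw [pow_one]
        have h10 : (t * g) ^ 10 = 1 := by
          rw [← hvv, ← pow_add]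
        calc (t * g) ^ 5 = (t * g) ^ 35 * (((t * g) ^ 10) ^ 3)⁻¹ := by
              rw [← pow_mul, ← zpow_natCast, ← zpow_natCast, ← zpow_natCast, ← zpow_neg,
                ← zpow_add]
              norm_num
          _ = 1 := by rw [hu35, h10]; simp
      have huB : t * g ∈ (Q : Subgroup G) := by
        apply mem_sylow_of_mem_normalizer Q _ hu5
        rw [hQ]
        exact hNB huN
      rw [hQ] at huB
      refine ⟨t * g, huB, ?_⟩
      show t * (t * g) = g
      rw [← mul_assoc, htt, one_mul]
    · rintro ⟨y, hy, rfl⟩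
      have hy' : y ∈ zpowers b := hy
      have hy5 : y ^ 5 = 1 := by
        have := orderOf_dvd_natCard (⟨y, hy'⟩ : zpowers b)
        rw [Subgroup.orderOf_mk, hBcard] at this
        exact orderOf_dvd_iff_pow_eq_one.mp this
      have h1 : y * t = t * y⁻¹ := by
        have := hinv t htN ht y⁻¹ ((zpowers b).inv_mem hy')
        rw [inv_inv] at this
        calc y * t = (t * y⁻¹ * t⁻¹) * t := by rw [this]
          _ = t * y⁻¹ := by group
      refine ⟨?_, N.mul_mem htN (hBN hy')⟩
      rw [isConj_iff]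
      refine ⟨y ^ 2, ?_⟩
      calc y ^ 2 * t * (y ^ 2)⁻¹ = y * (y * t) * (y ^ 2)⁻¹ := by rw [pow_two, mul_assoc y y t]
        _ = y * (t * y⁻¹) * (y ^ 2)⁻¹ := by rw [h1]
        _ = (y * t) * y⁻¹ * (y ^ 2)⁻¹ := by group
        _ = t * y⁻¹ * y⁻¹ * (y ^ 2)⁻¹ := by rw [h1]
        _ = t * (y ^ 5)⁻¹ * y := by group
        _ = t * y := by rw [hy5, inv_one, mul_one]
  have hc5 : Nat.card {g : G // IsConj t g ∧ g ∈ N} = 5 := by
    have h1 : Nat.card {g : G // IsConj t g ∧ g ∈ N} =
        ({g : G | IsConj t g ∧ g ∈ N} : Set G).ncard := Nat.card_coe_set_eq _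
    rw [h1, hset, Set.ncard_image_of_injective _ (mul_right_injective t),
      ← Nat.card_coe_set_eq]
    exact hBcard
  have key := card_fixedBy_mul_card N htN
  rw [hft, hNcard, hc5] at key
  have hdvd : Nat.card (centralizer ({t} : Set G)) ∣ Nat.card G := Subgroup.card_subgroup_dvd_card _
  rw [hG] at hdvd
  obtain ⟨k, hk⟩ := hdvd
  have hX : Nat.card (centralizer ({t} : Set G)) = 224 := by omega
  rw [hX] at hk
  omega

/-- A simple group of order `5040` does not have exactly `36` Sylow `7`-subgroups. -/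
theorem card_sylow_seven_ne_36 [IsSimpleGroup G] (hG : Nat.card G = 5040) [Fact (Nat.Prime 7)] :
    Nat.card (Sylow 7 G) ≠ 36 := by
  intro hn
  let P : Sylow 7 G := default
  obtain ⟨hPcard, hPidx⟩ := sylow_card_and_index P (k := 1) (m := 720) (by rw [hG]; norm_num)
    (by norm_num)
  rw [pow_one] at hPcard
  set N := normalizer ((P : Subgroup G) : Set G) with hN
  set C := centralizer ((P : Subgroup G) : Set G) with hC
  have hNidx : N.index = 36 := by rw [hN, index_normalizer_eq_card_sylow, hn]
  have hNcard : Nat.card N = 140 := by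
    have := card_normalizer_mul_card_sylow P
    rw [hn, hG, ← hN] at this
    omega
  have hCN : C ≤ N := centralizer_le_normalizer _
  have h6 : C.relIndex N ∣ 6 :=
    relIndex_centralizer_normalizer_dvd_of_card_prime (P : Subgroup G) hPcard
  have h140 := card_mul_relIndex_of_le hCN
  rw [hNcard] at h140
  have hne1 : C.relIndex N ≠ 1 := by
    intro h
    have hnp : ¬ IsPGroup 7 G := not_isPGroup_of_prime_dvd (q := 2) Nat.prime_two (by norm_num)
      (by rw [hG]; norm_num)
    exact not_normalizer_le_centralizer_of_simple (by rw [hG]; norm_num) hnp P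
      (relIndex_eq_one.mp h)
  have hle : C.relIndex N ≤ 6 := Nat.le_of_dvd (by norm_num) h6
  have hpos : 0 < C.relIndex N := Nat.pos_of_ne_zero (fun h => by rw [h] at h140; omega)
  have h6' : 6 % C.relIndex N = 0 := Nat.mod_eq_zero_of_dvd h6
  have h70 : Nat.card C = 70 := by
    interval_cases hr : C.relIndex N
    · exact absurd rfl hne1
    · omega
    · omega
    · omega
    · omega
    · omega
  exact card_sylow_seven_ne_36_aux hG P hPcard hNcard hNidx h70

end Cfsg.Agent.Lib.H1.O5040
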