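import Mathlib
import Cfsg.Agent.Lib.H5.Ord.NCInv
import Cfsg.Agent.Lib.H5.Ord.Ord1440a

set_option autoImplicit false

/-! # Simple groups of order 5040: the number of Sylow 5-subgroups is not 56 -/

namespace Cfsg.Agent.Lib.H1.O5040

open Subgroup MulAction Cfsg.Agent.Lib.H5 Cfsg.Agent.Lib.H5.SylPrime

variable {G : Type*} [Group G] [Finite G]

set_option linter.unusedSectionVars false

/-- In a subgroup `C` with commuting elements and order dividing `45`, at most `9` elements
have cube `1`. -/
theorem card_cube_le {C : Subgroup G} (hcomm : ∀ a ∈ C, ∀ b ∈ C, a * b = b * a)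
    (hC : Nat.card C = 45) : ({x : G | x ∈ C ∧ x ^ 3 = 1} : Set G).ncard ≤ 9 := by
  let T : Subgroup G :=
    { carrier := {x : G | x ∈ C ∧ x ^ 3 = 1}
      mul_mem' := by
        rintro a b ⟨ha, ha3⟩ ⟨hb, hb3⟩
        refine ⟨C.mul_mem ha hb, ?_⟩
        have hab : Commute a b := hcomm a ha b hb
        rw [hab.mul_pow, ha3, hb3, one_mul]
      one_mem' := ⟨C.one_mem, one_pow 3⟩
      inv_mem' := by
        rintro a ⟨ha, ha3⟩
        exact ⟨C.inv_mem ha, by rw [inv_pow, ha3, inv_one]⟩ }
  have hTC : T ≤ C := fun x hx => hx.1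
  have hT3 : IsPGroup 3 T := by
    intro x
    refine ⟨1, ?_⟩
    apply Subtype.ext
    rw [pow_one, SubgroupClass.coe_pow, Subgroup.coe_one]
    exact x.2.2
  have : Fact (Nat.Prime 3) := ⟨by norm_num⟩
  obtain ⟨k, hk⟩ := IsPGroup.iff_card.mp hT3
  have hdvd : Nat.card T ∣ 45 := by rw [← hC]; exact Subgroup.card_dvd_of_le hTC
  have hle : Nat.card T ≤ 9 := by
    rw [hk] at hdvd ⊢
    have hk2 : k ≤ 2 := by
      by_contra h
      push Not at h
      have h27 : 3 ^ 3 ∣ 3 ^ k := pow_dvd_pow 3 h
      have := h27.trans hdvd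
      omega
    calc 3 ^ k ≤ 3 ^ 2 := Nat.pow_le_pow_right (by norm_num) hk2
      _ = 9 := by norm_num
  have : ({x : G | x ∈ C ∧ x ^ 3 = 1} : Set G).ncard = Nat.card T := by
    rw [← Nat.card_coe_set_eq]
    rfl
  rw [this]
  exact hle

theorem card_sylow_five_ne_56_aux [IsSimpleGroup G] (hG : Nat.card G = 5040)
    [Fact (Nat.Prime 5)] (P : Sylow 5 G) (hPcard : Nat.card (P : Subgroup G) = 5)
    (hNcard : Nat.card (normalizer ((P : Subgroup G) : Set G)) = 90)
    (hNidx : (normalizer ((P : Subgroup G) : Set G)).index = 56)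
    (hCcard : Nat.card (centralizer ((P : Subgroup G) : Set G)) = 45)
    (hrel : (centralizer ((P : Subgroup G) : Set G)).relIndex
      (normalizer ((P : Subgroup G) : Set G)) = 2) : False := by
  have : Fact (Nat.Prime 3) := ⟨by norm_num⟩
  set N := normalizer ((P : Subgroup G) : Set G) with hN
  set C := centralizer ((P : Subgroup G) : Set G) with hC
  have hCN : C ≤ N := centralizer_le_normalizer _
  have hNtop : N ≠ ⊤ := by
    intro h
    rw [h, Subgroup.index_top] at hNidx
    omega
  have hcomm : ∀ a ∈ C, ∀ b ∈ C, a * b = b * a :=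
    centralizer_comm_of_card (p := 5) (q := 3) (j := 2) (P : Subgroup G) hPcard (by norm_num)
      le_rfl (by rw [hCcard]; norm_num)
  -- an element `y` of order 3 in `C`
  obtain ⟨y0, hy0⟩ := exists_prime_orderOf_dvd_card' (G := C) 3 (by rw [hCcard]; norm_num)
  have hyC : (y0 : G) ∈ C := y0.2
  have hy : orderOf (y0 : G) = 3 := by rw [Subgroup.orderOf_coe]; exact hy0
  generalize (y0 : G) = y at hyC hy
  have hyN : y ∈ N := hCN hyC
  -- fixed points of `y`
  have h5 := card_fixedBy_modEq_one 5 P hPcard hyC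
  have h3 := card_modEq_card_fixedBy (Ω := G ⧸ N) (r := 3) (k := 1) (y := y)
    (by rw [pow_one]; exact hy)
  have hle := card_fixedBy_le_index N y
  have hne : Nat.card (fixedBy (G ⧸ N) y) ≠ 56 := by
    intro h
    have := eq_one_of_card_fixedBy_eq N hNtop (h.trans hNidx.symm)
    rw [this, orderOf_one] at hy
    omega
  rw [← Subgroup.index_eq_card, hNidx] at h3
  rw [hNidx] at hle
  rw [← hN] at h5
  unfold Nat.ModEq at h3 h5
  -- conjugates of `y` in `N`
  have hc9 : Nat.card {g : G // IsConj y g ∧ g ∈ N} ≤ 9 := by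
    have h1 : Nat.card {g : G // IsConj y g ∧ g ∈ N} =
        ({g : G | IsConj y g ∧ g ∈ N} : Set G).ncard := Nat.card_coe_set_eq _
    rw [h1]
    refine le_trans (Set.ncard_le_ncard ?_ (Set.toFinite _)) (card_cube_le hcomm hCcard)
    rintro g ⟨hconj, hgN⟩
    obtain ⟨c, hc⟩ := isConj_iff.mp hconj
    have hg : orderOf g = 3 := by
      rw [← hc, ← hy]
      have := (MulAut.conj c).orderOf_eq y
      rwa [MulAut.conj_apply] at this
    have hg3 : g ^ 3 = 1 := by rw [← hg, pow_orderOf_eq_one]
    refine ⟨?_, hg3⟩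
    have hsq := Subgroup.sq_mem_of_index_two (H := C.subgroupOf N) hrel ⟨g, hgN⟩
    rw [Subgroup.mem_subgroupOf] at hsq
    have hsq' : g ^ 2 ∈ C := hsq
    have : g = (g ^ 2)⁻¹ := by
      rw [eq_inv_iff_mul_eq_one, ← pow_succ', hg3]
    rw [this]
    exact C.inv_mem hsq'
  have key := card_fixedBy_mul_card N hyN
  rw [hNcard] at key
  have hCle : C ≤ centralizer ({y} : Set G) := le_centralizer_singleton_of_comm hcomm hyC
  have h45 : 45 ∣ Nat.card (centralizer ({y} : Set G)) := by
    rw [← hCcard]; exact Subgroup.card_dvd_of_le hCle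
  have hdvd : Nat.card (centralizer ({y} : Set G)) ∣ 5040 := by
    rw [← hG]; exact Subgroup.card_subgroup_dvd_card _
  obtain ⟨k, hk⟩ := h45
  obtain ⟨j, hj⟩ := hdvd
  generalize Nat.card (fixedBy (G ⧸ N) y) = f at *
  generalize Nat.card {g : G // IsConj y g ∧ g ∈ N} = c at *
  have hkj : k * j = 112 := by
    have : 45 * (k * j) = 45 * 112 := by rw [← mul_assoc, ← hk, ← hj]
    exact Nat.eq_of_mul_eq_mul_left (by norm_num) this
  have hfc : 2 * f = k * c := by
    have h1 : f * 90 = 45 * k * c := by rw [← hk]; exact key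
    have : 45 * (2 * f) = 45 * (k * c) := by
      calc 45 * (2 * f) = f * 90 := by ring
        _ = 45 * k * c := h1
        _ = 45 * (k * c) := by ring
    exact Nat.eq_of_mul_eq_mul_left (by norm_num) this
  have hk112 : k ≤ 112 := Nat.le_of_dvd (by norm_num) ⟨j, hkj.symm⟩
  interval_cases k <;> omega

/-- A simple group of order `5040` does not have exactly `56` Sylow `5`-subgroups. -/
theorem card_sylow_five_ne_56 [IsSimpleGroup G] (hG : Nat.card G = 5040) [Fact (Nat.Prime 5)] :
    Nat.card (Sylow 5 G) ≠ 56 := by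
  intro hn
  let P : Sylow 5 G := default
  obtain ⟨hPcard, hPidx⟩ := sylow_card_and_index P (k := 1) (m := 1008) (by rw [hG]; norm_num)
    (by norm_num)
  rw [pow_one] at hPcard
  set N := normalizer ((P : Subgroup G) : Set G) with hN
  set C := centralizer ((P : Subgroup G) : Set G) with hC
  have hNidx : N.index = 56 := by rw [hN, index_normalizer_eq_card_sylow, hn]
  have hNcard : Nat.card N = 90 := by
    have := card_normalizer_mul_card_sylow P
    rw [hn, hG, ← hN] at this
    omega
  have hCN : C ≤ N := centralizer_le_normalizer _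
  have h4 : C.relIndex N ∣ 4 :=
    relIndex_centralizer_normalizer_dvd_of_card_prime (P : Subgroup G) hPcard
  have h90 := card_mul_relIndex_of_le hCN
  rw [hNcard] at h90
  have hne1 : C.relIndex N ≠ 1 := by
    intro h
    have hnp : ¬ IsPGroup 5 G := not_isPGroup_of_prime_dvd (q := 2) Nat.prime_two (by norm_num)
      (by rw [hG]; norm_num)
    exact not_normalizer_le_centralizer_of_simple (by rw [hG]; norm_num) hnp P
      (relIndex_eq_one.mp h)
  have hle : C.relIndex N ≤ 4 := Nat.le_of_dvd (by norm_num) h4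
  have hpos : 0 < C.relIndex N := Nat.pos_of_ne_zero (fun h => by rw [h] at h90; omega)
  have h4' : 4 % C.relIndex N = 0 := Nat.mod_eq_zero_of_dvd h4
  have hr2 : C.relIndex N = 2 := by
    interval_cases hr : C.relIndex N
    · exact absurd rfl hne1
    · rfl
    · omega
    · omega
  rw [hr2] at h90
  have h45 : Nat.card C = 45 := by omega
  exact card_sylow_five_ne_56_aux hG P hPcard hNcard hNidx h45 hr2

end Cfsg.Agent.Lib.H1.O5040
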