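/-
S2345 piece CNT (architect helper12): the number of long root elements of `Ω⁺_{2n}(q)`, the `Ω`-class of `u(X₀)`.
-/
import Mathlib
import Cfsg.Agent.Lib.H12.OPMinDefs
import Cfsg.Agent.Lib.H11.OPlusTrans
import Cfsg.Agent.Lib.H12.OrdOB

set_option autoImplicit false

namespace Cfsg.Agent.Lib.H1.OPMin

open Matrix Cfsg.Agent.Lib.H12.OPMin Cfsg.Agent.Lib.H11.OPlusTrans

/-! ## homogeneous fibres -/

/-- a map all of whose fibres are translates of one of them -/
theorem card_eq_mul_of_homog {X Y : Type*} [Finite X] (f : X → Y) (x₀ : X)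
    (hom : ∀ x : X, ∃ (σ : X ≃ X) (τ : Y → Y), Function.Injective τ ∧ σ x₀ = x ∧ ∀ z, f (σ z) = τ (f z)) :
    Nat.card X = Nat.card (Set.range f) * Nat.card {z : X // f z = f x₀} := by
  classical
  have hfin : Fintype (Set.range f) := Fintype.ofFinite _
  have e := Equiv.sigmaSubtypeFiberEquiv f (fun y => y ∈ Set.range f) (fun x => ⟨x, rfl⟩)
  rw [← Nat.card_congr e, Nat.card_sigma]
  have key : ∀ y : {y // y ∈ Set.range f}, Nat.card {x : X // f x = y.1} = Nat.card {z : X // f z = f x₀} := by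
    rintro ⟨_, x, rfl⟩
    obtain ⟨σ, τ, hτ, hσ, hf⟩ := hom x
    refine (Nat.card_congr ?_).symm
    refine σ.subtypeEquiv ?_
    intro z
    show f z = f x₀ ↔ f (σ z) = f x
    rw [hf, ← hσ, hf]
    exact hτ.eq_iff.symm
  rw [Finset.sum_congr rfl (fun y _ => key y), Finset.sum_const, Finset.card_univ, smul_eq_mul]
  congr 1
  exact (Nat.card_eq_fintype_card).symm

variable {F : Type*} [Field F] {n : ℕ}

/-! ## the polar form of `quadFormPlus` -/

/-- the polar form of `quadFormPlus n F` -/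
def bil (u z : Fin n ⊕ Fin n → F) : F := ∑ i : Fin n, (u (Sum.inl i) * z (Sum.inr i) + u (Sum.inr i) * z (Sum.inl i))

theorem Q_add (u z : Fin n ⊕ Fin n → F) :
    Cfsg.quadFormPlus n F (u + z) = Cfsg.quadFormPlus n F u + Cfsg.quadFormPlus n F z + bil u z := by
  unfold Cfsg.quadFormPlus bil
  rw [← Finset.sum_add_distrib, ← Finset.sum_add_distrib]
  refine Finset.sum_congr rfl fun i _ => ?_
  simp only [Pi.add_apply]
  ring

theorem polar_eq_bil (u z : Fin n ⊕ Fin n → F) :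
    QuadraticMap.polar (Cfsg.quadFormPlus n F) u z = bil u z := by
  unfold QuadraticMap.polar
  rw [Q_add]
  ring

theorem bil_add_left (u u' z : Fin n ⊕ Fin n → F) : bil (u + u') z = bil u z + bil u' z := by
  unfold bil
  rw [← Finset.sum_add_distrib]
  refine Finset.sum_congr rfl fun i _ => ?_
  simp only [Pi.add_apply]
  ring

theorem bil_smul_left (a : F) (u z : Fin n ⊕ Fin n → F) : bil (a • u) z = a * bil u z := by
  unfold bil
  rw [Finset.mul_sum]
  refine Finset.sum_congr rfl fun i _ => ?_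
  simp only [Pi.smul_apply, smul_eq_mul]
  ring

theorem bil_comm (u z : Fin n ⊕ Fin n → F) : bil u z = bil z u := by
  unfold bil
  refine Finset.sum_congr rfl fun i _ => ?_
  ring

theorem bil_eB (i : Fin n) (z : Fin n ⊕ Fin n → F) : bil (eB F i) z = z (Sum.inr i) := by
  unfold bil
  rw [Finset.sum_eq_single i]
  · simp [eB]
  · intro j _ hj
    simp [eB, hj]
  · intro h
    exact absurd (Finset.mem_univ i) h

theorem bil_fB (i : Fin n) (z : Fin n ⊕ Fin n → F) : bil (fB F i) z = z (Sum.inl i) := by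
  unfold bil
  rw [Finset.sum_eq_single i]
  · simp [fB]
  · intro j _ hj
    simp [fB, hj]
  · intro h
    exact absurd (Finset.mem_univ i) h

/-! ## isometries -/

/-- the matrix of an element of `OG n F` -/
abbrev mt (g : OG n F) : Matrix (Fin n ⊕ Fin n) (Fin n ⊕ Fin n) F := ((g : GL (Fin n ⊕ Fin n) F) : Matrix _ _ F)

theorem Q_mt (g : OG n F) (v : Fin n ⊕ Fin n → F) :
    Cfsg.quadFormPlus n F (mt g *ᵥ v) = Cfsg.quadFormPlus n F v :=
  (mem_isometryGroup_iff _).1 g.2 v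

theorem bil_mt (g : OG n F) (u z : Fin n ⊕ Fin n → F) : bil (mt g *ᵥ u) (mt g *ᵥ z) = bil u z := by
  have h1 := Q_add (mt g *ᵥ u) (mt g *ᵥ z)
  rw [← mulVec_add, Q_mt, Q_mt, Q_mt, Q_add] at h1
  exact (add_left_cancel h1).symm

theorem mt_mul (g h : OG n F) : mt (g * h) = mt g * mt h := rfl

theorem mt_one : mt (1 : OG n F) = 1 := rfl

theorem mt_inv_mul (g : OG n F) : mt g⁻¹ * mt g = 1 := by
  rw [← mt_mul, inv_mul_cancel, mt_one]

theorem mt_mul_inv (g : OG n F) : mt g * mt g⁻¹ = 1 := by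
  rw [← mt_mul, mul_inv_cancel, mt_one]

theorem mt_inv_mulVec (g : OG n F) (v : Fin n ⊕ Fin n → F) : mt g⁻¹ *ᵥ (mt g *ᵥ v) = v := by
  rw [mulVec_mulVec, mt_inv_mul, one_mulVec]

theorem mt_mulVec_inv (g : OG n F) (v : Fin n ⊕ Fin n → F) : mt g *ᵥ (mt g⁻¹ *ᵥ v) = v := by
  rw [mulVec_mulVec, mt_mul_inv, one_mulVec]

theorem bil_mt_inv (g : OG n F) (u z : Fin n ⊕ Fin n → F) : bil u (mt g⁻¹ *ᵥ z) = bil (mt g *ᵥ u) z := by
  rw [← bil_mt g u, mt_mulVec_inv]

/-! ## the root elements -/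

/-- `z ↦ z + f(u, z) v - f(v, z) u` -/
def tau (u v : Fin n ⊕ Fin n → F) (z : Fin n ⊕ Fin n → F) : Fin n ⊕ Fin n → F :=
  z + bil u z • v - bil v z • u

theorem tau_conj (g : OG n F) (u v z : Fin n ⊕ Fin n → F) :
    mt g *ᵥ (tau u v (mt g⁻¹ *ᵥ z)) = tau (mt g *ᵥ u) (mt g *ᵥ v) z := by
  unfold tau
  rw [mulVec_sub, mulVec_add, mt_mulVec_inv, mulVec_smul, mulVec_smul, bil_mt_inv, bil_mt_inv]

/-! ## pairs of independent orthogonal singular vectors -/

/-- `(u, v)` singular, orthogonal, independent -/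
def IsTS (u v : Fin n ⊕ Fin n → F) : Prop :=
  Cfsg.quadFormPlus n F u = 0 ∧ Cfsg.quadFormPlus n F v = 0 ∧ bil u v = 0 ∧ LinearIndependent F ![u, v]

theorem IsTS.mt {u v : Fin n ⊕ Fin n → F} (h : IsTS u v) (g : OG n F) : IsTS (mt g *ᵥ u) (mt g *ᵥ v) := by
  obtain ⟨h1, h2, h3, h4⟩ := h
  refine ⟨by rw [Q_mt, h1], by rw [Q_mt, h2], by rw [bil_mt, h3], ?_⟩
  rw [LinearIndependent.pair_iff] at h4 ⊢
  intro a b hab
  apply h4
  have := congrArg (fun w => OPMin.mt g⁻¹ *ᵥ w) hab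
  simpa only [mulVec_add, mulVec_smul, mt_inv_mulVec, mulVec_zero] using this

/-- the type of these pairs -/
abbrev TS (n : ℕ) (F : Type*) [Field F] : Type _ :=
  {p : (Fin n ⊕ Fin n → F) × (Fin n ⊕ Fin n → F) // IsTS p.1 p.2}

/-- the action of an isometry on the pairs -/
def actTS (g : OG n F) : TS n F ≃ TS n F where
  toFun p := ⟨(mt g *ᵥ p.1.1, mt g *ᵥ p.1.2), p.2.mt g⟩
  invFun p := ⟨(mt g⁻¹ *ᵥ p.1.1, mt g⁻¹ *ᵥ p.1.2), p.2.mt g⁻¹⟩
  left_inv p := by
    apply Subtype.ext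
    apply Prod.ext
    · exact mt_inv_mulVec g _
    · exact mt_inv_mulVec g _
  right_inv p := by
    apply Subtype.ext
    apply Prod.ext
    · exact mt_mulVec_inv g _
    · exact mt_mulVec_inv g _

theorem isTS_eB (i j : Fin n) (hij : i ≠ j) : IsTS (eB F i) (eB F j) :=
  ⟨Q_eB i, Q_eB j, by rw [bil_eB]; simp [eB], li_eB_eB i j hij⟩

/-- `u(X₀)` is the root element of `(e₁, e₀)` -/
theorem uMat_X0_mulVec (m : ℕ) (z : Fin (m + 3) ⊕ Fin (m + 3) → F) :
    uMat (X0 m F).1 *ᵥ z = tau (eB F 1) (eB F 0) z := by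
  unfold tau
  rw [bil_eB, bil_eB]
  funext k
  rcases k with k | k
  · simp only [uMat, X0, fromBlocks_mulVec, Sum.elim_inl, one_mulVec, Pi.add_apply, Pi.sub_apply,
      Pi.smul_apply, smul_eq_mul, eB]
    have h1 : ((single 0 1 1 - (single 0 1 (1 : F))ᵀ) *ᵥ z ∘ Sum.inr) k =
        z (Sum.inr 1) * (if k = 0 then 1 else 0) - z (Sum.inr 0) * (if k = 1 then 1 else 0) := by
      rw [sub_mulVec, Pi.sub_apply]
      simp only [mulVec, dotProduct, single_apply, transpose_apply, Function.comp_apply]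
      congr 1
      · rw [Finset.sum_eq_single 1]
        · by_cases hk : k = 0 <;> simp [hk, eq_comm]
        · intro j _ hj
          simp [hj, Ne.symm hj]
        · intro h
          exact absurd (Finset.mem_univ _) h
      · rw [Finset.sum_eq_single 0]
        · by_cases hk : k = 1 <;> simp [hk, eq_comm]
        · intro j _ hj
          simp [hj, Ne.symm hj]
        · intro h
          exact absurd (Finset.mem_univ _) h
    rw [h1]
    simp only [Function.comp_apply, Pi.single_apply, Sum.inl.injEq]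
    ring
  · simp only [uMat, X0, fromBlocks_mulVec, Sum.elim_inr, one_mulVec, Pi.add_apply, Pi.sub_apply,
      Pi.smul_apply, smul_eq_mul, eB, zero_mulVec, Pi.zero_apply, Function.comp_apply, Pi.single_apply,
      reduceCtorEq, if_false]
    ring

/-- the root map on pairs -/
def rootMap (n : ℕ) (F : Type*) [Field F] (p : TS n F) : (Fin n ⊕ Fin n → F) → (Fin n ⊕ Fin n → F) :=
  tau p.1.1 p.1.2

theorem rootMap_actTS (g : OG n F) (p : TS n F) :
    rootMap n F (actTS g p) = fun z => mt g *ᵥ (rootMap n F p (mt g⁻¹ *ᵥ z)) := by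
  funext z
  exact (tau_conj g p.1.1 p.1.2 z).symm

theorem conj_inj (g : OG n F) :
    Function.Injective (fun (φ : (Fin n ⊕ Fin n → F) → (Fin n ⊕ Fin n → F)) =>
      fun z => mt g *ᵥ (φ (mt g⁻¹ *ᵥ z))) := by
  intro φ ψ h
  funext z
  have h1 := congrFun h (mt g *ᵥ z)
  simp only [mt_inv_mulVec] at h1
  have h2 := congrArg (fun w => OPMin.mt g⁻¹ *ᵥ w) h1
  simpa only [mt_inv_mulVec] using h2

/-! ## the fibre of the root map -/

theorem eB_inl (i k : Fin n) : eB F i (Sum.inl k) = if k = i then 1 else 0 := eB_apply_inl i k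

theorem eB_inr (i k : Fin n) : eB F i (Sum.inr k) = 0 := eB_apply_inr i k

theorem Q_of_inr_zero (w : Fin n ⊕ Fin n → F) (h : ∀ i, w (Sum.inr i) = 0) : Cfsg.quadFormPlus n F w = 0 := by
  unfold Cfsg.quadFormPlus
  exact Finset.sum_eq_zero fun i _ => by rw [h, mul_zero]

theorem bil_of_inr_zero (u v : Fin n ⊕ Fin n → F) (hu : ∀ i, u (Sum.inr i) = 0) (hv : ∀ i, v (Sum.inr i) = 0) :
    bil u v = 0 := by
  unfold bil
  exact Finset.sum_eq_zero fun i _ => by rw [hu, hv, mul_zero, zero_mul, add_zero]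

theorem isTS_lin (i j : Fin n) (hij : i ≠ j) (a b c d : F) (h : a * d - b * c ≠ 0) :
    IsTS (a • eB F i + b • eB F j) (c • eB F i + d • eB F j) := by
  have h1 : ∀ (a b : F) (k : Fin n), (a • eB F i + b • eB F j) (Sum.inr k) = 0 := by
    intro a b k
    simp [eB_inr]
  refine ⟨Q_of_inr_zero _ (h1 a b), Q_of_inr_zero _ (h1 c d), bil_of_inr_zero _ _ (h1 a b) (h1 c d), ?_⟩
  rw [LinearIndependent.pair_iff]
  intro s t hst
  have e1 := congrFun hst (Sum.inl i)
  have e2 := congrFun hst (Sum.inl j)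
  simp only [Pi.add_apply, Pi.smul_apply, smul_eq_mul, eB_inl, if_true, if_neg hij, if_neg hij.symm,
    Pi.zero_apply, mul_one, mul_zero, add_zero, zero_add] at e1 e2
  constructor
  · have : s * (a * d - b * c) = 0 := by linear_combination d * e1 - c * e2
    exact (mul_eq_zero.1 this).resolve_right h
  · have : t * (a * d - b * c) = 0 := by linear_combination a * e2 - b * e1
    exact (mul_eq_zero.1 this).resolve_right h

theorem tau_lin (i j : Fin n) (a b c d : F) (h : a * d - b * c = 1) :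
    tau (a • eB F i + b • eB F j) (c • eB F i + d • eB F j) = tau (eB F i) (eB F j) := by
  funext z
  unfold tau
  rw [bil_add_left, bil_add_left, bil_smul_left, bil_smul_left, bil_smul_left, bil_smul_left, bil_eB, bil_eB]
  funext k
  simp only [Pi.add_apply, Pi.sub_apply, Pi.smul_apply, smul_eq_mul]
  linear_combination (eB F j k * z (Sum.inr i) - eB F i k * z (Sum.inr j)) * h

theorem of_tau_eq (i j : Fin n) (hij : i ≠ j) (u v : Fin n ⊕ Fin n → F)
    (H : tau u v = tau (eB F i) (eB F j)) :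
    u (Sum.inl i) * v (Sum.inl j) - u (Sum.inl j) * v (Sum.inl i) = 1 ∧
      u = u (Sum.inl i) • eB F i + u (Sum.inl j) • eB F j ∧
      v = v (Sum.inl i) • eB F i + v (Sum.inl j) • eB F j := by
  have hA : ∀ k, u (Sum.inl j) * v k - v (Sum.inl j) * u k = - eB F i k := by
    intro k
    have h := congrFun (congrFun H (fB F j)) k
    unfold tau at h
    rw [bil_comm u, bil_comm v, bil_fB, bil_fB, bil_eB, bil_eB, fB_apply_inr, fB_apply_inr, if_neg hij,
      if_pos rfl] at h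
    simp only [Pi.add_apply, Pi.sub_apply, Pi.smul_apply, smul_eq_mul] at h
    linear_combination h
  have hB : ∀ k, u (Sum.inl i) * v k - v (Sum.inl i) * u k = eB F j k := by
    intro k
    have h := congrFun (congrFun H (fB F i)) k
    unfold tau at h
    rw [bil_comm u, bil_comm v, bil_fB, bil_fB, bil_eB, bil_eB, fB_apply_inr, fB_apply_inr, if_neg hij.symm,
      if_pos rfl] at h
    simp only [Pi.add_apply, Pi.sub_apply, Pi.smul_apply, smul_eq_mul] at h
    linear_combination h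
  have hΔ : u (Sum.inl i) * v (Sum.inl j) - u (Sum.inl j) * v (Sum.inl i) = 1 := by
    have h := hA (Sum.inl i)
    rw [eB_inl, if_pos rfl] at h
    linear_combination -h
  refine ⟨hΔ, ?_, ?_⟩
  · funext k
    simp only [Pi.add_apply, Pi.smul_apply, smul_eq_mul]
    linear_combination (-(u k)) * hΔ - u (Sum.inl i) * hA k + u (Sum.inl j) * hB k
  · funext k
    simp only [Pi.add_apply, Pi.smul_apply, smul_eq_mul]
    linear_combination (-(v k)) * hΔ - v (Sum.inl i) * hA k + v (Sum.inl j) * hB k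

/-- the fibre of the root map over `(e_i, e_j)` is a copy of `SL₂` -/
def fibreEquiv (i j : Fin n) (hij : i ≠ j) :
    {p : TS n F // rootMap n F p = rootMap n F ⟨(eB F i, eB F j), isTS_eB i j hij⟩} ≃
      {q : (Fin 2 → F) × (Fin 2 → F) // q.1 ⬝ᵥ q.2 = 1} where
  toFun p := ⟨(![p.1.1.1 (Sum.inl i), p.1.1.1 (Sum.inl j)], ![p.1.1.2 (Sum.inl j), - p.1.1.2 (Sum.inl i)]), by
    have h := (of_tau_eq i j hij p.1.1.1 p.1.1.2 p.2).1
    simp only [dotProduct, Fin.sum_univ_two, Matrix.cons_val_zero, Matrix.cons_val_one]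
    linear_combination h⟩
  invFun q := ⟨⟨(q.1.1 0 • eB F i + q.1.1 1 • eB F j, (- q.1.2 1) • eB F i + q.1.2 0 • eB F j),
      isTS_lin i j hij _ _ _ _ (by
        have h := q.2
        simp only [dotProduct, Fin.sum_univ_two] at h
        have h2 : q.1.1 0 * q.1.2 0 - q.1.1 1 * (- q.1.2 1) = 1 := by linear_combination h
        rw [h2]
        exact one_ne_zero)⟩, by
    have h := q.2
    simp only [dotProduct, Fin.sum_univ_two] at h
    exact tau_lin i j _ _ _ _ (by linear_combination h)⟩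
  left_inv p := by
    obtain ⟨h1, h2, h3⟩ := of_tau_eq i j hij p.1.1.1 p.1.1.2 p.2
    apply Subtype.ext
    apply Subtype.ext
    apply Prod.ext
    · simp only [Matrix.cons_val_zero, Matrix.cons_val_one]
      exact h2.symm
    · simp only [Matrix.cons_val_zero, Matrix.cons_val_one, neg_neg]
      exact h3.symm
  right_inv q := by
    apply Subtype.ext
    apply Prod.ext
    · funext k
      fin_cases k
      · simp [eB_inl, hij]
      · simp [eB_inl, hij, hij.symm]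
    · funext k
      fin_cases k
      · simp [eB_inl, hij, hij.symm]
      · simp [eB_inl, hij]

theorem card_fibre_root [Fintype F] (i j : Fin n) (hij : i ≠ j) :
    Nat.card {p : TS n F // rootMap n F p = rootMap n F ⟨(eB F i, eB F j), isTS_eB i j hij⟩} =
      (Fintype.card F ^ 2 - 1) * Fintype.card F := by
  classical
  rw [Nat.card_congr (fibreEquiv i j hij), Cfsg.Agent.Lib.H2.card_hyp 2 (1 : F), if_neg one_ne_zero, zero_add]
  norm_num

/-! ## the fibre of the first projection -/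

/-- forget the coordinates `x₀, y₀` -/
def tailV {k : ℕ} (v : Fin (k + 1) ⊕ Fin (k + 1) → F) : Fin k ⊕ Fin k → F :=
  fun s => v (Sum.map Fin.succ Fin.succ s)

/-- add the coordinates `x₀ = a`, `y₀ = 0` -/
def glueV {k : ℕ} (a : F) (w : Fin k ⊕ Fin k → F) : Fin (k + 1) ⊕ Fin (k + 1) → F :=
  Sum.elim (Fin.cons a (fun i => w (Sum.inl i))) (Fin.cons 0 (fun i => w (Sum.inr i)))

theorem tailV_glueV {k : ℕ} (a : F) (w : Fin k ⊕ Fin k → F) : tailV (glueV a w) = w := by
  funext s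
  rcases s with i | i
  · simp [tailV, glueV]
  · simp [tailV, glueV]

theorem glueV_inl_zero {k : ℕ} (a : F) (w : Fin k ⊕ Fin k → F) : glueV a w (Sum.inl 0) = a := by
  simp [glueV]

theorem glueV_inr_zero {k : ℕ} (a : F) (w : Fin k ⊕ Fin k → F) : glueV a w (Sum.inr 0) = 0 := by
  simp [glueV]

theorem glueV_tailV {k : ℕ} (v : Fin (k + 1) ⊕ Fin (k + 1) → F) (h : v (Sum.inr 0) = 0) :
    glueV (v (Sum.inl 0)) (tailV v) = v := by
  funext s
  rcases s with i | i
  · refine Fin.cases ?_ (fun j => ?_) i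
    · simp [glueV]
    · simp [glueV, tailV]
  · refine Fin.cases ?_ (fun j => ?_) i
    · simp [glueV, h]
    · simp [glueV, tailV]

theorem Q_succ {k : ℕ} (v : Fin (k + 1) ⊕ Fin (k + 1) → F) :
    Cfsg.quadFormPlus (k + 1) F v = v (Sum.inl 0) * v (Sum.inr 0) + Cfsg.quadFormPlus k F (tailV v) := by
  unfold Cfsg.quadFormPlus
  rw [Fin.sum_univ_succ]
  rfl

theorem isTS_eB_iff {k : ℕ} (v : Fin (k + 1) ⊕ Fin (k + 1) → F) :
    IsTS (eB F 0) v ↔ v (Sum.inr 0) = 0 ∧ tailV v ≠ 0 ∧ Cfsg.quadFormPlus k F (tailV v) = 0 := by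
  constructor
  · rintro ⟨_, h2, h3, h4⟩
    rw [bil_eB] at h3
    refine ⟨h3, ?_, ?_⟩
    · intro ht
      rw [LinearIndependent.pair_iff] at h4
      have h5 := h4 (v (Sum.inl 0)) (-1) ?_
      · have := h5.2
        simp at this
      · have hv := glueV_tailV v h3
        rw [ht] at hv
        show v (Sum.inl 0) • eB F 0 + (-1 : F) • v = 0
        rw [← hv]
        funext s
        rcases s with i | i
        · refine Fin.cases ?_ (fun j => ?_) i
          · simp [glueV, eB]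
          · simp [glueV, eB, Fin.succ_ne_zero]
        · refine Fin.cases ?_ (fun j => ?_) i
          · simp [glueV, eB]
          · simp [glueV, eB]
    · rw [Q_succ, h3, mul_zero, zero_add] at h2
      exact h2
  · rintro ⟨h1, h2, h3⟩
    refine ⟨Q_eB 0, by rw [Q_succ, h1, mul_zero, zero_add, h3], by rw [bil_eB, h1], ?_⟩
    rw [LinearIndependent.pair_iff]
    intro s t hst
    have ht : t = 0 := by
      by_contra ht
      apply h2
      funext c
      have := congrFun hst (Sum.map Fin.succ Fin.succ c)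
      rcases c with c | c
      · simp only [Pi.add_apply, Pi.smul_apply, smul_eq_mul, Sum.map_inl, eB_inl, Fin.succ_ne_zero, if_false,
          mul_zero, zero_add, Pi.zero_apply] at this
        exact (mul_eq_zero.1 this).resolve_left ht
      · simp only [Pi.add_apply, Pi.smul_apply, smul_eq_mul, Sum.map_inr, eB_inr,
          mul_zero, zero_add, Pi.zero_apply] at this
        exact (mul_eq_zero.1 this).resolve_left ht
    refine ⟨?_, ht⟩
    have := congrFun hst (Sum.inl 0)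
    rw [ht] at this
    simpa [eB_inl] using this

/-- the fibre of the first projection over `e₀` -/
def fstFibreEquiv (k : ℕ) :
    {p : TS (k + 1) F // p.1.1 = eB F 0} ≃
      F × {w : Fin k ⊕ Fin k → F // w ≠ 0 ∧ Cfsg.quadFormPlus k F w = 0} where
  toFun p := (p.1.1.2 (Sum.inl 0), ⟨tailV p.1.1.2, by
    have h := p.1.2
    rw [p.2] at h
    exact ((isTS_eB_iff _).1 h).2⟩)
  invFun q := ⟨⟨(eB F 0, glueV q.1 q.2.1), by
    show IsTS (eB F 0) (glueV q.1 q.2.1)
    rw [isTS_eB_iff, tailV_glueV]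
    exact ⟨glueV_inr_zero _ _, q.2.2⟩⟩, rfl⟩
  left_inv p := by
    have h := p.1.2
    rw [p.2] at h
    apply Subtype.ext
    apply Subtype.ext
    apply Prod.ext
    · exact p.2.symm
    · exact glueV_tailV _ ((isTS_eB_iff _).1 h).1
  right_inv q := by
    apply Prod.ext
    · exact glueV_inl_zero q.1 q.2.1
    · apply Subtype.ext
      exact tailV_glueV q.1 q.2.1

theorem card_sing [Fintype F] (k : ℕ) :
    Nat.card {u : Fin k ⊕ Fin k → F // u ≠ 0 ∧ Cfsg.quadFormPlus k F u = 0} + 1 =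
      Fintype.card F ^ k + (Fintype.card F ^ k - 1) * Fintype.card F ^ (k - 1) := by
  classical
  have h := Cfsg.Agent.Lib.H12.OrdO.lvl_plus (F := F) k 0
  rw [if_pos rfl] at h
  rw [← h]
  unfold Cfsg.Agent.Lib.H12.OrdO.lvl
  have e1 : Nat.card {u : Fin k ⊕ Fin k → F // u ≠ 0 ∧ Cfsg.quadFormPlus k F u = 0} =
      ({u | u ≠ 0 ∧ Cfsg.quadFormPlus k F u = 0} : Set (Fin k ⊕ Fin k → F)).ncard := Nat.card_coe_set_eq _
  have e2 : Nat.card {v : Fin k ⊕ Fin k → F // Cfsg.quadFormPlus k F v = 0} =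
      ({v | Cfsg.quadFormPlus k F v = 0} : Set (Fin k ⊕ Fin k → F)).ncard := Nat.card_coe_set_eq _
  have hQ0 : Cfsg.quadFormPlus k F 0 = 0 := by
    unfold Cfsg.quadFormPlus
    simp
  have e3 : ({v | Cfsg.quadFormPlus k F v = 0} : Set (Fin k ⊕ Fin k → F)) =
      insert 0 {u | u ≠ 0 ∧ Cfsg.quadFormPlus k F u = 0} := by
    ext v
    simp only [Set.mem_ofPred_eq, Set.mem_insert_iff]
    constructor
    · intro hv
      by_cases h0 : v = 0
      · exact Or.inl h0
      · exact Or.inr ⟨h0, hv⟩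
    · rintro (rfl | ⟨_, hv⟩)
      · exact hQ0
      · exact hv
  rw [e1, e2, e3, Set.ncard_insert_of_notMem (by simp) (Set.toFinite _)]

theorem fin_one_ne_two (m : ℕ) : (1 : Fin (m + 3)) ≠ 2 := by
  rw [Ne, Fin.ext_iff, Fin.val_one, Fin.val_two]
  omega

theorem fin_zero_ne_two (m : ℕ) : (0 : Fin (m + 3)) ≠ 2 := by
  rw [Ne, Fin.ext_iff, Fin.val_zero, Fin.val_two]
  omega

section trans

variable [Fintype F]

/-- `Ω` is transitive on the pairs (helper11) -/
theorem exists_actTS (m : ℕ) (i j k : Fin (m + 3)) (hij : i ≠ j) (hik : i ≠ k) (hjk : j ≠ k)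
    (p : TS (m + 3) F) :
    ∃ ω : OG (m + 3) F, ω ∈ Cfsg.Omega F (Cfsg.quadFormPlus (m + 3) F) ∧
      actTS ω ⟨(eB F i, eB F j), isTS_eB i j hij⟩ = p := by
  obtain ⟨⟨u, v⟩, h1, h2, h3, h4⟩ := p
  have hb := isTS_eB (F := F) i j hij
  obtain ⟨ω, hω, hu, hv⟩ := trans_ts i j k hij hik hjk (eB F i) (eB F j) u v hb.1 hb.2.1 h1 h2
    (by rw [polar_eq_bil]; exact hb.2.2.1) (by rw [polar_eq_bil]; exact h3) hb.2.2.2 h4
  refine ⟨ω, hω, ?_⟩
  apply Subtype.ext
  apply Prod.ext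
  · exact hu
  · exact hv

theorem card_TS_root (m : ℕ) :
    Nat.card (TS (m + 3) F) = Nat.card (Set.range (rootMap (m + 3) F)) *
      Nat.card {p : TS (m + 3) F // rootMap (m + 3) F p =
        rootMap (m + 3) F ⟨(eB F 1, eB F 0), isTS_eB 1 0 (by simp)⟩} := by
  apply card_eq_mul_of_homog
  intro p
  obtain ⟨ω, _, hω⟩ := exists_actTS m 1 0 2 (by simp) (fin_one_ne_two m) (fin_zero_ne_two m) p
  exact ⟨actTS ω, _, conj_inj ω, hω, fun z => rootMap_actTS ω z⟩

theorem card_TS_fst (m : ℕ) :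
    Nat.card (TS (m + 3) F) = Nat.card (Set.range (fun p : TS (m + 3) F => p.1.1)) *
      Nat.card {p : TS (m + 3) F // p.1.1 = eB F 0} := by
  have h := card_eq_mul_of_homog (fun p : TS (m + 3) F => p.1.1)
    ⟨(eB F 0, eB F 1), isTS_eB 0 1 (by simp)⟩ ?_
  · exact h
  · intro p
    obtain ⟨ω, _, hω⟩ := exists_actTS m 0 1 2 (by simp) (fin_zero_ne_two m) (fin_one_ne_two m) p
    refine ⟨actTS ω, fun w => mt ω *ᵥ w, ?_, hω, fun z => rfl⟩
    intro w w' h
    have h2 := congrArg (fun w => OPMin.mt ω⁻¹ *ᵥ w) h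
    simpa only [mt_inv_mulVec] using h2

open Cfsg.Agent.Lib.H13 in
/-- `Ω` is transitive on the non-zero singular vectors -/
theorem trans_sing (i0 i2 : Fin n) (h02 : i0 ≠ i2) (hn : 3 ≤ n)
    (u' : Fin n ⊕ Fin n → F) (hu0' : u' ≠ 0) (hu' : Cfsg.quadFormPlus n F u' = 0) :
    ∃ ω : ↥(Cfsg.isometryGroup F (Cfsg.quadFormPlus n F)),
      ω ∈ Cfsg.Omega F (Cfsg.quadFormPlus n F) ∧
      ((ω : GL (Fin n ⊕ Fin n) F) : Matrix _ _ F) *ᵥ eB F i0 = u' := by
  refine transfer_plus (motive := fun (Q₀ : (Fin n ⊕ Fin n → F) → F)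
      (ω : ↥(Cfsg.isometryGroup F Q₀)) =>
      ((ω : GL (Fin n ⊕ Fin n) F) : Matrix _ _ F) *ᵥ eB F i0 = u') ?_
  set Q := plusQF F n with hQdef
  have hQu' : Q u' = 0 := by rw [hQdef, plusQF_apply, hu']
  have he0 : eB F i0 ≠ 0 := by
    intro h
    have := congrFun h (Sum.inl i0)
    rw [eB_apply_inl, if_pos rfl] at this
    exact one_ne_zero this
  obtain ⟨ω, hω, hωx⟩ := Cfsg.Agent.Lib.H11.OmegaWittAny.omega_witt_any Q
    (Cfsg.Agent.S0287.nondeg n) (by rw [Fintype.card_sum, Fintype.card_fin]; omega) 1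
    ![eB F i0] ![u'] ![eB F i0]
    (by rw [linearIndependent_unique_iff]; exact he0)
    (by rw [linearIndependent_unique_iff]; exact hu0')
    (by rw [linearIndependent_unique_iff]; exact he0)
    (fun i => by
      have hi : i = 0 := Subsingleton.elim _ _
      subst hi
      show Q u' = Q (eB F i0)
      rw [hQu', plusQF_eB])
    (fun i j => by
      have hi : i = 0 := Subsingleton.elim _ _
      have hj : j = 0 := Subsingleton.elim _ _
      subst hi; subst hj
      show QuadraticMap.polar (⇑Q) u' u' = QuadraticMap.polar (⇑Q) (eB F i0) (eB F i0)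
      rw [Cfsg.Agent.Lib.H4.polar_self, Cfsg.Agent.Lib.H4.polar_self, hQu', plusQF_eB])
    (fun i => rfl)
    (fun i j => rfl)
    (eB F i2) (fB F i2) (plusQF_eB i2) (plusQF_fB i2)
    (by rw [polarQF_eB, fB_apply_inr, if_pos rfl])
    (fun i => by
      have hi : i = 0 := Subsingleton.elim _ _
      subst hi
      show QuadraticMap.polar (⇑Q) (eB F i2) (eB F i0) = 0
      rw [polarQF_eB, eB_apply_inr])
    (fun i => by
      have hi : i = 0 := Subsingleton.elim _ _
      subst hi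
      show QuadraticMap.polar (⇑Q) (fB F i2) (eB F i0) = 0
      rw [polarQF_fB, eB_apply_inl, if_neg (fun h => h02 h.symm)])
  exact ⟨ω, hω, hωx 0⟩

omit [Fintype F] in
theorem conj_root (m : ℕ) (hX : uO (X0 m F) ∈ Cfsg.Omega F (Cfsg.quadFormPlus (m + 3) F))
    (g : OmG (m + 3) F) :
    (fun z => mt ((g * ⟨uO (X0 m F), hX⟩ * g⁻¹ : OmG (m + 3) F) : OG (m + 3) F) *ᵥ z) =
      rootMap (m + 3) F (actTS (g : OG (m + 3) F) ⟨(eB F 1, eB F 0), isTS_eB 1 0 (by simp)⟩) := by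
  rw [rootMap_actTS]
  funext z
  show mt ((g : OG (m + 3) F) * uO (X0 m F) * (g : OG (m + 3) F)⁻¹) *ᵥ z = _
  rw [mt_mul, mt_mul, ← mulVec_mulVec, ← mulVec_mulVec]
  show mt (g : OG (m + 3) F) *ᵥ (uMat (X0 m F).1 *ᵥ (mt (g : OG (m + 3) F)⁻¹ *ᵥ z)) = _
  rw [uMat_X0_mulVec]
  rfl

theorem card_K_eq (m : ℕ)
    (hX : uO (X0 m F) ∈ Cfsg.Omega F (Cfsg.quadFormPlus (m + 3) F))
    (K : Finset (OmG (m + 3) F))
    (hK : ∀ x : OmG (m + 3) F, x ∈ K ↔ ∃ g : OmG (m + 3) F, x = g * ⟨uO (X0 m F), hX⟩ * g⁻¹) :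
    K.card = Nat.card (Set.range (rootMap (m + 3) F)) := by
  have hinj : Function.Injective
      (fun x : OmG (m + 3) F => fun z => mt (x : OG (m + 3) F) *ᵥ z) := by
    intro x y h
    apply Subtype.ext
    apply OG_ext
    exact Matrix.mulVec_injective h
  have hrange : Set.range (rootMap (m + 3) F) =
      (fun x : OmG (m + 3) F => fun z => mt (x : OG (m + 3) F) *ᵥ z) '' (K : Set (OmG (m + 3) F)) := by
    ext φ
    constructor
    · rintro ⟨p, rfl⟩
      obtain ⟨ω, hω, hp⟩ := exists_actTS m 1 0 2 (by simp) (fin_one_ne_two m) (fin_zero_ne_two m) p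
      have h1 : (⟨ω, hω⟩ * ⟨uO (X0 m F), hX⟩ * ⟨ω, hω⟩⁻¹ : OmG (m + 3) F) ∈ K :=
        (hK _).2 ⟨⟨ω, hω⟩, rfl⟩
      refine ⟨_, h1, ?_⟩
      rw [← hp]
      exact conj_root m hX ⟨ω, hω⟩
    · rintro ⟨x, hx, rfl⟩
      obtain ⟨g, rfl⟩ := (hK x).1 hx
      exact ⟨_, (conj_root m hX g).symm⟩
  rw [hrange, Nat.card_coe_set_eq, Set.ncard_image_of_injective _ hinj, Set.ncard_coe_finset]

theorem range_fst (m : ℕ) :
    Set.range (fun p : TS (m + 3) F => p.1.1) = {u | u ≠ 0 ∧ Cfsg.quadFormPlus (m + 3) F u = 0} := by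
  ext u
  constructor
  · rintro ⟨p, rfl⟩
    exact ⟨p.2.2.2.2.ne_zero 0, p.2.1⟩
  · rintro ⟨hu0, hu⟩
    obtain ⟨ω, _, h⟩ := trans_sing 0 2 (fin_zero_ne_two m) (by omega) u hu0 hu
    exact ⟨actTS ω ⟨(eB F 0, eB F 1), isTS_eB 0 1 (by simp)⟩, h⟩

end trans

/-- **CNT**: the number of long root elements -/
theorem card_class [Fintype F] (m : ℕ) (hm : 1 ≤ m)
    (hX : uO (X0 m F) ∈ Cfsg.Omega F (Cfsg.quadFormPlus (m + 3) F))
    (K : Finset (OmG (m + 3) F))
    (hK : ∀ x : OmG (m + 3) F, x ∈ K ↔ ∃ g : OmG (m + 3) F, x = g * ⟨uO (X0 m F), hX⟩ * g⁻¹) :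
    K.card * (Fintype.card F ^ 2 - 1) =
      (Fintype.card F ^ (m + 3) - 1) * (Fintype.card F ^ (m + 2) + 1) *
        (Fintype.card F ^ (m + 2) - 1) * (Fintype.card F ^ (m + 1) + 1) := by
  have h1 := card_TS_root (F := F) m
  rw [← card_K_eq m hX K hK, card_fibre_root 1 0 (by simp)] at h1
  have h2 := card_TS_fst (F := F) m
  rw [range_fst, Nat.card_congr (fstFibreEquiv (m + 2)), Nat.card_prod, Nat.card_eq_fintype_card (α := F)] at h2
  have h3 := card_sing (F := F) (m + 3)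
  have h4 := card_sing (F := F) (m + 2)
  have e3 : Nat.card ({u | u ≠ 0 ∧ Cfsg.quadFormPlus (m + 3) F u = 0} : Set (Fin (m + 3) ⊕ Fin (m + 3) → F)) =
      Nat.card {u : Fin (m + 3) ⊕ Fin (m + 3) → F // u ≠ 0 ∧ Cfsg.quadFormPlus (m + 3) F u = 0} := rfl
  rw [e3] at h2
  set q := Fintype.card F with hq
  have hq1 : 1 ≤ q := Fintype.card_pos
  set S3 := Nat.card {u : Fin (m + 3) ⊕ Fin (m + 3) → F // u ≠ 0 ∧ Cfsg.quadFormPlus (m + 3) F u = 0}
  set S2 := Nat.card {u : Fin (m + 2) ⊕ Fin (m + 2) → F // u ≠ 0 ∧ Cfsg.quadFormPlus (m + 2) F u = 0}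
  rw [show m + 3 - 1 = m + 2 from rfl] at h3
  rw [show m + 2 - 1 = m + 1 from rfl] at h4
  obtain ⟨a, ha⟩ : ∃ a, q ^ (m + 3) = a + 1 := ⟨q ^ (m + 3) - 1, (Nat.sub_add_cancel (Nat.one_le_pow _ _ hq1)).symm⟩
  obtain ⟨b, hb⟩ : ∃ b, q ^ (m + 2) = b + 1 := ⟨q ^ (m + 2) - 1, (Nat.sub_add_cancel (Nat.one_le_pow _ _ hq1)).symm⟩
  obtain ⟨c, hc⟩ : ∃ c, q ^ 2 = c + 1 := ⟨q ^ 2 - 1, (Nat.sub_add_cancel (Nat.one_le_pow _ _ hq1)).symm⟩
  rw [ha, hb, Nat.add_sub_cancel] at h3
  rw [hb, Nat.add_sub_cancel] at h4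
  rw [hc, Nat.add_sub_cancel] at h1 ⊢
  rw [ha, hb, Nat.add_sub_cancel, Nat.add_sub_cancel]
  have h3' : S3 = a * (b + 1 + 1) := by linarith
  have h4' : S2 = b * (q ^ (m + 1) + 1) := by linarith
  have h5 : K.card * c * q = a * (b + 1 + 1) * b * (q ^ (m + 1) + 1) * q := by
    rw [← h3', mul_assoc S3, ← h4']
    linarith
  have := Nat.eq_of_mul_eq_mul_right hq1 h5
  linarith

end Cfsg.Agent.Lib.H1.OPMin
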