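import Cfsg.Agent.Lib.H13.OTDefs
import Cfsg.Agent.S0039

/-! # S3999 piece P5 FROB: a normal Hall subgroup with no mixed element orders has a Frobenius complement -/

set_option autoImplicit false

namespace Cfsg.Agent.Lib.H1.OT
open Cfsg Cfsg.Agent.Lib.H13.OT
open scoped Pointwise

universe u

theorem exists_frobenius_complement_of_hall {G : Type u} [Group G] [Finite G] (n m : ℕ)
    (hn : 1 < n) (hm : 1 < m) (hnm : n.Coprime m) (hcard : Nat.card G = n * m)
    (N : Subgroup G) [N.Normal] (hN : Nat.card N = n)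
    (hord : ∀ x : G, orderOf x ∣ n ∨ orderOf x ∣ m) :
    ∃ D : Subgroup G, Cfsg.IsFrobeniusComplement D ∧ Nat.card D = m := by
  have hidx : N.index = m := by
    have h1 := N.card_mul_index
    rw [hN, hcard] at h1
    exact Nat.eq_of_mul_eq_mul_left (by omega) h1
  have hcop : Nat.Coprime (Nat.card N) N.index := by rw [hN, hidx]; exact hnm
  obtain ⟨D, hD⟩ := Subgroup.exists_right_complement'_of_coprime hcop
  have hDcard : Nat.card D = m := by
    have h1 := hD.card_mul_card
    rw [hN, hcard] at h1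
    exact Nat.eq_of_mul_eq_mul_left (by omega) h1
  refine ⟨D, ?_, hDcard⟩
  have hNbot : N ≠ ⊥ := by
    rintro rfl
    rw [Subgroup.card_bot] at hN
    omega
  have hDbot : D ≠ ⊥ := by
    rintro rfl
    rw [Subgroup.card_bot] at hDcard
    omega
  rw [Cfsg.Agent.S0039.result N D hD hNbot hDbot]
  intro h hh hh1
  rw [eq_bot_iff]
  intro x hx
  rw [Subgroup.mem_inf, Subgroup.mem_centralizer_iff] at hx
  obtain ⟨hxN, hxc⟩ := hx
  rw [Subgroup.mem_bot]
  have hcomm : Commute h x := hxc h (Set.mem_singleton h)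
  have hoh : orderOf h ∣ m := by
    have := Subgroup.orderOf_dvd_natCard D hh
    rwa [hDcard] at this
  have hox : orderOf x ∣ n := by
    have := Subgroup.orderOf_dvd_natCard N hxN
    rwa [hN] at this
  have hco : Nat.Coprime (orderOf h) (orderOf x) :=
    Nat.Coprime.coprime_dvd_left hoh (Nat.Coprime.coprime_dvd_right hox hnm.symm)
  have hmul : orderOf (h * x) = orderOf h * orderOf x :=
    hcomm.orderOf_mul_eq_mul_orderOf_of_coprime hco
  rcases hord (h * x) with h1 | h1
  · exfalso
    rw [hmul] at h1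
    have h2 : orderOf h ∣ n := dvd_trans (dvd_mul_right _ _) h1
    have h3 : orderOf h ∣ Nat.gcd n m := Nat.dvd_gcd h2 hoh
    rw [hnm] at h3
    exact hh1 (orderOf_eq_one_iff.mp (Nat.dvd_one.mp h3))
  · rw [hmul] at h1
    have h2 : orderOf x ∣ m := dvd_trans (dvd_mul_left _ _) h1
    have h3 : orderOf x ∣ Nat.gcd n m := Nat.dvd_gcd hox h2
    rw [hnm] at h3
    exact orderOf_eq_one_iff.mp (Nat.dvd_one.mp h3)

end Cfsg.Agent.Lib.H1.OT
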