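import Cfsg.Agent.Lib.H13.OTDefs

/-! # S3999 piece P6 KCOUNT: counting the elements of a Frobenius group whose order divides the complement -/

set_option autoImplicit false

namespace Cfsg.Agent.Lib.H1.OT
open Cfsg Cfsg.Agent.Lib.H13.OT
open scoped Pointwise

universe u

theorem orderOf_conj_eq {X : Type u} [Group X] (t x : X) : orderOf (t * x * t⁻¹) = orderOf x := by
  have := (MulAut.conj t).orderOf_eq x
  rwa [MulAut.conj_apply] at this

theorem card_orderOf_eq {X : Type u} [Group X] [Finite X] {Y M : Subgroup X} (h : FrobData Y M)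
    (k : ℕ) (hk : k ∣ Nat.card Y) (hk1 : 1 < k) :
    Nat.card {x : X // orderOf x = k} = Nat.card M * Nat.card {y : Y // orderOf y = k} := by
  rw [← Nat.card_prod]
  symm
  let f : M × {y : Y // orderOf y = k} → {x : X // orderOf x = k} := fun p =>
    ⟨(p.1 : X) * (p.2.1 : X) * (p.1 : X)⁻¹, by
      rw [orderOf_conj_eq, Subgroup.orderOf_coe]; exact p.2.2⟩
  have hdisj : M ⊓ Y = ⊥ := h.isCompl.disjoint.eq_bot
  have hinj : Function.Injective f := by
    rintro ⟨t, y, hy⟩ ⟨t', y', hy'⟩ heq
    have heq' : (t : X) * (y : X) * (t : X)⁻¹ = (t' : X) * (y' : X) * (t' : X)⁻¹ :=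
      congrArg Subtype.val heq
    set s : X := (t' : X)⁻¹ * (t : X) with hs
    have hsM : s ∈ M := M.mul_mem (M.inv_mem t'.2) t.2
    have hconj : s * (y : X) * s⁻¹ = (y' : X) := by
      rw [hs]
      have : (t' : X)⁻¹ * ((t : X) * (y : X) * (t : X)⁻¹) * (t' : X) = (y' : X) := by
        rw [heq']; group
      rw [← this]; group
    have hy'1 : (y' : X) ≠ 1 := by
      intro h1
      have h2 : y' = 1 := Subtype.ext h1
      rw [h2, orderOf_one] at hy'
      omega
    have hsY : s ∈ Y := by
      by_contra hsY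
      have h3 := h.compl.2.2 s hsY
      have h4 : (y' : X) ∈ Y ⊓ MulAut.conj s • Y := by
        refine Subgroup.mem_inf.mpr ⟨y'.2, ?_⟩
        rw [Subgroup.mem_smul_pointwise_iff_exists]
        refine ⟨(y : X), y.2, ?_⟩
        rw [MulAut.smul_def, MulAut.conj_apply]
        exact hconj
      rw [h3, Subgroup.mem_bot] at h4
      exact hy'1 h4
    have hs1 : s = 1 := by
      have : s ∈ M ⊓ Y := Subgroup.mem_inf.mpr ⟨hsM, hsY⟩
      rwa [hdisj, Subgroup.mem_bot] at this
    have htt : (t : X) = (t' : X) := by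
      have : (t' : X) * s = (t : X) := by rw [hs]; group
      rw [hs1, mul_one] at this
      exact this.symm
    have hyy : (y : X) = (y' : X) := by
      rw [← hconj, hs1]; group
    have e1 : t = t' := Subtype.ext htt
    have e2 : y = y' := Subtype.ext hyy
    subst e1
    subst e2
    rfl
  have hsurj : Function.Surjective f := by
    rintro ⟨x, hx⟩
    have hxM : x ∉ M := by
      intro hxM
      have h1 : orderOf x ∣ Nat.card M := Subgroup.orderOf_dvd_natCard M hxM
      rw [hx] at h1
      have h2 : k ∣ Nat.gcd (Nat.card M) (Nat.card Y) := Nat.dvd_gcd h1 hk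
      rw [h.coprime] at h2
      have := Nat.dvd_one.mp h2
      omega
    rcases h.cover x with hxM' | ⟨g, hg⟩
    · exact absurd hxM' hxM
    · rw [Subgroup.mem_pointwise_smul_iff_inv_smul_mem, MulAut.smul_def] at hg
      simp only [MulAut.conj_inv_apply] at hg
      -- hg : g⁻¹ * x * g ∈ Y
      obtain ⟨⟨t, y0⟩, hty, -⟩ := h.isCompl.existsUnique g
      simp only at hty
      set y1 : X := (y0 : X) * (g⁻¹ * x * g) * (y0 : X)⁻¹ with hy1
      have hy1Y : y1 ∈ Y := Y.mul_mem (Y.mul_mem y0.2 hg) (Y.inv_mem y0.2)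
      have hx_eq : (t : X) * y1 * (t : X)⁻¹ = x := by
        rw [hy1, ← hty]; group
      have hord1 : orderOf y1 = k :=
        calc orderOf y1 = orderOf ((t : X) * y1 * (t : X)⁻¹) := (orderOf_conj_eq _ _).symm
          _ = orderOf x := by rw [hx_eq]
          _ = k := hx
      have hord : orderOf (⟨y1, hy1Y⟩ : Y) = k := by
        rw [← Subgroup.orderOf_coe]
        exact hord1
      refine ⟨(t, ⟨⟨y1, hy1Y⟩, hord⟩), ?_⟩
      apply Subtype.ext
      exact hx_eq
  exact Nat.card_congr (Equiv.ofBijective f ⟨hinj, hsurj⟩)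

end Cfsg.Agent.Lib.H1.OT
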