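import Mathlib
import Cfsg.Agent.Lib.H23.Isaacs1129b
import Cfsg.Agent.Lib.H23.ClassBound
import Cfsg.Agent.Lib.H23.RelMGroup
import Cfsg.Agent.Lib.H24.CharDefl
import Cfsg.Agent.S4458

/-!
# Three character degrees: basic toolkit

`cd G` is the set of irreducible character degrees.  Elementary facts used in the proof that a
group with three character degrees has derived length at most three (Isaacs 12.15).
-/

set_option autoImplicit false
set_option linter.unusedSectionVars false

namespace Cfsg.Agent.Lib.H1.TD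

open Cfsg Cfsg.Agent.Lib.L0 Cfsg.Agent.Lib.H23 Cfsg.Agent.Lib.H24

universe u

/-- The set of irreducible character degrees. -/
def cd (G : Type*) [Group G] : Set ℕ := {n | ∃ χ : IrrCharacter G, charDegree (χ : G → ℂ) = n}

section basic

variable {G : Type*} [Group G] [Finite G]

theorem mem_cd {n : ℕ} : n ∈ cd G ↔ ∃ χ : IrrCharacter G, charDegree (χ : G → ℂ) = n := Iff.rfl

theorem deg_mem_cd (χ : IrrCharacter G) : charDegree (χ : G → ℂ) ∈ cd G := ⟨χ, rfl⟩

theorem one_mem_cd : 1 ∈ cd G := by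
  refine ⟨trivialIrr G, ?_⟩
  apply charDegree_eq_of_apply_one
  simp [trivialIrr]

theorem cd_pos {n : ℕ} (h : n ∈ cd G) : 0 < n := by
  obtain ⟨χ, rfl⟩ := h
  exact Cfsg.Agent.Lib.H24.charDegree_pos χ

theorem cd_quot_subset (N : Subgroup G) [N.Normal] : cd (G ⧸ N) ⊆ cd G := by
  rintro n ⟨ψ, rfl⟩
  exact ⟨inflIrr N ψ, charDegree_inflIrr N ψ⟩

theorem cd_equiv {H : Type*} [Group H] [Finite H] (e : G ≃* H) : cd G = cd H := by
  ext n
  constructor
  · rintro ⟨χ, rfl⟩
    refine ⟨⟨(χ : G → ℂ) ∘ e.symm, isIrrCharacter_comp_mulEquiv e.symm χ.2⟩, ?_⟩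
    simp [charDegree]
  · rintro ⟨χ, rfl⟩
    refine ⟨⟨(χ : H → ℂ) ∘ e, isIrrCharacter_comp_mulEquiv e χ.2⟩, ?_⟩
    simp [charDegree]

theorem deg_eq_one_iff (χ : IrrCharacter G) :
    charDegree (χ : G → ℂ) = 1 ↔ (χ : G → ℂ) 1 = 1 := by
  constructor
  · intro h
    rw [apply_one_eq_charDegree _ χ.2, h]
    simp
  · intro h
    exact charDegree_eq_of_apply_one (by rw [h]; simp)

/-- All degrees equal to one: abelian. -/
theorem comm_of_cd_subset (h : cd G ⊆ {1}) (a b : G) : a * b = b * a := by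
  apply comm_of_forall_irr_one
  intro χ
  have := h (deg_mem_cd χ)
  rw [Set.mem_singleton_iff] at this
  exact (deg_eq_one_iff χ).mp this

theorem derivedSeries_two_eq_bot_of_comm_commutator
    (h : ∀ a ∈ commutator G, ∀ b ∈ commutator G, a * b = b * a) : derivedSeries G 2 = ⊥ := by
  have h1 : derivedSeries G 1 = commutator G := by
    rw [derivedSeries_succ, derivedSeries_zero]
    rfl
  rw [derivedSeries_succ, h1, eq_bot_iff, Subgroup.commutator_le]
  intro a ha b hb
  rw [Subgroup.mem_bot, commutatorElement_def, h a ha b hb]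
  group

/-- At most two degrees: metabelian. -/
theorem derivedSeries_two_of_cd {g : ℕ} (h : cd G ⊆ {1, g}) : derivedSeries G 2 = ⊥ := by
  apply derivedSeries_two_eq_bot_of_comm_commutator
  by_cases hg : g ∈ cd G ∧ g ≠ 1
  · obtain ⟨⟨χ, hχ⟩, hg1⟩ := hg
    apply Cfsg.Agent.S4458.result g _ ⟨χ, hχ⟩ hg1
    intro ψ
    have := h (deg_mem_cd ψ)
    simpa using this
  · have hsub : cd G ⊆ {1} := by
      intro n hn
      have h1 := h hn
      rcases h1 with h1 | h1
      · exact h1
      · rw [Set.mem_singleton_iff] at h1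
        subst h1
        by_contra hne
        exact hg ⟨hn, hne⟩
    intro a _ b _
    exact comm_of_cd_subset hsub a b

end basic

end Cfsg.Agent.Lib.H1.TD
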