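import Mathlib
import Cfsg.Agent.Lib.H1.TDBasic
import Cfsg.Agent.Lib.H24.CharConj
import Cfsg.Agent.Lib.H24.CharLinearMul
import Cfsg.Agent.Lib.H24.CharKernel
import Cfsg.Agent.Lib.H24.CharCodegree
import Cfsg.Agent.Lib.L0.CharLinear

/-!
# Three character degrees: products of characters and multiplicities
-/

set_option autoImplicit false
set_option linter.unusedSectionVars false

namespace Cfsg.Agent.Lib.H1.TD

open Cfsg Cfsg.Agent.Lib.L0 Cfsg.Agent.Lib.H23 Cfsg.Agent.Lib.H24
open scoped ComplexConjugate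

universe u

section mult

variable {G : Type u} [Group G] [Fintype G]

/-- Pointwise complex conjugate. -/
def cj (a : G → ℂ) : G → ℂ := fun g => conj (a g)

@[simp] theorem cj_apply (a : G → ℂ) (g : G) : cj a g = conj (a g) := rfl

@[simp] theorem cj_cj (a : G → ℂ) : cj (cj a) = a := by
  funext g; simp

theorem isCharacter_cj {a : G → ℂ} (ha : IsCharacter G a) : IsCharacter G (cj a) :=
  isCharacter_conj ha

theorem isIrr_cj {a : G → ℂ} (ha : IsIrrCharacter G a) : IsIrrCharacter G (cj a) :=
  isIrrCharacter_conj ha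

/-- Conjugate as a bundled irreducible character. -/
noncomputable def cjIrr (χ : IrrCharacter G) : IrrCharacter G := ⟨cj (χ : G → ℂ), isIrr_cj χ.2⟩

@[simp] theorem cjIrr_coe (χ : IrrCharacter G) : (cjIrr χ : G → ℂ) = cj (χ : G → ℂ) := rfl

theorem deg_cjIrr (χ : IrrCharacter G) :
    charDegree (cjIrr χ : G → ℂ) = charDegree (χ : G → ℂ) := by
  apply charDegree_eq_of_apply_one
  rw [cjIrr_coe, cj_apply, apply_one_eq_charDegree _ χ.2]
  simp

/-- The multiplicity of an irreducible character in a character. -/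
noncomputable def mult (a : G → ℂ) (ξ : IrrCharacter G) : ℕ := ⌊(classInner a (ξ : G → ℂ)).re⌋₊

theorem mult_spec {a : G → ℂ} (ha : IsCharacter G a) (ξ : IrrCharacter G) :
    classInner a (ξ : G → ℂ) = mult a ξ := by
  obtain ⟨k, hk⟩ := classInner_char_irr_nat ha ξ.2
  unfold mult
  rw [hk]
  simp

theorem mult_spec' {a : G → ℂ} (ha : IsCharacter G a) (ξ : IrrCharacter G) :
    classInner (ξ : G → ℂ) a = mult a ξ := by
  rw [← classInner_conj_symm, mult_spec ha, Complex.conj_natCast]

theorem mult_eq_zero_iff {a : G → ℂ} (ha : IsCharacter G a) (ξ : IrrCharacter G) :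
    mult a ξ = 0 ↔ classInner a (ξ : G → ℂ) = 0 := by
  rw [mult_spec ha]
  simp

theorem mult_irr (χ ξ : IrrCharacter G) :
    mult (χ : G → ℂ) ξ = if χ = ξ then 1 else 0 := by
  have h := mult_spec (isCharacter_of_irr χ.2) ξ
  split_ifs with hχξ
  · subst hχξ
    rw [irr_classInner_self χ.2] at h
    exact_mod_cast h.symm
  · rw [irr_classInner_ne χ.2 ξ.2 (fun h' => hχξ (Subtype.ext h'))] at h
    exact_mod_cast h.symm

variable [Fintype (IrrCharacter G)]

theorem char_expand {a : G → ℂ} (ha : IsCharacter G a) (g : G) :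
    a g = ∑ ξ : IrrCharacter G, (mult a ξ : ℂ) * (ξ : G → ℂ) g := by
  have h1 := congrFun (classFunction_expansion a (isClassFunction_of_isCharacter ha)) g
  simp only [Finset.sum_apply, Pi.smul_apply, smul_eq_mul, mult_spec ha] at h1
  exact h1

theorem char_degree_sum {a : G → ℂ} (ha : IsCharacter G a) (d : ℕ) (hd : a 1 = d) :
    d = ∑ ξ : IrrCharacter G, mult a ξ * charDegree (ξ : G → ℂ) := by
  have h1 := char_expand ha 1
  rw [hd] at h1
  have h2 : ((d : ℕ) : ℂ) = ((∑ ξ : IrrCharacter G, mult a ξ * charDegree (ξ : G → ℂ) : ℕ) : ℂ) := by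
    rw [h1]
    push_cast
    refine Finset.sum_congr rfl (fun ξ _ => ?_)
    rw [apply_one_eq_charDegree _ ξ.2]
  exact_mod_cast h2

/-- Adjointness of multiplication. -/
theorem classInner_mul_adj (a b c : G → ℂ) :
    classInner (a * b) c = classInner b (cj a * c) := by
  unfold classInner
  congr 1
  refine Finset.sum_congr rfl (fun g _ => ?_)
  simp only [Pi.mul_apply, cj_apply, map_mul, Complex.conj_conj]
  ring

theorem classInner_mul_adj' (a b c : G → ℂ) :
    classInner (a * b) c = classInner a (cj b * c) := by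
  rw [mul_comm a b, classInner_mul_adj]

end mult

section linear

variable {G : Type u} [Group G] [Fintype G]

/-- The homomorphism attached to a linear irreducible character. -/
noncomputable def linHom (ξ : IrrCharacter G) (h : charDegree (ξ : G → ℂ) = 1) : G →* ℂˣ :=
  linearCharHom (isCharacter_of_irr ξ.2) ((deg_eq_one_iff ξ).mp h)

theorem linHom_apply (ξ : IrrCharacter G) (h : charDegree (ξ : G → ℂ) = 1) (g : G) :
    ((linHom ξ h g : ℂˣ) : ℂ) = (ξ : G → ℂ) g :=
  linearCharHom_apply _ _ g

/-- Product of an irreducible character with a linear one. -/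
theorem isIrr_mul_linear (χ ξ : IrrCharacter G) (h : charDegree (ξ : G → ℂ) = 1) :
    IsIrrCharacter G ((χ : G → ℂ) * (ξ : G → ℂ)) := by
  have := isIrrCharacter_mul_hom (χ : G → ℂ) χ.2 (linHom ξ h)
  convert this using 1
  funext g
  rw [Pi.mul_apply, linHom_apply]

theorem commutator_le_ker_of_linear (ξ : IrrCharacter G) (h : charDegree (ξ : G → ℂ) = 1)
    {g : G} (hg : g ∈ commutator G) : (ξ : G → ℂ) g = 1 := by
  rw [← linHom_apply ξ h, hom_apply_eq_one_of_mem_commutator _ hg]
  simp

/-- An irreducible character with the commutator subgroup in its kernel is linear. -/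
theorem deg_eq_one_of_commutator_le (ψ : IrrCharacter G)
    (h : ∀ g ∈ commutator G, (ψ : G → ℂ) g = (ψ : G → ℂ) 1) : charDegree (ψ : G → ℂ) = 1 := by
  obtain ⟨ψ', hψ'⟩ := exists_deflation ψ (commutator G) h
  have hcomm : ∀ a b : G ⧸ commutator G, a * b = b * a := by
    have := (Subgroup.Normal.quotient_commutative_iff_commutator_le (N := commutator G)).mpr le_rfl
    intro a b
    exact this.1.1 a b
  have h1 := Cfsg.Agent.Lib.L0.irr_apply_one_of_comm hcomm ψ'.2
  rw [deg_eq_one_iff]
  have := hψ' 1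
  rw [QuotientGroup.mk_one, h1] at this
  exact this.symm

end linear

end Cfsg.Agent.Lib.H1.TD
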