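import Mathlib
import Cfsg.Agent.Lib.H1.TDProd

/-!
# Three character degrees: the product trick

If `cd G = {1, m, n}` with `m < n` coprime and every nontrivial normal subgroup of `G` contains
`G'`, we reach a contradiction.
-/

set_option autoImplicit false
set_option linter.unusedSectionVars false

namespace Cfsg.Agent.Lib.H1.TD

open Cfsg Cfsg.Agent.Lib.L0 Cfsg.Agent.Lib.H23 Cfsg.Agent.Lib.H24
open scoped ComplexConjugate

universe u

/-- Hypotheses: three coprime degrees. -/
structure Hyp3 (G : Type u) [Group G] (m n : ℕ) : Prop where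
  h1m : 1 < m
  hmn : m < n
  hcop : Nat.Coprime m n
  hcd : cd G ⊆ {1, m, n}

section

variable {G : Type u} [Group G] [Fintype G] [Fintype (IrrCharacter G)] {m n : ℕ}

local notation "deg" => fun ξ : IrrCharacter G => charDegree (ξ : G → ℂ)

theorem Hyp3.deg_cases (H : Hyp3 G m n) (ξ : IrrCharacter G) :
    charDegree (ξ : G → ℂ) = 1 ∨ charDegree (ξ : G → ℂ) = m ∨ charDegree (ξ : G → ℂ) = n := by
  have := H.hcd (deg_mem_cd ξ)
  simpa using this

theorem Hyp3.deg_sum_split (H : Hyp3 G m n) (c : IrrCharacter G → ℕ) :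
    ∑ ξ : IrrCharacter G, c ξ * charDegree (ξ : G → ℂ) =
      (∑ ξ : IrrCharacter G, if charDegree (ξ : G → ℂ) = 1 then c ξ else 0) +
      m * (∑ ξ : IrrCharacter G, if charDegree (ξ : G → ℂ) = m then c ξ else 0) +
      n * (∑ ξ : IrrCharacter G, if charDegree (ξ : G → ℂ) = n then c ξ else 0) := by
  classical
  rw [Finset.mul_sum, Finset.mul_sum, ← Finset.sum_add_distrib, ← Finset.sum_add_distrib]
  refine Finset.sum_congr rfl (fun ξ _ => ?_)
  have h1m := H.h1m
  have hmn := H.hmn
  rcases H.deg_cases ξ with h | h | h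
  · rw [h, if_pos rfl, if_neg (by omega), if_neg (by omega)]; ring
  · rw [h, if_neg (by omega), if_pos rfl, if_neg (by omega)]; ring
  · rw [h, if_neg (by omega), if_neg (by omega), if_pos rfl]; ring

theorem one_apply_eq (ξ : IrrCharacter G) : (ξ : G → ℂ) 1 = (charDegree (ξ : G → ℂ) : ℂ) :=
  apply_one_eq_charDegree _ ξ.2

/-- Step 1: two degree-`m` characters not related by a linear twist. -/
theorem Hyp3.step1 (H : Hyp3 G m n) (χ χ' : IrrCharacter G)
    (hχ : charDegree (χ : G → ℂ) = m) (hχ' : charDegree (χ' : G → ℂ) = m)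
    (hno : ∀ ξ : IrrCharacter G, charDegree (ξ : G → ℂ) = 1 →
      (χ' : G → ℂ) ≠ (χ : G → ℂ) * (ξ : G → ℂ))
    (ψ : IrrCharacter G) (hψ : charDegree (ψ : G → ℂ) = n) :
    mult (cj (χ : G → ℂ) * (χ' : G → ℂ)) ψ = 0 := by
  classical
  set a : G → ℂ := cj (χ : G → ℂ) * (χ' : G → ℂ) with ha_def
  have ha : IsCharacter G a :=
    isCharacter_mul (isCharacter_cj (isCharacter_of_irr χ.2)) (isCharacter_of_irr χ'.2)
  have ha1 : a 1 = ((m * m : ℕ) : ℂ) := by
    rw [ha_def, Pi.mul_apply, cj_apply, one_apply_eq, one_apply_eq, hχ, hχ']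
    simp
  have hlin : ∀ ξ : IrrCharacter G, charDegree (ξ : G → ℂ) = 1 → mult a ξ = 0 := by
    intro ξ hξ
    rw [mult_eq_zero_iff ha, ha_def, classInner_mul_adj, cj_cj]
    exact irr_classInner_ne χ'.2 (isIrr_mul_linear χ ξ hξ) (hno ξ hξ)
  have hsum := char_degree_sum ha (m * m) ha1
  rw [H.deg_sum_split] at hsum
  have hL : (∑ ξ : IrrCharacter G, if charDegree (ξ : G → ℂ) = 1 then mult a ξ else 0) = 0 := by
    apply Finset.sum_eq_zero
    intro ξ _
    split_ifs with h
    · exact hlin ξ h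
    · rfl
  rw [hL, zero_add] at hsum
  set X := ∑ ξ : IrrCharacter G, if charDegree (ξ : G → ℂ) = m then mult a ξ else 0 with hX
  set Y := ∑ ξ : IrrCharacter G, if charDegree (ξ : G → ℂ) = n then mult a ξ else 0 with hY
  have hY0 : Y = 0 := by
    have hdvd : m ∣ n * Y := by
      have : m ∣ m * m := Dvd.intro _ rfl
      rw [hsum] at this
      exact (Nat.dvd_add_right (Dvd.intro _ rfl)).mp this
    have hdvd' : m ∣ Y := H.hcop.dvd_of_dvd_mul_left hdvd
    by_contra hne
    have hYm : m ≤ Y := Nat.le_of_dvd (Nat.pos_of_ne_zero hne) hdvd'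
    have h1 : n * m ≤ n * Y := Nat.mul_le_mul_left n hYm
    have h2 : m * m < n * m := Nat.mul_lt_mul_of_pos_right H.hmn (by have := H.h1m; omega)
    have h3 : n * Y ≤ m * m := by rw [hsum]; exact Nat.le_add_left _ _
    omega
  have := (Finset.sum_eq_zero_iff.mp hY0) ψ (Finset.mem_univ ψ)
  rw [if_pos hψ] at this
  exact this

/-- An irreducible character with nontrivial kernel is linear, when every nontrivial normal
subgroup contains the commutator subgroup. -/
theorem deg_eq_one_of_ker_ne_bot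
    (hmin : ∀ L : Subgroup G, L.Normal → L ≠ ⊥ → commutator G ≤ L)
    (ψ : IrrCharacter G) (g : G) (hg : g ≠ 1) (hgk : (ψ : G → ℂ) g = (ψ : G → ℂ) 1) :
    charDegree (ψ : G → ℂ) = 1 := by
  apply deg_eq_one_of_commutator_le
  have hK : irrKer ψ ≠ ⊥ := by
    intro h
    have : g ∈ irrKer ψ := hgk
    rw [h, Subgroup.mem_bot] at this
    exact hg this
  intro x hx
  exact hmin (irrKer ψ) inferInstance hK hx

/-- Step 2: `ψ` of degree `n` is not a constituent of `χ̄ χ` for `χ` of degree `m`. -/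
theorem Hyp3.step2 (H : Hyp3 G m n)
    (hmin : ∀ L : Subgroup G, L.Normal → L ≠ ⊥ → commutator G ≤ L)
    (χ ψ : IrrCharacter G) (hχ : charDegree (χ : G → ℂ) = m) (hψ : charDegree (ψ : G → ℂ) = n) :
    mult (cj (χ : G → ℂ) * (χ : G → ℂ)) ψ = 0 := by
  classical
  have h1m := H.h1m
  have hmn := H.hmn
  by_contra hc
  set b : G → ℂ := (χ : G → ℂ) * (ψ : G → ℂ) with hb_def
  have hb : IsCharacter G b := isCharacter_mul (isCharacter_of_irr χ.2) (isCharacter_of_irr ψ.2)
  have hb1 : b 1 = ((m * n : ℕ) : ℂ) := by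
    rw [hb_def, Pi.mul_apply, one_apply_eq, one_apply_eq, hχ, hψ]
    simp
  have hcjχ : IsCharacter G (cj (χ : G → ℂ)) := isCharacter_cj (isCharacter_of_irr χ.2)
  -- multiplicities of b
  have hbmult : ∀ ξ : IrrCharacter G, mult b ξ = mult (cj (χ : G → ℂ) * (ξ : G → ℂ)) ψ := by
    intro ξ
    have h1 : classInner b (ξ : G → ℂ) = classInner (ψ : G → ℂ) (cj (χ : G → ℂ) * (ξ : G → ℂ)) := by
      rw [hb_def, classInner_mul_adj]
    have h2 := mult_spec hb ξ
    have h3 := mult_spec' (isCharacter_mul hcjχ (isCharacter_of_irr ξ.2)) ψ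
    rw [h1, h3] at h2
    exact_mod_cast h2.symm
  have hbχ : mult b χ ≠ 0 := by rw [hbmult]; exact hc
  have hlin : ∀ ξ : IrrCharacter G, charDegree (ξ : G → ℂ) = 1 → mult b ξ = 0 := by
    intro ξ hξ
    rw [hbmult]
    have hirr : IsIrrCharacter G (cj (χ : G → ℂ) * (ξ : G → ℂ)) := isIrr_mul_linear (cjIrr χ) ξ hξ
    have hne : (⟨_, hirr⟩ : IrrCharacter G) ≠ ψ := by
      intro h
      have h1 : charDegree (cj (χ : G → ℂ) * (ξ : G → ℂ)) = n := by
        have := congrArg (fun ζ : IrrCharacter G => charDegree (ζ : G → ℂ)) h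
        simp only at this
        rw [this, hψ]
      have h2 : charDegree (cj (χ : G → ℂ) * (ξ : G → ℂ)) = m := by
        apply charDegree_eq_of_apply_one
        rw [Pi.mul_apply, cj_apply, one_apply_eq, one_apply_eq, hχ, hξ]
        simp
      omega
    have := mult_irr (⟨_, hirr⟩ : IrrCharacter G) ψ
    rw [if_neg hne] at this
    exact this
  have hsum := char_degree_sum hb (m * n) hb1
  rw [H.deg_sum_split] at hsum
  have hL : (∑ ξ : IrrCharacter G, if charDegree (ξ : G → ℂ) = 1 then mult b ξ else 0) = 0 := by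
    apply Finset.sum_eq_zero
    intro ξ _
    split_ifs with h
    · exact hlin ξ h
    · rfl
  rw [hL, zero_add] at hsum
  set X := ∑ ξ : IrrCharacter G, if charDegree (ξ : G → ℂ) = m then mult b ξ else 0 with hX
  set Y := ∑ ξ : IrrCharacter G, if charDegree (ξ : G → ℂ) = n then mult b ξ else 0 with hY
  have hXpos : 0 < X := by
    have h1 : (if charDegree (χ : G → ℂ) = m then mult b χ else 0) ≤ X :=
      Finset.single_le_sum (f := fun ξ : IrrCharacter G =>
        if charDegree (ξ : G → ℂ) = m then mult b ξ else 0) (fun _ _ => Nat.zero_le _)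
        (Finset.mem_univ χ)
    rw [if_pos hχ] at h1
    exact lt_of_lt_of_le (Nat.pos_of_ne_zero hbχ) h1
  have hXn : X = n ∧ Y = 0 := by
    have hdvd : n ∣ m * X := by
      have : n ∣ m * n := Dvd.intro_left _ rfl
      rw [hsum] at this
      exact (Nat.dvd_add_left (Dvd.intro _ rfl)).mp this
    have hdvd' : n ∣ X := H.hcop.symm.dvd_of_dvd_mul_left hdvd
    have hXn : n ≤ X := Nat.le_of_dvd hXpos hdvd'
    have h1 : m * n ≤ m * X := Nat.mul_le_mul_left m hXn
    have h2 : m * X ≤ m * n := by rw [hsum]; exact Nat.le_add_right _ _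
    have h3 : m * X = m * n := le_antisymm h2 h1
    have h4 : X = n := Nat.eq_of_mul_eq_mul_left (by omega) h3
    refine ⟨h4, ?_⟩
    have h5 : n * Y = 0 := by omega
    rcases Nat.mul_eq_zero.mp h5 with h | h
    · omega
    · exact h
  obtain ⟨hXeq, hY0⟩ := hXn
  have hn0 : ∀ ξ : IrrCharacter G, charDegree (ξ : G → ℂ) = n → mult b ξ = 0 := by
    intro ξ hξ
    have := (Finset.sum_eq_zero_iff.mp hY0) ξ (Finset.mem_univ ξ)
    rw [if_pos hξ] at this
    exact this
  -- constituents of b of degree m are linear twists of χ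
  have htwist : ∀ ξ : IrrCharacter G, mult b ξ ≠ 0 → ∀ g ∈ commutator G,
      (ξ : G → ℂ) g = (χ : G → ℂ) g := by
    intro ξ hξ g hg
    have hdeg : charDegree (ξ : G → ℂ) = m := by
      rcases H.deg_cases ξ with h | h | h
      · exact absurd (hlin ξ h) hξ
      · exact h
      · exact absurd (hn0 ξ h) hξ
    by_contra hne
    apply hξ
    rw [hbmult]
    apply H.step1 χ ξ hχ hdeg _ ψ hψ
    intro ζ hζ heq
    apply hne
    rw [heq, Pi.mul_apply, commutator_le_ker_of_linear ζ hζ hg, mul_one]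
  -- on the commutator subgroup, b = n χ
  have hbg : ∀ g ∈ commutator G, b g = (n : ℂ) * (χ : G → ℂ) g := by
    intro g hg
    rw [char_expand hb g]
    have h1 : ∀ ξ : IrrCharacter G, (mult b ξ : ℂ) * (ξ : G → ℂ) g =
        ((if charDegree (ξ : G → ℂ) = m then mult b ξ else 0 : ℕ) : ℂ) * (χ : G → ℂ) g := by
      intro ξ
      by_cases hξ : mult b ξ = 0
      · rw [hξ]; simp
      · have hdeg : charDegree (ξ : G → ℂ) = m := by
          rcases H.deg_cases ξ with h | h | h
          · exact absurd (hlin ξ h) hξ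
          · exact h
          · exact absurd (hn0 ξ h) hξ
        rw [if_pos hdeg, htwist ξ hξ g hg]
    rw [Finset.sum_congr rfl (fun ξ _ => h1 ξ), ← Finset.sum_mul]
    congr 1
    rw [← hXeq, hX]
    push_cast
    rfl
  -- hence χ vanishes on the nonidentity elements of the commutator subgroup
  have hψn1 : charDegree (ψ : G → ℂ) ≠ 1 := by omega
  have hvan : ∀ g ∈ commutator G, g ≠ 1 → (χ : G → ℂ) g = 0 := by
    intro g hg hg1
    by_contra hne
    have h1 := hbg g hg
    rw [hb_def, Pi.mul_apply, mul_comm] at h1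
    have h2 : (ψ : G → ℂ) g = (n : ℂ) := mul_right_cancel₀ hne h1
    apply hψn1
    apply deg_eq_one_of_ker_ne_bot hmin ψ g hg1
    rw [h2, one_apply_eq, hψ]
  -- contradiction with the vanishing of the sum over the commutator subgroup
  have hχn1 : charDegree (χ : G → ℂ) ≠ 1 := by omega
  have hex : ∃ x ∈ commutator G, (χ : G → ℂ) x ≠ (χ : G → ℂ) 1 := by
    by_contra hcon
    push Not at hcon
    exact hχn1 (deg_eq_one_of_commutator_le χ hcon)
  have hzero := irr_sum_normal_mul_eq_zero χ (commutator G) hex 1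
  simp only [one_mul] at hzero
  rw [Finset.sum_eq_single (1 : commutator G)] at hzero
  · have h1 : (χ : G → ℂ) 1 ≠ 0 := irr_one_ne_zero χ
    exact h1 hzero
  · intro x _ hx
    apply hvan x x.2
    intro h
    apply hx
    exact Subtype.ext h
  · intro h
    exact absurd (Finset.mem_univ _) h

end

end Cfsg.Agent.Lib.H1.TD
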