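import Mathlib
import Cfsg.Agent.Lib.H1.TDClosure

/-!
# Three character degrees: the product trick, conclusion
-/

set_option autoImplicit false
set_option linter.unusedSectionVars false

namespace Cfsg.Agent.Lib.H1.TD

open Cfsg Cfsg.Agent.Lib.L0 Cfsg.Agent.Lib.H23 Cfsg.Agent.Lib.H24
open scoped ComplexConjugate

universe u

section

variable {G : Type u} [Group G] [Fintype G] [Fintype (IrrCharacter G)] {m n : ℕ}

theorem mult_eq_zero_of_irr_deg_ne {a : G → ℂ} (ha : IsIrrCharacter G a) (ψ : IrrCharacter G)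
    (h : charDegree a ≠ charDegree (ψ : G → ℂ)) : mult a ψ = 0 := by
  have := mult_irr (⟨a, ha⟩ : IrrCharacter G) ψ
  rw [if_neg] at this
  · exact this
  · intro heq
    apply h
    rw [← heq]

theorem deg_mul (a b : IrrCharacter G) :
    charDegree ((a : G → ℂ) * (b : G → ℂ)) =
      charDegree (a : G → ℂ) * charDegree (b : G → ℂ) := by
  apply charDegree_eq_of_apply_one
  rw [Pi.mul_apply, one_apply_eq, one_apply_eq]
  push_cast
  rfl

theorem deg_cj_mul (a b : IrrCharacter G) :
    charDegree (cj (a : G → ℂ) * (b : G → ℂ)) =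
      charDegree (a : G → ℂ) * charDegree (b : G → ℂ) := by
  have := deg_mul (cjIrr a) b
  rw [deg_cjIrr] at this
  exact this

/-- Closure of the set of characters of degree `≠ n` under `ξ̄ η`. -/
theorem Hyp3.closed (H : Hyp3 G m n)
    (hmin : ∀ L : Subgroup G, L.Normal → L ≠ ⊥ → commutator G ≤ L)
    (ξ η ψ : IrrCharacter G) (hξ : charDegree (ξ : G → ℂ) ≠ n) (hη : charDegree (η : G → ℂ) ≠ n)
    (hψ : charDegree (ψ : G → ℂ) = n) : mult (cj (ξ : G → ℂ) * (η : G → ℂ)) ψ = 0 := by
  classical
  have h1m := H.h1m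
  have hmn := H.hmn
  rcases H.deg_cases ξ with h1 | h1 | h1
  · -- ξ linear
    have hirr : IsIrrCharacter G (cj (ξ : G → ℂ) * (η : G → ℂ)) := by
      rw [mul_comm]
      exact isIrr_mul_linear η (cjIrr ξ) (by rw [deg_cjIrr]; exact h1)
    apply mult_eq_zero_of_irr_deg_ne hirr
    have := deg_cj_mul ξ η
    rw [h1, one_mul] at this
    rw [this, hψ]
    exact hη
  · rcases H.deg_cases η with h2 | h2 | h2
    · have hirr : IsIrrCharacter G (cj (ξ : G → ℂ) * (η : G → ℂ)) :=
        isIrr_mul_linear (cjIrr ξ) η h2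
      apply mult_eq_zero_of_irr_deg_ne hirr
      have := deg_cj_mul ξ η
      rw [h1, h2, mul_one] at this
      rw [this, hψ]
      omega
    · by_cases hex : ∃ ζ : IrrCharacter G, charDegree (ζ : G → ℂ) = 1 ∧
          (η : G → ℂ) = (ξ : G → ℂ) * (ζ : G → ℂ)
      · obtain ⟨ζ, hζ, heq⟩ := hex
        have ha : IsCharacter G (cj (ξ : G → ℂ) * (η : G → ℂ)) :=
          isCharacter_mul (isCharacter_cj (isCharacter_of_irr ξ.2)) (isCharacter_of_irr η.2)
        rw [mult_eq_zero_iff ha, heq, ← mul_assoc, classInner_mul_adj']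
        have hirr : IsIrrCharacter G (cj (ζ : G → ℂ) * (ψ : G → ℂ)) := by
          rw [mul_comm]
          exact isIrr_mul_linear ψ (cjIrr ζ) (by rw [deg_cjIrr]; exact hζ)
        have hdeg : charDegree (cj (ζ : G → ℂ) * (ψ : G → ℂ)) = n := by
          have := deg_cj_mul ζ ψ
          rw [hζ, one_mul, hψ] at this
          exact this
        have h0 := H.step2 hmin ξ ⟨_, hirr⟩ h1 hdeg
        have ha' : IsCharacter G (cj (ξ : G → ℂ) * (ξ : G → ℂ)) :=
          isCharacter_mul (isCharacter_cj (isCharacter_of_irr ξ.2)) (isCharacter_of_irr ξ.2)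
        rw [mult_eq_zero_iff ha'] at h0
        exact h0
      · push Not at hex
        exact H.step1 ξ η h1 h2 (fun ζ hζ => hex ζ hζ) ψ hψ
    · exact absurd h2 hη
  · exact absurd h1 hξ

/-- The weighted sum of the irreducible characters of degree `≠ n`. -/
noncomputable def Theta (n : ℕ) : G → ℂ :=
  ∑ ξ : IrrCharacter G, if charDegree (ξ : G → ℂ) = n then 0 else ((ξ : G → ℂ) 1) • (ξ : G → ℂ)

omit [Fintype G] in
theorem Theta_apply (n : ℕ) (g : G) : Theta n g =
    ∑ ξ : IrrCharacter G, if charDegree (ξ : G → ℂ) = n then 0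
      else (ξ : G → ℂ) 1 * (ξ : G → ℂ) g := by
  unfold Theta
  rw [Finset.sum_apply]
  refine Finset.sum_congr rfl (fun ξ _ => ?_)
  split_ifs <;> simp

theorem isClassFunction_Theta (n : ℕ) : IsClassFunction G (Theta (G := G) n) := by
  unfold Theta
  apply isClassFunction_sum
  intro ξ _
  split_ifs
  · exact isClassFunction_zero
  · exact isClassFunction_smul _ (isClassFunction_irr ξ)

theorem classInner_Theta_right (n : ℕ) {c : G → ℂ} (hc : IsCharacter G c) :
    classInner (Theta (G := G) n) c =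
      ∑ ξ : IrrCharacter G, if charDegree (ξ : G → ℂ) = n then 0
        else (ξ : G → ℂ) 1 * (mult c ξ : ℂ) := by
  unfold Theta
  rw [classInner_sum_left]
  refine Finset.sum_congr rfl (fun ξ _ => ?_)
  split_ifs
  · exact classInner_zero_left _
  · rw [classInner_smul_left, mult_spec' hc]

theorem classInner_Theta_irr (n : ℕ) (η : IrrCharacter G) :
    classInner (Theta (G := G) n) (η : G → ℂ) =
      if charDegree (η : G → ℂ) = n then 0 else (η : G → ℂ) 1 := by
  classical
  rw [classInner_Theta_right n (isCharacter_of_irr η.2)]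
  rw [Finset.sum_eq_single η]
  · rw [mult_irr, if_pos rfl]
    split_ifs <;> simp
  · intro ξ _ hξ
    have h0 : mult (η : G → ℂ) ξ = 0 := by
      rw [mult_irr]
      exact if_neg (fun h => hξ h.symm)
    rw [h0]
    split_ifs <;> simp
  · intro h
    exact absurd (Finset.mem_univ η) h

/-- `Θ χ = χ(1) Θ` for `χ` of degree `≠ n`. -/
theorem Hyp3.Theta_mul (H : Hyp3 G m n)
    (hmin : ∀ L : Subgroup G, L.Normal → L ≠ ⊥ → commutator G ≤ L)
    (χ : IrrCharacter G) (hχ : charDegree (χ : G → ℂ) ≠ n) (g : G) :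
    Theta n g * (χ : G → ℂ) g = (χ : G → ℂ) 1 * Theta n g := by
  classical
  have hcl : IsClassFunction G (Theta (G := G) n * (χ : G → ℂ) - ((χ : G → ℂ) 1) • Theta n) := by
    apply isClassFunction_sub
    · intro x y
      rw [Pi.mul_apply, Pi.mul_apply, isClassFunction_Theta n x y, isClassFunction_irr χ x y]
    · exact isClassFunction_smul _ (isClassFunction_Theta n)
  have hzero : Theta (G := G) n * (χ : G → ℂ) - ((χ : G → ℂ) 1) • Theta n = 0 := by
    apply eq_zero_of_forall_classInner_irr_eq_zero _ hcl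
    intro η
    rw [classInner_sub_left, classInner_smul_left, classInner_Theta_irr, classInner_mul_adj']
    have hc : IsCharacter G (cj (χ : G → ℂ) * (η : G → ℂ)) :=
      isCharacter_mul (isCharacter_cj (isCharacter_of_irr χ.2)) (isCharacter_of_irr η.2)
    rw [classInner_Theta_right n hc]
    by_cases hη : charDegree (η : G → ℂ) = n
    · rw [if_pos hη, mul_zero, sub_zero]
      apply Finset.sum_eq_zero
      intro ξ _
      split_ifs with hξ
      · rfl
      · -- mult (χ̄ η) ξ = mult (χ ξ) η = 0 by closure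
        have h1 : classInner (cj (χ : G → ℂ) * (η : G → ℂ)) (ξ : G → ℂ) =
            classInner (η : G → ℂ) ((χ : G → ℂ) * (ξ : G → ℂ)) := by
          rw [classInner_mul_adj, cj_cj]
        have hc' : IsCharacter G ((χ : G → ℂ) * (ξ : G → ℂ)) :=
          isCharacter_mul (isCharacter_of_irr χ.2) (isCharacter_of_irr ξ.2)
        have h2 := H.closed hmin (cjIrr χ) ξ η (by rw [deg_cjIrr]; exact hχ) hξ hη
        rw [cjIrr_coe, cj_cj] at h2
        have h3 : mult (cj (χ : G → ℂ) * (η : G → ℂ)) ξ = 0 := by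
          rw [mult_eq_zero_iff hc, h1, mult_spec' hc', h2]
          simp
        rw [h3]
        simp
    · rw [if_neg hη]
      have h1 : (∑ ξ : IrrCharacter G, if charDegree (ξ : G → ℂ) = n then (0 : ℂ)
          else (ξ : G → ℂ) 1 * (mult (cj (χ : G → ℂ) * (η : G → ℂ)) ξ : ℂ)) =
          ∑ ξ : IrrCharacter G, (mult (cj (χ : G → ℂ) * (η : G → ℂ)) ξ : ℂ) * (ξ : G → ℂ) 1 := by
        refine Finset.sum_congr rfl (fun ξ _ => ?_)
        split_ifs with hξ
        · rw [H.closed hmin χ η ξ hχ hη hξ]
          simp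
        · ring
      rw [h1, ← char_expand hc 1, Pi.mul_apply, cj_apply, one_apply_eq χ]
      simp
  have := congrFun hzero g
  simp only [Pi.sub_apply, Pi.mul_apply, Pi.smul_apply, smul_eq_mul, Pi.zero_apply] at this
  exact sub_eq_zero.mp this

/-- The product trick: three coprime degrees are impossible when every nontrivial normal
subgroup contains the commutator subgroup. -/
theorem Hyp3.contra (H : Hyp3 G m n)
    (hmin : ∀ L : Subgroup G, L.Normal → L ≠ ⊥ → commutator G ≤ L)
    (hm : m ∈ cd G) (hn : n ∈ cd G) : False := by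
  classical
  have h1m := H.h1m
  have hmn := H.hmn
  obtain ⟨χ, hχ⟩ := hm
  obtain ⟨ψ, hψ⟩ := hn
  -- M = intersection of kernels of the characters of degree ≠ n
  by_cases hM : ∃ g : G, g ≠ 1 ∧ ∀ ξ : IrrCharacter G, charDegree (ξ : G → ℂ) ≠ n →
      (ξ : G → ℂ) g = (ξ : G → ℂ) 1
  · obtain ⟨g, hg1, hg⟩ := hM
    have := deg_eq_one_of_ker_ne_bot hmin χ g hg1 (hg χ (by omega))
    omega
  · push Not at hM
    have hvan : ∀ g : G, g ≠ 1 → Theta (G := G) n g = 0 := by
      intro g hg1
      obtain ⟨ξ, hξ, hne⟩ := hM g hg1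
      have h1 := H.Theta_mul hmin ξ hξ g
      have h2 : Theta (G := G) n g * ((ξ : G → ℂ) g - (ξ : G → ℂ) 1) = 0 := by
        rw [mul_sub, h1]; ring
      rcases mul_eq_zero.mp h2 with h | h
      · exact h
      · exact absurd (sub_eq_zero.mp h) hne
    have h0 := classInner_Theta_irr n ψ
    rw [if_pos hψ] at h0
    unfold classInner at h0
    rw [Finset.sum_eq_single (1 : G)] at h0
    · have hG : (Nat.card G : ℂ)⁻¹ ≠ 0 := by
        apply inv_ne_zero
        exact_mod_cast (Nat.card_pos (α := G)).ne'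
      have hψ1 : conj ((ψ : G → ℂ) 1) ≠ 0 := by
        rw [one_apply_eq]
        simp only [map_natCast, ne_eq, Nat.cast_eq_zero]
        omega
      have hΘ1 : Theta (G := G) n 1 ≠ 0 := by
        rw [Theta_apply]
        have hre : ∀ ξ : IrrCharacter G, (if charDegree (ξ : G → ℂ) = n then (0 : ℂ)
            else (ξ : G → ℂ) 1 * (ξ : G → ℂ) 1) =
            ((if charDegree (ξ : G → ℂ) = n then 0
              else charDegree (ξ : G → ℂ) * charDegree (ξ : G → ℂ) : ℕ) : ℂ) := by
          intro ξ
          split_ifs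
          · simp
          · rw [one_apply_eq]; push_cast; rfl
        rw [Finset.sum_congr rfl (fun ξ _ => hre ξ), ← Nat.cast_sum]
        have hpos : 0 < ∑ ξ : IrrCharacter G, (if charDegree (ξ : G → ℂ) = n then 0
            else charDegree (ξ : G → ℂ) * charDegree (ξ : G → ℂ) : ℕ) := by
          apply Finset.sum_pos'
          · intro _ _; exact Nat.zero_le _
          · refine ⟨χ, Finset.mem_univ _, ?_⟩
            rw [if_neg (by omega), hχ]
            positivity
        exact_mod_cast hpos.ne'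
      rcases mul_eq_zero.mp h0 with h | h
      · exact hG h
      · rcases mul_eq_zero.mp h with h' | h'
        · exact hΘ1 h'
        · exact hψ1 h'
    · intro g _ hg
      rw [hvan g hg, zero_mul]
    · intro h
      exact absurd (Finset.mem_univ _) h

end

end Cfsg.Agent.Lib.H1.TD
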