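import Mathlib

/-!
# Three character degrees: a fixed-point-free action is coprime

If `N / M` is a nontrivial group of exponent `q` on which every element outside `N` acts without
nontrivial fixed points, then `q ∤ |G : N|`.
-/

set_option autoImplicit false
set_option linter.unusedSectionVars false

namespace Cfsg.Agent.Lib.H1.TD

section

variable {G : Type*} [Group G] [Finite G]

theorem not_dvd_index_of_fpf (M N : Subgroup G) [hM : M.Normal] [hN : N.Normal]
    (hMN : M ≤ N) (hne : M ≠ N)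
    (hfp : ∀ g, g ∉ N → ∀ n ∈ N, g * n * g⁻¹ * n⁻¹ ∈ M → n ∈ M)
    (q : ℕ) (hq : q.Prime) (hexp : ∀ a ∈ N, a ^ q ∈ M) : ¬ q ∣ N.index := by
  classical
  intro hdvd
  haveI : Fact q.Prime := ⟨hq⟩
  rw [Subgroup.index_eq_card] at hdvd
  obtain ⟨xb, hxb⟩ := exists_prime_orderOf_dvd_card' q hdvd
  obtain ⟨g, rfl⟩ := QuotientGroup.mk_surjective xb
  have hgN : g ∉ N := by
    intro hg
    have h1 : (QuotientGroup.mk g : G ⧸ N) = 1 := (QuotientGroup.eq_one_iff g).mpr hg
    rw [h1, orderOf_one] at hxb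
    exact hq.one_lt.ne hxb
  have hgq : g ^ q ∈ N := by
    rw [← QuotientGroup.eq_one_iff, QuotientGroup.mk_pow, ← hxb]
    exact pow_orderOf_eq_one _
  have hmem : ∀ x : G, x ∈ M ↔ QuotientGroup.mk' M x = 1 := by
    intro x
    exact (QuotientGroup.eq_one_iff x).symm
  have hmk : Function.Surjective (QuotientGroup.mk' M) := QuotientGroup.mk'_surjective M
  set V : Subgroup (G ⧸ M) := N.map (QuotientGroup.mk' M) with hV
  haveI hVn : V.Normal := Subgroup.Normal.map hN _ hmk
  set y : G ⧸ M := QuotientGroup.mk' M g with hy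
  have hyqq : y ^ (q ^ 2) = 1 := by
    rw [hy, ← map_pow, ← hmem, pow_two, pow_mul]
    exact hexp _ hgq
  set Z : Subgroup (G ⧸ M) := Subgroup.zpowers y with hZ
  have hZp : IsPGroup q Z := by
    intro z
    refine ⟨2, ?_⟩
    obtain ⟨z, hz⟩ := z
    obtain ⟨i, rfl⟩ := Subgroup.mem_zpowers_iff.mp hz
    apply Subtype.ext
    rw [Subgroup.coe_pow, Subgroup.coe_one]
    show (y ^ i) ^ (q ^ 2) = 1
    rw [← zpow_natCast, ← zpow_mul, mul_comm, zpow_mul, zpow_natCast, hyqq, one_zpow]
  letI act : MulAction Z V :=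
    MulAction.compHom V ((MulAut.conjNormal (H := V)).comp Z.subtype)
  have hVp : IsPGroup q V := by
    intro v
    refine ⟨1, ?_⟩
    obtain ⟨v, hv⟩ := v
    obtain ⟨a, ha, rfl⟩ := Subgroup.mem_map.mp hv
    apply Subtype.ext
    rw [Subgroup.coe_pow, Subgroup.coe_one, pow_one]
    show (QuotientGroup.mk' M a) ^ q = 1
    rw [← map_pow, ← hmem]
    exact hexp a ha
  have hVcard : q ∣ Nat.card V := by
    rcases hVp.card_eq_or_dvd with h1 | h1
    · exfalso
      obtain ⟨a, haN, haM⟩ := SetLike.exists_of_lt (lt_of_le_of_ne hMN hne)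
      have hVbot : V = ⊥ := Subgroup.card_eq_one.mp h1
      have : QuotientGroup.mk' M a ∈ V := Subgroup.mem_map_of_mem _ haN
      rw [hVbot, Subgroup.mem_bot, ← hmem] at this
      exact haM this
    · exact h1
  have h1fix : (1 : V) ∈ MulAction.fixedPoints Z V := by
    intro z
    show (MulAut.conjNormal (H := V) (z : G ⧸ M)) 1 = 1
    exact map_one _
  obtain ⟨b, hbfix, hb1⟩ := hZp.exists_fixed_point_of_prime_dvd_card_of_fixed_point V hVcard h1fix
  apply hb1
  have hyb : y * (b : G ⧸ M) * y⁻¹ = (b : G ⧸ M) := by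
    have := hbfix ⟨y, Subgroup.mem_zpowers y⟩
    have h2 : ((MulAut.conjNormal (H := V) y) b : G ⧸ M) = (b : G ⧸ M) := congrArg Subtype.val this
    rw [MulAut.conjNormal_apply] at h2
    exact h2
  obtain ⟨b, hbV⟩ := b
  obtain ⟨n, hnN, rfl⟩ := Subgroup.mem_map.mp hbV
  have hnM : n ∈ M := by
    apply hfp g hgN n hnN
    rw [hmem, map_mul, map_mul, map_mul, map_inv, map_inv]
    show y * _ * y⁻¹ * _ = 1
    rw [hyb]
    exact mul_inv_cancel _
  symm
  apply Subtype.ext
  show QuotientGroup.mk' M n = 1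
  exact (hmem n).mp hnM

end

end Cfsg.Agent.Lib.H1.TD
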