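import Mathlib
import Cfsg.Agent.Lib.H26.DegGraphA

/-!
# Three character degrees: the maximal normal subgroup with nonabelian quotient

A variant of `Cfsg.Agent.Lib.H26.DegGraph.exists_normal_pgroup_or_frobenius` (helper26) in which the
solvability of `G` is replaced by the solvability of the chosen quotient, supplied by the caller.
-/

set_option autoImplicit false
set_option linter.unusedSectionVars false

namespace Cfsg.Agent.Lib.H1.TD

open Cfsg.Agent.Lib.H26.DegGraph

section

variable {G : Type*} [Group G] [Finite G]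

/-- A nonabelian finite group has a normal subgroup `M` with `G ⧸ M` nonabelian and
`UniqueMinComm (G ⧸ M)`. -/
theorem exists_normal_umc (hG : commutator G ≠ ⊥) :
    ∃ M : Subgroup G, ∃ _ : M.Normal, ¬ commutator G ≤ M ∧ UniqueMinComm (G ⧸ M) := by
  classical
  let S : Set (Subgroup G) := {M | M.Normal ∧ ¬ commutator G ≤ M}
  have hSne : S.Nonempty := ⟨⊥, inferInstance, fun hle => hG (le_bot_iff.mp hle)⟩
  obtain ⟨M, hM⟩ := (Set.toFinite S).exists_maximal hSne
  obtain ⟨⟨hMn, hMc⟩, hMmax⟩ := hM
  haveI := hMn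
  refine ⟨M, hMn, hMc, ?_⟩
  have hmk : Function.Surjective (QuotientGroup.mk' M) := QuotientGroup.mk'_surjective M
  have hcommQ : commutator (G ⧸ M) = (commutator G).map (QuotientGroup.mk' M) := by
    rw [commutator_def, commutator_def, Subgroup.map_commutator,
      Subgroup.map_top_of_surjective _ hmk]
  have hmem : ∀ x : G, x ∈ M ↔ QuotientGroup.mk' M x = 1 := by
    intro x
    exact (QuotientGroup.eq_one_iff x).symm
  constructor
  · intro hbot
    apply hMc
    intro x hx
    rw [hmem]
    have : QuotientGroup.mk' M x ∈ commutator (G ⧸ M) := by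
      rw [hcommQ]; exact Subgroup.mem_map_of_mem _ hx
    rw [hbot, Subgroup.mem_bot] at this
    exact this
  · intro K hKn hKne
    haveI := hKn
    have hK'n : (K.comap (QuotientGroup.mk' M)).Normal := inferInstance
    have hMK : M ≤ K.comap (QuotientGroup.mk' M) := by
      intro x hx
      rw [Subgroup.mem_comap, (hmem x).mp hx]
      exact K.one_mem
    have hle : commutator G ≤ K.comap (QuotientGroup.mk' M) := by
      by_contra hnot
      have := hMmax (show K.comap (QuotientGroup.mk' M) ∈ S from ⟨hK'n, hnot⟩) hMK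
      apply hKne
      rw [eq_bot_iff]
      intro y hy
      obtain ⟨x, rfl⟩ := hmk y
      rw [Subgroup.mem_bot]
      exact (hmem x).mp (this (Subgroup.mem_comap.mpr hy))
    rw [hcommQ]
    intro y hy
    obtain ⟨x, hx, rfl⟩ := Subgroup.mem_map.mp hy
    exact Subgroup.mem_comap.mp (hle hx)

/-- Pull-back of `structure_of_uniqueMinComm` from a solvable quotient `G ⧸ M`. -/
theorem pullback_umc (M : Subgroup G) [hMn : M.Normal] (hU : UniqueMinComm (G ⧸ M))
    [Group.IsSolvable (G ⧸ M)] :
    ∃ q : ℕ, q.Prime ∧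
      ((∃ k : ℕ, M.index = q ^ k) ∨
        ∃ N : Subgroup G, N.Normal ∧ M ≤ N ∧ M ≠ N ∧ N ≠ ⊤ ∧ commutator G ≤ N ∧
          (∀ a ∈ N, ∀ b ∈ N, a * b * a⁻¹ * b⁻¹ ∈ M) ∧ (∀ a ∈ N, a ^ q ∈ M) ∧
          ∀ g ∉ N, ∀ n ∈ N, g * n * g⁻¹ * n⁻¹ ∈ M → n ∈ M) := by
  classical
  have hmk : Function.Surjective (QuotientGroup.mk' M) := QuotientGroup.mk'_surjective M
  have hcommQ : commutator (G ⧸ M) = (commutator G).map (QuotientGroup.mk' M) := by
    rw [commutator_def, commutator_def, Subgroup.map_commutator,
      Subgroup.map_top_of_surjective _ hmk]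
  have hmem : ∀ x : G, x ∈ M ↔ QuotientGroup.mk' M x = 1 := by
    intro x
    exact (QuotientGroup.eq_one_iff x).symm
  obtain ⟨q, hq, hcase⟩ := structure_of_uniqueMinComm hU
  refine ⟨q, hq, ?_⟩
  rcases hcase with ⟨k, hk⟩ | ⟨hab, hexp, htop, hfp⟩
  · left
    exact ⟨k, by rw [Subgroup.index_eq_card]; exact hk⟩
  · right
    refine ⟨(commutator (G ⧸ M)).comap (QuotientGroup.mk' M), inferInstance, ?_, ?_, ?_, ?_,
      ?_, ?_, ?_⟩
    · intro x hx
      rw [Subgroup.mem_comap, (hmem x).mp hx]
      exact Subgroup.one_mem _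
    · intro heq
      apply hU.1
      rw [eq_bot_iff]
      intro y hy
      obtain ⟨x, rfl⟩ := hmk y
      rw [Subgroup.mem_bot]
      apply (hmem x).mp
      rw [heq]
      exact Subgroup.mem_comap.mpr hy
    · intro heq
      apply htop
      rw [eq_top_iff]
      intro y _
      obtain ⟨x, rfl⟩ := hmk y
      have : x ∈ (commutator (G ⧸ M)).comap (QuotientGroup.mk' M) := by rw [heq]; trivial
      exact Subgroup.mem_comap.mp this
    · intro x hx
      rw [Subgroup.mem_comap, hcommQ]
      exact Subgroup.mem_map_of_mem _ hx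
    · intro a ha b hb
      rw [hmem]
      have h1 := hab _ (Subgroup.mem_comap.mp ha) _ (Subgroup.mem_comap.mp hb)
      rw [map_mul, map_mul, map_mul, h1, map_inv, map_inv]
      group
    · intro a ha
      rw [hmem, map_pow]
      exact hexp _ (Subgroup.mem_comap.mp ha)
    · intro g hg n hn hcomm
      rw [hmem]
      apply hfp (QuotientGroup.mk' M g) (fun hc => hg (Subgroup.mem_comap.mpr hc)) _
        (Subgroup.mem_comap.mp hn)
      have := (hmem _).mp hcomm
      simpa using this

end

end Cfsg.Agent.Lib.H1.TD
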