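import Mathlib

/-!
# Derived series of subgroups, inside the ambient group
-/

set_option autoImplicit false
set_option linter.unusedSectionVars false

namespace Cfsg.Agent.Lib.H1.TD

variable {G : Type*} [Group G]

/-- The iterated commutator subgroups of a subgroup, as subgroups of the ambient group. -/
def dser (H : Subgroup G) : ℕ → Subgroup G
  | 0 => H
  | k + 1 => ⁅dser H k, dser H k⁆

@[simp] theorem dser_zero (H : Subgroup G) : dser H 0 = H := rfl

theorem dser_succ (H : Subgroup G) (k : ℕ) : dser H (k + 1) = ⁅dser H k, dser H k⁆ := rfl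

theorem dser_top (k : ℕ) : dser (⊤ : Subgroup G) k = derivedSeries G k := by
  induction k with
  | zero => rfl
  | succ k ih => rw [dser_succ, ih, derivedSeries_succ]

theorem dser_mono {A B : Subgroup G} (h : A ≤ B) (k : ℕ) : dser A k ≤ dser B k := by
  induction k with
  | zero => exact h
  | succ k ih => exact Subgroup.commutator_mono ih ih

theorem dser_add (A : Subgroup G) (j k : ℕ) : dser (dser A j) k = dser A (j + k) := by
  induction k with
  | zero => rfl
  | succ k ih => rw [dser_succ, ih, ← add_assoc, dser_succ]

theorem dser_le (A : Subgroup G) (k : ℕ) : dser A k ≤ A := by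
  induction k with
  | zero => exact le_rfl
  | succ k ih =>
    rw [dser_succ]
    exact (Subgroup.commutator_mono ih ih).trans (by
      rw [Subgroup.commutator_le]
      intro a ha b hb
      exact A.mul_mem (A.mul_mem (A.mul_mem ha hb) (A.inv_mem ha)) (A.inv_mem hb))

theorem dser_eq_map (H : Subgroup G) (k : ℕ) :
    dser H k = (derivedSeries H k).map H.subtype := by
  induction k with
  | zero =>
    rw [dser_zero, derivedSeries_zero, ← MonoidHom.range_eq_map, Subgroup.range_subtype]
  | succ k ih =>
    rw [dser_succ, ih, derivedSeries_succ, Subgroup.map_commutator]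

theorem dser_eq_bot_of_derivedSeries (H : Subgroup G) (k : ℕ) (h : derivedSeries H k = ⊥) :
    dser H k = ⊥ := by
  rw [dser_eq_map, h, Subgroup.map_bot]

instance dser_normal (H : Subgroup G) [H.Normal] (k : ℕ) : (dser H k).Normal := by
  induction k with
  | zero => exact ‹H.Normal›
  | succ k ih =>
    rw [dser_succ]
    exact Subgroup.commutator_normal _ _

theorem derivedSeries_le_of_quot (N : Subgroup G) [N.Normal] (k : ℕ)
    (h : derivedSeries (G ⧸ N) k = ⊥) : derivedSeries G k ≤ N := by
  have h1 := map_derivedSeries_le_derivedSeries (QuotientGroup.mk' N) k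
  rw [h, le_bot_iff, Subgroup.map_eq_bot_iff, QuotientGroup.ker_mk'] at h1
  exact h1

/-- If `G^(j) ≤ H^(i)` and `H^(i+k) = 1` then `G^(j+k) = 1`. -/
theorem derivedSeries_eq_bot_of_le (H : Subgroup G) (i j k : ℕ)
    (h1 : derivedSeries G j ≤ dser H i) (h2 : derivedSeries H (i + k) = ⊥) :
    derivedSeries G (j + k) = ⊥ := by
  rw [eq_bot_iff, ← dser_top, ← dser_add, dser_top]
  calc dser (derivedSeries G j) k ≤ dser (dser H i) k := dser_mono h1 k
    _ = dser H (i + k) := dser_add H i k
    _ = ⊥ := dser_eq_bot_of_derivedSeries H _ h2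

theorem derivedSeries_one_eq : derivedSeries G 1 = commutator G := by
  rw [derivedSeries_succ, derivedSeries_zero]
  rfl

theorem derivedSeries_antitone' {i j : ℕ} (h : i ≤ j) : derivedSeries G j ≤ derivedSeries G i :=
  derivedSeries_antitone G h

end Cfsg.Agent.Lib.H1.TD
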