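import Mathlib
import Cfsg.Agent.Lib.H1.TDBasic
import Cfsg.Agent.Lib.H1.TDDerived
import Cfsg.Agent.Lib.H23.Ito

/-!
# Three character degrees: restriction to normal subgroups, quotient by `N'`
-/

set_option autoImplicit false
set_option linter.unusedSectionVars false

namespace Cfsg.Agent.Lib.H1.TD

open Cfsg Cfsg.Agent.Lib.L0 Cfsg.Agent.Lib.H23 Cfsg.Agent.Lib.H24
open scoped ComplexConjugate commutatorElement

section restrict

variable {G : Type*} [Group G] [Fintype G] (N : Subgroup G) [hN : N.Normal] [Fintype N]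

/-- Every irreducible character of `G` has an irreducible constituent on `N`. -/
theorem exists_under (χ : IrrCharacter G) :
    ∃ θ : IrrCharacter N, classInner (fun n : N => (χ : G → ℂ) n) (θ : N → ℂ) ≠ 0 := by
  classical
  have hχN : IsCharacter N (fun n : N => (χ : G → ℂ) n) :=
    isCharacter_restrict N (isCharacter_of_irr χ.2)
  obtain ⟨θ, hθ, hcon⟩ := exists_irr_constituent hχN (by
    simpa using irr_one_ne_zero χ)
  exact ⟨⟨θ, hθ⟩, hcon⟩

/-- Every irreducible character of `N` lies under some irreducible character of `G`. -/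
theorem exists_over (θ : IrrCharacter N) :
    ∃ χ : IrrCharacter G, classInner (fun n : N => (χ : G → ℂ) n) (θ : N → ℂ) ≠ 0 := by
  classical
  have hind : IsCharacter G (indFun N (θ : N → ℂ)) := isCharacter_indFun N (isCharacter_of_irr θ.2)
  have h1 : indFun N (θ : N → ℂ) 1 ≠ 0 := by
    rw [Cfsg.Agent.Lib.H24.indFun_one]
    apply mul_ne_zero
    · exact_mod_cast Subgroup.index_ne_zero_of_finite
    · exact irr_one_ne_zero θ
  obtain ⟨χ, hχ, hcon⟩ := exists_irr_constituent hind h1
  refine ⟨⟨χ, hχ⟩, ?_⟩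
  rw [frobenius_reciprocity N _ _ (isClassFunction_of_isCharacter (isCharacter_of_irr hχ))] at hcon
  intro h0
  apply hcon
  rw [← classInner_conj_symm, h0, map_zero]

theorem under_dvd {χ : IrrCharacter G} {θ : IrrCharacter N}
    (h : classInner (fun n : N => (χ : G → ℂ) n) (θ : N → ℂ) ≠ 0) :
    charDegree (θ : N → ℂ) ∣ charDegree (χ : G → ℂ) := by
  exact charDegree_dvd_of_constituent N χ.2 θ.2 h

theorem over_dvd {χ : IrrCharacter G} {θ : IrrCharacter N}
    (h : classInner (fun n : N => (χ : G → ℂ) n) (θ : N → ℂ) ≠ 0) :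
    charDegree (χ : G → ℂ) ∣ N.index * charDegree (θ : N → ℂ) := by
  exact degree_dvd_index_mul N χ.2 θ.2 h

end restrict

section arith

theorem ordCompl_pow_mul {p : ℕ} (hp : p.Prime) (j t : ℕ) (ht : ¬ p ∣ t) :
    ordCompl[p] (p ^ j * t) = t := by
  have ht0 : t ≠ 0 := by rintro rfl; exact ht (dvd_zero p)
  have hpj : p ^ j ≠ 0 := pow_ne_zero _ hp.ne_zero
  have h1 : (p ^ j * t).factorization p = j := by
    rw [Nat.factorization_mul hpj ht0]
    simp [hp.factorization_self, Nat.factorization_eq_zero_of_not_dvd ht]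
  rw [h1]
  exact Nat.mul_div_cancel_left t (pow_pos hp.pos j)

theorem ordCompl_eq_one_of_dvd_pow {p : ℕ} (hp : p.Prime) {c k : ℕ} (h : c ∣ p ^ k) :
    ordCompl[p] c = 1 := by
  obtain ⟨i, -, rfl⟩ := (Nat.dvd_prime_pow hp).mp h
  have := ordCompl_pow_mul hp i 1 (by
    intro h1
    exact hp.one_lt.ne' (Nat.dvd_one.mp h1))
  simpa using this

theorem dvd_pow_of_ordCompl_eq_one {p : ℕ} {c : ℕ}
    (h : ordCompl[p] c = 1) : c = p ^ c.factorization p := by
  have := Nat.ordProj_mul_ordCompl_eq_self c p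
  rw [h, mul_one] at this
  exact this.symm

end arith

section hall

variable {G : Type*} [Group G] [Finite G] (N : Subgroup G) [hN : N.Normal]

/-- Degrees of a normal `p`-complement are the `p'`-parts of degrees of `G`. -/
theorem cd_hall {p k : ℕ} (hp : p.Prime) (hcop : (Nat.card N).Coprime p) (hidx : N.index = p ^ k)
    (θ : IrrCharacter N) : ∃ c ∈ cd G, charDegree (θ : N → ℂ) = ordCompl[p] c := by
  classical
  have := Fintype.ofFinite G
  obtain ⟨χ, hχ⟩ := exists_over N θ
  refine ⟨_, deg_mem_cd χ, ?_⟩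
  have h1 := under_dvd N hχ
  have h2 := over_dvd N hχ
  obtain ⟨q, hq⟩ := h1
  have hθpos : 0 < charDegree (θ : N → ℂ) := Cfsg.Agent.Lib.H24.charDegree_pos θ
  rw [hq, hidx, mul_comm (p ^ k)] at h2
  have h3 : q ∣ p ^ k := Nat.dvd_of_mul_dvd_mul_left hθpos h2
  obtain ⟨j, -, rfl⟩ := (Nat.dvd_prime_pow hp).mp h3
  have hnd : ¬ p ∣ charDegree (θ : N → ℂ) := by
    intro hdvd
    have h4 : p ∣ Nat.card N := hdvd.trans (charDegree_dvd_card _ θ.2)
    have := Nat.Coprime.eq_one_of_dvd hcop.symm h4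
    exact hp.one_lt.ne' this
  rw [hq, mul_comm, ordCompl_pow_mul hp j _ hnd]

end hall

section quot

variable {G : Type*} [Group G] [Finite G] (N : Subgroup G) [hN : N.Normal]

/-- Degrees of `G / N'` divide `|G : N|` (Ito). -/
theorem cd_quot_derived_dvd (ψ : IrrCharacter (G ⧸ dser N 1)) :
    charDegree (ψ : G ⧸ dser N 1 → ℂ) ∣ N.index := by
  classical
  have := Fintype.ofFinite G
  have := Fintype.ofFinite (G ⧸ dser N 1)
  set A : Subgroup (G ⧸ dser N 1) := N.map (QuotientGroup.mk' (dser N 1)) with hA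
  have hAn : A.Normal := Subgroup.Normal.map hN _ (QuotientGroup.mk'_surjective _)
  have hAcomm : ∀ a ∈ A, ∀ b ∈ A, a * b = b * a := by
    rintro _ ⟨x, hx, rfl⟩ _ ⟨y, hy, rfl⟩
    have h1 : ⁅x, y⁆ ∈ dser N 1 := by
      rw [dser_succ, dser_zero]
      exact Subgroup.commutator_mem_commutator hx hy
    have h2 : (QuotientGroup.mk' (dser N 1)) ⁅x, y⁆ = 1 := by
      rw [QuotientGroup.mk'_apply, QuotientGroup.eq_one_iff]
      exact h1
    rw [map_commutatorElement, commutatorElement_eq_one_iff_mul_comm] at h2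
    exact h2
  obtain ⟨d, hd1, hd2⟩ := ito_char A hAcomm ψ.2
  have hdeg : charDegree (ψ : G ⧸ dser N 1 → ℂ) = d := charDegree_eq_of_apply_one hd1
  rw [hdeg]
  have hidx : A.index = N.index := by
    rw [hA]
    apply Subgroup.index_map_eq _ (QuotientGroup.mk'_surjective _)
    rw [QuotientGroup.ker_mk']
    exact dser_le N 1
  rw [← hidx]
  exact hd2

end quot

end Cfsg.Agent.Lib.H1.TD
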