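import Mathlib
import Cfsg.Agent.Lib.H1.TDClosure2
import Cfsg.Agent.Lib.H1.TDQuot
import Cfsg.Agent.Lib.H1.TDFpf
import Cfsg.Agent.Lib.H1.TDRestrict
import Cfsg.Agent.Lib.H26.DegGraphD

/-!
# Three character degrees: the case of coprime degrees
-/

set_option autoImplicit false
set_option linter.unusedSectionVars false

namespace Cfsg.Agent.Lib.H1.TD

open Cfsg Cfsg.Agent.Lib.L0 Cfsg.Agent.Lib.H23 Cfsg.Agent.Lib.H24
open Cfsg.Agent.Lib.H26.DegGraph

universe u

section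

variable {G : Type u} [Group G] [Fintype G] {m n : ℕ}

/-- The `q`-group quotient case is impossible. -/
theorem pcase_false {q : ℕ} (hq : q.Prime) (hcop : Nat.Coprime m n) (h1n : 1 < n)
    (hcd : ∀ d ∈ cd G, d = 1 ∨ d = m ∨ d = n) (hn : n ∈ cd G) (hqm : q ∣ m)
    (hp : ∀ χ : IrrCharacter G, ∀ r : ℕ, r.Prime → r ∣ charDegree (χ : G → ℂ) → r ≠ q →
        ∃ χ' : IrrCharacter G, r * q ∣ charDegree (χ' : G → ℂ)) : False := by
  obtain ⟨χ, hχ⟩ := hn
  obtain ⟨r, hr, hrn⟩ := Nat.exists_prime_and_dvd (show n ≠ 1 by omega)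
  have hcop' : Nat.gcd m n = 1 := hcop
  have hrq : r ≠ q := by
    rintro rfl
    have := Nat.dvd_gcd hqm hrn
    rw [hcop'] at this
    exact hr.one_lt.ne' (Nat.dvd_one.mp this)
  obtain ⟨χ', hχ'⟩ := hp χ r hr (by rw [hχ]; exact hrn) hrq
  rcases hcd _ (deg_mem_cd χ') with h | h | h
  · rw [h] at hχ'
    have h1 : r ∣ 1 := (Dvd.intro _ rfl).trans hχ'
    exact hr.one_lt.ne' (Nat.dvd_one.mp h1)
  · rw [h] at hχ'
    have hrm : r ∣ m := (Dvd.intro _ rfl).trans hχ'
    have := Nat.dvd_gcd hrm hrn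
    rw [hcop'] at this
    exact hr.one_lt.ne' (Nat.dvd_one.mp this)
  · rw [h] at hχ'
    have hqn : q ∣ n := (Dvd.intro_left _ rfl).trans hχ'
    have := Nat.dvd_gcd hqm hqn
    rw [hcop'] at this
    exact hq.one_lt.ne' (Nat.dvd_one.mp this)

/-- The Frobenius case with `|G : N| = m`: the degrees of `N` are `1` and `n`. -/
theorem fcase_cd (M N : Subgroup G) [hM : M.Normal] [hN : N.Normal] [Fintype N]
    (hMN : M ≤ N) (hne : M ≠ N)
    (hab : ∀ a ∈ N, ∀ b ∈ N, a * b * a⁻¹ * b⁻¹ ∈ M)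
    (hfp : ∀ g, g ∉ N → ∀ n ∈ N, g * n * g⁻¹ * n⁻¹ ∈ M → n ∈ M)
    (q : ℕ) (hq : q.Prime) (hexp : ∀ a ∈ N, a ^ q ∈ M)
    (hcop : Nat.Coprime m n) (h1m : 1 < m)
    (hcd : ∀ d ∈ cd G, d = 1 ∨ d = m ∨ d = n) (hf : N.index = m) :
    cd N ⊆ {1, n} := by
  classical
  rintro d ⟨ψ, rfl⟩
  by_cases h1 : charDegree (ψ : N → ℂ) = 1
  · left; exact h1
  right
  rw [Set.mem_singleton_iff]
  have hcop' : Nat.gcd m n = 1 := hcop
  have hnq := not_dvd_index_of_fpf M N hMN hne hfp q hq hexp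
  have hψpos : 0 < charDegree (ψ : N → ℂ) := Cfsg.Agent.Lib.H24.charDegree_pos ψ
  have hqψ : q ∣ charDegree (ψ : N → ℂ) := by
    rcases isaacs_12_4 N M hMN hne hab hfp q hq hexp (ψ : N → ℂ) ψ.2 with ⟨χ, hχ, hd⟩ | hd
    · exfalso
      rw [hf] at hd
      rcases hcd _ (deg_mem_cd ⟨χ, hχ⟩) with h | h | h
      · have h2 : m * charDegree (ψ : N → ℂ) = 1 := by rw [← hd]; exact h
        have := Nat.eq_one_of_mul_eq_one_right h2
        omega
      · have h2 : m * charDegree (ψ : N → ℂ) = m * 1 := by rw [← hd, mul_one]; exact h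
        exact h1 (Nat.eq_of_mul_eq_mul_left (by omega) h2)
      · have h2 : m * charDegree (ψ : N → ℂ) = n := by rw [← hd]; exact h
        have hmn : m ∣ n := Dvd.intro _ h2
        have := Nat.dvd_gcd (dvd_refl m) hmn
        rw [hcop'] at this
        have := Nat.dvd_one.mp this
        omega
    · exact hd
  obtain ⟨χ, hχ⟩ := exists_over N ψ
  have hd1 := under_dvd N hχ
  have hd2 := over_dvd N hχ
  rcases hcd _ (deg_mem_cd χ) with h | h | h
  · rw [h] at hd1
    exact absurd (Nat.dvd_one.mp hd1) h1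
  · exfalso
    apply hnq
    rw [hf, ← h]
    exact hqψ.trans hd1
  · rw [h] at hd1 hd2
    rw [hf] at hd2
    have h3 : n ∣ charDegree (ψ : N → ℂ) := (Nat.Coprime.symm hcop).dvd_of_dvd_mul_left hd2
    exact Nat.dvd_antisymm hd1 h3

/-- Case A of the three-degree theorem: coprime nonlinear degrees. -/
theorem caseA (h1m : 1 < m) (h1n : 1 < n) (hcop : Nat.Coprime m n)
    (hcd : cd G ⊆ {1, m, n}) (hm : m ∈ cd G) (hn : n ∈ cd G) : derivedSeries G 3 = ⊥ := by
  classical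
  have hcd' : ∀ d ∈ cd G, d = 1 ∨ d = m ∨ d = n := by
    intro d hd
    simpa using hcd hd
  have hcd'' : ∀ d ∈ cd G, d = 1 ∨ d = n ∨ d = m := by
    intro d hd
    rcases hcd' d hd with h | h | h
    · exact Or.inl h
    · exact Or.inr (Or.inr h)
    · exact Or.inr (Or.inl h)
  have hcop' : Nat.gcd m n = 1 := hcop
  have hmn : m ≠ n := by
    rintro rfl
    rw [Nat.gcd_self] at hcop'
    omega
  -- `G` is nonabelian
  have hG : commutator G ≠ ⊥ := by
    intro hbot
    obtain ⟨χ, hχ⟩ := hm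
    have := deg_eq_one_of_commutator_le χ (by
      intro g hg
      rw [hbot, Subgroup.mem_bot] at hg
      rw [hg])
    omega
  obtain ⟨M, hMn, hMc, hU⟩ := exists_normal_umc hG
  haveI := hMn
  haveI : Fintype (G ⧸ M) := Fintype.ofFinite _
  haveI : Fintype (IrrCharacter (G ⧸ M)) := Fintype.ofFinite _
  have hsub : cd (G ⧸ M) ⊆ cd G := cd_quot_subset M
  have hsolv : derivedSeries (G ⧸ M) 2 = ⊥ := by
    by_cases hb : m ∈ cd (G ⧸ M) ∧ n ∈ cd (G ⧸ M)
    · exfalso
      rcases Nat.lt_or_gt_of_ne hmn with hlt | hlt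
      · exact Hyp3.contra (G := G ⧸ M) ⟨h1m, hlt, hcop, hsub.trans hcd⟩ hU.2 hb.1 hb.2
      · refine Hyp3.contra (G := G ⧸ M) ⟨h1n, hlt, hcop.symm, ?_⟩ hU.2 hb.2 hb.1
        intro d hd
        rcases hcd'' d (hsub hd) with h | h | h <;> simp [h]
    · by_cases hm' : m ∈ cd (G ⧸ M)
      · have hn' : n ∉ cd (G ⧸ M) := fun h => hb ⟨hm', h⟩
        apply derivedSeries_two_of_cd (g := m)
        intro d hd
        rcases hcd' d (hsub hd) with h | h | h
        · left; exact h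
        · right; exact h
        · exfalso; rw [h] at hd; exact hn' hd
      · apply derivedSeries_two_of_cd (g := n)
        intro d hd
        rcases hcd' d (hsub hd) with h | h | h
        · left; exact h
        · exfalso; rw [h] at hd; exact hm' hd
        · right; exact h
  haveI : Group.IsSolvable (G ⧸ M) := ⟨⟨2, hsolv⟩⟩
  obtain ⟨q, hq, hcase⟩ := pullback_umc M hU
  rcases hcase with ⟨k, hk⟩ | ⟨N, hNn, hMN, hne, htop, hGN, hab, hexp, hfp⟩
  · exfalso
    obtain ⟨⟨β, hβ⟩, hp⟩ := pcase M hMc q k hq hk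
    rcases hcd' _ (deg_mem_cd β) with h | h | h
    · rw [h] at hβ
      exact hq.one_lt.ne' (Nat.dvd_one.mp hβ)
    · exact pcase_false hq hcop h1n hcd' hn (h ▸ hβ) hp
    · exact pcase_false hq hcop.symm h1m hcd'' hm (h ▸ hβ) hp
  · haveI := hNn
    haveI : Fintype N := Fintype.ofFinite _
    obtain ⟨⟨χ, hχ⟩, -⟩ := fcase M N hMN hne hab hfp q hq hexp
    have hf1 : N.index ≠ 1 := fun h => htop (Subgroup.index_eq_one.mp h)
    have hN2 : derivedSeries N 2 = ⊥ := by
      rcases hcd' _ (deg_mem_cd χ) with h | h | h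
      · exact absurd (hχ.symm.trans h) hf1
      · exact derivedSeries_two_of_cd
          (fcase_cd M N hMN hne hab hfp q hq hexp hcop h1m hcd' (hχ.symm.trans h))
      · exact derivedSeries_two_of_cd
          (fcase_cd M N hMN hne hab hfp q hq hexp hcop.symm h1n hcd'' (hχ.symm.trans h))
    exact derivedSeries_eq_bot_of_le N 0 1 2 (by rw [derivedSeries_one_eq]; exact hGN)
      (by simpa using hN2)

end

end Cfsg.Agent.Lib.H1.TD
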