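import Mathlib
import Cfsg.Agent.Lib.H1.TDRestrict
import Cfsg.Agent.Lib.H24.TwoDegrees
import Cfsg.Agent.S4456

/-!
# Three character degrees: the case of a common prime divisor
-/

set_option autoImplicit false
set_option linter.unusedSectionVars false

namespace Cfsg.Agent.Lib.H1.TD

open Cfsg Cfsg.Agent.Lib.L0 Cfsg.Agent.Lib.H23 Cfsg.Agent.Lib.H24

universe u

/-- Case B of the three-degree theorem: a prime `p` divides both nonlinear degrees.  The
abelian-normal-`p`-complement sub-case is taken as a hypothesis. -/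
theorem caseB {G : Type u} [Group G] [Finite G] {m n p : ℕ} (hp : p.Prime)
    (hcd : cd G ⊆ {1, m, n}) (hpm : p ∣ m) (hpn : p ∣ n) (hpG : p ∣ Nat.card G)
    (IH : ∀ H : Subgroup G, Nat.card H < Nat.card G → ∀ a b : ℕ, cd H ⊆ {1, a, b} →
      derivedSeries H 3 = ⊥)
    (hab : ∀ N : Subgroup G, N.Normal → (∀ x ∈ N, ∀ y ∈ N, x * y = y * x) →
      (∃ k : ℕ, N.index = p ^ k) → derivedSeries G 3 = ⊥) :
    derivedSeries G 3 = ⊥ := by
  classical
  have hdeg : ∀ χ : IrrCharacter G, charDegree (χ : G → ℂ) ≠ 1 → p ∣ charDegree (χ : G → ℂ) := by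
    intro χ h1
    have h := hcd (deg_mem_cd χ)
    simp only [Set.mem_insert_iff, Set.mem_singleton_iff] at h
    rcases h with h | h | h
    · exact absurd h h1
    · rw [h]; exact hpm
    · rw [h]; exact hpn
  obtain ⟨N, hN, hcop, k, hidx⟩ := Cfsg.Agent.S4456.result p hp hdeg
  have hNlt : Nat.card N < Nat.card G := by
    have hle : Nat.card N ≤ Nat.card G := Subgroup.card_le_card_group N
    rcases hle.lt_or_eq with h | h
    · exact h
    · exfalso
      rw [h] at hcop
      have := Nat.Coprime.eq_one_of_dvd hcop.symm hpG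
      exact hp.one_lt.ne' this
  -- degrees of N
  have hcdN : cd N ⊆ {1, ordCompl[p] m, ordCompl[p] n} := by
    rintro d ⟨θ, rfl⟩
    obtain ⟨c, hc, hθ⟩ := cd_hall N hp hcop hidx θ
    have h := hcd hc
    simp only [Set.mem_insert_iff, Set.mem_singleton_iff] at h ⊢
    rcases h with h | h | h
    · left; rw [hθ, h]; simp
    · right; left; rw [hθ, h]
    · right; right; rw [hθ, h]
  -- degrees of G / N'
  have hquot : ∀ ψ : IrrCharacter (G ⧸ dser N 1),
      charDegree (ψ : G ⧸ dser N 1 → ℂ) ∈ cd G ∧ charDegree (ψ : G ⧸ dser N 1 → ℂ) ∣ p ^ k := by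
    intro ψ
    refine ⟨cd_quot_subset (dser N 1) (deg_mem_cd ψ), ?_⟩
    rw [← hidx]
    exact cd_quot_derived_dvd N ψ
  have hnotm : ordCompl[p] m ≠ 1 → ∀ ψ : IrrCharacter (G ⧸ dser N 1),
      charDegree (ψ : G ⧸ dser N 1 → ℂ) ≠ m := by
    intro h1 ψ heq
    apply h1
    have := (hquot ψ).2
    rw [heq] at this
    exact ordCompl_eq_one_of_dvd_pow hp this
  have hnotn : ordCompl[p] n ≠ 1 → ∀ ψ : IrrCharacter (G ⧸ dser N 1),
      charDegree (ψ : G ⧸ dser N 1 → ℂ) ≠ n := by
    intro h1 ψ heq
    apply h1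
    have := (hquot ψ).2
    rw [heq] at this
    exact ordCompl_eq_one_of_dvd_pow hp this
  have hmem : ∀ ψ : IrrCharacter (G ⧸ dser N 1),
      charDegree (ψ : G ⧸ dser N 1 → ℂ) = 1 ∨ charDegree (ψ : G ⧸ dser N 1 → ℂ) = m ∨
        charDegree (ψ : G ⧸ dser N 1 → ℂ) = n := by
    intro ψ
    have := hcd (hquot ψ).1
    simpa using this
  by_cases hm1 : ordCompl[p] m = 1
  · by_cases hn1 : ordCompl[p] n = 1
    · -- N abelian
      have hNab : ∀ x ∈ N, ∀ y ∈ N, x * y = y * x := by
        intro x hx y hy
        have hsub : cd N ⊆ {1} := by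
          intro d hd
          have := hcdN hd
          rw [hm1, hn1] at this
          simpa using this
        have := comm_of_cd_subset hsub ⟨x, hx⟩ ⟨y, hy⟩
        exact congrArg Subtype.val this
      exact hab N hN hNab ⟨k, hidx⟩
    · -- exactly m is a p-power
      have h2 : derivedSeries (G ⧸ dser N 1) 2 = ⊥ := by
        apply derivedSeries_two_of_cd (g := m)
        rintro d ⟨ψ, rfl⟩
        rcases hmem ψ with h | h | h
        · left; exact h
        · right; exact h
        · exact absurd h (hnotn hn1 ψ)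
      have h3 : derivedSeries G 2 ≤ dser N 1 := derivedSeries_le_of_quot _ 2 h2
      have h4 : derivedSeries N (1 + 1) = ⊥ := by
        apply derivedSeries_two_of_cd (g := ordCompl[p] n)
        intro d hd
        have := hcdN hd
        rw [hm1] at this
        simpa using this
      exact derivedSeries_eq_bot_of_le N 1 2 1 h3 h4
  · by_cases hn1 : ordCompl[p] n = 1
    · have h2 : derivedSeries (G ⧸ dser N 1) 2 = ⊥ := by
        apply derivedSeries_two_of_cd (g := n)
        rintro d ⟨ψ, rfl⟩
        rcases hmem ψ with h | h | h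
        · left; exact h
        · exact absurd h (hnotm hm1 ψ)
        · right; exact h
      have h3 : derivedSeries G 2 ≤ dser N 1 := derivedSeries_le_of_quot _ 2 h2
      have h4 : derivedSeries N (1 + 1) = ⊥ := by
        apply derivedSeries_two_of_cd (g := ordCompl[p] m)
        intro d hd
        have := hcdN hd
        rw [hn1] at this
        simp only [Set.mem_insert_iff, Set.mem_singleton_iff] at this ⊢
        tauto
      exact derivedSeries_eq_bot_of_le N 1 2 1 h3 h4
    · -- neither is a p-power: G' = N'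
      have hlin : ∀ ψ : IrrCharacter (G ⧸ dser N 1), (ψ : G ⧸ dser N 1 → ℂ) 1 = 1 := by
        intro ψ
        rw [← deg_eq_one_iff]
        rcases hmem ψ with h | h | h
        · exact h
        · exact absurd h (hnotm hm1 ψ)
        · exact absurd h (hnotn hn1 ψ)
      have h3 : derivedSeries G 1 ≤ dser N 1 := by
        rw [derivedSeries_one_eq]
        exact commutator_le_of_quotient_linear (dser N 1) hlin
      have h4 : derivedSeries N (1 + 2) = ⊥ := IH N hNlt _ _ hcdN
      exact derivedSeries_eq_bot_of_le N 1 1 2 h3 h4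

end Cfsg.Agent.Lib.H1.TD
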