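import Mathlib
import Cfsg.Agent.Lib.H1.TDBasic
import Cfsg.Agent.Lib.H1.TDDerived
import Cfsg.Agent.S4784
import Cfsg.Agent.Lib.H24.CharAbelian
import Cfsg.Agent.Lib.H24.CharCodegree

/-!
# Three character degrees: Taketa's argument for monomial characters
-/

set_option autoImplicit false
set_option linter.unusedSectionVars false

namespace Cfsg.Agent.Lib.H1.TD

open Cfsg Cfsg.Agent.Lib.L0 Cfsg.Agent.Lib.H23 Cfsg.Agent.Lib.H24 Cfsg.Agent.S4784
open scoped ComplexConjugate

universe u

/-- One step of Taketa's argument: if the monomial irreducible character `χ` is such that `D`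
lies in the kernel of every irreducible character of smaller degree, then `D' ≤ ker χ`. -/
theorem taketa_step {G : Type u} [Group G] [Fintype G] (D : Subgroup G) [hDn : D.Normal]
    (χ : IrrCharacter G) (H : Subgroup G) (lam : H →* ℂˣ)
    (hχ : (χ : G → ℂ) = indFun H (fun h => (lam h : ℂ)))
    (hD : ∀ τ : IrrCharacter G, charDegree (τ : G → ℂ) < charDegree (χ : G → ℂ) → D ≤ irrKer τ) :
    ⁅D, D⁆ ≤ irrKer χ := by
  classical
  have := Fintype.ofFinite (IrrCharacter G)
  have := Fintype.ofFinite H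
  set n := charDegree (χ : G → ℂ) with hn
  have hGpos : (Nat.card G : ℂ) ≠ 0 := by exact_mod_cast (Nat.card_pos (α := G)).ne'
  have hHpos : (Nat.card H : ℂ) ≠ 0 := by exact_mod_cast (Nat.card_pos (α := H)).ne'
  have hidx : H.index = n := by
    have h1 : (χ : G → ℂ) 1 = (H.index : ℂ) := by
      rw [hχ, Cfsg.Agent.Lib.H24.indFun_one]
      simp
    rw [apply_one_eq_charDegree _ χ.2] at h1
    exact_mod_cast h1.symm
  have hπchar := isCharacter_permChar H
  have hπ1 : Cfsg.Agent.S4784.permChar H 1 = (n : ℂ) := by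
    unfold Cfsg.Agent.S4784.permChar
    rw [Cfsg.Agent.Lib.H24.indFun_one, hidx, mul_one]
  have hm : ∀ ψ : IrrCharacter G, ∃ m : ℕ, classInner (Cfsg.Agent.S4784.permChar H) (ψ : G → ℂ) = m :=
    fun ψ => classInner_char_irr_nat hπchar ψ.2
  choose m hm using hm
  have hmtriv : m (trivialIrr G) = 1 := by
    have h1 := hm (trivialIrr G)
    have h2 : classInner (Cfsg.Agent.S4784.permChar H) (trivialIrr G : G → ℂ) = 1 := classInner_permChar_one H
    rw [h2] at h1
    exact_mod_cast h1.symm
  have hexp : ∀ g : G, Cfsg.Agent.S4784.permChar H g = ∑ ψ : IrrCharacter G, (m ψ : ℂ) * (ψ : G → ℂ) g := by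
    intro g
    have h1 := congrFun (classFunction_expansion (Cfsg.Agent.S4784.permChar H)
      (isClassFunction_of_isCharacter hπchar)) g
    simp only [Finset.sum_apply, Pi.smul_apply, smul_eq_mul, hm] at h1
    exact h1
  have hnsum : n = ∑ ψ : IrrCharacter G, m ψ * charDegree (ψ : G → ℂ) := by
    have h1 := hexp 1
    rw [hπ1] at h1
    have h2 : ((n : ℕ) : ℂ) = ((∑ ψ : IrrCharacter G, m ψ * charDegree (ψ : G → ℂ) : ℕ) : ℂ) := by
      rw [h1]
      push_cast
      refine Finset.sum_congr rfl (fun ψ _ => ?_)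
      rw [apply_one_eq_charDegree _ ψ.2]
    exact_mod_cast h2
  have hsmall : ∀ ψ : IrrCharacter G, ψ ≠ trivialIrr G → m ψ ≠ 0 →
      charDegree (ψ : G → ℂ) < n := by
    intro ψ hne hmψ
    have h1 : m (trivialIrr G) * charDegree (trivialIrr G : G → ℂ) +
        m ψ * charDegree (ψ : G → ℂ) ≤ n := by
      rw [hnsum, ← Finset.add_sum_erase Finset.univ _ (Finset.mem_univ (trivialIrr G))]
      apply Nat.add_le_add_left
      exact Finset.single_le_sum
        (f := fun ψ : IrrCharacter G => m ψ * charDegree (ψ : G → ℂ))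
        (fun _ _ => Nat.zero_le _) (Finset.mem_erase.mpr ⟨hne, Finset.mem_univ _⟩)
    have h2 : charDegree (trivialIrr G : G → ℂ) = 1 := by
      apply charDegree_eq_of_apply_one
      simp [trivialIrr]
    rw [hmtriv, h2] at h1
    have h3 : charDegree (ψ : G → ℂ) ≤ m ψ * charDegree (ψ : G → ℂ) :=
      Nat.le_mul_of_pos_left _ (Nat.pos_of_ne_zero hmψ)
    omega
  have hDker : ∀ ψ : IrrCharacter G, m ψ ≠ 0 → D ≤ irrKer ψ := by
    intro ψ hmψ
    by_cases hne : ψ = trivialIrr G
    · rw [hne]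
      intro g _
      rw [mem_charKer]
      simp [trivialIrr]
    · exact hD ψ (hsmall ψ hne hmψ)
  have hDH : D ≤ H := by
    intro g hg
    have h1 : Cfsg.Agent.S4784.permChar H g = Cfsg.Agent.S4784.permChar H 1 := by
      rw [hexp g, hexp 1]
      refine Finset.sum_congr rfl (fun ψ _ => ?_)
      by_cases hmψ : m ψ = 0
      · rw [hmψ]; simp
      · have := hDker ψ hmψ hg
        rw [mem_charKer] at this
        rw [this]
    rw [permChar_apply, permChar_apply] at h1
    have h2 : (cnt H g : ℂ) = (cnt H 1 : ℂ) := by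
      have := mul_left_cancel₀ (inv_ne_zero hHpos) h1
      exact this
    have h3 : cnt H g = cnt H 1 := by exact_mod_cast h2
    have h4 : cnt H 1 = Fintype.card G := by
      unfold cnt
      rw [Finset.filter_true_of_mem, Finset.card_univ]
      intro x _
      simp
    rw [h4] at h3
    have h5 : Finset.univ.filter (fun x : G => x⁻¹ * g * x ∈ H) = Finset.univ := by
      apply Finset.eq_univ_of_card
      unfold cnt at h3
      convert h3
    have h6 : (1 : G) ∈ Finset.univ.filter (fun x : G => x⁻¹ * g * x ∈ H) := by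
      rw [h5]; exact Finset.mem_univ _
    simpa using h6
  have hcomm : ⁅D, D⁆ ≤ H := (Subgroup.commutator_le_self D).trans hDH
  have hlamker : ∀ g (hg : g ∈ ⁅D, D⁆), lam ⟨g, hcomm hg⟩ = 1 := by
    have hle : ⁅D, D⁆ ≤ (lam.ker).map H.subtype := by
      rw [Subgroup.commutator_le]
      intro a ha b hb
      refine ⟨(⟨a, hDH ha⟩ : H) * (⟨b, hDH hb⟩ : H) * (⟨a, hDH ha⟩ : H)⁻¹ *
        (⟨b, hDH hb⟩ : H)⁻¹, ?_, ?_⟩
      · rw [SetLike.mem_coe, MonoidHom.mem_ker]
        simp only [map_mul, map_inv]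
        rw [mul_comm (lam ⟨a, hDH ha⟩) (lam ⟨b, hDH hb⟩)]
        simp
      · simp [commutatorElement_def]
    intro g hg
    obtain ⟨h, hh, hhg⟩ := hle hg
    have : (⟨g, hcomm hg⟩ : H) = h := Subtype.ext hhg.symm
    rw [this]
    exact hh
  intro g hg
  rw [mem_charKer, hχ, Cfsg.Agent.Lib.H24.indFun_one, indFun_apply]
  have hnorm : (⁅D, D⁆ : Subgroup G).Normal := Subgroup.commutator_normal D D
  have hterm : ∀ x : G, extendByZero H (fun h => (lam h : ℂ)) (x⁻¹ * g * x) = 1 := by
    intro x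
    have hx : x⁻¹ * g * x ∈ ⁅D, D⁆ := by
      have := hnorm.conj_mem g hg x⁻¹
      simpa using this
    rw [extendByZero_apply_of_mem H _ (hcomm hx), hlamker _ hx]
    simp
  simp only [hterm, Finset.sum_const, Finset.card_univ, nsmul_eq_mul, mul_one, map_one,
    Units.val_one]
  rw [← Nat.card_eq_fintype_card, ← Subgroup.index_mul_card H]
  push_cast
  field_simp

/-- Taketa's theorem for at most three degrees. -/
theorem taketa_three {G : Type u} [Group G] [Fintype G] {m n : ℕ} (h1m : 1 < m) (hmn : m < n)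
    (hcd : cd G ⊆ {1, m, n})
    (hM : ∀ χ : G → ℂ, IsIrrCharacter G χ →
      ∃ (H : Subgroup G) (lam : H →* ℂˣ), χ = indFun H (fun h => (lam h : ℂ))) :
    derivedSeries G 3 = ⊥ := by
  classical
  have hdeg : ∀ χ : IrrCharacter G, charDegree (χ : G → ℂ) = 1 ∨ charDegree (χ : G → ℂ) = m ∨
      charDegree (χ : G → ℂ) = n := by
    intro χ
    have := hcd (deg_mem_cd χ)
    simpa using this
  -- level 1
  have hL1 : ∀ χ : IrrCharacter G, charDegree (χ : G → ℂ) = 1 → derivedSeries G 1 ≤ irrKer χ := by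
    intro χ h1
    obtain ⟨H, lam, hχ⟩ := hM _ χ.2
    have h := taketa_step (⊤ : Subgroup G) χ H lam hχ (by
      intro τ hτ
      rw [h1] at hτ
      have := Cfsg.Agent.Lib.H24.charDegree_pos τ
      omega)
    rw [derivedSeries_succ, derivedSeries_zero]
    exact h
  have hL2 : ∀ χ : IrrCharacter G, charDegree (χ : G → ℂ) = m → derivedSeries G 2 ≤ irrKer χ := by
    intro χ h1
    obtain ⟨H, lam, hχ⟩ := hM _ χ.2
    have h := taketa_step (derivedSeries G 1) χ H lam hχ (by
      intro τ hτ
      rw [h1] at hτ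
      rcases hdeg τ with h | h | h
      · exact hL1 τ h
      · omega
      · omega)
    rw [derivedSeries_succ]
    exact h
  have hL3 : ∀ χ : IrrCharacter G, charDegree (χ : G → ℂ) = n → derivedSeries G 3 ≤ irrKer χ := by
    intro χ h1
    obtain ⟨H, lam, hχ⟩ := hM _ χ.2
    have h := taketa_step (derivedSeries G 2) χ H lam hχ (by
      intro τ hτ
      rw [h1] at hτ
      rcases hdeg τ with h | h | h
      · exact (derivedSeries_antitone G (by omega : 1 ≤ 2)).trans (hL1 τ h)
      · exact hL2 τ h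
      · omega)
    rw [derivedSeries_succ]
    exact h
  rw [eq_bot_iff]
  intro g hg
  rw [Subgroup.mem_bot]
  have hall : ∀ χ : IrrCharacter G, (χ : G → ℂ) g = (χ : G → ℂ) 1 := by
    intro χ
    rcases hdeg χ with h | h | h
    · exact (derivedSeries_antitone G (by omega : 1 ≤ 3)).trans (hL1 χ h) hg
    · exact (derivedSeries_antitone G (by omega : 2 ≤ 3)).trans (hL2 χ h) hg
    · exact hL3 χ h hg
  have := (isConj_iff_forall_irr_eq g 1).mpr hall
  obtain ⟨c, hc⟩ := isConj_iff.mp this.symm
  rw [← hc]; group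

end Cfsg.Agent.Lib.H1.TD
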