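import Mathlib
import Cfsg.Agent.Lib.H1.TDTaketa
import Cfsg.Agent.Lib.H1.TDRestrict
import Cfsg.Agent.Lib.H23.MGroup
import Cfsg.Agent.Lib.H23.Ito
import Cfsg.Agent.Lib.H24.BergerA
import Cfsg.Agent.S0174

/-!
# Three character degrees: abelian normal subgroup of prime power index gives an M-group
-/

set_option autoImplicit false
set_option linter.unusedSectionVars false

namespace Cfsg.Agent.Lib.H1.TD

open Cfsg Cfsg.Agent.Lib.L0 Cfsg.Agent.Lib.H23 Cfsg.Agent.Lib.H24
open scoped ComplexConjugate commutatorElement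

universe u

/-- If the abelian normal subgroup `N` acts by scalars in the irreducible character `χ`
(the constituent `θ` is invariant), then `[N, G] ≤ ker χ`. -/
theorem commutator_mem_ker_of_invariant {G : Type u} [Group G] [Fintype G] (N : Subgroup G)
    [hN : N.Normal] [Fintype N] (hNab : ∀ x ∈ N, ∀ y ∈ N, x * y = y * x)
    (χ : IrrCharacter G) (θ : N → ℂ) (hθ : IsIrrCharacter N θ)
    (hcon : classInner (fun n : N => (χ : G → ℂ) n) θ ≠ 0)
    (hinv : ∀ (g : G) (n : N), θ ⟨g * n * g⁻¹, hN.conj_mem (n : G) n.2 g⟩ = θ n)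
    (x : G) (hx : x ∈ N) (g : G) : (χ : G → ℂ) (x * g * x⁻¹ * g⁻¹) = (χ : G → ℂ) 1 := by
  classical
  have hcl := Cfsg.Agent.S0174.result N hN (χ : G → ℂ) χ.2 θ hθ hcon
  have hset : {ψ : N → ℂ | ∃ g : G, ψ = fun n : N => θ ⟨g * n * g⁻¹, hN.conj_mem n n.2 g⟩} = {θ} := by
    ext ψ
    simp only [Set.mem_ofPred_eq, Set.mem_singleton_iff]
    constructor
    · rintro ⟨g, rfl⟩
      funext n
      exact hinv g n
    · intro h
      exact ⟨1, by rw [h]; funext n; congr 1; ext; simp⟩
  rw [hset, finsum_mem_singleton] at hcl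
  set c := classInner (fun n : N => (χ : G → ℂ) n) θ with hc
  have hNcomm : ∀ a b : N, a * b = b * a := fun a b => Subtype.ext (hNab a a.2 b b.2)
  have hθ1 : θ 1 = 1 := Cfsg.Agent.Lib.L0.irr_apply_one_of_comm hNcomm hθ
  have hc1 : (χ : G → ℂ) 1 = c := by
    have := congrFun hcl 1
    simp only [Pi.smul_apply, smul_eq_mul, hθ1, mul_one] at this
    exact this
  have hχx : (χ : G → ℂ) x = (χ : G → ℂ) 1 * θ ⟨x, hx⟩ := by
    have := congrFun hcl ⟨x, hx⟩
    simp only [Pi.smul_apply, smul_eq_mul] at this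
    rw [this, hc1]
  obtain ⟨n, ρ, hρ, hχρ⟩ := irr_exists_rep χ
  have hnorm : ‖ρ.character x‖ = Module.finrank ℂ (Fin n → ℂ) := by
    rw [hχρ, hχx, norm_mul, norm_irr_eq_one_of_comm hNcomm hθ, mul_one, ← hχρ,
      Representation.char_one]
    simp
  obtain ⟨c', hc'⟩ := (norm_char_eq_finrank_iff ρ x).mp hnorm
  have hcomm : ρ (x * g * x⁻¹ * g⁻¹) = 1 := by
    have h1 : ρ (x * g) = ρ (g * x) := by
      rw [map_mul, map_mul, hc']
      ext v
      simp
    have : x * g * x⁻¹ * g⁻¹ = (x * g) * (g * x)⁻¹ := by group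
    rw [this, map_mul, h1, ← map_mul, mul_inv_cancel, map_one]
  rw [← hχρ]
  exact (char_eq_char_one_iff ρ _).mpr hcomm

end Cfsg.Agent.Lib.H1.TD

namespace Cfsg.Agent.Lib.H1.TD

open Cfsg Cfsg.Agent.Lib.L0 Cfsg.Agent.Lib.H23 Cfsg.Agent.Lib.H24
open scoped ComplexConjugate commutatorElement

universe u

/-- Abelian normal subgroup of prime power index: every irreducible character is monomial. -/
theorem monomial_aux (p : ℕ) (hp : p.Prime) : ∀ (n : ℕ) (G : Type u) [Group G] [Fintype G]
    (N : Subgroup G) [N.Normal], Nat.card G = n → (∀ x ∈ N, ∀ y ∈ N, x * y = y * x) →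
    (∃ k : ℕ, N.index = p ^ k) → ∀ χ : G → ℂ, IsIrrCharacter G χ →
    ∃ (H : Subgroup G) (lam : H →* ℂˣ), χ = indFun H (fun h => (lam h : ℂ)) := by
  intro n
  induction n using Nat.strong_induction_on with
  | _ n ih =>
    intro G _ _ N hN hcard hNab hidx χ hχ
    obtain ⟨k, hk⟩ := hidx
    classical
    have hpf : Fact p.Prime := ⟨hp⟩
    obtain ⟨θ, hcon⟩ := exists_under N ⟨χ, hχ⟩
    set T : Subgroup G := Cfsg.Agent.Lib.H23.inertia N (θ : N → ℂ) with hTdef
    have hNT : N ≤ T := Cfsg.Agent.Lib.H23.le_inertia N (isClassFunction_of_isCharacter (isCharacter_of_irr θ.2))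
    by_cases hT : T = ⊤
    · -- invariant constituent: reduce to the nilpotent group `G / ker χ`
      have hinv : ∀ (g : G) (n : N),
          (θ : N → ℂ) ⟨g * n * g⁻¹, hN.conj_mem (n : G) n.2 g⟩ = (θ : N → ℂ) n := by
        intro g n
        have hg : g ∈ T := by rw [hT]; exact Subgroup.mem_top g
        exact hg n
      have hcomm := commutator_mem_ker_of_invariant N hNab ⟨χ, hχ⟩ (θ : N → ℂ) θ.2 hcon hinv
      set K : Subgroup G := charKer χ (isCharacter_of_irr hχ) with hKdef
      have hKn : K.Normal := inferInstance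
      -- nilpotency of the quotient
      have hle : K ≤ (N ⊔ K).comap (MonoidHom.id G) := by
        intro a ha
        exact Subgroup.mem_sup_right ha
      set f : G ⧸ K →* G ⧸ (N ⊔ K) := QuotientGroup.map K (N ⊔ K) (MonoidHom.id G) hle with hf
      have hker : f.ker ≤ Subgroup.center (G ⧸ K) := by
        rw [hf, QuotientGroup.ker_map]
        rintro _ ⟨a, ha, rfl⟩
        have ha' : a ∈ ((N ⊔ K : Subgroup G) : Set G) := ha
        rw [Subgroup.mul_normal N K] at ha'
        obtain ⟨x, hx, k', hk', rfl⟩ := ha'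
        rw [Subgroup.mem_center_iff]
        intro q
        obtain ⟨g, rfl⟩ := QuotientGroup.mk'_surjective K q
        have hk1 : (QuotientGroup.mk' K) k' = 1 := by
          rw [QuotientGroup.mk'_apply, QuotientGroup.eq_one_iff]; exact hk'
        rw [map_mul, hk1, mul_one, ← map_mul, ← map_mul, QuotientGroup.mk'_apply,
          QuotientGroup.mk'_apply, QuotientGroup.eq]
        -- (g * x)⁻¹ * (x * g) ∈ K
        have h1 := hcomm x⁻¹ (N.inv_mem hx) g⁻¹
        have h2 : (g * x)⁻¹ * (x * g) = x⁻¹ * g⁻¹ * x⁻¹⁻¹ * g⁻¹⁻¹ := by group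
        rw [h2]
        exact h1
      have hnilQ : Group.IsNilpotent (G ⧸ (N ⊔ K)) := by
        have hcardQ : Nat.card (G ⧸ (N ⊔ K)) ∣ p ^ k := by
          rw [← Subgroup.index_eq_card, ← hk]
          exact Subgroup.index_dvd_of_le le_sup_left
        obtain ⟨j, -, hj⟩ := (Nat.dvd_prime_pow hp).mp hcardQ
        exact (IsPGroup.of_card hj).isNilpotent
      have hnil : Group.IsNilpotent (G ⧸ K) := Subgroup.isNilpotent_of_ker_le_center f hker
      obtain ⟨ψ, hψ⟩ := exists_deflation ⟨χ, hχ⟩ K (fun n hn => hn)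
      obtain ⟨H', lam', hlam'⟩ := monomial_of_nilpotent (ψ : G ⧸ K → ℂ) ψ.2
      refine ⟨H'.comap (QuotientGroup.mk' K),
        lam'.comp ((QuotientGroup.mk' K).subgroupComap H'), ?_⟩
      funext g
      have h1 := hψ g
      rw [hlam'] at h1
      have h2 := Cfsg.Agent.Lib.H24.Berger.indFun_comp_surjective (QuotientGroup.mk' K) (QuotientGroup.mk'_surjective K) H'
        (fun h => (lam' h : ℂ)) g
      have h3 : χ g = indFun H' (fun h => (lam' h : ℂ)) ((QuotientGroup.mk' K) g) := h1.symm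
      rw [h3]
      exact h2
    · -- proper inertia group
      have : Fintype T := Fintype.ofFinite T
      obtain ⟨ψ, hψ, hind, -⟩ :=
        clifford_correspondence N T hNT (θ : N → ℂ) θ.2 (fun g => Iff.rfl) χ hχ hcon
      have hlt : Nat.card T < n := by
        rw [← hcard]
        exact lt_of_le_of_ne (Subgroup.card_le_card_group T)
          (fun h => hT (Subgroup.eq_top_of_card_eq T h))
      have hNTn : (N.subgroupOf T).Normal := Subgroup.normal_subgroupOf
      have hab' : ∀ x ∈ N.subgroupOf T, ∀ y ∈ N.subgroupOf T, x * y = y * x := by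
        intro x hx y hy
        apply Subtype.ext
        exact hNab x hx y hy
      have hidx' : ∃ j : ℕ, (N.subgroupOf T).index = p ^ j := by
        have h1 : N.relIndex T ∣ p ^ k := by
          rw [← hk]
          exact Subgroup.relIndex_dvd_index_of_le hNT
        obtain ⟨j, -, hj⟩ := (Nat.dvd_prime_pow hp).mp h1
        exact ⟨j, hj⟩
      obtain ⟨H', μ, hμ⟩ := ih (Nat.card T) hlt T (N.subgroupOf T) rfl hab' hidx' ψ hψ
      refine ⟨H'.map T.subtype,
        μ.comp (H'.equivMapOfInjective T.subtype T.subtype_injective).symm.toMonoidHom, ?_⟩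
      rw [← hind, hμ, indFun_trans_map]
      rfl

/-- Case (B-v): an abelian normal subgroup of prime power index and at most three degrees. -/
theorem derived_three_of_abelian_hall {G : Type u} [Group G] [Finite G] {m n p : ℕ}
    (hp : p.Prime) (h1m : 1 < m) (hmn : m < n) (hcd : cd G ⊆ {1, m, n})
    (N : Subgroup G) (hN : N.Normal) (hNab : ∀ x ∈ N, ∀ y ∈ N, x * y = y * x)
    (hidx : ∃ k : ℕ, N.index = p ^ k) : derivedSeries G 3 = ⊥ := by
  classical
  have := Fintype.ofFinite G
  exact taketa_three h1m hmn hcd (fun χ hχ => monomial_aux p hp _ G N rfl hNab hidx χ hχ)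

end Cfsg.Agent.Lib.H1.TD
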