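import Mathlib
import Cfsg.Agent.Lib.H1.TDCaseA
import Cfsg.Agent.Lib.H1.TDCaseB
import Cfsg.Agent.Lib.H1.TDMono
import Cfsg.Agent.Lib.H23.DegreeDvd

/-!
# Three character degrees: derived length at most three (Isaacs 12.15)
-/

set_option autoImplicit false
set_option linter.unusedSectionVars false

namespace Cfsg.Agent.Lib.H1.TD

open Cfsg Cfsg.Agent.Lib.L0 Cfsg.Agent.Lib.H23 Cfsg.Agent.Lib.H24

universe u

/-- The main step: `cd G = {1, m, n}` with `1 < m < n`. -/
theorem three_degrees_step {G : Type u} [Group G] [Finite G] {m n : ℕ}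
    (h1m : 1 < m) (hmn : m < n) (hcd : cd G ⊆ {1, m, n}) (hm : m ∈ cd G) (hn : n ∈ cd G)
    (IH : ∀ H : Subgroup G, Nat.card H < Nat.card G → ∀ a b : ℕ, cd H ⊆ {1, a, b} →
      derivedSeries H 3 = ⊥) : derivedSeries G 3 = ⊥ := by
  classical
  haveI := Fintype.ofFinite G
  by_cases hp : ∃ p : ℕ, p.Prime ∧ p ∣ m ∧ p ∣ n
  · obtain ⟨p, hp, hpm, hpn⟩ := hp
    have hpG : p ∣ Nat.card G := by
      obtain ⟨χ, hχ⟩ := hm
      have := Cfsg.Agent.Lib.H23.charDegree_dvd_card (χ : G → ℂ) χ.2
      rw [hχ] at this
      exact hpm.trans this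
    exact caseB hp hcd hpm hpn hpG IH
      (fun N hN hNab hidx => derived_three_of_abelian_hall hp h1m hmn hcd N hN hNab hidx)
  · have hcop : Nat.Coprime m n := by
      apply Nat.coprime_of_dvd
      intro k hk hkm hkn
      exact hp ⟨k, hk, hkm, hkn⟩
    exact caseA h1m (by omega) hcop hcd hm hn

theorem three_degrees_aux : ∀ (k : ℕ) (G : Type u) [Group G] [Finite G], Nat.card G = k →
    ∀ a b : ℕ, cd G ⊆ {1, a, b} → derivedSeries G 3 = ⊥ := by
  intro k
  induction k using Nat.strong_induction_on with
  | _ k ih =>
    intro G _ _ hk a b hcd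
    have IH : ∀ H : Subgroup G, Nat.card H < Nat.card G → ∀ a b : ℕ, cd H ⊆ {1, a, b} →
        derivedSeries H 3 = ⊥ := by
      intro H hlt a b h
      exact ih (Nat.card H) (hk ▸ hlt) H rfl a b h
    have hcd' : ∀ d ∈ cd G, d = 1 ∨ d = a ∨ d = b := by
      intro d hd
      simpa using hcd hd
    have htwo : ∀ g : ℕ, cd G ⊆ {1, g} → derivedSeries G 3 = ⊥ := by
      intro g hg
      have h2 := derivedSeries_two_of_cd hg
      rw [eq_bot_iff, ← h2]
      exact derivedSeries_antitone G (by omega)
    by_cases ha : a ∈ cd G ∧ a ≠ 1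
    · by_cases hb : b ∈ cd G ∧ b ≠ 1
      · by_cases hab : a = b
        · apply htwo a
          intro d hd
          rcases hcd' d hd with h | h | h
          · left; exact h
          · right; exact h
          · right; rw [hab]; exact h
        · have h1a : 1 < a := by
            have := cd_pos ha.1
            have := ha.2
            omega
          have h1b : 1 < b := by
            have := cd_pos hb.1
            have := hb.2
            omega
          rcases Nat.lt_or_gt_of_ne hab with hlt | hlt
          · exact three_degrees_step h1a hlt hcd ha.1 hb.1 IH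
          · refine three_degrees_step h1b hlt ?_ hb.1 ha.1 IH
            intro d hd
            rcases hcd' d hd with h | h | h <;> simp [h]
      · apply htwo a
        intro d hd
        rcases hcd' d hd with h | h | h
        · left; exact h
        · right; exact h
        · by_cases hb1 : b = 1
          · left; rw [h, hb1]
          · exfalso; exact hb ⟨h ▸ hd, hb1⟩
    · apply htwo b
      intro d hd
      rcases hcd' d hd with h | h | h
      · left; exact h
      · by_cases ha1 : a = 1
        · left; rw [h, ha1]
        · exfalso; exact ha ⟨h ▸ hd, ha1⟩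
      · right; exact h

/-- **Isaacs 12.15**: at most three character degrees implies derived length at most three. -/
theorem three_degrees {G : Type u} [Group G] [Finite G] {a b : ℕ} (hcd : cd G ⊆ {1, a, b}) :
    derivedSeries G 3 = ⊥ :=
  three_degrees_aux (Nat.card G) G rfl a b hcd

end Cfsg.Agent.Lib.H1.TD
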