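import Mathlib
import Cfsg.Agent.Lib.H1.TDMain
import Cfsg.Agent.Lib.H23.BurnsidePQ

/-!
# Groups whose nonlinear irreducible characters have prime degree: reductions

* `PrimeDeg G`: every nonlinear irreducible character has prime degree;
* the property passes to normal subgroups and quotients;
* reduction of solvability to the nonabelian simple case;
* Burnside vanishing in simple groups; divisibility of the degree by the order of a subgroup off
  which the character vanishes.
-/

set_option autoImplicit false
set_option linter.unusedSectionVars false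

namespace Cfsg.Agent.Lib.H1.PD

open Cfsg Cfsg.Agent.Lib.L0 Cfsg.Agent.Lib.H23 Cfsg.Agent.Lib.H24 Cfsg.Agent.Lib.H1.TD

universe u

/-- Every nonlinear irreducible character has prime degree. -/
def PrimeDeg (G : Type u) [Group G] : Prop :=
  ∀ χ : IrrCharacter G, charDegree (χ : G → ℂ) ≠ 1 → (charDegree (χ : G → ℂ)).Prime

section hered

variable {G : Type u} [Group G] [Finite G]

theorem PrimeDeg.normal (h : PrimeDeg G) (N : Subgroup G) [N.Normal] : PrimeDeg N := by
  classical
  haveI := Fintype.ofFinite G
  haveI : Fintype N := Fintype.ofFinite _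
  intro θ hθ
  obtain ⟨χ, hχ⟩ := exists_over N θ
  have hd := under_dvd N hχ
  have hχ1 : charDegree (χ : G → ℂ) ≠ 1 := by
    intro h1
    rw [h1] at hd
    exact hθ (Nat.dvd_one.mp hd)
  have hp := h χ hχ1
  rcases (Nat.dvd_prime hp).mp hd with h1 | h1
  · exact absurd h1 hθ
  · rw [h1]; exact hp

theorem PrimeDeg.quot (h : PrimeDeg G) (N : Subgroup G) [N.Normal] : PrimeDeg (G ⧸ N) := by
  intro ψ hψ
  obtain ⟨χ, hχ⟩ := cd_quot_subset N (deg_mem_cd ψ)
  rw [← hχ] at hψ ⊢
  exact h χ hψ

end hered

/-- Reduction to the simple case. -/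
theorem solvable_of_primeDeg_aux
    (hsimple : ∀ (G : Type u) [Group G] [Finite G] [IsSimpleGroup G],
      (¬ ∀ a b : G, a * b = b * a) → PrimeDeg G → False) :
    ∀ (k : ℕ) (G : Type u) [Group G] [Finite G], Nat.card G = k → PrimeDeg G →
      Group.IsSolvable G := by
  intro k
  induction k using Nat.strong_induction_on with
  | _ k ih =>
    intro G _ _ hk hpd
    by_cases hN : ∃ N : Subgroup G, N.Normal ∧ N ≠ ⊥ ∧ N ≠ ⊤
    · obtain ⟨N, hNn, hbot, htop⟩ := hN
      haveI := hNn
      have h1 : Nat.card N < k := by
        rw [← hk]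
        have hle : Nat.card N ≤ Nat.card G := Subgroup.card_le_card_group N
        rcases hle.lt_or_eq with h | h
        · exact h
        · exact absurd ((Subgroup.card_eq_iff_eq_top N).mp h) htop
      have h2 : Nat.card (G ⧸ N) < k := by
        rw [← hk, ← Subgroup.index_eq_card, ← Subgroup.card_mul_index N]
        have hN1 : 1 < Nat.card N := by
          rw [Subgroup.one_lt_card_iff_ne_bot]
          exact hbot
        have hpos : 0 < N.index := Nat.pos_of_ne_zero Subgroup.index_ne_zero_of_finite
        nlinarith
      haveI s1 : Group.IsSolvable N := ih _ h1 N rfl (hpd.normal N)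
      haveI s2 : Group.IsSolvable (G ⧸ N) := ih _ h2 (G ⧸ N) rfl (hpd.quot N)
      exact Group.isSolvable_of_ker_le_range N.subtype (QuotientGroup.mk' N) (by
        rw [QuotientGroup.ker_mk', Subgroup.range_subtype])
    · push Not at hN
      by_cases hcomm : ∀ a b : G, a * b = b * a
      · exact Group.isSolvable_of_comm hcomm
      · exfalso
        haveI : Nontrivial G := by
          by_contra hnt
          rw [not_nontrivial_iff_subsingleton] at hnt
          apply hcomm
          intro a b
          exact Subsingleton.elim _ _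
        haveI : IsSimpleGroup G := ⟨fun H hH => by
          by_cases hb : H = ⊥
          · left; exact hb
          · right; exact hN H hH hb⟩
        exact hsimple G hcomm hpd

section simple

variable {G : Type u} [Group G] [Finite G]

/-- Burnside: in a nonabelian simple group a nonlinear irreducible character vanishes at each
nonidentity element whose class size is prime to the degree. -/
theorem irr_eq_zero_of_coprime [IsSimpleGroup G] (hnc : ¬ ∀ a b : G, a * b = b * a)
    (χ : IrrCharacter G) (hdeg : charDegree (χ : G → ℂ) ≠ 1) (g : G) (hg : g ≠ 1)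
    (hcop : Nat.Coprime (charDegree (χ : G → ℂ))
      (Subgroup.centralizer ({g} : Set G)).index) :
    (χ : G → ℂ) g = 0 := by
  obtain ⟨n, ρ, hirr, hχ⟩ := χ.2
  haveI : ρ.IsIrreducible := hirr
  have hn : charDegree (χ : G → ℂ) = Module.finrank ℂ (Fin n → ℂ) := by
    apply charDegree_eq_of_apply_one
    rw [← hχ, Representation.char_one]
  rw [hn] at hcop hdeg
  rw [← hχ]
  rcases Cfsg.Agent.S0142.result ρ g hcop with h0 | hnorm
  · exact h0
  · exfalso
    obtain ⟨c, hc⟩ := (norm_char_eq_finrank_iff ρ g).mp hnorm
    have hker : (ρ : G →* ((Fin n → ℂ) →ₗ[ℂ] (Fin n → ℂ))).ker = ⊥ ∨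
        (ρ : G →* ((Fin n → ℂ) →ₗ[ℂ] (Fin n → ℂ))).ker = ⊤ :=
      IsSimpleGroup.eq_bot_or_eq_top_of_normal _ (MonoidHom.normal_ker _)
    rcases hker with hbot | htop
    · have hinj : Function.Injective ρ := (MonoidHom.ker_eq_bot_iff _).mp hbot
      have hcen : g ∈ Subgroup.center G := by
        rw [Subgroup.mem_center_iff]
        intro x
        apply hinj
        rw [map_mul, map_mul, hc]
        simp
      have hcne : Subgroup.center G ≠ ⊥ := by
        intro h
        rw [h, Subgroup.mem_bot] at hcen
        exact hg hcen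
      have hctop : Subgroup.center G = ⊤ :=
        (IsSimpleGroup.eq_bot_or_eq_top_of_normal _ inferInstance).resolve_left hcne
      apply hnc
      intro a b
      have ha : a ∈ Subgroup.center G := by rw [hctop]; trivial
      exact ((Subgroup.mem_center_iff.mp ha) b).symm
    · have htriv : ∀ x : G, ρ x = 1 := by
        intro x
        have hx : x ∈ (ρ : G →* ((Fin n → ℂ) →ₗ[ℂ] (Fin n → ℂ))).ker := by rw [htop]; trivial
        exact (MonoidHom.mem_ker).mp hx
      exact hdeg (finrank_eq_one_of_forall_smul ρ (fun x => ⟨1, by rw [htriv x, one_smul]⟩))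

/-- If a character vanishes at the nonidentity elements of a subgroup `H`, then `|H|` divides
its degree. -/
theorem card_dvd_of_vanish (H : Subgroup G) {χ : G → ℂ} (hχ : IsCharacter G χ)
    (hvan : ∀ h ∈ H, h ≠ 1 → χ h = 0) (d : ℕ) (hd : χ 1 = d) : Nat.card H ∣ d := by
  classical
  haveI : Fintype H := Fintype.ofFinite _
  have hres : IsCharacter H (fun h : H => χ h) := isCharacter_restrict H hχ
  obtain ⟨n, hn⟩ := classInner_char_irr_nat hres (L0.isIrrCharacter_one (G := H))
  have hcard : (Nat.card H : ℂ) ≠ 0 := by
    exact_mod_cast (Nat.card_pos (α := H)).ne'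
  unfold classInner at hn
  rw [Finset.sum_eq_single (1 : H)] at hn
  · simp only [Subgroup.coe_one, Pi.one_apply, map_one, mul_one] at hn
    rw [hd] at hn
    have h2 : (d : ℂ) = (Nat.card H : ℂ) * n := by
      rw [← hn, ← mul_assoc, mul_inv_cancel₀ hcard, one_mul]
    have h3 : d = Nat.card H * n := by exact_mod_cast h2
    exact ⟨n, h3⟩
  · intro h _ hh
    have : χ (h : G) = 0 := hvan h h.2 (fun h1 => hh (Subtype.ext h1))
    show χ (h : G) * _ = 0
    rw [this, zero_mul]
  · intro h
    exact absurd (Finset.mem_univ _) h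

end simple

end Cfsg.Agent.Lib.H1.PD
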