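import Mathlib
import Cfsg.Agent.Lib.H1.PDBasic
import Cfsg.Agent.Lib.L0.CharInd

/-!
# Prime degrees: class functions induced from a self-centralizing subgroup of prime order
-/

set_option autoImplicit false
set_option linter.unusedSectionVars false

namespace Cfsg.Agent.Lib.H1.PD

open Cfsg Cfsg.Agent.Lib.L0 Cfsg.Agent.Lib.H23 Cfsg.Agent.Lib.H24 Cfsg.Agent.Lib.H1.TD
open scoped ComplexConjugate

universe u

section norm

variable {G : Type u} [Group G] [Fintype G] (P : Subgroup G) [Fintype P]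

/-- The contribution of `y` to the norm of an induced function. -/
noncomputable def innerSum (θ : P → ℂ) (y : G) : ℂ :=
  ∑ x : P, θ x * conj (extendByZero P θ (y⁻¹ * (x : G) * y))

theorem classInner_indFun_self (θ : P → ℂ) :
    classInner (indFun P θ) (indFun P θ) =
      ((Nat.card P : ℂ)⁻¹) ^ 2 * ∑ y : G, innerSum P θ y := by
  rw [frobenius_reciprocity P θ (indFun P θ) (indFun_isClassFunction P θ)]
  unfold classInner innerSum
  simp only [indFun_apply, map_mul, map_inv₀, Complex.conj_natCast, map_sum]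
  have h1 : ∀ x : P, θ x * ((Nat.card P : ℂ)⁻¹ *
      ∑ y : G, conj (extendByZero P θ (y⁻¹ * (x : G) * y))) =
      (Nat.card P : ℂ)⁻¹ * ∑ y : G, θ x * conj (extendByZero P θ (y⁻¹ * (x : G) * y)) := by
    intro x
    rw [Finset.mul_sum, Finset.mul_sum, Finset.mul_sum]
    refine Finset.sum_congr rfl (fun y _ => ?_)
    ring
  rw [Finset.sum_congr rfl (fun x _ => h1 x), ← Finset.mul_sum, Finset.sum_comm, sq, mul_assoc]

theorem innerSum_eq_zero_of_forall_not_mem (θ : P → ℂ) (h1 : θ 1 = 0) (y : G)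
    (hy : ∀ x ∈ P, x ≠ 1 → y⁻¹ * x * y ∉ P) : innerSum P θ y = 0 := by
  unfold innerSum
  apply Finset.sum_eq_zero
  intro x _
  by_cases hx : x = 1
  · rw [hx, h1, zero_mul]
  · have : y⁻¹ * (x : G) * y ∉ P := hy x x.2 (fun h => hx (Subtype.ext h))
    rw [extendByZero_apply_not_mem P θ this, map_zero, mul_zero]

/-- Conjugation by a normalizing element, as an automorphism of `P`. -/
noncomputable def cjHom (y : G) (hy : ∀ x ∈ P, y⁻¹ * x * y ∈ P) : P →* P where
  toFun x := ⟨y⁻¹ * (x : G) * y, hy x x.2⟩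
  map_one' := by
    apply Subtype.ext
    simp
  map_mul' a b := by
    apply Subtype.ext
    simp only [Subgroup.coe_mul]
    group

theorem cjHom_injective (y : G) (hy : ∀ x ∈ P, y⁻¹ * x * y ∈ P) :
    Function.Injective (cjHom P y hy) := by
  intro a b hab
  have h := congrArg Subtype.val hab
  simp only [cjHom, MonoidHom.coe_mk, OneHom.coe_mk] at h
  apply Subtype.ext
  have h2 : y⁻¹ * (a : G) = y⁻¹ * (b : G) := mul_right_cancel h
  exact mul_left_cancel h2

/-- Conjugation by a normalizing element, as an automorphism of `P`. -/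
noncomputable def cjEquiv (y : G) (hy : ∀ x ∈ P, y⁻¹ * x * y ∈ P) : P ≃* P :=
  MulEquiv.ofBijective (cjHom P y hy)
    ⟨cjHom_injective P y hy, Finite.injective_iff_surjective.mp (cjHom_injective P y hy)⟩

theorem cjEquiv_coe (y : G) (hy : ∀ x ∈ P, y⁻¹ * x * y ∈ P) (x : P) :
    ((cjEquiv P y hy x : P) : G) = y⁻¹ * (x : G) * y := rfl

theorem innerSum_of_normalizes (θ : P → ℂ) (y : G) (hy : ∀ x ∈ P, y⁻¹ * x * y ∈ P) :
    innerSum P θ y = (Nat.card P : ℂ) * classInner θ (θ ∘ cjEquiv P y hy) := by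
  unfold innerSum classInner
  have hcard : (Nat.card P : ℂ) ≠ 0 := by
    exact_mod_cast (Nat.card_pos (α := P)).ne'
  rw [← mul_assoc, mul_inv_cancel₀ hcard, one_mul]
  refine Finset.sum_congr rfl (fun x _ => ?_)
  rw [← cjEquiv_coe P y hy x, extendByZero_apply_mem]
  rfl

end norm

section prime

variable {G : Type u} [Group G] [Fintype G] (P : Subgroup G) [Fintype P]

/-- In a subgroup of prime order every nonidentity element generates. -/
theorem mem_zpowers_of_prime_card (hq : (Nat.card P).Prime) {x0 : G} (hx0 : x0 ∈ P)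
    (h1 : x0 ≠ 1) {x : G} (hx : x ∈ P) : x ∈ Subgroup.zpowers x0 := by
  have hle : Subgroup.zpowers x0 ≤ P := by
    rw [Subgroup.zpowers_le]
    exact hx0
  have hcard : Nat.card (Subgroup.zpowers x0) = Nat.card P := by
    have hdvd : Nat.card (Subgroup.zpowers x0) ∣ Nat.card P := Subgroup.card_dvd_of_le hle
    rcases (Nat.dvd_prime hq).mp hdvd with h | h
    · exfalso
      rw [Nat.card_zpowers] at h
      exact h1 (orderOf_eq_one_iff.mp h)
    · exact h
  have heq : Subgroup.zpowers x0 = P :=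
    Subgroup.eq_of_le_of_card_ge hle (le_of_eq hcard.symm)
  rw [heq]
  exact hx

theorem normalizes_of_conj_mem (hq : (Nat.card P).Prime) {y x0 : G} (hx0 : x0 ∈ P)
    (h1 : x0 ≠ 1) (h : y⁻¹ * x0 * y ∈ P) : ∀ x ∈ P, y⁻¹ * x * y ∈ P := by
  intro x hx
  obtain ⟨k, rfl⟩ := Subgroup.mem_zpowers_iff.mp (mem_zpowers_of_prime_card P hq hx0 h1 hx)
  have : y⁻¹ * x0 ^ k * y = (y⁻¹ * x0 * y) ^ k := by
    have := conj_zpow (a := y⁻¹) (b := x0) (i := k)
    rw [inv_inv] at this
    exact this.symm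
  rw [this]
  exact P.zpow_mem h k

end prime

section irr

variable {G : Type u} [Group G] [Fintype G] (P : Subgroup G) [Fintype P]

/-- The conjugate of an irreducible character of `P` by a normalizing element. -/
noncomputable def cjIrrP (y : G) (hy : ∀ x ∈ P, y⁻¹ * x * y ∈ P) (μ : IrrCharacter P) :
    IrrCharacter P :=
  ⟨(μ : P → ℂ) ∘ cjEquiv P y hy, isIrrCharacter_comp_mulEquiv (cjEquiv P y hy) μ.2⟩

theorem cjIrrP_coe (y : G) (hy : ∀ x ∈ P, y⁻¹ * x * y ∈ P) (μ : IrrCharacter P) :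
    (cjIrrP P y hy μ : P → ℂ) = (μ : P → ℂ) ∘ cjEquiv P y hy := rfl

theorem deg_eq_one_of_comm (hab : ∀ a b : P, a * b = b * a) (μ : IrrCharacter P) :
    charDegree (μ : P → ℂ) = 1 :=
  (deg_eq_one_iff μ).mpr (irr_apply_one_of_comm hab μ.2)

theorem cjIrrP_of_mem (hab : ∀ a b : P, a * b = b * a) (y : G)
    (hy : ∀ x ∈ P, y⁻¹ * x * y ∈ P) (hyP : y ∈ P) (μ : IrrCharacter P) :
    cjIrrP P y hy μ = μ := by
  apply Subtype.ext
  funext x
  rw [cjIrrP_coe, Function.comp_apply]
  have hx : cjEquiv P y hy x = x := by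
    apply Subtype.ext
    rw [cjEquiv_coe]
    have := hab ⟨y, hyP⟩ x
    have h2 : y * (x : G) = (x : G) * y := congrArg Subtype.val this
    rw [mul_assoc, ← h2, ← mul_assoc, inv_mul_cancel, one_mul]
  rw [hx]

/-- A nontrivial irreducible character of a self-centralizing subgroup of prime order is fixed
only by the elements of the subgroup. -/
theorem mem_of_cjIrrP_eq (hq : (Nat.card P).Prime)
    (hC : ∀ g : G, (∀ x ∈ P, g * x = x * g) → g ∈ P) (hab : ∀ a b : P, a * b = b * a)
    (y : G) (hy : ∀ x ∈ P, y⁻¹ * x * y ∈ P) (μ : IrrCharacter P) (hμ : μ ≠ trivialIrr P)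
    (hfix : cjIrrP P y hy μ = μ) : y ∈ P := by
  classical
  have hdeg := deg_eq_one_of_comm P hab μ
  set f : P →* ℂˣ := linHom μ hdeg with hf
  have hfμ : ∀ x : P, ((f x : ℂˣ) : ℂ) = (μ : P → ℂ) x := fun x => linHom_apply μ hdeg x
  have hker : f.ker = ⊥ := by
    have hdvd : Nat.card f.ker ∣ Nat.card P := Subgroup.card_subgroup_dvd_card f.ker
    rcases (Nat.dvd_prime hq).mp hdvd with h | h
    · exact Subgroup.card_eq_one.mp h
    · exfalso
      have htop : f.ker = ⊤ := (Subgroup.card_eq_iff_eq_top f.ker).mp h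
      apply hμ
      apply Subtype.ext
      funext x
      have hx : x ∈ f.ker := by rw [htop]; trivial
      rw [← hfμ x, MonoidHom.mem_ker.mp hx]
      rfl
  apply hC
  intro x hx
  have h1 : (μ : P → ℂ) (cjEquiv P y hy ⟨x, hx⟩) = (μ : P → ℂ) ⟨x, hx⟩ := by
    have := congrFun (congrArg Subtype.val hfix) ⟨x, hx⟩
    rw [cjIrrP_coe, Function.comp_apply] at this
    exact this
  have h2 : f (cjEquiv P y hy ⟨x, hx⟩) = f ⟨x, hx⟩ := by
    apply Units.ext
    rw [hfμ, hfμ, h1]
  have h3 : cjEquiv P y hy ⟨x, hx⟩ * (⟨x, hx⟩ : P)⁻¹ ∈ f.ker := by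
    rw [MonoidHom.mem_ker, map_mul, map_inv, h2, mul_inv_cancel]
  rw [hker, Subgroup.mem_bot, mul_inv_eq_one] at h3
  have h4 := congrArg Subtype.val h3
  rw [cjEquiv_coe] at h4
  -- y⁻¹ * x * y = x
  have h5 : x * y = y * x := by
    calc x * y = y * (y⁻¹ * x * y) := by group
      _ = y * x := by rw [h4]
  exact h5.symm

/-- A nontrivial irreducible character of `P` takes a value `≠ 1`. -/
theorem exists_ne_one_of_ne_trivial (μ : IrrCharacter P) (hμ : μ ≠ trivialIrr P) :
    ∃ x : P, (μ : P → ℂ) x ≠ 1 := by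
  by_contra h
  push Not at h
  apply hμ
  apply Subtype.ext
  funext x
  exact h x

/-- The induced difference of two non-conjugate nontrivial linear characters has norm `2`. -/
theorem classInner_indFun_sub_self (hq : (Nat.card P).Prime)
    (hC : ∀ g : G, (∀ x ∈ P, g * x = x * g) → g ∈ P) (hab : ∀ a b : P, a * b = b * a)
    (l m : IrrCharacter P) (hl : l ≠ trivialIrr P) (hm : m ≠ trivialIrr P) (hne : l ≠ m)
    (hnc : ∀ (y : G) (hy : ∀ x ∈ P, y⁻¹ * x * y ∈ P),
      cjIrrP P y hy m ≠ l ∧ cjIrrP P y hy l ≠ m) :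
    classInner (indFun P ((m : P → ℂ) - (l : P → ℂ)))
      (indFun P ((m : P → ℂ) - (l : P → ℂ))) = 2 := by
  classical
  set θ : P → ℂ := (m : P → ℂ) - (l : P → ℂ) with hθ
  have hθ1 : θ 1 = 0 := by
    rw [hθ, Pi.sub_apply, irr_apply_one_of_comm hab m.2, irr_apply_one_of_comm hab l.2, sub_self]
  have hcard : (Nat.card P : ℂ) ≠ 0 := by
    exact_mod_cast (Nat.card_pos (α := P)).ne'
  have hinner : ∀ (a b : IrrCharacter P), classInner (a : P → ℂ) (b : P → ℂ) =
      if a = b then 1 else 0 := by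
    intro a b
    split_ifs with h
    · rw [h]; exact irr_classInner_self b.2
    · exact irr_classInner_ne a.2 b.2 (fun h' => h (Subtype.ext h'))
  have hkey : ∀ y : G, innerSum P θ y = if y ∈ P then 2 * (Nat.card P : ℂ) else 0 := by
    intro y
    by_cases hN : ∃ x0 ∈ P, x0 ≠ 1 ∧ y⁻¹ * x0 * y ∈ P
    · obtain ⟨x0, hx0, hx01, hx0y⟩ := hN
      have hy := normalizes_of_conj_mem P hq hx0 hx01 hx0y
      rw [innerSum_of_normalizes P θ y hy]
      have hcomp : θ ∘ cjEquiv P y hy =
          (cjIrrP P y hy m : P → ℂ) - (cjIrrP P y hy l : P → ℂ) := rfl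
      rw [hcomp, hθ, classInner_sub_left, classInner_sub_right, classInner_sub_right,
        hinner, hinner, hinner, hinner]
      by_cases hyP : y ∈ P
      · rw [if_pos hyP, cjIrrP_of_mem P hab y hy hyP, cjIrrP_of_mem P hab y hy hyP,
          if_pos rfl, if_pos rfl, if_neg (fun h => hne h.symm), if_neg hne]
        ring
      · rw [if_neg hyP]
        have h1 : m ≠ cjIrrP P y hy m := fun h =>
          hyP (mem_of_cjIrrP_eq P hq hC hab y hy m hm h.symm)
        have h2 : l ≠ cjIrrP P y hy l := fun h =>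
          hyP (mem_of_cjIrrP_eq P hq hC hab y hy l hl h.symm)
        have h3 : m ≠ cjIrrP P y hy l := fun h => (hnc y hy).2 h.symm
        have h4 : l ≠ cjIrrP P y hy m := fun h => (hnc y hy).1 h.symm
        rw [if_neg h1, if_neg h3, if_neg h4, if_neg h2]
        ring
    · push Not at hN
      rw [innerSum_eq_zero_of_forall_not_mem P θ hθ1 y (fun x hx hx1 => hN x hx hx1)]
      have hyP : y ∉ P := by
        intro hyP
        obtain ⟨x, hx⟩ := exists_ne_one_of_ne_trivial P m hm
        have hx1 : (x : G) ≠ 1 := by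
          intro h
          apply hx
          have : x = 1 := Subtype.ext h
          rw [this, irr_apply_one_of_comm hab m.2]
        exact hN x x.2 hx1 (P.mul_mem (P.mul_mem (P.inv_mem hyP) x.2) hyP)
      rw [if_neg hyP]
  rw [classInner_indFun_self, Finset.sum_congr rfl (fun y _ => hkey y), Finset.sum_ite,
    Finset.sum_const_zero, add_zero, Finset.sum_const, nsmul_eq_mul]
  have hcount : ((Finset.univ.filter (fun y : G => y ∈ P)).card : ℂ) = (Nat.card P : ℂ) := by
    rw [Nat.card_eq_fintype_card, Fintype.card_subtype]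
  rw [hcount]
  field_simp

end irr

end Cfsg.Agent.Lib.H1.PD
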