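import Mathlib
import Cfsg.Agent.Lib.H1.PDInd
import Cfsg.Agent.Lib.H24.CharSchur

/-!
# Prime degrees: multiplicities of the characters of `P` in restrictions
-/

set_option autoImplicit false
set_option linter.unusedSectionVars false

namespace Cfsg.Agent.Lib.H1.PD

open Cfsg Cfsg.Agent.Lib.L0 Cfsg.Agent.Lib.H23 Cfsg.Agent.Lib.H24 Cfsg.Agent.Lib.H1.TD
open scoped ComplexConjugate

universe u

section mult

variable {G : Type u} [Group G] [Fintype G] (P : Subgroup G) [Fintype P]

/-- The multiplicity of `φ ∈ Irr(P)` in the restriction of `χ ∈ Irr(G)`. -/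
noncomputable def aM (χ : IrrCharacter G) (φ : IrrCharacter P) : ℕ :=
  mult (fun x : P => (χ : G → ℂ) x) φ

theorem isCharacter_res (χ : IrrCharacter G) : IsCharacter P (fun x : P => (χ : G → ℂ) x) :=
  isCharacter_restrict P (isCharacter_of_irr χ.2)

theorem aM_spec (χ : IrrCharacter G) (φ : IrrCharacter P) :
    classInner (φ : P → ℂ) (fun x : P => (χ : G → ℂ) x) = (aM P χ φ : ℂ) :=
  mult_spec' (isCharacter_res P χ) φ

theorem aM_spec' (χ : IrrCharacter G) (φ : IrrCharacter P) :
    classInner (fun x : P => (χ : G → ℂ) x) (φ : P → ℂ) = (aM P χ φ : ℂ) :=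
  mult_spec (isCharacter_res P χ) φ

/-- Frobenius reciprocity for induced differences. -/
theorem classInner_indFun_sub (χ : IrrCharacter G) (φ φ' : IrrCharacter P) :
    classInner (indFun P ((φ' : P → ℂ) - (φ : P → ℂ))) (χ : G → ℂ) =
      (aM P χ φ' : ℂ) - (aM P χ φ : ℂ) := by
  rw [frobenius_reciprocity P _ (χ : G → ℂ) (isClassFunction_irr χ), classInner_sub_left,
    aM_spec, aM_spec]

/-- Conjugation invariance of the multiplicities. -/
theorem aM_cjIrrP (χ : IrrCharacter G) (y : G) (hy : ∀ x ∈ P, y⁻¹ * x * y ∈ P)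
    (φ : IrrCharacter P) : aM P χ (cjIrrP P y hy φ) = aM P χ φ := by
  have h : classInner (fun x : P => (χ : G → ℂ) x) (cjIrrP P y hy φ : P → ℂ) =
      classInner (fun x : P => (χ : G → ℂ) x) (φ : P → ℂ) := by
    unfold classInner
    congr 1
    rw [← Equiv.sum_comp (cjEquiv P y hy).toEquiv
      (fun x : P => (χ : G → ℂ) x * conj ((φ : P → ℂ) x))]
    refine Finset.sum_congr rfl (fun x _ => ?_)
    rw [cjIrrP_coe, Function.comp_apply]
    congr 1
    show (χ : G → ℂ) x = (χ : G → ℂ) ((cjEquiv P y hy x : P) : G)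
    rw [cjEquiv_coe]
    have := isClassFunction_irr χ (x : G) y⁻¹
    rw [inv_inv] at this
    exact this.symm
  have h2 : (aM P χ (cjIrrP P y hy φ) : ℂ) = (aM P χ φ : ℂ) := by
    rw [← aM_spec', ← aM_spec', h]
  exact_mod_cast h2

variable [Fintype (IrrCharacter P)]

/-- Expansion of the restriction. -/
theorem res_expand (χ : IrrCharacter G) (x : P) :
    (χ : G → ℂ) x = ∑ φ : IrrCharacter P, (aM P χ φ : ℂ) * (φ : P → ℂ) x :=
  char_expand (isCharacter_res P χ) x

theorem aM_trivial (φ : IrrCharacter P) :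
    aM P (trivialIrr G) φ = if φ = trivialIrr P then 1 else 0 := by
  have : (fun x : P => (trivialIrr G : G → ℂ) x) = (trivialIrr P : P → ℂ) := rfl
  unfold aM
  rw [this, mult_irr]
  by_cases h : φ = trivialIrr P
  · rw [if_pos h, if_pos h.symm]
  · rw [if_neg h, if_neg (fun h' => h h'.symm)]

/-- The number of irreducible characters of an abelian group. -/
theorem card_irr_of_comm (hab : ∀ a b : P, a * b = b * a) :
    Fintype.card (IrrCharacter P) = Nat.card P := by
  have h := sum_irr_one_sq (G := P)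
  have h2 : ∑ χ : IrrCharacter P, (χ : P → ℂ) 1 ^ 2 = (Fintype.card (IrrCharacter P) : ℂ) := by
    rw [Finset.sum_congr rfl (fun χ _ => by rw [irr_apply_one_of_comm hab χ.2, one_pow]),
      Finset.sum_const, Finset.card_univ, nsmul_eq_mul, mul_one]
  rw [h2] at h
  exact_mod_cast h

/-- If the multiplicities are constant on the nontrivial characters of `P` then either `P` lies in
the kernel or the degree is at least `|P| - 1`. -/
theorem const_mult_cases (hab : ∀ a b : P, a * b = b * a) (χ : IrrCharacter G)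
    (hconst : ∀ φ φ' : IrrCharacter P, φ ≠ trivialIrr P → φ' ≠ trivialIrr P →
      aM P χ φ = aM P χ φ') :
    (∀ x : P, (χ : G → ℂ) x = (χ : G → ℂ) 1) ∨ Nat.card P - 1 ≤ charDegree (χ : G → ℂ) := by
  classical
  by_cases h0 : ∀ φ : IrrCharacter P, φ ≠ trivialIrr P → aM P χ φ = 0
  · left
    have hval : ∀ x : P, (χ : G → ℂ) x = (aM P χ (trivialIrr P) : ℂ) := by
      intro x
      rw [res_expand P χ x, Finset.sum_eq_single (trivialIrr P)]
      · rw [trivialIrr_apply, mul_one]
      · intro φ _ hφ
        rw [h0 φ hφ, Nat.cast_zero, zero_mul]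
      · intro h
        exact absurd (Finset.mem_univ _) h
    intro x
    rw [hval x, ← Subgroup.coe_one P, hval 1]
  · right
    push Not at h0
    obtain ⟨φ0, hφ0, ha0⟩ := h0
    have hdeg : charDegree (χ : G → ℂ) =
        ∑ φ : IrrCharacter P, aM P χ φ * charDegree (φ : P → ℂ) := by
      apply char_degree_sum (isCharacter_res P χ)
      show (χ : G → ℂ) ((1 : P) : G) = _
      rw [Subgroup.coe_one, apply_one_eq_charDegree _ χ.2]
    rw [hdeg, Finset.sum_congr rfl (fun φ _ => by rw [deg_eq_one_of_comm P hab φ, mul_one])]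
    calc Nat.card P - 1 = ((Finset.univ : Finset (IrrCharacter P)).erase (trivialIrr P)).card := by
          rw [Finset.card_erase_of_mem (Finset.mem_univ _), Finset.card_univ,
            card_irr_of_comm P hab]
      _ = ∑ _φ ∈ (Finset.univ : Finset (IrrCharacter P)).erase (trivialIrr P), 1 := by
          rw [Finset.sum_const, smul_eq_mul, mul_one]
      _ ≤ ∑ φ ∈ (Finset.univ : Finset (IrrCharacter P)).erase (trivialIrr P), aM P χ φ := by
          apply Finset.sum_le_sum
          intro φ hφ
          have hφ1 : φ ≠ trivialIrr P := Finset.ne_of_mem_erase hφ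
          rw [hconst φ φ0 hφ1 hφ0]
          exact Nat.one_le_iff_ne_zero.mpr ha0
      _ ≤ ∑ φ : IrrCharacter P, aM P χ φ :=
          Finset.sum_le_sum_of_subset (Finset.erase_subset _ _)

end mult

end Cfsg.Agent.Lib.H1.PD
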