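import Mathlib
import Cfsg.Agent.Lib.H1.PDMult

/-!
# Prime degrees: class functions with integral multiplicities
-/

set_option autoImplicit false
set_option linter.unusedSectionVars false

namespace Cfsg.Agent.Lib.H1.PD

open Cfsg Cfsg.Agent.Lib.L0 Cfsg.Agent.Lib.H23 Cfsg.Agent.Lib.H24 Cfsg.Agent.Lib.H1.TD
open scoped ComplexConjugate

universe u

section ints

variable {ι : Type*} [DecidableEq ι]

/-- If `∑ f² = 2`, `∑ f w = 0` with positive weights and `f a, f b ≠ 0` for `a ≠ b` then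
`w a = w b`. -/
theorem weight_eq_of_sum_sq_eq_two (s : Finset ι) (f : ι → ℤ) (w : ι → ℕ)
    (hw : ∀ i ∈ s, 0 < w i) (h2 : ∑ i ∈ s, f i ^ 2 = 2) (h0 : ∑ i ∈ s, f i * (w i : ℤ) = 0)
    {a b : ι} (ha : a ∈ s) (hb : b ∈ s) (hab : a ≠ b) (hfa : f a ≠ 0) (hfb : f b ≠ 0) :
    w a = w b := by
  have hb' : b ∈ s.erase a := Finset.mem_erase.mpr ⟨hab.symm, hb⟩
  rw [← Finset.add_sum_erase s _ ha, ← Finset.add_sum_erase (s.erase a) _ hb'] at h2 h0
  have hrest_nonneg : 0 ≤ ∑ i ∈ (s.erase a).erase b, f i ^ 2 :=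
    Finset.sum_nonneg (fun i _ => sq_nonneg _)
  have hfa1 : 1 ≤ f a ^ 2 := by
    have := sq_nonneg (f a)
    have h : f a ^ 2 ≠ 0 := pow_ne_zero 2 hfa
    omega
  have hfb1 : 1 ≤ f b ^ 2 := by
    have := sq_nonneg (f b)
    have h : f b ^ 2 ≠ 0 := pow_ne_zero 2 hfb
    omega
  have hfa2 : f a ^ 2 = 1 := by omega
  have hfb2 : f b ^ 2 = 1 := by omega
  have hrest : ∑ i ∈ (s.erase a).erase b, f i ^ 2 = 0 := by omega
  have hzero : ∀ i ∈ (s.erase a).erase b, f i = 0 := by
    intro i hi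
    have := (Finset.sum_eq_zero_iff_of_nonneg (fun i _ => sq_nonneg (f i))).mp hrest i hi
    exact pow_eq_zero_iff (by norm_num) |>.mp this
  have hrest0 : ∑ i ∈ (s.erase a).erase b, f i * (w i : ℤ) = 0 := by
    apply Finset.sum_eq_zero
    intro i hi
    rw [hzero i hi, zero_mul]
  rw [hrest0, add_zero] at h0
  have hwa := hw a ha
  have hwb := hw b hb
  have ha' : f a = 1 ∨ f a = -1 := sq_eq_one_iff.mp hfa2
  have hb'' : f b = 1 ∨ f b = -1 := sq_eq_one_iff.mp hfb2
  rcases ha' with h1 | h1 <;> rcases hb'' with h3 | h3 <;> rw [h1, h3] at h0 <;> omega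

end ints

section parseval

variable {G : Type u} [Group G] [Fintype G] [Fintype (IrrCharacter G)]

/-- Value at `1` of a class function with integral multiplicities. -/
theorem apply_one_of_int_mult (D : G → ℂ) (hD : IsClassFunction G D) (dZ : IrrCharacter G → ℤ)
    (hd : ∀ χ : IrrCharacter G, classInner D (χ : G → ℂ) = (dZ χ : ℂ)) :
    D 1 = ((∑ χ : IrrCharacter G, dZ χ * (charDegree (χ : G → ℂ) : ℤ) : ℤ) : ℂ) := by
  have h := congrFun (classFunction_expansion D hD) 1
  rw [h, Finset.sum_apply]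
  push_cast
  refine Finset.sum_congr rfl (fun χ _ => ?_)
  rw [Pi.smul_apply, smul_eq_mul, hd χ, apply_one_eq_charDegree _ χ.2]

/-- Norm of a class function with integral multiplicities. -/
theorem classInner_self_of_int_mult (D : G → ℂ) (hD : IsClassFunction G D)
    (dZ : IrrCharacter G → ℤ)
    (hd : ∀ χ : IrrCharacter G, classInner D (χ : G → ℂ) = (dZ χ : ℂ)) :
    classInner D D = ((∑ χ : IrrCharacter G, dZ χ ^ 2 : ℤ) : ℂ) := by
  have hexp := classFunction_expansion D hD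
  have h1 : classInner D D =
      classInner (∑ χ : IrrCharacter G, classInner D (χ : G → ℂ) • (χ : G → ℂ)) D := by
    conv_lhs => arg 1; rw [hexp]
  rw [h1, classInner_sum_left]
  push_cast
  refine Finset.sum_congr rfl (fun χ _ => ?_)
  rw [classInner_smul_left, ← classInner_conj_symm D, hd χ, map_intCast, sq]

end parseval

end Cfsg.Agent.Lib.H1.PD
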