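import Mathlib
import Cfsg.Agent.Lib.H1.PDParseval

/-!
# Prime degrees: the contradiction in a simple group with a self-centralizing Sylow subgroup of
prime order
-/

set_option autoImplicit false
set_option linter.unusedSectionVars false

namespace Cfsg.Agent.Lib.H1.PD

open Cfsg Cfsg.Agent.Lib.L0 Cfsg.Agent.Lib.H23 Cfsg.Agent.Lib.H24 Cfsg.Agent.Lib.H1.TD
open Cfsg.Agent.Lib.H26.DegGraph
open scoped ComplexConjugate

universe u

/-- A pair on which two nonconstant functions are both nonconstant. -/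
theorem exists_common_sep {α : Type*} (T : α → Prop) (f g : α → ℕ)
    (hf : ∃ a b, T a ∧ T b ∧ f a ≠ f b) (hg : ∃ a b, T a ∧ T b ∧ g a ≠ g b) :
    ∃ a b, T a ∧ T b ∧ f a ≠ f b ∧ g a ≠ g b := by
  obtain ⟨a1, b1, ha1, hb1, hf1⟩ := hf
  obtain ⟨a2, b2, ha2, hb2, hg2⟩ := hg
  by_cases h1 : g a1 ≠ g b1
  · exact ⟨a1, b1, ha1, hb1, hf1, h1⟩
  · push Not at h1
    have hν : ∃ ν, T ν ∧ g ν ≠ g a1 := by
      by_cases h2 : g a2 ≠ g a1
      · exact ⟨a2, ha2, h2⟩
      · push Not at h2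
        exact ⟨b2, hb2, fun h => hg2 (h2.trans h.symm)⟩
    obtain ⟨ν, hν, hgν⟩ := hν
    by_cases h3 : f ν ≠ f a1
    · exact ⟨ν, a1, hν, ha1, h3, hgν⟩
    · push Not at h3
      exact ⟨ν, b1, hν, hb1, fun h => hf1 (h3.symm.trans h), fun h => hgν (h.trans h1.symm)⟩

section simple

variable {G : Type u} [Group G] [Fintype G] [Fintype (IrrCharacter G)] [IsSimpleGroup G]

theorem commutator_eq_top_of_simple (hnc : ¬ ∀ a b : G, a * b = b * a) : commutator G = ⊤ := by
  refine (IsSimpleGroup.eq_bot_or_eq_top_of_normal (commutator G) inferInstance).resolve_left ?_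
  intro hbot
  apply hnc
  intro a b
  have h := comm_mem_commutator a b
  rw [hbot, Subgroup.mem_bot] at h
  calc a * b = (a * b * a⁻¹ * b⁻¹) * b * a := by group
    _ = b * a := by rw [h, one_mul]

theorem deg_ne_one_of_ne_trivial (hnc : ¬ ∀ a b : G, a * b = b * a) (χ : IrrCharacter G)
    (hχ : χ ≠ trivialIrr G) : charDegree (χ : G → ℂ) ≠ 1 := by
  intro h1
  apply hχ
  apply Subtype.ext
  funext g
  have hg : g ∈ commutator G := by rw [commutator_eq_top_of_simple hnc]; trivial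
  rw [commutator_le_ker_of_linear χ h1 hg]
  rfl

theorem ne_of_ne_one_of_simple (hnc : ¬ ∀ a b : G, a * b = b * a) (χ : IrrCharacter G)
    (hχ : χ ≠ trivialIrr G) (x : G) (hx : x ≠ 1) : (χ : G → ℂ) x ≠ (χ : G → ℂ) 1 := by
  intro h
  apply deg_ne_one_of_ne_trivial hnc χ hχ
  apply deg_eq_one_of_ker_ne_bot _ χ x hx h
  intro L hL hLb
  rw [(IsSimpleGroup.eq_bot_or_eq_top_of_normal L hL).resolve_left hLb]
  exact le_top

end simple

section setup

variable {G : Type u} [Group G] [Fintype G] [Fintype (IrrCharacter G)] [IsSimpleGroup G]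
  (P : Subgroup G) [Fintype P] [Fintype (IrrCharacter P)]

/-- The configuration: a nonabelian simple group with prime degrees, `q` the largest degree, and
a self-centralizing subgroup `P` of order `q` on whose nonidentity elements the characters of
degree `q` vanish. -/
structure Setup (q : ℕ) : Prop where
  hnc : ¬ ∀ a b : G, a * b = b * a
  hpd : PrimeDeg G
  hq : q.Prime
  hq5 : 5 ≤ q
  hcard : Nat.card P = q
  hC : ∀ g : G, (∀ x ∈ P, g * x = x * g) → g ∈ P
  hab : ∀ a b : P, a * b = b * a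
  hmax : ∀ χ : IrrCharacter G, charDegree (χ : G → ℂ) ≤ q
  hvan : ∀ χ : IrrCharacter G, charDegree (χ : G → ℂ) = q → ∀ x ∈ P, x ≠ 1 →
    (χ : G → ℂ) x = 0

variable {P} {q : ℕ}

theorem Setup.exists_ne_one (H : Setup P q) : ∃ x : P, x ≠ 1 := by
  have h1 : 1 < Nat.card P := by
    rw [H.hcard]
    have := H.hq5
    omega
  rw [Finite.one_lt_card_iff_nontrivial] at h1
  exact exists_ne 1

/-- Nonconstancy of the multiplicities for the characters of small degree. -/
theorem Setup.exists_sep (H : Setup P q) (χ : IrrCharacter G) (hχ : χ ≠ trivialIrr G)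
    (hlt : charDegree (χ : G → ℂ) < q) :
    ∃ φ φ' : IrrCharacter P, φ ≠ trivialIrr P ∧ φ' ≠ trivialIrr P ∧ aM P χ φ ≠ aM P χ φ' := by
  by_contra hno
  push Not at hno
  have hdeg1 := deg_ne_one_of_ne_trivial H.hnc χ hχ
  rcases const_mult_cases P H.hab χ (fun φ φ' h1 h2 => hno φ φ' h1 h2) with h | h
  · obtain ⟨x, hx⟩ := H.exists_ne_one
    have hx1 : (x : G) ≠ 1 := fun h' => hx (Subtype.ext h')
    exact ne_of_ne_one_of_simple H.hnc χ hχ (x : G) hx1 (h x)
  · rw [H.hcard] at h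
    have heq : charDegree (χ : G → ℂ) = q - 1 := by omega
    have hp := H.hpd χ hdeg1
    rw [heq] at hp
    have hq5 := H.hq5
    rcases H.hq.eq_two_or_odd' with h2 | hodd
    · omega
    · obtain ⟨k, hk⟩ := hodd
      have h2dvd : 2 ∣ q - 1 := ⟨k, by omega⟩
      rcases (Nat.dvd_prime hp).mp h2dvd with h3 | h3 <;> omega

/-- Two distinct nonprincipal characters of degree less than `q` have the same degree. -/
theorem Setup.deg_eq (H : Setup P q) (χ₁ χ₂ : IrrCharacter G) (h₁ : χ₁ ≠ trivialIrr G)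
    (h₂ : χ₂ ≠ trivialIrr G) (hlt₁ : charDegree (χ₁ : G → ℂ) < q)
    (hlt₂ : charDegree (χ₂ : G → ℂ) < q) (hne : χ₁ ≠ χ₂) :
    charDegree (χ₁ : G → ℂ) = charDegree (χ₂ : G → ℂ) := by
  classical
  obtain ⟨l, m, hl, hm, hs₁, hs₂⟩ := exists_common_sep (fun φ : IrrCharacter P => φ ≠ trivialIrr P)
    (aM P χ₁) (aM P χ₂) (H.exists_sep χ₁ h₁ hlt₁) (H.exists_sep χ₂ h₂ hlt₂)
  have hlm : l ≠ m := fun h => hs₁ (by rw [h])
  have hq' : (Nat.card P).Prime := by rw [H.hcard]; exact H.hq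
  have hnc : ∀ (y : G) (hy : ∀ x ∈ P, y⁻¹ * x * y ∈ P),
      cjIrrP P y hy m ≠ l ∧ cjIrrP P y hy l ≠ m := by
    intro y hy
    constructor
    · intro h
      apply hs₁
      rw [← h, aM_cjIrrP]
    · intro h
      apply hs₁
      rw [← h, aM_cjIrrP]
  set D : G → ℂ := indFun P ((m : P → ℂ) - (l : P → ℂ)) with hD
  have hDcl : IsClassFunction G D := indFun_isClassFunction P _
  set dZ : IrrCharacter G → ℤ := fun χ => (aM P χ m : ℤ) - (aM P χ l : ℤ) with hdZ
  have hd : ∀ χ : IrrCharacter G, classInner D (χ : G → ℂ) = (dZ χ : ℂ) := by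
    intro χ
    rw [hD, classInner_indFun_sub, hdZ]
    push_cast
    rfl
  have hnorm := classInner_indFun_sub_self P hq' H.hC H.hab l m hl hm hlm hnc
  rw [← hD, classInner_self_of_int_mult D hDcl dZ hd] at hnorm
  have hnormZ : ∑ χ : IrrCharacter G, dZ χ ^ 2 = 2 := by exact_mod_cast hnorm
  have hone : D 1 = 0 := by
    rw [hD, Cfsg.Agent.Lib.H24.indFun_one, Pi.sub_apply, irr_apply_one_of_comm H.hab m.2,
      irr_apply_one_of_comm H.hab l.2, sub_self, mul_zero]
  rw [apply_one_of_int_mult D hDcl dZ hd] at hone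
  have honeZ : ∑ χ : IrrCharacter G, dZ χ * (charDegree (χ : G → ℂ) : ℤ) = 0 := by
    exact_mod_cast hone
  refine weight_eq_of_sum_sq_eq_two Finset.univ dZ (fun χ => charDegree (χ : G → ℂ))
    (fun χ _ => Cfsg.Agent.Lib.H24.charDegree_pos χ) hnormZ honeZ (Finset.mem_univ χ₁)
    (Finset.mem_univ χ₂) hne ?_ ?_
  · rw [hdZ]
    intro h
    apply hs₁
    have : (aM P χ₁ m : ℤ) = (aM P χ₁ l : ℤ) := by linarith
    exact_mod_cast this.symm
  · rw [hdZ]
    intro h
    apply hs₂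
    have : (aM P χ₂ m : ℤ) = (aM P χ₂ l : ℤ) := by linarith
    exact_mod_cast this.symm

omit [Fintype (IrrCharacter G)] [IsSimpleGroup G] [Fintype (IrrCharacter P)] in
/-- A character vanishing on `P ∖ {1}` contains all linear characters of `P` equally often. -/
theorem aM_eq_of_vanish (hab : ∀ a b : P, a * b = b * a) (χ : IrrCharacter G)
    (hvan : ∀ x ∈ P, x ≠ 1 → (χ : G → ℂ) x = 0) (φ φ' : IrrCharacter P) :
    aM P χ φ = aM P χ φ' := by
  have key : ∀ ψ : IrrCharacter P, (aM P χ ψ : ℂ) =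
      (Nat.card P : ℂ)⁻¹ * conj ((χ : G → ℂ) 1) := by
    intro ψ
    rw [← aM_spec]
    unfold classInner
    rw [Finset.sum_eq_single (1 : P)]
    · rw [irr_apply_one_of_comm hab ψ.2, one_mul]
      rfl
    · intro x _ hx
      show _ * conj ((χ : G → ℂ) (x : G)) = 0
      rw [hvan x x.2 (fun h => hx (Subtype.ext h)), map_zero, mul_zero]
    · intro h
      exact absurd (Finset.mem_univ _) h
  have : (aM P χ φ : ℂ) = (aM P χ φ' : ℂ) := by rw [key φ, key φ']
  exact_mod_cast this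

/-- The final contradiction. -/
theorem Setup.false (H : Setup P q)
    (hex : ∃ χ₀ : IrrCharacter G, χ₀ ≠ trivialIrr G ∧ charDegree (χ₀ : G → ℂ) < q) : False := by
  classical
  obtain ⟨χ₀, h₀, hlt₀⟩ := hex
  have hr : (charDegree (χ₀ : G → ℂ)).Prime := H.hpd χ₀ (deg_ne_one_of_ne_trivial H.hnc χ₀ h₀)
  obtain ⟨l, -, hl, -, -⟩ := H.exists_sep χ₀ h₀ hlt₀
  set Γ : G → ℂ := indFun P ((trivialIrr P : P → ℂ) - (l : P → ℂ)) with hΓ
  have hΓcl : IsClassFunction G Γ := indFun_isClassFunction P _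
  set cZ : IrrCharacter G → ℤ :=
    fun χ => (aM P χ (trivialIrr P) : ℤ) - (aM P χ l : ℤ) with hcZ
  have hd : ∀ χ : IrrCharacter G, classInner Γ (χ : G → ℂ) = (cZ χ : ℂ) := by
    intro χ
    rw [hΓ, classInner_indFun_sub, hcZ]
    push_cast
    rfl
  have hone : Γ 1 = 0 := by
    rw [hΓ, Cfsg.Agent.Lib.H24.indFun_one, Pi.sub_apply, irr_apply_one_of_comm H.hab l.2,
      trivialIrr_apply, sub_self, mul_zero]
  rw [apply_one_of_int_mult Γ hΓcl cZ hd] at hone
  have honeZ : ∑ χ : IrrCharacter G, cZ χ * (charDegree (χ : G → ℂ) : ℤ) = 0 := by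
    exact_mod_cast hone
  rw [← Finset.add_sum_erase Finset.univ _ (Finset.mem_univ (trivialIrr G))] at honeZ
  have hc1 : cZ (trivialIrr G) = 1 := by
    rw [hcZ]
    simp only
    rw [aM_trivial, aM_trivial, if_pos rfl, if_neg hl]
    simp
  have hdeg1 : charDegree (trivialIrr G : G → ℂ) = 1 := by
    apply charDegree_eq_of_apply_one
    simp [trivialIrr]
  rw [hc1, hdeg1] at honeZ
  have hdvd : ((charDegree (χ₀ : G → ℂ) : ℕ) : ℤ) ∣
      ∑ χ ∈ (Finset.univ : Finset (IrrCharacter G)).erase (trivialIrr G),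
        cZ χ * (charDegree (χ : G → ℂ) : ℤ) := by
    apply Finset.dvd_sum
    intro χ hχ
    have hχ1 : χ ≠ trivialIrr G := Finset.ne_of_mem_erase hχ
    by_cases hlt : charDegree (χ : G → ℂ) < q
    · have : charDegree (χ : G → ℂ) = charDegree (χ₀ : G → ℂ) := by
        by_cases heq : χ = χ₀
        · rw [heq]
        · exact H.deg_eq χ χ₀ hχ1 h₀ hlt hlt₀ heq
      rw [this]
      exact Dvd.intro_left _ rfl
    · have hq : charDegree (χ : G → ℂ) = q := le_antisymm (H.hmax χ) (not_lt.mp hlt)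
      have : cZ χ = 0 := by
        rw [hcZ]
        simp only
        rw [aM_eq_of_vanish H.hab χ (H.hvan χ hq) (trivialIrr P) l, sub_self]
      rw [this, zero_mul]
      exact dvd_zero _
  obtain ⟨k, hk⟩ := hdvd
  rw [hk] at honeZ
  have h1 : ((charDegree (χ₀ : G → ℂ) : ℕ) : ℤ) ∣ 1 := by
    refine ⟨-k, ?_⟩
    push_cast at honeZ ⊢
    linarith
  have h2 : charDegree (χ₀ : G → ℂ) ∣ 1 := by exact_mod_cast h1
  exact hr.one_lt.ne' (Nat.dvd_one.mp h2)

end setup

end Cfsg.Agent.Lib.H1.PD
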