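import Mathlib
import Cfsg.Agent.Lib.H1.PDMain

/-!
# Prime degrees: the Sylow subgroup for the largest degree, and the final theorem
-/

set_option autoImplicit false
set_option linter.unusedSectionVars false

namespace Cfsg.Agent.Lib.H1.PD

open Cfsg Cfsg.Agent.Lib.L0 Cfsg.Agent.Lib.H23 Cfsg.Agent.Lib.H24 Cfsg.Agent.Lib.H1.TD
open scoped ComplexConjugate

universe u

section sylow

variable {G : Type u} [Group G] [Fintype G] [Fintype (IrrCharacter G)] [IsSimpleGroup G]

/-- A nonabelian simple group is not solvable. -/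
theorem derivedSeries_eq_top_of_simple (hnc : ¬ ∀ a b : G, a * b = b * a) (n : ℕ) :
    derivedSeries G n = ⊤ := by
  induction n with
  | zero => rfl
  | succ n ih =>
    rw [derivedSeries_succ, ih, ← commutator_def]
    exact commutator_eq_top_of_simple hnc

theorem not_cd_subset (hnc : ¬ ∀ a b : G, a * b = b * a) (a b : ℕ) : ¬ cd G ⊆ {1, a, b} := by
  intro h
  have h3 := three_degrees h
  rw [derivedSeries_eq_top_of_simple hnc 3] at h3
  apply hnc
  intro x y
  have hx : x ∈ (⊤ : Subgroup G) := trivial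
  have hy : y ∈ (⊤ : Subgroup G) := trivial
  rw [h3, Subgroup.mem_bot] at hx hy
  rw [hx, hy]

/-- Vanishing of the characters of degree `q` at elements centralized by a Sylow `q`-subgroup. -/
theorem eq_zero_of_sylow_le_centralizer (hnc : ¬ ∀ a b : G, a * b = b * a) {q : ℕ}
    [hq : Fact q.Prime] (P : Sylow q G) (χ : IrrCharacter G)
    (hdeg : charDegree (χ : G → ℂ) = q) (g : G) (hg : g ≠ 1)
    (hle : (P : Subgroup G) ≤ Subgroup.centralizer ({g} : Set G)) : (χ : G → ℂ) g = 0 := by
  apply irr_eq_zero_of_coprime hnc χ (by rw [hdeg]; exact hq.out.one_lt.ne') g hg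
  rw [hdeg, Nat.Prime.coprime_iff_not_dvd hq.out]
  intro hdvd
  exact P.not_dvd_index (hdvd.trans (Subgroup.index_dvd_of_le hle))

/-- A `q`-subgroup is abelian as soon as some nonprincipal irreducible character has degree
less than `q`. -/
theorem pgroup_comm (hnc : ¬ ∀ a b : G, a * b = b * a) {q : ℕ} (hq : q.Prime)
    (Q : Subgroup G) (hQ : ∃ n : ℕ, Nat.card Q = q ^ n) (χ : IrrCharacter G)
    (hχ : χ ≠ trivialIrr G)
    (hlt : charDegree (χ : G → ℂ) < q) : ∀ a b : Q, a * b = b * a := by
  classical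
  haveI : Fintype Q := Fintype.ofFinite _
  haveI : Fintype (IrrCharacter Q) := Fintype.ofFinite _
  have hres := isCharacter_res Q χ
  have hres1 : (fun x : Q => (χ : G → ℂ) x) 1 = (charDegree (χ : G → ℂ) : ℂ) := by
    show (χ : G → ℂ) ((1 : Q) : G) = _
    rw [Subgroup.coe_one, apply_one_eq_charDegree _ χ.2]
  have hsum := char_degree_sum hres _ hres1
  obtain ⟨n, hn⟩ := hQ
  have hlin : ∀ φ : IrrCharacter Q, mult (fun x : Q => (χ : G → ℂ) x) φ ≠ 0 →
      charDegree (φ : Q → ℂ) = 1 := by
    intro φ hφ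
    have h1 : mult (fun x : Q => (χ : G → ℂ) x) φ * charDegree (φ : Q → ℂ) ≤
        charDegree (χ : G → ℂ) := by
      rw [hsum]
      exact Finset.single_le_sum (f := fun φ : IrrCharacter Q =>
        mult (fun x : Q => (χ : G → ℂ) x) φ * charDegree (φ : Q → ℂ))
        (fun _ _ => Nat.zero_le _) (Finset.mem_univ φ)
    have h2 : charDegree (φ : Q → ℂ) ≤
        mult (fun x : Q => (χ : G → ℂ) x) φ * charDegree (φ : Q → ℂ) :=
      Nat.le_mul_of_pos_left _ (Nat.pos_of_ne_zero hφ)
    have h3 : charDegree (φ : Q → ℂ) < q := by omega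
    have hdvd := Cfsg.Agent.Lib.H23.charDegree_dvd_card (φ : Q → ℂ) φ.2
    rw [hn] at hdvd
    obtain ⟨j, -, hj⟩ := (Nat.dvd_prime_pow hq).mp hdvd
    rcases Nat.eq_zero_or_pos j with h0 | hpos
    · rw [hj, h0, pow_zero]
    · exfalso
      have : q ≤ q ^ j := Nat.le_self_pow (by omega) q
      omega
  intro a b
  have hc : a * b * a⁻¹ * b⁻¹ ∈ commutator Q :=
    Cfsg.Agent.Lib.H26.DegGraph.comm_mem_commutator a b
  have hval : (χ : G → ℂ) ((a * b * a⁻¹ * b⁻¹ : Q) : G) = (χ : G → ℂ) 1 := by
    have e1 := char_expand hres (a * b * a⁻¹ * b⁻¹)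
    have e2 := char_expand hres 1
    have e3 : (χ : G → ℂ) ((1 : Q) : G) = (χ : G → ℂ) 1 := by
      rw [Subgroup.coe_one]
    rw [← e3]
    refine e1.trans (Eq.trans ?_ e2.symm)
    refine Finset.sum_congr rfl (fun φ _ => ?_)
    by_cases hφ : mult (fun x : Q => (χ : G → ℂ) x) φ = 0
    · rw [hφ, Nat.cast_zero, zero_mul, zero_mul]
    · have hd := hlin φ hφ
      rw [commutator_le_ker_of_linear φ hd hc, (deg_eq_one_iff φ).mp hd]
  have hone : ((a * b * a⁻¹ * b⁻¹ : Q) : G) = 1 := by
    by_contra hne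
    exact ne_of_ne_one_of_simple hnc χ hχ _ hne hval
  have hone' : a * b * a⁻¹ * b⁻¹ = 1 := Subtype.ext hone
  calc a * b = (a * b * a⁻¹ * b⁻¹) * b * a := by group
    _ = b * a := by rw [hone', one_mul]

end sylow

/-- No nonabelian finite simple group has all its nonlinear irreducible characters of prime
degree. -/
theorem simple_false (G : Type u) [Group G] [Finite G] [IsSimpleGroup G]
    (hnc : ¬ ∀ a b : G, a * b = b * a) (hpd : PrimeDeg G) : False := by
  classical
  haveI := Fintype.ofFinite G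
  haveI : Fintype (IrrCharacter G) := Fintype.ofFinite _
  haveI : Nonempty (IrrCharacter G) := ⟨trivialIrr G⟩
  obtain ⟨ψ₀, hmax⟩ := Finite.exists_max (fun χ : IrrCharacter G => charDegree (χ : G → ℂ))
  set q := charDegree (ψ₀ : G → ℂ) with hq
  have hex : ∃ χa χb : IrrCharacter G, charDegree (χa : G → ℂ) ≠ 1 ∧
      charDegree (χb : G → ℂ) ≠ 1 ∧ charDegree (χa : G → ℂ) ≠ charDegree (χb : G → ℂ) ∧
      charDegree (χa : G → ℂ) < q ∧ charDegree (χb : G → ℂ) < q := by
    by_contra hno
    push Not at hno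
    by_cases h1 : ∃ χa : IrrCharacter G, charDegree (χa : G → ℂ) ≠ 1 ∧
        charDegree (χa : G → ℂ) < q
    · obtain ⟨χa, ha1, halt⟩ := h1
      apply not_cd_subset hnc (charDegree (χa : G → ℂ)) q
      rintro d ⟨χ, rfl⟩
      simp only [Set.mem_insert_iff, Set.mem_singleton_iff]
      by_cases hd1 : charDegree (χ : G → ℂ) = 1
      · left; exact hd1
      · right
        by_cases hlt : charDegree (χ : G → ℂ) < q
        · left
          by_contra hne
          have := hno χ χa hd1 ha1 hne hlt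
          omega
        · right
          exact le_antisymm (hmax χ) (not_lt.mp hlt)
    · push Not at h1
      apply not_cd_subset hnc q q
      rintro d ⟨χ, rfl⟩
      simp only [Set.mem_insert_iff, Set.mem_singleton_iff]
      by_cases hd1 : charDegree (χ : G → ℂ) = 1
      · left; exact hd1
      · right; left
        exact le_antisymm (hmax χ) (h1 χ hd1)
  obtain ⟨χa, χb, ha1, hb1, hab, halt, hblt⟩ := hex
  have hpa := hpd χa ha1
  have hpb := hpd χb hb1
  have hq1 : q ≠ 1 := by
    have := hpa.two_le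
    omega
  have hqp : q.Prime := hpd ψ₀ hq1
  have hq5 : 5 ≤ q := by
    have h4 : 4 ≤ q := by
      have := hpa.two_le
      have := hpb.two_le
      omega
    rcases h4.lt_or_eq with h | h
    · omega
    · exfalso
      rw [← h] at hqp
      exact absurd hqp (by decide)
  haveI : Fact q.Prime := ⟨hqp⟩
  let P : Sylow q G := default
  have hdeg1 : charDegree (trivialIrr G : G → ℂ) = 1 := by
    apply charDegree_eq_of_apply_one
    simp [trivialIrr]
  have hχa : χa ≠ trivialIrr G := by
    rintro rfl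
    exact ha1 hdeg1
  have hPab := pgroup_comm hnc hqp (P : Subgroup G) (IsPGroup.iff_card.mp P.isPGroup') χa hχa halt
  have hvanP : ∀ χ : IrrCharacter G, charDegree (χ : G → ℂ) = q →
      ∀ x ∈ (P : Subgroup G), x ≠ 1 → (χ : G → ℂ) x = 0 := by
    intro χ hχ x hx hx1
    apply eq_zero_of_sylow_le_centralizer hnc P χ hχ x hx1
    intro y hy
    rw [Subgroup.mem_centralizer_iff]
    intro h hh
    rw [Set.mem_singleton_iff] at hh
    subst hh
    exact congrArg Subtype.val (hPab ⟨h, hx⟩ ⟨y, hy⟩)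
  have hψ1 : (ψ₀ : G → ℂ) 1 = (q : ℂ) := apply_one_eq_charDegree _ ψ₀.2
  have hqG : q ∣ Nat.card G := Cfsg.Agent.Lib.H23.charDegree_dvd_card (ψ₀ : G → ℂ) ψ₀.2
  have hcardP : Nat.card (P : Subgroup G) = q := by
    have hdvd := card_dvd_of_vanish (P : Subgroup G) (isCharacter_of_irr ψ₀.2) (hvanP ψ₀ rfl)
      q hψ1
    rcases (Nat.dvd_prime hqp).mp hdvd with h | h
    · exfalso
      exact P.ne_bot_of_dvd_card hqG (Subgroup.card_eq_one.mp h)
    · exact h
  have hC : ∀ g : G, (∀ x ∈ (P : Subgroup G), g * x = x * g) → g ∈ (P : Subgroup G) := by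
    intro g hg
    have hPC : (P : Subgroup G) ≤ Subgroup.centralizer ((P : Subgroup G) : Set G) := by
      intro x hx
      rw [Subgroup.mem_centralizer_iff]
      intro h hh
      exact congrArg Subtype.val (hPab ⟨h, hh⟩ ⟨x, hx⟩)
    have hvanC : ∀ c ∈ Subgroup.centralizer ((P : Subgroup G) : Set G), c ≠ 1 →
        (ψ₀ : G → ℂ) c = 0 := by
      intro c hc hc1
      apply eq_zero_of_sylow_le_centralizer hnc P ψ₀ rfl c hc1
      intro y hy
      rw [Subgroup.mem_centralizer_iff]
      intro h hh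
      rw [Set.mem_singleton_iff] at hh
      subst hh
      exact ((Subgroup.mem_centralizer_iff.mp hc) y hy).symm
    have hdvd := card_dvd_of_vanish (Subgroup.centralizer ((P : Subgroup G) : Set G))
      (isCharacter_of_irr ψ₀.2) hvanC q hψ1
    have hle : Nat.card (Subgroup.centralizer ((P : Subgroup G) : Set G)) ≤ q :=
      Nat.le_of_dvd hqp.pos hdvd
    have heq : (P : Subgroup G) = Subgroup.centralizer ((P : Subgroup G) : Set G) :=
      Subgroup.eq_of_le_of_card_ge hPC (by rw [hcardP]; exact hle)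
    rw [heq, Subgroup.mem_centralizer_iff]
    intro x hx
    exact (hg x hx).symm
  haveI : Fintype (P : Subgroup G) := Fintype.ofFinite _
  haveI : Fintype (IrrCharacter (P : Subgroup G)) := Fintype.ofFinite _
  have H : Setup (P : Subgroup G) q := ⟨hnc, hpd, hqp, hq5, hcardP, hC, hPab, hmax, hvanP⟩
  exact H.false ⟨χa, hχa, halt⟩

/-- **Isaacs–Passman**: a finite group all of whose nonlinear irreducible characters have prime
degree is solvable. -/
theorem solvable_of_primeDeg {G : Type u} [Group G] [Finite G] (h : PrimeDeg G) :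
    Group.IsSolvable G :=
  solvable_of_primeDeg_aux (fun G _ _ _ hnc hpd => simple_false G hnc hpd) (Nat.card G) G rfl h

end Cfsg.Agent.Lib.H1.PD
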