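import Mathlib

/-!
(P1), first half, for S3452 (requested by helper8): `SL₂(F)` has an element of order `q + 1`.
-/

set_option autoImplicit false

namespace Cfsg.Agent.Lib.H1.PGL2Spec

open Matrix

theorem exists_sl2_orderOf_card_succ {F : Type*} [Field F] [Fintype F] :
    ∃ M : Matrix.SpecialLinearGroup (Fin 2) F, orderOf M = Fintype.card F + 1 := by
  classical
  obtain ⟨p, hp⟩ := CharP.exists F
  have : Fact p.Prime := ⟨CharP.char_is_prime F p⟩
  let L := FiniteField.Extension F p 2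
  have hfr : Module.finrank F L = 2 := FiniteField.finrank_extension F p 2
  have hcard : Nat.card L = Fintype.card F ^ 2 := by
    rw [FiniteField.natCard_extension, Nat.card_eq_fintype_card]
  let b : Module.Basis (Fin 2) F L := Module.finBasisOfFinrankEq F L hfr
  let φ : L →ₐ[F] Matrix (Fin 2) (Fin 2) F := Algebra.leftMulMatrix b
  have hφ : Function.Injective φ := Algebra.leftMulMatrix_injective b
  have : Fintype L := Fintype.ofFinite L
  obtain ⟨ζ, hζ⟩ := IsCyclic.exists_generator (α := Lˣ)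
  have hq : 2 ≤ Fintype.card F := Fintype.one_lt_card
  have hord : orderOf ζ = Fintype.card F ^ 2 - 1 := by
    rw [orderOf_eq_card_of_forall_mem_zpowers hζ, Nat.card_units, hcard]
  set q := Fintype.card F with hqdef
  have hfac : q ^ 2 - 1 = (q - 1) * (q + 1) := by
    obtain ⟨k, hk⟩ : ∃ k, q = k + 1 := ⟨q - 1, by omega⟩
    rw [hk]
    simp only [Nat.add_sub_cancel]
    ring_nf
    omega
  have hη : orderOf (ζ ^ (q - 1)) = q + 1 := by
    rw [orderOf_pow' _ (by omega : q - 1 ≠ 0), hord, hfac,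
      Nat.gcd_eq_right (Dvd.intro _ rfl)]
    exact Nat.mul_div_cancel_left _ (by omega)
  -- the matrix of ζ
  have hdetζ : (φ (ζ : L)).det ≠ 0 := by
    have h1 : φ (ζ : L) * φ ((ζ⁻¹ : Lˣ) : L) = 1 := by
      rw [← map_mul, Units.mul_inv, map_one]
    intro h0
    have := congrArg Matrix.det h1
    rw [Matrix.det_mul, h0, zero_mul, Matrix.det_one] at this
    exact zero_ne_one this
  have hdet : (φ (((ζ ^ (q - 1) : Lˣ)) : L)).det = 1 := by
    rw [Units.val_pow_eq_pow_val, map_pow, Matrix.det_pow]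
    exact FiniteField.pow_card_sub_one_eq_one _ hdetζ
  let M0 : Matrix.SpecialLinearGroup (Fin 2) F := ⟨φ (((ζ ^ (q - 1) : Lˣ)) : L), hdet⟩
  have hM0 : ∀ n : ℕ, ((M0 ^ n : Matrix.SpecialLinearGroup (Fin 2) F) : Matrix (Fin 2) (Fin 2) F)
      = φ ((((ζ ^ (q - 1)) ^ n : Lˣ)) : L) := by
    intro n
    rw [Matrix.SpecialLinearGroup.coe_pow, Units.val_pow_eq_pow_val (ζ ^ (q - 1)) n, map_pow]
  refine ⟨M0, ?_⟩
  rw [← hη]
  apply orderOf_eq_orderOf_iff.mpr
  intro n
  constructor
  · intro h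
    have h1 : ((M0 ^ n : Matrix.SpecialLinearGroup (Fin 2) F) : Matrix (Fin 2) (Fin 2) F) = 1 := by
      rw [h]; rfl
    rw [hM0 n, ← map_one φ] at h1
    have h2 := hφ h1
    apply Units.ext
    rw [Units.val_one]
    exact h2
  · intro h
    apply Matrix.SpecialLinearGroup.ext_iff _ _ |>.mpr
    intro i j
    rw [hM0 n, h, Units.val_one, map_one]
    rfl

end Cfsg.Agent.Lib.H1.PGL2Spec
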