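import Mathlib

/-!
(P1), second half, for S3452 (requested by helper8): every element order of `PGL₂(F)` divides
`p`, `q - 1` or `q + 1`.
-/

set_option autoImplicit false

namespace Cfsg.Agent.Lib.H1.PGL2Spec

open Matrix

section mat

variable {F : Type*} [Field F]

theorem ch2 (M : Matrix (Fin 2) (Fin 2) F) :
    M * M = algebraMap F (Matrix (Fin 2) (Fin 2) F) M.trace * M
      - algebraMap F (Matrix (Fin 2) (Fin 2) F) M.det := by
  ext i j
  fin_cases i <;> fin_cases j <;>
    simp [Matrix.mul_apply, Fin.sum_univ_two, Matrix.trace_fin_two, Matrix.det_fin_two,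
      Matrix.algebraMap_matrix_apply] <;> ring

theorem det_lin (M : Matrix (Fin 2) (Fin 2) F) (a b : F) :
    (algebraMap F (Matrix (Fin 2) (Fin 2) F) a
      + algebraMap F (Matrix (Fin 2) (Fin 2) F) b * M).det
      = a * a + a * b * M.trace + b * b * M.det := by
  simp [Matrix.det_fin_two, Matrix.trace_fin_two, Matrix.algebraMap_matrix_apply,
    Matrix.mul_apply]
  ring

theorem pow_mul_of_mul {M Y : Matrix (Fin 2) (Fin 2) F} {l : F}
    (h : M * Y = algebraMap F (Matrix (Fin 2) (Fin 2) F) l * Y) (n : ℕ) :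
    M ^ n * Y = algebraMap F (Matrix (Fin 2) (Fin 2) F) (l ^ n) * Y := by
  induction n with
  | zero => simp
  | succ n ih =>
    rw [pow_succ, mul_assoc, h, ← mul_assoc, ← Algebra.commutes, mul_assoc, ih, ← mul_assoc,
      ← map_mul, ← pow_succ']

theorem span_pow {M : Matrix (Fin 2) (Fin 2) F} {t d : F}
    (hCH : M * M = algebraMap F (Matrix (Fin 2) (Fin 2) F) t * M
      - algebraMap F (Matrix (Fin 2) (Fin 2) F) d) (n : ℕ) :
    ∃ a b : F, M ^ n = algebraMap F (Matrix (Fin 2) (Fin 2) F) a
      + algebraMap F (Matrix (Fin 2) (Fin 2) F) b * M := by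
  induction n with
  | zero => exact ⟨1, 0, by simp⟩
  | succ n ih =>
    obtain ⟨a, b, hab⟩ := ih
    refine ⟨-(b * d), a + b * t, ?_⟩
    rw [pow_succ, hab, add_mul, mul_assoc, hCH, mul_sub, ← mul_assoc, ← map_mul, ← map_mul,
      map_add, add_mul, map_neg]
    abel

theorem frob_aux [Fintype F] (p : ℕ) [CharP F p] {M : Matrix (Fin 2) (Fin 2) F} {t d : F}
    (hCH : M * M = algebraMap F (Matrix (Fin 2) (Fin 2) F) t * M
      - algebraMap F (Matrix (Fin 2) (Fin 2) F) d) :
    M ^ Fintype.card F * M ^ Fintype.card F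
      = algebraMap F (Matrix (Fin 2) (Fin 2) F) t * M ^ Fintype.card F
        - algebraMap F (Matrix (Fin 2) (Fin 2) F) d := by
  classical
  obtain ⟨f, hp, hqf⟩ := FiniteField.card F p
  have hfact : Fact p.Prime := ⟨hp⟩
  have ht : t ^ p ^ (f : ℕ) = t := by rw [← hqf]; exact FiniteField.pow_card t
  have hd : d ^ p ^ (f : ℕ) = d := by rw [← hqf]; exact FiniteField.pow_card d
  have hc : Commute (algebraMap F (Matrix (Fin 2) (Fin 2) F) t * M)
      (algebraMap F (Matrix (Fin 2) (Fin 2) F) d) :=
    (show Commute (algebraMap F (Matrix (Fin 2) (Fin 2) F) d) _ from Algebra.commutes d _).symm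
  have hc2 : Commute (algebraMap F (Matrix (Fin 2) (Fin 2) F) t) M := Algebra.commutes t M
  rw [hqf]
  calc M ^ p ^ (f : ℕ) * M ^ p ^ (f : ℕ) = (M * M) ^ p ^ (f : ℕ) :=
        ((Commute.refl M).mul_pow _).symm
    _ = (algebraMap F (Matrix (Fin 2) (Fin 2) F) t * M
          - algebraMap F (Matrix (Fin 2) (Fin 2) F) d) ^ p ^ (f : ℕ) := by rw [hCH]
    _ = (algebraMap F (Matrix (Fin 2) (Fin 2) F) t * M) ^ p ^ (f : ℕ)
          - (algebraMap F (Matrix (Fin 2) (Fin 2) F) d) ^ p ^ (f : ℕ) :=
        sub_pow_expChar_pow_of_commute p f hc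
    _ = _ := by rw [hc2.mul_pow, ← map_pow, ← map_pow, ht, hd]

theorem mat_cases [Fintype F] (p : ℕ) [CharP F p] (M : Matrix (Fin 2) (Fin 2) F)
    (hM : M.det ≠ 0) :
    (∃ c : F, M ^ p = algebraMap F (Matrix (Fin 2) (Fin 2) F) c) ∨
      M ^ (Fintype.card F - 1) = 1 ∨
      (∃ c : F, M ^ (Fintype.card F + 1) = algebraMap F (Matrix (Fin 2) (Fin 2) F) c) := by
  classical
  have hp : Fact p.Prime := ⟨CharP.char_is_prime F p⟩
  have hCH := ch2 M
  have hq : 2 ≤ Fintype.card F := Fintype.one_lt_card
  have hcomm : ∀ (c : F) (X : Matrix (Fin 2) (Fin 2) F),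
      algebraMap F (Matrix (Fin 2) (Fin 2) F) c * X
        = X * algebraMap F (Matrix (Fin 2) (Fin 2) F) c := fun c X => Algebra.commutes c X
  by_cases hroot : ∃ l : F, l * l - M.trace * l + M.det = 0
  · obtain ⟨l, hl⟩ := hroot
    obtain ⟨m, hm⟩ : ∃ m : F, m = M.trace - l := ⟨_, rfl⟩
    have hsum : l + m = M.trace := by rw [hm]; ring
    have hprod : l * m = M.det := by rw [hm]; linear_combination -hl
    have hl0 : l ≠ 0 := by
      rintro rfl
      exact hM (by rw [← hprod]; simp)
    have hm0 : m ≠ 0 := by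
      rintro rfl
      exact hM (by rw [← hprod]; simp)
    have h1 : M * (M - algebraMap F (Matrix (Fin 2) (Fin 2) F) m)
        = algebraMap F (Matrix (Fin 2) (Fin 2) F) l
          * (M - algebraMap F (Matrix (Fin 2) (Fin 2) F) m) := by
      rw [mul_sub, mul_sub, hCH, ← hcomm m M, ← map_mul, hprod, ← hsum, map_add, add_mul]
      abel
    have h2 : M * (M - algebraMap F (Matrix (Fin 2) (Fin 2) F) l)
        = algebraMap F (Matrix (Fin 2) (Fin 2) F) m
          * (M - algebraMap F (Matrix (Fin 2) (Fin 2) F) l) := by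
      rw [mul_sub, mul_sub, hCH, ← hcomm l M, ← map_mul, mul_comm m l, hprod, ← hsum, map_add,
        add_mul]
      abel
    by_cases hlm : l = m
    · left
      have hsq : (M - algebraMap F (Matrix (Fin 2) (Fin 2) F) l)
          * (M - algebraMap F (Matrix (Fin 2) (Fin 2) F) l) = 0 := by
        rw [sub_mul, h2, ← hlm, sub_self]
      refine ⟨l ^ p, ?_⟩
      have hdecomp : algebraMap F (Matrix (Fin 2) (Fin 2) F) l
          + (M - algebraMap F (Matrix (Fin 2) (Fin 2) F) l) = M := by abel
      have hc : Commute (algebraMap F (Matrix (Fin 2) (Fin 2) F) l)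
          (M - algebraMap F (Matrix (Fin 2) (Fin 2) F) l) := Algebra.commutes l _
      have h0 : (M - algebraMap F (Matrix (Fin 2) (Fin 2) F) l) ^ p = 0 := by
        obtain ⟨k, hk⟩ : ∃ k, p = 2 + k := ⟨p - 2, by have := hp.out.two_le; omega⟩
        rw [hk, pow_add, pow_two, hsq, zero_mul]
      calc M ^ p = (algebraMap F (Matrix (Fin 2) (Fin 2) F) l
            + (M - algebraMap F (Matrix (Fin 2) (Fin 2) F) l)) ^ p := by rw [hdecomp]
        _ = (algebraMap F (Matrix (Fin 2) (Fin 2) F) l) ^ p
            + (M - algebraMap F (Matrix (Fin 2) (Fin 2) F) l) ^ p :=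
          add_pow_char_of_commute p hc
        _ = algebraMap F (Matrix (Fin 2) (Fin 2) F) (l ^ p) := by
          rw [h0, add_zero, map_pow]
    · right; left
      have e1 := pow_mul_of_mul h1 (Fintype.card F - 1)
      have e2 := pow_mul_of_mul h2 (Fintype.card F - 1)
      rw [FiniteField.pow_card_sub_one_eq_one l hl0, map_one, one_mul] at e1
      rw [FiniteField.pow_card_sub_one_eq_one m hm0, map_one, one_mul] at e2
      have e3 : M ^ (Fintype.card F - 1) * algebraMap F (Matrix (Fin 2) (Fin 2) F) (l - m)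
          = algebraMap F (Matrix (Fin 2) (Fin 2) F) (l - m) := by
        have : algebraMap F (Matrix (Fin 2) (Fin 2) F) (l - m)
            = (M - algebraMap F (Matrix (Fin 2) (Fin 2) F) m)
              - (M - algebraMap F (Matrix (Fin 2) (Fin 2) F) l) := by
          rw [map_sub]; abel
        rw [this, mul_sub, e1, e2]
      have hne : l - m ≠ 0 := sub_ne_zero.mpr hlm
      calc M ^ (Fintype.card F - 1)
          = M ^ (Fintype.card F - 1) * (algebraMap F (Matrix (Fin 2) (Fin 2) F) (l - m)
              * algebraMap F (Matrix (Fin 2) (Fin 2) F) ((l - m)⁻¹)) := by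
            rw [← map_mul, mul_inv_cancel₀ hne, map_one, mul_one]
        _ = algebraMap F (Matrix (Fin 2) (Fin 2) F) (l - m)
              * algebraMap F (Matrix (Fin 2) (Fin 2) F) ((l - m)⁻¹) := by
            rw [← mul_assoc, e3]
        _ = 1 := by rw [← map_mul, mul_inv_cancel₀ hne, map_one]
  · push Not at hroot
    have hNN := frob_aux p hCH
    obtain ⟨a, b, hab⟩ := span_pow hCH (Fintype.card F)
    have hNM : M ^ Fintype.card F * M = M * M ^ Fintype.card F :=
      (Commute.pow_self M (Fintype.card F)).eq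
    have hprod0 : (M ^ Fintype.card F - M)
        * (M ^ Fintype.card F - algebraMap F (Matrix (Fin 2) (Fin 2) F) M.trace + M) = 0 := by
      have : (M ^ Fintype.card F - M)
          * (M ^ Fintype.card F - algebraMap F (Matrix (Fin 2) (Fin 2) F) M.trace + M)
          = M ^ Fintype.card F * M ^ Fintype.card F
            - M ^ Fintype.card F * algebraMap F (Matrix (Fin 2) (Fin 2) F) M.trace
            + M ^ Fintype.card F * M - M * M ^ Fintype.card F
            + M * algebraMap F (Matrix (Fin 2) (Fin 2) F) M.trace - M * M := by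
        noncomm_ring
      rw [this, hNN, hCH, hNM, ← hcomm M.trace (M ^ Fintype.card F), ← hcomm M.trace M]
      abel
    by_cases hNeq : M ^ Fintype.card F = M
    · right; left
      have hu : IsUnit M := (Matrix.isUnit_iff_isUnit_det M).mpr (IsUnit.mk0 _ hM)
      have h3 : M ^ (Fintype.card F - 1) * M = 1 * M := by
        rw [one_mul, ← pow_succ, show Fintype.card F - 1 + 1 = Fintype.card F by omega]
        exact hNeq
      exact hu.mul_left_injective h3
    · right; right
      refine ⟨M.det, ?_⟩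
      have hY : M ^ Fintype.card F - M = algebraMap F (Matrix (Fin 2) (Fin 2) F) a
          + algebraMap F (Matrix (Fin 2) (Fin 2) F) (b - 1) * M := by
        rw [hab, map_sub, map_one, sub_mul, one_mul]; abel
      have hdetY : (M ^ Fintype.card F - M).det ≠ 0 := by
        rw [hY, det_lin]
        by_cases hb : b - 1 = 0
        · rw [hb]
          have ha : a ≠ 0 := by
            rintro rfl
            apply hNeq
            rw [hb] at hY
            simpa [sub_eq_zero] using hY
          simp [ha]
        · have := hroot (-a / (b - 1))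
          intro h0
          apply this
          field_simp
          linear_combination h0
      have hu : IsUnit (M ^ Fintype.card F - M) :=
        (Matrix.isUnit_iff_isUnit_det _).mpr (IsUnit.mk0 _ hdetY)
      have hZ := hu.mul_right_eq_zero.mp hprod0
      have hN : M ^ Fintype.card F = algebraMap F (Matrix (Fin 2) (Fin 2) F) M.trace - M := by
        have := hZ
        rw [sub_add, sub_eq_zero] at this
        exact this
      rw [pow_succ, hN, sub_mul, hCH]
      abel

end mat

theorem orderOf_dvd_cases {F : Type*} [Field F] [Fintype F] (p : ℕ) [CharP F p]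
    (x : Matrix.GeneralLinearGroup (Fin 2) F ⧸
      Subgroup.center (Matrix.GeneralLinearGroup (Fin 2) F)) :
    orderOf x ∣ p ∨ orderOf x ∣ Fintype.card F - 1 ∨ orderOf x ∣ Fintype.card F + 1 := by
  obtain ⟨g, rfl⟩ := QuotientGroup.mk_surjective x
  have key : ∀ n : ℕ,
      (∃ c : F, (g : Matrix (Fin 2) (Fin 2) F) ^ n = algebraMap F (Matrix (Fin 2) (Fin 2) F) c) →
      orderOf (g : Matrix.GeneralLinearGroup (Fin 2) F ⧸
        Subgroup.center (Matrix.GeneralLinearGroup (Fin 2) F)) ∣ n := by
    rintro n ⟨c, hc⟩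
    apply orderOf_dvd_of_pow_eq_one
    rw [← QuotientGroup.mk_pow, QuotientGroup.eq_one_iff,
      Matrix.GeneralLinearGroup.mem_center_iff_val_mem_range_scalar]
    refine ⟨c, ?_⟩
    rw [Units.val_pow_eq_pow_val, hc]
    ext i j
    simp [Matrix.algebraMap_matrix_apply, Matrix.scalar_apply, Matrix.diagonal_apply]
  have hdet : (g : Matrix (Fin 2) (Fin 2) F).det ≠ 0 := by
    have := (Matrix.GeneralLinearGroup.det g).ne_zero
    simpa using this
  rcases mat_cases p (g : Matrix (Fin 2) (Fin 2) F) hdet with h | h | h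
  · exact Or.inl (key _ h)
  · exact Or.inr (Or.inl (key _ ⟨1, by rw [h, map_one]⟩))
  · exact Or.inr (Or.inr (key _ h))

end Cfsg.Agent.Lib.H1.PGL2Spec
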