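import Mathlib
import Cfsg.Agent.Lib.H1.PGL2SpecB

/-!
(P1) for S3452 (requested by helper8): the set of element orders of `PGL₂(F)`.
-/

set_option autoImplicit false

namespace Cfsg.Agent.Lib.H1.PGL2Spec

open Matrix

variable {F : Type*} [Field F]

/-- a unit of the matrix ring is central in `GL` iff it is a scalar matrix -/
theorem mk_eq_one_iff (g : Matrix.GeneralLinearGroup (Fin 2) F) :
    (g : Matrix.GeneralLinearGroup (Fin 2) F ⧸
      Subgroup.center (Matrix.GeneralLinearGroup (Fin 2) F)) = 1 ↔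
      ∃ c : F, (g : Matrix (Fin 2) (Fin 2) F) = algebraMap F (Matrix (Fin 2) (Fin 2) F) c := by
  rw [QuotientGroup.eq_one_iff, Matrix.GeneralLinearGroup.mem_center_iff_val_mem_range_scalar]
  constructor
  · rintro ⟨c, hc⟩
    refine ⟨c, ?_⟩
    rw [← hc]
    ext i j
    simp [Matrix.algebraMap_matrix_apply, Matrix.scalar_apply, Matrix.diagonal_apply]
  · rintro ⟨c, hc⟩
    refine ⟨c, ?_⟩
    rw [hc]
    ext i j
    simp [Matrix.algebraMap_matrix_apply, Matrix.scalar_apply, Matrix.diagonal_apply]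

/-- the diagonal embedding `u ↦ diag(u, 1)` -/
def dHom : F →* Matrix (Fin 2) (Fin 2) F where
  toFun u := Matrix.diagonal ![u, 1]
  map_one' := by
    ext i j
    fin_cases i <;> fin_cases j <;> simp
  map_mul' a b := by
    ext i j
    fin_cases i <;> fin_cases j <;> simp

/-- the unipotent embedding `a ↦ [[1,a],[0,1]]` -/
def uHom : Multiplicative F →* Matrix (Fin 2) (Fin 2) F where
  toFun a := Matrix.transvection 0 1 (Multiplicative.toAdd a)
  map_one' := by simp
  map_mul' a b :=
    (Matrix.transvection_mul_transvection_same (i := (0 : Fin 2)) (j := (1 : Fin 2))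
      (by decide) _ _).symm

theorem exists_pgl2_orderOf_pred [Fintype F] :
    ∃ x : Matrix.GeneralLinearGroup (Fin 2) F ⧸
      Subgroup.center (Matrix.GeneralLinearGroup (Fin 2) F), orderOf x = Fintype.card F - 1 := by
  classical
  obtain ⟨γ, hγ⟩ := IsCyclic.exists_generator (α := Fˣ)
  have hord : orderOf γ = Fintype.card F - 1 := by
    rw [orderOf_eq_card_of_forall_mem_zpowers hγ, Nat.card_units, Nat.card_eq_fintype_card]
  have hD : ∀ u : Fˣ, ((Units.map dHom u : Matrix.GeneralLinearGroup (Fin 2) F) :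
      Matrix.GeneralLinearGroup (Fin 2) F ⧸
        Subgroup.center (Matrix.GeneralLinearGroup (Fin 2) F)) = 1 ↔ u = 1 := by
    intro u
    rw [mk_eq_one_iff]
    constructor
    · rintro ⟨c, hc⟩
      have h00 := congrFun (congrFun hc 0) 0
      have h11 := congrFun (congrFun hc 1) 1
      simp [dHom, Matrix.algebraMap_matrix_apply] at h00 h11
      apply Units.ext
      rw [h00, ← h11]
      rfl
    · rintro rfl
      exact ⟨1, by simp⟩
  refine ⟨((Units.map dHom γ : Matrix.GeneralLinearGroup (Fin 2) F) :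
      Matrix.GeneralLinearGroup (Fin 2) F ⧸
        Subgroup.center (Matrix.GeneralLinearGroup (Fin 2) F)), ?_⟩
  rw [← hord]
  apply orderOf_eq_orderOf_iff.mpr
  intro n
  rw [← QuotientGroup.mk_pow, ← map_pow, hD]

theorem exists_pgl2_orderOf_char (p : ℕ) [CharP F p] [Fintype F] :
    ∃ x : Matrix.GeneralLinearGroup (Fin 2) F ⧸
      Subgroup.center (Matrix.GeneralLinearGroup (Fin 2) F), orderOf x = p := by
  classical
  have hp : Fact p.Prime := ⟨CharP.char_is_prime F p⟩
  have hU : ∀ a : (Multiplicative F)ˣ, ((Units.map uHom a : Matrix.GeneralLinearGroup (Fin 2) F) :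
      Matrix.GeneralLinearGroup (Fin 2) F ⧸
        Subgroup.center (Matrix.GeneralLinearGroup (Fin 2) F)) = 1 ↔ a = 1 := by
    intro a
    rw [mk_eq_one_iff]
    constructor
    · rintro ⟨c, hc⟩
      have h01 := congrFun (congrFun hc 0) 1
      simp [uHom, Matrix.algebraMap_matrix_apply, Matrix.transvection] at h01
      exact h01
    · rintro rfl
      exact ⟨1, by simp⟩
  set a0 : (Multiplicative F)ˣ := toUnits (Multiplicative.ofAdd (1 : F)) with ha0
  have hord : orderOf a0 = p := by
    rw [ha0, MulEquiv.orderOf_eq, orderOf_ofAdd_eq_addOrderOf]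
    have h1 : CharP F (addOrderOf (1 : F)) := CharP.addOrderOf_one F
    exact CharP.eq F h1 (by assumption)
  refine ⟨((Units.map uHom a0 : Matrix.GeneralLinearGroup (Fin 2) F) :
      Matrix.GeneralLinearGroup (Fin 2) F ⧸
        Subgroup.center (Matrix.GeneralLinearGroup (Fin 2) F)), ?_⟩
  rw [← hord]
  apply orderOf_eq_orderOf_iff.mpr
  intro n
  rw [← QuotientGroup.mk_pow, ← map_pow, hU]

theorem exists_gl2_orderOf_sq [Fintype F] :
    ∃ g : Matrix.GeneralLinearGroup (Fin 2) F, orderOf g = Fintype.card F ^ 2 - 1 := by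
  classical
  obtain ⟨p, hp⟩ := CharP.exists F
  have : Fact p.Prime := ⟨CharP.char_is_prime F p⟩
  let L := FiniteField.Extension F p 2
  have hfr : Module.finrank F L = 2 := FiniteField.finrank_extension F p 2
  have hcard : Nat.card L = Fintype.card F ^ 2 := by
    rw [FiniteField.natCard_extension, Nat.card_eq_fintype_card]
  let b : Module.Basis (Fin 2) F L := Module.finBasisOfFinrankEq F L hfr
  let φ : L →ₐ[F] Matrix (Fin 2) (Fin 2) F := Algebra.leftMulMatrix b
  have hφ : Function.Injective φ := Algebra.leftMulMatrix_injective b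
  have : Fintype L := Fintype.ofFinite L
  obtain ⟨ζ, hζ⟩ := IsCyclic.exists_generator (α := Lˣ)
  have hord : orderOf ζ = Fintype.card F ^ 2 - 1 := by
    rw [orderOf_eq_card_of_forall_mem_zpowers hζ, Nat.card_units, hcard]
  refine ⟨Units.map (φ : L →* Matrix (Fin 2) (Fin 2) F) ζ, ?_⟩
  rw [← hord]
  exact orderOf_injective (Units.map (φ : L →* Matrix (Fin 2) (Fin 2) F))
    (Units.map_injective hφ) ζ

theorem exists_pgl2_orderOf_succ [Fintype F] :
    ∃ x : Matrix.GeneralLinearGroup (Fin 2) F ⧸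
      Subgroup.center (Matrix.GeneralLinearGroup (Fin 2) F), orderOf x = Fintype.card F + 1 := by
  classical
  obtain ⟨p, hp⟩ := CharP.exists F
  have hpp : p.Prime := CharP.char_is_prime F p
  obtain ⟨g, hg⟩ := exists_gl2_orderOf_sq (F := F)
  have hq : 2 ≤ Fintype.card F := Fintype.one_lt_card
  obtain ⟨f, -, hqf⟩ := FiniteField.card F p
  have hpq : p ≤ Fintype.card F := by
    rw [hqf]
    calc p = p ^ 1 := (pow_one p).symm
      _ ≤ p ^ (f : ℕ) := Nat.pow_le_pow_right hpp.pos f.pos
  have hfac : Fintype.card F ^ 2 - 1 = (Fintype.card F - 1) * (Fintype.card F + 1) := by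
    obtain ⟨k, hk⟩ : ∃ k, Fintype.card F = k + 1 := ⟨Fintype.card F - 1, by omega⟩
    rw [hk]
    simp only [Nat.add_sub_cancel]
    ring_nf
    omega
  refine ⟨(g : Matrix.GeneralLinearGroup (Fin 2) F ⧸
      Subgroup.center (Matrix.GeneralLinearGroup (Fin 2) F)), ?_⟩
  -- `q + 1` divides the order
  have hdvd : Fintype.card F + 1 ∣ orderOf (g : Matrix.GeneralLinearGroup (Fin 2) F ⧸
      Subgroup.center (Matrix.GeneralLinearGroup (Fin 2) F)) := by
    set r := orderOf (g : Matrix.GeneralLinearGroup (Fin 2) F ⧸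
      Subgroup.center (Matrix.GeneralLinearGroup (Fin 2) F)) with hr
    have h1 : (g : Matrix.GeneralLinearGroup (Fin 2) F ⧸
      Subgroup.center (Matrix.GeneralLinearGroup (Fin 2) F)) ^ r = 1 := pow_orderOf_eq_one _
    rw [← QuotientGroup.mk_pow, mk_eq_one_iff] at h1
    obtain ⟨c, hc⟩ := h1
    have hc0 : c ≠ 0 := by
      rintro rfl
      rw [map_zero] at hc
      have hu : IsUnit ((g ^ r : Matrix.GeneralLinearGroup (Fin 2) F) :
        Matrix (Fin 2) (Fin 2) F) := (g ^ r).isUnit
      rw [hc] at hu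
      exact not_isUnit_zero hu
    have h2 : g ^ (r * (Fintype.card F - 1)) = 1 := by
      apply Units.ext
      rw [pow_mul, Units.val_pow_eq_pow_val, hc, ← map_pow,
        FiniteField.pow_card_sub_one_eq_one c hc0, map_one]
      rfl
    have h3 := orderOf_dvd_of_pow_eq_one h2
    rw [hg, hfac, mul_comm r] at h3
    exact (Nat.mul_dvd_mul_iff_left (by omega)).mp h3
  rcases orderOf_dvd_cases p (g : Matrix.GeneralLinearGroup (Fin 2) F ⧸
      Subgroup.center (Matrix.GeneralLinearGroup (Fin 2) F)) with h | h | h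
  · exfalso
    have := Nat.le_of_dvd hpp.pos (dvd_trans hdvd h)
    omega
  · exfalso
    have := Nat.le_of_dvd (by omega) (dvd_trans hdvd h)
    omega
  · exact Nat.dvd_antisymm h hdvd

theorem exists_orderOf_of_dvd {G : Type*} [Group G] {n d : ℕ} (hn : 0 < n)
    (h : ∃ x : G, orderOf x = n) (hd : d ∣ n) : ∃ x : G, orderOf x = d := by
  obtain ⟨x, hx⟩ := h
  obtain ⟨e, he⟩ := hd
  have he0 : e ≠ 0 := by
    rintro rfl
    omega
  have hd0 : d ≠ 0 := by
    rintro rfl
    omega
  refine ⟨x ^ e, ?_⟩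
  rw [orderOf_pow_of_dvd he0 (by rw [hx, he]; exact Dvd.intro_left d rfl), hx, he]
  exact Nat.mul_div_cancel _ (Nat.pos_of_ne_zero he0)

theorem exists_orderOf_eq [Fintype F] (p : ℕ) [CharP F p] (d : ℕ)
    (hd : d ∣ p ∨ d ∣ Fintype.card F - 1 ∨ d ∣ Fintype.card F + 1) :
    ∃ x : Matrix.GeneralLinearGroup (Fin 2) F ⧸
      Subgroup.center (Matrix.GeneralLinearGroup (Fin 2) F), orderOf x = d := by
  have hpp : p.Prime := CharP.char_is_prime F p
  have hq : 2 ≤ Fintype.card F := Fintype.one_lt_card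
  rcases hd with h | h | h
  · exact exists_orderOf_of_dvd hpp.pos (exists_pgl2_orderOf_char p) h
  · exact exists_orderOf_of_dvd (by omega) exists_pgl2_orderOf_pred h
  · exact exists_orderOf_of_dvd (by omega) exists_pgl2_orderOf_succ h

theorem pgl2_spectrum [Fintype F] (p : ℕ) [CharP F p] :
    Set.range (orderOf : Matrix.GeneralLinearGroup (Fin 2) F ⧸
      Subgroup.center (Matrix.GeneralLinearGroup (Fin 2) F) → ℕ)
      = {d : ℕ | d ∣ p ∨ d ∣ Fintype.card F - 1 ∨ d ∣ Fintype.card F + 1} := by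
  ext d
  constructor
  · rintro ⟨x, rfl⟩
    exact orderOf_dvd_cases p x
  · intro hd
    exact exists_orderOf_eq p d hd

end Cfsg.Agent.Lib.H1.PGL2Spec
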