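import Mathlib
import Cfsg.Agent.Lib.H11.EOB1

/-!
T1 for S2263 (requested by helper11): the arithmetic upper bound.
-/

set_option autoImplicit false
set_option linter.unusedVariables false

namespace Cfsg.Agent.Lib.H1.PGU

open Cfsg.Agent.Lib.H11.EOB

/-- validity of a block -/
def Valid (x : Bool × ℕ) : Prop :=
  1 ≤ x.2 ∧ (x.1 = true → Even x.2) ∧ (x.1 = false → Odd x.2)

theorem add_one_dvd_bn {q : ℕ} {x : Bool × ℕ} (hx : Valid x) : q + 1 ∣ bn q x := by
  obtain ⟨b, c⟩ := x
  obtain ⟨h1, h2, h3⟩ := hx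
  cases b with
  | true =>
    obtain ⟨k, hk⟩ := h2 rfl
    simp only [bn, if_true]
    have h4 : q ^ 2 - 1 ∣ (q ^ 2) ^ k - 1 := by
      simpa using Nat.sub_dvd_pow_sub_pow (q ^ 2) 1 k
    have h5 : q + 1 ∣ q ^ 2 - 1 := by
      have : q ^ 2 - 1 = (q + 1) * (q - 1) := by
        rcases q with _ | q
        · simp
        · simp only [Nat.add_sub_cancel]; ring_nf; omega
      exact Dvd.intro _ this.symm
    have h6 : c = 2 * k := by simp only at hk; omega
    rw [h6, pow_mul]
    exact h5.trans h4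
  | false =>
    simp only [bn, Bool.false_eq_true, if_false]
    have := Odd.nat_add_dvd_pow_add_pow q 1 (h3 rfl)
    simpa using this

/-- the reduced block number -/
def mm (q : ℕ) (x : Bool × ℕ) : ℕ := bn q x / (q + 1)

theorem mm_mul {q : ℕ} {x : Bool × ℕ} (hx : Valid x) : (q + 1) * mm q x = bn q x :=
  Nat.mul_div_cancel' (add_one_dvd_bn hx)

theorem bn_le {q : ℕ} (x : Bool × ℕ) : bn q x ≤ q ^ x.2 + 1 := by
  unfold bn
  split_ifs <;> omega

theorem mm_le {q : ℕ} (hq : 2 ≤ q) {x : Bool × ℕ} (hx : Valid x) : mm q x * q ≤ q ^ x.2 := by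
  have h1 := mm_mul (q := q) hx
  have h2 := bn_le (q := q) x
  obtain ⟨c, hc⟩ : ∃ c, x.2 = c + 1 := ⟨x.2 - 1, by have := hx.1; omega⟩
  have h3 : 1 ≤ q ^ c := Nat.one_le_pow _ _ (by omega)
  have h4 : (q + 1) * (mm q x * q) ≤ (q + 1) * q ^ x.2 := by
    calc (q + 1) * (mm q x * q) = bn q x * q := by rw [← h1]; ring
      _ ≤ (q ^ x.2 + 1) * q := Nat.mul_le_mul_right _ h2
      _ ≤ (q + 1) * q ^ x.2 := by
        rw [hc, pow_succ]
        nlinarith
  exact Nat.le_of_mul_le_mul_left h4 (by omega)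

theorem mm_lt {q : ℕ} (hq : 2 ≤ q) {x : Bool × ℕ} (hx : Valid x) (h2 : 2 ≤ x.2) :
    (mm q x + 1) * q ≤ q ^ x.2 := by
  have h1 := mm_mul (q := q) hx
  obtain ⟨b, c⟩ := x
  obtain ⟨hx1, hx2, hx3⟩ := hx
  simp only at h2 hx1 hx2 hx3 ⊢
  have key : (q + 1) * ((mm q (b, c) + 1) * q) ≤ (q + 1) * q ^ c := by
    have e : (q + 1) * ((mm q (b, c) + 1) * q) = (bn q (b, c) + q + 1) * q := by
      rw [← h1]; ring
    rw [e]
    cases b with
    | true =>
      obtain ⟨c', hc'⟩ : ∃ c', c = c' + 2 := ⟨c - 2, by omega⟩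
      have h3 : 1 ≤ q ^ c' := Nat.one_le_pow _ _ (by omega)
      have h4 : 1 ≤ q ^ c := Nat.one_le_pow _ _ (by omega)
      simp only [bn, if_true]
      have e2 : q ^ c - 1 + q + 1 = q ^ c + q := by omega
      rw [e2, hc', pow_succ, pow_succ]
      nlinarith [Nat.mul_le_mul_right (q * q) h3]
    | false =>
      have hodd := hx3 rfl
      have hc3 : 3 ≤ c := by
        rcases hodd with ⟨k, hk⟩
        omega
      obtain ⟨c', hc'⟩ : ∃ c', c = c' + 3 := ⟨c - 3, by omega⟩
      have h3 : 1 ≤ q ^ c' := Nat.one_le_pow _ _ (by omega)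
      simp only [bn, Bool.false_eq_true, if_false]
      rw [hc', pow_succ, pow_succ, pow_succ]
      have h5 : q + 2 ≤ q * q := by nlinarith
      nlinarith [Nat.mul_le_mul h3 h5, Nat.mul_le_mul_left (q ^ c') h5]
  exact Nat.le_of_mul_le_mul_left key (by omega)

theorem lcm_le_of_dvd {k a b : ℕ} (hk : 0 < k) (ha : k ∣ a) (hb : k ∣ b) (hb0 : 0 < b)
    (ha0 : 0 < a) : Nat.lcm a b ≤ a / k * b := by
  obtain ⟨a', rfl⟩ := ha
  obtain ⟨b', rfl⟩ := hb
  rw [Nat.mul_div_cancel_left _ hk]
  apply Nat.le_of_dvd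
  · have : 0 < a' := Nat.pos_of_mul_pos_left ha0
    positivity
  · apply Nat.lcm_dvd
    · exact ⟨b', by ring⟩
    · exact ⟨a', by ring⟩

theorem bL_le_prod {q : ℕ} (hq : 2 ≤ q) (l : List (Bool × ℕ)) (hne : l ≠ [])
    (hl : ∀ x ∈ l, Valid x) :
    q + 1 ∣ bL q l ∧ bL q l ≤ (q + 1) * (l.map (mm q)).prod := by
  induction l with
  | nil => exact absurd rfl hne
  | cons x l ih =>
    have hx : Valid x := hl x (List.mem_cons_self)
    have hl' : ∀ y ∈ l, Valid y := fun y hy => hl y (List.mem_cons_of_mem _ hy)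
    constructor
    · rw [bL_cons]
      exact (add_one_dvd_bn hx).trans (Nat.dvd_lcm_left _ _)
    · rw [bL_cons, List.map_cons, List.prod_cons]
      by_cases hnil : l = []
      · subst hnil
        simp only [bL_nil, Nat.lcm_one_right, List.map_nil, List.prod_nil, mul_one]
        rw [mm_mul hx]
      · obtain ⟨ih1, ih2⟩ := ih hnil hl'
        have hpos1 : 0 < bn q x := bn_pos hq hx.1
        have hpos2 : 0 < bL q l := bL_pos hq (fun y hy => (hl' y hy).1)
        calc Nat.lcm (bn q x) (bL q l) ≤ bn q x / (q + 1) * bL q l :=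
              lcm_le_of_dvd (by omega) (add_one_dvd_bn hx) ih1 hpos2 hpos1
          _ ≤ mm q x * ((q + 1) * (l.map (mm q)).prod) := Nat.mul_le_mul_left _ ih2
          _ = (q + 1) * (mm q x * (l.map (mm q)).prod) := by ring

theorem prod_mm_le {q : ℕ} (hq : 2 ≤ q) (l : List (Bool × ℕ)) (hl : ∀ x ∈ l, Valid x) :
    (l.map (mm q)).prod * q ^ l.length ≤ q ^ bw l := by
  induction l with
  | nil => simp
  | cons x l ih =>
    have hx : Valid x := hl x (List.mem_cons_self)
    have hl' : ∀ y ∈ l, Valid y := fun y hy => hl y (List.mem_cons_of_mem _ hy)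
    rw [List.map_cons, List.prod_cons, List.length_cons, bw_cons, pow_succ, pow_add]
    calc mm q x * (l.map (mm q)).prod * (q ^ l.length * q)
        = (mm q x * q) * ((l.map (mm q)).prod * q ^ l.length) := by ring
      _ ≤ q ^ x.2 * q ^ bw l := Nat.mul_le_mul (mm_le hq hx) (ih hl')

theorem length_le_bw (l : List (Bool × ℕ)) (hl : ∀ x ∈ l, Valid x) : l.length ≤ bw l := by
  induction l with
  | nil => simp
  | cons x l ih =>
    have hx : Valid x := hl x (List.mem_cons_self)
    have hl' : ∀ y ∈ l, Valid y := fun y hy => hl y (List.mem_cons_of_mem _ hy)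
    rw [List.length_cons, bw_cons]
    have := ih hl'
    have := hx.1
    omega

theorem mul_lcm_le {k a b : ℕ} (hk : 0 < k) (ha : k ∣ a) (hb : k ∣ b) (hb0 : 0 < b)
    (ha0 : 0 < a) : k * Nat.lcm a b ≤ a * b := by
  have h1 := lcm_le_of_dvd hk ha hb hb0 ha0
  calc k * Nat.lcm a b ≤ k * (a / k * b) := Nat.mul_le_mul_left _ h1
    _ = (k * (a / k)) * b := by ring
    _ = a * b := by rw [Nat.mul_div_cancel' ha]

/-- the bound for at least three blocks -/
theorem bL_three {q : ℕ} (hq : 2 ≤ q) (l : List (Bool × ℕ)) (hl : ∀ x ∈ l, Valid x)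
    (h3 : 3 ≤ l.length) : bL q l + 1 ≤ q ^ (bw l - 1) := by
  have hne : l ≠ [] := by
    rintro rfl
    simp at h3
  obtain ⟨-, h1⟩ := bL_le_prod hq l hne hl
  have h2 := prod_mm_le hq l hl
  have hW := length_le_bw l hl
  obtain ⟨w, hw⟩ : ∃ w, bw l = w + 3 := ⟨bw l - 3, by omega⟩
  obtain ⟨t, ht⟩ : ∃ t, l.length = t + 3 := ⟨l.length - 3, by omega⟩
  have h4 : bL q l * q ^ 3 ≤ (q + 1) * q ^ w * q ^ 3 := by
    calc bL q l * q ^ 3 ≤ bL q l * (q ^ t * q ^ 3) :=
          Nat.mul_le_mul_left _ (Nat.le_mul_of_pos_left _ (by positivity))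
      _ = bL q l * q ^ l.length := by rw [ht, pow_add]
      _ ≤ (q + 1) * (l.map (mm q)).prod * q ^ l.length := Nat.mul_le_mul_right _ h1
      _ = (q + 1) * ((l.map (mm q)).prod * q ^ l.length) := by ring
      _ ≤ (q + 1) * q ^ bw l := Nat.mul_le_mul_left _ h2
      _ = (q + 1) * q ^ w * q ^ 3 := by rw [hw, pow_add]; ring
  have h5 : bL q l ≤ (q + 1) * q ^ w := Nat.le_of_mul_le_mul_right h4 (by positivity)
  have h6 : 1 ≤ q ^ w := Nat.one_le_pow _ _ (by omega)
  rw [hw, show w + 3 - 1 = w + 2 by omega, pow_succ, pow_succ]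
  nlinarith [Nat.mul_le_mul h6 (show q + 2 ≤ q * q by nlinarith)]

/-- the bound for exactly two blocks -/
theorem bL_pair {q : ℕ} (hq : 2 ≤ q) (x y : Bool × ℕ) (hx : Valid x) (hy : Valid y) :
    bL q [x, y] ≤ q ^ (x.2 + y.2 - 1) + 1 ∧
      (Odd (x.2 + y.2) → bL q [x, y] + 1 ≤ q ^ (x.2 + y.2 - 1)) := by
  have hb : bL q [x, y] = Nat.lcm (bn q x) (bn q y) := by
    simp [bL]
  have h1 : (q + 1) * bL q [x, y] ≤ bn q x * bn q y := by
    rw [hb]
    exact mul_lcm_le (by omega) (add_one_dvd_bn hx) (add_one_dvd_bn hy) (bn_pos hq hy.1)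
      (bn_pos hq hx.1)
  obtain ⟨b1, c1⟩ := x
  obtain ⟨b2, c2⟩ := y
  obtain ⟨hx1, hx2, hx3⟩ := hx
  obtain ⟨hy1, hy2, hy3⟩ := hy
  simp only at hx1 hx2 hx3 hy1 hy2 hy3 ⊢
  obtain ⟨u, hu⟩ : ∃ u, c1 = u + 1 := ⟨c1 - 1, by omega⟩
  obtain ⟨v, hv⟩ : ∃ v, c2 = v + 1 := ⟨c2 - 1, by omega⟩
  obtain ⟨A, hA⟩ : ∃ A, q ^ u = A + 1 := ⟨q ^ u - 1, by
    have : 1 ≤ q ^ u := Nat.one_le_pow _ _ (by omega)
    omega⟩
  obtain ⟨B, hB⟩ : ∃ B, q ^ v = B + 1 := ⟨q ^ v - 1, by
    have : 1 ≤ q ^ v := Nat.one_le_pow _ _ (by omega)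
    omega⟩
  have hexp : c1 + c2 - 1 = u + v + 1 := by omega
  have hpw : q ^ (u + v + 1) = (A + 1) * (B + 1) * q := by
    rw [pow_succ, pow_add, hA, hB]
  have hc1 : q ^ c1 = (A + 1) * q := by rw [hu, pow_succ, hA]
  have hc2 : q ^ c2 = (B + 1) * q := by rw [hv, pow_succ, hB]
  rw [hexp, hpw]
  cases b1 with
  | false =>
    cases b2 with
    | false =>
      have ho1 := hx3 rfl
      have ho2 := hy3 rfl
      have hev : ¬ Odd (c1 + c2) := by
        rw [Nat.not_odd_iff_even]
        exact Odd.add_odd ho1 ho2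
      refine ⟨?_, fun h => absurd h hev⟩
      simp only [bn, Bool.false_eq_true, if_false] at h1
      rw [hc1, hc2] at h1
      have : (q + 1) * bL q [(false, c1), (false, c2)]
          ≤ (q + 1) * ((A + 1) * (B + 1) * q + 1) := by
        nlinarith [Nat.zero_le (q * A * B)]
      exact Nat.le_of_mul_le_mul_left this (by omega)
    | true =>
      simp only [bn, Bool.false_eq_true, if_false, if_true] at h1
      rw [hc1, hc2] at h1
      have hv1 : 1 ≤ v := by
        have := hy2 rfl
        rcases this with ⟨k, hk⟩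
        omega
      have key : (q + 1) * (bL q [(false, c1), (true, c2)] + 1)
          ≤ (q + 1) * ((A + 1) * (B + 1) * q) := by
        have e1 : ((A + 1) * q + 1) * ((B + 1) * q - 1) + ((A + 1) * q + 1)
            = ((A + 1) * q + 1) * ((B + 1) * q) := by
          have : 1 ≤ (B + 1) * q := by nlinarith
          obtain ⟨r, hr⟩ : ∃ r, (B + 1) * q = r + 1 := ⟨(B + 1) * q - 1, by omega⟩
          rw [hr]
          simp only [Nat.add_sub_cancel]
          ring
        nlinarith [Nat.zero_le (q * A * B), Nat.zero_le (q * A)]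
      have h2 := Nat.le_of_mul_le_mul_left key (by omega : 0 < q + 1)
      exact ⟨by omega, fun _ => h2⟩
  | true =>
    cases b2 with
    | false =>
      simp only [bn, Bool.false_eq_true, if_false, if_true] at h1
      rw [hc1, hc2] at h1
      have key : (q + 1) * (bL q [(true, c1), (false, c2)] + 1)
          ≤ (q + 1) * ((A + 1) * (B + 1) * q) := by
        have e1 : ((A + 1) * q - 1) * ((B + 1) * q + 1) + ((B + 1) * q + 1)
            = ((A + 1) * q) * ((B + 1) * q + 1) := by
          have : 1 ≤ (A + 1) * q := by nlinarith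
          obtain ⟨r, hr⟩ : ∃ r, (A + 1) * q = r + 1 := ⟨(A + 1) * q - 1, by omega⟩
          rw [hr]
          simp only [Nat.add_sub_cancel]
          ring
        nlinarith [Nat.zero_le (q * A * B), Nat.zero_le (q * B)]
      have h2 := Nat.le_of_mul_le_mul_left key (by omega : 0 < q + 1)
      exact ⟨by omega, fun _ => h2⟩
    | true =>
      have he1 := hx2 rfl
      have he2 := hy2 rfl
      have hev : ¬ Odd (c1 + c2) := by
        rw [Nat.not_odd_iff_even]
        exact Even.add he1 he2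
      refine ⟨?_, fun h => absurd h hev⟩
      simp only [bn, if_true] at h1
      rw [hc1, hc2] at h1
      have h3 : ((A + 1) * q - 1) * ((B + 1) * q - 1) ≤ ((A + 1) * q) * ((B + 1) * q) :=
        Nat.mul_le_mul (Nat.sub_le _ _) (Nat.sub_le _ _)
      have : (q + 1) * bL q [(true, c1), (true, c2)]
          ≤ (q + 1) * ((A + 1) * (B + 1) * q + 1) := by
        nlinarith
      exact Nat.le_of_mul_le_mul_left this (by omega)

theorem bL_two {q : ℕ} (hq : 2 ≤ q) (l : List (Bool × ℕ)) (hl : ∀ x ∈ l, Valid x)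
    (h2 : 2 ≤ l.length) :
    bL q l ≤ q ^ (bw l - 1) + 1 ∧ (Odd (bw l) → bL q l + 1 ≤ q ^ (bw l - 1)) := by
  rcases l with _ | ⟨x, _ | ⟨y, _ | ⟨z, l'⟩⟩⟩
  · simp at h2
  · simp at h2
  · have hx : Valid x := hl x (by simp)
    have hy : Valid y := hl y (by simp)
    have := bL_pair hq x y hx hy
    simpa [bw_cons] using this
  · have h3 := bL_three hq (x :: y :: z :: l') hl (by simp)
    exact ⟨by omega, fun _ => h3⟩

/-! ### bounds for the `p`-part -/

theorem P_le_pow {p : ℕ} (hp : 2 ≤ p) (E : ℕ) : p ^ Nat.clog p (E + 1) ≤ p ^ E := by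
  apply Nat.pow_le_pow_right (by omega)
  apply Nat.clog_le_of_le_pow
  exact Nat.lt_pow_self (by omega)

theorem add_one_le_two_pow (E : ℕ) (hE : 3 ≤ E) : E + 1 ≤ 2 ^ (E - 1) := by
  induction E, hE using Nat.le_induction with
  | base => norm_num
  | succ n hn ih =>
    have : n + 1 - 1 = (n - 1) + 1 := by omega
    rw [this, pow_succ]
    omega

theorem P_le_pow_pred {p : ℕ} (hp : 2 ≤ p) (E : ℕ) (hE : 3 ≤ E) :
    p ^ Nat.clog p (E + 1) ≤ p ^ (E - 1) := by
  apply Nat.pow_le_pow_right (by omega)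
  apply Nat.clog_le_of_le_pow
  calc E + 1 ≤ 2 ^ (E - 1) := add_one_le_two_pow E hE
    _ ≤ p ^ (E - 1) := Nat.pow_le_pow_left hp _

theorem P_le_of_two {p : ℕ} (hp : 3 ≤ p) : p ^ Nat.clog p (2 + 1) ≤ p := by
  calc p ^ Nat.clog p (2 + 1) ≤ p ^ 1 := by
        apply Nat.pow_le_pow_right (by omega)
        apply Nat.clog_le_of_le_pow
        simpa using hp
    _ = p := pow_one p

theorem P_zero (p : ℕ) : p ^ Nat.clog p (0 + 1) = 1 := by
  simp

/-- everything follows from `N ≤ q^(d-1) - 1` -/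
theorem goals_of_C0 {p f q d N : ℕ} (hp : 2 ≤ p) (hq : q = p ^ f) (hd : 3 ≤ d)
    (h : N ≤ q ^ (d - 1) - 1) :
    (Odd d → 2 ≤ f → N ≤ q ^ (d - 1) - 1) ∧
    (Odd d → f = 1 → N ≤ (p ^ (d - 2) + 1) * p) ∧
    (Even d → 2 < q → N ≤ q ^ (d - 1) + 1) ∧
    (Even d → q = 2 → N ≤ 4 * (2 ^ (d - 3) + 1)) := by
  refine ⟨fun _ _ => h, ?_, ?_, ?_⟩
  · intro _ hf
    rw [hf, pow_one] at hq
    rw [hq] at h
    obtain ⟨r, hr⟩ : ∃ r, d = r + 2 := ⟨d - 2, by omega⟩
    rw [hr] at h ⊢
    simp only [Nat.add_sub_cancel] at h ⊢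
    rw [show r + 2 - 1 = r + 1 by omega, pow_succ] at h
    have h' : N ≤ p ^ r * p := le_trans h (Nat.sub_le _ _)
    nlinarith
  · intro _ _
    omega
  · intro _ hq2
    rw [hq2] at h
    obtain ⟨r, hr⟩ : ∃ r, d = r + 3 := ⟨d - 3, by omega⟩
    rw [hr] at h ⊢
    simp only [Nat.add_sub_cancel] at h ⊢
    rw [show r + 3 - 1 = r + 2 by omega, pow_succ, pow_succ] at h
    omega

/-- everything follows from `N ≤ p^(d-1)` -/
theorem goals_of_ppow {p f q d N : ℕ} (hp : 2 ≤ p) (hf : 1 ≤ f) (hq : q = p ^ f) (hd : 3 ≤ d)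
    (h : N ≤ p ^ (d - 1)) :
    (Odd d → 2 ≤ f → N ≤ q ^ (d - 1) - 1) ∧
    (Odd d → f = 1 → N ≤ (p ^ (d - 2) + 1) * p) ∧
    (Even d → 2 < q → N ≤ q ^ (d - 1) + 1) ∧
    (Even d → q = 2 → N ≤ 4 * (2 ^ (d - 3) + 1)) := by
  have hpq : p ≤ q := by
    rw [hq]
    calc p = p ^ 1 := (pow_one p).symm
      _ ≤ p ^ f := Nat.pow_le_pow_right (by omega) hf
  refine ⟨?_, ?_, ?_, ?_⟩
  · intro _ hf2
    have h1 : p ^ 2 ≤ q := by
      rw [hq]
      exact Nat.pow_le_pow_right (by omega) hf2
    have h2 : (p ^ 2) ^ (d - 1) ≤ q ^ (d - 1) := Nat.pow_le_pow_left h1 _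
    have h3 : (p ^ 2) ^ (d - 1) = p ^ (d - 1) * p ^ (d - 1) := by
      rw [← pow_mul, ← pow_add]
      congr 1
      omega
    have h4 : 2 ≤ p ^ (d - 1) := by
      calc 2 ≤ p := hp
        _ = p ^ 1 := (pow_one p).symm
        _ ≤ p ^ (d - 1) := Nat.pow_le_pow_right (by omega) (by omega)
    have h5 : 2 * p ^ (d - 1) ≤ p ^ (d - 1) * p ^ (d - 1) := Nat.mul_le_mul_right _ h4
    omega
  · intro _ _
    obtain ⟨r, hr⟩ : ∃ r, d = r + 2 := ⟨d - 2, by omega⟩
    rw [hr] at h ⊢
    simp only [Nat.add_sub_cancel] at h ⊢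
    rw [show r + 2 - 1 = r + 1 by omega, pow_succ] at h
    nlinarith
  · intro _ _
    have : p ^ (d - 1) ≤ q ^ (d - 1) := Nat.pow_le_pow_left hpq _
    omega
  · intro _ hq2
    have hp2 : p = 2 := by omega
    rw [hp2] at h
    obtain ⟨r, hr⟩ : ∃ r, d = r + 3 := ⟨d - 3, by omega⟩
    rw [hr] at h ⊢
    simp only [Nat.add_sub_cancel] at h ⊢
    rw [show r + 3 - 1 = r + 2 by omega, pow_succ, pow_succ] at h
    omega

/-- **T1** (pure arithmetic). -/
theorem arithPGU (p f q d : ℕ) (hp : p.Prime) (hf : 1 ≤ f) (hq : q = p ^ f) (hd : 3 ≤ d)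
    (h32 : ¬ (d = 3 ∧ q = 2)) (l : List (Bool × ℕ)) (E : ℕ)
    (hl : ∀ x ∈ l, 1 ≤ x.2 ∧ (x.1 = true → Even x.2) ∧ (x.1 = false → Odd x.2))
    (hw : bw l + E ≤ d) (N : ℕ)
    (hN : (∃ x, l = [x] ∧ N = bn q x / (q + 1) * p ^ Nat.clog p (E + 1)) ∨
          (2 ≤ l.length ∧ N = bL q l * p ^ Nat.clog p (E + 1))) :
    (Odd d → 2 ≤ f → N ≤ q ^ (d - 1) - 1) ∧
    (Odd d → f = 1 → N ≤ (p ^ (d - 2) + 1) * p) ∧
    (Even d → 2 < q → N ≤ q ^ (d - 1) + 1) ∧
    (Even d → q = 2 → N ≤ 4 * (2 ^ (d - 3) + 1)) := by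
  have hp2 : 2 ≤ p := hp.two_le
  have hpq : p ≤ q := by
    rw [hq]
    calc p = p ^ 1 := (pow_one p).symm
      _ ≤ p ^ f := Nat.pow_le_pow_right (by omega) hf
  have hq2 : 2 ≤ q := le_trans hp2 hpq
  have hlV : ∀ x ∈ l, Valid x := hl
  have hP1 : p ^ Nat.clog p (E + 1) ≤ p ^ E := P_le_pow hp2 E
  have hPq : p ^ Nat.clog p (E + 1) ≤ q ^ E := le_trans hP1 (Nat.pow_le_pow_left hpq E)
  rcases hN with ⟨x, rfl, hNx⟩ | ⟨ht, hNl⟩
  · -- a single block
    have hx : Valid x := hlV x (by simp)
    have hW : x.2 + E ≤ d := by simpa [bw_cons] using hw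
    have hNx' : N = mm q x * p ^ Nat.clog p (E + 1) := hNx
    by_cases hc : x.2 = 1
    · have h1 := mm_le hq2 hx
      rw [hc, pow_one] at h1
      have hm1 : mm q x ≤ 1 := by nlinarith
      have hN1 : N ≤ p ^ (d - 1) := by
        calc N = mm q x * p ^ Nat.clog p (E + 1) := hNx'
          _ ≤ 1 * p ^ E := Nat.mul_le_mul hm1 hP1
          _ = p ^ E := one_mul _
          _ ≤ p ^ (d - 1) := Nat.pow_le_pow_right (by omega) (by omega)
      exact goals_of_ppow hp2 hf hq hd hN1
    · have hc2 : 2 ≤ x.2 := by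
        have := hx.1
        omega
      have h1 := mm_lt hq2 hx hc2
      apply goals_of_C0 hp2 hq hd
      obtain ⟨c', hc'⟩ : ∃ c', x.2 = c' + 1 := ⟨x.2 - 1, by omega⟩
      rw [hc', pow_succ] at h1
      have h2 : mm q x + 1 ≤ q ^ c' := Nat.le_of_mul_le_mul_right h1 (by omega)
      have h3 : 1 ≤ q ^ E := Nat.one_le_pow _ _ (by omega)
      have h4 : N + q ^ E ≤ q ^ (d - 1) := by
        calc N + q ^ E ≤ mm q x * q ^ E + q ^ E := by
              rw [hNx']
              exact Nat.add_le_add_right (Nat.mul_le_mul_left _ hPq) _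
          _ = (mm q x + 1) * q ^ E := by ring
          _ ≤ q ^ c' * q ^ E := Nat.mul_le_mul_right _ h2
          _ = q ^ (c' + E) := (pow_add _ _ _).symm
          _ ≤ q ^ (d - 1) := Nat.pow_le_pow_right (by omega) (by omega)
      omega
  · -- at least two blocks
    obtain ⟨B1, B2⟩ := bL_two hq2 l hlV ht
    have hW2 : 2 ≤ bw l := le_trans ht (length_le_bw l hlV)
    obtain ⟨w, hw'⟩ : ∃ w, bw l = w + 2 := ⟨bw l - 2, by omega⟩
    rw [hw'] at B1 B2 hw
    rw [show w + 2 - 1 = w + 1 by omega] at B1 B2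
    by_cases hE0 : E = 0
    · subst hE0
      rw [P_zero, mul_one] at hNl
      rw [hNl]
      by_cases hWd : w + 2 = d
      · have hd1 : d - 1 = w + 1 := by omega
        refine ⟨?_, ?_, ?_, ?_⟩
        · intro hodd hf2
          have := B2 (by rw [hWd]; exact hodd)
          rw [hd1]
          omega
        · intro hodd hf1
          have h5 := B2 (by rw [hWd]; exact hodd)
          have h6 : bL q l ≤ q ^ (d - 1) - 1 := by
            rw [hd1]
            omega
          exact (goals_of_C0 hp2 hq hd h6).2.1 hodd hf1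
        · intro _ _
          rw [hd1]
          exact B1
        · intro _ hq2'
          have hpw : q ^ (w + 1) = 2 ^ (w + 1) := by rw [hq2']
          rw [hpw] at B1
          have hd3 : d - 3 = w - 1 := by omega
          obtain ⟨w', hw''⟩ : ∃ w', w = w' + 1 := ⟨w - 1, by omega⟩
          rw [hd3, hw'']
          rw [hw'', pow_succ, pow_succ] at B1
          simp only [Nat.add_sub_cancel]
          omega
      · apply goals_of_C0 hp2 hq hd
        obtain ⟨r, hr⟩ : ∃ r, d = w + 3 + r := ⟨d - (w + 3), by omega⟩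
        have hd1 : d - 1 = (w + 1) + (r + 1) := by omega
        rw [hd1, pow_add]
        have h7 : 2 ≤ q ^ (r + 1) := by
          calc 2 ≤ q := hq2
            _ = q ^ 1 := (pow_one q).symm
            _ ≤ q ^ (r + 1) := Nat.pow_le_pow_right (by omega) (by omega)
        have h8 : 2 ≤ q ^ (w + 1) := by
          calc 2 ≤ q := hq2
            _ = q ^ 1 := (pow_one q).symm
            _ ≤ q ^ (w + 1) := Nat.pow_le_pow_right (by omega) (by omega)
        have h9 : q ^ (w + 1) * 2 ≤ q ^ (w + 1) * q ^ (r + 1) := Nat.mul_le_mul_left _ h7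
        omega
    · have hE1 : 1 ≤ E := by omega
      by_cases h2P : 2 * p ^ Nat.clog p (E + 1) ≤ q ^ E
      · apply goals_of_C0 hp2 hq hd
        have h3 : 2 ≤ q ^ E := by
          calc 2 ≤ q := hq2
            _ = q ^ 1 := (pow_one q).symm
            _ ≤ q ^ E := Nat.pow_le_pow_right (by omega) hE1
        have h4 : 2 * N ≤ (q ^ (w + 1) + 1) * q ^ E := by
          rw [hNl]
          calc 2 * (bL q l * p ^ Nat.clog p (E + 1))
              = bL q l * (2 * p ^ Nat.clog p (E + 1)) := by ring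
            _ ≤ (q ^ (w + 1) + 1) * q ^ E := Nat.mul_le_mul B1 h2P
        have h5 : q ^ (w + 1 + E) ≤ q ^ (d - 1) := Nat.pow_le_pow_right (by omega) (by omega)
        have h6 : q ^ (w + 1 + E) = q ^ (w + 1) * q ^ E := by rw [pow_add]
        have h7 : 2 ≤ q ^ (w + 1) := by
          calc 2 ≤ q := hq2
            _ = q ^ 1 := (pow_one q).symm
            _ ≤ q ^ (w + 1) := Nat.pow_le_pow_right (by omega) (by omega)
        have h8 : 2 * q ^ E ≤ q ^ (w + 1) * q ^ E := Nat.mul_le_mul_right _ h7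
        have h9 : (q ^ (w + 1) + 1) * q ^ E = q ^ (w + 1) * q ^ E + q ^ E := by ring
        omega
      · -- the exceptional cases
        have hf1 : f = 1 := by
          by_contra hne
          have hf2 : 2 ≤ f := by omega
          apply h2P
          have h1 : p ^ 2 ≤ q := by
            rw [hq]
            exact Nat.pow_le_pow_right (by omega) hf2
          have h2 : (p ^ 2) ^ E ≤ q ^ E := Nat.pow_le_pow_left h1 _
          have h3 : (p ^ 2) ^ E = p ^ E * p ^ E := by
            rw [← pow_mul, ← pow_add]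
            congr 1
            omega
          have h4 : 2 ≤ p ^ E := by
            calc 2 ≤ p := hp2
              _ = p ^ 1 := (pow_one p).symm
              _ ≤ p ^ E := Nat.pow_le_pow_right (by omega) hE1
          have h5 : 2 * p ^ E ≤ p ^ E * p ^ E := Nat.mul_le_mul_right _ h4
          calc 2 * p ^ Nat.clog p (E + 1) ≤ 2 * p ^ E := Nat.mul_le_mul_left _ hP1
            _ ≤ q ^ E := by omega
        have hqp : q = p := by rw [hq, hf1, pow_one]
        have hE3 : E < 3 := by
          by_contra hne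
          have hE3 : 3 ≤ E := by omega
          apply h2P
          have h1 := P_le_pow_pred hp2 E hE3
          have h2 : p ^ E = p ^ (E - 1) * p := by
            rw [← pow_succ]
            congr 1
            omega
          rw [hqp, h2]
          nlinarith
        have hcase : E = 1 ∨ (E = 2 ∧ p = 2) := by
          by_cases hE1' : E = 1
          · exact Or.inl hE1'
          · right
            have hE2 : E = 2 := by omega
            refine ⟨hE2, ?_⟩
            by_contra hne
            have hp3 : 3 ≤ p := by omega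
            apply h2P
            subst hE2
            have h1 := P_le_of_two hp3
            rw [hqp]
            nlinarith
        rcases hcase with hE1' | ⟨hE2, hp2'⟩
        · -- `f = 1`, `E = 1`
          subst hE1'
          have hP : p ^ Nat.clog p (1 + 1) ≤ p := by
            have := hP1
            rwa [pow_one] at this
          have hN2 : N ≤ bL q l * p := by
            rw [hNl]
            exact Nat.mul_le_mul_left _ hP
          have hpw : q ^ (w + 1) = p ^ (w + 1) := by rw [hqp]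
          rw [hpw] at B1 B2
          refine ⟨?_, ?_, ?_, ?_⟩
          · intro _ hf2
            omega
          · intro _ _
            have h1 : p ^ (w + 1) ≤ p ^ (d - 2) := Nat.pow_le_pow_right (by omega) (by omega)
            calc N ≤ bL q l * p := hN2
              _ ≤ (p ^ (d - 2) + 1) * p := Nat.mul_le_mul_right _ (by omega)
          · intro heven _
            have hpd : q ^ (d - 1) = p ^ (d - 1) := by rw [hqp]
            rw [hpd]
            by_cases hWd : w + 2 + 1 = d
            · have hodd : Odd (w + 2) := by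
                rcases heven with ⟨k, hk⟩
                exact ⟨k - 1, by omega⟩
              have h1 := B2 hodd
              have hd1 : d - 1 = (w + 1) + 1 := by omega
              rw [hd1, pow_succ]
              have : bL q l * p ≤ p ^ (w + 1) * p := Nat.mul_le_mul_right _ (by omega)
              omega
            · obtain ⟨r, hr⟩ : ∃ r, d = w + 4 + r := ⟨d - (w + 4), by omega⟩
              have hd1 : d - 1 = (w + 1) + (r + 2) := by omega
              rw [hd1, pow_add]
              have h7 : p * p ≤ p ^ (r + 2) := by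
                calc p * p = p ^ 2 := (sq p).symm
                  _ ≤ p ^ (r + 2) := Nat.pow_le_pow_right (by omega) (by omega)
              have h8 : 2 ≤ p ^ (w + 1) := by
                calc 2 ≤ p := hp2
                  _ = p ^ 1 := (pow_one p).symm
                  _ ≤ p ^ (w + 1) := Nat.pow_le_pow_right (by omega) (by omega)
              have h9 : p ^ (w + 1) * (p * p) ≤ p ^ (w + 1) * p ^ (r + 2) :=
                Nat.mul_le_mul_left _ h7
              have h10 : bL q l * p ≤ (p ^ (w + 1) + 1) * p := Nat.mul_le_mul_right _ B1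
              nlinarith
          · intro heven hq2'
            have hp2'' : p = 2 := by omega
            have hpw2 : p ^ (w + 1) = 2 ^ (w + 1) := by rw [hp2'']
            rw [hpw2] at B1 B2
            rw [hp2''] at hN2
            by_cases hWd : w + 2 + 1 = d
            · have hodd : Odd (w + 2) := by
                rcases heven with ⟨k, hk⟩
                exact ⟨k - 1, by omega⟩
              have h1 := B2 hodd
              have hd3 : d - 3 = w := by omega
              rw [hd3]
              rw [pow_succ] at h1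
              omega
            · obtain ⟨r, hr⟩ : ∃ r, d = w + 4 + r := ⟨d - (w + 4), by omega⟩
              have hd3 : d - 3 = (w + 1) + r := by omega
              rw [hd3, pow_add]
              have h7 : 1 ≤ 2 ^ r := Nat.one_le_pow _ _ (by omega)
              have h9 : 2 ^ (w + 1) * 1 ≤ 2 ^ (w + 1) * 2 ^ r := Nat.mul_le_mul_left _ h7
              omega
        · -- `q = 2`, `E = 2`
          subst hE2
          have hq2' : q = 2 := by omega
          have hP : p ^ Nat.clog p (2 + 1) ≤ 4 := by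
            have := hP1
            rw [hp2'] at this ⊢
            simpa using this
          have hN2 : N ≤ bL q l * 4 := by
            rw [hNl]
            exact Nat.mul_le_mul_left _ hP
          have hpw : q ^ (w + 1) = 2 ^ (w + 1) := by rw [hq2']
          rw [hpw] at B1 B2
          refine ⟨?_, ?_, ?_, ?_⟩
          · intro _ hf2
            omega
          · intro hodd _
            rw [hp2']
            by_cases hWd : w + 2 + 2 = d
            · have hodd' : Odd (w + 2) := by
                rcases hodd with ⟨k, hk⟩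
                exact ⟨k - 1, by omega⟩
              have h1 := B2 hodd'
              have hd2 : d - 2 = (w + 1) + 1 := by omega
              rw [hd2, pow_succ]
              omega
            · obtain ⟨r, hr⟩ : ∃ r, d = w + 5 + r := ⟨d - (w + 5), by omega⟩
              have hd2 : d - 2 = (w + 1) + (r + 2) := by omega
              rw [hd2, pow_add]
              have h7 : 4 ≤ 2 ^ (r + 2) := by
                calc 4 = 2 ^ 2 := by norm_num
                  _ ≤ 2 ^ (r + 2) := Nat.pow_le_pow_right (by omega) (by omega)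
              have h9 : 2 ^ (w + 1) * 4 ≤ 2 ^ (w + 1) * 2 ^ (r + 2) := Nat.mul_le_mul_left _ h7
              have h10 : 1 ≤ 2 ^ (w + 1) := Nat.one_le_pow _ _ (by omega)
              omega
          · intro _ hq3
            omega
          · intro _ _
            obtain ⟨r, hr⟩ : ∃ r, d = w + 4 + r := ⟨d - (w + 4), by omega⟩
            have hd3 : d - 3 = (w + 1) + r := by omega
            rw [hd3, pow_add]
            have h7 : 1 ≤ 2 ^ r := Nat.one_le_pow _ _ (by omega)
            have h9 : 2 ^ (w + 1) * 1 ≤ 2 ^ (w + 1) * 2 ^ r := Nat.mul_le_mul_left _ h7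
            omega

end Cfsg.Agent.Lib.H1.PGU
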