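import Mathlib
import Cfsg.Prelude.Def_LieClassical
import Cfsg.Agent.Lib.H13.AutPSLGraphField
import Cfsg.Agent.Lib.H13.AutPSU1

/-!
T2 for S2263 (requested by helper11): an element of order `q^n + 1` in `GU_n(q)`, `n` odd.
-/

set_option autoImplicit false

namespace Cfsg.Agent.Lib.H1.PGU

open Matrix
open scoped MatrixGroups

section core

variable {F L : Type*} [Field F] [Field L] [Algebra F L] {n : ℕ}

/-- the Gram matrix of the form `(x, y) ↦ Tr(x * s y)` -/
noncomputable def gram (s : L →+* L) (b : Module.Basis (Fin n) F L) : Matrix (Fin n) (Fin n) F :=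
  fun i j => Algebra.trace F L (b i * s (b j))

theorem trace_sum_mul (τ : F ≃+* F) (s : L →+* L)
    (hs1 : ∀ a, s (algebraMap F L a) = algebraMap F L (τ a))
    (b : Module.Basis (Fin n) F L) (c d : Fin n → F) :
    Algebra.trace F L ((∑ k, c k • b k) * s (∑ l, d l • b l))
      = ∑ k, ∑ l, c k * gram s b k l * τ (d l) := by
  have hs : ∀ (a : F) (x : L), s (a • x) = τ a • s x := by
    intro a x
    rw [Algebra.smul_def, map_mul, hs1, ← Algebra.smul_def]
  rw [map_sum, Finset.sum_mul_sum, map_sum]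
  refine Finset.sum_congr rfl fun k _ => ?_
  rw [map_sum]
  refine Finset.sum_congr rfl fun l _ => ?_
  rw [hs, smul_mul_smul_comm, LinearMap.map_smul, smul_eq_mul, gram]
  ring

theorem gram_herm (τ : F ≃+* F) (s : L →+* L) (hs2 : ∀ x, s (s x) = x)
    (hT : ∀ w, τ (Algebra.trace F L w) = Algebra.trace F L (s w))
    (b : Module.Basis (Fin n) F L) : ((gram s b).map τ)ᵀ = gram s b := by
  ext i j
  simp only [Matrix.transpose_apply, Matrix.map_apply, gram]
  rw [hT, map_mul, hs2, mul_comm]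

theorem gram_invariant (τ : F ≃+* F) (s : L →+* L)
    (hs1 : ∀ a, s (algebraMap F L a) = algebraMap F L (τ a))
    (b : Module.Basis (Fin n) F L) (z : L) (hz : z * s z = 1) :
    (Algebra.leftMulMatrix b z)ᵀ * gram s b * (Algebra.leftMulMatrix b z).map τ = gram s b := by
  ext i j
  have e : ∀ i, z * b i = ∑ k, Algebra.leftMulMatrix b z k i • b k := by
    intro i
    conv_lhs => rw [← b.sum_repr (z * b i)]
    refine Finset.sum_congr rfl fun k _ => ?_
    rw [Algebra.leftMulMatrix_eq_repr_mul]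
  have h1 := trace_sum_mul τ s hs1 b (fun k => Algebra.leftMulMatrix b z k i)
    (fun l => Algebra.leftMulMatrix b z l j)
  rw [← e i, ← e j, map_mul s] at h1
  have h2 : z * b i * (s z * s (b j)) = b i * s (b j) := by
    calc z * b i * (s z * s (b j)) = (z * s z) * (b i * s (b j)) := by ring
      _ = b i * s (b j) := by rw [hz, one_mul]
  rw [h2] at h1
  rw [show gram s b i j = Algebra.trace F L (b i * s (b j)) from rfl, h1]
  simp only [Matrix.mul_apply, Matrix.transpose_apply, Matrix.map_apply, Finset.sum_mul]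
  rw [Finset.sum_comm]

theorem gram_det_ne_zero [FiniteDimensional F L] [Algebra.IsSeparable F L] (τ : F ≃+* F)
    (s : L →+* L) (hs1 : ∀ a, s (algebraMap F L a) = algebraMap F L (τ a))
    (hs2 : ∀ x, s (s x) = x) (b : Module.Basis (Fin n) F L) : (gram s b).det ≠ 0 := by
  intro h0
  obtain ⟨u, hu0, hu⟩ := Matrix.exists_vecMul_eq_zero_iff.mpr h0
  have h1 : ∀ y : L, Algebra.trace F L ((∑ i, u i • b i) * y) = 0 := by
    intro y
    have h2 := trace_sum_mul τ s hs1 b u (b.repr (s y))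
    rw [b.sum_repr, hs2] at h2
    rw [h2, Finset.sum_comm]
    refine Finset.sum_eq_zero fun l _ => ?_
    have h3 : ∑ k, u k * gram s b k l = 0 := by
      have := congrFun hu l
      simpa [Matrix.vecMul, dotProduct] using this
    rw [← Finset.sum_mul, h3, zero_mul]
  have h4 : (∑ i, u i • b i) = 0 :=
    (traceForm_nondegenerate F L).1 _ (fun y => by
      rw [Algebra.traceForm_apply]; exact h1 y)
  apply hu0
  funext i
  exact Fintype.linearIndependent_iff.mp b.linearIndependent u h4 i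

end core

section unitarize

variable {F : Type*} [Field F] [Fintype F] {n : ℕ}

theorem exists_GU_of_gram {q : ℕ} (τ : F ≃+* F) (hτ : ∀ a, τ a = a ^ q) (hτ1 : τ ≠ 1)
    (hτ2 : ∀ a, τ (τ a) = a) (H : Matrix (Fin n) (Fin n) F) (hH : (H.map τ)ᵀ = H)
    (hdet : H.det ≠ 0) (A₀ : GL (Fin n) F)
    (hA : (A₀ : Matrix (Fin n) (Fin n) F)ᵀ * H * (A₀ : Matrix (Fin n) (Fin n) F).map τ = H) :
    ∃ A : GL (Fin n) F, A ∈ Cfsg.GU n F q ∧ orderOf A = orderOf A₀ := by
  classical
  have hHu : IsUnit H := (Matrix.isUnit_iff_isUnit_det H).mpr (IsUnit.mk0 _ hdet)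
  obtain ⟨k, hk, hHk⟩ := Cfsg.Agent.Lib.H13.AutPSL.herm_class τ hτ1 hτ2 H hH hHu
  have hkT : IsUnit kᵀ := by
    rw [Matrix.isUnit_iff_isUnit_det, Matrix.det_transpose]
    exact (Matrix.isUnit_iff_isUnit_det k).mp hk
  obtain ⟨Pu, hPu⟩ := hkT
  refine ⟨Pu * A₀ * Pu⁻¹, ?_, ?_⟩
  · rw [Cfsg.Agent.Lib.H13.AutPSL.mem_GU_iff_mat τ hτ]
    have hbar : ∀ M N : Matrix (Fin n) (Fin n) F, (M * N).map τ = M.map τ * N.map τ := by
      intro M N
      exact map_mul (τ : F →+* F).mapMatrix M N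
    have hPQ : (Pu : Matrix (Fin n) (Fin n) F) * ((Pu⁻¹ : GL (Fin n) F) : Matrix (Fin n) (Fin n) F)
        = 1 := by
      rw [← Units.val_mul, mul_inv_cancel, Units.val_one]
    have hPP : (Pu : Matrix (Fin n) (Fin n) F)ᵀ * (Pu : Matrix (Fin n) (Fin n) F).map τ = H := by
      rw [hPu, Matrix.transpose_transpose, Matrix.transpose_map]
      exact hHk.symm
    set P : Matrix (Fin n) (Fin n) F := (Pu : Matrix (Fin n) (Fin n) F) with hP
    set Q : Matrix (Fin n) (Fin n) F := ((Pu⁻¹ : GL (Fin n) F) : Matrix (Fin n) (Fin n) F) with hQ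
    set B : Matrix (Fin n) (Fin n) F := (A₀ : Matrix (Fin n) (Fin n) F) with hB
    have hval : ((Pu * A₀ * Pu⁻¹ : GL (Fin n) F) : Matrix (Fin n) (Fin n) F) = P * B * Q := by
      simp [hP, hQ, hB, Units.val_mul]
    rw [hval, Matrix.transpose_mul, Matrix.transpose_mul, hbar, hbar]
    calc Qᵀ * (Bᵀ * Pᵀ) * (P.map τ * B.map τ * Q.map τ)
        = Qᵀ * (Bᵀ * (Pᵀ * P.map τ) * B.map τ) * Q.map τ := by
          simp only [Matrix.mul_assoc]
      _ = Qᵀ * H * Q.map τ := by rw [hPP, hA]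
      _ = (Qᵀ * Pᵀ) * (P.map τ * Q.map τ) := by
          rw [← hPP]; simp only [Matrix.mul_assoc]
      _ = 1 := by
          rw [← Matrix.transpose_mul, ← hbar, hPQ, Matrix.transpose_one,
            Matrix.map_one _ (map_zero τ) (map_one τ), Matrix.one_mul]
  · exact (MulAut.conj Pu).orderOf_eq A₀

end unitarize

section main

variable {F : Type*} [Field F] [Fintype F]

/-- **T2**: a "Singer-type" element of order `q^n+1` in `GU_n(q)`, `n` odd. -/
theorem exists_GU_orderOf_add_one (q : ℕ) (hF : Fintype.card F = q ^ 2) (n : ℕ) (hn : Odd n) :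
    ∃ A : GL (Fin n) F, A ∈ Cfsg.GU n F q ∧ orderOf A = q ^ n + 1 := by
  classical
  obtain ⟨p, hp⟩ := CharP.exists F
  have hpp : Fact p.Prime := ⟨CharP.char_is_prime F p⟩
  obtain ⟨k, -, hk⟩ := FiniteField.card F p
  have hdvd : q ∣ p ^ (k : ℕ) := by
    rw [← hk, hF]
    exact Dvd.intro_left q (by ring)
  obtain ⟨j, -, hj⟩ := (Nat.dvd_prime_pow hpp.out).mp hdvd
  have hq2 : 2 ≤ q := Cfsg.Agent.Lib.H13.AutPSU.two_le_q hj hF
  obtain ⟨τ, hτ, hτ2⟩ := Cfsg.Agent.Lib.H13.AutPSU.exists_tau hj hF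
  have hτ1 : τ ≠ 1 := by
    intro h
    obtain ⟨a, ha⟩ := Cfsg.Agent.Lib.H13.AutPSU.tau_ne hj hF τ hτ
    apply ha
    rw [h, RingAut.one_apply]
  obtain ⟨m, hm⟩ := hn
  have hn0 : NeZero n := ⟨by omega⟩
  -- `a ^ (q ^ n) = a ^ q` on `F`
  have hpowF : ∀ a : F, a ^ (q ^ n) = a ^ q := by
    intro a
    have h1 : ∀ i : ℕ, a ^ ((q ^ 2) ^ i) = a := by
      intro i
      induction i with
      | zero => simp
      | succ i ih => rw [pow_succ, pow_mul, ih, ← hF, FiniteField.pow_card]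
    rw [hm, pow_succ, pow_mul, pow_mul, h1]
  let L := FiniteField.Extension F p n
  have hfr : Module.finrank F L = n := FiniteField.finrank_extension F p n
  have hFL : Fintype L := Fintype.ofFinite L
  have hcardL : Fintype.card L = q ^ n * q ^ n := by
    rw [← Nat.card_eq_fintype_card, FiniteField.natCard_extension, Nat.card_eq_fintype_card, hF,
      ← pow_mul, ← pow_add]
    congr 1
    omega
  have hcpL : CharP L p := charP_of_injective_algebraMap (algebraMap F L).injective p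
  have hecL : ExpChar L p := ExpChar.prime hpp.out
  let s : L →+* L := iterateFrobenius L p (j * n)
  have hs : ∀ x, s x = x ^ (q ^ n) := by
    intro x
    rw [iterateFrobenius_def, hj, ← pow_mul]
  have hs1 : ∀ a, s (algebraMap F L a) = algebraMap F L (τ a) := by
    intro a
    rw [hs, ← map_pow, hpowF, hτ]
  have hs2 : ∀ x, s (s x) = x := by
    intro x
    rw [hs, hs, ← pow_mul, ← hcardL, FiniteField.pow_card]
  have hT : ∀ w, τ (Algebra.trace F L w) = Algebra.trace F L (s w) := by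
    intro w
    apply (algebraMap F L).injective
    rw [← hs1, FiniteField.algebraMap_trace_eq_sum_pow, FiniteField.algebraMap_trace_eq_sum_pow,
      map_sum]
    refine Finset.sum_congr rfl fun i _ => ?_
    rw [map_pow]
  let b : Module.Basis (Fin n) F L := Module.finBasisOfFinrankEq F L hfr
  let φ : L →ₐ[F] Matrix (Fin n) (Fin n) F := Algebra.leftMulMatrix b
  have hφ : Function.Injective φ := Algebra.leftMulMatrix_injective b
  obtain ⟨g, hg⟩ := IsCyclic.exists_generator (α := Lˣ)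
  set Q := q ^ n with hQ
  have hQ2 : 2 ≤ Q := by
    calc 2 ≤ q := hq2
      _ = q ^ 1 := (pow_one q).symm
      _ ≤ q ^ n := Nat.pow_le_pow_right (by omega) (by omega)
  have hordg : orderOf g = Q * Q - 1 := by
    rw [orderOf_eq_card_of_forall_mem_zpowers hg, Nat.card_units, Nat.card_eq_fintype_card,
      hcardL]
  have hfac : Q * Q - 1 = (Q - 1) * (Q + 1) := by
    obtain ⟨r, hr⟩ : ∃ r, Q = r + 1 := ⟨Q - 1, by omega⟩
    rw [hr]
    simp only [Nat.add_sub_cancel]
    ring_nf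
    omega
  have hordz : orderOf (g ^ (Q - 1)) = Q + 1 := by
    rw [orderOf_pow' _ (by omega : Q - 1 ≠ 0), hordg, hfac, Nat.gcd_eq_right (Dvd.intro _ rfl)]
    exact Nat.mul_div_cancel_left _ (by omega)
  set ζ : Lˣ := g ^ (Q - 1) with hζ
  have hz : (ζ : L) * s (ζ : L) = 1 := by
    rw [hs, ← pow_succ', ← Units.val_pow_eq_pow_val, ← hordz, pow_orderOf_eq_one, Units.val_one]
  let A₀ : GL (Fin n) F := Units.map (φ : L →* Matrix (Fin n) (Fin n) F) ζ
  have hA₀ : orderOf A₀ = Q + 1 := by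
    rw [← hordz]
    exact orderOf_injective (Units.map (φ : L →* Matrix (Fin n) (Fin n) F))
      (Units.map_injective hφ) ζ
  have hinv := gram_invariant τ s hs1 b (ζ : L) hz
  obtain ⟨A, hA1, hA2⟩ := exists_GU_of_gram τ hτ hτ1 hτ2 (gram s b) (gram_herm τ s hs2 hT b)
    (gram_det_ne_zero τ s hs1 hs2 b) A₀ hinv
  exact ⟨A, hA1, by rw [hA2, hA₀]⟩

end main

end Cfsg.Agent.Lib.H1.PGU
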