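/-
S2937 (architect helper3), pre-build (helper1): Coxeter relations "mod `B`" between the simple reflections `sRef φ j` of
helper8's flag form group `GS φ` (types `B_m`/`C_m`/`²A_n`; also the basis of the `D_m` tower of helper25):
non-adjacent reflections commute exactly, adjacent ones do not commute modulo the upper triangular group `Bs φ`.
-/
import Mathlib
import Cfsg.Agent.Lib.H8.FBNRefl

set_option autoImplicit false
set_option linter.unusedSectionVars false
set_option linter.unusedVariables false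

namespace Cfsg.Agent.Lib.H1.PM

open Cfsg
open Matrix Cfsg.Agent.Lib.H12.DCos Cfsg.Agent.Lib.H8.FBN

variable {F : Type*} [Field F] {n : ℕ}

/-- `τ i` fixes every index outside `{i, i+1, n-2-i, n-1-i}` -/
theorem τ_fix (i : Fin (n / 2)) (k : Fin n) (h1 : (k : ℕ) ≠ i) (h2 : (k : ℕ) ≠ i + 1)
    (h3 : (k : ℕ) ≠ n - 2 - i) (h4 : (k : ℕ) ≠ n - 1 - i) : τ i k = k := by
  have hi2 := i.2
  have hk2 := k.2
  apply Fin.ext
  rw [τ_val]
  split_ifs <;> omega

/-- the set `{i, i+1, n-2-i, n-1-i}` is stable under `τ i` -/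
theorem τ_mem (i : Fin (n / 2)) (k : Fin n)
    (hk : (k : ℕ) = i ∨ (k : ℕ) = i + 1 ∨ (k : ℕ) = n - 2 - i ∨ (k : ℕ) = n - 1 - i) :
    ((τ i k : Fin n) : ℕ) = i ∨ ((τ i k : Fin n) : ℕ) = i + 1 ∨
      ((τ i k : Fin n) : ℕ) = n - 2 - i ∨ ((τ i k : Fin n) : ℕ) = n - 1 - i := by
  have hi2 := i.2
  have hk2 := k.2
  rw [τ_val]
  split_ifs <;> omega

/-- non-adjacent simple reflections commute as permutations -/
theorem τ_comm (i j : Fin (n / 2)) (h : (i : ℕ) + 2 ≤ j) : τ (n := n) i * τ j = τ j * τ i := by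
  have hi2 := i.2
  have hj2 := j.2
  ext k
  have hk2 := k.2
  rw [Equiv.Perm.mul_apply, Equiv.Perm.mul_apply]
  by_cases hki : (k : ℕ) = i ∨ (k : ℕ) = i + 1 ∨ (k : ℕ) = n - 2 - i ∨ (k : ℕ) = n - 1 - i
  · have e1 : τ j k = k := by
      apply τ_fix <;> omega
    have hm := τ_mem i k hki
    have e2 : τ j (τ i k) = τ i k := by
      apply τ_fix <;> omega
    rw [e1, e2]
  · have e1 : τ i k = k := by
      apply τ_fix <;> omega
    by_cases hkj : (k : ℕ) = j ∨ (k : ℕ) = j + 1 ∨ (k : ℕ) = n - 2 - j ∨ (k : ℕ) = n - 1 - j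
    · have hm := τ_mem j k hkj
      have e2 : τ i (τ j k) = τ j k := by
        apply τ_fix <;> omega
      rw [e1, e2]
    · have e2 : τ j k = k := by
        apply τ_fix <;> omega
      rw [e1, e2, e1]

/-- non-adjacent simple reflections commute -/
theorem sRef_comm (φ : F →+* F) (i j : Fin (n / 2)) (h : (i : ℕ) + 2 ≤ j) :
    sRef (n := n) φ i * sRef φ j = sRef φ j * sRef φ i := by
  apply ext_val
  rw [val_mul, val_mul, sRef_val, sRef_val, ← wmat_mul, ← wmat_mul, τ_comm i j h]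

theorem sRef_comm' (φ : F →+* F) (i j : Fin (n / 2)) (h : (i : ℕ) + 2 ≤ j ∨ (j : ℕ) + 2 ≤ i) :
    sRef (n := n) φ i * sRef φ j = sRef φ j * sRef φ i := by
  rcases h with h | h
  · exact sRef_comm φ i j h
  · exact (sRef_comm φ j i h).symm

/-- the commutator of two non-adjacent simple reflections is trivial -/
theorem sRef_commutator_eq_one (φ : F →+* F) (i j : Fin (n / 2)) (h : (i : ℕ) + 2 ≤ j ∨ (j : ℕ) + 2 ≤ i) :
    sRef (n := n) φ i * sRef φ j * (sRef φ i)⁻¹ * (sRef φ j)⁻¹ = 1 := by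
  rw [sRef_comm' φ i j h, mul_assoc (sRef φ j), mul_inv_cancel, mul_one, mul_inv_cancel]

/-- the value of the commutator of two simple reflections -/
theorem sRef_commutator_val (φ : F →+* F) (i j : Fin (n / 2)) :
    ((sRef (n := n) φ i * sRef φ j * (sRef φ i)⁻¹ * (sRef φ j)⁻¹).1 : Matrix (Fin n) (Fin n) F) =
      wmat F (τ i * τ j * τ i * τ j) := by
  rw [sRef_inv, sRef_inv, val_mul, val_mul, val_mul, sRef_val, sRef_val, ← wmat_mul, ← wmat_mul, ← wmat_mul]

/-- the image of `i` under `(τ_i τ_{i+1})²` is `> i` -/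
theorem lt_comm_image (i j : Fin (n / 2)) (h : (j : ℕ) = i + 1) (hl : (i : ℕ) < n) :
    (⟨i, hl⟩ : Fin n) < (τ i * τ j * τ i * τ j) ⟨i, hl⟩ := by
  have hi2 := i.2
  have hj2 := j.2
  rw [Equiv.Perm.mul_apply, Equiv.Perm.mul_apply, Equiv.Perm.mul_apply]
  have e1 : τ j ⟨i, hl⟩ = ⟨i, hl⟩ := by
    apply τ_fix <;> simp only [] <;> omega
  have e2 : ((τ i ⟨i, hl⟩ : Fin n) : ℕ) = i + 1 := by
    rw [τ_val]
    simp only []
    split_ifs <;> omega
  rw [e1]
  have e3 : ((τ j (τ i ⟨i, hl⟩) : Fin n) : ℕ) =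
      if (j : ℕ) + 1 < n / 2 then (i : ℕ) + 2 else n - 1 - j := by
    rw [τ_val, e2]
    split_ifs <;> omega
  have e4 : ((τ i (τ j (τ i ⟨i, hl⟩)) : Fin n) : ℕ) =
      if (j : ℕ) + 1 < n / 2 then (i : ℕ) + 2 else n - 1 - i := by
    rw [τ_val, e3]
    split_ifs <;> omega
  rw [Fin.lt_def, e4]
  simp only []
  split_ifs <;> omega

/-- adjacent simple reflections do not commute modulo `B` -/
theorem sRef_commutator_not_mem_Bs (φ : F →+* F) (i j : Fin (n / 2)) (h : (j : ℕ) = i + 1) :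
    sRef (n := n) φ i * sRef φ j * (sRef φ i)⁻¹ * (sRef φ j)⁻¹ ∉ Bs φ := by
  have hi2 := i.2
  have hj2 := j.2
  intro hmem
  rw [mem_Bs, sRef_commutator_val] at hmem
  have hl : (i : ℕ) < n := by omega
  have h1 := hmem ((τ i * τ j * τ i * τ j) ⟨i, hl⟩) ⟨i, hl⟩ (lt_comm_image i j h hl)
  rw [wmat_apply, if_pos rfl] at h1
  exact one_ne_zero h1

end Cfsg.Agent.Lib.H1.PM
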