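/-
S2937 (architect helper3), pre-build (helper1): generic transport of "the simple reflections `s`, `t` commute modulo `B`"
(`s * t * s⁻¹ * t⁻¹ ∈ B`) along helper8's restriction `BNRes.restrict` of a (B,N)-pair to a subgroup `G'` with
`G = G' (B ∩ N)`: the new generators are `s * τ s` with `τ s ∈ B ∩ N`, and commutators only change by elements of
`B ∩ N ≤ B`.
-/
import Mathlib
import Cfsg.Agent.Lib.H8.BNRootData

set_option autoImplicit false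
set_option linter.unusedSectionVars false
set_option linter.unusedVariables false

namespace Cfsg.Agent.Lib.H1.PM

open Cfsg
open Cfsg.Agent.Lib.H8.BNRes Cfsg.Agent.Lib.H8.BNRoot

/-- twisting by a subgroup `T` normalised by `s`, `t` changes the commutator by an element of `T` -/
theorem commutator_twist {G : Type*} [Group G] (T : Subgroup G) (s t a b : G)
    (hs : ∀ x ∈ T, s * x * s⁻¹ ∈ T) (ht : ∀ x ∈ T, t * x * t⁻¹ ∈ T) (ht' : ∀ x ∈ T, t⁻¹ * x * t ∈ T)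
    (ha : a ∈ T) (hb : b ∈ T) :
    ∃ c ∈ T, (s * a) * (t * b) * (s * a)⁻¹ * (t * b)⁻¹ = s * t * s⁻¹ * t⁻¹ * c := by
  refine ⟨t * (s * (t⁻¹ * a * t * b * a⁻¹) * s⁻¹ * b⁻¹) * t⁻¹, ?_, by group⟩
  apply ht
  apply T.mul_mem _ (T.inv_mem hb)
  apply hs
  exact T.mul_mem (T.mul_mem (ht' a ha) hb) (T.inv_mem ha)

/-- "commuting modulo `B`" is insensitive to twisting by `T ≤ B` -/
theorem commutator_twist_mem_iff {G : Type*} [Group G] (T B : Subgroup G) (hTB : T ≤ B) (s t a b : G)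
    (hs : ∀ x ∈ T, s * x * s⁻¹ ∈ T) (ht : ∀ x ∈ T, t * x * t⁻¹ ∈ T) (ht' : ∀ x ∈ T, t⁻¹ * x * t ∈ T)
    (ha : a ∈ T) (hb : b ∈ T) :
    (s * a) * (t * b) * (s * a)⁻¹ * (t * b)⁻¹ ∈ B ↔ s * t * s⁻¹ * t⁻¹ ∈ B := by
  obtain ⟨c, hc, e⟩ := commutator_twist T s t a b hs ht ht' ha hb
  rw [e]
  exact Subgroup.mul_mem_cancel_right B (hTB hc)

/-- "commuting modulo `B`" is symmetric -/
theorem commutator_mem_symm {G : Type*} [Group G] (B : Subgroup G) (s t : G) :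
    s * t * s⁻¹ * t⁻¹ ∈ B ↔ t * s * t⁻¹ * s⁻¹ ∈ B := by
  have e : t * s * t⁻¹ * s⁻¹ = (s * t * s⁻¹ * t⁻¹)⁻¹ := by group
  rw [e, Subgroup.inv_mem_iff]

variable {H : Type*} [Group H] {P : Cfsg.BNPair H}

/-- twisting two elements of `N` by elements of `B ∩ N` does not change "commuting modulo `B`" -/
theorem bn_commutator_twist_mem_iff (s t a b : H) (hs : s ∈ P.N) (ht : t ∈ P.N)
    (ha : a ∈ P.B ⊓ P.N) (hb : b ∈ P.B ⊓ P.N) :
    (s * a) * (t * b) * (s * a)⁻¹ * (t * b)⁻¹ ∈ P.B ↔ s * t * s⁻¹ * t⁻¹ ∈ P.B :=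
  commutator_twist_mem_iff (P.B ⊓ P.N) P.B inf_le_left s t a b
    (fun x hx => T_conj_mem' hs hx) (fun x hx => T_conj_mem' ht hx) (fun x hx => T_conj_mem ht hx) ha hb

/-- the generators `s * τ s` of the restricted pair commute modulo `B` iff `s`, `t` do -/
theorem newS_commutator_mem_iff (τ : H → H) (hτ : ∀ s ∈ P.S, τ s ∈ P.B ⊓ P.N) (s t : H) (hs : s ∈ P.S) (ht : t ∈ P.S) :
    (s * τ s) * (t * τ t) * (s * τ s)⁻¹ * (t * τ t)⁻¹ ∈ P.B ↔ s * t * s⁻¹ * t⁻¹ ∈ P.B :=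
  bn_commutator_twist_mem_iff s t (τ s) (τ t) (P.subset hs) (P.subset ht) (hτ s hs) (hτ t ht)

variable (G' : Subgroup H) (hcov : Covers P G') (τ : H → H)
  (hτ : ∀ s ∈ P.S, τ s ∈ P.B ⊓ P.N) (hτG : ∀ s ∈ P.S, s * τ s ∈ G')

/-- the same inside the restricted pair -/
theorem restrict_commutator_mem_iff (x y : ↥G') (s t : H) (hs : s ∈ P.S) (ht : t ∈ P.S)
    (hx : (x : H) = s * τ s) (hy : (y : H) = t * τ t) :
    x * y * x⁻¹ * y⁻¹ ∈ (Cfsg.Agent.Lib.H8.BNRes.restrict P G' hcov τ hτ hτG).B ↔ s * t * s⁻¹ * t⁻¹ ∈ P.B := by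
  rw [mem_restrict_B]
  have e : ((x * y * x⁻¹ * y⁻¹ : ↥G') : H) = (s * τ s) * (t * τ t) * (s * τ s)⁻¹ * (t * τ t)⁻¹ := by
    rw [← hx, ← hy]
    rfl
  rw [e]
  exact newS_commutator_mem_iff τ hτ s t hs ht

/-- the same for the restricted root data -/
theorem rootData_restrict_commutator_mem_iff {ι : Type*} (D : RootData P ι)
    (hτT : ∀ i, τ (D.e i) ∈ D.T) (hX : ∀ i, D.X i ⊆ (G' : Set H))
    (hY : ∀ i, D.Y i ⊆ (G' : Set H)) (hU : D.U ≤ G') (i j : ι) :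
    (D.restrict G' hcov τ hτ hτG hτT hX hY hU).e i * (D.restrict G' hcov τ hτ hτG hτT hX hY hU).e j *
        ((D.restrict G' hcov τ hτ hτG hτT hX hY hU).e i)⁻¹ * ((D.restrict G' hcov τ hτ hτG hτT hX hY hU).e j)⁻¹ ∈
      (Cfsg.Agent.Lib.H8.BNRes.restrict P G' hcov τ hτ hτG).B ↔
    D.e i * D.e j * (D.e i)⁻¹ * (D.e j)⁻¹ ∈ P.B :=
  restrict_commutator_mem_iff G' hcov τ hτ hτG _ _ (D.e i) (D.e j) (D.e_mem_S i) (D.e_mem_S j) rfl rfl

end Cfsg.Agent.Lib.H1.PM
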