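/-
S2937 (architect helper3), generic glue (helper1): helper3's leaf criterion `pminBad_of_leaf` fed from helper8-style root data
`D : RootData P ι` (`U` a `p`-group, `|T|` prime to `p`, `π : G ↠ K` with kernel `Z(G)`), the Coxeter relations being given
as commutator conditions `s * t * s⁻¹ * t⁻¹ ∈ B`.
-/
import Mathlib
import Cfsg.Agent.Lib.H3.PMinBN
import Cfsg.Agent.Lib.H8.BNRootData
import Cfsg.Agent.Lib.H1.PMRES

set_option autoImplicit false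
set_option linter.unusedSectionVars false
set_option linter.unusedVariables false

namespace Cfsg.Agent.Lib.H1.PM

open Cfsg Cfsg.Agent.Lib.H3.PMin
open Cfsg.Agent.Lib.H8.BNRes Cfsg.Agent.Lib.H8.BNRoot Cfsg.Agent.Lib.H2.BN

/-- helper3's relation `Eqv P (s * t) (t * s)` is "the commutator lies in `B`" -/
theorem eqv_comm_iff {H : Type*} [Group H] (P : Cfsg.BNPair H) (s t : H) (hs : s ∈ P.S) (ht : t ∈ P.S) :
    Eqv P (s * t) (t * s) ↔ s * t * s⁻¹ * t⁻¹ ∈ P.B := by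
  have hsN : s ∈ P.N := P.subset hs
  have htN : t ∈ P.N := P.subset ht
  have ha : (s * s)⁻¹ ∈ P.B ⊓ P.N := (P.B ⊓ P.N).inv_mem ⟨P.sq_mem s hs, P.N.mul_mem hsN hsN⟩
  have hb : (t * t)⁻¹ ∈ P.B ⊓ P.N := (P.B ⊓ P.N).inv_mem ⟨P.sq_mem t ht, P.N.mul_mem htN htN⟩
  have e : (s * t)⁻¹ * (t * s) =
      (t * (t * t)⁻¹) * (s * (s * s)⁻¹) * (t * (t * t)⁻¹)⁻¹ * (s * (s * s)⁻¹)⁻¹ := by group
  show (s * t)⁻¹ * (t * s) ∈ P.B ↔ _
  rw [e, bn_commutator_twist_mem_iff t s _ _ htN hsN hb ha]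
  exact commutator_mem_symm _ _ _

theorem inv_mul_eq_of_twist {G : Type*} [Group G] (s₀ s₂ t₀ t₂ : G) (h : s₀ * t₀ = s₂ * t₂) :
    s₀⁻¹ * s₂ = t₀ * t₂⁻¹ := by
  have e : s₂ = s₀ * t₀ * t₂⁻¹ := by rw [h]; group
  rw [e]; group

/-- generators which are distinct modulo `B` stay distinct in the restricted root data -/
theorem rootData_restrict_e_ne {H : Type*} [Group H] {P : Cfsg.BNPair H} (G' : Subgroup H) (hcov : Covers P G')
    (τ : H → H) (hτ : ∀ s ∈ P.S, τ s ∈ P.B ⊓ P.N) (hτG : ∀ s ∈ P.S, s * τ s ∈ G') {ι : Type*} (D : RootData P ι)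
    (hτT : ∀ i, τ (D.e i) ∈ D.T) (hX : ∀ i, D.X i ⊆ (G' : Set H))
    (hY : ∀ i, D.Y i ⊆ (G' : Set H)) (hU : D.U ≤ G') (i j : ι) (hne : (D.e i)⁻¹ * D.e j ∉ P.B) :
    (D.restrict G' hcov τ hτ hτG hτT hX hY hU).e i ≠ (D.restrict G' hcov τ hτ hτG hτT hX hY hU).e j := by
  intro h
  apply hne
  have h1 : D.e i * τ (D.e i) = D.e j * τ (D.e j) := congrArg (fun z : ↥G' => (z : H)) h
  rw [inv_mul_eq_of_twist _ _ _ _ h1]
  exact P.B.mul_mem (hτ _ (D.e_mem_S i)).1 (P.B.inv_mem (hτ _ (D.e_mem_S j)).1)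

/-- split data from root data -/
theorem spl_of_rootData {G : Type*} [Group G] {p : ℕ} {P : Cfsg.BNPair G} {ι : Type*} (D : RootData P ι)
    (hU : IsPGroup p ↥D.U) (hT : (Nat.card ↥D.T).Coprime p) : Spl p P D.T D.U where
  hTB := D.hTB
  hNT := D.hNT
  hUB := D.hUB
  hBTU := D.hBTU
  hUn := D.hUn
  hU := hU
  hTp := by
    intro t ht
    have h1 : orderOf (⟨t, ht⟩ : ↥D.T) ∣ Nat.card ↥D.T := orderOf_dvd_natCard _
    have h2 : orderOf (⟨t, ht⟩ : ↥D.T) = orderOf t := Subgroup.orderOf_mk t ht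
    rw [h2] at h1
    exact Nat.Coprime.coprime_dvd_left h1 hT

/-- **the leaf criterion for root data** -/
theorem pminBad_of_rootData_leaf {G K : Type*} [Group G] [Group K] [Finite K] {p : ℕ} [Fact p.Prime]
    {P : Cfsg.BNPair G} {ι : Type*} (D : RootData P ι) (hU : IsPGroup p ↥D.U) (hT : (Nat.card ↥D.T).Coprime p)
    (π : G →* K) (hπ : Function.Surjective π) (hker : π.ker = Subgroup.center G)
    (i₁ i₂ i₃ : ι) (h13 : D.e i₁ ≠ D.e i₃)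
    (hleaf : ∀ t : ι, t ≠ i₁ → t ≠ i₂ → D.e i₁ * D.e t * (D.e i₁)⁻¹ * (D.e t)⁻¹ ∈ P.B)
    (hn1 : D.e i₂ * D.e i₁ * (D.e i₂)⁻¹ * (D.e i₁)⁻¹ ∉ P.B)
    (hn3 : D.e i₂ * D.e i₃ * (D.e i₂)⁻¹ * (D.e i₃)⁻¹ ∉ P.B) : PMinBad p K := by
  have hker' : π.ker ≤ P.B := by
    rw [hker]
    exact D.center_le_B
  have h12 : D.e i₁ ≠ D.e i₂ := by
    intro h
    apply hn1
    rw [h]
    have e : D.e i₂ * D.e i₂ * (D.e i₂)⁻¹ * (D.e i₂)⁻¹ = 1 := by group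
    rw [e]
    exact P.B.one_mem
  apply pminBad_of_leaf (spl_of_rootData D hU hT) π hπ hker' (D.e i₁) (D.e i₂) (D.e i₃) (D.e_mem_S i₁) (D.e_mem_S i₂)
    (D.e_mem_S i₃) h12 h13
  · intro t ht ht1 ht2
    have ht' := ht
    rw [← D.hS] at ht'
    obtain ⟨j, rfl⟩ := ht'
    rw [eqv_comm_iff P _ _ (D.e_mem_S i₁) ht]
    apply hleaf j
    · intro h
      exact ht1 (by rw [h])
    · intro h
      exact ht2 (by rw [h])
  · rw [eqv_comm_iff P _ _ (D.e_mem_S i₂) (D.e_mem_S i₁)]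
    exact hn1
  · rw [eqv_comm_iff P _ _ (D.e_mem_S i₂) (D.e_mem_S i₃)]
    exact hn3

end Cfsg.Agent.Lib.H1.PM
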