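/-
S2937 (architect helper3), pre-build for the OMINUS piece (helper1): Coxeter relations "mod `B`" between the simple
reflections `sRefM j` of helper8's (B,N)-pair `minusBN` of `GM a b = O⁻_{2m+2}(F)`:
non-adjacent reflections commute exactly, adjacent ones do not commute modulo `BsM`.
-/
import Mathlib
import Cfsg.Agent.Lib.H8.MBNMain

set_option autoImplicit false
set_option linter.unusedSectionVars false
set_option linter.unusedVariables false

namespace Cfsg.Agent.Lib.H1.PM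

open Cfsg
open Matrix Cfsg.Agent.Lib.H12.DCos Cfsg.Agent.Lib.H8.MBN Cfsg.Agent.Lib.H8.MBNP

variable {F : Type*} [Field F] {m : ℕ} (a b : F)

/-- `τM i` fixes every index outside `{i, i+1, 2m-i, 2m+1-i}` -/
theorem τM_fix (i : Fin m) (k : Fin (2 * m + 2)) (h1 : (k : ℕ) ≠ i) (h2 : (k : ℕ) ≠ i + 1)
    (h3 : (k : ℕ) ≠ 2 * m - i) (h4 : (k : ℕ) ≠ 2 * m + 1 - i) : τM i k = k := by
  have hi2 := i.2
  have hk2 := k.2
  apply Fin.ext
  rw [τM_val]
  split_ifs <;> omega

/-- the value of `τM i k` is `k` or lies in `{i, i+1, 2m-i, 2m+1-i}` together with `k` -/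
theorem τM_mem (i : Fin m) (k : Fin (2 * m + 2))
    (hk : (k : ℕ) = i ∨ (k : ℕ) = i + 1 ∨ (k : ℕ) = 2 * m - i ∨ (k : ℕ) = 2 * m + 1 - i) :
    ((τM i k : Fin (2 * m + 2)) : ℕ) = i ∨ ((τM i k : Fin (2 * m + 2)) : ℕ) = i + 1 ∨
      ((τM i k : Fin (2 * m + 2)) : ℕ) = 2 * m - i ∨ ((τM i k : Fin (2 * m + 2)) : ℕ) = 2 * m + 1 - i := by
  have hi2 := i.2
  have hk2 := k.2
  rw [τM_val]
  split_ifs <;> omega

/-- non-adjacent simple reflections commute as permutations -/
theorem τM_comm (i j : Fin m) (h : (i : ℕ) + 2 ≤ j) : τM i * τM j = τM j * τM i := by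
  have hi2 := i.2
  have hj2 := j.2
  ext k
  have hk2 := k.2
  rw [Equiv.Perm.mul_apply, Equiv.Perm.mul_apply]
  by_cases hki : (k : ℕ) = i ∨ (k : ℕ) = i + 1 ∨ (k : ℕ) = 2 * m - i ∨ (k : ℕ) = 2 * m + 1 - i
  · -- `τM j` fixes `k` and `τM i k`
    have e1 : τM j k = k := by
      apply τM_fix <;> omega
    have hm := τM_mem i k hki
    have e2 : τM j (τM i k) = τM i k := by
      apply τM_fix <;> omega
    rw [e1, e2]
  · have e1 : τM i k = k := by
      apply τM_fix <;> omega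
    by_cases hkj : (k : ℕ) = j ∨ (k : ℕ) = j + 1 ∨ (k : ℕ) = 2 * m - j ∨ (k : ℕ) = 2 * m + 1 - j
    · have hm := τM_mem j k hkj
      have e2 : τM i (τM j k) = τM j k := by
        apply τM_fix <;> omega
      rw [e1, e2]
    · have e2 : τM j k = k := by
        apply τM_fix <;> omega
      rw [e1, e2, e1]

/-- non-adjacent simple reflections commute -/
theorem sRefM_comm (i j : Fin m) (h : (i : ℕ) + 2 ≤ j) :
    sRefM a b i * sRefM a b j = sRefM a b j * sRefM a b i := by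
  apply ext_val
  rw [val_mul, val_mul, sRefM_val, sRefM_val, ← wmat_mul, ← wmat_mul, τM_comm i j h]

/-- the commutator of two non-adjacent simple reflections is trivial -/
theorem sRefM_commutator_eq_one (i j : Fin m) (h : (i : ℕ) + 2 ≤ j ∨ (j : ℕ) + 2 ≤ i) :
    sRefM a b i * sRefM a b j * (sRefM a b i)⁻¹ * (sRefM a b j)⁻¹ = 1 := by
  rcases h with h | h
  · rw [sRefM_comm a b i j h, mul_assoc (sRefM a b j), mul_inv_cancel, mul_one, mul_inv_cancel]
  · rw [← sRefM_comm a b j i h, mul_assoc (sRefM a b j), mul_inv_cancel, mul_one, mul_inv_cancel]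

/-- the value of the commutator of two simple reflections -/
theorem sRefM_commutator_val (i j : Fin m) :
    ((sRefM a b i * sRefM a b j * (sRefM a b i)⁻¹ * (sRefM a b j)⁻¹).1 :
      Matrix (Fin (2 * m + 2)) (Fin (2 * m + 2)) F) = wmat F (τM i * τM j * τM i * τM j) := by
  rw [sRefM_inv, sRefM_inv, val_mul, val_mul, val_mul, sRefM_val, sRefM_val, ← wmat_mul, ← wmat_mul, ← wmat_mul]

/-- the image of `i` under `(τ_i τ_{i+1})²` has level `> i` -/
theorem lv_comm_image (i j : Fin m) (h : (j : ℕ) = i + 1) (hl : (i : ℕ) < 2 * m + 2) :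
    lv (⟨i, hl⟩ : Fin (2 * m + 2)) < lv ((τM i * τM j * τM i * τM j) ⟨i, hl⟩) := by
  have hi2 := i.2
  have hj2 := j.2
  rw [Equiv.Perm.mul_apply, Equiv.Perm.mul_apply, Equiv.Perm.mul_apply]
  have e1 : τM j ⟨i, hl⟩ = ⟨i, hl⟩ := by
    apply τM_fix <;> simp only [] <;> omega
  have e2 : ((τM i ⟨i, hl⟩ : Fin (2 * m + 2)) : ℕ) = i + 1 := by
    rw [τM_val]
    simp only []
    split_ifs <;> omega
  rw [e1]
  have e3 : ((τM j (τM i ⟨i, hl⟩) : Fin (2 * m + 2)) : ℕ) =
      if (j : ℕ) + 1 < m then (i : ℕ) + 2 else m + 2 := by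
    rw [τM_val, e2]
    split_ifs <;> omega
  have e4 : ((τM i (τM j (τM i ⟨i, hl⟩)) : Fin (2 * m + 2)) : ℕ) =
      if (j : ℕ) + 1 < m then (i : ℕ) + 2 else m + 3 := by
    rw [τM_val, e3]
    split_ifs <;> omega
  unfold lv
  rw [e4]
  simp only []
  split_ifs <;> omega

/-- adjacent simple reflections do not commute modulo `B` -/
theorem sRefM_commutator_not_mem_BsM (i j : Fin m) (h : (j : ℕ) = i + 1) :
    sRefM a b i * sRefM a b j * (sRefM a b i)⁻¹ * (sRefM a b j)⁻¹ ∉ BsM a b := by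
  have hi2 := i.2
  have hj2 := j.2
  intro hmem
  rw [mem_BsM, sRefM_commutator_val] at hmem
  have hl : (i : ℕ) < 2 * m + 2 := by omega
  have h1 := hmem ((τM i * τM j * τM i * τM j) ⟨i, hl⟩) ⟨i, hl⟩ (lv_comm_image i j h hl)
  rw [wmat_apply, if_pos rfl] at h1
  exact one_ne_zero h1

end Cfsg.Agent.Lib.H1.PM
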