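/-
S2937 (architect helper3), piece OMINUS (helper1): `PMinBad p (PΩ⁻_{2m+2}(F))`, `m ≥ 3`, `F` of characteristic `p`:
helper8's (B,N)-pair `minusBN` / root data `minusRootData` of `GM a b` restricted to `Ω = [GM, GM]` (exactly the data of
`Lib/H1/OGOMINUS`, S2936), with `U` a `p`-group, `|T|` prime to `p`, the quotient map onto `PΩ⁻` with kernel `Z(Ω)`, and
the Coxeter relations modulo `B` of the path `s_0 - s_1 - … - s_{m-1}` (leaf `s_0, s_1, s_2`), fed into helper3's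
`pminBad_of_leaf` through `Lib/H1/PMLEAF.pminBad_of_rootData_leaf`.
-/
import Mathlib
import Cfsg.Agent.Lib.H8.MBNOmega
import Cfsg.Agent.Lib.H1.SROMINUSa
import Cfsg.Agent.Lib.H1.PMOMINUSa
import Cfsg.Agent.Lib.H1.PMRES
import Cfsg.Agent.Lib.H1.PMLEAF

set_option autoImplicit false
set_option linter.unusedSectionVars false
set_option linter.unusedVariables false

namespace Cfsg.Agent.Lib.H1.PM

open Cfsg Cfsg.Agent.Lib.H3.PMin
open Matrix Cfsg.Agent.Lib.H12.DCos Cfsg.Agent.Lib.H8.BNRoot Cfsg.Agent.Lib.H8.BNRes Cfsg.Agent.Lib.H8.MBN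
open Cfsg.Agent.Lib.H8.MBNP Cfsg.Agent.Lib.H1.SR
open Cfsg.Agent.Lib.H13.OddSt (commutatorCongr)

/-- **OMINUS** (`m ≥ 3`: the form has dimension `2m + 2 ≥ 8`, rank `m ≥ 3`) -/
theorem pm_POmegaMinus (F : Type*) [Field F] [Fintype F] (p : ℕ) [Fact p.Prime] [CharP F p] (m : ℕ) (hm : 3 ≤ m)
    (a b : F) (hab : ∀ z₁ z₂ : F, z₁ ^ 2 + a * z₁ * z₂ + b * z₂ ^ 2 = 0 → z₁ = 0 ∧ z₂ = 0) :
    PMinBad p (POmega F (quadFormMinus m F a b)) := by
  classical
  have hpp : p.Prime := Fact.out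
  have h12 : Fintype.card F ≠ 2 ∨ m ≠ 1 := Or.inr (by omega)
  let P := minusBN (m := m) a b hab
  let D := minusRootData (m := m) a b hab
  let G' : Subgroup ↥(GM (m := m) a b) := commutator ↥(GM (m := m) a b)
  have covers' : ∀ h : ↥(GM (m := m) a b), ∃ t ∈ HsM (m := m) a b, h * t ∈ G' := covers_GM a b hab
  have hcov : Covers P G' := by
    intro h
    obtain ⟨t, ht, h'⟩ := covers' h
    exact ⟨t, ⟨HsM_le_BsM ht, HsM_le_NsM ht⟩, h'⟩
  choose τ hτ1 hτ2 using covers'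
  have hτ : ∀ s ∈ P.S, τ s ∈ P.B ⊓ P.N := fun s _ => ⟨HsM_le_BsM (hτ1 s), HsM_le_NsM (hτ1 s)⟩
  have hτG : ∀ s ∈ P.S, s * τ s ∈ G' := fun s _ => hτ2 s
  have hτT : ∀ i, τ (D.e i) ∈ D.T := fun i => hτ1 _
  have hUG : UsM (m := m) a b ≤ G' := UsM_le_commutator a b hab
  have hXG : ∀ i, D.X i ⊆ ((G' : Subgroup ↥(GM (m := m) a b)) : Set ↥(GM (m := m) a b)) :=
    fun i x hx => hUG (XM_subset_UsM i hx)
  have hYG : ∀ i, D.Y i ⊆ ((G' : Subgroup ↥(GM (m := m) a b)) : Set ↥(GM (m := m) a b)) :=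
    fun i y hy => YM_subset_commutator a b hab i y hy
  let D' := D.restrict G' hcov τ hτ hτG hτT hXG hYG hUG
  let P' := Cfsg.Agent.Lib.H8.BNRes.restrict P G' hcov τ hτ hτG
  have hU' : IsPGroup p ↥D'.U := by
    have h1 : IsPGroup p ↥(UsM (m := m) a b) := UsM_isPGroup a b p
    exact h1.of_injective (Subgroup.subgroupOfEquivOfLe hUG).toMonoidHom
      (Subgroup.subgroupOfEquivOfLe hUG).injective
  have hT' : (Nat.card ↥D'.T).Coprime p := by
    rw [Nat.coprime_comm, Nat.Prime.coprime_iff_not_dvd hpp]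
    intro hdvd
    have hT : D'.T = (HsM (m := m) a b).subgroupOf G' := rfl
    rw [hT] at hdvd
    have : Finite ↥((HsM (m := m) a b).subgroupOf G') := inferInstance
    obtain ⟨x, hx⟩ := exists_prime_orderOf_dvd_card' p hdvd
    have hx1 : x ^ p = 1 := by rw [← hx]; exact pow_orderOf_eq_one x
    have hxH : ((x : ↥G') : ↥(GM (m := m) a b)) ∈ HsM a b := Subgroup.mem_subgroupOf.mp x.2
    have hxΩ : ((x : ↥G') : ↥(GM (m := m) a b)) ∈ commutator ↥(GM (m := m) a b) := (x : ↥G').2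
    have hxp : ((x : ↥G') : ↥(GM (m := m) a b)) ^ p = 1 := by
      have := congrArg (fun z : ↥((HsM (m := m) a b).subgroupOf G') => ((z : ↥G') : ↥(GM (m := m) a b))) hx1
      simpa using this
    have h1 := eq_one_of_pow_p a b p hab h12 _ hxH hxΩ hxp
    have hx' : x = 1 := by
      apply Subtype.ext
      apply Subtype.ext
      exact h1
    rw [hx', orderOf_one] at hx
    exact hpp.one_lt.ne hx
  -- the quotient map
  let e := Cfsg.Agent.Lib.H8.BNSteinberg.centerQuotientCongr (commutatorCongr (isoM (m := m) a b))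
  let π : ↥G' →* POmega F (quadFormMinus m F a b) :=
    e.toMonoidHom.comp (QuotientGroup.mk' (Subgroup.center ↥G'))
  have hπ : Function.Surjective π := e.surjective.comp (QuotientGroup.mk'_surjective _)
  have hkerEq : π.ker = Subgroup.center ↥G' := by
    ext x
    rw [MonoidHom.mem_ker]
    constructor
    · intro h
      have h1 : e (QuotientGroup.mk' (Subgroup.center ↥G') x) = 1 := h
      have h2 : QuotientGroup.mk' (Subgroup.center ↥G') x = 1 := by
        rw [← map_one e] at h1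
        exact e.injective h1
      exact (QuotientGroup.eq_one_iff x).mp h2
    · intro h
      have h2 : QuotientGroup.mk' (Subgroup.center ↥G') x = 1 := (QuotientGroup.eq_one_iff x).mpr h
      show e (QuotientGroup.mk' (Subgroup.center ↥G') x) = 1
      rw [h2, map_one]
  -- Coxeter relations
  have hiff : ∀ i j : Fin m, D'.e i * D'.e j * (D'.e i)⁻¹ * (D'.e j)⁻¹ ∈ P'.B ↔
      sRefM a b i * sRefM a b j * (sRefM a b i)⁻¹ * (sRefM a b j)⁻¹ ∈ BsM (m := m) a b :=
    fun i j => rootData_restrict_commutator_mem_iff G' hcov τ hτ hτG D hτT hXG hYG hUG i j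
  have h02 : D'.e ⟨0, by omega⟩ ≠ D'.e ⟨2, by omega⟩ := by
    apply rootData_restrict_e_ne G' hcov τ hτ hτG D hτT hXG hYG hUG
    intro h2
    have h3 := Cfsg.Agent.Lib.H8.MBN.sRefM_inj a b _ _ h2
    have h4 := congrArg Fin.val h3
    simp only [] at h4
    omega
  have : Finite (POmega F (quadFormMinus m F a b)) := Finite.of_surjective π hπ
  apply pminBad_of_rootData_leaf D' hU' hT' π hπ hkerEq ⟨0, by omega⟩ ⟨1, by omega⟩ ⟨2, by omega⟩ h02
  · intro t ht0 ht1
    have ht0' : (t : ℕ) ≠ 0 := fun h => ht0 (Fin.ext h)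
    have ht1' : (t : ℕ) ≠ 1 := fun h => ht1 (Fin.ext h)
    rw [hiff, sRefM_commutator_eq_one a b _ t (Or.inl (by simp only []; omega))]
    exact Subgroup.one_mem _
  · rw [hiff]
    intro hmem
    exact sRefM_commutator_not_mem_BsM a b ⟨0, by omega⟩ ⟨1, by omega⟩ rfl ((commutator_mem_symm _ _ _).mp hmem)
  · rw [hiff]
    exact sRefM_commutator_not_mem_BsM a b ⟨1, by omega⟩ ⟨2, by omega⟩ rfl

end Cfsg.Agent.Lib.H1.PM
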