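/-
S2937 (architect helper3), pre-build for the OPLUS piece (helper1): Coxeter relations "mod `B`" between the simple
reflections `sD j` of helper25's (B,N)-pair of type `D_m` (`m = n/2 ≥ 4`): the end node `sD 0` commutes exactly with
every `sD t`, `t ≥ 2` (including the fork node), and `sD 1` does not commute with `sD 0`, `sD 2` modulo `Bo`.
-/
import Mathlib
import Cfsg.Agent.Lib.H25.DBNDefs
import Cfsg.Agent.Lib.H1.PMFLAG
import Cfsg.Agent.Lib.H1.PMRES

set_option autoImplicit false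
set_option linter.unusedSectionVars false
set_option linter.unusedVariables false

namespace Cfsg.Agent.Lib.H1.PM

open Cfsg
open Matrix Cfsg.Agent.Lib.H12.DCos Cfsg.Agent.Lib.H8.FBN Cfsg.Agent.Lib.H25.DBN

variable {F : Type*} [Field F] {n : ℕ}

/-- the end node commutes with every node `t ≥ 2` of the `D_m` diagram -/
theorem sD_zero_comm (h8 : 8 ≤ n) (t : Fin (n / 2)) (ht : 2 ≤ (t : ℕ)) :
    sD (F := F) (⟨0, by omega⟩ : Fin (n / 2)) * sD t = sD t * sD ⟨0, by omega⟩ := by
  have ht2 := t.2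
  have h0 : sD (F := F) (⟨0, by omega⟩ : Fin (n / 2)) = sRef (RingHom.id F) ⟨0, by omega⟩ :=
    sD_short (by simp only []; omega)
  rw [h0]
  by_cases hl : (t : ℕ) + 1 < n / 2
  · rw [sD_short hl]
    exact sRef_comm _ _ _ (by simp only []; omega)
  · rw [sD_last hl]
    have c1 : sRef (n := n) (RingHom.id F) ⟨0, by omega⟩ * sRef (RingHom.id F) t =
        sRef (RingHom.id F) t * sRef (RingHom.id F) ⟨0, by omega⟩ :=
      sRef_comm _ _ _ (by simp only []; omega)
    have c2 : sRef (n := n) (RingHom.id F) ⟨0, by omega⟩ * sRef (RingHom.id F) (pj t) =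
        sRef (RingHom.id F) (pj t) * sRef (RingHom.id F) ⟨0, by omega⟩ :=
      sRef_comm _ _ _ (by simp only [pj_val]; omega)
    have c3 : sRef (n := n) (RingHom.id F) ⟨0, by omega⟩ * (sRef (RingHom.id F) t)⁻¹ =
        (sRef (RingHom.id F) t)⁻¹ * sRef (RingHom.id F) ⟨0, by omega⟩ := by
      rw [sRef_inv]
      exact c1
    calc sRef (n := n) (RingHom.id F) ⟨0, by omega⟩ *
          (sRef (RingHom.id F) t * sRef (RingHom.id F) (pj t) * (sRef (RingHom.id F) t)⁻¹)
        = (sRef (n := n) (RingHom.id F) ⟨0, by omega⟩ * sRef (RingHom.id F) t) * sRef (RingHom.id F) (pj t) *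
            (sRef (RingHom.id F) t)⁻¹ := by group
      _ = sRef (RingHom.id F) t * (sRef (n := n) (RingHom.id F) ⟨0, by omega⟩ * sRef (RingHom.id F) (pj t)) *
            (sRef (RingHom.id F) t)⁻¹ := by rw [c1]; group
      _ = sRef (RingHom.id F) t * sRef (RingHom.id F) (pj t) *
            (sRef (n := n) (RingHom.id F) ⟨0, by omega⟩ * (sRef (RingHom.id F) t)⁻¹) := by rw [c2]; group
      _ = sRef (RingHom.id F) t * sRef (RingHom.id F) (pj t) * (sRef (RingHom.id F) t)⁻¹ *
            sRef (n := n) (RingHom.id F) ⟨0, by omega⟩ := by rw [c3]; group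

/-- the commutator of the end node with a node `t ≥ 2` is trivial -/
theorem sD_zero_commutator_eq_one (h8 : 8 ≤ n) (t : Fin (n / 2)) (ht : 2 ≤ (t : ℕ)) :
    sD (F := F) (⟨0, by omega⟩ : Fin (n / 2)) * sD t * (sD (F := F) (⟨0, by omega⟩ : Fin (n / 2)))⁻¹ * (sD t)⁻¹ = 1 := by
  rw [sD_zero_comm h8 t ht, mul_assoc (sD t), mul_inv_cancel, mul_one, mul_inv_cancel]

/-- adjacent nodes `i`, `i+1` of the `A`-part of the diagram do not commute modulo `Bo` -/
theorem sD_commutator_not_mem_Bo (i j : Fin (n / 2)) (h : (j : ℕ) = i + 1) (hj : (j : ℕ) + 1 < n / 2) :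
    sD (F := F) i * sD j * (sD i)⁻¹ * (sD j)⁻¹ ∉ (Bo : Subgroup (GA F n)) := by
  rw [sD_short hj, sD_short (j := i) (by omega)]
  intro hmem
  exact sRef_commutator_not_mem_Bs (RingHom.id F) i j h (Bo_le_Bs hmem)

/-- the same in the other order -/
theorem sD_commutator_not_mem_Bo' (i j : Fin (n / 2)) (h : (j : ℕ) = i + 1) (hj : (j : ℕ) + 1 < n / 2) :
    sD (F := F) j * sD i * (sD j)⁻¹ * (sD i)⁻¹ ∉ (Bo : Subgroup (GA F n)) := by
  intro hmem
  exact sD_commutator_not_mem_Bo i j h hj ((commutator_mem_symm _ _ _).mp hmem)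

end Cfsg.Agent.Lib.H1.PM
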