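/-
S2937 (architect helper3), piece OPLUS (helper1): `PMinBad p (PΩ⁺_{2m}(F))`, `m ≥ 4`, `F` of characteristic `p`:
helper25's (B,N)-pair of type `D_m` of `Hd ≤ GA F (2m)` with its root data, restricted to `Ω = ⁅GO, GO⁆` (exactly the data
of `Lib/H1/OGOPLUS`, S2936), with `U` a `p`-group, `|T|` prime to `p`, the quotient map onto `PΩ⁺` with kernel `Z(Ω)`, and
the Coxeter relations modulo `B` at the end node `s_0` of the `D_m` diagram (`s_0` commutes with all `s_t`, `t ≥ 2`;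
`s_1` commutes neither with `s_0` nor with `s_2`), fed into helper3's `pminBad_of_leaf` through
`Lib/H1/PMLEAF.pminBad_of_rootData_leaf`.
-/
import Mathlib
import Cfsg.Agent.Lib.H25.DBNFinal
import Cfsg.Agent.Lib.H1.OGOPLUSa
import Cfsg.Agent.Lib.H1.PMOPLUSa
import Cfsg.Agent.Lib.H1.PMRES
import Cfsg.Agent.Lib.H1.PMLEAF

set_option autoImplicit false
set_option linter.unusedSectionVars false
set_option linter.unusedVariables false

namespace Cfsg.Agent.Lib.H1.PM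

open Cfsg Cfsg.Agent.Lib.H3.PMin
open Matrix Cfsg.Agent.Lib.H12.DCos Cfsg.Agent.Lib.H8.FBN Cfsg.Agent.Lib.H8.BNRoot
  Cfsg.Agent.Lib.H8.BNRes Cfsg.Agent.Lib.H8.BNSteinberg Cfsg.Agent.Lib.H25.SubBN Cfsg.Agent.Lib.H25.DBN
open Cfsg.Agent.Lib.H6.FBN (Us_isPGroup card_Ts_coprime)

/-- **OPLUS for `Ω / Z(Ω)`**, `Ω = ⁅GO, GO⁆` in flag coordinates -/
theorem pm_OmA {F : Type*} [Field F] [Fintype F] {n : ℕ} (hn : n % 2 = 0) (h8 : 8 ≤ n) (p : ℕ) [Fact p.Prime]
    [CharP F p] :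
    PMinBad p (↥(OmA : Subgroup (GA F n)) ⧸ Subgroup.center ↥(OmA : Subgroup (GA F n))) := by
  classical
  have hpp : p.Prime := Fact.out
  have h4 : 4 ≤ n := by omega
  have h6 : 6 ≤ n := by omega
  let PA := ambBN (F := F) hn h4
  let DA := ambRoot (F := F) hn h4
  let P := PA.toBN
  let D := DA.toRootData
  have hGd : PA.G = Hd := rfl
  let G' : Subgroup ↥PA.G := (OmA : Subgroup (GA F n)).subgroupOf PA.G
  have hcovA : ∀ h : ↥PA.G, ∃ t : ↥PA.G, (t : GA F n) ∈ Ts (RingHom.id F) ∧ h * t ∈ G' := by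
    intro h
    obtain ⟨t, ht, h1⟩ := covers_D hn h6 (h : GA F n) h.2
    exact ⟨⟨t, PA.B_le (Ts_le_Bo hn ht)⟩, ht, Subgroup.mem_subgroupOf.mpr h1⟩
  have hTBN : ∀ t : ↥PA.G, (t : GA F n) ∈ Ts (RingHom.id F) → t ∈ P.B ⊓ P.N := by
    intro t ht
    exact ⟨(AmbBN.mem_toBN_B PA t).mpr (Ts_le_Bo hn ht), (AmbBN.mem_toBN_N PA t).mpr (Ts_le_Nd ht)⟩
  have hcov : Covers P G' := by
    intro h
    obtain ⟨t, ht, h'⟩ := hcovA h
    exact ⟨t, hTBN t ht, h'⟩
  choose τ hτ1 hτ2 using hcovA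
  have hτ : ∀ s ∈ P.S, τ s ∈ P.B ⊓ P.N := fun s _ => hTBN _ (hτ1 s)
  have hτG : ∀ s ∈ P.S, s * τ s ∈ G' := fun s _ => hτ2 s
  have hτT : ∀ i, τ (D.e i) ∈ D.T := fun i => Subgroup.mem_subgroupOf.mpr (hτ1 _)
  have hUG : D.U ≤ G' := by
    intro u hu
    have hu' : (u : GA F n) ∈ Uo := Subgroup.mem_subgroupOf.mp hu
    exact Subgroup.mem_subgroupOf.mpr (Uo_le_OmA hn h6 hu')
  have hXG : ∀ i, D.X i ⊆ ((G' : Subgroup ↥PA.G) : Set ↥PA.G) := by
    intro i x hx
    exact Subgroup.mem_subgroupOf.mpr (XD_subset_OmA hn h6 i _ hx)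
  have hYG : ∀ i, D.Y i ⊆ ((G' : Subgroup ↥PA.G) : Set ↥PA.G) := by
    intro i y hy
    exact Subgroup.mem_subgroupOf.mpr (YD_subset_OmA hn h6 i _ hy)
  let D' := D.restrict G' hcov τ hτ hτG hτT hXG hYG hUG
  let P' := Cfsg.Agent.Lib.H8.BNRes.restrict P G' hcov τ hτ hτG
  -- injections into `Us`, `Ts`
  let fU : ↥D'.U →* ↥(Us (n := n) (RingHom.id F)) :=
    { toFun := fun x => ⟨(((x : ↥G') : ↥PA.G) : GA F n), by
        have h1 : ((x : ↥G') : ↥PA.G) ∈ D.U := Subgroup.mem_subgroupOf.mp x.2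
        have h2 : (((x : ↥G') : ↥PA.G) : GA F n) ∈ Uo := Subgroup.mem_subgroupOf.mp h1
        exact h2.1⟩
      map_one' := rfl
      map_mul' := fun _ _ => rfl }
  have hfU : Function.Injective fU := by
    intro x y h
    apply Subtype.ext
    apply Subtype.ext
    apply Subtype.ext
    exact congrArg (fun z : ↥(Us (n := n) (RingHom.id F)) => (z : GA F n)) h
  let fT : ↥D'.T →* ↥(Ts (n := n) (RingHom.id F)) :=
    { toFun := fun x => ⟨(((x : ↥G') : ↥PA.G) : GA F n), by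
        have h1 : ((x : ↥G') : ↥PA.G) ∈ D.T := Subgroup.mem_subgroupOf.mp x.2
        exact Subgroup.mem_subgroupOf.mp h1⟩
      map_one' := rfl
      map_mul' := fun _ _ => rfl }
  have hfT : Function.Injective fT := by
    intro x y h
    apply Subtype.ext
    apply Subtype.ext
    apply Subtype.ext
    exact congrArg (fun z : ↥(Ts (n := n) (RingHom.id F)) => (z : GA F n)) h
  have hU' : IsPGroup p ↥D'.U := (Us_isPGroup (n := n) (RingHom.id F) p).of_injective fU hfU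
  have hT' : (Nat.card ↥D'.T).Coprime p :=
    Nat.Coprime.coprime_dvd_left (Subgroup.card_dvd_of_injective fT hfT) (card_Ts_coprime (n := n) (RingHom.id F) p)
  -- the quotient map
  have hle : (OmA : Subgroup (GA F n)) ≤ PA.G := OmA_le_Hd hn h4
  let e₀ : ↥G' ≃* ↥(OmA : Subgroup (GA F n)) := Subgroup.subgroupOfEquivOfLe hle
  let e := Cfsg.Agent.Lib.H8.BNSteinberg.centerQuotientCongr e₀
  let π : ↥G' →* (↥(OmA : Subgroup (GA F n)) ⧸ Subgroup.center ↥(OmA : Subgroup (GA F n))) :=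
    e.toMonoidHom.comp (QuotientGroup.mk' (Subgroup.center ↥G'))
  have hπ : Function.Surjective π := e.surjective.comp (QuotientGroup.mk'_surjective _)
  have hkerEq : π.ker = Subgroup.center ↥G' := by
    ext x
    rw [MonoidHom.mem_ker]
    constructor
    · intro h
      have h1 : e (QuotientGroup.mk' (Subgroup.center ↥G') x) = 1 := h
      have h2 : QuotientGroup.mk' (Subgroup.center ↥G') x = 1 := by
        rw [← map_one e] at h1
        exact e.injective h1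
      exact (QuotientGroup.eq_one_iff x).mp h2
    · intro h
      have h2 : QuotientGroup.mk' (Subgroup.center ↥G') x = 1 := (QuotientGroup.eq_one_iff x).mpr h
      show e (QuotientGroup.mk' (Subgroup.center ↥G') x) = 1
      rw [h2, map_one]
  -- Coxeter relations
  have hiff : ∀ i j : Fin (n / 2), D'.e i * D'.e j * (D'.e i)⁻¹ * (D'.e j)⁻¹ ∈ P'.B ↔
      sD (F := F) i * sD j * (sD i)⁻¹ * (sD j)⁻¹ ∈ (Bo : Subgroup (GA F n)) := by
    intro i j
    rw [rootData_restrict_commutator_mem_iff G' hcov τ hτ hτG D hτT hXG hYG hUG i j]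
    exact AmbBN.mem_toBN_B PA _
  have h02 : D'.e ⟨0, by omega⟩ ≠ D'.e ⟨2, by omega⟩ := by
    apply rootData_restrict_e_ne G' hcov τ hτ hτG D hτT hXG hYG hUG
    intro h2
    have h3 : (sD (F := F) (⟨0, by omega⟩ : Fin (n / 2)))⁻¹ * sD (⟨2, by omega⟩ : Fin (n / 2)) ∈
        (Bo : Subgroup (GA F n)) := (AmbBN.mem_toBN_B PA _).mp h2
    rw [sD_short (j := (⟨0, by omega⟩ : Fin (n / 2))) (by simp only []; omega),
      sD_short (j := (⟨2, by omega⟩ : Fin (n / 2))) (by simp only []; omega)] at h3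
    have h4 := Cfsg.Agent.Lib.H24.FBN.sRef_inj (RingHom.id F) _ _ (Bo_le_Bs h3)
    have h5 := congrArg Fin.val h4
    simp only [] at h5
    omega
  apply pminBad_of_rootData_leaf D' hU' hT' π hπ hkerEq ⟨0, by omega⟩ ⟨1, by omega⟩ ⟨2, by omega⟩ h02
  · intro t ht0 ht1
    have ht0' : (t : ℕ) ≠ 0 := fun h => ht0 (Fin.ext h)
    have ht1' : (t : ℕ) ≠ 1 := fun h => ht1 (Fin.ext h)
    rw [hiff, sD_zero_commutator_eq_one h8 t (by omega)]
    exact Subgroup.one_mem _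
  · rw [hiff]
    exact sD_commutator_not_mem_Bo' ⟨0, by omega⟩ ⟨1, by omega⟩ rfl (by simp only []; omega)
  · rw [hiff]
    exact sD_commutator_not_mem_Bo ⟨1, by omega⟩ ⟨2, by omega⟩ rfl (by simp only []; omega)

/-- **OPLUS**: rank `m ≥ 4` (type `D_m`) -/
theorem pm_POmegaPlus (F : Type*) [Field F] [Fintype F] (p : ℕ) [Fact p.Prime] [CharP F p] (m : ℕ) (hm : 4 ≤ m) :
    PMinBad p (POmega F (quadFormPlus m F)) := by
  obtain ⟨ψ⟩ := Cfsg.Agent.Lib.H25.DBNP.nonempty_iso_plus (F := F) m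
  let e : (↥(OmA : Subgroup (GA F (2 * m))) ⧸ Subgroup.center ↥(OmA : Subgroup (GA F (2 * m)))) ≃*
      POmega F (quadFormPlus m F) :=
    Cfsg.Agent.Lib.H8.BNSteinberg.centerQuotientCongr
      (OmAEquiv.trans (Cfsg.Agent.Lib.H11.OmegaSimple.commutatorCongr ψ))
  exact PMinBad.of_mulEquiv p e (pm_OmA (F := F) (n := 2 * m) (by omega) (by omega) p)

end Cfsg.Agent.Lib.H1.PM
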