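/-
S2937 (architect helper3), pieces PSP + PSP4T (helper1, twin of helper8): `PMinBad p (PSp m F)` (`m ≥ 2`, not `m = 2 = p`) and
`PMinR2 2 (PSp 2 F)` in characteristic two.  helper8's (B,N)-pair `spBN` of `Sp_{2m}(F)` with the split data of
`Lib/H18/OGPSP` (S2936): `T = Tsp`, `U = spU`.  The simple reflections are monomial matrices with explicit permutations
(`sShort_mono`, `sLong_mono`); a monomial matrix in `B` has the trivial permutation.  Leaf at the long end of the diagram:
`s₁ = s_m` (long), `s₂ = s_{m-1}`, `s₃ = s_{m-2}`.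
-/
import Mathlib
import Cfsg.Prelude.Def_Classical
import Cfsg.Agent.Lib.H3.PMinBN
import Cfsg.Agent.Lib.H18.OGPSP

set_option autoImplicit false
set_option linter.unusedSectionVars false
set_option linter.unusedVariables false

namespace Cfsg.Agent.Lib.H1.PM

open Cfsg Cfsg.Agent.Lib.H3.PMin Cfsg.Agent.Lib.H2.BN
open Matrix Cfsg.Agent.Lib.H12.LS2 Cfsg.Agent.Lib.H5.LS2 Cfsg.Agent.Lib.H11.SpU
open Cfsg.Agent.Lib.H8.SpBN Cfsg.Agent.Lib.H8.OG Cfsg.Agent.Lib.H18.OG

section mono

variable {F : Type*} [Field F] {m : ℕ}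

/-- monomial with permutation `π`: column `l` is supported in row `π l` -/
def HasP (g : Sp (m + 1) F) (π : Equiv.Perm (Fin (m + 1) ⊕ Fin (m + 1))) : Prop :=
  ∀ k l, k ≠ π l → g.1 k l = 0

theorem HasP.mul {g h : Sp (m + 1) F} {π ρ : Equiv.Perm (Fin (m + 1) ⊕ Fin (m + 1))} (hg : HasP g π)
    (hh : HasP h ρ) : HasP (g * h) (π * ρ) := by
  intro k l hkl
  rw [Submonoid.coe_mul, Matrix.mul_apply]
  apply Finset.sum_eq_zero
  intro j _
  by_cases hj : j = ρ l
  · subst hj
    rw [hg k (ρ l) hkl, zero_mul]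
  · rw [hh j l hj, mul_zero]

theorem HasP.apply_eq_of_mem_Bsp {g : Sp (m + 1) F} {π : Equiv.Perm (Fin (m + 1) ⊕ Fin (m + 1))} (hg : HasP g π)
    (hB : g ∈ Bsp m F) (l : Fin (m + 1) ⊕ Fin (m + 1)) : π l = l := by
  apply perm_eq_one_of_rk_le π
  intro l
  by_contra hlt
  push Not at hlt
  exact mono_entry_ne_zero g π hg l (hB.1 hlt)

theorem hasP_of_mem_Tsp {t : Sp (m + 1) F} (ht : t ∈ Tsp m F) : HasP t 1 := fun k l hkl => ht.1 k l hkl

theorem mem_Bsp_of_hasP_one {g : Sp (m + 1) F} (hg : HasP g 1) : g ∈ Bsp m F :=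
  Tsp_le_Bsp (mem_Tsp_iff.mpr fun k l hkl => hg k l hkl)

/-- the permutation of a short reflection -/
def σS (j : Fin m) : Equiv.Perm (Fin (m + 1) ⊕ Fin (m + 1)) :=
  Equiv.sumCongr (Equiv.swap j.castSucc j.succ) (Equiv.swap j.castSucc j.succ)

/-- the permutation of the long reflection -/
def σL (m : ℕ) : Equiv.Perm (Fin (m + 1) ⊕ Fin (m + 1)) :=
  Equiv.swap (Sum.inl (Fin.last m)) (Sum.inr (Fin.last m))

theorem hasP_sShort (j : Fin m) : HasP (sShort j : Sp (m + 1) F) (σS j) := fun k l hkl => sShort_mono j k l hkl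

theorem hasP_sLong : HasP (sLong m F : Sp (m + 1) F) (σL m) := fun k l hkl => sLong_mono k l hkl

theorem sShort_inv (j : Fin m) : (sShort j : Sp (m + 1) F)⁻¹ = sShort j :=
  inv_eq_of_mul_eq_one_left (sShort_mul_self j)

theorem hasP_sShort_inv (j : Fin m) : HasP (sShort j : Sp (m + 1) F)⁻¹ (σS j) := by
  rw [sShort_inv]
  exact hasP_sShort j

theorem hasP_sLong_inv : HasP (sLong m F : Sp (m + 1) F)⁻¹ (σL m) := by
  have h1 : (sLong m F * sLong m F : Sp (m + 1) F) ∈ Tsp m F := by
    have := sRef_sq_mem (F := F) (Fin.last m)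
    rwa [sRef_last] at this
  have e : (sLong m F : Sp (m + 1) F)⁻¹ = sLong m F * (sLong m F * sLong m F)⁻¹ := by group
  rw [e]
  have h2 := hasP_sLong.mul (hasP_of_mem_Tsp ((Tsp m F).inv_mem h1))
  rwa [mul_one] at h2

theorem σS_inl (j : Fin m) (x : Fin (m + 1)) : σS j (Sum.inl x) = Sum.inl (Equiv.swap j.castSucc j.succ x) := rfl

theorem σS_inr (j : Fin m) (x : Fin (m + 1)) : σS j (Sum.inr x) = Sum.inr (Equiv.swap j.castSucc j.succ x) := rfl

/-- the long reflection commutes with the short reflections not involving the last coordinate, modulo `B` -/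
theorem eqv_sLong_sShort (t : Fin m) (ht : (t : ℕ) + 1 < m) :
    (sLong m F * sShort t : Sp (m + 1) F)⁻¹ * (sShort t * sLong m F) ∈ Bsp m F := by
  have hP : HasP ((sLong m F * sShort t : Sp (m + 1) F)⁻¹ * (sShort t * sLong m F))
      (σS t * σL m * (σS t * σL m)) := by
    rw [_root_.mul_inv_rev]
    exact ((hasP_sShort_inv t).mul hasP_sLong_inv).mul ((hasP_sShort t).mul hasP_sLong)
  have hone : σS t * σL m * (σS t * σL m) = 1 := by
    have hne1 : t.castSucc ≠ Fin.last m := by
      intro h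
      have := congrArg Fin.val h
      simp only [Fin.val_castSucc, Fin.val_last] at this
      omega
    have hne2 : t.succ ≠ Fin.last m := by
      intro h
      have := congrArg Fin.val h
      simp only [Fin.val_succ, Fin.val_last] at this
      omega
    have hsw : Equiv.swap t.castSucc t.succ (Fin.last m) = Fin.last m :=
      Equiv.swap_apply_of_ne_of_ne hne1.symm hne2.symm
    have hswne : ∀ x : Fin (m + 1), x ≠ Fin.last m → Equiv.swap t.castSucc t.succ x ≠ Fin.last m := by
      intro x hx h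
      apply hx
      have := congrArg (Equiv.swap t.castSucc t.succ) h
      rwa [Equiv.swap_apply_self, hsw] at this
    ext l : 1
    rw [Equiv.Perm.mul_apply, Equiv.Perm.mul_apply, Equiv.Perm.mul_apply, Equiv.Perm.one_apply]
    rcases l with x | x
    · by_cases hx : x = Fin.last m
      · subst hx
        have e1 : σL m (Sum.inl (Fin.last m)) = Sum.inr (Fin.last m) := Equiv.swap_apply_left _ _
        have e2 : σL m (Sum.inr (Fin.last m)) = Sum.inl (Fin.last m) := Equiv.swap_apply_right _ _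
        rw [e1, σS_inr, hsw, e2, σS_inl, hsw]
      · have e1 : σL m (Sum.inl x) = Sum.inl x :=
          Equiv.swap_apply_of_ne_of_ne (fun h => hx (Sum.inl.inj h)) (by simp)
        have e2 : σL m (Sum.inl (Equiv.swap t.castSucc t.succ x)) = Sum.inl (Equiv.swap t.castSucc t.succ x) :=
          Equiv.swap_apply_of_ne_of_ne (fun h => hswne x hx (Sum.inl.inj h)) (by simp)
        rw [e1, σS_inl, e2, σS_inl, Equiv.swap_apply_self]
    · by_cases hx : x = Fin.last m
      · subst hx
        have e1 : σL m (Sum.inl (Fin.last m)) = Sum.inr (Fin.last m) := Equiv.swap_apply_left _ _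
        have e2 : σL m (Sum.inr (Fin.last m)) = Sum.inl (Fin.last m) := Equiv.swap_apply_right _ _
        rw [e2, σS_inl, hsw, e1, σS_inr, hsw]
      · have e1 : σL m (Sum.inr x) = Sum.inr x :=
          Equiv.swap_apply_of_ne_of_ne (by simp) (fun h => hx (Sum.inr.inj h))
        have e2 : σL m (Sum.inr (Equiv.swap t.castSucc t.succ x)) = Sum.inr (Equiv.swap t.castSucc t.succ x) :=
          Equiv.swap_apply_of_ne_of_ne (by simp) (fun h => hswne x hx (Sum.inr.inj h))
        rw [e1, σS_inr, e2, σS_inr, Equiv.swap_apply_self]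
  rw [hone] at hP
  exact mem_Bsp_of_hasP_one hP

/-- the last short reflection does not commute with the long one modulo `B` -/
theorem not_eqv_sShort_sLong (j : Fin m) (hj : (j : ℕ) + 1 = m) :
    (sShort j * sLong m F : Sp (m + 1) F)⁻¹ * (sLong m F * sShort j) ∉ Bsp m F := by
  intro hB
  have hP : HasP ((sShort j * sLong m F : Sp (m + 1) F)⁻¹ * (sLong m F * sShort j))
      (σL m * σS j * (σL m * σS j)) := by
    rw [_root_.mul_inv_rev]
    exact (hasP_sLong_inv.mul (hasP_sShort_inv j)).mul (hasP_sLong.mul (hasP_sShort j))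
  have h1 := hP.apply_eq_of_mem_Bsp hB (Sum.inl (Fin.last m))
  have hsucc : j.succ = Fin.last m := by
    apply Fin.ext
    simp only [Fin.val_succ, Fin.val_last]
    exact hj
  have hne : j.castSucc ≠ Fin.last m := by
    intro h
    have := congrArg Fin.val h
    simp only [Fin.val_castSucc, Fin.val_last] at this
    omega
  rw [Equiv.Perm.mul_apply, Equiv.Perm.mul_apply, Equiv.Perm.mul_apply] at h1
  have e1 : σS j (Sum.inl (Fin.last m)) = Sum.inl j.castSucc := by
    rw [σS_inl, ← hsucc, Equiv.swap_apply_right]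
  have e2 : σL m (Sum.inl j.castSucc) = Sum.inl j.castSucc :=
    Equiv.swap_apply_of_ne_of_ne (fun h => hne (Sum.inl.inj h)) (by simp)
  have e3 : σS j (Sum.inl j.castSucc) = Sum.inl (Fin.last m) := by
    rw [σS_inl, Equiv.swap_apply_left, hsucc]
  have e4 : σL m (Sum.inl (Fin.last m)) = Sum.inr (Fin.last m) := Equiv.swap_apply_left _ _
  rw [e1, e2, e3, e4] at h1
  exact absurd h1 (by simp)

/-- adjacent short reflections do not commute modulo `B` -/
theorem not_eqv_sShort_sShort (i j : Fin m) (hij : (j : ℕ) = i + 1) :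
    (sShort j * sShort i : Sp (m + 1) F)⁻¹ * (sShort i * sShort j) ∉ Bsp m F := by
  intro hB
  have hP : HasP ((sShort j * sShort i : Sp (m + 1) F)⁻¹ * (sShort i * sShort j))
      (σS i * σS j * (σS i * σS j)) := by
    rw [_root_.mul_inv_rev]
    exact ((hasP_sShort_inv i).mul (hasP_sShort_inv j)).mul ((hasP_sShort i).mul (hasP_sShort j))
  have h1 := hP.apply_eq_of_mem_Bsp hB (Sum.inl j.succ)
  have hi2 := i.2
  have hj2 := j.2
  have hjc : j.castSucc = i.succ := by
    apply Fin.ext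
    simp only [Fin.val_succ, Fin.val_castSucc]
    exact hij
  have hne1 : i.castSucc ≠ j.castSucc := by
    intro h
    have := congrArg Fin.val h
    simp only [Fin.val_castSucc] at this
    omega
  have hne2 : i.castSucc ≠ j.succ := by
    intro h
    have := congrArg Fin.val h
    simp only [Fin.val_castSucc, Fin.val_succ] at this
    omega
  have hne3 : i.succ ≠ j.succ := by
    intro h
    have := congrArg Fin.val h
    simp only [Fin.val_succ] at this
    omega
  rw [Equiv.Perm.mul_apply, Equiv.Perm.mul_apply, Equiv.Perm.mul_apply] at h1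
  have e1 : σS j (Sum.inl j.succ) = Sum.inl i.succ := by
    rw [σS_inl, Equiv.swap_apply_right, hjc]
  have e2 : σS i (Sum.inl i.succ) = Sum.inl i.castSucc := by
    rw [σS_inl, Equiv.swap_apply_right]
  have e3 : σS j (Sum.inl i.castSucc) = Sum.inl i.castSucc := by
    rw [σS_inl, Equiv.swap_apply_of_ne_of_ne hne1 hne2]
  have e4 : σS i (Sum.inl i.castSucc) = Sum.inl i.succ := by
    rw [σS_inl, Equiv.swap_apply_left]
  rw [e1, e2, e3, e4] at h1
  exact hne3 (Sum.inl.inj h1)

end mono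

section fin

variable (F : Type*) [Field F] [Fintype F] (p : ℕ) [Fact p.Prime] [CharP F p]

/-- the split data of `Sp_{2(m+1)}(F)` -/
theorem spSpl (m : ℕ) : Spl p (spBN m F) (Tsp m F) (spU m F) where
  hTB := Tsp_le_Bsp
  hNT := by
    intro n hn t ht
    have := Msp_conj_Tsp n⁻¹ t ((Msp m F).inv_mem (Nsp_le_Msp hn)) ht
    rwa [inv_inv] at this
  hUB := spU_le_Bsp
  hBTU := Bsp_eq_Tsp_mul_spU
  hUn := by
    intro b hb u hu
    have hb' : b⁻¹ ∈ levP (spφ m F) (rk m) := by
      rw [levP_rk]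
      exact (Bsp m F).inv_mem hb
    have := conj_mem_levQ (spφ m F) (rk m) hb' hu
    rwa [inv_inv] at this
  hU := levQ_isPGroup (spφ m F) (rk m) spφ_injective p
  hTp := by
    intro t ht
    have hp : p.Prime := Fact.out
    have h0 : orderOf (⟨t, ht⟩ : ↥(Tsp m F)) ∣ Nat.card ↥(Tsp m F) := orderOf_dvd_natCard _
    rw [Subgroup.orderOf_mk, Cfsg.Agent.Lib.H27.SpBN.card_Tsp] at h0
    apply Nat.Coprime.coprime_dvd_left h0
    apply Nat.Coprime.pow_left
    rw [Nat.card_units, Nat.card_eq_fintype_card]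
    obtain ⟨n, -, hn⟩ := FiniteField.card F p
    rw [Nat.coprime_comm, Nat.Prime.coprime_iff_not_dvd hp]
    intro hdvd
    have h2 : p ∣ Fintype.card F := by
      rw [hn]
      exact dvd_pow_self p n.ne_zero
    have h3 : 0 < Fintype.card F := Fintype.card_pos
    have h4 : p ∣ 1 := by
      have := (Nat.dvd_sub h2 hdvd)
      have e : Fintype.card F - (Fintype.card F - 1) = 1 := by omega
      rwa [e] at this
    exact hp.one_lt.ne' (Nat.dvd_one.mp h4)

theorem ker_mk_le_Bsp (m : ℕ) :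
    (QuotientGroup.mk' (Subgroup.center (Sp (m + 1) F))).ker ≤ (spBN m F).B := by
  rw [QuotientGroup.ker_mk']
  exact center_le_Tsp.trans Tsp_le_Bsp

/-- the two simple reflections of `Sp₄` -/
theorem spS_two : (spBN 1 F).S = {(sRef (0 : Fin 2) : Sp (1 + 1) F), sRef (1 : Fin 2)} := by
  rw [spBN_S]
  ext g
  constructor
  · rintro ⟨i, rfl⟩
    fin_cases i
    · exact Set.mem_insert _ _
    · exact Set.mem_insert_of_mem _ rfl
  · intro hg
    rcases hg with rfl | rfl
    · exact ⟨0, rfl⟩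
    · exact ⟨1, rfl⟩

theorem sRef_zero_ne_one : (sRef (0 : Fin 2) : Sp (1 + 1) F) ≠ sRef (1 : Fin 2) := by
  intro h
  have h1 : (sRef (0 : Fin 2) : Sp (1 + 1) F)⁻¹ * sRef (1 : Fin 2) ∈ Bsp 1 F := by
    rw [h, inv_mul_cancel]
    exact (Bsp 1 F).one_mem
  have := sRef_inj (0 : Fin 2) 1 h1
  exact absurd this (by decide)

/-- **PSP4T**: `PSp₄(2ᵉ)`, `e ≥ 2` -/
theorem pm_PSp4_two (F : Type*) [Field F] [Fintype F] [CharP F 2] (h4 : 4 ≤ Fintype.card F) :
    PMinR2 2 (PSp 2 F) :=
  pminR2_of_bn (spSpl F 2 1) (QuotientGroup.mk' (Subgroup.center (Sp (1 + 1) F))) (QuotientGroup.mk'_surjective _)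
    (ker_mk_le_Bsp F 1) _ _ (sRef_zero_ne_one F) (spS_two F)

/-- **PSP**: rank `m ≥ 2`, not (`m = 2`, `p = 2`) -/
theorem pm_PSp (F : Type*) [Field F] [Fintype F] (p : ℕ) [Fact p.Prime] [CharP F p] (m : ℕ) (hm : 2 ≤ m)
    (h2 : m = 2 → 3 ≤ Fintype.card F) (h22 : ¬ (m = 2 ∧ p = 2)) : PMinBad p (PSp m F) := by
  obtain ⟨m', rfl⟩ : ∃ m', m = m' + 1 := ⟨m - 1, by omega⟩
  by_cases hm1 : m' = 1
  · subst hm1
    have hp : p ≠ 2 := fun h => h22 ⟨rfl, h⟩
    exact pminBad_of_rank_two_odd (spSpl F p 1) (QuotientGroup.mk' (Subgroup.center (Sp (1 + 1) F)))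
      (QuotientGroup.mk'_surjective _) (ker_mk_le_Bsp F 1) _ _ (sRef_zero_ne_one F) (spS_two F) hp
  · -- rank at least three: the leaf at the long end
    have hm2 : 2 ≤ m' := by omega
    obtain ⟨k, rfl⟩ : ∃ k, m' = k + 2 := ⟨m' - 2, by omega⟩
    -- `j` = the last short node, `i` the one before
    let j : Fin (k + 2) := ⟨k + 1, by omega⟩
    let i : Fin (k + 2) := ⟨k, by omega⟩
    have hs1 : (sRef (Fin.last (k + 2)) : Sp (k + 2 + 1) F) = sLong (k + 2) F := sRef_last
    have hs2 : (sRef j.castSucc : Sp (k + 2 + 1) F) = sShort j := sRef_castSucc j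
    have hs3 : (sRef i.castSucc : Sp (k + 2 + 1) F) = sShort i := sRef_castSucc i
    have hne13 : (sRef (Fin.last (k + 2)) : Sp (k + 2 + 1) F) ≠ sRef i.castSucc := by
      intro h
      have h1 : (sRef (Fin.last (k + 2)) : Sp (k + 2 + 1) F)⁻¹ * sRef i.castSucc ∈ Bsp (k + 2) F := by
        rw [← h, inv_mul_cancel]
        exact (Bsp (k + 2) F).one_mem
      have h3 := congrArg Fin.val (sRef_inj _ _ h1)
      simp only [Fin.val_last, Fin.val_castSucc, i] at h3
      omega
    have hne12 : (sRef (Fin.last (k + 2)) : Sp (k + 2 + 1) F) ≠ sRef j.castSucc := by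
      intro h
      have h1 : (sRef (Fin.last (k + 2)) : Sp (k + 2 + 1) F)⁻¹ * sRef j.castSucc ∈ Bsp (k + 2) F := by
        rw [← h, inv_mul_cancel]
        exact (Bsp (k + 2) F).one_mem
      have h3 := congrArg Fin.val (sRef_inj _ _ h1)
      simp only [Fin.val_last, Fin.val_castSucc, j] at h3
      omega
    apply pminBad_of_leaf (spSpl F p (k + 2)) (QuotientGroup.mk' (Subgroup.center (Sp (k + 2 + 1) F)))
      (QuotientGroup.mk'_surjective _) (ker_mk_le_Bsp F (k + 2))
      (sRef (Fin.last (k + 2))) (sRef j.castSucc) (sRef i.castSucc)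
      (sRef_mem_Ssp _) (sRef_mem_Ssp _) (sRef_mem_Ssp _) hne12 hne13
    · rintro _ ⟨t, rfl⟩ ht1 ht2
      revert ht1 ht2
      refine Fin.lastCases ?_ (fun t' => ?_) t
      · intro ht1 _
        exact absurd rfl ht1
      · intro _ ht2
        have htj : t' ≠ j := fun h => ht2 (by rw [h])
        have ht' : (t' : ℕ) + 1 < k + 2 := by
          have := t'.2
          have hne : (t' : ℕ) ≠ k + 1 := fun h => htj (Fin.ext h)
          omega
        rw [hs1, sRef_castSucc]
        exact eqv_sLong_sShort t' ht'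
    · rw [hs1, hs2]
      exact not_eqv_sShort_sLong j rfl
    · rw [hs2, hs3]
      exact not_eqv_sShort_sShort i j rfl

end fin

end Cfsg.Agent.Lib.H1.PM
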