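import Mathlib
import Cfsg.Prelude.Def_FusionSystem
import Cfsg.Agent.Lib.H11.RK2Fus0
import Cfsg.Agent.Lib.H11.RK2Pieces
import Cfsg.Agent.Lib.H16.ClassTwo
import Cfsg.Agent.Lib.H16.OmegaQuotA
import Cfsg.Agent.Lib.H16.R2ActD

/-!
# S5238 (architect helper26), piece FEXP (helper1): a nonabelian essential subgroup of order `p³`,
`p` odd, has exponent `p`.  (General-`p` version of `Lib/H1/PearlFEXP.lean`.)
-/

set_option autoImplicit false

namespace Cfsg.Agent.Lib.H1.PPearl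

open scoped commutatorElement

section OrderCube

variable {T : Type*} [Group T] [Finite T] {p : ℕ} [Fact p.Prime]

/-- the "commutator" `c` with `k * g = g * k * c` in a nonabelian group of order `p³` is central of
order dividing `p` -/
theorem comm_data_of_card_cube (hT : Nat.card T = p ^ 3) (hna : ¬ ∀ a b : T, a * b = b * a)
    (g k : T) : ∃ c : T, k * g = g * k * c ∧ (∀ z : T, Commute c z) ∧ c ^ p = 1 := by
  refine ⟨⁅k⁻¹, g⁻¹⁆, ?_, ?_, ?_⟩
  · rw [commutatorElement_def]; group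
  · intro z
    exact Cfsg.Agent.Lib.H16.OmegaQuot.commute_commutator_of_card_cube hT _ _ z
  · have hcen : ∀ z : T, Commute ⁅k⁻¹, g⁻¹⁆ z := fun z =>
      Cfsg.Agent.Lib.H16.OmegaQuot.commute_commutator_of_card_cube hT _ _ z
    have hcZ : ⁅k⁻¹, g⁻¹⁆ ∈ Subgroup.center T :=
      Subgroup.mem_center_iff.mpr (fun z => (hcen z).eq.symm)
    have hZ : Nat.card (Subgroup.center T) = p :=
      Cfsg.Agent.Lib.H16.R2A.card_center_of_card_cube hT hna
    have h1 : (⟨⁅k⁻¹, g⁻¹⁆, hcZ⟩ : Subgroup.center T) ^ Nat.card (Subgroup.center T) = 1 :=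
      pow_card_eq_one'
    rw [hZ] at h1
    exact congrArg Subtype.val h1

theorem pow_mul_of_card_cube (hp2 : p ≠ 2) (hT : Nat.card T = p ^ 3)
    (hna : ¬ ∀ a b : T, a * b = b * a) (g k : T) : (g * k) ^ p = g ^ p * k ^ p := by
  obtain ⟨c, hkg, hcen, hcp⟩ := comm_data_of_card_cube hT hna g k
  have hodd : Odd p := (Fact.out : p.Prime).odd_of_ne_two hp2
  exact Cfsg.Agent.Lib.H16.mul_pow_eq_of_central hkg (hcen g) (hcen k) hodd hcp

theorem pow_mem_center_of_card_cube (hT : Nat.card T = p ^ 3) (hna : ¬ ∀ a b : T, a * b = b * a)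
    (g : T) : g ^ p ∈ Subgroup.center T := by
  rw [Subgroup.mem_center_iff]
  intro z
  obtain ⟨c, hgz, hcen, hcp⟩ := comm_data_of_card_cube hT hna z g
  have := Cfsg.Agent.Lib.H16.pow_mul_comm_of_central hgz (hcen g) p
  rw [hcp, mul_one] at this
  exact this.symm

end OrderCube

/-- **FEXP**, general odd `p`. -/
theorem exponent_p_of_essential {Ω : Type*} [Group Ω] {p : ℕ} [Fact p.Prime] (hp2 : p ≠ 2)
    {S : Subgroup Ω} [Finite S]
    (hS : IsPGroup p S)
    {F : Cfsg.FusionSystem S} (hF : F.IsSaturated p) {E : Subgroup Ω} (hess : F.IsEssential p E)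
    (hE : Nat.card ↥E = p ^ 3) (hna : ∃ a ∈ E, ∃ b ∈ E, a * b ≠ b * a) : ∀ a ∈ E, a ^ p = 1 := by
  by_contra hcon
  push Not at hcon
  obtain ⟨a, haE, hap⟩ := hcon
  have hES : E ≤ S := hess.1.1
  have hpos : 0 < p ^ 3 := pow_pos (Fact.out : p.Prime).pos 3
  haveI : Finite E := Nat.finite_of_card_ne_zero (by rw [hE]; exact hpos.ne')
  have hEp : IsPGroup p E := hS.to_le hES
  have hnaT : ¬ ∀ a b : E, a * b = b * a := by
    obtain ⟨a, ha, b, hb, hab⟩ := hna
    intro h
    apply hab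
    exact congrArg Subtype.val (h ⟨a, ha⟩ ⟨b, hb⟩)
  have hZ : Nat.card (Subgroup.center E) = p :=
    Cfsg.Agent.Lib.H16.R2A.card_center_of_card_cube hE hnaT
  have hcyc : IsCyclic (Subgroup.center E) := isCyclic_of_prime_card (p := p) hZ
  have hne : ∃ g : E, g ^ p ≠ 1 := by
    refine ⟨⟨a, haE⟩, fun h => hap ?_⟩
    have := congrArg Subtype.val h
    simpa using this
  have hker : Nat.card {g : E // g ^ p = 1} < p ^ 3 := by
    obtain ⟨g₀, hg₀⟩ := hne
    rw [← hE]
    classical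
    haveI : Fintype E := Fintype.ofFinite E
    rw [Nat.card_eq_fintype_card, Nat.card_eq_fintype_card]
    exact Fintype.card_subtype_lt (x := g₀) hg₀
  obtain ⟨cc, hcd, h0, h3⟩ := Cfsg.Agent.Lib.H11.RK2P.chain_cycData hEp
    (pow_mul_of_card_cube hp2 hE hnaT) (Subgroup.center E) hcyc
    (pow_mem_center_of_card_cube hE hnaT) hker hne (F.autGroup E)
  exact Cfsg.Agent.Lib.H11.RK2.not_essential_of_cycData hS hF hess cc 3 hcd h0 h3

end Cfsg.Agent.Lib.H1.PPearl
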