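import Cfsg.Agent.Lib.H1.PQ2PINV
import Cfsg.Agent.Lib.L0.CharDegree

/-!
# S4886 piece LAM (helper1)

`G = N ⋊ H`, `N` abelian, `P₀ ∈ Syl_p(H)`, `Y ⊴ H`; for a `P₀`-invariant `λ ∈ Irr(N)` with
stabilizer `I` in `G`: `q ∤ |Y : Y ∩ I|` (`not_dvd_relIndex_stabilizer`).
-/

set_option autoImplicit false

namespace Cfsg.Agent.Lib.H1.PQ2

open Cfsg Cfsg.Agent.Lib.L0 Cfsg.Agent.Lib.H23
open scoped Pointwise

section Index

variable {G : Type*} [Group G] [Finite G]

/-- `|J M : J| = |M : M ∩ J|` for `M` normal. -/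
theorem lam_relIndex_sup (J M : Subgroup G) [M.Normal] :
    J.relIndex (J ⊔ M) = J.relIndex M := by
  have h1 : M.relIndex (J ⊔ M) = M.relIndex J := Subgroup.relIndex_sup_right J M
  have h2 : M.relIndex (J ⊔ M) * (J ⊔ M).index = M.index := Subgroup.relIndex_mul_index le_sup_right
  have h3 : J.relIndex (J ⊔ M) * (J ⊔ M).index = J.index := Subgroup.relIndex_mul_index le_sup_left
  have h4 : (J ⊓ M).relIndex J = M.relIndex J := Subgroup.inf_relIndex_left J M
  have h5 : (J ⊓ M).relIndex J * J.index = (J ⊓ M).index := Subgroup.relIndex_mul_index inf_le_left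
  have h6 : (J ⊓ M).relIndex M * M.index = (J ⊓ M).index := Subgroup.relIndex_mul_index inf_le_right
  have h7 : (J ⊓ M).relIndex M = J.relIndex M := Subgroup.inf_relIndex_right J M
  have hne : M.relIndex J * (J ⊔ M).index ≠ 0 :=
    mul_ne_zero Subgroup.index_ne_zero_of_finite Subgroup.index_ne_zero_of_finite
  have key : J.relIndex (J ⊔ M) * (M.relIndex J * (J ⊔ M).index)
      = J.relIndex M * (M.relIndex J * (J ⊔ M).index) := by
    calc J.relIndex (J ⊔ M) * (M.relIndex J * (J ⊔ M).index)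
        = M.relIndex J * (J.relIndex (J ⊔ M) * (J ⊔ M).index) := by ring
      _ = (J ⊓ M).index := by rw [h3, ← h4, h5]
      _ = J.relIndex M * (M.relIndex J * (J ⊔ M).index) := by rw [← h6, h7, ← h2, h1]
  exact Nat.eq_of_mul_eq_mul_right (Nat.pos_of_ne_zero hne) key

/-- `|J : J ∩ M|` divides `|G : J|`... more precisely `|M : M ∩ J|` divides `|G : J|`, `M ⊴ G`. -/
theorem lam_relIndex_dvd_index (J M : Subgroup G) [M.Normal] : J.relIndex M ∣ J.index := by
  rw [← lam_relIndex_sup J M]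
  exact Subgroup.relIndex_dvd_index_of_le le_sup_left

/-- Dedekind: `I ∩ N Y = N (I ∩ Y)` for `N ≤ I`, `N` normal. -/
theorem lam_dedekind (I N Y : Subgroup G) [N.Normal] (hNI : N ≤ I) :
    (I ⊓ Y) ⊔ N = I ⊓ (N ⊔ Y) := by
  apply le_antisymm
  · exact sup_le (inf_le_inf_left I le_sup_right) (le_inf hNI le_sup_left)
  · intro x hx
    have hxI : x ∈ I := hx.1
    have hxK : x ∈ N ⊔ Y := hx.2
    have hxK' : x ∈ (N : Set G) * (Y : Set G) := by
      rw [← Subgroup.normal_mul]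
      exact hxK
    obtain ⟨n, hn, y, hy, rfl⟩ := hxK'
    have hyI : y ∈ I := by
      have : y = n⁻¹ * (n * y) := by group
      rw [this]
      exact I.mul_mem (I.inv_mem (hNI hn)) hxI
    exact Subgroup.mul_mem _ (Subgroup.mem_sup_right hn) (Subgroup.mem_sup_left ⟨hyI, hy⟩)

end Index

/-- `N Y` is normal in `G = N H` when `H` normalizes `Y`. -/
theorem lam_normal_sup {G : Type*} [Group G] (N H Y : Subgroup G) [N.Normal]
    (hNH' : N ⊔ H = ⊤) (hYn : ∀ h ∈ H, ∀ y ∈ Y, h * y * h⁻¹ ∈ Y) : (N ⊔ Y).Normal := by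
  have hHle : ∀ h ∈ H, ∀ k ∈ N ⊔ Y, h * k * h⁻¹ ∈ N ⊔ Y := by
    intro h hh k hk
    have hmap : (N ⊔ Y).map (MulAut.conj h).toMonoidHom ≤ N ⊔ Y := by
      rw [Subgroup.map_sup]
      apply sup_le_sup
      · rintro _ ⟨n, hn, rfl⟩
        exact (inferInstance : N.Normal).conj_mem n hn h
      · rintro _ ⟨y, hy, rfl⟩
        exact hYn h hh y hy
    exact hmap ⟨k, hk, rfl⟩
  have hle : H ≤ Subgroup.normalizer ((N ⊔ Y : Subgroup G) : Set G) := by
    intro h hh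
    rw [Subgroup.mem_normalizer_iff]
    intro k
    constructor
    · exact hHle h hh k
    · intro hk
      have := hHle h⁻¹ (H.inv_mem hh) _ hk
      simpa [mul_assoc] using this
  have htop : Subgroup.normalizer ((N ⊔ Y : Subgroup G) : Set G) = ⊤ := by
    rw [eq_top_iff, ← hNH']
    exact sup_le (le_sup_left.trans Subgroup.le_normalizer) hle
  exact Subgroup.normalizer_eq_top_iff.mp htop

theorem not_dvd_relIndex_stabilizer {G : Type*} [Group G] [Finite G] (p q : ℕ) [Fact p.Prime]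
    [Fact q.Prime] (N H Y P₀ I : Subgroup G) [N.Normal] (hNH : N ⊓ H = ⊥) (hNH' : N ⊔ H = ⊤)
    (hNab : ∀ a ∈ N, ∀ b ∈ N, a * b = b * a)
    (hYH : Y ≤ H) (hYn : ∀ h ∈ H, ∀ y ∈ Y, h * y * h⁻¹ ∈ Y)
    (hP₀H : P₀ ≤ H) (hP₀ : IsPGroup p P₀) (hP₀syl : ¬ p ∣ P₀.relIndex H)
    (hyp : ∀ χ : IrrCharacter G, ¬ p ∣ charDegree (χ : G → ℂ) → ¬ q ∣ charDegree (χ : G → ℂ))
    (lam : IrrCharacter N)
    (hlam : ∀ s ∈ P₀, ∀ g g' : N, (g' : G) = s * g * s⁻¹ → (lam : N → ℂ) g' = (lam : N → ℂ) g)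
    (hI : ∀ x : G, x ∈ I ↔
      ∀ g g' : N, (g' : G) = x * g * x⁻¹ → (lam : N → ℂ) g' = (lam : N → ℂ) g) :
    ¬ q ∣ (I ⊓ Y).relIndex Y := by
  classical
  have hp : p.Prime := Fact.out
  have : Fintype G := Fintype.ofFinite _
  have : Fintype N := Fintype.ofFinite _
  have hc := pinv_isComplement' N H hNH hNH'
  -- the hypotheses of TRICK
  have hdisj : N ⊓ P₀ = ⊥ := le_bot_iff.mp ((inf_le_inf_left N hP₀H).trans hNH.le)
  have hidxeq : (N ⊔ P₀).index = P₀.relIndex H := by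
    have h1 : N.index = Nat.card P₀ * (N ⊔ P₀).index := trick_index N P₀ hdisj
    have h2 : N.index = Nat.card H := hc.index_eq_card
    have h3 : Nat.card (P₀.subgroupOf H) * P₀.relIndex H = Nat.card H :=
      Subgroup.card_mul_index (P₀.subgroupOf H)
    have h4 : Nat.card (P₀.subgroupOf H) = Nat.card P₀ :=
      Nat.card_congr (P₀.subgroupOfEquivOfLe hP₀H).toEquiv
    have h5 : Nat.card P₀ * (N ⊔ P₀).index = Nat.card P₀ * P₀.relIndex H := by
      rw [← h1, h2, ← h3, h4]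
    exact Nat.eq_of_mul_eq_mul_left Nat.card_pos h5
  have hidx : ¬ p ∣ (N ⊔ P₀).index := by rw [hidxeq]; exact hP₀syl
  have hcommN : ∀ a b : N, a * b = b * a := fun a b => Subtype.ext (hNab a a.2 b b.2)
  have hlam1 : (lam : N → ℂ) 1 = 1 := irr_apply_one_of_comm hcommN lam.2
  have hdeglam : charDegree (lam : N → ℂ) = 1 :=
    charDegree_eq_of_apply_one (by rw [hlam1]; simp)
  have hdeg : ¬ p ∣ charDegree (lam : N → ℂ) := by
    rw [hdeglam]
    exact hp.one_lt.ne' ∘ Nat.dvd_one.mp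
  obtain ⟨χ, hcon, hχp⟩ := exists_pPrime_degree_over p N P₀ hP₀ hdisj hidx lam hdeg hlam
  have hχq : ¬ q ∣ charDegree (χ : G → ℂ) := hyp χ hχp
  -- the inertia group
  have hIT : I = inertia N (lam : N → ℂ) := by
    ext x
    rw [hI, mem_inertia]
    constructor
    · intro h n
      exact h n _ rfl
    · intro h g g' hg'
      rw [← h g]
      have : g' = ⟨x * g * x⁻¹, (inferInstance : N.Normal).conj_mem (g : G) g.2 x⟩ :=
        Subtype.ext hg'
      rw [this]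
  have hTdvd : I.index ∣ charDegree (χ : G → ℂ) := by
    rw [hIT]
    exact inertia_index_dvd_charDegree N χ.2 lam.2 hcon
  have hqI : ¬ q ∣ I.index := fun h => hχq (h.trans hTdvd)
  have hNI : N ≤ I := by
    rw [hIT]
    exact le_inertia N (isClassFunction_of_isCharacter (isCharacter_of_irr lam.2))
  -- index bookkeeping
  have hKn : (N ⊔ Y).Normal := lam_normal_sup N H Y hNH' hYn
  have hNY : N ⊓ Y = ⊥ := le_bot_iff.mp ((inf_le_inf_left N hYH).trans hNH.le)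
  have h1 : I.relIndex (N ⊔ Y) ∣ I.index := lam_relIndex_dvd_index I (N ⊔ Y)
  -- `|Y : I ∩ Y| = |N Y : I ∩ N Y|`
  have hc1 : Y.relIndex (N ⊔ Y) = (⊥ : Subgroup G).relIndex N := by
    rw [sup_comm, lam_relIndex_sup Y N, ← Subgroup.inf_relIndex_right, inf_comm, hNY]
  have hc2 : (I ⊓ Y).relIndex (I ⊓ (N ⊔ Y)) = (⊥ : Subgroup G).relIndex N := by
    rw [← lam_dedekind I N Y hNI, lam_relIndex_sup (I ⊓ Y) N, ← Subgroup.inf_relIndex_right]
    have : I ⊓ Y ⊓ N = ⊥ := by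
      rw [inf_assoc, inf_comm Y N, hNY, inf_bot_eq]
    rw [this]
  have hm1 : (I ⊓ Y).relIndex Y * Y.relIndex (N ⊔ Y) = (I ⊓ Y).relIndex (N ⊔ Y) :=
    Subgroup.relIndex_mul_relIndex _ _ _ inf_le_right le_sup_right
  have hm2 : (I ⊓ Y).relIndex (I ⊓ (N ⊔ Y)) * (I ⊓ (N ⊔ Y)).relIndex (N ⊔ Y)
      = (I ⊓ Y).relIndex (N ⊔ Y) :=
    Subgroup.relIndex_mul_relIndex _ _ _ (inf_le_inf_left I le_sup_right) inf_le_right
  have hcne : (⊥ : Subgroup G).relIndex N ≠ 0 := Subgroup.index_ne_zero_of_finite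
  have heq : (I ⊓ Y).relIndex Y = I.relIndex (N ⊔ Y) := by
    rw [hc1] at hm1
    rw [hc2, Subgroup.inf_relIndex_right] at hm2
    have : (I ⊓ Y).relIndex Y * (⊥ : Subgroup G).relIndex N
        = I.relIndex (N ⊔ Y) * (⊥ : Subgroup G).relIndex N := by
      rw [hm1, ← hm2, mul_comm]
    exact Nat.eq_of_mul_eq_mul_right (Nat.pos_of_ne_zero hcne) this
  rw [heq]
  exact fun h => hqI (h.trans h1)

end Cfsg.Agent.Lib.H1.PQ2
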