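import Cfsg.Agent.Lib.H1.PQ2TRICK

/-!
# S4886 piece PINV (helper1)

`G = N ⋊ H`, `Y ⊴ H` a `p'`-group, `P₀ ∈ Syl_p(H)`; if all `p'`-degree irreducible characters of
`G` have `q'`-degree then every `P₀`-invariant `θ ∈ Irr(Y)` has `q'`-degree
(`not_dvd_degree_of_invariant`).  We work in `↥H ≅ G ⧸ N` and inflate along the projection
`G → H` (`pinv_proj`).
-/

set_option autoImplicit false

namespace Cfsg.Agent.Lib.H1.PQ2

open Cfsg Cfsg.Agent.Lib.L0 Cfsg.Agent.Lib.H23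
open scoped Pointwise

section Proj

variable {G : Type*} [Group G]

/-- `H` is a complement of the normal subgroup `N` when `N ⊓ H = ⊥` and `N ⊔ H = ⊤`. -/
theorem pinv_isComplement' (N H : Subgroup G) [N.Normal] (hNH : N ⊓ H = ⊥) (hNH' : N ⊔ H = ⊤) :
    H.IsComplement' N := by
  apply Subgroup.isComplement'_of_disjoint_and_mul_eq_univ
  · rw [disjoint_iff, inf_comm]
    exact hNH
  · rw [← Subgroup.mul_normal H N, sup_comm, hNH']
    rfl

/-- The projection `G → H` with kernel `N`. -/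
noncomputable def pinv_proj (N H : Subgroup G) [N.Normal] (hc : H.IsComplement' N) : G →* H :=
  hc.QuotientMulEquiv.toMonoidHom.comp (QuotientGroup.mk' N)

theorem pinv_proj_apply_mem (N H : Subgroup G) [N.Normal] (hc : H.IsComplement' N) (x : H) :
    pinv_proj N H hc (x : G) = x := by
  change hc.QuotientMulEquiv (QuotientGroup.mk (x : G)) = x
  apply hc.QuotientMulEquiv.symm.injective
  rw [MulEquiv.symm_apply_apply]
  rfl

theorem pinv_proj_surjective (N H : Subgroup G) [N.Normal] (hc : H.IsComplement' N) :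
    Function.Surjective (pinv_proj N H hc) := fun x => ⟨(x : G), pinv_proj_apply_mem N H hc x⟩

end Proj

theorem pinv_charDegree_comp {A B : Type*} [Group A] [Group B] (f : A →* B) (χ : B → ℂ) :
    charDegree (χ ∘ f) = charDegree χ := by
  unfold charDegree
  simp

/-- A `p`-group meets a `p'`-group trivially. -/
theorem pinv_inf_eq_bot {G : Type*} [Group G] [Finite G] (p : ℕ) [Fact p.Prime]
    (Y P₀ : Subgroup G) (hYp : (Nat.card Y).Coprime p) (hP₀ : IsPGroup p P₀) : Y ⊓ P₀ = ⊥ := by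
  rw [Subgroup.eq_bot_iff_forall]
  intro x hx
  obtain ⟨k, hk⟩ := (IsPGroup.iff_orderOf.mp hP₀) ⟨x, hx.2⟩
  have h1 : orderOf x = p ^ k := by
    rw [← hk]
    exact (Subgroup.orderOf_mk x hx.2).symm
  have h2 : orderOf x ∣ Nat.card Y := by
    have := orderOf_dvd_natCard (⟨x, hx.1⟩ : Y)
    rwa [Subgroup.orderOf_mk] at this
  have h3 : (p ^ k).Coprime (Nat.card Y) := (Nat.Coprime.pow_left k hYp.symm)
  have h4 : orderOf x = 1 := by
    rw [h1] at h2 ⊢
    exact h3.eq_one_of_dvd h2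
  exact orderOf_eq_one_iff.mp h4

theorem not_dvd_degree_of_invariant {G : Type*} [Group G] [Finite G] (p q : ℕ) [Fact p.Prime]
    [Fact q.Prime] (N H Y P₀ : Subgroup G) [N.Normal] (hNH : N ⊓ H = ⊥) (hNH' : N ⊔ H = ⊤)
    (hYH : Y ≤ H) (hYn : ∀ h ∈ H, ∀ y ∈ Y, h * y * h⁻¹ ∈ Y) (hYp : (Nat.card Y).Coprime p)
    (hP₀H : P₀ ≤ H) (hP₀ : IsPGroup p P₀) (hP₀syl : ¬ p ∣ P₀.relIndex H)
    (hyp : ∀ χ : IrrCharacter G, ¬ p ∣ charDegree (χ : G → ℂ) → ¬ q ∣ charDegree (χ : G → ℂ))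
    (θ : IrrCharacter Y)
    (hθ : ∀ s ∈ P₀, ∀ g g' : Y, (g' : G) = s * g * s⁻¹ → (θ : Y → ℂ) g' = (θ : Y → ℂ) g) :
    ¬ q ∣ charDegree (θ : Y → ℂ) := by
  classical
  have hp : p.Prime := Fact.out
  have : Fintype G := Fintype.ofFinite _
  have : Fintype H := Fintype.ofFinite _
  have : Fintype Y := Fintype.ofFinite _
  have : Fintype (Y.subgroupOf H) := Fintype.ofFinite _
  have hc := pinv_isComplement' N H hNH hNH'
  -- the configuration inside `H`
  have hYnorm : (Y.subgroupOf H).Normal := by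
    constructor
    intro y hy h
    rw [Subgroup.mem_subgroupOf] at hy ⊢
    exact hYn h h.2 y hy
  set ι : (Y.subgroupOf H) ≃* Y := Subgroup.subgroupOfEquivOfLe hYH with hι
  have hιcoe : ∀ y : Y.subgroupOf H, ((ι y : Y) : G) = ((y : H) : G) := fun y => rfl
  have hθ'irr : IsIrrCharacter (Y.subgroupOf H) ((θ : Y → ℂ) ∘ ι) :=
    isIrrCharacter_comp_of_surjective ι.toMonoidHom ι.surjective θ.2
  have hdegθ' : charDegree ((θ : Y → ℂ) ∘ ι) = charDegree (θ : Y → ℂ) :=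
    pinv_charDegree_comp ι.toMonoidHom _
  have hP₀' : IsPGroup p (P₀.subgroupOf H) :=
    hP₀.of_injective (P₀.subgroupOfEquivOfLe hP₀H).toMonoidHom (P₀.subgroupOfEquivOfLe hP₀H).injective
  have hdisj : Y.subgroupOf H ⊓ P₀.subgroupOf H = ⊥ := by
    rw [Subgroup.eq_bot_iff_forall]
    intro x hx
    have hx' : (x : G) ∈ Y ⊓ P₀ :=
      ⟨Subgroup.mem_subgroupOf.mp hx.1, Subgroup.mem_subgroupOf.mp hx.2⟩
    rw [pinv_inf_eq_bot p Y P₀ hYp hP₀] at hx'
    exact Subtype.ext (Subgroup.mem_bot.mp hx')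
  have hidx : ¬ p ∣ (Y.subgroupOf H ⊔ P₀.subgroupOf H).index := by
    intro h
    apply hP₀syl
    exact h.trans (Subgroup.index_dvd_of_le le_sup_right)
  have hdeg : ¬ p ∣ charDegree ((θ : Y → ℂ) ∘ ι) := by
    rw [hdegθ']
    intro h
    have h1 : charDegree (θ : Y → ℂ) ∣ Nat.card Y := charDegree_dvd_card _ θ.2
    have h2 : p ∣ Nat.card Y := h.trans h1
    have := Nat.Coprime.eq_one_of_dvd hYp.symm h2
    exact hp.one_lt.ne' this
  have hinv : ∀ s ∈ P₀.subgroupOf H, ∀ g g' : Y.subgroupOf H,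
      (g' : H) = s * g * s⁻¹ → ((θ : Y → ℂ) ∘ ι) g' = ((θ : Y → ℂ) ∘ ι) g := by
    intro s hs g g' hgg'
    simp only [Function.comp_apply]
    apply hθ (s : G) (Subgroup.mem_subgroupOf.mp hs)
    rw [hιcoe, hιcoe, hgg']
    simp
  obtain ⟨χ', hcon, hχ'p⟩ := exists_pPrime_degree_over p (Y.subgroupOf H) (P₀.subgroupOf H) hP₀'
    hdisj hidx ⟨(θ : Y → ℂ) ∘ ι, hθ'irr⟩ hdeg hinv
  -- inflate to `G`
  have hχirr : IsIrrCharacter G ((χ' : H → ℂ) ∘ pinv_proj N H hc) :=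
    isIrrCharacter_comp_of_surjective _ (pinv_proj_surjective N H hc) χ'.2
  have hdegχ : charDegree ((χ' : H → ℂ) ∘ pinv_proj N H hc) = charDegree (χ' : H → ℂ) :=
    pinv_charDegree_comp _ _
  have hq : ¬ q ∣ charDegree (χ' : H → ℂ) := by
    have := hyp ⟨_, hχirr⟩ (by simpa only [hdegχ] using hχ'p)
    simpa only [hdegχ] using this
  have hdvd : charDegree ((θ : Y → ℂ) ∘ ι) ∣ charDegree (χ' : H → ℂ) :=
    charDegree_dvd_of_constituent (Y.subgroupOf H) χ'.2 hθ'irr hcon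
  rw [hdegθ'] at hdvd
  exact fun h => hq (h.trans hdvd)

end Cfsg.Agent.Lib.H1.PQ2
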