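import Cfsg.Agent.Lib.H23.Isaacs1129b
import Cfsg.Agent.Lib.H24.CharOrth

/-!
# S4886 piece TRICK (helper1)

`K ⊴ G`, `θ ∈ Irr(K)` of `p'`-degree, invariant under a `p`-subgroup `P₀` with `K ∩ P₀ = 1` and
`p ∤ |G : K P₀|`.  Then some `χ ∈ Irr(G)` over `θ` has `p'`-degree
(`exists_pPrime_degree_over`).  No extension theorem is used: `θ^G` vanishes off `K`, so the
multiplicity of the trivial character of `P₀` in `θ^G` is `|G : K P₀| θ(1)`.
-/

set_option autoImplicit false

namespace Cfsg.Agent.Lib.H1.PQ2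

open Cfsg Cfsg.Agent.Lib.L0 Cfsg.Agent.Lib.H23
open scoped ComplexConjugate

section

variable {G : Type*} [Group G] [Fintype G]

/-- A function induced from a normal subgroup vanishes outside it. -/
theorem trick_indFun_not_mem (K : Subgroup G) [hK : K.Normal] (θ : K → ℂ) {x : G} (hx : x ∉ K) :
    indFun K θ x = 0 := by
  rw [indFun_apply]
  have : ∀ y : G, extendByZero K θ (y⁻¹ * x * y) = 0 := by
    intro y
    apply extendByZero_apply_not_mem
    intro hmem
    apply hx
    have := hK.conj_mem _ hmem y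
    simpa [mul_assoc] using this
  simp [this]

/-- The multiplicity of the trivial character of `P₀` in a function vanishing on `P₀ ∖ 1`. -/
theorem trick_classInner_one (P₀ : Subgroup G) [Fintype P₀] (f : G → ℂ)
    (hf : ∀ s ∈ P₀, s ≠ 1 → f s = 0) :
    classInner (fun s : P₀ => f s) (1 : P₀ → ℂ) = (Nat.card P₀ : ℂ)⁻¹ * f 1 := by
  classical
  unfold classInner
  congr 1
  rw [Finset.sum_eq_single (1 : P₀)]
  · simp
  · intro s _ hs
    have : f (s : G) = 0 := hf s s.2 (fun h => hs (Subtype.ext h))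
    simp [this]
  · intro h
    exact absurd (Finset.mem_univ _) h

/-- `|G : K| = |P₀| · |G : K P₀|` for `K` normal with `K ∩ P₀ = 1`. -/
theorem trick_index (K P₀ : Subgroup G) [K.Normal] (hdisj : K ⊓ P₀ = ⊥) :
    K.index = Nat.card P₀ * (K ⊔ P₀).index := by
  have h1 : K.relIndex (K ⊔ P₀) * (K ⊔ P₀).index = K.index :=
    Subgroup.relIndex_mul_index le_sup_left
  have h2 : K.relIndex (K ⊔ P₀) = K.relIndex P₀ := Subgroup.relIndex_sup_left P₀ K
  have h3 : K.relIndex P₀ = Nat.card P₀ := by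
    have : K.subgroupOf P₀ = ⊥ := by
      rw [← Subgroup.inf_subgroupOf_right, hdisj]
      exact Subgroup.bot_subgroupOf P₀
    unfold Subgroup.relIndex
    rw [this, Subgroup.index_bot]
  rw [← h1, h2, h3]

end

theorem exists_pPrime_degree_over {G : Type*} [Group G] [Fintype G] (p : ℕ) [Fact p.Prime]
    (K P₀ : Subgroup G) [K.Normal] [Fintype K] (hP₀ : IsPGroup p P₀) (hdisj : K ⊓ P₀ = ⊥)
    (hidx : ¬ p ∣ (K ⊔ P₀).index) (θ : IrrCharacter K)
    (hdeg : ¬ p ∣ charDegree (θ : K → ℂ))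
    (hinv : ∀ s ∈ P₀, ∀ g g' : K, (g' : G) = s * g * s⁻¹ → (θ : K → ℂ) g' = (θ : K → ℂ) g) :
    ∃ χ : IrrCharacter G, classInner (fun k : K => (χ : G → ℂ) k) (θ : K → ℂ) ≠ 0 ∧
      ¬ p ∣ charDegree (χ : G → ℂ) := by
  classical
  have hp : p.Prime := Fact.out
  have : Fintype (IrrCharacter G) := Fintype.ofFinite _
  have : Fintype P₀ := Fintype.ofFinite _
  have hθc : IsCharacter K (θ : K → ℂ) := isCharacter_of_irr θ.2
  have hΘchar : IsCharacter G (indFun K (θ : K → ℂ)) := isCharacter_indFun K hθc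
  have hΘcf : IsClassFunction G (indFun K (θ : K → ℂ)) := indFun_isClassFunction K _
  -- multiplicities
  have hn : ∀ χ : IrrCharacter G, ∃ n : ℕ,
      classInner (indFun K (θ : K → ℂ)) (χ : G → ℂ) = n :=
    fun χ => classInner_char_irr_nat hΘchar χ.2
  choose n hn using hn
  have ht : ∀ χ : IrrCharacter G, ∃ t : ℕ,
      classInner (fun s : P₀ => (χ : G → ℂ) s) (1 : P₀ → ℂ) = t :=
    fun χ => classInner_char_irr_nat (isCharacter_restrict P₀ (isCharacter_of_irr χ.2))
      isIrrCharacter_one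
  choose t ht using ht
  -- expansion of the induced character, restricted to `P₀`
  have hexp := Cfsg.Agent.Lib.H24.classFunction_expansion (indFun K (θ : K → ℂ)) hΘcf
  have hres : (fun s : P₀ => indFun K (θ : K → ℂ) s)
      = ∑ χ : IrrCharacter G, (n χ : ℂ) • (fun s : P₀ => (χ : G → ℂ) s) := by
    funext s
    have h := congrFun hexp (s : G)
    rw [Finset.sum_apply] at h
    rw [Finset.sum_apply]
    rw [h]
    refine Finset.sum_congr rfl fun χ _ => ?_
    rw [Pi.smul_apply, Pi.smul_apply, hn χ]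
  have hT : classInner (fun s : P₀ => indFun K (θ : K → ℂ) s) (1 : P₀ → ℂ)
      = ∑ χ : IrrCharacter G, (n χ : ℂ) * (t χ : ℂ) := by
    rw [hres, classInner_sum_left]
    refine Finset.sum_congr rfl fun χ _ => ?_
    rw [classInner_smul_left, ht χ]
  -- the left side directly
  have hvan : ∀ s ∈ P₀, s ≠ 1 → indFun K (θ : K → ℂ) s = 0 := by
    intro s hs hs1
    apply trick_indFun_not_mem
    intro hsK
    apply hs1
    have : s ∈ K ⊓ P₀ := ⟨hsK, hs⟩
    rw [hdisj] at this
    exact Subgroup.mem_bot.mp this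
  have hT' := trick_classInner_one P₀ (indFun K (θ : K → ℂ)) hvan
  rw [hT, indFun_one', apply_one_eq_charDegree _ θ.2, trick_index K P₀ hdisj] at hT'
  have hP₀ne : (Nat.card P₀ : ℂ) ≠ 0 := by exact_mod_cast (Nat.card_pos (α := P₀)).ne'
  have hsum : ∑ χ : IrrCharacter G, n χ * t χ
      = (K ⊔ P₀).index * charDegree (θ : K → ℂ) := by
    have : ((∑ χ : IrrCharacter G, n χ * t χ : ℕ) : ℂ)
        = (((K ⊔ P₀).index * charDegree (θ : K → ℂ) : ℕ) : ℂ) := by
      push_cast
      rw [hT']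
      push_cast
      field_simp
    exact_mod_cast this
  -- some term is prime to `p`
  have hex : ∃ χ : IrrCharacter G, ¬ p ∣ n χ * t χ := by
    by_contra hcon
    have hcon : ∀ χ : IrrCharacter G, p ∣ n χ * t χ := fun χ => by
      by_contra h
      exact hcon ⟨χ, h⟩
    have : p ∣ ∑ χ : IrrCharacter G, n χ * t χ := Finset.dvd_sum fun χ _ => hcon χ
    rw [hsum] at this
    rcases hp.dvd_mul.mp this with h | h
    · exact hidx h
    · exact hdeg h
  obtain ⟨χ, hχ⟩ := hex
  have hnp : ¬ p ∣ n χ := fun h => hχ (Dvd.dvd.mul_right h _)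
  have hn0 : n χ ≠ 0 := fun h => hnp (h ▸ dvd_zero p)
  -- `χ` lies over `θ` with multiplicity `n χ`
  have hfr : classInner (fun k : K => (χ : G → ℂ) k) (θ : K → ℂ) = n χ := by
    have h1 := frobenius_reciprocity K (θ : K → ℂ) (χ : G → ℂ)
      (isClassFunction_of_isCharacter (isCharacter_of_irr χ.2))
    rw [hn χ] at h1
    rw [← classInner_conj_symm, ← h1]
    simp
  have hcon : classInner (fun k : K => (χ : G → ℂ) k) (θ : K → ℂ) ≠ 0 := by
    rw [hfr]
    exact_mod_cast hn0
  refine ⟨χ, hcon, ?_⟩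
  -- Clifford: `χ(1) = |G : T| · n χ · θ(1)`
  set T : Subgroup G := inertia K (θ : K → ℂ) with hTdef
  have : Fintype T := Fintype.ofFinite _
  have hKT : K ≤ T := le_inertia K (isClassFunction_of_isCharacter hθc)
  obtain ⟨ψ, hψ, hind, hmult⟩ :=
    clifford_correspondence K T hKT (θ : K → ℂ) θ.2 (fun g => Iff.rfl) (χ : G → ℂ) χ.2 hcon
  have hcon' : classInner (resTo K T hKT ψ) (θ : K → ℂ) ≠ 0 := by rw [hmult]; exact hcon
  have hres' := restrict_inertia_eq_smul K T hKT (θ : K → ℂ) θ.2 (fun g hg => hg) ψ hψ hcon'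
  have h1 : (χ : G → ℂ) 1 = (T.index : ℂ) * ψ 1 := by rw [← hind, indFun_one']
  have h2 : ψ 1 = (n χ : ℂ) * (θ : K → ℂ) 1 := by
    have := congrFun hres' 1
    rw [hmult, hfr] at this
    simp only [resTo, Pi.smul_apply, smul_eq_mul] at this
    exact this
  have h3 : (θ : K → ℂ) 1 = (charDegree (θ : K → ℂ) : ℂ) := apply_one_eq_charDegree _ θ.2
  have hdegχ : charDegree (χ : G → ℂ) = T.index * (n χ * charDegree (θ : K → ℂ)) := by
    apply charDegree_eq_of_apply_one
    rw [h1, h2, h3]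
    push_cast
    ring
  -- `K P₀ ≤ T`
  have hP₀T : P₀ ≤ T := by
    intro s hs
    rw [hTdef, mem_inertia]
    intro k
    exact hinv s hs k _ rfl
  have hTidx : ¬ p ∣ T.index := by
    intro h
    exact hidx (h.trans (Subgroup.index_dvd_of_le (sup_le hKT hP₀T)))
  rw [hdegχ]
  intro h
  rcases hp.dvd_mul.mp h with h | h
  · exact hTidx h
  · rcases hp.dvd_mul.mp h with h | h
    · exact hnp h
    · exact hdeg h

end Cfsg.Agent.Lib.H1.PQ2
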