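import Mathlib
import Cfsg.Prelude.Def_Blocks
import Cfsg.Prelude.Def_Characters
import Cfsg.Agent.Lib.L0.CharIndChar
import Cfsg.Agent.Lib.L0.CharDegree

/-!
# S4885 piece LIN (helper1)

If every irreducible character of `p'`-degree of `H` is trivial on `N`, then `N ∩ P ≤ P'` for a
Sylow `p`-subgroup `P` of `H`.
-/

set_option autoImplicit false

namespace Cfsg.Agent.Lib.H1.PQ

open Cfsg Cfsg.Agent.Lib.L0
open scoped ComplexConjugate

theorem pq_charDegree_of_apply_one {G : Type*} [Group G] {χ : G → ℂ} {n : ℕ} (h : χ 1 = n) :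
    charDegree χ = n := by
  simp [charDegree, h]

/-- If all members of a list of characters have degree divisible by `p`, so has their sum. -/
theorem pq_list_sum_dvd {G : Type*} [Group G] (p : ℕ) {l : List (G → ℂ)}
    (hl : ∀ χ ∈ l, Cfsg.IsCharacter G χ) (hd : ∀ χ ∈ l, p ∣ charDegree χ) :
    ∃ n : ℕ, l.sum 1 = n ∧ p ∣ n := by
  induction l with
  | nil => exact ⟨0, by simp, dvd_zero p⟩
  | cons c l ih =>
    obtain ⟨n, hn, hpn⟩ := ih (fun χ hχ => hl χ (by simp [hχ])) (fun χ hχ => hd χ (by simp [hχ]))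
    obtain ⟨m, hm⟩ := isCharacter_apply_one (hl c (by simp))
    have hpm : p ∣ m := by
      have := hd c (by simp)
      rwa [pq_charDegree_of_apply_one hm] at this
    refine ⟨m + n, ?_, dvd_add hpm hpn⟩
    simp [hm, hn]

/-- A character is constant on cosets of its kernel elements. -/
theorem pq_apply_mul_of_ker {G : Type*} [Group G] [Finite G] {ψ : G → ℂ}
    (hψ : Cfsg.IsCharacter G ψ) {x : G} (hx : ψ x = ψ 1) (g : G) : ψ (g * x) = ψ g := by
  obtain ⟨n, ρ, rfl⟩ := hψ
  have h1 : ρ x = 1 := (char_eq_char_one_iff ρ x).1 hx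
  unfold Representation.character
  rw [map_mul, h1, mul_one]

theorem inf_sylow_le_commutator {H : Type*} [Group H] [Finite H] (p : ℕ) [Fact p.Prime]
    (P : Sylow p H) (N : Subgroup H)
    (h : ∀ ψ : IrrCharacter H, ¬ p ∣ charDegree (ψ : H → ℂ) →
      ∀ n ∈ N, (ψ : H → ℂ) n = (ψ : H → ℂ) 1) :
    N ⊓ (P : Subgroup H) ≤ (commutator P).map (P : Subgroup H).subtype := by
  classical
  have := Fintype.ofFinite H
  have hp : p.Prime := Fact.out
  intro x hx
  by_contra hcon
  set y : (P : Subgroup H) := ⟨x, hx.2⟩ with hy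
  have hyc : y ∉ commutator (P : Subgroup H) := by
    intro hyc
    exact hcon ⟨y, hyc, rfl⟩
  -- a linear character of `P` not killing `y`
  have hybar : (Abelianization.of y : Abelianization (P : Subgroup H)) ≠ 1 := by
    intro h1
    apply hyc
    have : y ∈ (Abelianization.of : (P : Subgroup H) →* Abelianization (P : Subgroup H)).ker :=
      MonoidHom.mem_ker.2 h1
    rwa [Abelianization.ker_of] at this
  obtain ⟨φ, hφ⟩ := CommGroup.exists_apply_ne_one_of_hasEnoughRootsOfUnity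
    (Abelianization (P : Subgroup H)) ℂ hybar
  set μ : (P : Subgroup H) →* ℂˣ := φ.comp Abelianization.of with hμ
  have hμy : μ y ≠ 1 := hφ
  set θ : ↥(P : Subgroup H) → ℂ := fun g => ((μ g : ℂˣ) : ℂ) with hθ
  have hθirr : Cfsg.IsIrrCharacter ↥(P : Subgroup H) θ := isIrrCharacter_of_hom μ
  have hθ1 : θ 1 = 1 := by simp [hθ]
  have hInd : Cfsg.IsCharacter H (Cfsg.indFun (P : Subgroup H) θ) :=
    isCharacter_indFun (P : Subgroup H) (isCharacter_of_irr hθirr)
  have hInd1 : Cfsg.indFun (P : Subgroup H) θ 1 = ((P : Subgroup H).index : ℂ) := by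
    rw [indFun_apply_one, hθ1, mul_one]
  obtain ⟨l, hl, hsum⟩ := isCharacter_exists_irr_decomp hInd
  -- some constituent has `p'`-degree
  have hex : ∃ ψ ∈ l, ¬ p ∣ charDegree ψ := by
    by_contra hno
    push Not at hno
    obtain ⟨n, hn, hpn⟩ := pq_list_sum_dvd p (fun χ hχ => isCharacter_of_irr (hl χ hχ)) hno
    rw [← hsum, hInd1] at hn
    have hn' : (P : Subgroup H).index = n := by exact_mod_cast hn
    exact P.not_dvd_index (hn' ▸ hpn)
  obtain ⟨ψ, hψl, hψp⟩ := hex
  have hψirr : Cfsg.IsIrrCharacter H ψ := hl ψ hψl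
  have hψN : ∀ n ∈ N, ψ n = ψ 1 := h ⟨ψ, hψirr⟩ hψp
  -- multiplicity of `ψ` in the induced character
  have hmult : Cfsg.classInner (Cfsg.indFun (P : Subgroup H) θ) ψ ≠ 0 := by
    rw [hsum, classInner_irr_list_sum hl hψirr]
    have : 0 < l.count ψ := List.count_pos_iff.2 hψl
    exact_mod_cast this.ne'
  rw [frobenius_reciprocity (P : Subgroup H) θ ψ
    (isClassFunction_of_isCharacter (isCharacter_of_irr hψirr))] at hmult
  -- the inner product vanishes since `μ y ≠ 1`
  apply hmult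
  unfold Cfsg.classInner
  have hS : ∑ g : ↥(P : Subgroup H), θ g * conj (ψ (g : H)) =
      θ y * ∑ g : ↥(P : Subgroup H), θ g * conj (ψ (g : H)) := by
    rw [Finset.mul_sum]
    refine Fintype.sum_equiv (Equiv.mulRight y⁻¹) _ _ (fun g => ?_)
    simp only [Equiv.coe_mulRight]
    have e1 : θ g = θ y * θ (g * y⁻¹) := by
      simp only [hθ]
      rw [mul_comm, ← Units.val_mul, ← map_mul, inv_mul_cancel_right]
    have e2 : ψ ((g * y⁻¹ : ↥(P : Subgroup H)) : H) = ψ (g : H) := by
      have hx' : ψ (x⁻¹) = ψ 1 := hψN _ (N.inv_mem hx.1)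
      have := pq_apply_mul_of_ker (isCharacter_of_irr hψirr) hx' (g : H)
      rw [← this]
      rfl
    rw [e2, e1, mul_assoc]
  have hθy : θ y ≠ 1 := by
    intro h1
    apply hμy
    apply Units.ext
    simpa [hθ] using h1
  have hS0 : ∑ g : ↥(P : Subgroup H), θ g * conj (ψ (g : H)) = 0 := by
    have h2 : (1 - θ y) * ∑ g : ↥(P : Subgroup H), θ g * conj (ψ (g : H)) = 0 := by
      rw [sub_mul, one_mul, ← hS, sub_self]
    rcases mul_eq_zero.1 h2 with h3 | h3
    · exact absurd (sub_eq_zero.1 h3).symm hθy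
    · exact h3
  rw [hS0, mul_zero]

end Cfsg.Agent.Lib.H1.PQ
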