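import Mathlib
import Cfsg.Prelude.Def_Local
import Cfsg.Agent.Lib.H1.SolvableBasic
import Cfsg.Agent.Lib.H26.PSolvableExt

set_option autoImplicit false

namespace Cfsg.Agent.Lib.H1.PSolvOfSolv

open Cfsg

/-- An extension of a `p`-solvable group by a finite `p'`-group is `p`-solvable. -/
theorem isPSolvable_of_ker_coprime {G H : Type*} [Group G] [Group H] {p : ℕ} (f : G →* H)
    (hf : Function.Surjective f) (hker : (Nat.card f.ker).Coprime p)
    (hH : IsPSolvable p H) : IsPSolvable p G := by
  obtain ⟨n, K, h0, hlast, hmono, hnorm, hstep⟩ := hH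
  refine ⟨n + 1, Fin.cons ⊥ (fun i => (K i).comap f), ?_, ?_, ?_, ?_, ?_⟩
  · rfl
  · have : Fin.last (n + 1) = (Fin.last n).succ := rfl
    rw [this, Fin.cons_succ, hlast, Subgroup.comap_top]
  · rw [Fin.monotone_iff_le_succ]
    intro i
    rw [Fin.cons_succ]
    refine Fin.cases ?_ (fun j => ?_) i
    · show (⊥ : Subgroup G) ≤ _
      exact bot_le
    · have : (j.succ).castSucc = (j.castSucc).succ := rfl
      rw [this, Fin.cons_succ]
      exact Subgroup.comap_mono (hmono (Fin.castSucc_le_succ j))
  · intro i
    refine Fin.cases ?_ (fun j => ?_) i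
    · show (⊥ : Subgroup G).Normal
      infer_instance
    · rw [Fin.cons_succ]
      haveI := hnorm j
      infer_instance
  · intro i
    rw [Fin.cons_succ]
    refine Fin.cases ?_ (fun j => ?_) i
    · right
      show ((⊥ : Subgroup G).relIndex ((K 0).comap f)).Coprime p
      rw [Subgroup.relIndex_bot_left, h0]
      have : ((⊥ : Subgroup H).comap f) = f.ker := rfl
      rw [this]
      exact hker
    · have : (j.succ).castSucc = (j.castSucc).succ := rfl
      rw [this, Fin.cons_succ, Subgroup.relIndex_comap,
        Subgroup.map_comap_eq_self_of_surjective hf]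
      exact hstep j

universe u

theorem isPSolvable_of_isSolvable_aux (p : ℕ) [hp : Fact p.Prime] :
    ∀ n : ℕ, ∀ (G : Type u) [Group G] [Finite G], Nat.card G = n → Group.IsSolvable G →
      IsPSolvable p G := by
  intro n
  induction n using Nat.strong_induction_on with
  | _ n ih =>
  intro G _ _ hn hs
  rcases subsingleton_or_nontrivial G with hsub | hnt
  · refine ⟨0, fun _ => ⊥, rfl, ?_, fun _ _ _ => le_rfl, fun _ => inferInstance, fun i => i.elim0⟩
    exact Subsingleton.elim _ _
  · obtain ⟨q, hq, R, hRn, hRq, hRne⟩ := exists_normal_isPGroup_ne_bot_of_isSolvable (G := G)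
    have hlt : Nat.card (G ⧸ R) < n := by
      rw [← hn, ← Subgroup.index_eq_card, ← Subgroup.card_mul_index R]
      have h1 : 1 < Nat.card R := by
        rw [Finite.one_lt_card_iff_nontrivial]
        exact (Subgroup.nontrivial_iff_ne_bot R).mpr hRne
      have h2 : 0 < R.index := Nat.pos_of_ne_zero (Subgroup.index_ne_zero_of_finite)
      nlinarith
    have hsq : Group.IsSolvable (G ⧸ R) := inferInstance
    have hq' := ih _ hlt (G ⧸ R) rfl hsq
    have hsurj := QuotientGroup.mk'_surjective R
    by_cases hqp : q = p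
    · subst hqp
      have hker : IsPGroup q (QuotientGroup.mk' R).ker := by
        rw [QuotientGroup.ker_mk']; exact hRq
      exact Cfsg.Agent.Lib.H26.isPSolvable_of_ker_isPGroup (QuotientGroup.mk' R) hsurj hker hq'
    · apply isPSolvable_of_ker_coprime (QuotientGroup.mk' R) hsurj _ hq'
      rw [QuotientGroup.ker_mk']
      obtain ⟨k, hk⟩ := IsPGroup.iff_card.mp hRq
      rw [hk]
      exact Nat.Coprime.pow_left k ((Nat.coprime_primes hq.out hp.out).mpr hqp)

theorem isPSolvable_of_isSolvable (p : ℕ) [Fact p.Prime] (G : Type*) [Group G] [Finite G]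
    [hs : Group.IsSolvable G] : IsPSolvable p G :=
  isPSolvable_of_isSolvable_aux p _ G rfl hs

end Cfsg.Agent.Lib.H1.PSolvOfSolv
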