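import Mathlib
import Cfsg.Agent.Lib.H28.PSp4Defs
import Cfsg.Agent.Lib.H12.SL2Syl2

/-!
# S5320, piece E3 (helper1, twin): the `2`-element `s = (m/2) ⊗ [[1,-1],[1,1]]`, `m = x + s₀`,
normalizing `Et Q` and inverting `Δ(u)` modulo `Et Q`.
-/

set_option autoImplicit false
set_option linter.unusedSimpArgs false
set_option linter.unusedVariables false

namespace Cfsg.Agent.Lib.H1.PSp4

open Matrix Cfsg.Agent.Lib.H9.SqC Cfsg.Agent.Lib.H28.PSp4 Cfsg.Agent.Lib.H12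

variable {F : Type*} [Field F]

theorem adj_of_trace_zero (A : Matrix (Fin 2) (Fin 2) F) (h : A.trace = 0) :
    A.adjugate = -A := by
  rw [Matrix.adjugate_fin_two]
  rw [Matrix.trace_fin_two] at h
  ext a b
  fin_cases a <;> fin_cases b <;> simp
  · linear_combination h
  · linear_combination h

section Quat

variable {i j : Matrix (Fin 2) (Fin 2) F}

theorem q_mm (hii : i * i = -1) (hjj : j * j = -1) (hji : j * i = -(i * j)) :
    (i + j) * (i + j) = -(1 + 1) := by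
  simp only [mul_add, add_mul, hii, hjj, hji]
  abel

theorem q_mi (hii : i * i = -1) (hjj : j * j = -1) (hji : j * i = -(i * j)) :
    j * (i + j) = (i + j) * i := by
  simp only [mul_add, add_mul, hii, hjj, hji]
  abel

theorem q_mj (hii : i * i = -1) (hjj : j * j = -1) (hji : j * i = -(i * j)) :
    i * (i + j) = (i + j) * j := by
  simp only [mul_add, add_mul, hii, hjj, hji]
  abel

theorem q_mij (hii : i * i = -1) (hjj : j * j = -1) (hji : j * i = -(i * j)) :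
    (j * i) * (i + j) = (i + j) * (i * j) := by
  have hii' : ∀ z : Matrix (Fin 2) (Fin 2) F, i * (i * z) = -z := by
    intro z; rw [← mul_assoc, hii, neg_one_mul]
  have hjj' : ∀ z : Matrix (Fin 2) (Fin 2) F, j * (j * z) = -z := by
    intro z; rw [← mul_assoc, hjj, neg_one_mul]
  have hji' : ∀ z : Matrix (Fin 2) (Fin 2) F, j * (i * z) = -(i * (j * z)) := by
    intro z; rw [← mul_assoc, hji, neg_mul, mul_assoc]
  simp only [mul_add, add_mul, mul_assoc, hii, hjj, hji, hii', hjj', hji', mul_neg, neg_mul,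
    neg_neg, mul_one]
  try abel

theorem q_umu (hii : i * i = -1) (hjj : j * j = -1) (hji : j * i = -(i * j)) :
    (1 + i) * (1 + j) * (i + j) * ((1 + i) * (1 + j)) =
      j * (i + j) + j * (i + j) + (j * (i + j) + j * (i + j)) := by
  have hii' : ∀ z : Matrix (Fin 2) (Fin 2) F, i * (i * z) = -z := by
    intro z; rw [← mul_assoc, hii, neg_one_mul]
  have hjj' : ∀ z : Matrix (Fin 2) (Fin 2) F, j * (j * z) = -z := by
    intro z; rw [← mul_assoc, hjj, neg_one_mul]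
  have hji' : ∀ z : Matrix (Fin 2) (Fin 2) F, j * (i * z) = -(i * (j * z)) := by
    intro z; rw [← mul_assoc, hji, neg_mul, mul_assoc]
  simp only [mul_add, add_mul, mul_assoc, hii, hjj, hji, hii', hjj', hji', mul_neg, neg_mul,
    neg_neg, mul_one, one_mul]
  abel

end Quat

/-- the block matrix of `s = M ⊗ [[1,-1],[1,1]]` -/
theorem s_mem {M : Matrix (Fin 2) (Fin 2) F} (htr : M.trace = 0)
    (hMM : M * M + M * M = -1) :
    bm M (-M) M M ∈ Matrix.symplecticGroup (Fin 2) F := by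
  have htr' : (-M).trace = 0 := by rw [Matrix.trace_neg, htr, neg_zero]
  rw [bm_mem_iff, adj_of_trace_zero M htr, adj_of_trace_zero (-M) htr']
  simp only [mul_neg, neg_mul, neg_neg]
  refine ⟨?_, ?_, ?_, ?_⟩
  · rw [← neg_add, hMM, neg_neg]
  · exact neg_add_cancel _
  · exact neg_add_cancel _
  · rw [← neg_add, hMM, neg_neg]

section Conj

variable {M : Matrix (Fin 2) (Fin 2) F} {s : Sp4 F}

theorem s_mul_Ph (hs : s.1 = bm M (-M) M M) {a a' : SL2 F} (hrel : a'.1 * M = M * a.1) :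
    s * Ph a a = Ph a' a' * s := by
  apply Subtype.ext
  show s.1 * (Ph a a).1 = (Ph a' a').1 * s.1
  rw [hs, Ph_val, Ph_val, bm_mul, bm_mul]
  simp only [Matrix.mul_zero, Matrix.zero_mul, add_zero, zero_add, hrel, Matrix.mul_neg,
    Matrix.neg_mul, neg_zero]

theorem s_mul_Ph_neg (hs : s.1 = bm M (-M) M M) :
    s * Ph (-1) 1 = Ph (-1) (-1) * sw * s := by
  apply Subtype.ext
  show s.1 * (Ph (-1 : SL2 F) 1).1 = (Ph (-1 : SL2 F) (-1)).1 * (sw : Sp4 F).1 * s.1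
  rw [hs, Ph_val, Ph_val, sw_val, bm_mul, bm_mul, bm_mul]
  simp

theorem s_mul_sw (hs : s.1 = bm M (-M) M M) :
    s * sw = Ph (-1) 1 * s := by
  apply Subtype.ext
  show s.1 * (sw : Sp4 F).1 = (Ph (-1 : SL2 F) 1).1 * s.1
  rw [hs, Ph_val, sw_val, bm_mul, bm_mul]
  simp

theorem Ph_s_Ph (hs : s.1 = bm M (-M) M M) {u v : SL2 F} (hrel : u.1 * M * u.1 = v.1 * M) :
    Ph u u * s * Ph u u = Ph v v * s := by
  apply Subtype.ext
  show (Ph u u).1 * s.1 * (Ph u u).1 = (Ph v v).1 * s.1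
  rw [hs, Ph_val, Ph_val, bm_mul, bm_mul, bm_mul]
  simp only [Matrix.mul_zero, Matrix.zero_mul, add_zero, zero_add, Matrix.mul_neg,
    Matrix.neg_mul, neg_zero, hrel]

theorem s_pow_eight (hs : s.1 = bm M (-M) M M) (hMM : M * M + M * M = -1) : s ^ 8 = 1 := by
  have e : s ^ 8 = (s * s * (s * s)) * (s * s * (s * s)) := by
    simp only [pow_succ, pow_zero, one_mul, mul_assoc]
  rw [e]
  apply Subtype.ext
  show (s.1 * s.1 * (s.1 * s.1)) * (s.1 * s.1 * (s.1 * s.1)) = 1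
  have h1 : s.1 * s.1 = bm 0 1 (-1) 0 := by
    rw [hs, bm_mul]
    have e1 : M * M + -M * M = 0 := by rw [Matrix.neg_mul]; exact add_neg_cancel _
    have e2 : M * -M + -M * M = 1 := by
      rw [Matrix.neg_mul, Matrix.mul_neg, ← neg_add, hMM, neg_neg]
    have e3 : M * -M + M * M = 0 := by rw [Matrix.mul_neg]; exact neg_add_cancel _
    rw [e1, e2, e3, hMM]
  have h2 : (bm 0 1 (-1) 0 : Matrix (Fin 2 ⊕ Fin 2) (Fin 2 ⊕ Fin 2) F) * bm 0 1 (-1) 0 =
      bm (-1) 0 0 (-1) := by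
    rw [bm_mul]; simp
  have h3 : (bm (-1) 0 0 (-1) : Matrix (Fin 2 ⊕ Fin 2) (Fin 2 ⊕ Fin 2) F) * bm (-1) 0 0 (-1) =
      1 := by
    rw [bm_mul, ← bm_one]; simp
  rw [h1, h2, h3]

end Conj

/-- **E3**. The `2`-element `s = bm (m/2) (-m/2) (m/2) (m/2)`, `m = x + s₀`, normalizes `Et Q`
and inverts `Δ(u)` modulo `Et Q`. -/
theorem exists_two_elt (h2 : (2 : F) ≠ 0) {Q : Subgroup (SL2 F)} {x s₀ u : SL2 F}
    (h : Syl2Data Q x s₀)
    (hlist : ∀ q ∈ Q, q = 1 ∨ q = -1 ∨ q = x ∨ q = -x ∨ q = s₀ ∨ q = -s₀ ∨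
      q = x * s₀ ∨ q = -(x * s₀))
    (hu : (u : Matrix (Fin 2) (Fin 2) F) = (2 : F)⁻¹ • ((1 + (x : Matrix (Fin 2) (Fin 2) F)) *
        (1 + (s₀ : Matrix (Fin 2) (Fin 2) F)))) :
    ∃ s : Sp4 F, s ∈ Subgroup.normalizer (Et Q : Set (Sp4 F)) ∧ s ^ 8 = 1 ∧
      s * Ph u u * s⁻¹ = (Ph u u)⁻¹ * Ph s₀ s₀ := by
  have hii : (x.1 : Matrix (Fin 2) (Fin 2) F) * x.1 = -1 := coe_mul_self_neg_one h.xx
  have hss : s₀ * s₀ = -1 := mul_self_of_inverts (h.nonScalar h2) h.sx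
  have hjj : (s₀.1 : Matrix (Fin 2) (Fin 2) F) * s₀.1 = -1 := coe_mul_self_neg_one hss
  have hji : (s₀.1 : Matrix (Fin 2) (Fin 2) F) * x.1 = -(x.1 * s₀.1) := by
    have h1 : s₀ * x = x⁻¹ * s₀ := by rw [← h.sx]; group
    rw [inv_eq_neg_of_mul_self x h.xx] at h1
    have h3 := congrArg (fun g : SL2 F => (g.1 : Matrix (Fin 2) (Fin 2) F)) h1
    simpa using h3
  have hc2 : (2 : F)⁻¹ * 2 = 1 := inv_mul_cancel₀ h2
  obtain ⟨M, hM⟩ : ∃ M : Matrix (Fin 2) (Fin 2) F, M = (2 : F)⁻¹ • (x.1 + s₀.1) := ⟨_, rfl⟩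
  have htr : M.trace = 0 := by
    rw [hM, Matrix.trace_smul, Matrix.trace_add, trace_eq_zero_of_mul_self x h.xx,
      trace_eq_zero_of_mul_self s₀ hss]
    simp
  have hMM : M * M + M * M = -1 := by
    have hc : (2 : F)⁻¹ * (2 : F)⁻¹ * 2 + (2 : F)⁻¹ * (2 : F)⁻¹ * 2 = 1 := by
      rw [mul_assoc, hc2, mul_one, ← two_mul, mul_comm, hc2]
    rw [hM, smul_mul_smul_comm, q_mm hii hjj hji,
      ← two_smul F (1 : Matrix (Fin 2) (Fin 2) F), smul_neg, smul_smul, ← neg_add, ← add_smul,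
      hc, one_smul]
  obtain ⟨s, hs⟩ : ∃ s : Sp4 F, s.1 = bm M (-M) M M := ⟨⟨_, s_mem htr hMM⟩, rfl⟩
  have hs8 : s ^ 8 = 1 := s_pow_eight hs hMM
  -- the relation `a' m = m a` scaled to `M`
  have hscale : ∀ a a' : SL2 F, a'.1 * (x.1 + s₀.1) = (x.1 + s₀.1) * a.1 → a'.1 * M = M * a.1 := by
    intro a a' hr
    rw [hM, Matrix.mul_smul, Matrix.smul_mul, hr]
  have hnegQ : (-1 : SL2 F) ∈ Q := by rw [← h.xx]; exact Q.mul_mem h.xS h.xS
  have hneg : ∀ a ∈ Q, -a ∈ Q := by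
    intro a ha
    have : -a = (-1) * a := by simp
    rw [this]; exact Q.mul_mem hnegQ ha
  -- conjugation of the generators of `Et Q`
  have hE1 : ∀ a ∈ Q, Ph a a ∈ Et Q := fun a ha =>
    Subgroup.mem_sup_left (Subgroup.mem_sup_left ⟨a, ha, rfl⟩)
  have hE2 : Ph (-1) 1 ∈ Et Q :=
    Subgroup.mem_sup_left (Subgroup.mem_sup_right (Subgroup.mem_zpowers _))
  have hE3 : (sw : Sp4 F) ∈ Et Q := Subgroup.mem_sup_right (Subgroup.mem_zpowers _)
  have hex : ∀ a ∈ Q, ∃ a' ∈ Q, a'.1 * (x.1 + s₀.1) = (x.1 + s₀.1) * a.1 := by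
    intro a ha
    rcases hlist a ha with rfl | rfl | rfl | rfl | rfl | rfl | rfl | rfl
    · exact ⟨1, Q.one_mem, by simp⟩
    · exact ⟨-1, hnegQ, by simp⟩
    · exact ⟨s₀, h.sS, q_mi hii hjj hji⟩
    · refine ⟨-s₀, hneg _ h.sS, ?_⟩
      have := q_mi hii hjj hji
      simp only [Matrix.SpecialLinearGroup.coe_neg, Matrix.neg_mul, Matrix.mul_neg, this]
    · exact ⟨x, h.xS, q_mj hii hjj hji⟩
    · refine ⟨-x, hneg _ h.xS, ?_⟩
      have := q_mj hii hjj hji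
      simp only [Matrix.SpecialLinearGroup.coe_neg, Matrix.neg_mul, Matrix.mul_neg, this]
    · refine ⟨s₀ * x, Q.mul_mem h.sS h.xS, ?_⟩
      exact q_mij hii hjj hji
    · refine ⟨-(s₀ * x), hneg _ (Q.mul_mem h.sS h.xS), ?_⟩
      have := q_mij hii hjj hji
      simp only [Matrix.SpecialLinearGroup.coe_neg, Matrix.SpecialLinearGroup.coe_mul,
        Matrix.neg_mul, Matrix.mul_neg, this]
  have hconj : ∀ g ∈ Et Q, s * g * s⁻¹ ∈ Et Q := by
    have key : Et Q ≤ (Et Q).comap (MulAut.conj s).toMonoidHom := by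
      show Q.map Dg ⊔ Subgroup.zpowers (Ph (-1) 1) ⊔ Subgroup.zpowers sw ≤ _
      refine sup_le (sup_le ?_ ?_) ?_
      · rintro _ ⟨a, ha, rfl⟩
        obtain ⟨a', ha', hr⟩ := hex a ha
        show s * Ph a a * s⁻¹ ∈ Et Q
        rw [s_mul_Ph hs (hscale a a' hr), mul_inv_cancel_right]
        exact hE1 a' ha'
      · rw [Subgroup.zpowers_le]
        show s * Ph (-1) 1 * s⁻¹ ∈ Et Q
        rw [s_mul_Ph_neg hs, mul_inv_cancel_right]
        exact (Et Q).mul_mem (hE1 _ hnegQ) hE3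
      · rw [Subgroup.zpowers_le]
        show s * sw * s⁻¹ ∈ Et Q
        rw [s_mul_sw hs, mul_inv_cancel_right]
        exact hE2
    intro g hg
    exact key hg
  have hpow : ∀ n : ℕ, ∀ g ∈ Et Q, s ^ n * g * (s ^ n)⁻¹ ∈ Et Q := by
    intro n
    induction n with
    | zero => intro g hg; simpa using hg
    | succ n ih =>
      intro g hg
      have e : s ^ (n + 1) * g * (s ^ (n + 1))⁻¹ = s * (s ^ n * g * (s ^ n)⁻¹) * s⁻¹ := by
        rw [pow_succ']; group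
      rw [e]
      exact hconj _ (ih g hg)
  have hinv : s⁻¹ = s ^ 7 := by
    apply inv_eq_of_mul_eq_one_right
    rw [← pow_succ']
    exact hs8
  refine ⟨s, ?_, hs8, ?_⟩
  · rw [Subgroup.mem_normalizer_iff]
    intro g
    constructor
    · exact hconj g
    · intro hg
      have := hpow 7 _ hg
      rw [← hinv] at this
      have e : s⁻¹ * (s * g * s⁻¹) * s⁻¹⁻¹ = g := by group
      rwa [e] at this
  · -- `u m u = s₀ m`
    have hrel : u.1 * M * u.1 = s₀.1 * M := by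
      have hc4 : (2 : F)⁻¹ * ((2 : F)⁻¹ * (2 : F)⁻¹) * 4 = (2 : F)⁻¹ := by
        have : (4 : F) = 2 * 2 := by norm_num
        rw [this, mul_assoc, mul_assoc, ← mul_assoc (2 : F)⁻¹ 2 2, hc2, one_mul, hc2, mul_one]
      have hW : ∀ W : Matrix (Fin 2) (Fin 2) F, W + W + (W + W) = (4 : F) • W := by
        intro W; module
      have e1 : u.1 * M * u.1 = ((2 : F)⁻¹ * ((2 : F)⁻¹ * (2 : F)⁻¹)) •
          ((1 + x.1) * (1 + s₀.1) * (x.1 + s₀.1) * ((1 + x.1) * (1 + s₀.1))) := by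
        rw [hu, hM]
        simp only [Matrix.smul_mul, Matrix.mul_smul, smul_smul]
      have e2 : s₀.1 * M = (2 : F)⁻¹ • (s₀.1 * (x.1 + s₀.1)) := by
        rw [hM, Matrix.mul_smul]
      rw [e1, e2, q_umu hii hjj hji, hW, smul_smul, hc4]
    have e := Ph_s_Ph hs hrel
    calc s * Ph u u * s⁻¹ = (Ph u u)⁻¹ * (Ph u u * s * Ph u u) * s⁻¹ := by group
      _ = (Ph u u)⁻¹ * Ph s₀ s₀ := by rw [e]; group

end Cfsg.Agent.Lib.H1.PSp4
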