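import Mathlib
import Cfsg.Prelude.Def_FusionSystem
import Cfsg.Agent.Lib.H11.RK2Fus0
import Cfsg.Agent.Lib.H11.RK2Pieces
import Cfsg.Agent.Lib.H16.ClassTwo
import Cfsg.Agent.Lib.H16.OmegaQuotA
import Cfsg.Agent.Lib.H16.R2ActD

/-!
# S5239 (architect helper22), piece FEXP (helper1): a nonabelian essential subgroup of order `27`
has exponent `3`.
-/

set_option autoImplicit false

namespace Cfsg.Agent.Lib.H1.Pearl

open scoped commutatorElement

section Order27

variable {T : Type*} [Group T] [Finite T]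

/-- the "commutator" `c` with `k * g = g * k * c` in a nonabelian group of order `27` is central of
order dividing `3` -/
theorem comm_data_of_card_27 (hT : Nat.card T = 27) (hna : ¬ ∀ a b : T, a * b = b * a) (g k : T) :
    ∃ c : T, k * g = g * k * c ∧ (∀ z : T, Commute c z) ∧ c ^ 3 = 1 := by
  have h27 : Nat.card T = 3 ^ 3 := by rw [hT]; norm_num
  refine ⟨⁅k⁻¹, g⁻¹⁆, ?_, ?_, ?_⟩
  · rw [commutatorElement_def]; group
  · intro z
    exact Cfsg.Agent.Lib.H16.OmegaQuot.commute_commutator_of_card_cube h27 _ _ z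
  · have hcen : ∀ z : T, Commute ⁅k⁻¹, g⁻¹⁆ z := fun z =>
      Cfsg.Agent.Lib.H16.OmegaQuot.commute_commutator_of_card_cube h27 _ _ z
    have hcZ : ⁅k⁻¹, g⁻¹⁆ ∈ Subgroup.center T :=
      Subgroup.mem_center_iff.mpr (fun z => (hcen z).eq.symm)
    have hZ : Nat.card (Subgroup.center T) = 3 :=
      Cfsg.Agent.Lib.H16.R2A.card_center_of_card_cube h27 hna
    have h1 : (⟨⁅k⁻¹, g⁻¹⁆, hcZ⟩ : Subgroup.center T) ^ Nat.card (Subgroup.center T) = 1 :=
      pow_card_eq_one'
    rw [hZ] at h1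
    exact congrArg Subtype.val h1

theorem cube_mul_of_card_27 (hT : Nat.card T = 27) (hna : ¬ ∀ a b : T, a * b = b * a) (g k : T) :
    (g * k) ^ 3 = g ^ 3 * k ^ 3 := by
  obtain ⟨c, hkg, hcen, hc3⟩ := comm_data_of_card_27 hT hna g k
  exact Cfsg.Agent.Lib.H16.mul_pow_eq_of_central hkg (hcen g) (hcen k) (by decide) hc3

theorem cube_mem_center_of_card_27 (hT : Nat.card T = 27) (hna : ¬ ∀ a b : T, a * b = b * a)
    (g : T) : g ^ 3 ∈ Subgroup.center T := by
  rw [Subgroup.mem_center_iff]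
  intro z
  obtain ⟨c, hgz, hcen, hc3⟩ := comm_data_of_card_27 hT hna z g
  have := Cfsg.Agent.Lib.H16.pow_mul_comm_of_central hgz (hcen g) 3
  rw [hc3, mul_one] at this
  exact this.symm

end Order27

/-- **FEXP**. -/
theorem exponent_three_of_essential {Ω : Type*} [Group Ω] {S : Subgroup Ω} [Finite S]
    (hS : IsPGroup 3 S)
    {F : Cfsg.FusionSystem S} (hF : F.IsSaturated 3) {E : Subgroup Ω} (hess : F.IsEssential 3 E)
    (hE : Nat.card ↥E = 27) (hna : ∃ a ∈ E, ∃ b ∈ E, a * b ≠ b * a) : ∀ a ∈ E, a ^ 3 = 1 := by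
  by_contra hcon
  push Not at hcon
  obtain ⟨a, haE, ha3⟩ := hcon
  have hES : E ≤ S := hess.1.1
  haveI : Finite E := Nat.finite_of_card_ne_zero (by rw [hE]; norm_num)
  have hEp : IsPGroup 3 E := hS.to_le hES
  have hnaT : ¬ ∀ a b : E, a * b = b * a := by
    obtain ⟨a, ha, b, hb, hab⟩ := hna
    intro h
    apply hab
    exact congrArg Subtype.val (h ⟨a, ha⟩ ⟨b, hb⟩)
  have h27 : Nat.card ↥E = 3 ^ 3 := by rw [hE]; norm_num
  have hZ : Nat.card (Subgroup.center E) = 3 :=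
    Cfsg.Agent.Lib.H16.R2A.card_center_of_card_cube h27 hnaT
  have hcyc : IsCyclic (Subgroup.center E) := isCyclic_of_prime_card (p := 3) hZ
  have hne : ∃ g : E, g ^ 3 ≠ 1 := by
    refine ⟨⟨a, haE⟩, fun h => ha3 ?_⟩
    have := congrArg Subtype.val h
    simpa using this
  have hker : Nat.card {g : E // g ^ 3 = 1} < 3 ^ 3 := by
    obtain ⟨g₀, hg₀⟩ := hne
    rw [← h27]
    classical
    haveI : Fintype E := Fintype.ofFinite E
    rw [Nat.card_eq_fintype_card, Nat.card_eq_fintype_card]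
    exact Fintype.card_subtype_lt (x := g₀) hg₀
  obtain ⟨cc, hcd, h0, h3⟩ := Cfsg.Agent.Lib.H11.RK2P.chain_cycData hEp
    (cube_mul_of_card_27 hE hnaT) (Subgroup.center E) hcyc
    (cube_mem_center_of_card_27 hE hnaT) hker hne (F.autGroup E)
  exact Cfsg.Agent.Lib.H11.RK2.not_essential_of_cycData hS hF hess cc 3 hcd h0 h3

end Cfsg.Agent.Lib.H1.Pearl
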