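import Mathlib

set_option autoImplicit false
open Pointwise

namespace Cfsg.Agent.Lib.H1

variable {G : Type*} [Group G]

/-- If `H K = K H` as sets then `H K` is (the carrier of) the join `H ⊔ K`. -/
theorem coe_sup_of_mul_comm {H K : Subgroup G} (h : (H : Set G) * (K : Set G) = (K : Set G) * H) :
    ((H ⊔ K : Subgroup G) : Set G) = (H : Set G) * (K : Set G) := by
  let L : Subgroup G :=
    { carrier := (H : Set G) * (K : Set G)
      one_mem' := ⟨1, H.one_mem, 1, K.one_mem, one_mul 1⟩
      mul_mem' := by
        rintro _ _ ⟨a, ha, b, hb, rfl⟩ ⟨c, hc, d, hd, rfl⟩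
        have hbc : b * c ∈ (K : Set G) * (H : Set G) := ⟨b, hb, c, hc, rfl⟩
        rw [← h] at hbc
        obtain ⟨c', hc', b', hb', hcb⟩ := hbc
        have hcb : c' * b' = b * c := hcb
        refine ⟨a * c', H.mul_mem ha hc', b' * d, K.mul_mem hb' hd, ?_⟩
        calc a * c' * (b' * d) = a * (c' * b') * d := by group
          _ = a * (b * c) * d := by rw [hcb]
          _ = a * b * (c * d) := by group
      inv_mem' := by
        rintro _ ⟨a, ha, b, hb, rfl⟩
        have : (a * b)⁻¹ ∈ (K : Set G) * (H : Set G) :=
          ⟨b⁻¹, K.inv_mem hb, a⁻¹, H.inv_mem ha, by group⟩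
        rw [← h] at this
        exact this }
  have hL : H ⊔ K = L := by
    apply le_antisymm
    · apply sup_le
      · intro x hx
        exact ⟨x, hx, 1, K.one_mem, mul_one x⟩
      · intro x hx
        exact ⟨1, H.one_mem, x, hx, one_mul x⟩
    · rintro _ ⟨a, ha, b, hb, rfl⟩
      exact Subgroup.mul_mem _ (Subgroup.mem_sup_left ha) (Subgroup.mem_sup_right hb)
  rw [hL]
  rfl

/-- The join of a finite family of pairwise permutable subgroups of pairwise coprime orders has
order the product of the orders, and permutes with every member of the family. -/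
theorem card_biSup_of_permutable [Finite G] {ι : Type*} (S : ι → Subgroup G)
    (hperm : ∀ i j, (S i : Set G) * (S j : Set G) = (S j : Set G) * (S i : Set G))
    (hcop : ∀ i j, i ≠ j → (Nat.card (S i)).Coprime (Nat.card (S j))) (T : Finset ι) :
    Nat.card (⨆ i ∈ T, S i : Subgroup G) = ∏ i ∈ T, Nat.card (S i) ∧
      ∀ j, ((⨆ i ∈ T, S i : Subgroup G) : Set G) * (S j : Set G) =
        (S j : Set G) * ((⨆ i ∈ T, S i : Subgroup G) : Set G) := by
  classical
  induction T using Finset.induction_on with
  | empty =>
    constructor
    · simp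
    · intro j
      simp only [Finset.notMem_empty, not_false_eq_true, iSup_neg, iSup_bot, Subgroup.coe_bot]
      rw [Set.singleton_mul, Set.mul_singleton]
      simp
  | insert a T ha ih =>
    obtain ⟨ihc, ihp⟩ := ih
    set H := (⨆ i ∈ T, S i : Subgroup G) with hH
    have hsup : (⨆ i ∈ insert a T, S i : Subgroup G) = S a ⊔ H := Finset.iSup_insert a T S
    have hcoe : ((S a ⊔ H : Subgroup G) : Set G) = (S a : Set G) * (H : Set G) :=
      coe_sup_of_mul_comm (ihp a).symm
    rw [hsup]
    constructor
    · rw [Finset.prod_insert ha, ← ihc]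
      apply Nat.le_antisymm
      · have h1 : Nat.card (S a ⊔ H : Subgroup G) =
            Nat.card ((S a : Set G) * (H : Set G) : Set G) := by
          rw [← hcoe]
          rfl
        rw [h1]
        exact Set.natCard_mul_le
      · apply Nat.le_of_dvd Nat.card_pos
        apply Nat.Coprime.mul_dvd_of_dvd_of_dvd
        · rw [ihc]
          apply Nat.Coprime.prod_right
          intro i hi
          apply hcop
          rintro rfl
          exact ha hi
        · exact Subgroup.card_dvd_of_le le_sup_left
        · exact Subgroup.card_dvd_of_le le_sup_right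
    · intro j
      rw [hcoe, mul_assoc, ihp j, ← mul_assoc, hperm a j, mul_assoc]

end Cfsg.Agent.Lib.H1
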