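import Mathlib
import Cfsg.Prelude.Def_OddOrderLocal
import Cfsg.Prelude.Def_CaseTheorems
import Cfsg.Prelude.Def_PLocal
import Cfsg.Agent.Lib.H19.R2Defs
import Cfsg.Agent.Lib.H22.UniqueOrderP
import Cfsg.Agent.Lib.H9.R2C1E
import Cfsg.Agent.Lib.H20.R2C1SPLIT

/-!
# S3888 piece C1A (helper1): Case 1, structure A (`G = E * Z(G)`, `Z(G)` cyclic) gives `T2`
-/

set_option autoImplicit false

namespace Cfsg.Agent.Lib.H1.R2

open Cfsg Cfsg.Agent.Lib.H19.R2
open scoped commutatorElement

universe u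

variable {p : ℕ} [Fact p.Prime] {G : Type u} [Group G] [Finite G]

omit [Fact p.Prime] in
/-- product formula: `|H ⊔ K| * |H ⊓ K| = |H| * |K|` for `K` normal -/
theorem card_sup_mul_card_inf (H K : Subgroup G) [K.Normal] :
    Nat.card ↥(H ⊔ K) * Nat.card ↥(H ⊓ K) = Nat.card ↥H * Nat.card ↥K := by
  have h1 : Nat.card ↥(H ⊔ K) = Nat.card ↥K * K.relIndex H := by
    rw [← Subgroup.relIndex_bot_left, ← Subgroup.relIndex_bot_left (H := K),
      ← Subgroup.relIndex_sup_right (K := K) (H := H)]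
    exact (Subgroup.relIndex_mul_relIndex ⊥ K (H ⊔ K) bot_le le_sup_right).symm
  have h2 : Nat.card ↥H = Nat.card ↥(H ⊓ K) * K.relIndex H := by
    rw [← Subgroup.relIndex_bot_left, ← Subgroup.relIndex_bot_left (H := H ⊓ K),
      ← Subgroup.inf_relIndex_left H K]
    exact (Subgroup.relIndex_mul_relIndex ⊥ (H ⊓ K) H bot_le inf_le_left).symm
  rw [h1, h2]
  ring

/-- a subgroup of prime order is generated by any of its nontrivial elements -/
theorem eq_zpowers_of_card_prime {Z : Subgroup G} (hZ : Nat.card ↥Z = p) {g : G} (hg : g ∈ Z)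
    (hg1 : g ≠ 1) : Z = Subgroup.zpowers g := by
  have hp : p.Prime := Fact.out
  symm
  apply Subgroup.eq_of_le_of_card_ge (Subgroup.zpowers_le.mpr hg)
  have hgp : g ^ p = 1 := by
    have h1 : (⟨g, hg⟩ : ↥Z) ^ Nat.card ↥Z = 1 := pow_card_eq_one'
    rw [hZ] at h1
    exact congrArg Subtype.val h1
  rw [Nat.card_zpowers, orderOf_eq_prime hgp hg1, hZ]

/-- C1A. -/
theorem c1_A (hp2 : p ≠ 2) {n : ℕ} (hcard : Nat.card G = p ^ n) {N : Subgroup G} {x : G}
    (h : C1 p G N x) (hA : StructA N x) :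
    T2 p n G ∧ ∀ g : G, g ^ p = 1 → g ∈ N ⊔ Subgroup.zpowers x := by
  have hp : p.Prime := Fact.out
  obtain ⟨hE3, hEexp, hZp, hcomm, hrk⟩ := Cfsg.Agent.Lib.H9.R2.c1_E hp2 h
  obtain ⟨z, hzx, hzN, hgen⟩ := hA
  have hNn := h.nd.normal
  have hG : IsPGroup p G := IsPGroup.of_card hcard
  -- an element commuting with `N`, `x`, `z` is central
  have hcen : ∀ g : G, (∀ a ∈ N, g * a = a * g) → g * x = x * g → g * z = z * g →
      g ∈ Subgroup.center G := by
    intro g h1 h2 h3
    rw [Subgroup.mem_center_iff]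
    have hle : (⊤ : Subgroup G) ≤ Subgroup.centralizer {g} := by
      rw [← hgen]
      refine sup_le (sup_le ?_ ?_) ?_
      · intro a ha
        rw [Subgroup.mem_centralizer_iff]
        rintro _ rfl
        exact h1 a ha
      · rw [Subgroup.zpowers_le, Subgroup.mem_centralizer_iff]
        rintro _ rfl
        exact h2
      · rw [Subgroup.zpowers_le, Subgroup.mem_centralizer_iff]
        rintro _ rfl
        exact h3
    intro k
    have hk := hle (Subgroup.mem_top k)
    rw [Subgroup.mem_centralizer_iff] at hk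
    exact (hk g rfl).symm
  have hzW : z ∈ Subgroup.center G := hcen z hzN hzx rfl
  have hZW : N ⊓ Subgroup.centralizer ({x} : Set G) ≤ Subgroup.center G := by
    rintro c ⟨hcN, hcx⟩
    apply hcen c
    · intro a ha
      exact h.nd.comm c hcN a ha
    · exact ((Subgroup.mem_centralizer_iff.mp hcx) x rfl).symm
    · exact (Subgroup.mem_center_iff.mp hzW) c
  -- elements of order `p` of the centre lie in `Z`
  have hWp : ∀ g ∈ Subgroup.center G, g ^ p = 1 → g ∈ N ⊓ Subgroup.centralizer ({x} : Set G) := by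
    intro g hg hgp
    have hgc := Subgroup.mem_center_iff.mp hg
    refine ⟨hrk g hgp ?_, ?_⟩
    · rw [Subgroup.mem_centralizer_iff]
      intro a _
      exact hgc a
    · show g ∈ Subgroup.centralizer ({x} : Set G)
      rw [Subgroup.mem_centralizer_iff]
      rintro _ rfl
      exact hgc _
  -- the centre is cyclic
  have hWcyc : IsCyclic ↥(Subgroup.center G) := by
    apply Cfsg.Agent.Lib.H22.isCyclic_of_atMostOne_of_odd hp2 (Nat.card ↥(Subgroup.center G))
      ↥(Subgroup.center G) rfl (hG.to_subgroup _)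
    have key : ∀ H : Subgroup ↥(Subgroup.center G), Nat.card H = p →
        H.map (Subgroup.center G).subtype = N ⊓ Subgroup.centralizer ({x} : Set G) := by
      intro H hH
      have hc : Nat.card ↥(H.map (Subgroup.center G).subtype) = p := by
        rw [Subgroup.card_map_of_injective (Subgroup.center G).subtype_injective, hH]
      apply Subgroup.eq_of_le_of_card_ge
      · intro g hg
        apply hWp g (Subgroup.map_subtype_le H hg)
        have h1 : (⟨g, hg⟩ : ↥(H.map (Subgroup.center G).subtype)) ^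
            Nat.card ↥(H.map (Subgroup.center G).subtype) = 1 := pow_card_eq_one'
        rw [hc] at h1
        exact congrArg Subtype.val h1
      · rw [hc, hZp]
    intro H K hH hK
    exact Subgroup.map_injective (Subgroup.center G).subtype_injective
      ((key H hH).trans (key K hK).symm)
  obtain ⟨z₁, hz₁⟩ := hWcyc.exists_generator
  -- `E ⊔ W = ⊤`, `E ⊓ W = Z`
  have hEW : (N ⊔ Subgroup.zpowers x) ⊔ Subgroup.center G = ⊤ := by
    rw [eq_top_iff, ← hgen]
    exact sup_le le_sup_left ((Subgroup.zpowers_le.mpr hzW).trans le_sup_right)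
  have hEWi : (N ⊔ Subgroup.zpowers x) ⊓ Subgroup.center G =
      N ⊓ Subgroup.centralizer ({x} : Set G) := by
    apply le_antisymm
    · rintro g ⟨hgE, hgW⟩
      exact hWp g hgW (hEexp g hgE)
    · exact le_inf (inf_le_left.trans le_sup_left) hZW
  -- the order of the centre
  have hWcard : Nat.card ↥(Subgroup.center G) = p ^ (n - 2) ∧ 3 ≤ n := by
    have h1 := card_sup_mul_card_inf (N ⊔ Subgroup.zpowers x) (Subgroup.center G)
    rw [hEW, hEWi, Subgroup.card_top, hcard, hZp, hE3] at h1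
    obtain ⟨k, hk⟩ := (hG.to_subgroup (Subgroup.center G)).exists_card_eq
    rw [hk, ← pow_succ, ← pow_add] at h1
    have h2 : n + 1 = 3 + k := Nat.pow_right_injective hp.two_le h1
    have hk1 : k ≠ 0 := by
      rintro rfl
      have h3 : Nat.card ↥(N ⊓ Subgroup.centralizer ({x} : Set G)) ≤
          Nat.card ↥(Subgroup.center G) := Subgroup.card_le_of_le hZW
      rw [hZp, hk, pow_zero] at h3
      exact absurd hp.one_lt (not_lt.mpr h3)
    have hk2 : k = n - 2 := by omega
    exact ⟨by rw [hk, hk2], by omega⟩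
  obtain ⟨hWc, h3n⟩ := hWcard
  have hord : orderOf (z₁ : G) = p ^ (n - 2) := by
    rw [Subgroup.orderOf_coe, orderOf_eq_card_of_forall_mem_zpowers hz₁, hWc]
  have hz1c : ∀ g : G, g * (z₁ : G) = (z₁ : G) * g := Subgroup.mem_center_iff.mp z₁.2
  -- the element `w₀` of order `p`
  have hw0p : ((z₁ : G) ^ p ^ (n - 3)) ^ p = 1 := by
    rw [← pow_mul, ← pow_succ, show n - 3 + 1 = n - 2 by omega, ← hord]
    exact pow_orderOf_eq_one _
  have hw0ne : (z₁ : G) ^ p ^ (n - 3) ≠ 1 := by
    apply pow_ne_one_of_lt_orderOf (pow_pos hp.pos _).ne'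
    rw [hord]
    exact Nat.pow_lt_pow_right hp.one_lt (by omega)
  have hw0Z : (z₁ : G) ^ p ^ (n - 3) ∈ N ⊓ Subgroup.centralizer ({x} : Set G) :=
    hWp _ (Subgroup.pow_mem _ z₁.2 _) hw0p
  -- an element of `N` not commuting with `x`
  obtain ⟨a, ha, hax⟩ : ∃ a ∈ N, a * x ≠ x * a := by
    have := h.hxC
    rw [Subgroup.mem_centralizer_iff] at this
    push Not at this
    exact this
  have hcZ := hcomm a ha
  have hc1 : a⁻¹ * x⁻¹ * a * x ≠ 1 := by
    intro hc
    apply hax
    have : a * x = (x * a) * (a⁻¹ * x⁻¹ * a * x) := by group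
    rw [this, hc, mul_one]
  have hZc := eq_zpowers_of_card_prime hZp hcZ hc1
  obtain ⟨i, hi⟩ : ∃ i : ℤ, (a⁻¹ * x⁻¹ * a * x) ^ i = (z₁ : G) ^ p ^ (n - 3) := by
    have := hw0Z
    rw [hZc] at this
    exact Subgroup.mem_zpowers_iff.mp this
  have hyN : a ^ i ∈ N := Subgroup.zpow_mem _ ha i
  have hyx : x⁻¹ * a ^ i * x = a ^ i * (z₁ : G) ^ p ^ (n - 3) := by
    have h1 : x⁻¹ * a * x = a * (a⁻¹ * x⁻¹ * a * x) := by group
    have h2 : x⁻¹ * a ^ i * x = (x⁻¹ * a * x) ^ i := by
      have := (conj_zpow (i := i) (a := x⁻¹) (b := a)).symm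
      rwa [inv_inv] at this
    have h3 : Commute a (a⁻¹ * x⁻¹ * a * x) := h.nd.comm a ha _ hcZ.1
    rw [h2, h1, h3.mul_zpow, hi]
  have hyZ : a ^ i ∉ N ⊓ Subgroup.centralizer ({x} : Set G) := by
    rintro ⟨-, hyc⟩
    have h1 : x * a ^ i = a ^ i * x := (Subgroup.mem_centralizer_iff.mp hyc) x rfl
    apply hw0ne
    have h2 : x⁻¹ * a ^ i * x = a ^ i := by
      rw [mul_assoc, ← h1, ← mul_assoc, inv_mul_cancel, one_mul]
    rw [h2] at hyx
    exact (mul_eq_left.mp hyx.symm)
  have hNeq := Cfsg.Agent.Lib.H20.R2.sup_zpowers_eq_of_card h.nd.card hZp inf_le_left hyN hyZ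
  have hZw := eq_zpowers_of_card_prime hZp hw0Z hw0ne
  -- generation
  have hclos : Subgroup.closure ({x, a ^ i, (z₁ : G)} : Set G) = ⊤ := by
    have hxm : x ∈ Subgroup.closure ({x, a ^ i, (z₁ : G)} : Set G) :=
      Subgroup.subset_closure (by simp)
    have hym : a ^ i ∈ Subgroup.closure ({x, a ^ i, (z₁ : G)} : Set G) :=
      Subgroup.subset_closure (by simp)
    have hzm : (z₁ : G) ∈ Subgroup.closure ({x, a ^ i, (z₁ : G)} : Set G) :=
      Subgroup.subset_closure (by simp)
    rw [eq_top_iff, ← hgen]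
    refine sup_le (sup_le ?_ (Subgroup.zpowers_le.mpr hxm)) ?_
    · rw [← hNeq, hZw]
      exact sup_le (Subgroup.zpowers_le.mpr (Subgroup.pow_mem _ hzm _)) (Subgroup.zpowers_le.mpr hym)
    · rw [Subgroup.zpowers_le]
      obtain ⟨k, hk⟩ := Subgroup.mem_zpowers_iff.mp (hz₁ ⟨z, hzW⟩)
      have : z = (z₁ : G) ^ k := by
        have := congrArg Subtype.val hk
        simpa using this.symm
      rw [this]
      exact Subgroup.zpow_mem _ hzm k
  refine ⟨⟨h3n, x, a ^ i, (z₁ : G), hclos, h.hx, h.nd.exp _ hyN, ?_, hz1c x, hz1c _, hyx⟩, ?_⟩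
  · rw [← hord]
    exact pow_orderOf_eq_one _
  · intro g hg
    have hgm : g ∈ (N ⊔ Subgroup.zpowers x) ⊔ Subgroup.center G := by
      rw [hEW]
      exact Subgroup.mem_top g
    obtain ⟨e, he, w, hw, rfl⟩ := Subgroup.mem_sup_of_normal_right.mp hgm
    have hwc := Subgroup.mem_center_iff.mp hw
    have h1 : (e * w) ^ p = e ^ p * w ^ p := (show Commute e w from hwc e).mul_pow p
    rw [h1, hEexp e he, one_mul] at hg
    have hwZ := hWp w hw hg
    exact Subgroup.mul_mem _ he ((inf_le_left.trans le_sup_left : _ ≤ N ⊔ Subgroup.zpowers x) hwZ)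

end Cfsg.Agent.Lib.H1.R2
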