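import Mathlib
import Cfsg.Prelude.Def_OddOrderLocal
import Cfsg.Prelude.Def_CaseTheorems
import Cfsg.Prelude.Def_PLocal
import Cfsg.Agent.Lib.H19.R2Defs
import Cfsg.Agent.Lib.H22.UniqueOrderP

/-!
# S3888 piece K2MAX (helper1): under (H2), a maximal subgroup is cyclic or contains `N`
-/

set_option autoImplicit false

namespace Cfsg.Agent.Lib.H1.R2

open Cfsg Cfsg.Agent.Lib.H19.R2
open scoped commutatorElement

universe u

variable {p : ℕ} [Fact p.Prime] {G : Type u} [Group G] [Finite G]

/-- a subgroup of order `p` of a group all of whose elements of order `p` lie in `N` is inside `N` -/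
theorem le_of_card_eq_prime_of_h2 {N : Subgroup G} (h : H2 p G N) (K : Subgroup G)
    (hK : Nat.card K = p) : K ≤ N := by
  intro g hg
  apply h.2
  have h1 : (⟨g, hg⟩ : K) ^ Nat.card K = 1 := pow_card_eq_one'
  rw [hK] at h1
  exact congrArg Subtype.val h1

/-- under (H2), a subgroup not containing `N` has at most one subgroup of order `p` -/
theorem atMostOne_of_h2_of_not_le {N : Subgroup G} (h : H2 p G N) (M : Subgroup G)
    (hNM : ¬ N ≤ M) : Cfsg.Agent.Lib.H22.AtMostOneOrderP p ↥M := by
  have hp : p.Prime := Fact.out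
  -- `N ⊓ M` is a proper subgroup of `N`
  have hlt : N ⊓ M < N := lt_of_le_of_ne inf_le_left (fun he => hNM (he ▸ inf_le_right))
  have hdvd : Nat.card ↥(N ⊓ M) ∣ p ^ 2 := by
    rw [← h.1.card]
    exact Subgroup.card_dvd_of_le inf_le_left
  have hne : Nat.card ↥(N ⊓ M) ≠ p ^ 2 := by
    intro he
    have : N ⊓ M = N := by
      apply Subgroup.eq_of_le_of_card_ge inf_le_left
      rw [he, h.1.card]
    exact hlt.ne this
  have hle : Nat.card ↥(N ⊓ M) ≤ p := by
    obtain ⟨k, hk, hkc⟩ := (Nat.dvd_prime_pow hp).mp hdvd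
    rw [hkc]
    have hk1 : k ≤ 1 := by
      by_contra hcon
      have : k = 2 := by omega
      exact hne (by rw [hkc, this])
    calc p ^ k ≤ p ^ 1 := Nat.pow_le_pow_right hp.pos hk1
      _ = p := pow_one p
  -- every subgroup of order `p` of `M` maps onto `N ⊓ M`
  have key : ∀ H : Subgroup ↥M, Nat.card H = p → H.map M.subtype = N ⊓ M := by
    intro H hH
    have hc : Nat.card ↥(H.map M.subtype) = p := by
      rw [Subgroup.card_map_of_injective M.subtype_injective, hH]
    have hsub : H.map M.subtype ≤ N ⊓ M := by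
      apply le_inf
      · exact le_of_card_eq_prime_of_h2 h _ hc
      · exact Subgroup.map_subtype_le H
    apply Subgroup.eq_of_le_of_card_ge hsub
    rw [hc]
    exact hle
  intro H K hH hK
  exact Subgroup.map_injective M.subtype_injective ((key H hH).trans (key K hK).symm)

/-- K2MAX. -/
theorem h2_max (hp2 : p ≠ 2) (hG : IsPGroup p G) {N : Subgroup G} (h : H2 p G N) (M : Subgroup G)
    (hM : M.index = p) : IsCyclic ↥M ∨ N ≤ M := by
  by_cases hNM : N ≤ M
  · exact Or.inr hNM
  · exact Or.inl (Cfsg.Agent.Lib.H22.isCyclic_of_atMostOne_of_odd hp2 (Nat.card ↥M) ↥M rfl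
      (hG.to_subgroup M) (atMostOne_of_h2_of_not_le h M hNM))

end Cfsg.Agent.Lib.H1.R2
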