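import Mathlib
import Cfsg.Prelude.Def_OddOrderLocal
import Cfsg.Prelude.Def_CaseTheorems
import Cfsg.Prelude.Def_PLocal
import Cfsg.Agent.Lib.H19.R2Defs

/-!
# S3888 piece K2NOT (helper1): (H2) excludes the alternatives `T2` and `T3`
-/

set_option autoImplicit false

namespace Cfsg.Agent.Lib.H1.R2

open Cfsg Cfsg.Agent.Lib.H19.R2
open scoped commutatorElement

universe u

variable {p : ℕ} [Fact p.Prime] {G : Type u} [Group G] [Finite G]

omit [Fact p.Prime] in
/-- the order of a join with a normal subgroup is at most the product of the orders -/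
theorem card_sup_le_mul (N H : Subgroup G) [N.Normal] :
    Nat.card ↥(N ⊔ H) ≤ Nat.card ↥N * Nat.card ↥H := by
  have h1 : Nat.card ↥(N ⊔ H) = Nat.card ↥N * N.relIndex H := by
    rw [← Subgroup.relIndex_bot_left, ← Subgroup.relIndex_bot_left (H := N),
      ← Subgroup.relIndex_sup_left (K := N) (H := H)]
    exact (Subgroup.relIndex_mul_relIndex ⊥ N (N ⊔ H) bot_le le_sup_left).symm
  rw [h1]
  apply Nat.mul_le_mul_left
  apply Nat.le_of_dvd Nat.card_pos
  exact Subgroup.index_dvd_card _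

/-- under (H2), a group generated by two elements of order dividing `p` and an element of order dividing
`p ^ k` has order at most `p ^ (k + 2)` -/
theorem h2_card_le {N : Subgroup G} (h : H2 p G N) {x y z : G} (hx : x ^ p = 1) (hy : y ^ p = 1)
    (hgen : Subgroup.closure ({x, y, z} : Set G) = ⊤) {k : ℕ} (hz : z ^ p ^ k = 1) :
    Nat.card G ≤ p ^ (k + 2) := by
  have hp : p.Prime := Fact.out
  haveI := h.1.normal
  have htop : N ⊔ Subgroup.zpowers z = ⊤ := by
    rw [eq_top_iff, ← hgen, Subgroup.closure_le]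
    intro g hg
    simp only [Set.mem_insert_iff, Set.mem_singleton_iff] at hg
    rcases hg with rfl | rfl | rfl
    · exact (le_sup_left : N ≤ _) (h.2 _ hx)
    · exact (le_sup_left : N ≤ _) (h.2 _ hy)
    · exact (le_sup_right : Subgroup.zpowers g ≤ _) (Subgroup.mem_zpowers g)
  have hzc : Nat.card ↥(Subgroup.zpowers z) ≤ p ^ k := by
    rw [Nat.card_zpowers]
    exact Nat.le_of_dvd (pow_pos hp.pos k) (orderOf_dvd_of_pow_eq_one hz)
  calc Nat.card G = Nat.card ↥(⊤ : Subgroup G) := Subgroup.card_top.symm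
    _ = Nat.card ↥(N ⊔ Subgroup.zpowers z) := by rw [htop]
    _ ≤ Nat.card ↥N * Nat.card ↥(Subgroup.zpowers z) := card_sup_le_mul _ _
    _ ≤ p ^ 2 * p ^ k := by rw [h.1.card]; exact Nat.mul_le_mul_left _ hzc
    _ = p ^ (k + 2) := by rw [← pow_add, add_comm]

/-- K2NOT. -/
theorem h2_not_T2_T3 {N : Subgroup G} (h : H2 p G N) {n : ℕ} (hcard : Nat.card G = p ^ n) :
    ¬ T2 p n G ∧ ¬ T3 p n G := by
  have hp : p.Prime := Fact.out
  constructor
  · rintro ⟨h3, x, y, z, hgen, hx, hy, -, -, -, hyx⟩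
    have hxy : x⁻¹ * y * x = y := by
      rw [mul_assoc, h.1.comm y (h.2 y hy) x (h.2 x hx), ← mul_assoc, inv_mul_cancel, one_mul]
    have hz : z ^ p ^ (n - 3) = 1 := by
      rw [hxy] at hyx
      exact (mul_eq_left.mp hyx.symm)
    have hle := h2_card_le h hx hy hgen hz
    rw [hcard] at hle
    have := (Nat.pow_le_pow_iff_right hp.one_lt).mp hle
    omega
  · rintro ⟨h4, s, x, y, z, hs, hgen, hx, hy, hzp, -, hyx, -⟩
    have hxy : x⁻¹ * y * x = y := by
      rw [mul_assoc, h.1.comm y (h.2 y hy) x (h.2 x hx), ← mul_assoc, inv_mul_cancel, one_mul]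
    have hz1 : z ^ (s * p ^ (n - 3)) = 1 := by
      rw [hxy] at hyx
      exact (mul_eq_left.mp hyx.symm)
    have hps : ¬ p ∣ s := by
      rcases hs with rfl | hs
      · exact hp.one_lt.ne' ∘ Nat.dvd_one.mp
      · intro hd
        apply hs
        have : (s : ZMod p) = 0 := (ZMod.natCast_eq_zero_iff s p).mpr hd
        rw [this]
        exact IsSquare.zero
    have hcop : Nat.Coprime (orderOf z) s := by
      have h1 : orderOf z ∣ p ^ (n - 2) := orderOf_dvd_of_pow_eq_one hzp
      obtain ⟨j, -, hj⟩ := (Nat.dvd_prime_pow hp).mp h1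
      rw [hj]
      exact Nat.Coprime.pow_left j ((Nat.Prime.coprime_iff_not_dvd hp).mpr hps)
    have hz : z ^ p ^ (n - 3) = 1 := by
      apply orderOf_dvd_iff_pow_eq_one.mp
      exact hcop.dvd_of_dvd_mul_left (orderOf_dvd_of_pow_eq_one hz1)
    have hle := h2_card_le h hx hy hgen hz
    rw [hcard] at hle
    have := (Nat.pow_le_pow_iff_right hp.one_lt).mp hle
    omega

end Cfsg.Agent.Lib.H1.R2
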