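import Mathlib
import Cfsg.Prelude.Def_OddOrderLocal
import Cfsg.Prelude.Def_CaseTheorems
import Cfsg.Prelude.Def_PLocal
import Cfsg.Agent.Lib.H19.R2Defs
import Cfsg.Agent.Lib.H21.RegularPGroup

/-!
# S3888 piece K2REG (helper1): a regular `p`-group with (H2) has `|G : ℧₁(G)| ≤ p²`
-/

set_option autoImplicit false

namespace Cfsg.Agent.Lib.H1.R2

open Cfsg Cfsg.Agent.Lib.H19.R2
open scoped commutatorElement

universe u

variable {p : ℕ} [Fact p.Prime] {G : Type u} [Group G] [Finite G]

/-- under (H2) in a regular `p`-group, `a ^ p = b ^ p` iff `a` and `b` lie in the same coset of `N` -/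
theorem h2_regular_pow_eq_iff {N : Subgroup G} (h : H2 p G N) (hreg : Cfsg.IsRegularPGroup p G)
    (a b : G) : a ^ p = b ^ p ↔ a⁻¹ * b ∈ N := by
  have hN := h.1.normal
  have key := Cfsg.Agent.Lib.H21.regular_pow_eq_iff hreg 1 a b
  rw [pow_one] at key
  rw [key]
  have hconj : a⁻¹ * b = a⁻¹ * (a * b⁻¹)⁻¹ * a⁻¹⁻¹ := by group
  have hconj' : a * b⁻¹ = a * (a⁻¹ * b)⁻¹ * a⁻¹ := by group
  constructor
  · intro h1
    rw [hconj]
    exact hN.conj_mem _ (N.inv_mem (h.2 _ h1)) _
  · intro h1
    apply h.1.exp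
    rw [hconj']
    exact hN.conj_mem _ (N.inv_mem h1) _

/-- K2REG. -/
theorem h2_regular {N : Subgroup G} (h : H2 p G N) (hreg : Cfsg.IsRegularPGroup p G) :
    (agemo p G).index ≤ p ^ 2 := by
  have hp : p.Prime := Fact.out
  have hN := h.1.normal
  -- the `p`-th power map induces an injection `G ⧸ N → ℧₁(G)`
  let f : G ⧸ N → ↥(agemo p G) :=
    Quotient.lift (s := QuotientGroup.leftRel N) (fun g : G => (⟨g ^ p, pow_mem_agemo p g⟩ : ↥(agemo p G)))
      (fun a b hab => Subtype.ext ((h2_regular_pow_eq_iff h hreg a b).mpr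
        (QuotientGroup.leftRel_apply.mp hab)))
  have hf : Function.Injective f := by
    intro q₁ q₂
    induction q₁ using QuotientGroup.induction_on with
    | H a =>
      induction q₂ using QuotientGroup.induction_on with
      | H b =>
        intro hab
        have h1 : a ^ p = b ^ p := congrArg Subtype.val hab
        exact QuotientGroup.eq.mpr ((h2_regular_pow_eq_iff h hreg a b).mp h1)
  have hle : Nat.card (G ⧸ N) ≤ Nat.card ↥(agemo p G) := Nat.card_le_card_of_injective f hf
  have h1 : Nat.card ↥N * N.index = Nat.card G := Subgroup.card_mul_index N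
  have h2 : Nat.card ↥(agemo p G) * (agemo p G).index = Nat.card G := Subgroup.card_mul_index _
  rw [Subgroup.index_eq_card, h.1.card] at h1
  have hpos : 0 < Nat.card ↥(agemo p G) := Nat.card_pos
  have h3 : Nat.card ↥(agemo p G) * (agemo p G).index ≤ Nat.card ↥(agemo p G) * p ^ 2 := by
    rw [h2, ← h1, mul_comm]
    exact Nat.mul_le_mul_right _ hle
  exact Nat.le_of_mul_le_mul_left h3 hpos

end Cfsg.Agent.Lib.H1.R2
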