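import Mathlib
import Cfsg.Prelude.Def_OddOrderLocal
import Cfsg.Prelude.Def_CaseTheorems
import Cfsg.Prelude.Def_PLocal
import Cfsg.Agent.Lib.H19.R2Defs

/-!
# S3888 piece K2RK (helper1): (H2) forces rank at most two
-/

set_option autoImplicit false

namespace Cfsg.Agent.Lib.H1.R2

open Cfsg Cfsg.Agent.Lib.H19.R2
open scoped commutatorElement

universe u

variable {p : ℕ} [Fact p.Prime] {G : Type u} [Group G] [Finite G]

/-- K2RK. -/
theorem h2_rank {N : Subgroup G} (h : H2 p G N) : Cfsg.PRankLE p 2 G := by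
  intro A _ hA
  have hle : A ≤ N := fun a ha => h.2 a (hA a ha)
  calc Nat.card ↥A ≤ Nat.card ↥N := Subgroup.card_le_of_le hle
    _ = p ^ 2 := h.1.card

end Cfsg.Agent.Lib.H1.R2
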