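import Mathlib
import Cfsg.Prelude.Def_OddOrderLocal
import Cfsg.Prelude.Def_CaseTheorems
import Cfsg.Prelude.Def_PLocal
import Cfsg.Agent.Lib.H19.R2Defs

/-!
# S3888 piece K2SUB (helper1): (H2) passes to subgroups containing `N`
-/

set_option autoImplicit false

namespace Cfsg.Agent.Lib.H1.R2

open Cfsg Cfsg.Agent.Lib.H19.R2
open scoped commutatorElement

universe u

variable {p : ℕ} [Fact p.Prime] {G : Type u} [Group G] [Finite G]

/-- K2SUB. -/
theorem h2_sub {N : Subgroup G} (h : H2 p G N) (M : Subgroup G) (hNM : N ≤ M) :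
    H2 p ↥M (N.subgroupOf M) := by
  haveI := h.1.normal
  refine ⟨⟨inferInstance, ?_, ?_, ?_⟩, ?_⟩
  · intro a ha b hb
    exact Subtype.ext (h.1.comm a ha b hb)
  · intro a ha
    exact Subtype.ext (h.1.exp a ha)
  · rw [Nat.card_congr (Subgroup.subgroupOfEquivOfLe hNM).toEquiv, h.1.card]
  · intro g hg
    rw [Subgroup.mem_subgroupOf]
    apply h.2
    have := congrArg Subtype.val hg
    simpa using this

end Cfsg.Agent.Lib.H1.R2
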