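import Mathlib
import Cfsg.Agent.Lib.H4.ReeSpecDefs

/-!
# S3626 piece WA (helper1 twin): an element of order `q - 1` in `Y K`
-/

set_option autoImplicit false

namespace Cfsg.Agent.Lib.H1.RS

open Matrix Cfsg.Agent.Lib.H4.ReeSpec

variable {K : Type*} [Field K] [CharP K 3]

/-- The diagonal element `diag(a, a⁻¹)` of `SL(2,K)`. -/
def wa_diag (a : Kˣ) : Matrix.SpecialLinearGroup (Fin 2) K :=
  ⟨!![(a : K), 0; 0, ((a⁻¹ : Kˣ) : K)], by
    rw [Matrix.det_fin_two_of]
    simp⟩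

/-- The element `(-1, diag(a, a⁻¹))` of `G0 K`. -/
def wa_g (a : Kˣ) : G0 K := ((-1 : ℤˣ), wa_diag a)

/-- Entries of `act g X`. -/
theorem wa_act_apply (g : G0 K) (X : M2 K) (i j : Fin 2) :
    act g X i j = (((g.1 : ℤˣ) : ℤ) : K) *
      ∑ l : Fin 2, (∑ k : Fin 2, (g.2 : M2 K) i k * X k l) * ((g.2 : M2 K) j l) ^ 3 := by
  unfold act
  rw [Matrix.smul_apply, Matrix.mul_apply, smul_eq_mul]
  congr 1

/-- `(-1, diag(a, a⁻¹))` multiplies `t E₁₂` by `-a⁻²`. -/
theorem wa_act (a : Kˣ) (t : K) :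
    act (wa_g a) (!![0, t; 0, 0] : M2 K) =
      (!![0, (-(((a⁻¹ : Kˣ) : K) ^ 2)) * t; 0, 0] : M2 K) := by
  have ha : (a : K) ≠ 0 := a.ne_zero
  ext i j
  rw [wa_act_apply]
  fin_cases i <;> fin_cases j <;>
    simp [wa_g, wa_diag, Fin.sum_univ_two]
  field_simp

theorem wa_act_pow (a : Kˣ) (n : ℕ) :
    act (wa_g a ^ n) (!![0, 1; 0, 0] : M2 K) =
      (!![0, (-(((a⁻¹ : Kˣ) : K) ^ 2)) ^ n; 0, 0] : M2 K) := by
  induction n with
  | zero => rw [pow_zero, act_one, pow_zero]
  | succ n ih =>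
    rw [pow_succ', act_mul, ih, wa_act]
    congr 1
    rw [pow_succ' (-(((a⁻¹ : Kˣ) : K) ^ 2)) n]

/-- If `ρ(g)^n = 1` in `Mq K` then `(-a⁻²)^n = 1`. -/
theorem wa_pow_eq_one (a : Kˣ) (n : ℕ) (h : (rhoM K (wa_g a)) ^ n = 1) :
    (-(((a⁻¹ : Kˣ) : K) ^ 2)) ^ n = 1 := by
  have h1 : rho K (wa_g a ^ n) = 1 := by
    have h2 := congrArg (fun z : Mq K => (z : MulAut (W K))) h
    simpa [map_pow] using h2
  have h3 : rho K (wa_g a ^ n) (Multiplicative.ofAdd (!![0, 1; 0, 0] : M2 K)) =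
      Multiplicative.ofAdd (!![0, 1; 0, 0] : M2 K) := by
    rw [h1]; rfl
  rw [rho_apply, wa_act_pow] at h3
  have h4 : (!![0, (-(((a⁻¹ : Kˣ) : K) ^ 2)) ^ n; 0, 0] : M2 K) = !![0, 1; 0, 0] :=
    Multiplicative.ofAdd.injective h3
  have h5 := congrFun (congrFun h4 0) 1
  simpa using h5

theorem wa_mod_four (m : ℕ) : 3 ^ (2 * m + 1) % 4 = 3 := by
  rw [pow_succ, pow_mul, Nat.mul_mod, Nat.pow_mod]
  norm_num

/-- **WA**: an element of order `q - 1`. -/
theorem exists_orderOf_pred [Fintype K] {m : ℕ} (hK : Fintype.card K = 3 ^ (2 * m + 1)) :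
    ∃ y : Y K, orderOf y = 3 ^ (2 * m + 1) - 1 := by
  classical
  have hmod := wa_mod_four m
  set q : ℕ := 3 ^ (2 * m + 1) with hq
  -- a generator of the unit group
  obtain ⟨a, ha⟩ := IsCyclic.exists_generator (α := Kˣ)
  have hoa : orderOf a = q - 1 := by
    rw [orderOf_eq_card_of_forall_mem_zpowers ha, Nat.card_eq_fintype_card, Fintype.card_units, hK]
  -- the order of c = -a⁻² as a unit
  have h2 : (2 : K) ≠ 0 := by
    intro h
    have h3 : (3 : K) = 0 := by
      have := CharP.cast_eq_zero K 3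
      exact_mod_cast this
    have h1 : (1 : K) = 0 := by linear_combination h3 - h
    exact one_ne_zero h1
  have hneg : orderOf (-1 : Kˣ) = 2 := by
    apply orderOf_eq_prime
    · simp
    · intro h
      have h1 := congrArg (fun u : Kˣ => (u : K)) h
      simp only [Units.val_neg, Units.val_one] at h1
      apply h2
      linear_combination -h1
  have hsq : orderOf (a⁻¹ ^ 2) = (q - 1) / 2 := by
    rw [orderOf_pow' _ (by norm_num : (2 : ℕ) ≠ 0), orderOf_inv, hoa]
    have : Nat.gcd (q - 1) 2 = 2 := by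
      apply Nat.gcd_eq_right
      omega
    rw [this]
  have hcop : (orderOf (-1 : Kˣ)).Coprime (orderOf (a⁻¹ ^ 2)) := by
    rw [hneg, hsq, Nat.coprime_two_left]
    rw [Nat.odd_iff]
    omega
  have hc : orderOf ((-1 : Kˣ) * a⁻¹ ^ 2) = q - 1 := by
    rw [(Commute.all _ _).orderOf_mul_eq_mul_orderOf_of_coprime hcop, hneg, hsq]
    omega
  -- the element
  set x : Mq K := rhoM K (wa_g a) with hx
  refine ⟨SemidirectProduct.inr x, ?_⟩
  rw [orderOf_injective _ SemidirectProduct.inr_injective]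
  apply Nat.dvd_antisymm
  · -- x ^ (q - 1) = 1
    apply orderOf_dvd_of_pow_eq_one
    rw [hx, ← map_pow]
    have hg : wa_g a ^ (q - 1) = 1 := by
      have he : Even (q - 1) := by
        rw [Nat.even_iff]; omega
      apply Prod.ext
      · show (-1 : ℤˣ) ^ (q - 1) = 1
        exact he.neg_one_pow
      · show wa_diag a ^ (q - 1) = 1
        apply Subtype.ext
        rw [Matrix.SpecialLinearGroup.coe_pow]
        have hd : (wa_diag a : M2 K) = Matrix.diagonal ![(a : K), ((a⁻¹ : Kˣ) : K)] := by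
          ext i j
          fin_cases i <;> fin_cases j <;> simp [wa_diag]
        rw [hd, Matrix.diagonal_pow]
        have h1 : a ^ (q - 1) = 1 := by rw [← hoa]; exact pow_orderOf_eq_one a
        have h1' : (a : K) ^ (q - 1) = 1 := by
          have := congrArg (fun u : Kˣ => (u : K)) h1
          simpa using this
        have h1'' : ((a⁻¹ : Kˣ) : K) ^ (q - 1) = 1 := by
          have h6 : (a⁻¹ : Kˣ) ^ (q - 1) = 1 := by rw [inv_pow, h1, inv_one]
          have := congrArg (fun u : Kˣ => (u : K)) h6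
          simpa using this
        ext i j
        fin_cases i <;> fin_cases j <;> simp [h1', h1'']
    rw [hg, map_one]
  · -- (q - 1) ∣ orderOf x
    have h1 := wa_pow_eq_one a (orderOf x) (pow_orderOf_eq_one x)
    have h3 : ((-1 : Kˣ) * a⁻¹ ^ 2) ^ (orderOf x) = 1 := by
      apply Units.ext
      rw [Units.val_pow_eq_pow_val, Units.val_one]
      rw [← h1]
      congr 1
      simp
    rw [← hc]
    exact orderOf_dvd_of_pow_eq_one h3

end Cfsg.Agent.Lib.H1.RS
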