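import Mathlib
import Cfsg.Agent.Lib.H4.ReeSpecDefs
import Cfsg.Agent.Lib.H22.RSKER
import Cfsg.Agent.Lib.H1.RSWA

/-!
# S3626 pieces W9, W6 (helper1 twin): elements of orders `9` and `6` in `Y K`
-/

set_option autoImplicit false

namespace Cfsg.Agent.Lib.H1.RS

open Matrix Cfsg.Agent.Lib.H4.ReeSpec

variable {K : Type*} [Field K] [CharP K 3]

theorem w96_three : (3 : K) = 0 := by
  have := CharP.cast_eq_zero K 3
  exact_mod_cast this

theorem w96_two_ne : (2 : K) ≠ 0 := by
  intro h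
  have h1 : (1 : K) = 0 := by linear_combination (w96_three (K := K)) - h
  exact one_ne_zero h1

/-- The transvection `J = [[1,1],[0,1]]`. -/
def w96_J : Matrix.SpecialLinearGroup (Fin 2) K :=
  ⟨!![1, 1; 0, 1], by rw [Matrix.det_fin_two_of]; ring⟩

theorem w96_J_sq : (w96_J (K := K)) ^ 2 =
    ⟨!![1, 2; 0, 1], by rw [Matrix.det_fin_two_of]; ring⟩ := by
  apply Subtype.ext
  rw [Matrix.SpecialLinearGroup.coe_pow]
  show (!![1, 1; 0, 1] : M2 K) ^ 2 = !![1, 2; 0, 1]
  rw [pow_two]
  ext i j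
  fin_cases i <;> fin_cases j <;> simp [Matrix.mul_apply, Fin.sum_univ_two] <;> ring

theorem w96_J_cube : (w96_J (K := K)) ^ 3 = 1 := by
  apply Subtype.ext
  rw [Matrix.SpecialLinearGroup.coe_pow]
  show (!![1, 1; 0, 1] : M2 K) ^ 3 = ((1 : Matrix.SpecialLinearGroup (Fin 2) K) : M2 K)
  rw [pow_succ, pow_two, Matrix.SpecialLinearGroup.coe_one]
  have h3 := w96_three (K := K)
  ext i j
  fin_cases i <;> fin_cases j <;> simp [Matrix.mul_apply, Fin.sum_univ_two]
  linear_combination h3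

/-- Every element of `W K` has cube `1`. -/
theorem w96_W_cube (n : W K) : n ^ 3 = 1 := by
  show Multiplicative.ofAdd ((3 : ℕ) • Multiplicative.toAdd n) = 1
  have h : (3 : ℕ) • Multiplicative.toAdd n = 0 := by
    rw [← Nat.cast_smul_eq_nsmul K]
    have h3 : ((3 : ℕ) : K) = 0 := by exact_mod_cast w96_three (K := K)
    rw [h3, zero_smul]
  rw [h]
  rfl

/-- **W6**: an element of order `6`. -/
theorem exists_orderOf_six : ∃ y : Y K, orderOf y = 6 := by
  set g : G0 K := ((-1 : ℤˣ), w96_J) with hg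
  set x : Mq K := rhoM K g with hx
  refine ⟨SemidirectProduct.inr x, ?_⟩
  rw [orderOf_injective _ SemidirectProduct.inr_injective]
  have h6 : x ^ 6 = 1 := by
    rw [hx, ← map_pow]
    have : g ^ 6 = 1 := by
      apply Prod.ext
      · show (-1 : ℤˣ) ^ 6 = 1
        norm_num
      · show (w96_J (K := K)) ^ 6 = 1
        rw [show (6 : ℕ) = 3 * 2 from rfl, pow_mul, w96_J_cube, one_pow]
    rw [this, map_one]
  -- kernel facts
  have hker : ∀ n : ℕ, x ^ n = 1 → (g ^ n).1 = 1 ∧ ((g ^ n).2 = 1 ∨ (g ^ n).2 = -1) := by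
    intro n hn
    apply Cfsg.Agent.Lib.H22.RS.rho_eq_one
    have h2 := congrArg (fun z : Mq K => (z : MulAut (W K))) hn
    simpa [hx, map_pow] using h2
  have h2 : x ^ 2 ≠ 1 := by
    intro h
    obtain ⟨-, h3⟩ := hker 2 h
    have hJ : (g ^ 2).2 = (w96_J (K := K)) ^ 2 := rfl
    rw [hJ, w96_J_sq] at h3
    rcases h3 with h3 | h3
    · have h4 := congrArg (fun A : Matrix.SpecialLinearGroup (Fin 2) K => (A : M2 K) 0 1) h3
      simp at h4
      exact w96_two_ne h4
    · have h4 := congrArg (fun A : Matrix.SpecialLinearGroup (Fin 2) K => (A : M2 K) 0 1) h3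
      simp at h4
      exact w96_two_ne h4
  have h3 : x ^ 3 ≠ 1 := by
    intro h
    obtain ⟨h4, -⟩ := hker 3 h
    have h5 : (g ^ 3).1 = (-1 : ℤˣ) ^ 3 := rfl
    rw [h5] at h4
    revert h4
    decide
  -- order is a divisor of 6 that is neither a divisor of 2 nor of 3
  have hd : orderOf x ∣ 6 := orderOf_dvd_of_pow_eq_one h6
  have hle : orderOf x ≤ 6 := Nat.le_of_dvd (by norm_num) hd
  have hn2 : ¬ orderOf x ∣ 2 := fun h => h2 (orderOf_dvd_iff_pow_eq_one.1 h)
  have hn3 : ¬ orderOf x ∣ 3 := fun h => h3 (orderOf_dvd_iff_pow_eq_one.1 h)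
  interval_cases h : orderOf x <;> simp_all

/-- **W9**: an element of order `9`. -/
theorem exists_orderOf_nine : ∃ y : Y K, orderOf y = 9 := by
  set g : G0 K := ((1 : ℤˣ), w96_J) with hg
  set x : Mq K := rhoM K g with hx
  set w : W K := Multiplicative.ofAdd (!![0, 0; 0, 1] : M2 K) with hw
  have hx3 : x ^ 3 = 1 := by
    rw [hx, ← map_pow]
    have : g ^ 3 = 1 := by
      apply Prod.ext
      · show (1 : ℤˣ) ^ 3 = 1
        simp
      · show (w96_J (K := K)) ^ 3 = 1
        exact w96_J_cube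
    rw [this, map_one]
  refine ⟨(⟨w, x⟩ : Y K), ?_⟩
  have h9 : (⟨w, x⟩ : Y K) ^ 3 ^ (1 + 1) = 1 := by
    -- (y ^ 3) has trivial right component, so it is in the image of `inl`
    have hr : ((⟨w, x⟩ : Y K) ^ 3).right = 1 := by
      have h0 : ((⟨w, x⟩ : Y K) ^ 3).right = SemidirectProduct.rightHom ((⟨w, x⟩ : Y K) ^ 3) := rfl
      rw [h0, map_pow]
      exact hx3
    have hl : (⟨w, x⟩ : Y K) ^ 3 = SemidirectProduct.inl ((⟨w, x⟩ : Y K) ^ 3).left := by
      apply SemidirectProduct.ext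
      · rw [SemidirectProduct.left_inl]
      · rw [SemidirectProduct.right_inl, hr]
    show (⟨w, x⟩ : Y K) ^ (3 * 3) = 1
    rw [pow_mul, hl, ← map_pow, w96_W_cube, map_one]
  have h3 : ¬ (⟨w, x⟩ : Y K) ^ 3 ^ 1 = 1 := by
    rw [pow_one]
    intro h
    have hl := congrArg SemidirectProduct.left h
    rw [pow_succ, pow_two] at hl
    simp only [SemidirectProduct.mul_left, SemidirectProduct.mul_right,
      SemidirectProduct.one_left] at hl
    -- hl : w * x w * (x * x) w = 1
    have e1 : (x : MulAut (W K)) w = Multiplicative.ofAdd (act g (!![0, 0; 0, 1] : M2 K)) := rfl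
    have a1 : act g (!![0, 0; 0, 1] : M2 K) = !![1, 1; 1, 1] := by
      ext i j
      rw [wa_act_apply]
      fin_cases i <;> fin_cases j <;> simp [hg, w96_J, Fin.sum_univ_two]
    have a2 : act g (!![1, 1; 1, 1] : M2 K) = !![1, 2; 2, 1] := by
      have h3' := w96_three (K := K)
      ext i j
      rw [wa_act_apply]
      fin_cases i <;> fin_cases j <;> simp [hg, w96_J, Fin.sum_univ_two] <;>
        first | ring1 | linear_combination h3' | linear_combination (-1 : K) * h3'
    have e2 : ((x * x : Mq K) : MulAut (W K)) w = Multiplicative.ofAdd (!![1, 2; 2, 1] : M2 K) := by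
      show (x : MulAut (W K)) ((x : MulAut (W K)) w) = _
      rw [e1, a1]
      show Multiplicative.ofAdd (act g (!![1, 1; 1, 1] : M2 K)) = _
      rw [a2]
    simp only [Subgroup.coe_subtype] at hl
    rw [e2, e1, a1] at hl
    have h4 : (!![0, 0; 0, 1] : M2 K) + !![1, 1; 1, 1] + !![1, 2; 2, 1] = 0 :=
      Multiplicative.ofAdd.injective hl
    have h5 := congrFun (congrFun h4 0) 0
    simp at h5
    apply w96_two_ne (K := K)
    linear_combination h5
  exact orderOf_eq_prime_pow h3 h9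

end Cfsg.Agent.Lib.H1.RS
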