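import Mathlib
import Cfsg.Agent.Lib.H16.RTWDefs

/-!
# S3174 (2-groups of Rudvalis type): piece FINIDX (helper1)

A subgroup `X` of `W` containing `Z₃`, all `⁅u, z⁆` (`u ∈ W`) and `w · ᵇw` has index at most `8` in `W`.
-/

set_option autoImplicit false

namespace Cfsg.Agent.Lib.H1.RTW

open scoped commutatorElement
open Cfsg.Agent.Lib.H16.RTW

variable {T : Type*} [Group T] [Finite T]

/-- `|G| = |ker f| · |range f|`. -/
theorem finidx_card_ker_mul_range {G H : Type*} [Group G] [Group H] (f : G →* H) :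
    Nat.card f.ker * Nat.card f.range = Nat.card G := by
  rw [← Subgroup.index_ker]; exact Subgroup.card_mul_index f.ker

/-- For `u, u' ∈ W`: `u u' ∈ M ↔ (u ∈ M ↔ u' ∈ M)`. -/
theorem finidx_mul_mem_iff (c : Ctx T) {u u' : T} (hu : u ∈ c.W) (hu' : u' ∈ c.W) :
    u * u' ∈ c.M ↔ (u ∈ c.M ↔ u' ∈ c.M) := by
  have h := Subgroup.mul_mem_iff_of_index_two (H := c.M.subgroupOf c.W) c.hM3
    (a := ⟨u, hu⟩) (b := ⟨u', hu'⟩)
  simpa [Subgroup.mem_subgroupOf] using h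

/-- Conjugation by `s ∈ W` preserves membership in `M` for elements of `W`. -/
theorem finidx_conj_mem_iff (c : Ctx T) {s x : T} (hs : s ∈ c.W) (hx : x ∈ c.W) :
    s * x * s⁻¹ ∈ c.M ↔ x ∈ c.M := by
  have hs' : s⁻¹ ∈ c.W := c.W.inv_mem hs
  rw [finidx_mul_mem_iff c (c.W.mul_mem hs hx) hs', finidx_mul_mem_iff c hs hx, inv_mem_iff]
  tauto

/-- `t ∈ W ↔ φ t = 1`. -/
theorem finidx_mem_W_iff (c : Ctx T) (k : Coord c) (t : T) : t ∈ c.W ↔ k.φ t = 1 := by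
  rw [← k.hker, MonoidHom.mem_ker]

/-- The subgroup `H = {u ∈ W | u ∈ M ↔ z⁻¹ u z ∈ M}`. -/
def finidxH (c : Ctx T) (z : T) : Subgroup T where
  carrier := {u | u ∈ c.W ∧ (u ∈ c.M ↔ z⁻¹ * u * z ∈ c.M)}
  mul_mem' := by
    intro u u' hu hu'
    have hWn := c.hWn
    have h1 : z⁻¹ * u * z ∈ c.W := by simpa using hWn.conj_mem u hu.1 z⁻¹
    have h2 : z⁻¹ * u' * z ∈ c.W := by simpa using hWn.conj_mem u' hu'.1 z⁻¹
    refine ⟨c.W.mul_mem hu.1 hu'.1, ?_⟩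
    have e : z⁻¹ * (u * u') * z = (z⁻¹ * u * z) * (z⁻¹ * u' * z) := by group
    rw [e, finidx_mul_mem_iff c hu.1 hu'.1, finidx_mul_mem_iff c h1 h2, hu.2, hu'.2]
  one_mem' := by
    refine ⟨c.W.one_mem, ?_⟩
    simp
  inv_mem' := by
    intro u hu
    refine ⟨c.W.inv_mem hu.1, ?_⟩
    have e : z⁻¹ * u⁻¹ * z = (z⁻¹ * u * z)⁻¹ := by group
    rw [e, inv_mem_iff, inv_mem_iff]
    exact hu.2

theorem mem_finidxH (c : Ctx T) (z u : T) :
    u ∈ finidxH c z ↔ u ∈ c.W ∧ (u ∈ c.M ↔ z⁻¹ * u * z ∈ c.M) := Iff.rfl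

theorem finidxH_le (c : Ctx T) (z : T) : finidxH c z ≤ c.W := fun _ hu => hu.1

theorem ucs_le_finidxH (c : Ctx T) (z : T) : Subgroup.upperCentralSeries T 3 ≤ finidxH c z := by
  intro u hu
  refine ⟨c.hZW hu, ?_⟩
  have h1 : z⁻¹ * u * z ∈ Subgroup.upperCentralSeries T 3 := by
    simpa using (inferInstance : (Subgroup.upperCentralSeries T 3).Normal).conj_mem u hu z⁻¹
  exact iff_of_true (c.hM1 hu) (c.hM1 h1)

theorem comm_mem_finidxH (c : Ctx T) (k : Coord c) (z : T) (hz : k.φ z = ⟨0, 0, 1⟩) (u : T)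
    (hu : u ∈ c.W) : ⁅u, z⁆ ∈ finidxH c z := by
  have hWn := c.hWn
  have hz2 : z ^ 2 ∈ c.W := by
    rw [finidx_mem_W_iff c k, map_pow, hz]; decide
  have hv : z * u⁻¹ * z⁻¹ ∈ c.W := hWn.conj_mem _ (c.W.inv_mem hu) z
  have h1 : z⁻¹ * u * z ∈ c.W := by simpa using hWn.conj_mem u hu z⁻¹
  have e0 : ⁅u, z⁆ = u * (z * u⁻¹ * z⁻¹) := by rw [commutatorElement_def]; group
  have e1 : z⁻¹ * (u * (z * u⁻¹ * z⁻¹)) * z = (z⁻¹ * u * z) * u⁻¹ := by group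
  have e2 : z * u⁻¹ * z⁻¹ = (z ^ 2 * (z⁻¹ * u * z) * (z ^ 2)⁻¹)⁻¹ := by group
  have h3 : z * u⁻¹ * z⁻¹ ∈ c.M ↔ z⁻¹ * u * z ∈ c.M := by
    rw [e2, inv_mem_iff, finidx_conj_mem_iff c hz2 h1]
  rw [e0]
  refine ⟨c.W.mul_mem hu hv, ?_⟩
  rw [e1, finidx_mul_mem_iff c hu hv, finidx_mul_mem_iff c h1 (c.W.inv_mem hu), inv_mem_iff, h3]
  tauto

theorem gen_not_mem_finidxH (c : Ctx T) (k : Coord c)
    (w : T) (hw : w ∈ c.W) (hwM : w ∉ c.M) (hwt : ∀ t : T, t ∉ c.W → t * w * t⁻¹ ∈ c.M)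
    (z : T) (hz : k.φ z = ⟨0, 0, 1⟩) (b : T) (hb : k.φ b = ⟨0, 1, 0⟩) :
    w * (b * w * b⁻¹) ∉ finidxH c z := by
  intro h
  have hWn := c.hWn
  have hbW : b ∉ c.W := by
    rw [finidx_mem_W_iff c k, hb]; decide
  have hzW : z⁻¹ ∉ c.W := by
    rw [finidx_mem_W_iff c k, map_inv, hz]; decide
  have hzbW : z⁻¹ * b ∉ c.W := by
    rw [finidx_mem_W_iff c k, map_mul, map_inv, hz, hb]; decide
  have h1 : b * w * b⁻¹ ∈ c.M := hwt b hbW
  have h2 : z⁻¹ * w * z ∈ c.M := by simpa using hwt z⁻¹ hzW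
  have h3 : z⁻¹ * (b * w * b⁻¹) * z ∈ c.M := by
    have := hwt (z⁻¹ * b) hzbW
    have e : z⁻¹ * b * w * (z⁻¹ * b)⁻¹ = z⁻¹ * (b * w * b⁻¹) * z := by group
    rwa [e] at this
  have hbw : b * w * b⁻¹ ∈ c.W := hWn.conj_mem w hw b
  have e : z⁻¹ * (w * (b * w * b⁻¹)) * z = (z⁻¹ * w * z) * (z⁻¹ * (b * w * b⁻¹) * z) := by group
  have h4 := h.2
  rw [e, finidx_mul_mem_iff c hw hbw] at h4
  have h5 : (z⁻¹ * w * z) * (z⁻¹ * (b * w * b⁻¹) * z) ∈ c.M := c.M.mul_mem h2 h3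
  exact hwM ((h4.2 h5).2 h1)

/-- Images of elements of `W` commute in `T ⧸ Z₃`. -/
theorem finidx_commute_mk (c : Ctx T) {x y : T} (hx : x ∈ c.W) (hy : y ∈ c.W) :
    (QuotientGroup.mk x : T ⧸ Subgroup.upperCentralSeries T 3) * QuotientGroup.mk y
      = QuotientGroup.mk y * QuotientGroup.mk x := by
  rw [← QuotientGroup.mk_mul, ← QuotientGroup.mk_mul, QuotientGroup.eq]
  have h := c.hcomm y⁻¹ (c.W.inv_mem hy) x⁻¹ (c.W.inv_mem hx)
  have e : (x * y)⁻¹ * (y * x) = ⁅y⁻¹, x⁻¹⁆ := by rw [commutatorElement_def]; group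
  rw [e]; exact h

/-- `⁅u, z⁆ ∈ W` for `u ∈ W`. -/
theorem finidx_comm_mem_W (c : Ctx T) (z : T) {u : T} (hu : u ∈ c.W) : ⁅u, z⁆ ∈ c.W := by
  have hWn := c.hWn
  have e0 : ⁅u, z⁆ = u * (z * u⁻¹ * z⁻¹) := by rw [commutatorElement_def]; group
  rw [e0]
  exact c.W.mul_mem hu (hWn.conj_mem _ (c.W.inv_mem hu) z)

/-- The homomorphism `ψ : W → T ⧸ Z₃`, `u ↦ ⁅u, z⁆ Z₃`. -/
noncomputable def finidxPsi (c : Ctx T) (z : T) : ↥c.W →* T ⧸ Subgroup.upperCentralSeries T 3 :=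
  MonoidHom.mk' (fun u => (QuotientGroup.mk ⁅(u : T), z⁆ : T ⧸ Subgroup.upperCentralSeries T 3)) (by
    intro u u'
    have hA := finidx_comm_mem_W c z u.2
    have hB := finidx_comm_mem_W c z u'.2
    have e : ⁅((u * u' : ↥c.W) : T), z⁆ = (u : T) * ⁅(u' : T), z⁆ * (u : T)⁻¹ * ⁅(u : T), z⁆ := by
      rw [commutatorElement_def, commutatorElement_def, commutatorElement_def, Subgroup.coe_mul]
      group
    rw [e, QuotientGroup.mk_mul, QuotientGroup.mk_mul, QuotientGroup.mk_mul, QuotientGroup.mk_inv,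
      finidx_commute_mk c u.2 hB, mul_inv_cancel_right, finidx_commute_mk c hB hA])

theorem finidxPsi_apply (c : Ctx T) (z : T) (u : ↥c.W) :
    finidxPsi c z u = (QuotientGroup.mk ⁅(u : T), z⁆ : T ⧸ Subgroup.upperCentralSeries T 3) := rfl

theorem finidxPsi_eq_one_iff (c : Ctx T) (z : T) (u : ↥c.W) :
    finidxPsi c z u = 1 ↔ ⁅(u : T), z⁆ ∈ Subgroup.upperCentralSeries T 3 := by
  rw [finidxPsi_apply, QuotientGroup.eq_one_iff]

/-- Core step: if `u ∈ W` commutes with `z` modulo `Z₃` and `ᵗu ∈ M` for the four representatives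
`t = τ p`, then `u ∈ Z₃`. -/
theorem finidx_mem_ucs_of (c : Ctx T) (k : Coord c) (z : T) (hz : k.φ z = ⟨0, 0, 1⟩)
    (τ : ZMod 2 × ZMod 2 → T) (hτ : ∀ p, k.φ (τ p) = ⟨p.1, p.2, 0⟩)
    (u : T) (hu : u ∈ c.W) (huz : ⁅u, z⁆ ∈ Subgroup.upperCentralSeries T 3)
    (hτu : ∀ p, τ p * u * (τ p)⁻¹ ∈ c.M) : u ∈ Subgroup.upperCentralSeries T 3 := by
  have hWn := c.hWn
  have hZn : (Subgroup.upperCentralSeries T 3).Normal := inferInstance
  -- closure properties of `D = {t | t u t⁻¹ ∈ M}`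
  have hD1 : ∀ t s : T, s ∈ c.W → t * u * t⁻¹ ∈ c.M → (s * t) * u * (s * t)⁻¹ ∈ c.M := by
    intro t s hs ht
    have e : (s * t) * u * (s * t)⁻¹ = s * (t * u * t⁻¹) * s⁻¹ := by group
    rw [e, finidx_conj_mem_iff c hs (hWn.conj_mem u hu t)]
    exact ht
  have hD2 : ∀ t : T, t * u * t⁻¹ ∈ c.M → (t * z) * u * (t * z)⁻¹ ∈ c.M := by
    intro t ht
    have e : (t * z) * u * (t * z)⁻¹ = (t * ⁅u, z⁆⁻¹ * t⁻¹) * (t * u * t⁻¹) := by
      rw [commutatorElement_def]; group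
    rw [e]
    exact c.M.mul_mem (c.hM1 (hZn.conj_mem _ ((Subgroup.upperCentralSeries T 3).inv_mem huz) t)) ht
  apply c.hcore u hu
  intro t
  by_cases hc : (k.φ t).c = 0
  · have hs : t * (τ ((k.φ t).a, (k.φ t).b))⁻¹ ∈ c.W := by
      rw [finidx_mem_W_iff c k, map_mul, map_inv, hτ]
      revert hc; generalize k.φ t = g; revert g; decide
    have := hD1 _ _ hs (hτu ((k.φ t).a, (k.φ t).b))
    rwa [inv_mul_cancel_right] at this
  · have hs : t * (τ ((k.φ t).a, (k.φ t).b) * z)⁻¹ ∈ c.W := by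
      rw [finidx_mem_W_iff c k, map_mul, map_inv, map_mul, hτ, hz]
      revert hc; generalize k.φ t = g; revert g; decide
    have := hD1 _ _ hs (hD2 _ (hτu ((k.φ t).a, (k.φ t).b)))
    rwa [inv_mul_cancel_right] at this

theorem finidx_card_W (c : Ctx T) : Nat.card ↥c.W = 2048 := by
  have h := Subgroup.card_mul_index c.W
  rw [c.hidx, c.hcard] at h
  omega

/-- `|range ψ| ≥ 16`. -/
theorem finidx_card_range_psi (c : Ctx T) (k : Coord c) (z : T) (hz : k.φ z = ⟨0, 0, 1⟩) :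
    16 ≤ Nat.card ↥(finidxPsi c z).range := by
  have hMn : (c.M.subgroupOf c.W).Normal := Subgroup.normal_of_index_eq_two c.hM3
  have hWn := c.hWn
  choose τ hτ using (fun p : ZMod 2 × ZMod 2 => k.hsurj ⟨p.1, p.2, 0⟩)
  let Θ : ↥c.W →* (ZMod 2 × ZMod 2 → ↥c.W ⧸ c.M.subgroupOf c.W) :=
    MonoidHom.pi (fun p => (QuotientGroup.mk' (c.M.subgroupOf c.W)).comp
      (MulAut.conjNormal (τ p)).toMonoidHom)
  have hΘ : ∀ (u : ↥c.W) p, Θ u p = QuotientGroup.mk (MulAut.conjNormal (τ p) u) := fun _ _ => rfl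
  have hker : ∀ u : ↥c.W, u ∈ ((finidxPsi c z).prod Θ).ker →
      (u : T) ∈ Subgroup.upperCentralSeries T 3 := by
    intro u hu
    rw [MonoidHom.mem_ker, MonoidHom.prod_apply, Prod.mk_eq_one] at hu
    refine finidx_mem_ucs_of c k z hz τ hτ u u.2 ((finidxPsi_eq_one_iff c z u).1 hu.1) ?_
    intro p
    have h1 := congrFun hu.2 p
    rw [hΘ, Pi.one_apply, QuotientGroup.eq_one_iff, Subgroup.mem_subgroupOf,
      MulAut.conjNormal_apply] at h1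
    exact h1
  have hkercard : Nat.card ↥((finidxPsi c z).prod Θ).ker ≤ 8 := by
    rw [← c.c3]
    refine Nat.card_le_card_of_injective
      (fun u => (⟨((u : ↥c.W) : T), hker u.1 u.2⟩ : ↥(Subgroup.upperCentralSeries T 3))) ?_
    intro u u' h
    have h' : ((u : ↥c.W) : T) = ((u' : ↥c.W) : T) :=
      congrArg (fun q : ↥(Subgroup.upperCentralSeries T 3) => (q : T)) h
    exact Subtype.ext (Subtype.ext h')
  have hQ : Nat.card (↥c.W ⧸ c.M.subgroupOf c.W) = 2 := by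
    rw [← Subgroup.index_eq_card]; exact c.hM3
  have hrange : Nat.card ↥((finidxPsi c z).prod Θ).range ≤ Nat.card ↥(finidxPsi c z).range * 16 := by
    have h16 : Nat.card (ZMod 2 × ZMod 2 → ↥c.W ⧸ c.M.subgroupOf c.W) = 16 := by
      rw [Nat.card_fun, hQ, Nat.card_prod, Nat.card_zmod]; norm_num
    rw [← h16, ← Nat.card_prod]
    refine Nat.card_le_card_of_injective
      (fun y => ((⟨y.1.1, by
        obtain ⟨u, hu⟩ := y.2
        exact ⟨u, by rw [← hu]; rfl⟩⟩ : ↥(finidxPsi c z).range), y.1.2)) ?_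
    intro y y' h
    have h1 := congrArg (fun q => (q.1 : T ⧸ Subgroup.upperCentralSeries T 3)) h
    have h2 := congrArg Prod.snd h
    exact Subtype.ext (Prod.ext h1 h2)
  have h := finidx_card_ker_mul_range ((finidxPsi c z).prod Θ)
  rw [finidx_card_W c] at h
  by_contra hlt
  rw [not_le] at hlt
  have h3 : Nat.card ↥((finidxPsi c z).prod Θ).ker * Nat.card ↥((finidxPsi c z).prod Θ).range
      ≤ 8 * (15 * 16) :=
    Nat.mul_le_mul hkercard (hrange.trans (Nat.mul_le_mul_right 16 (by omega)))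
  omega

/-- **FINIDX**: a subgroup of `W` containing `Z₃`, all `⁅u, z⁆` and `w · ᵇw` has index at most 8 in `W`
(`|C_{W/Z₃}(z)| ≤ 2⁴` by the core property of `M`, so `|⁅W,z⁆Z₃ : Z₃| ≥ 2⁴`; and `w · ᵇw ∉ ⁅W,z⁆Z₃`). -/
theorem relIndex_le_of_mem (c : Ctx T) (k : Coord c)
    (w : T) (hw : w ∈ c.W) (hwM : w ∉ c.M) (hwt : ∀ t : T, t ∉ c.W → t * w * t⁻¹ ∈ c.M)
    (z : T) (hz : k.φ z = ⟨0, 0, 1⟩) (b : T) (hb : k.φ b = ⟨0, 1, 0⟩)
    (X : Subgroup T) (hXW : X ≤ c.W) (hZX : Subgroup.upperCentralSeries T 3 ≤ X)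
    (hX1 : ∀ u ∈ c.W, ⁅u, z⁆ ∈ X) (hX2 : w * (b * w * b⁻¹) ∈ X) : X.relIndex c.W ≤ 8 := by
  have hZX₀ : Subgroup.upperCentralSeries T 3 ≤ X ⊓ finidxH c z := le_inf hZX (ucs_le_finidxH c z)
  -- `|X ⊓ H| ≥ 128`
  have hX₀ : 128 ≤ Nat.card ↥(X ⊓ finidxH c z) := by
    let π : ↥(X ⊓ finidxH c z) →* T ⧸ Subgroup.upperCentralSeries T 3 :=
      (QuotientGroup.mk' (Subgroup.upperCentralSeries T 3)).comp (X ⊓ finidxH c z).subtype
    have hπ : ∀ x, π x = (QuotientGroup.mk (x : T) : T ⧸ Subgroup.upperCentralSeries T 3) :=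
      fun _ => rfl
    have hkerπ : Nat.card ↥π.ker = 8 := by
      have h1 : π.ker = (Subgroup.upperCentralSeries T 3).subgroupOf (X ⊓ finidxH c z) := by
        ext x
        rw [MonoidHom.mem_ker, hπ, QuotientGroup.eq_one_iff, Subgroup.mem_subgroupOf]
      rw [h1, Nat.card_congr (Subgroup.subgroupOfEquivOfLe hZX₀).toEquiv, c.c3]
    have hrangeπ : (finidxPsi c z).range ≤ π.range := by
      rintro _ ⟨u, rfl⟩
      exact ⟨⟨⁅(u : T), z⁆, ⟨hX1 u u.2, comm_mem_finidxH c k z hz u u.2⟩⟩, rfl⟩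
    have h16 : 16 ≤ Nat.card ↥π.range :=
      (finidx_card_range_psi c k z hz).trans (Subgroup.card_le_of_le hrangeπ)
    rw [← finidx_card_ker_mul_range π, hkerπ]
    omega
  -- `|X| ≥ 256`
  have hne : X ⊓ finidxH c z ≠ X := by
    intro h
    have h1 : w * (b * w * b⁻¹) ∈ X ⊓ finidxH c z := by rw [h]; exact hX2
    exact gen_not_mem_finidxH c k w hw hwM hwt z hz b hb h1.2
  have hX : 256 ≤ Nat.card ↥X := by
    obtain ⟨m, hm⟩ := Subgroup.card_dvd_of_le (inf_le_left : X ⊓ finidxH c z ≤ X)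
    have hpos : 0 < Nat.card ↥X := Nat.card_pos
    have hm1 : m ≠ 1 := by
      rintro rfl
      exact hne (Subgroup.eq_of_le_of_card_ge inf_le_left (by rw [hm, mul_one]))
    have hm0 : m ≠ 0 := by
      rintro rfl
      rw [mul_zero] at hm
      omega
    have hm2 : 2 ≤ m := by omega
    calc 256 = 128 * 2 := rfl
      _ ≤ Nat.card ↥(X ⊓ finidxH c z) * m := Nat.mul_le_mul hX₀ hm2
      _ = Nat.card ↥X := hm.symm
  -- conclusion
  have h1 := Subgroup.card_mul_index X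
  have h2 := Subgroup.relIndex_mul_index hXW
  rw [← h2, c.hidx, c.hcard] at h1
  by_contra hlt
  rw [not_le] at hlt
  have h3 : 256 * (9 * 8) ≤ Nat.card ↥X * (X.relIndex c.W * 8) :=
    Nat.mul_le_mul hX (Nat.mul_le_mul_right 8 hlt)
  omega

end Cfsg.Agent.Lib.H1.RTW
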