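/-
S4751 (architect helper23), piece DEG (helper1), hypothesis-parametric in LIN:
`χ ∈ Irr(G)` nonlinear with root-of-unity values on the `p`-singular elements, `N ≠ 1` a normal `p`-subgroup all of whose
`χ`-constituents are linear of multiplicity one (= the conclusion of LIN).  Then `χ(1) = |N| - 1`.
Also the shared norm computation `[χ_H, χ_H] = (χ(1)² + |H| - 1) / |H|` for every `p`-subgroup `H`.
-/
import Mathlib
import Cfsg.Prelude.Def_Characters
import Cfsg.Agent.Lib.L0.CharOps

set_option autoImplicit false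
set_option linter.unusedSectionVars false
set_option linter.unusedVariables false

namespace Cfsg.Agent.Lib.H1.RU

open Cfsg Cfsg.Agent.Lib.L0
open scoped ComplexConjugate

/-- a nontrivial element of a `p`-subgroup is `p`-singular -/
theorem ru_dvd_orderOf {G : Type*} [Group G] (p : ℕ) [Fact p.Prime] (H : Subgroup G) (hH : IsPGroup p H)
    (h : H) (hne : h ≠ 1) : p ∣ orderOf (h : G) := by
  obtain ⟨k, hk⟩ := (IsPGroup.iff_orderOf.mp hH) h
  rw [Subgroup.orderOf_coe, hk]
  have hk0 : k ≠ 0 := by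
    intro h0
    rw [h0, pow_zero, orderOf_eq_one_iff] at hk
    exact hne hk
  exact dvd_pow_self p hk0

/-- `χ(h) conj χ(h) = 1` at a root of unity -/
theorem ru_mul_conj_eq_one (z : ℂ) (n : ℕ) (hn : 0 < n) (hz : z ^ n = 1) : z * conj z = 1 := by
  have h1 : ‖z‖ = 1 := Complex.norm_eq_one_of_pow_eq_one hz hn.ne'
  rw [Complex.mul_conj, Complex.normSq_eq_norm_sq, h1]
  norm_num

/-- **the norm of `χ_H`** for a `p`-subgroup `H`: `[χ_H, χ_H] = (χ(1)² + |H| - 1) / |H|` -/
theorem ru_classInner_res_self {G : Type*} [Group G] (p : ℕ) [Fact p.Prime] (χ : G → ℂ) (d : ℕ) (hd : χ 1 = d)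
    (hroot : ∀ g : G, p ∣ orderOf g → ∃ n : ℕ, 0 < n ∧ (χ g) ^ n = 1)
    (H : Subgroup G) [Fintype H] (hH : IsPGroup p H) :
    classInner (fun h : H => χ h) (fun h : H => χ h) =
      (Nat.card H : ℂ)⁻¹ * ((d : ℂ) ^ 2 + (Nat.card H : ℂ) - 1) := by
  classical
  unfold classInner
  congr 1
  rw [← Finset.add_sum_erase Finset.univ _ (Finset.mem_univ (1 : H))]
  have h1 : ∀ h ∈ Finset.univ.erase (1 : H), χ (h : G) * conj (χ (h : G)) = 1 := by
    intro h hh
    have hne : h ≠ 1 := (Finset.mem_erase.mp hh).1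
    obtain ⟨n, hn, hz⟩ := hroot (h : G) (ru_dvd_orderOf p H hH h hne)
    exact ru_mul_conj_eq_one _ n hn hz
  rw [Finset.sum_congr rfl h1, Finset.sum_const, Finset.card_erase_of_mem (Finset.mem_univ _), Finset.card_univ,
    Nat.card_eq_fintype_card, nsmul_eq_mul, mul_one]
  beta_reduce
  rw [Subgroup.coe_one, hd, Complex.conj_natCast, Nat.cast_sub Fintype.card_pos]
  push_cast
  ring

/-- a multiplicity free list of linear characters: value at `1` and norm are both the length -/
theorem ru_list_linear {N : Type*} [Group N] [Fintype N] (l : List (N → ℂ))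
    (hl : ∀ θ ∈ l, IsIrrCharacter N θ)
    (hlin : ∀ θ ∈ l, θ 1 = 1 ∧ classInner l.sum θ = 1) :
    l.sum 1 = (l.length : ℂ) ∧ classInner l.sum l.sum = (l.length : ℂ) := by
  constructor
  · have key : ∀ l' : List (N → ℂ), (∀ θ ∈ l', θ 1 = 1) → l'.sum 1 = (l'.length : ℂ) := by
      intro l' hl'
      induction l' with
      | nil => simp
      | cons a l' ih =>
        rw [List.sum_cons, Pi.add_apply, hl' a (by simp), ih (fun θ hθ => hl' θ (by simp [hθ])), List.length_cons]
        push_cast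
        ring
    exact key l (fun θ hθ => (hlin θ hθ).1)
  · rw [classInner_list_sum_right]
    have key : ∀ l' : List (N → ℂ), (∀ θ ∈ l', classInner l.sum θ = 1) →
        (l'.map fun θ => classInner l.sum θ).sum = (l'.length : ℂ) := by
      intro l' hl'
      induction l' with
      | nil => simp
      | cons a l' ih =>
        rw [List.map_cons, List.sum_cons, hl' a (by simp), ih (fun θ hθ => hl' θ (by simp [hθ])), List.length_cons]
        push_cast
        ring
    exact key l (fun θ hθ => (hlin θ hθ).2)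

/-- **DEG**, parametric in the conclusion `hlin` of LIN -/
theorem degree_eq_card_sub_one_of {G : Type*} [Group G] [Finite G] (p : ℕ) [Fact p.Prime]
    (χ : IrrCharacter G) (hnl : (χ : G → ℂ) 1 ≠ 1)
    (hroot : ∀ g : G, p ∣ orderOf g → ∃ n : ℕ, 0 < n ∧ ((χ : G → ℂ) g) ^ n = 1)
    (N : Subgroup G) [Fintype N] (hNp : IsPGroup p N)
    (hlin : ∀ θ : IrrCharacter N, classInner (fun n : N => (χ : G → ℂ) n) (θ : N → ℂ) ≠ 0 →
      (θ : N → ℂ) 1 = 1 ∧ classInner (fun n : N => (χ : G → ℂ) n) (θ : N → ℂ) = 1) :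
    (χ : G → ℂ) 1 = (Nat.card N : ℂ) - 1 := by
  classical
  have hχc : IsCharacter G (χ : G → ℂ) := isCharacter_of_irr χ.2
  obtain ⟨d, hd⟩ := isCharacter_apply_one hχc
  have hres : IsCharacter N (fun n : N => (χ : G → ℂ) n) := isCharacter_restrict N hχc
  obtain ⟨l, hl, hsum⟩ := isCharacter_exists_irr_decomp hres
  have hlin' : ∀ θ ∈ l, θ 1 = 1 ∧ classInner l.sum θ = 1 := by
    intro θ hθ
    have hcount : classInner l.sum θ = (l.count θ : ℂ) := classInner_irr_list_sum hl (hl θ hθ)
    have hne : classInner l.sum θ ≠ 0 := by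
      rw [hcount]
      have : 0 < l.count θ := List.count_pos_iff.mpr hθ
      exact_mod_cast this.ne'
    rw [← hsum] at hne ⊢
    exact hlin ⟨θ, hl θ hθ⟩ hne
  obtain ⟨h1, h2⟩ := ru_list_linear l hl hlin'
  rw [← hsum] at h1 h2
  have h1' : (d : ℂ) = (l.length : ℂ) := by
    rw [← h1]
    show (d : ℂ) = (χ : G → ℂ) ((1 : N) : G)
    rw [Subgroup.coe_one, hd]
  have h3 := ru_classInner_res_self p (χ : G → ℂ) d hd hroot N hNp
  rw [h2, ← h1'] at h3
  have hNpos : (Nat.card N : ℂ) ≠ 0 := by exact_mod_cast (Nat.card_pos (α := N)).ne'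
  have h4 : (d : ℂ) * (Nat.card N : ℂ) = (d : ℂ) ^ 2 + (Nat.card N : ℂ) - 1 := by
    conv_lhs => rw [h3]
    field_simp
  have h5 : ((d : ℂ) - 1) * ((d : ℂ) - ((Nat.card N : ℂ) - 1)) = 0 := by linear_combination -h4
  rcases mul_eq_zero.mp h5 with h | h
  · exfalso
    apply hnl
    rw [hd]
    linear_combination h
  · rw [hd]
    linear_combination h

end Cfsg.Agent.Lib.H1.RU
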