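/-
S4751 (architect helper23), piece SYL1 (helper1), hypothesis-parametric in DEG:
if `P = O_p(G) ≠ 1` is not a Sylow `p`-subgroup and `χ(1) = |P| - 1` (DEG), then `p = 2`.
`H ≥ P` with `|H : P| = p` (preimage of a subgroup of order `p` of `G / P`); `[χ_H, χ_H] = (χ(1)² + |H| - 1) / |H|` is a
natural number, so `p ∣ |P| - 2 + p`.
-/
import Mathlib
import Cfsg.Prelude.Def_Characters
import Cfsg.Prelude.Def_Solvable
import Cfsg.Agent.Lib.L0.CharOps
import Cfsg.Agent.Lib.H1.PCore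
import Cfsg.Agent.Lib.H1.RUDEG

set_option autoImplicit false
set_option linter.unusedSectionVars false
set_option linter.unusedVariables false

namespace Cfsg.Agent.Lib.H1.RU

open Cfsg Cfsg.Agent.Lib.L0
open scoped ComplexConjugate

/-- a normal subgroup `P` of index divisible by `p` lies in a subgroup `H` with `|H| = p |P|` -/
theorem ru_exists_overgroup {G : Type*} [Group G] [Finite G] (p : ℕ) [Fact p.Prime] (P : Subgroup G) [P.Normal]
    (hidx : p ∣ P.index) : ∃ H : Subgroup G, P ≤ H ∧ Nat.card H = p * Nat.card P := by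
  have hcardQ : Nat.card (G ⧸ P) = P.index := (Subgroup.index_eq_card P).symm
  have hdvd : p ∣ Nat.card (G ⧸ P) := by rw [hcardQ]; exact hidx
  obtain ⟨y, hy⟩ := exists_prime_orderOf_dvd_card' p hdvd
  refine ⟨(Subgroup.zpowers y).comap (QuotientGroup.mk' P), ?_, ?_⟩
  · intro x hx
    rw [Subgroup.mem_comap]
    have : QuotientGroup.mk' P x = 1 := (QuotientGroup.eq_one_iff x).mpr hx
    rw [this]
    exact Subgroup.one_mem _
  · have h1 : ((Subgroup.zpowers y).comap (QuotientGroup.mk' P)).index = (Subgroup.zpowers y).index :=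
      Subgroup.index_comap_of_surjective _ (QuotientGroup.mk'_surjective P)
    have h2 := Subgroup.card_mul_index ((Subgroup.zpowers y).comap (QuotientGroup.mk' P))
    have h3 := Subgroup.card_mul_index P
    have h4 := Subgroup.card_mul_index (Subgroup.zpowers y)
    rw [Nat.card_zpowers, hy, hcardQ] at h4
    rw [h1] at h2
    have hne : (Subgroup.zpowers y).index ≠ 0 := Subgroup.index_ne_zero_of_finite
    have h5 : Nat.card ↥((Subgroup.zpowers y).comap (QuotientGroup.mk' P)) * (Subgroup.zpowers y).index =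
        (p * Nat.card P) * (Subgroup.zpowers y).index := by
      rw [h2, ← h3, ← h4]
      ring
    exact Nat.eq_of_mul_eq_mul_right (Nat.pos_of_ne_zero hne) h5

/-- **SYL1**, parametric in the conclusion `hdeg` of DEG -/
theorem eq_two_of_dvd_index_of {G : Type*} [Group G] [Finite G] (p : ℕ) [Fact p.Prime]
    (χ : IrrCharacter G)
    (hroot : ∀ g : G, p ∣ orderOf g → ∃ n : ℕ, 0 < n ∧ ((χ : G → ℂ) g) ^ n = 1)
    (hP : pCore p G ≠ ⊥) (hidx : p ∣ (pCore p G).index)
    (hdeg : (χ : G → ℂ) 1 = (Nat.card ↥(pCore p G) : ℂ) - 1) : p = 2 := by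
  classical
  have hpp : p.Prime := Fact.out
  have : (pCore p G).Normal := Cfsg.Agent.Lib.H1.pCore_normal p G
  have hPp : IsPGroup p ↥(pCore p G) := Cfsg.Agent.Lib.H1.pCore_isPGroup p G
  obtain ⟨k, hk⟩ := (IsPGroup.iff_card.mp hPp)
  have hk0 : k ≠ 0 := by
    intro h0
    rw [h0, pow_zero] at hk
    exact hP ((Subgroup.card_eq_one).mp hk)
  obtain ⟨H, hPH, hH⟩ := ru_exists_overgroup p (pCore p G) hidx
  have hHp : IsPGroup p ↥H := IsPGroup.of_card (n := k + 1) (by rw [hH, hk, pow_succ]; ring)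
  have : Fintype ↥H := Fintype.ofFinite _
  have hχc : IsCharacter G (χ : G → ℂ) := isCharacter_of_irr χ.2
  obtain ⟨d, hd⟩ := isCharacter_apply_one hχc
  have hres : IsCharacter ↥H (fun h : H => (χ : G → ℂ) h) := isCharacter_restrict H hχc
  obtain ⟨n, hn⟩ := classInner_char_char_nat hres hres
  have h3 := ru_classInner_res_self p (χ : G → ℂ) d hd hroot H hHp
  rw [hn, hH] at h3
  set q := Nat.card ↥(pCore p G) with hq
  have hqpos : 0 < q := Nat.card_pos
  have hd' : (d : ℂ) = (q : ℂ) - 1 := by rw [← hd]; exact hdeg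
  have hpq : ((p * q : ℕ) : ℂ) ≠ 0 := by
    exact_mod_cast (Nat.mul_pos hpp.pos hqpos).ne'
  have h4 : (n : ℂ) * ((p * q : ℕ) : ℂ) = ((q : ℂ) - 1) ^ 2 + ((p * q : ℕ) : ℂ) - 1 := by
    rw [h3, hd']
    field_simp
  have h5 : (n : ℤ) * ((p : ℤ) * (q : ℤ)) = ((q : ℤ) - 1) ^ 2 + (p : ℤ) * (q : ℤ) - 1 := by
    have : ((n : ℤ) * ((p : ℤ) * (q : ℤ)) : ℂ) = ((((q : ℤ) - 1) ^ 2 + (p : ℤ) * (q : ℤ) - 1 : ℤ) : ℂ) := by
      push_cast
      push_cast at h4
      exact h4
    exact_mod_cast this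
  have hq0 : (q : ℤ) ≠ 0 := by exact_mod_cast hqpos.ne'
  have h6 : (n : ℤ) * (p : ℤ) = (q : ℤ) - 2 + (p : ℤ) := by
    apply mul_right_cancel₀ hq0
    linear_combination h5
  have hpq' : (p : ℤ) ∣ (q : ℤ) := by
    rw [hk]
    push_cast
    exact dvd_pow_self _ hk0
  have h7 : (p : ℤ) ∣ 2 := by
    have h8 : (2 : ℤ) = (q : ℤ) - ((n : ℤ) - 1) * (p : ℤ) := by linear_combination h6
    rw [h8]
    exact dvd_sub hpq' (Dvd.intro_left _ rfl)
  have h9 : p ∣ 2 := by exact_mod_cast h7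
  exact (Nat.prime_dvd_prime_iff_eq hpp Nat.prime_two).mp h9

end Cfsg.Agent.Lib.H1.RU
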