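/-
S4751 (architect helper23), pieces DEG and SYL1 (helper1), EXACT signatures of tools/blueprints/S4751_sigs.lean:
the parametric forms of Lib/H1/RUDEG, Lib/H1/RUSYL1 instantiated with helper14's landed LIN (Lib/H14/RULIN).
-/
import Mathlib
import Cfsg.Prelude.Def_Blocks
import Cfsg.Prelude.Def_Characters
import Cfsg.Prelude.Def_Local
import Cfsg.Prelude.Def_Transfer
import Cfsg.Agent.Lib.H14.RULIN
import Cfsg.Agent.Lib.H1.RUSYL1

set_option autoImplicit false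

namespace Cfsg.Agent.Lib.H1.RU

open Cfsg

/-- **DEG** -/
theorem degree_eq_card_sub_one {G : Type*} [Group G] [Finite G] (p : ℕ) [Fact p.Prime]
    (χ : IrrCharacter G) (hnl : (χ : G → ℂ) 1 ≠ 1)
    (hroot : ∀ g : G, p ∣ orderOf g → ∃ n : ℕ, 0 < n ∧ ((χ : G → ℂ) g) ^ n = 1)
    (N : Subgroup G) [hN : N.Normal] (hNp : IsPGroup p N) (hN1 : N ≠ ⊥) :
    (χ : G → ℂ) 1 = (Nat.card N : ℂ) - 1 := by
  classical
  letI : Fintype G := Fintype.ofFinite G
  letI : Fintype N := Fintype.ofFinite N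
  exact degree_eq_card_sub_one_of p χ hnl hroot N hNp
    (fun θ hθ => Cfsg.Agent.Lib.H14.RU.constituent_linear p χ hroot N hNp hN1 θ hθ)

/-- **SYL1** -/
theorem eq_two_of_dvd_index {G : Type*} [Group G] [Finite G] (p : ℕ) [Fact p.Prime]
    (χ : IrrCharacter G) (hnl : (χ : G → ℂ) 1 ≠ 1)
    (hroot : ∀ g : G, p ∣ orderOf g → ∃ n : ℕ, 0 < n ∧ ((χ : G → ℂ) g) ^ n = 1)
    (hP : pCore p G ≠ ⊥) (hidx : p ∣ (pCore p G).index) : p = 2 := by
  have hn : (pCore p G).Normal := Cfsg.Agent.Lib.H1.pCore_normal p G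
  exact eq_two_of_dvd_index_of p χ hroot hP hidx
    (degree_eq_card_sub_one p χ hnl hroot (pCore p G) (Cfsg.Agent.Lib.H1.pCore_isPGroup p G) hP)

end Cfsg.Agent.Lib.H1.RU
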