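import Mathlib
import Cfsg.Agent.Lib.L0.GalOddC
import Cfsg.Agent.Lib.L0.RealPDegA
import Cfsg.Agent.Lib.H23.CliffordCorr
import Cfsg.Agent.Lib.H23.FullyRamified
import Cfsg.Agent.Lib.H24.GlaubReal

/-!
# Real characters and normal subgroups of odd index (helper1)

`N ⊴ G` of odd index.
* `exists_real_over`: a real `θ ∈ Irr(N)` lies under a real `χ ∈ Irr(G)` (unique by helper24's
  `real_over_unique`);
* `exists_real_under`: a real `χ ∈ Irr(G)` lies over a real `θ ∈ Irr(N)`;
* `real_degree`: for real `χ` over real `θ`, `χ(1) = |G : I_G(θ)| θ(1)`.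
-/

set_option autoImplicit false

namespace Cfsg.Agent.Lib.H1.RealBij

open Cfsg Cfsg.Agent.Lib.L0 Cfsg.Agent.Lib.H24 Cfsg.Agent.Lib.L0.RealPDeg Cfsg.Agent.Lib.H23
open scoped ComplexConjugate

section Basic

variable {G : Type*} [Group G] [Fintype G]

/-- A real-valued character is fixed by the power map `g ↦ g ^ (|G| - 1)`, on any subgroup. -/
theorem fix_of_real (H : Subgroup G) {θ : H → ℂ} (hθ : IsCharacter H θ)
    (hreal : ∀ h : H, (θ h).im = 0) (h : H) : θ (h ^ (Nat.card G - 1)) = θ h := by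
  have h1 : h ^ (Nat.card G - 1) = h⁻¹ := by
    apply Subtype.ext
    rw [Subgroup.coe_pow, Subgroup.coe_inv]
    exact pow_card_sub_one (h : G)
  rw [h1, isCharacter_apply_inv hθ]
  exact Complex.conj_eq_iff_im.mpr (hreal h)

/-- A character fixed by the power map `g ↦ g ^ (|G| - 1)` is real-valued. -/
theorem real_of_fix (H : Subgroup G) {θ : H → ℂ} (hθ : IsCharacter H θ)
    (hfix : ∀ h : H, θ (h ^ (Nat.card G - 1)) = θ h) (h : H) : (θ h).im = 0 := by
  apply Complex.conj_eq_iff_im.mp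
  have h1 : h ^ (Nat.card G - 1) = h⁻¹ := by
    apply Subtype.ext
    rw [Subgroup.coe_pow, Subgroup.coe_inv]
    exact pow_card_sub_one (h : G)
  rw [← isCharacter_apply_inv hθ, ← h1, hfix]

theorem real_of_fix_top {χ : G → ℂ} (hχ : IsCharacter G χ)
    (hfix : ∀ g : G, χ (g ^ (Nat.card G - 1)) = χ g) (g : G) : (χ g).im = 0 := by
  apply Complex.conj_eq_iff_im.mp
  rw [← isCharacter_apply_inv hχ, ← pow_card_sub_one, hfix]

/-- Induction preserves real-valuedness. -/
theorem indFun_real (H : Subgroup G) (ψ : H → ℂ) (hψ : ∀ h : H, (ψ h).im = 0) (g : G) :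
    (indFun H ψ g).im = 0 := by
  classical
  have hext : ∀ y : G, (extendByZero H ψ y).im = 0 := by
    intro y
    by_cases hy : y ∈ H
    · have h1 : extendByZero H ψ y = ψ ⟨y, hy⟩ := by
        unfold extendByZero
        exact (Subtype.val_injective).extend_apply ψ 0 ⟨y, hy⟩
      rw [h1]
      exact hψ _
    · have h1 : extendByZero H ψ y = 0 := by
        unfold extendByZero
        rw [Function.extend_apply']
        · rfl
        · rintro ⟨a, ha⟩
          exact hy (ha ▸ a.2)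
      rw [h1]
      rfl
  unfold indFun
  have h2 : ((Nat.card H : ℂ)⁻¹).im = 0 := by
    rw [← Complex.conj_eq_iff_im, map_inv₀, Complex.conj_natCast]
  rw [Complex.mul_im, h2, zero_mul, add_zero, Complex.im_sum]
  rw [Finset.sum_eq_zero (fun x _ => hext _), mul_zero]

end Basic

section Odd

variable {G : Type*} [Group G] [Fintype G] (N : Subgroup G) [hN : N.Normal] [Fintype N]

/-- A real irreducible character of a normal subgroup of odd index lies under a real irreducible
character. -/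
theorem exists_real_over (hodd : Odd N.index) (θ : IrrCharacter N)
    (hθ : ∀ n : N, ((θ : N → ℂ) n).im = 0) :
    ∃ χ : IrrCharacter G, (∀ g : G, ((χ : G → ℂ) g).im = 0) ∧
      classInner (fun n : N => (χ : G → ℂ) n) (θ : N → ℂ) ≠ 0 := by
  obtain ⟨χ, hχo, hχfix⟩ := GalOdd.gal_over_exists N galDatum_conj hodd θ
    (fix_of_real N (isCharacter_of_irr θ.2) hθ)
  exact ⟨χ, real_of_fix_top (isCharacter_of_irr χ.2) hχfix, hχo⟩

/-- A real irreducible character lies over a real irreducible character of a normal subgroup of odd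
index. -/
theorem exists_real_under (hodd : Odd N.index) (χ : IrrCharacter G)
    (hχ : ∀ g : G, ((χ : G → ℂ) g).im = 0) :
    ∃ θ : IrrCharacter N, (∀ n : N, ((θ : N → ℂ) n).im = 0) ∧
      classInner (fun n : N => (χ : G → ℂ) n) (θ : N → ℂ) ≠ 0 := by
  classical
  have := Fintype.ofFinite (IrrCharacter N)
  obtain ⟨d, hd, hpar⟩ := parity_restrict_pair N hodd χ χ hχ hχ
  rw [if_pos rfl] at hpar
  have hcharN : IsCharacter N (fun n : N => (χ : G → ℂ) n) :=
    isCharacter_restrict N (isCharacter_of_irr χ.2)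
  choose m hm using fun θ : IrrCharacter N => classInner_char_irr_nat hcharN θ.2
  have hsum : (d : ℂ) = ((∑ θ : IrrCharacter N, (m θ) ^ 2 : ℕ) : ℂ) := by
    rw [← hd, Cfsg.Agent.Lib.H4.Feit.classInner_self_eq_sum _
      (isClassFunction_of_isCharacter hcharN)]
    push_cast
    refine Finset.sum_congr rfl (fun θ _ => ?_)
    rw [hm θ, Complex.conj_natCast, sq]
  have hsum' : d = ∑ θ : IrrCharacter N, (m θ) ^ 2 := by exact_mod_cast hsum
  have hminv : ∀ θ : IrrCharacter N, m (irrConj θ) = m θ := by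
    intro θ
    have h1 : classInner (fun n : N => (χ : G → ℂ) n) (irrConj θ : N → ℂ) =
        conj (classInner (fun n : N => (χ : G → ℂ) n) (θ : N → ℂ)) := by
      have h2 : (fun n : N => (χ : G → ℂ) n) = fun n : N => conj ((χ : G → ℂ) n) := by
        funext n
        exact (Complex.conj_eq_iff_im.mpr (hχ n)).symm
      conv_lhs => rw [h2]
      exact classInner_conj_conj _ _
    rw [hm, hm, Complex.conj_natCast] at h1
    exact_mod_cast h1
  have hoddsum : Odd (∑ θ : IrrCharacter N, (m θ) ^ 2) := by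
    rw [← hsum', Nat.odd_iff]
    exact hpar
  obtain ⟨θ, -, hfix, hoddθ⟩ := GalOdd.exists_fixed_of_odd_sum (irrConj (G := N))
    (fun θ => (m θ) ^ 2) (fun θ => by simp only [hminv]) 1 Finset.univ
    (fun _ _ => Finset.mem_univ _) (fun θ _ => by simp) hoddsum
  refine ⟨θ, (Cfsg.Agent.Lib.H24.Glaub.real_iff_irrConj θ).mpr hfix, ?_⟩
  rw [hm θ]
  intro h0
  have h0' : m θ = 0 := by exact_mod_cast h0
  simp only [h0'] at hoddθ
  exact absurd hoddθ (by decide)

/-- For a real irreducible character `χ` over a real irreducible character `θ` of a normal subgroup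
of odd index, `χ(1) = |G : I_G(θ)| θ(1)`. -/
theorem real_degree (hodd : Odd N.index) (χ : IrrCharacter G) (θ : IrrCharacter N)
    (hχ : ∀ g : G, ((χ : G → ℂ) g).im = 0) (hθ : ∀ n : N, ((θ : N → ℂ) n).im = 0)
    (hover : classInner (fun n : N => (χ : G → ℂ) n) (θ : N → ℂ) ≠ 0) :
    charDegree (χ : G → ℂ) =
      (Cfsg.Agent.Lib.H23.inertia N (θ : N → ℂ)).index * charDegree (θ : N → ℂ) := by
  classical
  set T : Subgroup G := Cfsg.Agent.Lib.H23.inertia N (θ : N → ℂ) with hTdef
  have : Fintype T := Fintype.ofFinite _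
  have hNT : N ≤ T := Cfsg.Agent.Lib.H23.le_inertia N
    (isClassFunction_of_isCharacter (isCharacter_of_irr θ.2))
  have : Fintype (N.subgroupOf T) := Fintype.ofFinite _
  have hN' : (N.subgroupOf T).Normal := Subgroup.normal_subgroupOf
  set ι : (N.subgroupOf T) ≃* N := Subgroup.subgroupOfEquivOfLe hNT with hι
  have hιcoe : ∀ n : N.subgroupOf T, ((ι n : N) : G) = ((n : T) : G) := fun n => rfl
  have hϑ' : IsIrrCharacter (N.subgroupOf T) ((θ : N → ℂ) ∘ ι) :=
    isIrrCharacter_comp_of_surjective ι.toMonoidHom ι.surjective θ.2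
  have hinv' : ∀ (t : T) (n : N.subgroupOf T),
      ((θ : N → ℂ) ∘ ι) ⟨t * n * t⁻¹, hN'.conj_mem (n : T) n.2 t⟩ = ((θ : N → ℂ) ∘ ι) n := by
    intro t n
    simp only [Function.comp_apply]
    have := (Cfsg.Agent.Lib.H23.mem_inertia N (θ : N → ℂ) (t : G)).mp t.2 (ι n)
    rw [← this]
    congr 1
  have hfix' : ∀ n : N.subgroupOf T,
      ((θ : N → ℂ) ∘ ι) (n ^ (Nat.card G - 1)) = ((θ : N → ℂ) ∘ ι) n := by
    intro n
    simp only [Function.comp_apply, map_pow]
    exact fix_of_real N (isCharacter_of_irr θ.2) hθ (ι n)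
  have hodd' : Odd (N.subgroupOf T).index := by
    obtain ⟨c, hc⟩ := Subgroup.relIndex_dvd_index_of_le hNT
    have h1 : (N.subgroupOf T).index = N.relIndex T := rfl
    rw [h1]
    rw [hc] at hodd
    exact (Nat.odd_mul.mp hodd).1
  obtain ⟨ψ, hψ, hψN, hψfix⟩ := GalOdd.gal_ext (G := T) (N.subgroupOf T)
    ((galDatum_conj (G := G)).subgroup T) hodd' _ hϑ' hinv' hfix'
  have hψreal : ∀ t : T, (ψ t).im = 0 := real_of_fix T (isCharacter_of_irr hψ) hψfix
  have hres : Cfsg.Agent.Lib.H23.resTo N T hNT ψ = (θ : N → ℂ) := by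
    funext n
    have h1 := hψN (ι.symm n)
    simp only [Function.comp_apply, MulEquiv.apply_symm_apply] at h1
    rw [← h1]
    show ψ ⟨(n : G), hNT n.2⟩ = ψ ((ι.symm n : N.subgroupOf T) : T)
    congr 1
  have hf : classInner (Cfsg.Agent.Lib.H23.resTo N T hNT ψ) (θ : N → ℂ) ≠ 0 := by
    rw [hres, irr_classInner_self θ.2]
    exact one_ne_zero
  obtain ⟨hΦirr, hΦmult⟩ := Cfsg.Agent.Lib.H23.isIrrCharacter_indFun_inertia N T hNT
    (θ : N → ℂ) θ.2 (fun g => Iff.rfl) ψ hψ hf
  have hΦreal : ∀ g : G, (indFun T ψ g).im = 0 := indFun_real T ψ hψreal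
  have hΦover : classInner (fun n : N => ((⟨indFun T ψ, hΦirr⟩ : IrrCharacter G) : G → ℂ) n)
      (θ : N → ℂ) ≠ 0 := by
    show classInner (fun n : N => indFun T ψ (n : G)) (θ : N → ℂ) ≠ 0
    rw [hΦmult]
    exact hf
  have heq : (⟨indFun T ψ, hΦirr⟩ : IrrCharacter G) = χ :=
    real_over_unique N hodd θ _ χ hΦreal hχ hΦover hover
  apply charDegree_eq_of_apply_one
  have h1 : (χ : G → ℂ) 1 = indFun T ψ 1 := by rw [← heq]
  rw [h1, Cfsg.Agent.Lib.H23.indFun_one']
  have h2 : ψ 1 = (θ : N → ℂ) 1 := by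
    have := congrFun hres 1
    exact this
  rw [h2, apply_one_eq_charDegree _ θ.2]
  push_cast
  ring

end Odd

end Cfsg.Agent.Lib.H1.RealBij
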