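import Mathlib
import Cfsg.Agent.Lib.H1.RealBijA
import Cfsg.Agent.Lib.H24.RelGlaubL
import Cfsg.Agent.Lib.H24.ChiefFactor

/-!
# Real characters over a normal subgroup of odd index: subgroups of an ambient group (helper1)

`A ≤ B` subgroups of `Γ` with `B` normalising `A` and `|B : A|` odd: the statements of `RealBijA` for
the pair `(B, A)`, in the language of helper24's ambient character theory (`res`, `InvUnder`).
-/

set_option autoImplicit false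

universe u

namespace Cfsg.Agent.Lib.H1.RealBij

open Cfsg Cfsg.Agent.Lib.L0 Cfsg.Agent.Lib.H24 Cfsg.Agent.Lib.H23 Cfsg.Agent.Lib.H24.Glaub
  Cfsg.Agent.Lib.H24.RelGlaub
open scoped ComplexConjugate

section ConjBy

variable {Γ : Type u} [Group Γ]

/-- `η'` is the conjugate of `η` by `x`: `η' (x a x⁻¹) = η a`. -/
def ConjBy (A : Subgroup Γ) (x : Γ) (η η' : A → ℂ) : Prop :=
  ∀ a a' : A, (a' : Γ) = x * a * x⁻¹ → η' a' = η a

theorem conjBy_self_iff (A : Subgroup Γ) (x : Γ) (η : A → ℂ) :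
    ConjBy A x η η ↔ InvUnder A x η := Iff.rfl

theorem ConjBy.eq_comp {A : Subgroup Γ} {x : Γ} {η η' : A → ℂ} (h : ConjBy A x η η')
    (hx : ∀ g ∈ A, x * g * x⁻¹ ∈ A) (hx' : ∀ g ∈ A, x⁻¹ * g * x ∈ A) :
    η = η' ∘ conjN A x hx hx' := by
  funext a
  exact (h a _ rfl).symm

theorem conjBy_of_eq_comp {A : Subgroup Γ} {x : Γ} {η η' : A → ℂ}
    (hx : ∀ g ∈ A, x * g * x⁻¹ ∈ A) (hx' : ∀ g ∈ A, x⁻¹ * g * x ∈ A)
    (h : η = η' ∘ conjN A x hx hx') : ConjBy A x η η' := by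
  intro a a' haa'
  have h1 : a' = conjN A x hx hx' a := Subtype.ext haa'
  rw [h, h1]
  rfl

/-- The conjugate of `η` by `x`, as a function. -/
theorem conjBy_comp_symm {A : Subgroup Γ} {x : Γ} (η : A → ℂ)
    (hx : ∀ g ∈ A, x * g * x⁻¹ ∈ A) (hx' : ∀ g ∈ A, x⁻¹ * g * x ∈ A) :
    ConjBy A x η (η ∘ (conjN A x hx hx').symm) := by
  intro a a' haa'
  have h1 : a' = conjN A x hx hx' a := Subtype.ext haa'
  rw [h1, Function.comp_apply, MulEquiv.symm_apply_apply]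

theorem ConjBy.symm {A : Subgroup Γ} {x : Γ} {η η' : A → ℂ} (h : ConjBy A x η η') :
    ConjBy A x⁻¹ η' η := by
  intro a a' haa'
  have h1 : (a : Γ) = x * (a' : Γ) * x⁻¹ := by
    rw [haa']; group
  exact (h a' a h1).symm

theorem ConjBy.trans {A : Subgroup Γ} {x y : Γ} {η η' η'' : A → ℂ} (h : ConjBy A x η η')
    (h' : ConjBy A y η' η'') (hx : ∀ g ∈ A, x * g * x⁻¹ ∈ A) : ConjBy A (y * x) η η'' := by
  intro a a'' haa''
  have h1 : (a'' : Γ) = y * ((⟨x * a * x⁻¹, hx a a.2⟩ : A) : Γ) * y⁻¹ := by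
    rw [haa'']
    show y * x * (a : Γ) * (y * x)⁻¹ = y * (x * a * x⁻¹) * y⁻¹
    group
  rw [h' _ a'' h1]
  exact h a _ rfl

/-- Uniqueness of the conjugate. -/
theorem ConjBy.unique {A : Subgroup Γ} {x : Γ} {η η' η'' : A → ℂ} (h : ConjBy A x η η')
    (h' : ConjBy A x η η'') (hx' : ∀ g ∈ A, x⁻¹ * g * x ∈ A) : η' = η'' := by
  funext a
  have h1 : (a : Γ) = x * ((⟨x⁻¹ * a * x, hx' a a.2⟩ : A) : Γ) * x⁻¹ := by
    show (a : Γ) = x * (x⁻¹ * a * x) * x⁻¹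
    group
  rw [h _ a h1, h' _ a h1]

theorem ConjBy.real {A : Subgroup Γ} {x : Γ} {η η' : A → ℂ} (h : ConjBy A x η η')
    (hx' : ∀ g ∈ A, x⁻¹ * g * x ∈ A) (hη : ∀ a : A, (η a).im = 0) (a : A) : (η' a).im = 0 := by
  have h1 : (a : Γ) = x * ((⟨x⁻¹ * a * x, hx' a a.2⟩ : A) : Γ) * x⁻¹ := by
    show (a : Γ) = x * (x⁻¹ * a * x) * x⁻¹
    group
  rw [h _ a h1]
  exact hη _

/-- Conjugation transports invariance. -/
theorem ConjBy.invUnder {A : Subgroup Γ} {n y : Γ} {η η' : A → ℂ} (h : ConjBy A n η η')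
    (hn' : ∀ g ∈ A, n⁻¹ * g * n ∈ A) (hy : InvUnder A y η) :
    InvUnder A (n * y * n⁻¹) η' := by
  intro a a' haa'
  have h1 : (a : Γ) = n * ((⟨n⁻¹ * a * n, hn' a a.2⟩ : A) : Γ) * n⁻¹ := by
    show (a : Γ) = n * (n⁻¹ * a * n) * n⁻¹
    group
  have h2 : (a' : Γ) = n * ((⟨n⁻¹ * a' * n, hn' a' a'.2⟩ : A) : Γ) * n⁻¹ := by
    show (a' : Γ) = n * (n⁻¹ * a' * n) * n⁻¹
    group
  rw [h _ a h1, h _ a' h2]
  apply hy
  show n⁻¹ * (a' : Γ) * n = y * (n⁻¹ * a * n) * y⁻¹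
  rw [haa']
  group

theorem ConjBy.isIrr {A : Subgroup Γ} {x : Γ} {η η' : A → ℂ} (h : ConjBy A x η η')
    (hx : ∀ g ∈ A, x * g * x⁻¹ ∈ A) (hx' : ∀ g ∈ A, x⁻¹ * g * x ∈ A)
    (hη : IsIrrCharacter A η) : IsIrrCharacter A η' := by
  have h1 : η' = η ∘ (conjN A x hx hx').symm :=
    h.unique (conjBy_comp_symm η hx hx') hx'
  rw [h1]
  exact irr_comp_equiv _ hη

end ConjBy

section Rel

variable {Γ : Type u} [Group Γ] [Fintype Γ] {A B : Subgroup Γ} [Fintype A] [Fintype B]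

omit [Fintype Γ] [Fintype B] in
/-- Multiplicities transported to the type-level group `B`. -/
theorem classInner_subgroupOf (hAB : A ≤ B) [Fintype (A.subgroupOf B)] (ξ : B → ℂ) (η : A → ℂ) :
    classInner (fun n : A.subgroupOf B => ξ n) (η ∘ eSub hAB) = classInner (res hAB ξ) η := by
  have h1 : (fun x : A.subgroupOf B => ξ x) = (res hAB ξ) ∘ eSub hAB := rfl
  rw [h1, classInner_comp_equiv]

omit [Fintype Γ] [Fintype A] [Fintype B] in
theorem charDegree_comp_eSub (hAB : A ≤ B) (η : A → ℂ) :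
    charDegree (η ∘ eSub hAB) = charDegree η := by
  unfold charDegree
  rw [Function.comp_apply, map_one]

/-- A real irreducible character of `A` lies under a real irreducible character of `B`. -/
theorem rel_exists_real_over (hAB : A ≤ B) (hBA : ∀ b ∈ B, ∀ a ∈ A, b * a * b⁻¹ ∈ A)
    (hodd : Odd (A.relIndex B)) (η : IrrCharacter A) (hη : ∀ a : A, ((η : A → ℂ) a).im = 0) :
    ∃ ξ : IrrCharacter B, (∀ b : B, ((ξ : B → ℂ) b).im = 0) ∧
      classInner (res hAB (ξ : B → ℂ)) (η : A → ℂ) ≠ 0 := by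
  classical
  have hnorm := normal_subgroupOf_of_norm hBA
  have : Fintype (A.subgroupOf B) := Fintype.ofFinite _
  obtain ⟨ξ, hξreal, hξ⟩ := exists_real_over (G := B) (A.subgroupOf B) hodd
    ⟨(η : A → ℂ) ∘ eSub hAB, irr_comp_equiv _ η.2⟩ (fun n => hη _)
  refine ⟨ξ, hξreal, ?_⟩
  rw [← classInner_subgroupOf hAB]
  exact hξ

/-- Uniqueness of the real irreducible character of `B` over a given irreducible character of
`A`. -/
theorem rel_real_over_unique (hAB : A ≤ B) (hBA : ∀ b ∈ B, ∀ a ∈ A, b * a * b⁻¹ ∈ A)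
    (hodd : Odd (A.relIndex B)) (η : IrrCharacter A) (ξ₁ ξ₂ : IrrCharacter B)
    (h₁ : ∀ b : B, ((ξ₁ : B → ℂ) b).im = 0) (h₂ : ∀ b : B, ((ξ₂ : B → ℂ) b).im = 0)
    (ho₁ : classInner (res hAB (ξ₁ : B → ℂ)) (η : A → ℂ) ≠ 0)
    (ho₂ : classInner (res hAB (ξ₂ : B → ℂ)) (η : A → ℂ) ≠ 0) : ξ₁ = ξ₂ := by
  classical
  have hnorm := normal_subgroupOf_of_norm hBA
  have : Fintype (A.subgroupOf B) := Fintype.ofFinite _
  refine real_over_unique (G := B) (A.subgroupOf B) hodd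
    ⟨(η : A → ℂ) ∘ eSub hAB, irr_comp_equiv _ η.2⟩ ξ₁ ξ₂ h₁ h₂ ?_ ?_
  · show classInner (fun n : A.subgroupOf B => (ξ₁ : B → ℂ) n) ((η : A → ℂ) ∘ eSub hAB) ≠ 0
    rw [classInner_subgroupOf hAB]
    exact ho₁
  · show classInner (fun n : A.subgroupOf B => (ξ₂ : B → ℂ) n) ((η : A → ℂ) ∘ eSub hAB) ≠ 0
    rw [classInner_subgroupOf hAB]
    exact ho₂

/-- A real irreducible character of `B` lies over a real irreducible character of `A`. -/
theorem rel_exists_real_under (hAB : A ≤ B) (hBA : ∀ b ∈ B, ∀ a ∈ A, b * a * b⁻¹ ∈ A)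
    (hodd : Odd (A.relIndex B)) (ξ : IrrCharacter B) (hξ : ∀ b : B, ((ξ : B → ℂ) b).im = 0) :
    ∃ η : IrrCharacter A, (∀ a : A, ((η : A → ℂ) a).im = 0) ∧
      classInner (res hAB (ξ : B → ℂ)) (η : A → ℂ) ≠ 0 := by
  classical
  have hnorm := normal_subgroupOf_of_norm hBA
  have : Fintype (A.subgroupOf B) := Fintype.ofFinite _
  obtain ⟨θ, hθreal, hθ⟩ := exists_real_under (G := B) (A.subgroupOf B) hodd ξ hξ
  refine ⟨⟨(θ : A.subgroupOf B → ℂ) ∘ (eSub hAB).symm, irr_comp_equiv _ θ.2⟩,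
    fun a => hθreal _, ?_⟩
  rw [← classInner_subgroupOf hAB]
  have h1 : ((θ : A.subgroupOf B → ℂ) ∘ (eSub hAB).symm) ∘ eSub hAB = (θ : A.subgroupOf B → ℂ) := by
    funext n
    simp
  show classInner (fun n : A.subgroupOf B => (ξ : B → ℂ) n)
    (((θ : A.subgroupOf B → ℂ) ∘ (eSub hAB).symm) ∘ eSub hAB) ≠ 0
  rw [h1]
  exact hθ

omit [Fintype Γ] [Fintype A] [Fintype B] in
/-- The inertia group transported to the type-level group `B`. -/
theorem inertia_subgroupOf (hAB : A ≤ B) (hBA : ∀ b ∈ B, ∀ a ∈ A, b * a * b⁻¹ ∈ A)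
    (η : A → ℂ) (J : Subgroup Γ) (hJ : ∀ b ∈ B, b ∈ J ↔ InvUnder A b η) :
    @Cfsg.Agent.Lib.H23.inertia B _ (A.subgroupOf B) (normal_subgroupOf_of_norm hBA)
      (η ∘ eSub hAB) = J.subgroupOf B := by
  have hnorm := normal_subgroupOf_of_norm hBA
  ext g
  have hT : ∀ k : Γ, k ∈ J ⊓ B ↔ k ∈ B ∧ InvUnder A k η := by
    intro k
    rw [Subgroup.mem_inf]
    constructor
    · rintro ⟨h1, h2⟩
      exact ⟨h2, (hJ k h2).mp h1⟩
    · rintro ⟨h1, h2⟩
      exact ⟨(hJ k h1).mpr h2, h1⟩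
  have h1 := inertia_transport (T := J ⊓ B) hAB hBA η hT g
  rw [Cfsg.Agent.Lib.H23.mem_inertia]
  rw [← h1, Subgroup.mem_subgroupOf, Subgroup.mem_subgroupOf, Subgroup.mem_inf]
  exact ⟨fun h => h.1, fun h => ⟨h, g.2⟩⟩

/-- The degree of a real irreducible character of `B` over a real irreducible character of `A`. -/
theorem rel_real_degree (hAB : A ≤ B) (hBA : ∀ b ∈ B, ∀ a ∈ A, b * a * b⁻¹ ∈ A)
    (hodd : Odd (A.relIndex B)) (ξ : IrrCharacter B) (η : IrrCharacter A)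
    (hξ : ∀ b : B, ((ξ : B → ℂ) b).im = 0) (hη : ∀ a : A, ((η : A → ℂ) a).im = 0)
    (hover : classInner (res hAB (ξ : B → ℂ)) (η : A → ℂ) ≠ 0)
    (J : Subgroup Γ) (hJ : ∀ b ∈ B, b ∈ J ↔ InvUnder A b (η : A → ℂ)) :
    charDegree (ξ : B → ℂ) = J.relIndex B * charDegree (η : A → ℂ) := by
  classical
  have hnorm := normal_subgroupOf_of_norm hBA
  have : Fintype (A.subgroupOf B) := Fintype.ofFinite _
  have h1 := real_degree (G := B) (A.subgroupOf B) hodd ξ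
    ⟨(η : A → ℂ) ∘ eSub hAB, irr_comp_equiv _ η.2⟩ hξ (fun n => hη _) (by
      show classInner (fun n : A.subgroupOf B => (ξ : B → ℂ) n) ((η : A → ℂ) ∘ eSub hAB) ≠ 0
      rw [classInner_subgroupOf hAB]
      exact hover)
  rw [h1]
  show (@Cfsg.Agent.Lib.H23.inertia B _ (A.subgroupOf B) hnorm ((η : A → ℂ) ∘ eSub hAB)).index *
    charDegree ((η : A → ℂ) ∘ eSub hAB) = _
  rw [inertia_subgroupOf hAB hBA _ J hJ, charDegree_comp_eSub]
  rfl

/-- The index of the inertia group and the degree of a constituent divide the degree. -/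
theorem rel_dvd_degree (hAB : A ≤ B) (hBA : ∀ b ∈ B, ∀ a ∈ A, b * a * b⁻¹ ∈ A)
    (ξ : IrrCharacter B) (η : IrrCharacter A)
    (hover : classInner (res hAB (ξ : B → ℂ)) (η : A → ℂ) ≠ 0)
    (J : Subgroup Γ) (hJ : ∀ b ∈ B, b ∈ J ↔ InvUnder A b (η : A → ℂ)) :
    J.relIndex B ∣ charDegree (ξ : B → ℂ) ∧ charDegree (η : A → ℂ) ∣ charDegree (ξ : B → ℂ) := by
  classical
  have hnorm := normal_subgroupOf_of_norm hBA
  have : Fintype (A.subgroupOf B) := Fintype.ofFinite _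
  have hover' : classInner (fun n : A.subgroupOf B => (ξ : B → ℂ) n)
      ((η : A → ℂ) ∘ eSub hAB) ≠ 0 := by
    rw [classInner_subgroupOf hAB]
    exact hover
  have hη' : IsIrrCharacter (A.subgroupOf B) ((η : A → ℂ) ∘ eSub hAB) := irr_comp_equiv _ η.2
  constructor
  · have h1 := Cfsg.Agent.Lib.H23.inertia_index_dvd_charDegree (G := B) (A.subgroupOf B) ξ.2 hη'
      hover'
    rw [inertia_subgroupOf hAB hBA _ J hJ] at h1
    exact h1
  · have h1 := Cfsg.Agent.Lib.H23.charDegree_dvd_of_constituent (G := B) (A.subgroupOf B) ξ.2 hη'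
      hover'
    rw [charDegree_comp_eSub] at h1
    exact h1

/-- Clifford: two constituents of the restriction to `A` are conjugate under `B`. -/
theorem rel_conj_of_constituent (hAB : A ≤ B) (hBA : ∀ b ∈ B, ∀ a ∈ A, b * a * b⁻¹ ∈ A)
    (ξ : IrrCharacter B) (η₁ η₂ : IrrCharacter A)
    (h₁ : classInner (res hAB (ξ : B → ℂ)) (η₁ : A → ℂ) ≠ 0)
    (h₂ : classInner (res hAB (ξ : B → ℂ)) (η₂ : A → ℂ) ≠ 0) :
    ∃ b ∈ B, ConjBy A b (η₁ : A → ℂ) (η₂ : A → ℂ) := by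
  classical
  have hnorm := normal_subgroupOf_of_norm hBA
  have : Fintype (A.subgroupOf B) := Fintype.ofFinite _
  obtain ⟨k, hk⟩ := conj_of_constituent (K := B) (A.subgroupOf B) (ξ : B → ℂ) ξ.2
    ((η₁ : A → ℂ) ∘ eSub hAB) ((η₂ : A → ℂ) ∘ eSub hAB) (irr_comp_equiv _ η₁.2)
    (irr_comp_equiv _ η₂.2) (by rw [classInner_subgroupOf hAB]; exact h₁)
    (by rw [classInner_subgroupOf hAB]; exact h₂)
  refine ⟨((k⁻¹ : B) : Γ), (k⁻¹).2, ?_⟩
  intro a a' haa'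
  have h3 := congrFun hk ((eSub hAB).symm a')
  rw [conjChar_apply] at h3
  simp only [Function.comp_apply, MulEquiv.apply_symm_apply] at h3
  rw [h3]
  refine congrArg _ ?_
  apply Subtype.ext
  rw [eSub_coe]
  have h4 : ((((eSub hAB).symm a' : A.subgroupOf B) : B) : Γ) = (a' : Γ) := by
    rw [← eSub_coe hAB, MulEquiv.apply_symm_apply]
  simp only [Subgroup.coe_mul, Subgroup.coe_inv]
  rw [h4, haa']
  simp only [Subgroup.coe_inv]
  group

omit [Fintype Γ] [Fintype B] in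
/-- Lying over is invariant under conjugation by elements of `B`. -/
theorem rel_over_conj (hAB : A ≤ B) (hBA : ∀ b ∈ B, ∀ a ∈ A, b * a * b⁻¹ ∈ A)
    (ξ : B → ℂ) (hξ : IsClassFunction B ξ) {b : Γ} (hb : b ∈ B) (η η' : A → ℂ)
    (h : ConjBy A b η η') : classInner (res hAB ξ) η' = classInner (res hAB ξ) η := by
  have hb1 : ∀ g ∈ A, b * g * b⁻¹ ∈ A := hBA b hb
  have hb2 : ∀ g ∈ A, b⁻¹ * g * b ∈ A := by
    intro g hg
    have := hBA b⁻¹ (B.inv_mem hb) g hg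
    rwa [inv_inv] at this
  have h1 : res hAB ξ = (res hAB ξ) ∘ conjN A b hb1 hb2 := by
    funext a
    show ξ ⟨a, hAB a.2⟩ = ξ ⟨b * a * b⁻¹, hAB (hb1 a a.2)⟩
    have h2 := hξ ⟨a, hAB a.2⟩ ⟨b, hb⟩
    rw [← h2]
    rfl
  rw [h.eq_comp hb1 hb2]
  conv_rhs => rw [h1]
  rw [classInner_comp_equiv]

end Rel

end Cfsg.Agent.Lib.H1.RealBij
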