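import Mathlib
import Cfsg.Agent.Lib.H1.RealBijB

/-!
# The relative Glauberman correspondence: reality and equivariance (helper1)

In helper24's setting `RG p P K Q C`, the correspondence `θ ↔ η` (`p ∤ [θ_C, η]`) between the
`P`-invariant irreducible characters of `K` and of `C` commutes with complex conjugation and with
conjugation by elements normalising `P`, `K` and `C`.
-/

set_option autoImplicit false

universe u

namespace Cfsg.Agent.Lib.H1.RealBij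

open Cfsg Cfsg.Agent.Lib.L0 Cfsg.Agent.Lib.H24 Cfsg.Agent.Lib.H23 Cfsg.Agent.Lib.H24.Glaub
  Cfsg.Agent.Lib.H24.RelGlaub
open scoped ComplexConjugate

section

variable {Γ : Type u} [Group Γ]

/-- Conjugation by an element normalising `P` preserves `P`-invariance. -/
theorem pinv_conj {A P : Subgroup Γ} {n : Γ} {η η' : A → ℂ} (h : ConjBy A n η η')
    (hnA' : ∀ g ∈ A, n⁻¹ * g * n ∈ A) (hnP' : ∀ x ∈ P, n⁻¹ * x * n ∈ P)
    (hη : ∀ x ∈ P, InvUnder A x η) : ∀ x ∈ P, InvUnder A x η' := by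
  intro x hx
  have h1 := h.invUnder hnA' (hη _ (hnP' x hx))
  have h2 : n * (n⁻¹ * x * n) * n⁻¹ = x := by group
  rwa [h2] at h1

end

section

variable {Γ : Type u} [Group Γ] [Fintype Γ] {p : ℕ} {P K Q C : Subgroup Γ}
  [Fintype Q] [Fintype K] [Fintype C]

namespace RGx

theorem m_exists (h : RG p P K Q C) (θ : IrrCharacter K)
    (hθ : ∀ x ∈ P, InvUnder K x (θ : K → ℂ)) :
    ∃ η : IrrCharacter C, (∀ x ∈ P, InvUnder C x (η : C → ℂ)) ∧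
      ¬ p ∣ resMult h.hCK (θ : K → ℂ) (η : C → ℂ) ∧
      (∀ η' : IrrCharacter C, (∀ x ∈ P, InvUnder C x (η' : C → ℂ)) →
        ¬ p ∣ resMult h.hCK (θ : K → ℂ) (η' : C → ℂ) → η' = η) ∧
      ∃ ε : ℤ, (ε = 1 ∨ ε = -1) ∧
        (p : ℤ) ∣ (charDegree (θ : K → ℂ) : ℤ) - ε * (charDegree (η : C → ℂ) : ℤ) := by
  obtain ⟨η, hη, ε, hε, hall⟩ := h.corr_exists θ hθ
  refine ⟨η, hη, ?_, ?_, ε, hε, h.corr_degree θ hθ η hη ε hall⟩
  · have h1 := hall η hη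
    rw [if_pos rfl] at h1
    exact not_dvd_of_dvd_sub_sign h.hp hε h1
  · intro η' hη' hnd
    by_contra hne
    have h1 := hall η' hη'
    rw [if_neg hne] at h1
    exact hnd (dvd_of_dvd_sub_zero h1)

theorem m_unique (h : RG p P K Q C) (θ : IrrCharacter K)
    (hθ : ∀ x ∈ P, InvUnder K x (θ : K → ℂ)) (η η' : IrrCharacter C)
    (hη : ∀ x ∈ P, InvUnder C x (η : C → ℂ)) (hη' : ∀ x ∈ P, InvUnder C x (η' : C → ℂ))
    (h1 : ¬ p ∣ resMult h.hCK (θ : K → ℂ) (η : C → ℂ))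
    (h2 : ¬ p ∣ resMult h.hCK (θ : K → ℂ) (η' : C → ℂ)) : η = η' := by
  obtain ⟨η₀, -, -, huniq, -⟩ := m_exists h θ hθ
  rw [huniq η hη h1, huniq η' hη' h2]

theorem m_degree (h : RG p P K Q C) (θ : IrrCharacter K)
    (hθ : ∀ x ∈ P, InvUnder K x (θ : K → ℂ)) (η : IrrCharacter C)
    (hη : ∀ x ∈ P, InvUnder C x (η : C → ℂ))
    (h1 : ¬ p ∣ resMult h.hCK (θ : K → ℂ) (η : C → ℂ)) :
    ∃ ε : ℤ, (ε = 1 ∨ ε = -1) ∧
      (p : ℤ) ∣ (charDegree (θ : K → ℂ) : ℤ) - ε * (charDegree (η : C → ℂ) : ℤ) := by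
  obtain ⟨η₀, -, -, huniq, hdeg⟩ := m_exists h θ hθ
  rw [huniq η hη h1]
  exact hdeg

/-- The correspondence commutes with complex conjugation. -/
theorem m_real (h : RG p P K Q C) (θ : IrrCharacter K)
    (hθ : ∀ x ∈ P, InvUnder K x (θ : K → ℂ)) (η : IrrCharacter C)
    (hη : ∀ x ∈ P, InvUnder C x (η : C → ℂ))
    (h1 : ¬ p ∣ resMult h.hCK (θ : K → ℂ) (η : C → ℂ)) :
    (∀ k : K, ((θ : K → ℂ) k).im = 0) ↔ (∀ c : C, ((η : C → ℂ) c).im = 0) := by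
  have hθ' : ∀ x ∈ P, InvUnder K x (irrConj θ : K → ℂ) := by
    intro x hx g g' hgg'
    show conj ((θ : K → ℂ) g') = conj ((θ : K → ℂ) g)
    rw [hθ x hx g g' hgg']
  have hη' : ∀ x ∈ P, InvUnder C x (irrConj η : C → ℂ) := by
    intro x hx g g' hgg'
    show conj ((η : C → ℂ) g') = conj ((η : C → ℂ) g)
    rw [hη x hx g g' hgg']
  have hmult : resMult h.hCK (irrConj θ : K → ℂ) (irrConj η : C → ℂ) =
      resMult h.hCK (θ : K → ℂ) (η : C → ℂ) := resMult_conj_conj h.hCK _ _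
  constructor
  · intro hreal
    rw [real_iff_irrConj] at hreal ⊢
    apply m_unique h θ hθ (irrConj η) η hη' hη ?_ h1
    rw [← hmult, hreal] at h1
    exact h1
  · intro hreal
    rw [real_iff_irrConj] at hreal ⊢
    apply h.corr_inj (irrConj θ) θ hθ' hθ η hη ?_ h1
    rw [← hmult, hreal] at h1
    exact h1

omit [Fintype Q] [Fintype K] in
/-- The multiplicities are compatible with simultaneous conjugation. -/
theorem m_conj (h : RG p P K Q C) {n : Γ}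
    (hnK : ∀ g ∈ K, n * g * n⁻¹ ∈ K) (hnK' : ∀ g ∈ K, n⁻¹ * g * n ∈ K)
    (hnC : ∀ g ∈ C, n * g * n⁻¹ ∈ C) (hnC' : ∀ g ∈ C, n⁻¹ * g * n ∈ C)
    (θ θ' : K → ℂ) (η η' : C → ℂ) (hθ : ConjBy K n θ θ') (hη : ConjBy C n η η') :
    resMult h.hCK θ' η' = resMult h.hCK θ η := by
  rw [hθ.eq_comp hnK hnK', hη.eq_comp hnC hnC']
  exact (resMult_conj_both h.hCK hnK hnK' hnC hnC' θ' η').symm

/-- Equivariance: conjugate characters of `K` have conjugate correspondents. -/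
theorem m_conj_right (h : RG p P K Q C) {n : Γ}
    (hnK : ∀ g ∈ K, n * g * n⁻¹ ∈ K) (hnK' : ∀ g ∈ K, n⁻¹ * g * n ∈ K)
    (hnC : ∀ g ∈ C, n * g * n⁻¹ ∈ C) (hnC' : ∀ g ∈ C, n⁻¹ * g * n ∈ C)
    (hnP' : ∀ x ∈ P, n⁻¹ * x * n ∈ P)
    (θ θ' : IrrCharacter K) (η η' : IrrCharacter C)
    (hθ' : ∀ x ∈ P, InvUnder K x (θ' : K → ℂ))
    (hη : ∀ x ∈ P, InvUnder C x (η : C → ℂ)) (hη' : ∀ x ∈ P, InvUnder C x (η' : C → ℂ))
    (h1 : ¬ p ∣ resMult h.hCK (θ : K → ℂ) (η : C → ℂ))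
    (h2 : ¬ p ∣ resMult h.hCK (θ' : K → ℂ) (η' : C → ℂ))
    (hconj : ConjBy K n (θ : K → ℂ) (θ' : K → ℂ)) : ConjBy C n (η : C → ℂ) (η' : C → ℂ) := by
  have hc := conjBy_comp_symm (η : C → ℂ) hnC hnC'
  set η'' : IrrCharacter C := ⟨(η : C → ℂ) ∘ (conjN C n hnC hnC').symm, irr_comp_equiv _ η.2⟩
    with hη''def
  have hη''inv : ∀ x ∈ P, InvUnder C x (η'' : C → ℂ) := pinv_conj hc hnC' hnP' hη
  have h3 : ¬ p ∣ resMult h.hCK (θ' : K → ℂ) (η'' : C → ℂ) := by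
    have := m_conj h hnK hnK' hnC hnC' (θ : K → ℂ) (θ' : K → ℂ) (η : C → ℂ) (η'' : C → ℂ) hconj hc
    rw [this]
    exact h1
  have h4 : η'' = η' := m_unique h θ' hθ' η'' η' hη''inv hη' h3 h2
  rw [← h4]
  exact hc

/-- Equivariance: conjugate characters of `C` have conjugate correspondents. -/
theorem m_conj_left (h : RG p P K Q C) {n : Γ}
    (hnK : ∀ g ∈ K, n * g * n⁻¹ ∈ K) (hnK' : ∀ g ∈ K, n⁻¹ * g * n ∈ K)
    (hnC : ∀ g ∈ C, n * g * n⁻¹ ∈ C) (hnC' : ∀ g ∈ C, n⁻¹ * g * n ∈ C)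
    (hnP' : ∀ x ∈ P, n⁻¹ * x * n ∈ P)
    (θ θ' : IrrCharacter K) (η η' : IrrCharacter C)
    (hθ : ∀ x ∈ P, InvUnder K x (θ : K → ℂ)) (hθ' : ∀ x ∈ P, InvUnder K x (θ' : K → ℂ))
    (hη' : ∀ x ∈ P, InvUnder C x (η' : C → ℂ))
    (h1 : ¬ p ∣ resMult h.hCK (θ : K → ℂ) (η : C → ℂ))
    (h2 : ¬ p ∣ resMult h.hCK (θ' : K → ℂ) (η' : C → ℂ))
    (hconj : ConjBy C n (η : C → ℂ) (η' : C → ℂ)) : ConjBy K n (θ : K → ℂ) (θ' : K → ℂ) := by
  have hc := conjBy_comp_symm (θ : K → ℂ) hnK hnK'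
  set θ'' : IrrCharacter K := ⟨(θ : K → ℂ) ∘ (conjN K n hnK hnK').symm, irr_comp_equiv _ θ.2⟩
    with hθ''def
  have hθ''inv : ∀ x ∈ P, InvUnder K x (θ'' : K → ℂ) := pinv_conj hc hnK' hnP' hθ
  have h3 : ¬ p ∣ resMult h.hCK (θ'' : K → ℂ) (η' : C → ℂ) := by
    have := m_conj h hnK hnK' hnC hnC' (θ : K → ℂ) (θ'' : K → ℂ) (η : C → ℂ) (η' : C → ℂ) hc hconj
    rw [this]
    exact h1
  have h4 : θ'' = θ' := h.corr_inj θ'' θ' hθ''inv hθ' η' hη' h3 h2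
  rw [← h4]
  exact hc

end RGx

end

end Cfsg.Agent.Lib.H1.RealBij
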