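import Mathlib
import Cfsg.Agent.Lib.H1.RealBijC

/-!
# Sylow arguments and an abstract bijection lemma (helper1)

* `index_modEq_relIndex_normalizer`: for `P ≤ I` with `P` a Sylow `p`-subgroup of `G`,
  `|G : I| ≡ |N_G(P) : N_I(P)|` modulo `p`;
* `exists_normalizer_conjBy`: two `P`-invariant conjugate characters of a normal subgroup are
  conjugate under `N_G(P)`;
* `pgroup_le_of_not_dvd_relIndex`: a normal `p`-subgroup lies in every subgroup of index prime to `p`;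
* `exists_bijection_of_relations`: gluing two "lying over" relations along a correspondence.
-/

set_option autoImplicit false

universe u

namespace Cfsg.Agent.Lib.H1.RealBij

open Cfsg Cfsg.Agent.Lib.L0 Cfsg.Agent.Lib.H24 Cfsg.Agent.Lib.H23 Cfsg.Agent.Lib.H24.Glaub
open scoped ComplexConjugate

section Sylow

variable {Γ : Type u} [Group Γ] [Finite Γ] {p : ℕ} [hp : Fact p.Prime]

/-- Sylow counting: `|G : I| ≡ |N_G(P) : N_I(P)|` modulo `p` when `P ≤ I`. -/
theorem index_modEq_relIndex_normalizer (P : Sylow p Γ) (I : Subgroup Γ)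
    (hPI : (P : Subgroup Γ) ≤ I) :
    I.index ≡ I.relIndex (Subgroup.normalizer ((P : Subgroup Γ) : Set Γ)) [MOD p] := by
  set N : Subgroup Γ := Subgroup.normalizer ((P : Subgroup Γ) : Set Γ) with hN
  have h1 : N.index ≡ 1 [MOD p] := by
    have h0 := card_sylow_modEq_one p Γ
    rw [Sylow.card_eq_index_normalizer P] at h0
    exact h0
  have h2 : N.relIndex I ≡ 1 [MOD p] := by
    have h3 := card_sylow_modEq_one p I
    rw [Sylow.card_eq_index_normalizer (P.subtype hPI)] at h3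
    have h4 : Subgroup.normalizer ((P.subtype hPI : Sylow p I) : Set I) =
        N.subgroupOf I := (Subgroup.subgroupOf_normalizer_eq hPI).symm
    rw [h4] at h3
    exact h3
  have h5 : N.relIndex I * I.index = I.relIndex N * N.index := by
    rw [← Subgroup.inf_relIndex_left, Subgroup.relIndex_mul_index inf_le_left,
      ← Subgroup.inf_relIndex_right I N, Subgroup.relIndex_mul_index inf_le_right]
  calc I.index = 1 * I.index := (one_mul _).symm
    _ ≡ N.relIndex I * I.index [MOD p] := (h2.symm).mul_right _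
    _ = I.relIndex N * N.index := h5
    _ ≡ I.relIndex N * 1 [MOD p] := h1.mul_left _
    _ = I.relIndex N := mul_one _

/-- Two `P`-invariant functions on a normal subgroup which are conjugate are conjugate under the
normaliser of the Sylow subgroup `P`. -/
theorem exists_normalizer_conjBy (P : Sylow p Γ) (A : Subgroup Γ) [hA : A.Normal]
    (θ θ' : A → ℂ) (hθ : ∀ x ∈ (P : Subgroup Γ), InvUnder A x θ)
    (hθ' : ∀ x ∈ (P : Subgroup Γ), InvUnder A x θ') (g : Γ) (hconj : ConjBy A g θ θ') :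
    ∃ n ∈ Subgroup.normalizer ((P : Subgroup Γ) : Set Γ), ConjBy A n θ θ' := by
  have hAn : ∀ y : Γ, ∀ a ∈ A, y * a * y⁻¹ ∈ A := fun y a ha => hA.conj_mem a ha y
  have hAn' : ∀ y : Γ, ∀ a ∈ A, y⁻¹ * a * y ∈ A := fun y a ha => by
    have := hA.conj_mem a ha y⁻¹
    rwa [inv_inv] at this
  set I : Subgroup Γ := invStab A θ' with hI
  have hmemI : ∀ y : Γ, y ∈ I ↔ InvUnder A y θ' := by
    intro y
    rw [hI, mem_invStab]
    constructor
    · exact fun h => h.2
    · intro h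
      refine ⟨?_, h⟩
      rw [Subgroup.mem_normalizer_iff]
      intro a
      constructor
      · exact hAn y a
      · intro h1
        have := hAn' y _ h1
        have h2 : y⁻¹ * (y * a * y⁻¹) * y = a := by group
        rwa [h2] at this
  have hPI : (P : Subgroup Γ) ≤ I := fun x hx => (hmemI x).mpr (hθ' x hx)
  have hgPI : ((g • P : Sylow p Γ) : Subgroup Γ) ≤ I := by
    intro y hy
    rw [Sylow.coe_subgroup_smul] at hy
    obtain ⟨x, hx, rfl⟩ := hy
    rw [hmemI]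
    have h1 := hconj.invUnder (hAn' g) (hθ x hx)
    exact h1
  obtain ⟨i, hi⟩ := MulAction.exists_smul_eq I (P.subtype hPI) ((g • P).subtype hgPI)
  rw [Sylow.smul_subtype hPI i] at hi
  have h2 : (i • P : Sylow p Γ) = g • P := Sylow.subtype_injective hi
  have h3 : ((i : Γ)⁻¹ * g) • P = P := by
    rw [mul_smul, ← h2]
    show (i : Γ)⁻¹ • ((i : Γ) • P) = P
    rw [inv_smul_smul]
  refine ⟨(i : Γ)⁻¹ * g, Sylow.smul_eq_iff_mem_normalizer.mp h3, ?_⟩
  have h4 : ConjBy A (i : Γ)⁻¹ θ' θ' := by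
    rw [conjBy_self_iff]
    exact ((hmemI _).mp i.2).inv
  exact hconj.trans h4 (hAn g)

omit hp [Finite Γ] in
/-- A `p`-subgroup normalised by `B` lies in every subgroup of `B` of index prime to `p`. -/
theorem pgroup_le_of_not_dvd_relIndex (hp' : p.Prime) (P B J : Subgroup Γ) (hP : IsPGroup p P)
    (hPB : P ≤ B) (hBP : ∀ b ∈ B, ∀ x ∈ P, b⁻¹ * x * b ∈ P) (hJ : ¬ p ∣ J.relIndex B) :
    P ≤ J := by
  have : Fact p.Prime := ⟨hp'⟩
  have hP' : IsPGroup p (P.subgroupOf B) := hP.comap_subtype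
  have h1 : ¬ p ∣ Nat.card (B ⧸ J.subgroupOf B) := by
    rw [← Subgroup.index_eq_card]
    exact hJ
  obtain ⟨q, hq⟩ := hP'.nonempty_fixed_point_of_prime_not_dvd_card (B ⧸ J.subgroupOf B) h1
  obtain ⟨a, rfl⟩ := QuotientGroup.mk_surjective q
  intro x hx
  -- apply the fixed point property to `a x a⁻¹`
  have hy : (a : Γ) * x * (a : Γ)⁻¹ ∈ P := by
    have := hBP (a : Γ)⁻¹ (B.inv_mem a.2) x hx
    rwa [inv_inv] at this
  set y : B := ⟨(a : Γ) * x * (a : Γ)⁻¹, hPB hy⟩ with hydef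
  have hyP : y ∈ P.subgroupOf B := Subgroup.mem_subgroupOf.mpr hy
  have h2 : (⟨y, hyP⟩ : P.subgroupOf B) • (QuotientGroup.mk a : B ⧸ J.subgroupOf B) =
      QuotientGroup.mk a := hq ⟨y, hyP⟩
  have h3 : (QuotientGroup.mk (y * a) : B ⧸ J.subgroupOf B) = QuotientGroup.mk a := h2
  rw [QuotientGroup.eq] at h3
  have h4 := Subgroup.mem_subgroupOf.mp h3
  have h5 : (((y * a)⁻¹ * a : B) : Γ) = x⁻¹ := by
    simp only [Subgroup.coe_mul, Subgroup.coe_inv, hydef]
    group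
  rw [h5] at h4
  exact (Subgroup.inv_mem_iff J).mp h4

end Sylow

section Abstract

/-- Gluing: `X` and `Y` are parametrised by the orbits (under relations `c₁`, `c₂`) on `S` and `T`, and
`M` is a correspondence between `S` and `T` compatible with the orbit relations. -/
theorem exists_bijection_of_relations {X Y S T : Type*}
    (o₁ : X → S → Prop) (o₂ : Y → T → Prop) (M : S → T → Prop)
    (c₁ : S → S → Prop) (c₂ : T → T → Prop)
    (a1 : ∀ x, ∃ s, o₁ x s) (a2 : ∀ x s s', o₁ x s → o₁ x s' → c₁ s s')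
    (a3 : ∀ s, ∃ x, o₁ x s) (a4 : ∀ x x' s, o₁ x s → o₁ x' s → x = x')
    (a5 : ∀ x s s', o₁ x s → c₁ s s' → o₁ x s')
    (b1 : ∀ y, ∃ t, o₂ y t) (b2 : ∀ y t t', o₂ y t → o₂ y t' → c₂ t t')
    (b3 : ∀ t, ∃ y, o₂ y t) (b4 : ∀ y y' t, o₂ y t → o₂ y' t → y = y')
    (b5 : ∀ y t t', o₂ y t → c₂ t t' → o₂ y t')
    (m1 : ∀ s, ∃ t, M s t) (m2 : ∀ t, ∃ s, M s t)
    (m5 : ∀ s s' t t', M s t → M s' t' → c₁ s s' → c₂ t t')
    (m6 : ∀ s s' t t', M s t → M s' t' → c₂ t t' → c₁ s s') :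
    ∃ f : X → Y, Function.Bijective f ∧ ∀ x, ∃ s t, o₁ x s ∧ o₂ (f x) t ∧ M s t := by
  have hex : ∀ x, ∃ y, ∃ s t, o₁ x s ∧ o₂ y t ∧ M s t := by
    intro x
    obtain ⟨s, hs⟩ := a1 x
    obtain ⟨t, ht⟩ := m1 s
    obtain ⟨y, hy⟩ := b3 t
    exact ⟨y, s, t, hs, hy, ht⟩
  choose f hf using hex
  refine ⟨f, ⟨?_, ?_⟩, hf⟩
  · intro x x' hxx'
    obtain ⟨s, t, hs, ht, hM⟩ := hf x
    obtain ⟨s', t', hs', ht', hM'⟩ := hf x'
    rw [hxx'] at ht
    have h1 : c₂ t t' := b2 _ t t' ht ht'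
    have h2 : c₁ s s' := m6 s s' t t' hM hM' h1
    exact a4 x x' s' (a5 x s s' hs h2) hs'
  · intro y
    obtain ⟨t, ht⟩ := b1 y
    obtain ⟨s, hM⟩ := m2 t
    obtain ⟨x, hs⟩ := a3 s
    refine ⟨x, ?_⟩
    obtain ⟨s₁, t₁, hs₁, ht₁, hM₁⟩ := hf x
    have h1 : c₁ s₁ s := a2 x s₁ s hs₁ hs
    have h2 : c₂ t₁ t := m5 s₁ s t₁ t hM₁ hM h1
    exact b4 (f x) y t (b5 (f x) t₁ t ht₁ h2) ht

end Abstract

end Cfsg.Agent.Lib.H1.RealBij
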