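import Mathlib
import Cfsg.Agent.S4866
import Cfsg.Agent.Lib.H24.GlaubReal

/-!
# Real classes and the normaliser of a Sylow subgroup: orbit counting (helper1)

Ambient form of S4866 and auxiliary relations.
-/

set_option autoImplicit false

universe u

namespace Cfsg.Agent.Lib.H1.RealNorm

open Cfsg Cfsg.Agent.Lib.L0 Cfsg.Agent.Lib.H24 Cfsg.Agent.Lib.H24.Glaub
open scoped ComplexConjugate

section Rel

variable {Γ : Type u} [Group Γ]

/-- The relation on real irreducible characters of `C` induced by conjugation with elements of `N`. -/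
def relX (C N : Subgroup Γ) :
    {β : IrrCharacter C // ∀ c : C, ((β : C → ℂ) c).im = 0} →
    {β : IrrCharacter C // ∀ c : C, ((β : C → ℂ) c).im = 0} → Prop :=
  fun β η => ∃ n ∈ N, ∀ c c' : C, (c' : Γ) = n * (c : Γ) * n⁻¹ → (η.1 : C → ℂ) c' = (β.1 : C → ℂ) c

/-- The relation on real elements of `C` induced by conjugation with elements of `N`. -/
def relY (C N : Subgroup Γ) : {c : C // IsConj c c⁻¹} → {c : C // IsConj c c⁻¹} → Prop :=
  fun x y => ∃ n ∈ N, ((y.1 : C) : Γ) = n * ((x.1 : C) : Γ) * n⁻¹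

theorem relY_equivalence (C N : Subgroup Γ) : Equivalence (relY C N) where
  refl x := ⟨1, N.one_mem, by simp⟩
  symm := by
    rintro x y ⟨n, hn, h⟩
    refine ⟨n⁻¹, N.inv_mem hn, ?_⟩
    rw [h]
    group
  trans := by
    rintro x y z ⟨n, hn, h⟩ ⟨m, hm, h'⟩
    refine ⟨m * n, N.mul_mem hm hn, ?_⟩
    rw [h', h]
    group

theorem quot_relY_eq_iff (C N : Subgroup Γ) (x y : {c : C // IsConj c c⁻¹}) :
    Quot.mk (relY C N) x = Quot.mk (relY C N) y ↔ relY C N x y := by
  rw [Quot.eq]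
  exact (relY_equivalence C N).eqvGen_iff

end Rel

section Amb

variable {Γ : Type u} [Group Γ] [Finite Γ]

omit [Finite Γ] in
theorem subgroupOf_normal_of_norm (C N : Subgroup Γ)
    (hnorm : ∀ n ∈ N, ∀ c ∈ C, n * c * n⁻¹ ∈ C) : (C.subgroupOf N).Normal := by
  constructor
  intro x hx g
  rw [Subgroup.mem_subgroupOf] at hx ⊢
  simp only [Subgroup.coe_mul, Subgroup.coe_inv]
  exact hnorm g g.2 x hx

/-- Ambient form of S4866: `C ≤ N` subgroups of `Γ`, `N` normalises `C`, `|N : C|` odd; then `N` has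
as many orbits on the real irreducible characters of `C` as on the real elements of `C`. -/
theorem amb_count (C N : Subgroup Γ) (hCN : C ≤ N)
    (hnorm : ∀ n ∈ N, ∀ c ∈ C, n * c * n⁻¹ ∈ C) (hodd : Odd (C.relIndex N)) :
    Nat.card (Quot (relX C N)) = Nat.card (Quot (relY C N)) := by
  classical
  have := subgroupOf_normal_of_norm C N hnorm
  have h := Cfsg.Agent.S4866.result (G := N) (C.subgroupOf N) hodd
  set e : ↥(C.subgroupOf N) ≃* ↥C := Subgroup.subgroupOfEquivOfLe hCN with he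
  have hecoe : ∀ k : ↥(C.subgroupOf N), ((e k : C) : Γ) = ((k : N) : Γ) := fun k => rfl
  have hesymm : ∀ c : C, (((e.symm c : ↥(C.subgroupOf N)) : N) : Γ) = (c : Γ) := by
    intro c
    rw [← hecoe, MulEquiv.apply_symm_apply]
  -- characters
  let eX : {θ : IrrCharacter ↥(C.subgroupOf N) // ∀ k, ((θ : ↥(C.subgroupOf N) → ℂ) k).im = 0} ≃
      {β : IrrCharacter C // ∀ c : C, ((β : C → ℂ) c).im = 0} :=
    { toFun := fun θ => ⟨⟨(θ.1 : ↥(C.subgroupOf N) → ℂ) ∘ e.symm,
        isIrrCharacter_comp_of_surjective e.symm.toMonoidHom e.symm.surjective θ.1.2⟩,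
        fun c => θ.2 _⟩
      invFun := fun β => ⟨⟨(β.1 : C → ℂ) ∘ e,
        isIrrCharacter_comp_of_surjective e.toMonoidHom e.surjective β.1.2⟩, fun k => β.2 _⟩
      left_inv := by
        intro θ
        apply Subtype.ext; apply Subtype.ext
        funext k
        simp
      right_inv := by
        intro β
        apply Subtype.ext; apply Subtype.ext
        funext c
        simp }
  have hX : Nat.card (Quot (fun θ η : {θ : IrrCharacter ↥(C.subgroupOf N) //
        ∀ k, ((θ : ↥(C.subgroupOf N) → ℂ) k).im = 0} =>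
      ∃ g : N, ∀ k k' : ↥(C.subgroupOf N), (k' : N) = g * (k : N) * g⁻¹ →
        (η.1 : ↥(C.subgroupOf N) → ℂ) k' = (θ.1 : ↥(C.subgroupOf N) → ℂ) k)) =
      Nat.card (Quot (relX C N)) := by
    refine Nat.card_congr (Quot.congr eX ?_)
    intro θ η
    constructor
    · rintro ⟨g, hg⟩
      refine ⟨(g : Γ), g.2, ?_⟩
      intro c c' hcc'
      show (η.1 : ↥(C.subgroupOf N) → ℂ) (e.symm c') = (θ.1 : ↥(C.subgroupOf N) → ℂ) (e.symm c)
      apply hg
      apply Subtype.ext
      rw [hesymm, Subgroup.coe_mul, Subgroup.coe_mul, Subgroup.coe_inv, hesymm, hcc']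
    · rintro ⟨n, hn, h1⟩
      refine ⟨⟨n, hn⟩, ?_⟩
      intro k k' hkk'
      have h2 := h1 (e k) (e k') (by
        rw [hecoe, hecoe, hkk']
        rfl)
      have h3 : ((eX η).1 : C → ℂ) (e k') = (η.1 : ↥(C.subgroupOf N) → ℂ) k' := by
        show (η.1 : ↥(C.subgroupOf N) → ℂ) (e.symm (e k')) = _
        rw [MulEquiv.symm_apply_apply]
      have h4 : ((eX θ).1 : C → ℂ) (e k) = (θ.1 : ↥(C.subgroupOf N) → ℂ) k := by
        show (θ.1 : ↥(C.subgroupOf N) → ℂ) (e.symm (e k)) = _
        rw [MulEquiv.symm_apply_apply]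
      rw [← h3, ← h4]
      exact h2
  -- elements
  let eY : {x : ↥(C.subgroupOf N) // IsConj x x⁻¹} ≃ {c : C // IsConj c c⁻¹} :=
    { toFun := fun x => ⟨e x.1, by
        have := e.toMonoidHom.map_isConj x.2
        simpa using this⟩
      invFun := fun c => ⟨e.symm c.1, by
        have := e.symm.toMonoidHom.map_isConj c.2
        simpa using this⟩
      left_inv := fun x => Subtype.ext (e.symm_apply_apply x.1)
      right_inv := fun c => Subtype.ext (e.apply_symm_apply c.1) }
  have hY : Nat.card (Quot (fun x y : {x : ↥(C.subgroupOf N) // IsConj x x⁻¹} =>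
      ∃ g : N, (y.1 : N) = g * x.1 * g⁻¹)) = Nat.card (Quot (relY C N)) := by
    refine Nat.card_congr (Quot.congr eY ?_)
    intro x y
    constructor
    · rintro ⟨g, hg⟩
      refine ⟨(g : Γ), g.2, ?_⟩
      show ((e y.1 : C) : Γ) = (g : Γ) * ((e x.1 : C) : Γ) * (g : Γ)⁻¹
      rw [hecoe, hecoe, hg]
      rfl
    · rintro ⟨n, hn, h1⟩
      refine ⟨⟨n, hn⟩, ?_⟩
      apply Subtype.ext
      have h2 : ((e y.1 : C) : Γ) = n * ((e x.1 : C) : Γ) * n⁻¹ := h1
      rw [hecoe, hecoe] at h2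
      rw [h2]
      rfl
  rw [← hX, ← hY]
  exact h

end Amb

end Cfsg.Agent.Lib.H1.RealNorm
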