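import Mathlib
import Cfsg.Agent.Lib.H1.RealNormA

/-!
# Real classes and the normaliser of a Sylow subgroup: the coprime core (helper1)

`K ⊴ Γ` of odd index with `p ∤ |K|`, `P` a Sylow `p`-subgroup of `Γ`.  If every real irreducible
character of `K` is invariant under some conjugate of `P`, then every real element of `K` is
`Γ`-conjugate to an element centralised by `P` (`real_conj_mem_centralizer`).
-/

set_option autoImplicit false

universe u

namespace Cfsg.Agent.Lib.H1.RealNorm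

open Cfsg Cfsg.Agent.Lib.L0 Cfsg.Agent.Lib.H24 Cfsg.Agent.Lib.H24.Glaub
open scoped ComplexConjugate

section Basic

variable {Γ : Type u} [Group Γ] {p : ℕ} [hp : Fact p.Prime]

theorem eq_one_of_mem_of_mem (K : Subgroup Γ) (P : Sylow p Γ) (hpK : ¬ p ∣ Nat.card K) {x : Γ}
    (hxK : x ∈ K) (hxP : x ∈ (P : Subgroup Γ)) : x = 1 := by
  obtain ⟨k, hk⟩ := P.2 ⟨x, hxP⟩
  have hk' : x ^ p ^ k = 1 := by
    have := congrArg Subtype.val hk
    simpa using this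
  have h1 : orderOf x ∣ p ^ k := orderOf_dvd_of_pow_eq_one hk'
  have h2 : orderOf x ∣ Nat.card K := by
    have h3 : orderOf (⟨x, hxK⟩ : K) ∣ Nat.card K := orderOf_dvd_natCard _
    rwa [Subgroup.orderOf_mk] at h3
  have hcop : Nat.Coprime (p ^ k) (Nat.card K) :=
    Nat.Coprime.pow_left k ((Nat.Prime.coprime_iff_not_dvd hp.out).mpr hpK)
  have h4 : orderOf x ∣ 1 := by
    rw [← hcop]
    exact Nat.dvd_gcd h1 h2
  exact orderOf_eq_one_iff.mp (Nat.dvd_one.mp h4)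

theorem mem_centralizer_of_mem_normalizer (K : Subgroup Γ) [hK : K.Normal] (P : Sylow p Γ)
    (hpK : ¬ p ∣ Nat.card K) {n : Γ}
    (hn : n ∈ Subgroup.normalizer ((P : Subgroup Γ) : Set Γ)) (hnK : n ∈ K) :
    n ∈ Subgroup.centralizer ((P : Subgroup Γ) : Set Γ) := by
  rw [Subgroup.mem_centralizer_iff]
  intro u hu
  have hu' : u ∈ (P : Subgroup Γ) := hu
  have h1 : n * u * n⁻¹ ∈ (P : Subgroup Γ) := (Subgroup.mem_normalizer_iff.mp hn u).mp hu'
  have h2 : n * u * n⁻¹ * u⁻¹ ∈ (P : Subgroup Γ) :=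
    (P : Subgroup Γ).mul_mem h1 ((P : Subgroup Γ).inv_mem hu')
  have h3 : n * u * n⁻¹ * u⁻¹ ∈ K := by
    have h4 : u * n⁻¹ * u⁻¹ ∈ K := hK.conj_mem _ (K.inv_mem hnK) u
    have h5 : n * u * n⁻¹ * u⁻¹ = n * (u * n⁻¹ * u⁻¹) := by group
    rw [h5]
    exact K.mul_mem hnK h4
  have h6 := eq_one_of_mem_of_mem K P hpK h3 h2
  calc u * n = (n * u * n⁻¹ * u⁻¹)⁻¹ * (n * u) := by group
    _ = n * u := by rw [h6]; simp

end Basic

section Core

variable {Γ : Type u} [Group Γ] [Fintype Γ] {p : ℕ} [hp : Fact p.Prime]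

/-- The relation of S4866 on the real irreducible characters of `K`. -/
def relXK (K : Subgroup Γ) :
    {θ : IrrCharacter K // ∀ k : K, ((θ : K → ℂ) k).im = 0} →
    {θ : IrrCharacter K // ∀ k : K, ((θ : K → ℂ) k).im = 0} → Prop :=
  fun θ η => ∃ g : Γ, ∀ k k' : K, (k' : Γ) = g * (k : Γ) * g⁻¹ →
    (η.1 : K → ℂ) k' = (θ.1 : K → ℂ) k

/-- The relation of S4866 on the real elements of `K`. -/
def relYK (K : Subgroup Γ) : {x : K // IsConj x x⁻¹} → {x : K // IsConj x x⁻¹} → Prop :=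
  fun x y => ∃ g : Γ, (y.1 : Γ) = g * x.1 * g⁻¹

omit [Fintype Γ] in
theorem relYK_equivalence (K : Subgroup Γ) : Equivalence (relYK K) where
  refl x := ⟨1, by simp⟩
  symm := by
    rintro x y ⟨n, h⟩
    refine ⟨n⁻¹, ?_⟩
    rw [h]
    group
  trans := by
    rintro x y z ⟨n, h⟩ ⟨m, h'⟩
    refine ⟨m * n, ?_⟩
    rw [h', h]
    group

omit [Fintype Γ] in
theorem quot_relYK_eq_iff (K : Subgroup Γ) (x y : {x : K // IsConj x x⁻¹}) :
    Quot.mk (relYK K) x = Quot.mk (relYK K) y ↔ relYK K x y := by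
  rw [Quot.eq]
  exact (relYK_equivalence K).eqvGen_iff

omit [Fintype Γ] in
/-- Conjugating a character of `K` by an element normalising `K`. -/
theorem isIrrCharacter_comp_conjN (K : Subgroup Γ) (n : Γ) (h : ∀ g ∈ K, n * g * n⁻¹ ∈ K)
    (h' : ∀ g ∈ K, n⁻¹ * g * n ∈ K) {χ : K → ℂ} (hχ : IsIrrCharacter K χ) :
    IsIrrCharacter K (χ ∘ conjN K n h h') :=
  isIrrCharacter_comp_of_surjective (conjN K n h h').toMonoidHom (conjN K n h h').surjective hχ

omit hp in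
/-- Equivariance of the Glauberman correspondence under the normaliser of `P`. -/
theorem corr_conj (K : Subgroup Γ) [hK : K.Normal] (P C : Subgroup Γ) [Fintype C] (hCK : C ≤ K)
    (corr : GCorr p hCK (fun χ => ∀ x ∈ P, InvUnder K x χ))
    (n : Γ) (hnP : ∀ x ∈ P, n * x * n⁻¹ ∈ P) (hnC : ∀ c ∈ C, n * c * n⁻¹ ∈ C)
    (hnC' : ∀ c ∈ C, n⁻¹ * c * n ∈ C)
    (χ χ' : IrrCharacter K) (β η : IrrCharacter C)
    (hχ : ∀ x ∈ P, InvUnder K x (χ : K → ℂ)) (hχ' : ∀ x ∈ P, InvUnder K x (χ' : K → ℂ))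
    (hχβ : ¬ p ∣ resMult hCK (χ : K → ℂ) (β : C → ℂ))
    (hχη : ¬ p ∣ resMult hCK (χ' : K → ℂ) (η : C → ℂ))
    (hβη : ∀ c c' : C, (c' : Γ) = n * (c : Γ) * n⁻¹ → (η : C → ℂ) c' = (β : C → ℂ) c) :
    ∀ k k' : K, (k' : Γ) = n * (k : Γ) * n⁻¹ → (χ' : K → ℂ) k' = (χ : K → ℂ) k := by
  have hnK : ∀ g ∈ K, n * g * n⁻¹ ∈ K := fun g hg => hK.conj_mem g hg n
  have hnK' : ∀ g ∈ K, n⁻¹ * g * n ∈ K := fun g hg => by
    have := hK.conj_mem g hg n⁻¹
    simpa using this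
  set ψ : IrrCharacter K := ⟨(χ' : K → ℂ) ∘ conjN K n hnK hnK',
    isIrrCharacter_comp_conjN K n hnK hnK' χ'.2⟩ with hψ
  have hβ : (η : C → ℂ) ∘ conjN C n hnC hnC' = (β : C → ℂ) := by
    funext c
    exact hβη c _ rfl
  have h1 : resMult hCK (ψ : K → ℂ) (β : C → ℂ) = resMult hCK (χ' : K → ℂ) (η : C → ℂ) := by
    rw [← hβ]
    exact resMult_conj_both hCK hnK hnK' hnC hnC' _ _
  have hψinv : ∀ x ∈ P, InvUnder K x (ψ : K → ℂ) := by
    intro x hx g g' hgg'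
    show (χ' : K → ℂ) (conjN K n hnK hnK' g') = (χ' : K → ℂ) (conjN K n hnK hnK' g)
    apply hχ' (n * x * n⁻¹) (hnP x hx)
    show n * (g' : Γ) * n⁻¹ = n * x * n⁻¹ * (n * (g : Γ) * n⁻¹) * (n * x * n⁻¹)⁻¹
    rw [hgg']
    group
  have h2 : ψ = χ := corr.inj ψ χ hψinv hχ β (by rw [h1]; exact hχη) hχβ
  intro k k' hkk'
  have h3 : (ψ : K → ℂ) k = (χ : K → ℂ) k := by rw [h2]
  rw [← h3]
  show (χ' : K → ℂ) k' = (χ' : K → ℂ) (conjN K n hnK hnK' k)
  have h4 : k' = conjN K n hnK hnK' k := Subtype.ext hkk'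
  rw [h4]

/-- **The coprime core.**  `K ⊴ Γ` of odd index, `p ∤ |K|`, `P` a Sylow `p`-subgroup; if every real
irreducible character of `K` is invariant under a conjugate of `P`, then every real element of `K` is
conjugate to an element centralised by `P`. -/
theorem real_conj_mem_centralizer (K : Subgroup Γ) [hK : K.Normal] (hodd : Odd K.index)
    (hpK : ¬ p ∣ Nat.card K) (P : Sylow p Γ)
    (H : ∀ θ : IrrCharacter K, (∀ k : K, ((θ : K → ℂ) k).im = 0) →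
      ∃ g : Γ, ∀ x ∈ (P : Subgroup Γ), InvUnder K (g * x * g⁻¹) (θ : K → ℂ))
    (k : K) (hk : IsConj k k⁻¹) :
    ∃ g : Γ, g * (k : Γ) * g⁻¹ ∈ Subgroup.centralizer ((P : Subgroup Γ) : Set Γ) := by
  classical
  set N : Subgroup Γ := Subgroup.normalizer ((P : Subgroup Γ) : Set Γ) with hN
  set C : Subgroup Γ := K ⊓ Subgroup.centralizer ((P : Subgroup Γ) : Set Γ) with hC
  let _ : Fintype C := Fintype.ofFinite _
  have hCK : C ≤ K := inf_le_left
  have hCN : C ≤ N := inf_le_right.trans (Subgroup.centralizer_le_normalizer _)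
  have hnP : ∀ n ∈ N, ∀ x ∈ (P : Subgroup Γ), n * x * n⁻¹ ∈ (P : Subgroup Γ) := by
    intro n hn x hx
    exact (Subgroup.mem_normalizer_iff.mp hn x).mp hx
  have hnormNC : ∀ n ∈ N, ∀ c ∈ C, n * c * n⁻¹ ∈ C := by
    intro n hn c hc
    refine Subgroup.mem_inf.mpr ⟨hK.conj_mem c hc.1 n, ?_⟩
    rw [Subgroup.mem_centralizer_iff]
    intro u hu
    have h1 : n⁻¹ * u * n⁻¹⁻¹ ∈ (P : Subgroup Γ) := hnP n⁻¹ (N.inv_mem hn) u hu
    have h2 := (Subgroup.mem_centralizer_iff.mp hc.2) _ h1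
    calc u * (n * c * n⁻¹) = n * ((n⁻¹ * u * n⁻¹⁻¹) * c) * n⁻¹ := by group
      _ = n * (c * (n⁻¹ * u * n⁻¹⁻¹)) * n⁻¹ := by rw [h2]
      _ = n * c * n⁻¹ * u := by group
  have hoddN : Odd (C.relIndex N) := by
    have h1 : C ⊓ N = K ⊓ N := by
      apply le_antisymm
      · exact inf_le_inf_right N hCK
      · intro x hx
        exact Subgroup.mem_inf.mpr ⟨Subgroup.mem_inf.mpr
          ⟨hx.1, mem_centralizer_of_mem_normalizer K P hpK hx.2 hx.1⟩, hx.2⟩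
    have h2 : C.relIndex N = K.relIndex N := by
      rw [← Subgroup.inf_relIndex_right C N, h1, Subgroup.inf_relIndex_right]
    rw [h2]
    exact Odd.of_dvd_nat hodd (Subgroup.relIndex_dvd_index_of_normal K N)
  have hnormPK : ∀ x ∈ (P : Subgroup Γ), ∀ g ∈ K, x * g * x⁻¹ ∈ K :=
    fun x _ g hg => hK.conj_mem g hg x
  have corr := pgroup_corr hp.out (Nat.card (P : Subgroup Γ)) K (P : Subgroup Γ) C rfl hnormPK
    P.2 hpK hC hCK
  have hconjInv : ∀ (θ : IrrCharacter K), (∀ x ∈ (P : Subgroup Γ), InvUnder K x (θ : K → ℂ)) →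
      ∀ x ∈ (P : Subgroup Γ), InvUnder K x (irrConj θ : K → ℂ) := by
    intro θ h x hx g g' hgg'
    show conj ((θ : K → ℂ) g') = conj ((θ : K → ℂ) g)
    rw [h x hx g g' hgg']
  have hmult : ∀ (θ : IrrCharacter K) (β : IrrCharacter C),
      resMult hCK (irrConj θ : K → ℂ) (irrConj β : C → ℂ) =
        resMult hCK (θ : K → ℂ) (β : C → ℂ) := fun θ β => resMult_conj_conj hCK _ _
  -- the cardinalities
  have hcard1 := Cfsg.Agent.S4866.result K hodd
  have hcard2 := amb_count C N hCN hnormNC hoddN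
  -- the map on characters
  have hex : ∀ β : {β : IrrCharacter C // ∀ c : C, ((β : C → ℂ) c).im = 0},
      ∃ χ : {θ : IrrCharacter K // ∀ k : K, ((θ : K → ℂ) k).im = 0},
        (∀ x ∈ (P : Subgroup Γ), InvUnder K x (χ.1 : K → ℂ)) ∧
          ¬ p ∣ resMult hCK (χ.1 : K → ℂ) (β.1 : C → ℂ) := by
    intro β
    obtain ⟨χ, hχinv, hχβ⟩ := corr.surj β.1
    have hreal : irrConj χ = χ := by
      apply corr.inj (irrConj χ) χ (hconjInv χ hχinv) hχinv β.1 ?_ hχβ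
      have h3 := hmult χ β.1
      rw [(real_iff_irrConj β.1).mp β.2] at h3
      rw [h3]
      exact hχβ
    exact ⟨⟨χ, (real_iff_irrConj χ).mpr hreal⟩, hχinv, hχβ⟩
  choose F hF using hex
  let s : Quot (relX C N) → Quot (relXK K) := Quot.lift (fun β => Quot.mk _ (F β)) (by
    rintro β η ⟨n, hn, hβη⟩
    apply Quot.sound
    refine ⟨n, ?_⟩
    have hnC' : ∀ c ∈ C, n⁻¹ * c * n ∈ C := by
      intro c hc
      have := hnormNC n⁻¹ (N.inv_mem hn) c hc
      simpa using this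
    exact corr_conj K (P : Subgroup Γ) C hCK corr n (hnP n hn) (hnormNC n hn) hnC'
      (F β).1 (F η).1 β.1 η.1 (hF β).1 (hF η).1 (hF β).2 (hF η).2 hβη)
  have hs : Function.Surjective s := by
    intro q
    induction q using Quot.ind with | _ θ => ?_
    obtain ⟨g, hg⟩ := H θ.1 θ.2
    have hgK : ∀ a ∈ K, g * a * g⁻¹ ∈ K := fun a ha => hK.conj_mem a ha g
    have hgK' : ∀ a ∈ K, g⁻¹ * a * g ∈ K := fun a ha => by
      have := hK.conj_mem a ha g⁻¹
      simpa using this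
    set θ₁ : IrrCharacter K := ⟨(θ.1 : K → ℂ) ∘ conjN K g hgK hgK',
      isIrrCharacter_comp_conjN K g hgK hgK' θ.1.2⟩ with hθ₁
    have hθ₁real : ∀ a : K, ((θ₁ : K → ℂ) a).im = 0 := fun a => θ.2 _
    have hθ₁inv : ∀ x ∈ (P : Subgroup Γ), InvUnder K x (θ₁ : K → ℂ) := by
      intro x hx a a' haa'
      show (θ.1 : K → ℂ) (conjN K g hgK hgK' a') = (θ.1 : K → ℂ) (conjN K g hgK hgK' a)
      apply hg x hx
      show g * (a' : Γ) * g⁻¹ = g * x * g⁻¹ * (g * (a : Γ) * g⁻¹) * (g * x * g⁻¹)⁻¹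
      rw [haa']
      group
    obtain ⟨β₀, ε, hε, h⟩ := corr.exists_corr θ₁ hθ₁inv
    have h1 : ¬ p ∣ resMult hCK (θ₁ : K → ℂ) (β₀ : C → ℂ) := by
      have h2 := h β₀
      rw [if_pos rfl] at h2
      exact not_dvd_of_dvd_sub_sign hp.out hε h2
    have hβ₀real : ∀ c : C, ((β₀ : C → ℂ) c).im = 0 := by
      apply (real_iff_irrConj β₀).mpr
      apply GCorr.eq_of_not_dvd h
      have h3 := hmult θ₁ β₀
      rw [(real_iff_irrConj θ₁).mp hθ₁real] at h3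
      rw [h3]
      exact h1
    refine ⟨Quot.mk _ ⟨β₀, hβ₀real⟩, ?_⟩
    show Quot.mk _ (F ⟨β₀, hβ₀real⟩) = Quot.mk _ θ
    have h4 : (F ⟨β₀, hβ₀real⟩).1 = θ₁ :=
      corr.inj _ _ (hF ⟨β₀, hβ₀real⟩).1 hθ₁inv β₀ (hF ⟨β₀, hβ₀real⟩).2 h1
    apply Quot.sound
    refine ⟨g, ?_⟩
    intro a a' haa'
    rw [h4]
    show (θ.1 : K → ℂ) a' = (θ.1 : K → ℂ) (conjN K g hgK hgK' a)
    have h5 : a' = conjN K g hgK hgK' a := Subtype.ext haa'
    rw [h5]
  -- the map on elements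
  have hinclreal : ∀ c : {c : C // IsConj c c⁻¹},
      IsConj (Subgroup.inclusion hCK c.1) (Subgroup.inclusion hCK c.1)⁻¹ := by
    intro c
    have := (Subgroup.inclusion hCK).map_isConj c.2
    rwa [map_inv] at this
  let ι : Quot (relY C N) → Quot (relYK K) :=
    Quot.lift (fun c => Quot.mk _ ⟨Subgroup.inclusion hCK c.1, hinclreal c⟩) (by
      rintro c c' ⟨n, hn, h⟩
      apply Quot.sound
      exact ⟨n, h⟩)
  have hι : Function.Injective ι := by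
    intro a b
    induction a using Quot.ind with | _ c => ?_
    induction b using Quot.ind with | _ c' => ?_
    intro hab
    have h1 : Quot.mk (relYK K) ⟨Subgroup.inclusion hCK c.1, hinclreal c⟩ =
        Quot.mk (relYK K) ⟨Subgroup.inclusion hCK c'.1, hinclreal c'⟩ := hab
    rw [quot_relYK_eq_iff] at h1
    obtain ⟨g, hg⟩ := h1
    have hg' : ((c'.1 : C) : Γ) = g * ((c.1 : C) : Γ) * g⁻¹ := hg
    have hc : ((c.1 : C) : Γ) ∈ Subgroup.centralizer ((P : Subgroup Γ) : Set Γ) := c.1.2.2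
    have hc' : g⁻¹⁻¹ * ((c.1 : C) : Γ) * g⁻¹ ∈
        Subgroup.centralizer ((P : Subgroup Γ) : Set Γ) := by
      rw [inv_inv, ← hg']
      exact c'.1.2.2
    obtain ⟨n, hn, hn'⟩ := P.conj_eq_normalizer_conj_of_mem_centralizer _ g⁻¹ hc hc'
    apply Quot.sound
    refine ⟨n⁻¹, N.inv_mem hn, ?_⟩
    rw [hg', inv_inv, ← hn', inv_inv]
  -- counting
  have hle : Nat.card (Quot (relYK K)) ≤ Nat.card (Quot (relY C N)) := by
    have h1 : Nat.card (Quot (relXK K)) ≤ Nat.card (Quot (relX C N)) :=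
      Nat.card_le_card_of_surjective s hs
    have h2 : Nat.card (Quot (relXK K)) = Nat.card (Quot (relYK K)) := hcard1
    rw [← h2, ← hcard2]
    exact h1
  have hbij := hι.bijective_of_nat_card_le hle
  obtain ⟨q, hq⟩ := hbij.2 (Quot.mk _ ⟨k, hk⟩)
  induction q using Quot.ind with | _ c => ?_
  have h1 : Quot.mk (relYK K) ⟨Subgroup.inclusion hCK c.1, hinclreal c⟩ =
      Quot.mk (relYK K) ⟨k, hk⟩ := hq
  rw [quot_relYK_eq_iff] at h1
  obtain ⟨g, hg⟩ := h1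
  have hg' : (k : Γ) = g * ((c.1 : C) : Γ) * g⁻¹ := hg
  refine ⟨g⁻¹, ?_⟩
  rw [hg']
  have : g⁻¹ * (g * ((c.1 : C) : Γ) * g⁻¹) * g⁻¹⁻¹ = ((c.1 : C) : Γ) := by group
  rw [this]
  exact c.1.2.2

end Core

end Cfsg.Agent.Lib.H1.RealNorm
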