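import Mathlib
import Cfsg.Agent.Lib.H1.RealNormB
import Cfsg.Agent.Lib.L0.RealPDegB

/-!
# Real classes and the normaliser of a Sylow subgroup: from `RealHyp` (helper1)

* `exists_conj_le_of_not_dvd_index`: a subgroup of index prime to `p` contains a conjugate of `P`;
* `exists_conj_invUnder`: under `RealHyp p Γ`, every real irreducible character of a normal subgroup
  of odd index is invariant under a conjugate of `P`;
* `real_conj_centralizer_of_realHyp`: the coprime case of Isaacs–Navarro's theorem on real classes.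
-/

set_option autoImplicit false

universe u

namespace Cfsg.Agent.Lib.H1.RealNorm

open Cfsg Cfsg.Agent.Lib.L0 Cfsg.Agent.Lib.H24 Cfsg.Agent.Lib.H24.Glaub
  Cfsg.Agent.Lib.L0.RealPDeg Cfsg.Agent.Lib.H23
open scoped ComplexConjugate

section

variable {Γ : Type u} [Group Γ] [Fintype Γ] {p : ℕ} [hp : Fact p.Prime]

omit [Fintype Γ] in
theorem exists_conj_le_of_not_dvd_index (P : Sylow p Γ) (T : Subgroup Γ) (h : ¬ p ∣ T.index) :
    ∃ g : Γ, ∀ x ∈ (P : Subgroup Γ), g * x * g⁻¹ ∈ T := by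
  have h1 : ¬ p ∣ Nat.card (Γ ⧸ T) := by
    rw [← Subgroup.index_eq_card]
    exact h
  obtain ⟨q, hq⟩ := P.2.nonempty_fixed_point_of_prime_not_dvd_card (Γ ⧸ T) h1
  obtain ⟨a, rfl⟩ := QuotientGroup.mk_surjective q
  refine ⟨a⁻¹, ?_⟩
  intro x hx
  have h2 : (⟨x, hx⟩ : (P : Subgroup Γ)) • (QuotientGroup.mk a : Γ ⧸ T) = QuotientGroup.mk a :=
    hq ⟨x, hx⟩
  have h3 : (QuotientGroup.mk (x * a) : Γ ⧸ T) = QuotientGroup.mk a := h2
  rw [QuotientGroup.eq] at h3
  have h4 := T.inv_mem h3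
  have h5 : ((x * a)⁻¹ * a)⁻¹ = a⁻¹ * x * a⁻¹⁻¹ := by group
  rwa [h5] at h4

/-- Under `RealHyp`, every real irreducible character of a normal subgroup of odd index is invariant
under a conjugate of the Sylow `p`-subgroup `P`. -/
theorem exists_conj_invUnder (K : Subgroup Γ) [hK : K.Normal] (hodd : Odd K.index)
    (hreal : RealHyp p Γ) (P : Sylow p Γ) (θ : IrrCharacter K)
    (hθreal : ∀ k : K, ((θ : K → ℂ) k).im = 0) :
    ∃ g : Γ, ∀ x ∈ (P : Subgroup Γ), InvUnder K (g * x * g⁻¹) (θ : K → ℂ) := by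
  classical
  have : Fintype K := Fintype.ofFinite K
  have hθconj : ∀ n : K, conj ((θ : K → ℂ) n) = (θ : K → ℂ) n := fun n =>
    Complex.conj_eq_iff_im.mpr (hθreal n)
  have hθfix : ∀ n : K, (θ : K → ℂ) (n ^ (Nat.card Γ - 1)) = (θ : K → ℂ) n := by
    intro n
    have h1 : n ^ (Nat.card Γ - 1) = n⁻¹ := by
      apply Subtype.ext
      rw [Subgroup.coe_pow, Subgroup.coe_inv]
      exact pow_card_sub_one (n : Γ)
    rw [h1, isCharacter_apply_inv (isCharacter_of_irr θ.2), hθconj]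
  obtain ⟨χ, hχo, hχfix⟩ := GalOdd.gal_over_exists K galDatum_conj hodd θ hθfix
  have hχreal : ∀ g : Γ, ((χ : Γ → ℂ) g).im = 0 := by
    intro g
    apply Complex.conj_eq_iff_im.mp
    rw [← isCharacter_apply_inv (isCharacter_of_irr χ.2), ← pow_card_sub_one, hχfix]
  have h2 := hreal χ hχreal
  have h3 := inertia_index_dvd_charDegree K χ.2 θ.2 hχo
  have h4 : ¬ p ∣ (inertia K (θ : K → ℂ)).index := fun h => h2 (h.trans h3)
  obtain ⟨g, hg⟩ := exists_conj_le_of_not_dvd_index P _ h4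
  refine ⟨g, ?_⟩
  intro x hx a a' haa'
  have h5 := (mem_inertia K (θ : K → ℂ) _).mp (hg x hx) a
  rw [← h5]
  have h6 : a' = ⟨g * x * g⁻¹ * (a : Γ) * (g * x * g⁻¹)⁻¹,
      hK.conj_mem (a : Γ) a.2 (g * x * g⁻¹)⟩ := Subtype.ext haa'
  rw [h6]

/-- The coprime case: `K ⊴ Γ` of odd index and order prime to `p`, `RealHyp p Γ`; every real element
of `K` is conjugate to an element centralised by the Sylow `p`-subgroup `P`. -/
theorem real_conj_centralizer_of_realHyp (K : Subgroup Γ) [hK : K.Normal] (hodd : Odd K.index)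
    (hpK : ¬ p ∣ Nat.card K) (hreal : RealHyp p Γ) (P : Sylow p Γ) (k : K) (hk : IsConj k k⁻¹) :
    ∃ g : Γ, g * (k : Γ) * g⁻¹ ∈ Subgroup.centralizer ((P : Subgroup Γ) : Set Γ) :=
  real_conj_mem_centralizer K hodd hpK P
    (fun θ hθ => exists_conj_invUnder K hodd hreal P θ hθ) k hk

end

end Cfsg.Agent.Lib.H1.RealNorm
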