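import Mathlib
import Cfsg.Agent.Lib.H1.RealBijD
import Cfsg.Agent.Lib.H1.RealNormC
import Cfsg.Agent.Lib.L0.RealPDegB

/-!
# Real characters and the normaliser of a Sylow subgroup: the bijection (helper1)

`main_bij`: under the Isaacs–Navarro hypotheses (the `p`-elements generate a solvable subgroup and
all real irreducible characters have degree prime to `p`), the real irreducible characters of `G`
are in bijection with the real irreducible characters of degree prime to `p` of `N_G(P)`, with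
degrees congruent modulo `p` up to sign.
-/

set_option autoImplicit false

universe u

namespace Cfsg.Agent.Lib.H1.RealBij

open Cfsg Cfsg.Agent.Lib.L0 Cfsg.Agent.Lib.H24 Cfsg.Agent.Lib.H23 Cfsg.Agent.Lib.H24.Glaub
  Cfsg.Agent.Lib.H24.RelGlaub Cfsg.Agent.Lib.L0.RealPDeg Cfsg.Agent.Lib.H1.RealNorm
open scoped ComplexConjugate

section GSide

variable {G : Type u} [Group G] [Fintype G]

omit [Fintype G] in
/-- Lying over is invariant under conjugation. -/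
theorem over_conjBy (K : Subgroup G) [Fintype K] (χ : G → ℂ) (hχ : IsClassFunction G χ) {g : G}
    (hg : ∀ k ∈ K, g * k * g⁻¹ ∈ K) (hg' : ∀ k ∈ K, g⁻¹ * k * g ∈ K) (θ θ' : K → ℂ)
    (h : ConjBy K g θ θ') :
    classInner (fun k : K => χ k) θ' = classInner (fun k : K => χ k) θ := by
  have h1 : (fun k : K => χ k) = (fun k : K => χ k) ∘ conjN K g hg hg' := by
    funext k
    show χ k = χ (g * k * g⁻¹)
    exact (hχ k g).symm
  rw [h.eq_comp hg hg']
  conv_rhs => rw [h1]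
  rw [classInner_comp_equiv]

omit [Fintype G] in
theorem mem_inertia_iff_invUnder (K : Subgroup G) [hK : K.Normal] (θ : K → ℂ) (g : G) :
    g ∈ Cfsg.Agent.Lib.H23.inertia K θ ↔ InvUnder K g θ := by
  rw [Cfsg.Agent.Lib.H23.mem_inertia]
  constructor
  · intro h k k' hkk'
    have h1 : k' = ⟨g * k * g⁻¹, hK.conj_mem (k : G) k.2 g⟩ := Subtype.ext hkk'
    rw [h1]
    exact h k
  · intro h k
    exact h k _ rfl

end GSide

section Setup

variable {G : Type u} [Group G] [Fintype G]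

/-- The configuration: `K ⊴ G` of odd index with normal Sylow `p`-subgroup `Q`, `N = N_G(P)`,
`C = K ∩ N`. -/
structure Setup (p : ℕ) (P : Sylow p G) (K Q N C : Subgroup G) : Prop where
  hp : p.Prime
  hK : K.Normal
  hKodd : Odd K.index
  hrealG : RealHyp p G
  hN : N = Subgroup.normalizer ((P : Subgroup G) : Set G)
  hC : C = K ⊓ N
  hrg : RG p (P : Subgroup G) K Q C

namespace Setup

variable {p : ℕ} {P : Sylow p G} {K Q N C : Subgroup G}

omit [Fintype G] in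
theorem hCK (h : Setup p P K Q N C) : C ≤ K := h.hrg.hCK

omit [Fintype G] in
theorem hCN (h : Setup p P K Q N C) : C ≤ N := by
  rw [h.hC]
  exact inf_le_right

omit [Fintype G] in
theorem hPN (h : Setup p P K Q N C) : (P : Subgroup G) ≤ N := by
  rw [h.hN]
  exact Subgroup.le_normalizer

omit [Fintype G] in
theorem hnP (h : Setup p P K Q N C) :
    ∀ n ∈ N, ∀ x ∈ (P : Subgroup G), n * x * n⁻¹ ∈ (P : Subgroup G) := by
  intro n hn x hx
  rw [h.hN] at hn
  exact (Subgroup.mem_normalizer_iff.mp hn x).mp hx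

omit [Fintype G] in
theorem hnP' (h : Setup p P K Q N C) :
    ∀ n ∈ N, ∀ x ∈ (P : Subgroup G), n⁻¹ * x * n ∈ (P : Subgroup G) := by
  intro n hn x hx
  have := h.hnP n⁻¹ (N.inv_mem hn) x hx
  rwa [inv_inv] at this

omit [Fintype G] in
theorem hnK (h : Setup p P K Q N C) : ∀ n : G, ∀ k ∈ K, n * k * n⁻¹ ∈ K :=
  fun n k hk => h.hK.conj_mem k hk n

omit [Fintype G] in
theorem hnK' (h : Setup p P K Q N C) : ∀ n : G, ∀ k ∈ K, n⁻¹ * k * n ∈ K := by
  intro n k hk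
  have := h.hK.conj_mem k hk n⁻¹
  rwa [inv_inv] at this

omit [Fintype G] in
theorem hNC (h : Setup p P K Q N C) : ∀ n ∈ N, ∀ c ∈ C, n * c * n⁻¹ ∈ C := by
  intro n hn c hc
  rw [h.hC] at hc ⊢
  exact ⟨h.hnK n c hc.1, N.mul_mem (N.mul_mem hn hc.2) (N.inv_mem hn)⟩

omit [Fintype G] in
theorem hNC' (h : Setup p P K Q N C) : ∀ n ∈ N, ∀ c ∈ C, n⁻¹ * c * n ∈ C := by
  intro n hn c hc
  have := h.hNC n⁻¹ (N.inv_mem hn) c hc
  rwa [inv_inv] at this

omit [Fintype G] in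
theorem hoddN (h : Setup p P K Q N C) : Odd (C.relIndex N) := by
  have := h.hK
  rw [h.hC, Subgroup.inf_relIndex_right]
  exact Odd.of_dvd_nat h.hKodd (Subgroup.relIndex_dvd_index_of_normal K N)

theorem hrealK (h : Setup p P K Q N C) : RealHyp p K := by
  have := h.hK
  exact realHyp_of_odd_index p K h.hKodd h.hrealG

variable [Fintype K] [Fintype Q] [Fintype N] [Fintype C]

omit [Fintype Q] [Fintype N] [Fintype C] in
/-- (a1) A real irreducible character of `G` lies over a real `P`-invariant character of `K`. -/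
theorem a1 [Fact p.Prime] (h : Setup p P K Q N C) (χ : IrrCharacter G)
    (hχ : ∀ g : G, ((χ : G → ℂ) g).im = 0) :
    ∃ θ : IrrCharacter K, (∀ k : K, ((θ : K → ℂ) k).im = 0) ∧
      (∀ x ∈ (P : Subgroup G), InvUnder K x (θ : K → ℂ)) ∧
      classInner (fun k : K => (χ : G → ℂ) k) (θ : K → ℂ) ≠ 0 := by
  have hK := h.hK
  obtain ⟨θ₀, hθ₀real, hθ₀⟩ := exists_real_under K h.hKodd χ hχ
  obtain ⟨g, hg⟩ := exists_conj_invUnder K h.hKodd h.hrealG P θ₀ hθ₀real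
  set θ : IrrCharacter K := ⟨(θ₀ : K → ℂ) ∘ conjN K g (h.hnK g) (h.hnK' g),
    irr_comp_equiv _ θ₀.2⟩ with hθdef
  have hc : ConjBy K g (θ : K → ℂ) (θ₀ : K → ℂ) :=
    conjBy_of_eq_comp (h.hnK g) (h.hnK' g) rfl
  refine ⟨θ, fun k => hθ₀real _, ?_, ?_⟩
  · intro x hx
    have h1 := hc.symm.invUnder (n := g⁻¹) (by
      intro a ha
      have := h.hnK g a ha
      rwa [inv_inv]) (hg x hx)
    have h2 : g⁻¹ * (g * x * g⁻¹) * g⁻¹⁻¹ = x := by group
    rwa [h2] at h1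
  · rw [← over_conjBy K (χ : G → ℂ) (isClassFunction_of_isCharacter (isCharacter_of_irr χ.2))
      (h.hnK g) (h.hnK' g) _ _ hc]
    exact hθ₀

omit [Fintype Q] [Fintype N] [Fintype C] in
/-- (a2) Two `P`-invariant constituents are conjugate under `N`. -/
theorem a2 [Fact p.Prime] (h : Setup p P K Q N C) (χ : IrrCharacter G) (θ θ' : IrrCharacter K)
    (hθ : ∀ x ∈ (P : Subgroup G), InvUnder K x (θ : K → ℂ))
    (hθ' : ∀ x ∈ (P : Subgroup G), InvUnder K x (θ' : K → ℂ))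
    (ho : classInner (fun k : K => (χ : G → ℂ) k) (θ : K → ℂ) ≠ 0)
    (ho' : classInner (fun k : K => (χ : G → ℂ) k) (θ' : K → ℂ) ≠ 0) :
    ∃ n ∈ N, ConjBy K n (θ : K → ℂ) (θ' : K → ℂ) := by
  have hK := h.hK
  obtain ⟨g, hg⟩ := conj_of_constituent (K := G) K (χ : G → ℂ) χ.2 (θ : K → ℂ) (θ' : K → ℂ)
    θ.2 θ'.2 ho ho'
  have hc : ConjBy K g⁻¹ (θ : K → ℂ) (θ' : K → ℂ) := by
    intro a a' haa'
    rw [hg, conjChar_apply]
    refine congrArg _ ?_
    apply Subtype.ext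
    show g * (a' : G) * g⁻¹ = a
    rw [haa']
    group
  obtain ⟨n, hn, hcn⟩ := exists_normalizer_conjBy P K _ _ hθ hθ' g⁻¹ hc
  rw [← h.hN] at hn
  exact ⟨n, hn, hcn⟩

omit [Fintype K] [Fintype Q] in
/-- (b1) A real irreducible character of `N` of degree prime to `p` lies over a real `P`-invariant
character of `C` of degree prime to `p`. -/
theorem b1 (h : Setup p P K Q N C) (ξ : IrrCharacter N)
    (hξ : ∀ n : N, ((ξ : N → ℂ) n).im = 0) (hdeg : ¬ p ∣ charDegree (ξ : N → ℂ)) :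
    ∃ η : IrrCharacter C, (∀ c : C, ((η : C → ℂ) c).im = 0) ∧
      (∀ x ∈ (P : Subgroup G), InvUnder C x (η : C → ℂ)) ∧ ¬ p ∣ charDegree (η : C → ℂ) ∧
      classInner (res h.hCN (ξ : N → ℂ)) (η : C → ℂ) ≠ 0 := by
  obtain ⟨η, hηreal, hη⟩ := rel_exists_real_under h.hCN h.hNC h.hoddN ξ hξ
  have hJ : ∀ b ∈ N, b ∈ invStab C (η : C → ℂ) ↔ InvUnder C b (η : C → ℂ) := by
    intro b hb
    rw [mem_invStab]
    constructor
    · exact fun h1 => h1.2
    · intro h1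
      refine ⟨?_, h1⟩
      rw [Subgroup.mem_normalizer_iff]
      intro c
      constructor
      · exact h.hNC b hb c
      · intro hc
        have := h.hNC' b hb _ hc
        have h2 : b⁻¹ * (b * c * b⁻¹) * b = c := by group
        rwa [h2] at this
  obtain ⟨hd1, hd2⟩ := rel_dvd_degree h.hCN h.hNC ξ η hη _ hJ
  refine ⟨η, hηreal, ?_, fun hd => hdeg (hd.trans hd2), hη⟩
  have hle := pgroup_le_of_not_dvd_relIndex h.hp (P : Subgroup G) N (invStab C (η : C → ℂ)) P.2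
    h.hPN h.hnP' (fun hd => hdeg (hd.trans hd1))
  intro x hx
  exact (hJ x (h.hPN hx)).mp (hle hx)

omit [Fintype K] [Fintype Q] in
/-- (b3) A real `P`-invariant character of `C` of degree prime to `p` lies under a real irreducible
character of `N` of degree prime to `p`. -/
theorem b3 [Fact p.Prime] (h : Setup p P K Q N C) (η : IrrCharacter C)
    (hηreal : ∀ c : C, ((η : C → ℂ) c).im = 0)
    (hηinv : ∀ x ∈ (P : Subgroup G), InvUnder C x (η : C → ℂ))
    (hηdeg : ¬ p ∣ charDegree (η : C → ℂ)) :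
    ∃ ξ : IrrCharacter N, (∀ n : N, ((ξ : N → ℂ) n).im = 0) ∧ ¬ p ∣ charDegree (ξ : N → ℂ) ∧
      classInner (res h.hCN (ξ : N → ℂ)) (η : C → ℂ) ≠ 0 := by
  obtain ⟨ξ, hξreal, hξ⟩ := rel_exists_real_over h.hCN h.hNC h.hoddN η hηreal
  have hJ : ∀ b ∈ N, b ∈ invStab C (η : C → ℂ) ↔ InvUnder C b (η : C → ℂ) := by
    intro b hb
    rw [mem_invStab]
    constructor
    · exact fun h1 => h1.2
    · intro h1
      refine ⟨?_, h1⟩
      rw [Subgroup.mem_normalizer_iff]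
      intro c
      constructor
      · exact h.hNC b hb c
      · intro hc
        have := h.hNC' b hb _ hc
        have h2 : b⁻¹ * (b * c * b⁻¹) * b = c := by group
        rwa [h2] at this
  have hdeg := rel_real_degree h.hCN h.hNC h.hoddN ξ η hξreal hηreal hξ _ hJ
  refine ⟨ξ, hξreal, ?_, hξ⟩
  rw [hdeg]
  have hPJ : (P : Subgroup G) ≤ invStab C (η : C → ℂ) :=
    fun x hx => (hJ x (h.hPN hx)).mpr (hηinv x hx)
  have h1 : (invStab C (η : C → ℂ)).relIndex N ∣ (P : Subgroup G).relIndex N :=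
    Subgroup.relIndex_dvd_of_le_left N hPJ
  have h2 : (P : Subgroup G).relIndex N ∣ (P : Subgroup G).index :=
    Subgroup.relIndex_dvd_index_of_le h.hPN
  have h3 : ¬ p ∣ (P : Subgroup G).index := P.not_dvd_index
  intro hd
  rcases (Nat.Prime.dvd_mul h.hp).mp hd with h4 | h4
  · exact h3 ((h4.trans h1).trans h2)
  · exact hηdeg h4

omit [Fintype N] in
/-- (m1) The correspondent of a real `P`-invariant character of `K`. -/
theorem m1 (h : Setup p P K Q N C) (θ : IrrCharacter K)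
    (hθreal : ∀ k : K, ((θ : K → ℂ) k).im = 0)
    (hθinv : ∀ x ∈ (P : Subgroup G), InvUnder K x (θ : K → ℂ)) :
    ∃ η : IrrCharacter C, (∀ c : C, ((η : C → ℂ) c).im = 0) ∧
      (∀ x ∈ (P : Subgroup G), InvUnder C x (η : C → ℂ)) ∧ ¬ p ∣ charDegree (η : C → ℂ) ∧
      ¬ p ∣ resMult h.hrg.hCK (θ : K → ℂ) (η : C → ℂ) := by
  obtain ⟨η, hηinv, hM, -, ε, hε, hdeg⟩ := RGx.m_exists h.hrg θ hθinv
  refine ⟨η, (RGx.m_real h.hrg θ hθinv η hηinv hM).mp hθreal, hηinv, ?_, hM⟩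
  intro hd
  apply h.hrealK θ hθreal
  have h1 : (p : ℤ) ∣ ε * (charDegree (η : C → ℂ) : ℤ) :=
    Dvd.dvd.mul_left (Int.natCast_dvd_natCast.mpr hd) ε
  have h2 : (p : ℤ) ∣ (charDegree (θ : K → ℂ) : ℤ) := by
    have := dvd_add hdeg h1
    rwa [sub_add_cancel] at this
  exact Int.natCast_dvd_natCast.mp h2

omit [Fintype N] in
/-- (m2) The correspondent of a real `P`-invariant character of `C`. -/
theorem m2 (h : Setup p P K Q N C) (η : IrrCharacter C)
    (hηreal : ∀ c : C, ((η : C → ℂ) c).im = 0)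
    (hηinv : ∀ x ∈ (P : Subgroup G), InvUnder C x (η : C → ℂ)) :
    ∃ θ : IrrCharacter K, (∀ k : K, ((θ : K → ℂ) k).im = 0) ∧
      (∀ x ∈ (P : Subgroup G), InvUnder K x (θ : K → ℂ)) ∧
      ¬ p ∣ resMult h.hrg.hCK (θ : K → ℂ) (η : C → ℂ) := by
  obtain ⟨θ, hθinv, hM⟩ := h.hrg.corr_surj η hηinv
  exact ⟨θ, (RGx.m_real h.hrg θ hθinv η hηinv hM).mpr hηreal, hθinv, hM⟩

/-- Degrees of corresponding characters are congruent modulo `p` up to sign. -/
theorem deg [Fact p.Prime] (h : Setup p P K Q N C) (χ : IrrCharacter G) (ξ : IrrCharacter N)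
    (θ : IrrCharacter K) (η : IrrCharacter C)
    (hχ : ∀ g : G, ((χ : G → ℂ) g).im = 0) (hξ : ∀ n : N, ((ξ : N → ℂ) n).im = 0)
    (hθreal : ∀ k : K, ((θ : K → ℂ) k).im = 0)
    (hθinv : ∀ x ∈ (P : Subgroup G), InvUnder K x (θ : K → ℂ))
    (hηreal : ∀ c : C, ((η : C → ℂ) c).im = 0)
    (hηinv : ∀ x ∈ (P : Subgroup G), InvUnder C x (η : C → ℂ))
    (ho₁ : classInner (fun k : K => (χ : G → ℂ) k) (θ : K → ℂ) ≠ 0)
    (ho₂ : classInner (res h.hCN (ξ : N → ℂ)) (η : C → ℂ) ≠ 0)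
    (hM : ¬ p ∣ resMult h.hrg.hCK (θ : K → ℂ) (η : C → ℂ)) :
    (charDegree (ξ : N → ℂ) : ZMod p) = (charDegree (χ : G → ℂ) : ZMod p) ∨
      (charDegree (ξ : N → ℂ) : ZMod p) = -(charDegree (χ : G → ℂ) : ZMod p) := by
  have hK := h.hK
  set I : Subgroup G := Cfsg.Agent.Lib.H23.inertia K (θ : K → ℂ) with hI
  have h1 : charDegree (χ : G → ℂ) = I.index * charDegree (θ : K → ℂ) :=
    real_degree K h.hKodd χ θ hχ hθreal ho₁
  have hJ : ∀ b ∈ N, b ∈ I ↔ InvUnder C b (η : C → ℂ) := by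
    intro b hb
    rw [hI, mem_inertia_iff_invUnder]
    constructor
    · intro hinv
      exact RGx.m_conj_right h.hrg (h.hnK b) (h.hnK' b) (h.hNC b hb) (h.hNC' b hb) (h.hnP' b hb)
        θ θ η η hθinv hηinv hηinv hM hM hinv
    · intro hinv
      exact RGx.m_conj_left h.hrg (h.hnK b) (h.hnK' b) (h.hNC b hb) (h.hNC' b hb) (h.hnP' b hb)
        θ θ η η hθinv hθinv hηinv hM hM hinv
  have h2 : charDegree (ξ : N → ℂ) = I.relIndex N * charDegree (η : C → ℂ) :=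
    rel_real_degree h.hCN h.hNC h.hoddN ξ η hξ hηreal ho₂ I hJ
  have hPI : (P : Subgroup G) ≤ I :=
    fun x hx => (mem_inertia_iff_invUnder K (θ : K → ℂ) x).mpr (hθinv x hx)
  have h3 : I.index ≡ I.relIndex N [MOD p] := by
    have := index_modEq_relIndex_normalizer P I hPI
    rwa [← h.hN] at this
  have h3' : (I.index : ZMod p) = (I.relIndex N : ZMod p) :=
    (ZMod.natCast_eq_natCast_iff _ _ _).mpr h3
  obtain ⟨ε, hε, hdeg⟩ := RGx.m_degree h.hrg θ hθinv η hηinv hM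
  have hdeg' : ((charDegree (θ : K → ℂ) : ℤ) : ZMod p) =
      ((ε * (charDegree (η : C → ℂ) : ℤ) : ℤ) : ZMod p) := by
    rw [ZMod.intCast_eq_intCast_iff_dvd_sub]
    have := dvd_neg.mpr hdeg
    rwa [neg_sub] at this
  rw [Int.cast_natCast, Int.cast_mul, Int.cast_natCast] at hdeg'
  rw [h1, h2]
  push_cast
  rw [h3', hdeg']
  rcases hε with hε | hε
  · left
    rw [hε]
    push_cast
    ring
  · right
    rw [hε]
    push_cast
    ring

/-- The bijection in the configuration `Setup`. -/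
theorem core_bij [Fact p.Prime] (h : Setup p P K Q N C) :
    ∃ f : {χ : IrrCharacter G // ∀ g : G, ((χ : G → ℂ) g).im = 0} →
      {ξ : IrrCharacter N // (∀ n, ((ξ : N → ℂ) n).im = 0) ∧ ¬ p ∣ charDegree (ξ : N → ℂ)},
      Function.Bijective f ∧ ∀ χ,
        ((charDegree ((f χ).1 : N → ℂ) : ZMod p) = (charDegree (χ.1 : G → ℂ) : ZMod p) ∨
          (charDegree ((f χ).1 : N → ℂ) : ZMod p) = -(charDegree (χ.1 : G → ℂ) : ZMod p)) := by
  classical
  have hK := h.hK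
  obtain ⟨f, hf, hR⟩ := exists_bijection_of_relations
    (X := {χ : IrrCharacter G // ∀ g : G, ((χ : G → ℂ) g).im = 0})
    (Y := {ξ : IrrCharacter N // (∀ n, ((ξ : N → ℂ) n).im = 0) ∧ ¬ p ∣ charDegree (ξ : N → ℂ)})
    (S := {θ : IrrCharacter K // (∀ k : K, ((θ : K → ℂ) k).im = 0) ∧
      ∀ x ∈ (P : Subgroup G), InvUnder K x (θ : K → ℂ)})
    (T := {η : IrrCharacter C // (∀ c : C, ((η : C → ℂ) c).im = 0) ∧
      (∀ x ∈ (P : Subgroup G), InvUnder C x (η : C → ℂ)) ∧ ¬ p ∣ charDegree (η : C → ℂ)})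
    (fun χ θ => classInner (fun k : K => (χ.1 : G → ℂ) k) (θ.1 : K → ℂ) ≠ 0)
    (fun ξ η => classInner (res h.hCN (ξ.1 : N → ℂ)) (η.1 : C → ℂ) ≠ 0)
    (fun θ η => ¬ p ∣ resMult h.hrg.hCK (θ.1 : K → ℂ) (η.1 : C → ℂ))
    (fun θ θ' => ∃ n ∈ N, ConjBy K n (θ.1 : K → ℂ) (θ'.1 : K → ℂ))
    (fun η η' => ∃ n ∈ N, ConjBy C n (η.1 : C → ℂ) (η'.1 : C → ℂ))
    (fun χ => by
      obtain ⟨θ, h1, h2, h3⟩ := h.a1 χ.1 χ.2
      exact ⟨⟨θ, h1, h2⟩, h3⟩)
    (fun χ θ θ' ho ho' => h.a2 χ.1 θ.1 θ'.1 θ.2.2 θ'.2.2 ho ho')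
    (fun θ => by
      obtain ⟨χ, h1, h2⟩ := exists_real_over K h.hKodd θ.1 θ.2.1
      exact ⟨⟨χ, h1⟩, h2⟩)
    (fun χ χ' θ ho ho' =>
      Subtype.ext (real_over_unique K h.hKodd θ.1 χ.1 χ'.1 χ.2 χ'.2 ho ho'))
    (fun χ θ θ' ho hc => by
      obtain ⟨n, hn, hc⟩ := hc
      show classInner (fun k : K => (χ.1 : G → ℂ) k) (θ'.1 : K → ℂ) ≠ 0
      rw [over_conjBy K (χ.1 : G → ℂ)
        (isClassFunction_of_isCharacter (isCharacter_of_irr χ.1.2)) (h.hnK n) (h.hnK' n) _ _ hc]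
      exact ho)
    (fun ξ => by
      obtain ⟨η, h1, h2, h3, h4⟩ := h.b1 ξ.1 ξ.2.1 ξ.2.2
      exact ⟨⟨η, h1, h2, h3⟩, h4⟩)
    (fun ξ η η' ho ho' => rel_conj_of_constituent h.hCN h.hNC ξ.1 η.1 η'.1 ho ho')
    (fun η => by
      obtain ⟨ξ, h1, h2, h3⟩ := h.b3 η.1 η.2.1 η.2.2.1 η.2.2.2
      exact ⟨⟨ξ, h1, h2⟩, h3⟩)
    (fun ξ ξ' η ho ho' =>
      Subtype.ext (rel_real_over_unique h.hCN h.hNC h.hoddN η.1 ξ.1 ξ'.1 ξ.2.1 ξ'.2.1 ho ho'))
    (fun ξ η η' ho hc => by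
      obtain ⟨n, hn, hc⟩ := hc
      show classInner (res h.hCN (ξ.1 : N → ℂ)) (η'.1 : C → ℂ) ≠ 0
      rw [rel_over_conj h.hCN h.hNC (ξ.1 : N → ℂ)
        (isClassFunction_of_isCharacter (isCharacter_of_irr ξ.1.2)) hn _ _ hc]
      exact ho)
    (fun θ => by
      obtain ⟨η, h1, h2, h3, h4⟩ := h.m1 θ.1 θ.2.1 θ.2.2
      exact ⟨⟨η, h1, h2, h3⟩, h4⟩)
    (fun η => by
      obtain ⟨θ, h1, h2, h3⟩ := h.m2 η.1 η.2.1 η.2.2.1
      exact ⟨⟨θ, h1, h2⟩, h3⟩)
    (fun θ θ' η η' hM hM' hc => by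
      obtain ⟨n, hn, hc⟩ := hc
      exact ⟨n, hn, RGx.m_conj_right h.hrg (h.hnK n) (h.hnK' n) (h.hNC n hn) (h.hNC' n hn)
        (h.hnP' n hn) θ.1 θ'.1 η.1 η'.1 θ'.2.2 η.2.2.1 η'.2.2.1 hM hM' hc⟩)
    (fun θ θ' η η' hM hM' hc => by
      obtain ⟨n, hn, hc⟩ := hc
      exact ⟨n, hn, RGx.m_conj_left h.hrg (h.hnK n) (h.hnK' n) (h.hNC n hn) (h.hNC' n hn)
        (h.hnP' n hn) θ.1 θ'.1 η.1 η'.1 θ.2.2 θ'.2.2 η'.2.2.1 hM hM' hc⟩)
  refine ⟨f, hf, fun χ => ?_⟩
  obtain ⟨θ, η, ho₁, ho₂, hM⟩ := hR χ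
  exact h.deg χ.1 (f χ).1 θ.1 η.1 χ.2 (f χ).2.1 θ.2.1 θ.2.2 η.2.1 η.2.2.1 ho₁ ho₂ hM

end Setup

end Setup

section Main

variable {G : Type u} [Group G] [Finite G]

/-- The Isaacs–Navarro configuration gives a `Setup`. -/
theorem exists_setup (p : ℕ) [hp : Fact p.Prime] (hsolv : Group.IsSolvable (qGen p G))
    (hreal : RealHyp p G) (P : Sylow p G) :
    ∃ K Q C : Subgroup G,
      Setup p P K Q (Subgroup.normalizer ((P : Subgroup G) : Set G)) C := by
  classical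
  have := Fintype.ofFinite G
  set K : Subgroup G := qGen 2 G with hKdef
  have hK : K.Normal := inferInstance
  have hKodd : Odd K.index := odd_index_qGen_two
  obtain ⟨Q₀⟩ : Nonempty (Sylow p K) := inferInstance
  have hQ₀n : (Q₀ : Subgroup K).Normal := normal_sylow_qGen_two p hsolv hreal Q₀
  have hQ₀char : (Q₀ : Subgroup K).Characteristic := Sylow.characteristic_of_normal Q₀ hQ₀n
  set Q : Subgroup G := (Q₀ : Subgroup K).map K.subtype with hQdef
  have hQn : Q.Normal := ConjAct.normal_of_characteristic_of_normal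
  have hQp : IsPGroup p Q := Q₀.2.map K.subtype
  have hQK : Q ≤ K := Subgroup.map_subtype_le _
  have hQP : Q ≤ (P : Subgroup G) := by
    have h1 : IsPGroup p ((P : Subgroup G) ⊔ Q : Subgroup G) :=
      IsPGroup.to_sup_of_normal_right P.2 hQp
    have h2 : (P : Subgroup G) ⊔ Q = (P : Subgroup G) := P.3 h1 le_sup_left
    rw [← h2]
    exact le_sup_right
  have hidx : ¬ p ∣ Q.relIndex K := by
    have h1 : Q.subgroupOf K = (Q₀ : Subgroup K) := by
      rw [hQdef, Subgroup.subgroupOf,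
        Subgroup.comap_map_eq_self_of_injective (Subgroup.subtype_injective K)]
    show ¬ p ∣ (Q.subgroupOf K).index
    rw [h1]
    exact Q₀.not_dvd_index
  -- `p`-elements of `K` lie in `Q`
  have hPKQ : ∀ y : G, y ∈ (P : Subgroup G) → y ∈ K → y ∈ Q := by
    intro y hyP hyK
    have hR : IsPGroup p ((P : Subgroup G).subgroupOf K) := P.2.comap_subtype
    have h1 : IsPGroup p ((P : Subgroup G).subgroupOf K ⊔ (Q₀ : Subgroup K) : Subgroup K) :=
      IsPGroup.to_sup_of_normal_right hR Q₀.2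
    have h2 : (P : Subgroup G).subgroupOf K ⊔ (Q₀ : Subgroup K) = (Q₀ : Subgroup K) :=
      Q₀.3 h1 le_sup_right
    have h3 : (⟨y, hyK⟩ : K) ∈ (Q₀ : Subgroup K) := by
      rw [← h2]
      exact Subgroup.mem_sup_left (Subgroup.mem_subgroupOf.mpr hyP)
    exact ⟨⟨y, hyK⟩, h3, rfl⟩
  set N : Subgroup G := Subgroup.normalizer ((P : Subgroup G) : Set G) with hNdef
  have hC : ∀ k : G, k ∈ K ⊓ N ↔ k ∈ K ∧ ∀ x ∈ (P : Subgroup G), x * k * x⁻¹ * k⁻¹ ∈ Q := by
    intro k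
    rw [Subgroup.mem_inf]
    constructor
    · rintro ⟨hkK, hkN⟩
      refine ⟨hkK, fun x hx => ?_⟩
      apply hPKQ
      · have h1 : k * x⁻¹ * k⁻¹ ∈ (P : Subgroup G) :=
          (Subgroup.mem_normalizer_iff.mp hkN x⁻¹).mp ((P : Subgroup G).inv_mem hx)
        have h2 : x * k * x⁻¹ * k⁻¹ = x * (k * x⁻¹ * k⁻¹) := by group
        rw [h2]
        exact (P : Subgroup G).mul_mem hx h1
      · exact K.mul_mem (hK.conj_mem k hkK x) (K.inv_mem hkK)
    · rintro ⟨hkK, hk⟩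
      refine ⟨hkK, ?_⟩
      have hfw : ∀ x ∈ (P : Subgroup G), k * x * k⁻¹ ∈ (P : Subgroup G) := by
        intro x hx
        have h1 := hk x⁻¹ ((P : Subgroup G).inv_mem hx)
        have h2 : k * x * k⁻¹ = x * (x⁻¹ * k * x⁻¹⁻¹ * k⁻¹) := by group
        rw [h2]
        exact (P : Subgroup G).mul_mem hx (hQP h1)
      have hbw : ∀ x ∈ (P : Subgroup G), k⁻¹ * x * k ∈ (P : Subgroup G) := by
        intro x hx
        have h1 := hk x⁻¹ ((P : Subgroup G).inv_mem hx)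
        have h3 : k⁻¹ * (x⁻¹ * k * x⁻¹⁻¹ * k⁻¹)⁻¹ * k⁻¹⁻¹ ∈ Q :=
          hQn.conj_mem _ (Q.inv_mem h1) k⁻¹
        have h2 : k⁻¹ * x * k = x * (k⁻¹ * (x⁻¹ * k * x⁻¹⁻¹ * k⁻¹)⁻¹ * k⁻¹⁻¹) := by group
        rw [h2]
        exact (P : Subgroup G).mul_mem hx (hQP h3)
      rw [hNdef, Subgroup.mem_normalizer_iff]
      intro x
      constructor
      · exact hfw x
      · intro hx
        have := hbw _ hx
        have h2 : k⁻¹ * (k * x * k⁻¹) * k = x := by group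
        rwa [h2] at this
  refine ⟨K, Q, K ⊓ N, ⟨hp.out, hK, hKodd, hreal, rfl, rfl, ?_⟩⟩
  exact ⟨hp.out, P.2, fun x _ k hk => hK.conj_mem k hk x, fun x _ q hq => hQn.conj_mem q hq x,
    hQK, fun k _ q hq => hQn.conj_mem q hq k, hQp, hidx, hC⟩

/-- **Isaacs–Navarro**: the real irreducible characters of `G` are in bijection with the real
irreducible characters of degree prime to `p` of the normaliser of a Sylow `p`-subgroup, with
degrees congruent modulo `p` up to sign. -/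
theorem main_bij (p : ℕ) [hp : Fact p.Prime] (hsolv : Group.IsSolvable (qGen p G))
    (hreal : RealHyp p G) (P : Sylow p G) :
    ∃ f : {χ : IrrCharacter G // ∀ g : G, ((χ : G → ℂ) g).im = 0} →
      {ξ : IrrCharacter ↥(Subgroup.normalizer ((P : Subgroup G) : Set G)) //
        (∀ n, ((ξ : ↥(Subgroup.normalizer ((P : Subgroup G) : Set G)) → ℂ) n).im = 0) ∧
          ¬ p ∣ charDegree (ξ : ↥(Subgroup.normalizer ((P : Subgroup G) : Set G)) → ℂ)},
      Function.Bijective f ∧ ∀ χ,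
        ((charDegree ((f χ).1 : ↥(Subgroup.normalizer ((P : Subgroup G) : Set G)) → ℂ) : ZMod p) =
            (charDegree (χ.1 : G → ℂ) : ZMod p) ∨
          (charDegree ((f χ).1 : ↥(Subgroup.normalizer ((P : Subgroup G) : Set G)) → ℂ) : ZMod p) =
            -(charDegree (χ.1 : G → ℂ) : ZMod p)) := by
  classical
  have := Fintype.ofFinite G
  obtain ⟨K, Q, C, h⟩ := exists_setup p hsolv hreal P
  have := Fintype.ofFinite K
  have := Fintype.ofFinite Q
  have := Fintype.ofFinite C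
  have := Fintype.ofFinite ↥(Subgroup.normalizer ((P : Subgroup G) : Set G))
  exact h.core_bij

end Main

end Cfsg.Agent.Lib.H1.RealBij
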