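import Mathlib
import Cfsg.Agent.Lib.H1.RealNormC

/-!
# Isaacs–Navarro: `N_G(P)` meets every real class (helper1)

`normalizer_meets_real_class`: if the `p`-elements of `G` generate a solvable subgroup and every real
irreducible character of `G` has degree prime to `p`, then every real element of `G` is conjugate to
an element of the normaliser of a Sylow `p`-subgroup.
-/

set_option autoImplicit false

universe u

namespace Cfsg.Agent.Lib.H1.RealNorm

open Cfsg Cfsg.Agent.Lib.L0 Cfsg.Agent.Lib.H24 Cfsg.Agent.Lib.H24.Glaub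
  Cfsg.Agent.Lib.L0.RealPDeg Cfsg.Agent.Lib.H23
open scoped ComplexConjugate

section General

variable {G : Type u} [Group G]

/-- A real element lies in every normal subgroup of odd index. -/
theorem mem_of_real_of_odd_index (K : Subgroup G) [hK : K.Normal] (hodd : Odd K.index) {x : G}
    (hx : IsConj x x⁻¹) : x ∈ K := by
  obtain ⟨c, hc⟩ := isConj_iff.mp hx
  set T : Subgroup G :=
    (Subgroup.centralizer ({QuotientGroup.mk' K x} : Set (G ⧸ K))).comap (QuotientGroup.mk' K)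
    with hT
  have hKT : K ≤ T := by
    intro k hk
    rw [hT, Subgroup.mem_comap]
    have : QuotientGroup.mk' K k = 1 := (QuotientGroup.eq_one_iff k).mpr hk
    rw [this]
    exact Subgroup.one_mem _
  have hc2 : c ^ 2 ∈ T := by
    rw [hT, Subgroup.mem_comap, Subgroup.mem_centralizer_singleton_iff, ← map_mul, ← map_mul]
    congr 1
    have h1 : c * x⁻¹ * c⁻¹ = x := by
      have : c * x⁻¹ * c⁻¹ = (c * x * c⁻¹)⁻¹ := by group
      rw [this, hc, inv_inv]
    calc c ^ 2 * x = c * (c * x * c⁻¹) * c := by rw [pow_two]; group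
      _ = c * x⁻¹ * c := by rw [hc]
      _ = (c * x⁻¹ * c⁻¹) * c ^ 2 := by rw [pow_two]; group
      _ = x * c ^ 2 := by rw [h1]
  have hcT : c ∈ T := mem_of_sq_mem_of_odd_index K T hodd hKT c hc2
  rw [hT, Subgroup.mem_comap, Subgroup.mem_centralizer_singleton_iff, ← map_mul, ← map_mul] at hcT
  have h2 : (c * x)⁻¹ * (x * c) ∈ K := by
    rw [← QuotientGroup.eq]
    exact hcT
  have h3 : x ^ 2 ∈ K := by
    have h6 : c⁻¹ * x⁻¹ * c = x := by
      calc c⁻¹ * x⁻¹ * c = c⁻¹ * (c * x * c⁻¹) * c := by rw [hc]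
        _ = x := by group
    have h7 : c⁻¹ * x * c = x⁻¹ := by
      have : c⁻¹ * x * c = (c⁻¹ * x⁻¹ * c)⁻¹ := by group
      rw [this, h6]
    have h5 : (c * x)⁻¹ * (x * c) = (x ^ 2)⁻¹ := by
      calc (c * x)⁻¹ * (x * c) = x⁻¹ * (c⁻¹ * x * c) := by group
        _ = (x ^ 2)⁻¹ := by rw [h7, pow_two]; group
    rw [h5] at h2
    have := K.inv_mem h2
    rwa [inv_inv] at this
  exact mem_of_sq_mem_of_odd_index K K hodd le_rfl x h3

variable [Finite G]

/-- A real element is inverted by a `2`-element. -/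
theorem exists_two_element_inverting {x c : G} (hc : c * x * c⁻¹ = x⁻¹) :
    ∃ t : G, (∃ a : ℕ, orderOf t = 2 ^ a) ∧ t * x * t⁻¹ = x⁻¹ := by
  have hn : orderOf c ≠ 0 := (orderOf_pos c).ne'
  obtain ⟨a, m, hm, hnm⟩ := Nat.exists_eq_two_pow_mul_odd hn
  have hm0 : m ≠ 0 := fun h => by rw [h] at hm; exact (by decide : ¬ Odd 0) hm
  refine ⟨c ^ m, ⟨a, ?_⟩, ?_⟩
  · rw [orderOf_pow_of_dvd hm0 ⟨2 ^ a, by rw [hnm, mul_comm]⟩, hnm]
    exact Nat.mul_div_cancel _ (Nat.pos_of_ne_zero hm0)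
  · obtain ⟨j, rfl⟩ := hm
    have h1 : c * x⁻¹ * c⁻¹ = x := by
      have : c * x⁻¹ * c⁻¹ = (c * x * c⁻¹)⁻¹ := by group
      rw [this, hc, inv_inv]
    have hcomm : Commute (c ^ 2) x := by
      show c ^ 2 * x = x * c ^ 2
      calc c ^ 2 * x = c * (c * x * c⁻¹) * c := by rw [pow_two]; group
        _ = c * x⁻¹ * c := by rw [hc]
        _ = (c * x⁻¹ * c⁻¹) * c ^ 2 := by rw [pow_two]; group
        _ = x * c ^ 2 := by rw [h1]
    have hcomm2 : Commute ((c ^ 2) ^ j) x⁻¹ := (hcomm.pow_left j).inv_right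
    rw [pow_succ, pow_mul]
    calc (c ^ 2) ^ j * c * x * ((c ^ 2) ^ j * c)⁻¹
        = (c ^ 2) ^ j * (c * x * c⁻¹) * ((c ^ 2) ^ j)⁻¹ := by group
      _ = (c ^ 2) ^ j * x⁻¹ * ((c ^ 2) ^ j)⁻¹ := by rw [hc]
      _ = x⁻¹ * (c ^ 2) ^ j * ((c ^ 2) ^ j)⁻¹ := by rw [hcomm2.eq]
      _ = x⁻¹ := by group

end General

section Main

variable {G : Type u} [Group G] [Finite G]

/-- **Isaacs–Navarro**: the normaliser of a Sylow `p`-subgroup meets every real class. -/
theorem normalizer_meets_real_class (p : ℕ) [hp : Fact p.Prime]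
    (hsolv : Group.IsSolvable (qGen p G)) (hreal : RealHyp p G) (P : Sylow p G) (x : G)
    (hx : IsConj x x⁻¹) :
    ∃ y ∈ Subgroup.normalizer ((P : Subgroup G) : Set G), IsConj x y := by
  classical
  have := Fintype.ofFinite G
  set K : Subgroup G := qGen 2 G with hKdef
  have hKodd : Odd K.index := odd_index_qGen_two
  have hxK : x ∈ K := mem_of_real_of_odd_index K hKodd hx
  obtain ⟨c, hc⟩ := isConj_iff.mp hx
  obtain ⟨t, ⟨a, hta⟩, ht⟩ := exists_two_element_inverting hc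
  have htK : t ∈ K := mem_qGen_of_orderOf 2 hta
  -- the normal Sylow `p`-subgroup of `K`
  obtain ⟨Q₀⟩ : Nonempty (Sylow p K) := inferInstance
  have hQ₀n : (Q₀ : Subgroup K).Normal := normal_sylow_qGen_two p hsolv hreal Q₀
  have hQ₀char : (Q₀ : Subgroup K).Characteristic := Sylow.characteristic_of_normal Q₀ hQ₀n
  set P₀ : Subgroup G := (Q₀ : Subgroup K).map K.subtype with hP₀
  have hP₀n : P₀.Normal := ConjAct.normal_of_characteristic_of_normal
  have hP₀p : IsPGroup p P₀ := Q₀.2.map K.subtype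
  have hP₀P : P₀ ≤ (P : Subgroup G) := by
    have h1 : IsPGroup p ((P : Subgroup G) ⊔ P₀ : Subgroup G) :=
      IsPGroup.to_sup_of_normal_right P.2 hP₀p
    have h2 : (P : Subgroup G) ⊔ P₀ = (P : Subgroup G) := P.3 h1 le_sup_left
    rw [← h2]
    exact le_sup_right
  -- the quotient
  set π : G →* G ⧸ P₀ := QuotientGroup.mk' P₀ with hπ
  have hπs : Function.Surjective π := QuotientGroup.mk'_surjective P₀
  have := Fintype.ofFinite (G ⧸ P₀)
  set Kb : Subgroup (G ⧸ P₀) := K.map π with hKb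
  have hKbn : Kb.Normal := Subgroup.Normal.map inferInstance π hπs
  have hKbodd : Odd Kb.index := Odd.of_dvd_nat hKodd (Subgroup.index_map_dvd K hπs)
  have hpKb : ¬ p ∣ Nat.card Kb := by
    set φ : K →* G ⧸ P₀ := π.comp K.subtype with hφ
    have hker : φ.ker = (Q₀ : Subgroup K) := by
      ext k
      rw [MonoidHom.mem_ker, hφ, MonoidHom.comp_apply, hπ, QuotientGroup.mk'_apply,
        QuotientGroup.eq_one_iff, hP₀]
      constructor
      · rintro ⟨k', hk', hkk'⟩
        have : k' = k := Subtype.ext hkk'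
        rwa [← this]
      · intro hk
        exact ⟨k, hk, rfl⟩
    have hcard : Nat.card Kb = Nat.card φ.range := by
      have h1 : φ.range = Kb := by
        rw [hφ, MonoidHom.range_comp, Subgroup.range_subtype]
      rw [h1]
    rw [hcard, ← Subgroup.index_ker, hker]
    exact Q₀.not_dvd_index
  have hrealb : RealHyp p (G ⧸ P₀) := realHyp_quotient p P₀ hreal
  set Pb : Sylow p (G ⧸ P₀) := P.mapSurjective hπs with hPb
  have hPbcoe : (Pb : Subgroup (G ⧸ P₀)) = (P : Subgroup G).map π := Sylow.coe_mapSurjective hπs P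
  -- the image of `x`
  set kb : Kb := ⟨π x, Subgroup.mem_map_of_mem π hxK⟩ with hkb
  have hkbreal : IsConj kb kb⁻¹ := by
    rw [isConj_iff]
    refine ⟨⟨π t, Subgroup.mem_map_of_mem π htK⟩, ?_⟩
    apply Subtype.ext
    show π t * π x * (π t)⁻¹ = (π x)⁻¹
    rw [← map_inv, ← map_mul, ← map_mul, ht, map_inv]
  obtain ⟨gb, hgb⟩ := real_conj_centralizer_of_realHyp Kb hKbodd hpKb hrealb Pb kb hkbreal
  obtain ⟨g, rfl⟩ := hπs gb
  have hy : π (g * x * g⁻¹) ∈ Subgroup.centralizer (((P : Subgroup G).map π : Subgroup (G ⧸ P₀)) :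
      Set (G ⧸ P₀)) := by
    rw [← hPbcoe, map_mul, map_mul, map_inv]
    exact hgb
  -- elements centralising `P` modulo `P₀` normalise `P`
  have hnorm : ∀ y : G, π y ∈ Subgroup.centralizer (((P : Subgroup G).map π : Subgroup (G ⧸ P₀)) :
      Set (G ⧸ P₀)) → ∀ u ∈ (P : Subgroup G), y * u * y⁻¹ ∈ (P : Subgroup G) := by
    intro y hy u hu
    have h1 := (Subgroup.mem_centralizer_iff.mp hy) (π u) (Subgroup.mem_map_of_mem π hu)
    have h2 : π (y * u * y⁻¹ * u⁻¹) = 1 := by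
      rw [map_mul, map_mul, map_mul, map_inv, map_inv, ← h1]
      group
    have h3 : y * u * y⁻¹ * u⁻¹ ∈ P₀ := by
      rw [hπ, QuotientGroup.mk'_apply, QuotientGroup.eq_one_iff] at h2
      exact h2
    have h4 : y * u * y⁻¹ * u⁻¹ * u ∈ (P : Subgroup G) :=
      (P : Subgroup G).mul_mem (hP₀P h3) hu
    have h5 : y * u * y⁻¹ * u⁻¹ * u = y * u * y⁻¹ := by group
    rwa [h5] at h4
  refine ⟨g * x * g⁻¹, ?_, isConj_iff.mpr ⟨g, rfl⟩⟩
  rw [Subgroup.mem_normalizer_iff]
  intro u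
  constructor
  · exact hnorm _ hy u
  · intro hu
    have hy' : π (g * x * g⁻¹)⁻¹ ∈ Subgroup.centralizer
        (((P : Subgroup G).map π : Subgroup (G ⧸ P₀)) : Set (G ⧸ P₀)) := by
      rw [map_inv]
      exact Subgroup.inv_mem _ hy
    have h1 := hnorm _ hy' _ hu
    have h2 : (g * x * g⁻¹)⁻¹ * (g * x * g⁻¹ * u * (g * x * g⁻¹)⁻¹) * (g * x * g⁻¹)⁻¹⁻¹ = u := by
      group
    rwa [h2] at h1

end Main

end Cfsg.Agent.Lib.H1.RealNorm
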