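import Mathlib

/-!
helper1: the two large-`k` inequalities (numeric cores SS9, SS10) of the Sylvester-Schur block of
S3571 (Erdos 1934).  Pure `ℕ`, Mathlib only.
-/

set_option autoImplicit false

namespace Cfsg.Agent.Lib.H1.S3571SS910

/-- logarithm against power: `64 (j+3)^2 ≤ 2^j` from `j = 16` on. -/
theorem log_bound (j : ℕ) (hj : 16 ≤ j) : 64 * (j + 3) ^ 2 ≤ 2 ^ j := by
  induction j, hj using Nat.le_induction with
  | base => norm_num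
  | succ j hj ih =>
    have h1 : (j + 1 + 3) ^ 2 ≤ 2 * (j + 3) ^ 2 := by nlinarith
    calc 64 * (j + 1 + 3) ^ 2 ≤ 64 * (2 * (j + 3) ^ 2) := Nat.mul_le_mul_left _ h1
      _ = 2 * (64 * (j + 3) ^ 2) := by ring
      _ ≤ 2 * 2 ^ j := Nat.mul_le_mul_left _ ih
      _ = 2 ^ (j + 1) := by ring

theorem eight_mul_le (k t j : ℕ) (hj : 16 ≤ j) (hjk : 2 ^ j ≤ k) (ht : t ^ 2 ≤ k) :
    8 * (t * (j + 3)) ≤ k := by
  have h1 : (8 * (t * (j + 3))) ^ 2 ≤ k ^ 2 := by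
    calc (8 * (t * (j + 3))) ^ 2 = t ^ 2 * (64 * (j + 3) ^ 2) := by ring
      _ ≤ k * 2 ^ j := Nat.mul_le_mul ht (log_bound j hj)
      _ ≤ k * k := Nat.mul_le_mul_left _ hjk
      _ = k ^ 2 := by ring
  exact (Nat.pow_le_pow_iff_left (by norm_num)).mp h1

theorem eight_log_le (k j : ℕ) (hj : 16 ≤ j) (hjk : 2 ^ j ≤ k) : 64 * (j + 3) ≤ k := by
  have h1 := log_bound j hj
  have h2 : 64 * (j + 3) ≤ 64 * (j + 3) ^ 2 := by nlinarith
  omega

theorem two_pow_le_three_pow (k : ℕ) : 2 ^ (3 * (k / 2)) ≤ 3 ^ k := by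
  calc 2 ^ (3 * (k / 2)) = 8 ^ (k / 2) := by rw [pow_mul]; norm_num
    _ ≤ 9 ^ (k / 2) := Nat.pow_le_pow_left (by norm_num) _
    _ = 3 ^ (2 * (k / 2)) := by rw [pow_mul]; norm_num
    _ ≤ 3 ^ k := Nat.pow_le_pow_right (by norm_num) (by omega)

/-- the dyadic frame of `k`. -/
theorem log_frame (k : ℕ) (hk : 2 ^ 16 ≤ k) :
    ∃ j, 16 ≤ j ∧ 2 ^ j ≤ k ∧ k < 2 ^ (j + 1) := by
  refine ⟨Nat.log 2 k, ?_, Nat.pow_log_le_self 2 (by omega), Nat.lt_pow_succ_log_self (by norm_num) k⟩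
  have h1 : k < 2 ^ (Nat.log 2 k + 1) := Nat.lt_pow_succ_log_self (by norm_num) k
  have h2 : 2 ^ 16 < 2 ^ (Nat.log 2 k + 1) := lt_of_le_of_lt hk h1
  have := (Nat.pow_lt_pow_iff_right (by norm_num : 1 < 2)).mp h2
  omega

/-- (SS9) far range `3k ≤ n`, `n² ≤ k³`. -/
theorem large_far (k n s t : ℕ) (hk : 2 ^ 16 ≤ k) (h3 : 3 * k ≤ n) (hn : n ^ 2 ≤ k ^ 3)
    (hs : s ^ 2 ≤ n) (ht : t ^ 3 ≤ n) :
    2 * k * k ^ k * 4 ^ (k + s) * n ^ t < (2 * n) ^ k := by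
  obtain ⟨j, hj, hj1, hj2⟩ := log_frame k hk
  have hk1 : 1 ≤ k := by omega
  -- bounds on s
  have hs4 : s ^ 4 ≤ k ^ 3 := by
    calc s ^ 4 = (s ^ 2) ^ 2 := by ring
      _ ≤ n ^ 2 := Nat.pow_le_pow_left hs 2
      _ ≤ k ^ 3 := hn
  have h16s : 16 * s ≤ k := by
    have h1 : (16 * s) ^ 4 ≤ k ^ 4 := by
      calc (16 * s) ^ 4 = 2 ^ 16 * s ^ 4 := by ring
        _ ≤ k * k ^ 3 := Nat.mul_le_mul hk hs4
        _ = k ^ 4 := by ring
    exact (Nat.pow_le_pow_iff_left (by norm_num)).mp h1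
  -- bounds on t
  have ht2 : t ^ 2 ≤ k := by
    have h1 : (t ^ 2) ^ 3 ≤ k ^ 3 := by
      calc (t ^ 2) ^ 3 = (t ^ 3) ^ 2 := by ring
        _ ≤ n ^ 2 := Nat.pow_le_pow_left ht 2
        _ ≤ k ^ 3 := hn
    exact (Nat.pow_le_pow_iff_left (by norm_num)).mp h1
  have hq : 8 * (t * (j + 3)) ≤ k := eight_mul_le k t j hj hj1 ht2
  have hjk : 64 * (j + 3) ≤ k := eight_log_le k j hj hj1
  -- bound on n
  have hnk : n ≤ k ^ 2 := by
    have h1 : n ^ 2 ≤ (k ^ 2) ^ 2 := by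
      calc n ^ 2 ≤ k ^ 3 := hn
        _ ≤ k ^ 3 * k := Nat.le_mul_of_pos_right _ hk1
        _ = (k ^ 2) ^ 2 := by ring
    exact (Nat.pow_le_pow_iff_left (by norm_num)).mp h1
  have hn2 : n ≤ 2 ^ (2 * (j + 3)) := by
    calc n ≤ k ^ 2 := hnk
      _ ≤ (2 ^ (j + 1)) ^ 2 := Nat.pow_le_pow_left hj2.le 2
      _ = 2 ^ (2 * (j + 1)) := by rw [← pow_mul]; ring_nf
      _ ≤ 2 ^ (2 * (j + 3)) := Nat.pow_le_pow_right (by norm_num) (by omega)
  have hnt : n ^ t ≤ 2 ^ (2 * (t * (j + 3))) := by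
    calc n ^ t ≤ (2 ^ (2 * (j + 3))) ^ t := Nat.pow_le_pow_left hn2 t
      _ = 2 ^ (2 * (t * (j + 3))) := by rw [← pow_mul]; ring_nf
  have h2k : 2 * k < 2 ^ (j + 2) := by
    have : 2 ^ (j + 2) = 2 * 2 ^ (j + 1) := by ring
    omega
  have h4s : 4 ^ s = 2 ^ (2 * s) := by rw [pow_mul]; norm_num
  have key : 2 * k * 2 ^ k * 4 ^ s * n ^ t < 3 ^ k := by
    calc 2 * k * 2 ^ k * 4 ^ s * n ^ t
        ≤ 2 * k * 2 ^ k * 2 ^ (2 * s) * 2 ^ (2 * (t * (j + 3))) := by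
          rw [h4s]; exact Nat.mul_le_mul_left _ hnt
      _ < 2 ^ (j + 2) * 2 ^ k * 2 ^ (2 * s) * 2 ^ (2 * (t * (j + 3))) := by
          apply Nat.mul_lt_mul_of_pos_right _ (by positivity)
          apply Nat.mul_lt_mul_of_pos_right _ (by positivity)
          exact Nat.mul_lt_mul_of_pos_right h2k (by positivity)
      _ = 2 ^ ((j + 2) + k + 2 * s + 2 * (t * (j + 3))) := by
          simp only [pow_add]
      _ ≤ 2 ^ (3 * (k / 2)) := by
          apply Nat.pow_le_pow_right (by norm_num)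
          generalize t * (j + 3) = q at hq
          omega
      _ ≤ 3 ^ k := two_pow_le_three_pow k
  calc 2 * k * k ^ k * 4 ^ (k + s) * n ^ t
      = (2 * k * 2 ^ k * 4 ^ s * n ^ t) * (2 ^ k * k ^ k) := by
        have : (4 : ℕ) ^ (k + s) = 2 ^ k * 2 ^ k * 4 ^ s := by
          rw [pow_add, ← mul_pow]; norm_num
        rw [this]; ring
    _ < 3 ^ k * (2 ^ k * k ^ k) := Nat.mul_lt_mul_of_pos_right key (by positivity)
    _ = (2 * (3 * k)) ^ k := by rw [mul_pow, mul_pow]; ring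
    _ ≤ (2 * n) ^ k := Nat.pow_le_pow_left (by omega) k

theorem two_pow_le_five_pow_aux (a r : ℕ) : 2 ^ (9 * a + 2 * r) ≤ 5 ^ (4 * a + r) := by
  rw [pow_add, pow_add, pow_mul, pow_mul, pow_mul]
  exact Nat.mul_le_mul (Nat.pow_le_pow_left (by norm_num) a) (Nat.pow_le_pow_left (by norm_num) r)

theorem two_pow_le_five_pow (k : ℕ) : 2 ^ (2 * k + k / 4) ≤ 5 ^ k := by
  have h := two_pow_le_five_pow_aux (k / 4) (k % 4)
  have e1 : 9 * (k / 4) + 2 * (k % 4) = 2 * k + k / 4 := by omega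
  have e2 : 4 * (k / 4) + k % 4 = k := Nat.div_add_mod k 4
  rw [e1, e2] at h
  exact h

/-- (SS10) near range `2k ≤ n < 3k`. -/
theorem large_near (k n s t : ℕ) (hk : 2 ^ 16 ≤ k) (h2 : 2 * k ≤ n) (h3 : n < 3 * k)
    (hs : s ^ 2 ≤ n) (ht : t ^ 3 ≤ n) :
    2 * k * k ^ k * 4 ^ (n / 3 + s) * n ^ t < (2 * n) ^ k := by
  obtain ⟨j, hj, hj1, hj2⟩ := log_frame k hk
  have hk1 : 1 ≤ k := by omega
  -- bounds on s
  have h128s : 128 * s ≤ k := by
    have h1 : (128 * s) ^ 2 ≤ k ^ 2 := by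
      calc (128 * s) ^ 2 = 2 ^ 14 * s ^ 2 := by ring
        _ ≤ 2 ^ 14 * (4 * k) := Nat.mul_le_mul_left _ (by omega)
        _ = 2 ^ 16 * k := by ring
        _ ≤ k * k := Nat.mul_le_mul_right _ hk
        _ = k ^ 2 := by ring
    exact (Nat.pow_le_pow_iff_left (by norm_num)).mp h1
  -- bounds on t
  have ht2 : t ^ 2 ≤ k := by
    have h1 : (t ^ 2) ^ 3 ≤ k ^ 3 := by
      calc (t ^ 2) ^ 3 = (t ^ 3) ^ 2 := by ring
        _ ≤ n ^ 2 := Nat.pow_le_pow_left ht 2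
        _ ≤ (3 * k) ^ 2 := Nat.pow_le_pow_left h3.le 2
        _ = 9 * k ^ 2 := by ring
        _ ≤ k * k ^ 2 := Nat.mul_le_mul_right _ (by omega)
        _ = k ^ 3 := by ring
    exact (Nat.pow_le_pow_iff_left (by norm_num)).mp h1
  have hq : 8 * (t * (j + 3)) ≤ k := eight_mul_le k t j hj hj1 ht2
  have hjk : 64 * (j + 3) ≤ k := eight_log_le k j hj hj1
  have hn2 : n ≤ 2 ^ (j + 3) := by
    have : 2 ^ (j + 3) = 4 * 2 ^ (j + 1) := by ring
    omega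
  have hnt : n ^ t ≤ 2 ^ (t * (j + 3)) := by
    calc n ^ t ≤ (2 ^ (j + 3)) ^ t := Nat.pow_le_pow_left hn2 t
      _ = 2 ^ (t * (j + 3)) := by rw [← pow_mul]; ring_nf
  have h2k : 2 * k < 2 ^ (j + 2) := by
    have : 2 ^ (j + 2) = 2 * 2 ^ (j + 1) := by ring
    omega
  have h4s : (4 : ℕ) ^ (n / 3 + s) = 2 ^ (2 * (n / 3 + s)) := by rw [pow_mul]; norm_num
  have hlt : 2 * k * 4 ^ (n / 3 + s) * n ^ t <
      2 ^ ((j + 2) + 2 * (n / 3 + s) + t * (j + 3)) := by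
    calc 2 * k * 4 ^ (n / 3 + s) * n ^ t
        ≤ 2 * k * 2 ^ (2 * (n / 3 + s)) * 2 ^ (t * (j + 3)) := by
          rw [h4s]; exact Nat.mul_le_mul_left _ hnt
      _ < 2 ^ (j + 2) * 2 ^ (2 * (n / 3 + s)) * 2 ^ (t * (j + 3)) := by
          apply Nat.mul_lt_mul_of_pos_right _ (by positivity)
          exact Nat.mul_lt_mul_of_pos_right h2k (by positivity)
      _ = 2 ^ ((j + 2) + 2 * (n / 3 + s) + t * (j + 3)) := by
          simp only [pow_add]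
  by_cases hc : 2 * n < 5 * k
  · -- case A
    have key : 2 * k * 4 ^ (n / 3 + s) * n ^ t < 4 ^ k := by
      calc 2 * k * 4 ^ (n / 3 + s) * n ^ t
          < 2 ^ ((j + 2) + 2 * (n / 3 + s) + t * (j + 3)) := hlt
        _ ≤ 2 ^ (2 * k) := by
            apply Nat.pow_le_pow_right (by norm_num)
            generalize t * (j + 3) = q at hq
            omega
        _ = 4 ^ k := by rw [pow_mul]; norm_num
    calc 2 * k * k ^ k * 4 ^ (n / 3 + s) * n ^ t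
        = (2 * k * 4 ^ (n / 3 + s) * n ^ t) * k ^ k := by ring
      _ < 4 ^ k * k ^ k := Nat.mul_lt_mul_of_pos_right key (by positivity)
      _ = (2 * (2 * k)) ^ k := by rw [← mul_pow]; ring_nf
      _ ≤ (2 * n) ^ k := Nat.pow_le_pow_left (by omega) k
  · -- case B
    have key : 2 * k * 4 ^ (n / 3 + s) * n ^ t < 5 ^ k := by
      calc 2 * k * 4 ^ (n / 3 + s) * n ^ t
          < 2 ^ ((j + 2) + 2 * (n / 3 + s) + t * (j + 3)) := hlt
        _ ≤ 2 ^ (2 * k + k / 4) := by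
            apply Nat.pow_le_pow_right (by norm_num)
            generalize t * (j + 3) = q at hq
            omega
        _ ≤ 5 ^ k := two_pow_le_five_pow k
    calc 2 * k * k ^ k * 4 ^ (n / 3 + s) * n ^ t
        = (2 * k * 4 ^ (n / 3 + s) * n ^ t) * k ^ k := by ring
      _ < 5 ^ k * k ^ k := Nat.mul_lt_mul_of_pos_right key (by positivity)
      _ = (5 * k) ^ k := by rw [← mul_pow]
      _ ≤ (2 * n) ^ k := Nat.pow_le_pow_left (by omega) k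

end Cfsg.Agent.Lib.H1.S3571SS910
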