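import Mathlib
import Cfsg.Agent.Lib.H9.S3776Defs

/-!
# S3776: a group-level form of LEMMA E (helper1)

From the cut's `LemEMulStmt`: `M ⊴ G` an `E`-invariant normal subgroup with `G ⧸ M` of exponent 2 and
`E`-irreducible; `H ≤ G` an `E`-invariant subgroup with an `E`-equivariant multiplicative map `ν : H → V`
onto `V`; commutators `[h, g]` (`h ∈ H`) lie in `V`, vanish for `ν h = 1` and for `g ∈ M`, not all vanish.
Then `[h, g] ≠ 1` whenever `ν h ≠ 1`, `g ∉ M`.  (`T := G ⧸ M`, `b (gM, v) := [h_v, g]` with `ν h_v = v`.)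
-/

set_option autoImplicit false

namespace Cfsg.Agent.Lib.H1.S3776EG

open Cfsg.Agent.Lib.H9.S3776

universe u

section
variable {G : Type u} [Group G]

/-- the commutator `h g h⁻¹ g⁻¹` -/
def cm (h g : G) : G := h * g * h⁻¹ * g⁻¹

theorem cm_eq_one_iff (h g : G) : cm h g = 1 ↔ h * g = g * h := by
  unfold cm
  constructor
  · intro e
    have e1 : h * g = (h * g * h⁻¹ * g⁻¹) * (g * h) := by group
    rw [e1, e, one_mul]
  · intro e
    have e1 : h * g * h⁻¹ * g⁻¹ = (h * g) * (g * h)⁻¹ := by group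
    rw [e1, e, mul_inv_cancel]

theorem cm_mul_left (V : Subgroup G) (hVc : ∀ v ∈ V, ∀ g : G, g * v = v * g) (h h' g : G)
    (hc : cm h' g ∈ V) : cm (h * h') g = cm h g * cm h' g := by
  unfold cm at *
  have c1 := hVc _ hc h
  have c2 := hVc _ hc (h * g * h⁻¹ * g⁻¹)
  calc h * h' * g * (h * h')⁻¹ * g⁻¹
      = (h * (h' * g * h'⁻¹ * g⁻¹)) * g * h⁻¹ * g⁻¹ := by group
    _ = ((h' * g * h'⁻¹ * g⁻¹) * h) * g * h⁻¹ * g⁻¹ := by rw [c1]
    _ = (h' * g * h'⁻¹ * g⁻¹) * (h * g * h⁻¹ * g⁻¹) := by group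
    _ = (h * g * h⁻¹ * g⁻¹) * (h' * g * h'⁻¹ * g⁻¹) := by rw [c2]

theorem cm_mul_right (V : Subgroup G) (hVc : ∀ v ∈ V, ∀ g : G, g * v = v * g) (h g g' : G)
    (hc : cm h g' ∈ V) : cm h (g * g') = cm h g * cm h g' := by
  unfold cm at *
  have c1 := hVc _ hc g⁻¹
  calc h * (g * g') * h⁻¹ * (g * g')⁻¹
      = h * g * h⁻¹ * ((h * g' * h⁻¹ * g'⁻¹) * g⁻¹) := by group
    _ = h * g * h⁻¹ * (g⁻¹ * (h * g' * h⁻¹ * g'⁻¹)) := by rw [c1]
    _ = h * g * h⁻¹ * g⁻¹ * (h * g' * h⁻¹ * g'⁻¹) := by group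

end

theorem eg (hLE : LemEMulStmt.{u}) {G E : Type u} [Group G] [Finite G] [Group E] [Finite E]
    (φ : E →* MulAut G) (V : Subgroup G) (hsolv : Group.IsSolvable E) (hF : Frame φ V)
    (M : Subgroup G) (hMn : M.Normal) (hMinv : Inv φ M) (hMsq : ∀ g : G, g ^ 2 ∈ M)
    (hMirr : ∀ G1 : Subgroup G, M ≤ G1 → Inv φ G1 → G1 = M ∨ G1 = ⊤)
    (H : Subgroup G) (hHinv : Inv φ H) (ν : G → G) (hνV : ∀ h ∈ H, ν h ∈ V)
    (hνmul : ∀ h ∈ H, ∀ h' ∈ H, ν (h * h') = ν h * ν h')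
    (hνE : ∀ e : E, ∀ h ∈ H, ν (φ e h) = φ e (ν h))
    (hνsurj : ∀ v ∈ V, ∃ h ∈ H, ν h = v)
    (hcV : ∀ h ∈ H, ∀ g : G, h * g * h⁻¹ * g⁻¹ ∈ V)
    (hcL : ∀ h ∈ H, ν h = 1 → ∀ g : G, h * g = g * h)
    (hcM : ∀ h ∈ H, ∀ m ∈ M, h * m = m * h)
    (hne : ∃ h ∈ H, ∃ g : G, h * g ≠ g * h) :
    ∀ h ∈ H, ν h ≠ 1 → ∀ g : G, g ∉ M → h * g ≠ g * h := by
  classical
  haveI := hMn
  have hν1 : ν 1 = 1 := by
    have h1 := hνmul 1 H.one_mem 1 H.one_mem
    rw [one_mul] at h1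
    simpa using h1
  have hνinv : ∀ h ∈ H, ν h⁻¹ = (ν h)⁻¹ := by
    intro h hh
    have h1 := hνmul h hh h⁻¹ (H.inv_mem hh)
    rw [mul_inv_cancel, hν1] at h1
    exact eq_inv_of_mul_eq_one_right h1.symm
  have hcV' : ∀ h ∈ H, ∀ g : G, cm h g ∈ V := hcV
  -- independence of the commutator of the choices
  have key : ∀ h ∈ H, ∀ h' ∈ H, ν h = ν h' → ∀ g g' : G, g⁻¹ * g' ∈ M → cm h g = cm h' g' := by
    intro h hh h' hh' hνe g g' hgg'
    have s1 : cm h (g * (g⁻¹ * g')) = cm h g := by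
      rw [cm_mul_right V hF.cen h g (g⁻¹ * g') (hcV' h hh _)]
      have e1 : cm h (g⁻¹ * g') = 1 := (cm_eq_one_iff _ _).mpr (hcM h hh _ hgg')
      rw [e1, mul_one]
    have hl : h⁻¹ * h' ∈ H := H.mul_mem (H.inv_mem hh) hh'
    have hνl : ν (h⁻¹ * h') = 1 := by
      rw [hνmul _ (H.inv_mem hh) _ hh', hνinv h hh, hνe, inv_mul_cancel]
    have s2 : cm (h * (h⁻¹ * h')) g' = cm h g' := by
      rw [cm_mul_left V hF.cen h (h⁻¹ * h') g' (hcV' _ hl _)]
      have e1 : cm (h⁻¹ * h') g' = 1 := (cm_eq_one_iff _ _).mpr (hcL _ hl hνl g')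
      rw [e1, mul_one]
    have e2 : g * (g⁻¹ * g') = g' := by group
    have e3 : h * (h⁻¹ * h') = h' := by group
    rw [e2] at s1
    rw [e3] at s2
    rw [s2, s1]
  -- the data
  have hMmap : ∀ e : E, M ≤ M.comap (φ e).toMonoidHom := fun e m hm => hMinv e m hm
  let aV : E → ↥V → ↥V := fun e v => ⟨φ e v, hF.inv e v v.2⟩
  let aT : E → G ⧸ M → G ⧸ M := fun e => QuotientGroup.map M M (φ e).toMonoidHom (hMmap e)
  have aT_mk : ∀ (e : E) (g : G), aT e (QuotientGroup.mk g) = QuotientGroup.mk (φ e g) :=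
    fun e g => rfl
  let hv : ↥V → G := fun v => Classical.choose (hνsurj v v.2)
  have hhv : ∀ v : ↥V, hv v ∈ H ∧ ν (hv v) = v := fun v => Classical.choose_spec (hνsurj v v.2)
  let b : G ⧸ M → ↥V → ↥V := fun t v => ⟨cm (hv v) t.out, hcV' _ (hhv v).1 _⟩
  have bval : ∀ (g : G) (v : ↥V) (h : G), h ∈ H → ν h = v →
      ((b (QuotientGroup.mk g) v : ↥V) : G) = cm h g := by
    intro g v h hh hνh
    show cm (hv v) (QuotientGroup.mk g : G ⧸ M).out = cm h g
    refine (key h hh (hv v) (hhv v).1 (by rw [hνh, (hhv v).2]) g _ ?_).symm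
    rw [← QuotientGroup.eq, QuotientGroup.out_eq']
  have hVsq : ∀ v : ↥V, v * v = 1 := by
    intro v
    apply Subtype.ext
    rw [Subgroup.coe_mul, ← sq]
    exact (hF.mem v.1).mp v.2
  have hTsq : ∀ t : G ⧸ M, t * t = 1 := by
    intro t
    obtain ⟨g, rfl⟩ := QuotientGroup.mk_surjective t
    rw [← QuotientGroup.mk_mul, QuotientGroup.eq_one_iff, ← sq]
    exact hMsq g
  have hirr : ∀ S : Subgroup (G ⧸ M), (∀ e, ∀ t ∈ S, aT e t ∈ S) → S = ⊥ ∨ S = ⊤ := by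
    intro S hS
    have hM1 : M ≤ S.comap (QuotientGroup.mk' M) := by
      intro m hm
      rw [Subgroup.mem_comap]
      have : (QuotientGroup.mk' M) m = 1 := (QuotientGroup.eq_one_iff m).mpr hm
      rw [this]
      exact S.one_mem
    have hI : Inv φ (S.comap (QuotientGroup.mk' M)) := by
      intro e g hg
      rw [Subgroup.mem_comap] at hg ⊢
      exact hS e _ hg
    rcases hMirr _ hM1 hI with h1 | h1
    · left
      rw [Subgroup.eq_bot_iff_forall]
      intro t ht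
      obtain ⟨g, rfl⟩ := QuotientGroup.mk_surjective t
      have hg : g ∈ S.comap (QuotientGroup.mk' M) := ht
      rw [h1] at hg
      exact (QuotientGroup.eq_one_iff g).mpr hg
    · right
      rw [Subgroup.eq_top_iff']
      intro t
      obtain ⟨g, rfl⟩ := QuotientGroup.mk_surjective t
      have hg : g ∈ S.comap (QuotientGroup.mk' M) := by rw [h1]; exact Subgroup.mem_top g
      exact hg
  have hmain := hLE E ↥V (G ⧸ M) aV aT b hsolv hVsq hTsq
    (fun e v w => Subtype.ext (map_mul (φ e) (v : G) (w : G)))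
    (fun e f v => Subtype.ext (by
      show φ (e * f) (v : G) = φ e (φ f (v : G))
      rw [map_mul, MulAut.mul_apply]))
    (fun v => Subtype.ext (by
      show φ 1 (v : G) = (v : G)
      rw [map_one, MulAut.one_apply]))
    (fun e t s => map_mul (QuotientGroup.map M M (φ e).toMonoidHom (hMmap e)) t s)
    (fun e f t => by
      obtain ⟨g, rfl⟩ := QuotientGroup.mk_surjective t
      rw [aT_mk, aT_mk, aT_mk, map_mul, MulAut.mul_apply])
    (fun t => by
      obtain ⟨g, rfl⟩ := QuotientGroup.mk_surjective t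
      rw [aT_mk, map_one, MulAut.one_apply])
    (by
      obtain ⟨x, y, hx, hy, hxy, hx1, hy1⟩ := hF.two
      refine ⟨⟨x, hx⟩, ⟨y, hy⟩, ?_, ?_, ?_⟩
      · intro h1; exact hx1 (congrArg Subtype.val h1)
      · intro h1; exact hy1 (congrArg Subtype.val h1)
      · intro h1; exact hxy (congrArg Subtype.val h1))
    (by
      intro v w hv1 hw1
      obtain ⟨e, he⟩ := hF.trans v.1 w.1 v.2 w.2 (fun h1 => hv1 (Subtype.ext h1))
        (fun h1 => hw1 (Subtype.ext h1))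
      exact ⟨e, Subtype.ext he⟩)
    hirr
    (by
      intro t s v
      obtain ⟨g, rfl⟩ := QuotientGroup.mk_surjective t
      obtain ⟨g', rfl⟩ := QuotientGroup.mk_surjective s
      apply Subtype.ext
      rw [← QuotientGroup.mk_mul, Subgroup.coe_mul, bval _ v (hv v) (hhv v).1 (hhv v).2,
        bval _ v (hv v) (hhv v).1 (hhv v).2, bval _ v (hv v) (hhv v).1 (hhv v).2]
      exact cm_mul_right V hF.cen _ _ _ (hcV' _ (hhv v).1 _))
    (by
      intro t v w
      obtain ⟨g, rfl⟩ := QuotientGroup.mk_surjective t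
      apply Subtype.ext
      have hvw : ν (hv v * hv w) = ((v * w : ↥V) : G) := by
        rw [hνmul _ (hhv v).1 _ (hhv w).1, (hhv v).2, (hhv w).2, Subgroup.coe_mul]
      rw [Subgroup.coe_mul, bval g (v * w) (hv v * hv w) (H.mul_mem (hhv v).1 (hhv w).1) hvw,
        bval g v (hv v) (hhv v).1 (hhv v).2, bval g w (hv w) (hhv w).1 (hhv w).2]
      exact cm_mul_left V hF.cen _ _ _ (hcV' _ (hhv w).1 _))
    (by
      intro e t v
      obtain ⟨g, rfl⟩ := QuotientGroup.mk_surjective t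
      apply Subtype.ext
      have h1 : ν (φ e (hv v)) = ((aV e v : ↥V) : G) := by
        rw [hνE e _ (hhv v).1, (hhv v).2]
      rw [aT_mk, bval (φ e g) (aV e v) (φ e (hv v)) (hHinv e _ (hhv v).1) h1]
      show cm (φ e (hv v)) (φ e g) = φ e ((b (QuotientGroup.mk g) v : ↥V) : G)
      rw [bval g v (hv v) (hhv v).1 (hhv v).2]
      unfold cm
      rw [map_mul, map_mul, map_mul, map_inv, map_inv])
    (by
      obtain ⟨h, hh, g, hg⟩ := hne
      refine ⟨QuotientGroup.mk g, ⟨ν h, hνV h hh⟩, ?_⟩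
      intro h1
      have h2 := congrArg Subtype.val h1
      rw [bval g ⟨ν h, hνV h hh⟩ h hh rfl] at h2
      exact hg ((cm_eq_one_iff h g).mp h2))
  intro h hh hνh g hg hcomm
  have h1 := hmain (QuotientGroup.mk g) ⟨ν h, hνV h hh⟩
    (fun h2 => hg ((QuotientGroup.eq_one_iff g).mp h2))
    (fun h2 => hνh (congrArg Subtype.val h2))
  apply h1
  apply Subtype.ext
  rw [bval g ⟨ν h, hνV h hh⟩ h hh rfl]
  exact (cm_eq_one_iff h g).mpr hcomm

end Cfsg.Agent.Lib.H1.S3776EG
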