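import Mathlib
import Cfsg.Agent.Lib.H25.S3797MLDefs
import Cfsg.Agent.Lib.H1.CoprimeAction
import Cfsg.Agent.Lib.H22.S3797Frame

/-!
# S3797, main lemma, piece (M0B) (helper1): `GCoreStmt → MLStmt`

`D := {x | x acts trivially on K/V}` is a normal subgroup of `G`.  If `S` is not inside `D`, the 2-group
`S D / D` has a central involution `z D`; `T := {s ∈ S | s² ∈ D, [s, S] ⊆ D}` is `E`-stable; GCORE gives
`e z e⁻¹ z⁻¹ ∈ S ⊓ D` for all `e ∈ E`; by coprime action there is `c ∈ C_S(E)` with `z⁻¹ c ∈ S ⊓ D`; but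
`C_S(E) = 1`, so `z ∈ D`, a contradiction.
-/

set_option autoImplicit false

namespace Cfsg.Agent.Lib.H1.S3797M0B

open Cfsg.Agent.Lib.H25.S3797ML

universe u

section
variable {G : Type u} [Group G]

/-- the subgroup of the elements acting trivially on `K/V` -/
def Dsub (V K : Subgroup G) (hV : V.Normal) : Subgroup G where
  carrier := {x | TrivOn V K x}
  one_mem' := by
    intro k _
    have e : (1 : G) * k * (1 : G)⁻¹ * k⁻¹ = 1 := by group
    rw [e]; exact V.one_mem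
  mul_mem' := by
    intro x y hx hy k hk
    have e : x * y * k * (x * y)⁻¹ * k⁻¹ = x * (y * k * y⁻¹ * k⁻¹) * x⁻¹ * (x * k * x⁻¹ * k⁻¹) := by
      group
    rw [e]
    exact V.mul_mem (hV.conj_mem _ (hy k hk) x) (hx k hk)
  inv_mem' := by
    intro x hx k hk
    have e : x⁻¹ * k * x⁻¹⁻¹ * k⁻¹ = x⁻¹ * (x * k * x⁻¹ * k⁻¹)⁻¹ * x⁻¹⁻¹ := by group
    rw [e]
    exact hV.conj_mem _ (V.inv_mem (hx k hk)) x⁻¹

theorem mem_Dsub {V K : Subgroup G} {hV : V.Normal} {x : G} : x ∈ Dsub V K hV ↔ TrivOn V K x :=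
  Iff.rfl

theorem Dsub_normal (V K : Subgroup G) (hV : V.Normal) (hK : K.Normal) : (Dsub V K hV).Normal := by
  constructor
  intro x hx g k hk
  have hk' : g⁻¹ * k * g⁻¹⁻¹ ∈ K := hK.conj_mem k hk g⁻¹
  have e : g * x * g⁻¹ * k * (g * x * g⁻¹)⁻¹ * k⁻¹ =
      g * (x * (g⁻¹ * k * g⁻¹⁻¹) * x⁻¹ * (g⁻¹ * k * g⁻¹⁻¹)⁻¹) * g⁻¹ := by group
  rw [e]
  exact hV.conj_mem _ (hx _ hk') g

theorem normalizer_inf_normal (S D : Subgroup G) (hD : D.Normal) :
    Subgroup.normalizer (S : Set G) ≤ Subgroup.normalizer ((S ⊓ D : Subgroup G) : Set G) := by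
  intro x hx
  rw [Subgroup.mem_normalizer_iff] at hx ⊢
  intro y
  rw [Subgroup.mem_inf, Subgroup.mem_inf]
  constructor
  · rintro ⟨h1, h2⟩
    exact ⟨(hx y).mp h1, hD.conj_mem y h2 x⟩
  · rintro ⟨h1, h2⟩
    refine ⟨(hx y).mpr h1, ?_⟩
    have := hD.conj_mem _ h2 x⁻¹
    have e : x⁻¹ * (x * y * x⁻¹) * x⁻¹⁻¹ = y := by group
    rwa [e] at this

end

theorem m0b : M0BStmt.{u} := by
  intro hcore G _ _ V K S E hVn hKn hVK hVmem hVcen hKsq hS2 hSV hEodd hES htrans hfixfree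
  intro s hs
  change TrivOn V K s
  by_contra hcon
  have : Fact (Nat.Prime 2) := ⟨Nat.prime_two⟩
  set D : Subgroup G := Dsub V K hVn with hDdef
  have hDn : D.Normal := Dsub_normal V K hVn hKn
  haveI := hDn
  -- the central involution of `S D / D`
  have hQ2 : IsPGroup 2 (S.map (QuotientGroup.mk' D)) := hS2.map _
  have hQne : S.map (QuotientGroup.mk' D) ≠ ⊥ := by
    intro h
    rw [Subgroup.map_eq_bot_iff, QuotientGroup.ker_mk'] at h
    exact hcon (h hs)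
  obtain ⟨v, hvQ, hv1, hv2, hvc⟩ :=
    Cfsg.Agent.Lib.H22.S3797Frame.exists_central_involution _ hQ2 hQne
  obtain ⟨z, hzS, rfl⟩ := hvQ
  have hzD : z ∉ D := fun h => hv1 ((QuotientGroup.eq_one_iff z).mpr h)
  have hz2 : z ^ 2 ∈ D := by
    rw [← QuotientGroup.eq_one_iff]
    exact hv2
  have hzc : ∀ t ∈ S, z * t * z⁻¹ * t⁻¹ ∈ D := by
    intro t ht
    rw [← QuotientGroup.eq_one_iff]
    have h1 := hvc (QuotientGroup.mk' D t) ⟨t, ht, rfl⟩
    have e : ((z * t * z⁻¹ * t⁻¹ : G) : G ⧸ D) =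
        QuotientGroup.mk' D z * QuotientGroup.mk' D t * (QuotientGroup.mk' D z)⁻¹ *
          (QuotientGroup.mk' D t)⁻¹ := rfl
    rw [e, ← h1]
    group
  -- the set `T`
  set T : Set G := {x | x ∈ S ∧ x ^ 2 ∈ D ∧ ∀ t ∈ S, x * t * x⁻¹ * t⁻¹ ∈ D} with hTdef
  have hE' : ∀ e ∈ E, ∀ t ∈ S, e⁻¹ * t * e ∈ S := by
    intro e he t ht
    have := hES e⁻¹ (E.inv_mem he) t ht
    rwa [inv_inv] at this
  have hTE : ∀ e ∈ E, ∀ t ∈ T, e * t * e⁻¹ ∈ T := by
    rintro e he t ⟨htS, ht2, htc⟩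
    refine ⟨hES e he t htS, ?_, ?_⟩
    · rw [conj_pow]
      exact hDn.conj_mem _ ht2 e
    · intro t' ht'
      have e2 : e * t * e⁻¹ * t' * (e * t * e⁻¹)⁻¹ * t'⁻¹ =
          e * (t * (e⁻¹ * t' * e) * t⁻¹ * (e⁻¹ * t' * e)⁻¹) * e⁻¹ := by group
      rw [e2]
      exact hDn.conj_mem _ (htc _ (hE' e he t' ht')) e
  have hT := hcore G V K E T hVn hKn hVK hVmem hVcen hKsq
    (fun t ht v hv => hSV t ht.1 v hv) hTE htrans
    (fun t ht => mem_Dsub.mp ht.2.1)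
    (fun t ht t' ht' => mem_Dsub.mp (ht.2.2 t' ht'.1))
  have hzT : z ∈ T := ⟨hzS, hz2, hzc⟩
  have hfix : ∀ e ∈ E, e * z * e⁻¹ * z⁻¹ ∈ S ⊓ D := by
    intro e he
    have hezD : ¬ TrivOn V K (e * z * e⁻¹) := by
      intro h
      apply hzD
      have h' : e * z * e⁻¹ ∈ D := mem_Dsub.mpr h
      have := hDn.conj_mem _ h' e⁻¹
      have e3 : e⁻¹ * (e * z * e⁻¹) * e⁻¹⁻¹ = z := by group
      rwa [e3] at this
    have h1 : z⁻¹ * (e * z * e⁻¹) ∈ D :=
      mem_Dsub.mpr (hT z hzT _ (hTE e he z hzT) (fun h => hzD (mem_Dsub.mpr h)) hezD)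
    refine ⟨S.mul_mem (hES e he z hzS) (S.inv_mem hzS), ?_⟩
    have := hDn.conj_mem _ h1 z
    have e4 : z * (z⁻¹ * (e * z * e⁻¹)) * z⁻¹ = e * z * e⁻¹ * z⁻¹ := by group
    rwa [e4] at this
  -- the coprime action of `E` on `S`
  have hEnorm : E ≤ Subgroup.normalizer (S : Set G) := by
    intro e he
    rw [Subgroup.mem_normalizer_iff]
    intro x
    constructor
    · exact hES e he x
    · intro hx
      have := hE' e he _ hx
      have e5 : e⁻¹ * (e * x * e⁻¹) * e = x := by group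
      rwa [e5] at this
  obtain ⟨n, hn⟩ := IsPGroup.iff_card.mp hS2
  have hcop : (Nat.card E).Coprime (Nat.card S) := by
    rw [hn]
    exact Nat.Coprime.pow_right n (Nat.coprime_two_right.mpr hEodd)
  have hSsolv : Group.IsSolvable S := by
    haveI : Group.IsNilpotent S := hS2.isNilpotent
    infer_instance
  have hCA : Cfsg.Agent.Lib.H1.CoprimeAction E S := ⟨hEnorm, hcop, Or.inr hSsolv⟩
  have hSN : S ≤ Subgroup.normalizer ((S ⊓ D : Subgroup G) : Set G) :=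
    Subgroup.le_normalizer.trans (normalizer_inf_normal S D hDn)
  have hEN : E ≤ Subgroup.normalizer ((S ⊓ D : Subgroup G) : Set G) :=
    hEnorm.trans (normalizer_inf_normal S D hDn)
  obtain ⟨c, ⟨hcS, hcC⟩, hzc'⟩ :=
    Cfsg.Agent.Lib.H1.coprime_centralizer_quotient hCA inf_le_left hSN hEN hzS hfix
  have hc1 : c = 1 := by
    apply hfixfree c hcS
    intro e he
    have := (Subgroup.mem_centralizer_iff.mp hcC) e he
    rw [this]
    group
  rw [hc1, mul_one] at hzc'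
  apply hzD
  have := D.inv_mem hzc'.2
  rwa [inv_inv] at this

example : M0BStmt.{0} := m0b

end Cfsg.Agent.Lib.H1.S3797M0B
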