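import Mathlib
import Cfsg.Agent.Lib.H9.S3776Defs
import Cfsg.Agent.Lib.H19.S3776MLAct

/-!
# S3776, piece (R1) (helper1): `G ⧸ J` has no proper `E`-invariant subgroup

`G1 ≠ ⊤`, `J ≤ G1`, `E`-invariant: by `SubIH` either `G1` is commutative, so it centralises `K` and lies in `J`;
or all squares of `G1` lie in `V`, `G1` is normal (it contains all commutators), the main lemma for an action
gives `[G1, G] ≤ V`, so `G1 ≤ K ≤ J`.
-/

set_option autoImplicit false

namespace Cfsg.Agent.Lib.H1.S3776R1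

open Cfsg.Agent.Lib.H9.S3776

universe u

theorem r1 : R1Stmt.{u} := by
  intro G E _ _ _ _ φ V K J hR hJ G1 hJG1 hInv
  by_cases htop : G1 = ⊤
  · exact Or.inr htop
  left
  have hVG1 : V ≤ G1 := (hR.kd.VK.trans hJ.KJ).trans hJG1
  have hle : G1 ≤ J := by
    rcases hR.sub G1 htop hInv hVG1 with hab | ⟨hsq, _, _⟩
    · intro x hx
      rw [hJ.mem]
      intro k hk
      exact hab x hx k (hJG1 (hJ.KJ hk))
    · have hG1n : G1.Normal := by
        constructor
        intro x hx g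
        have h1 : g * x * g⁻¹ * x⁻¹ ∈ G1 := hJG1 (hJ.quot g x)
        have e1 : g * x * g⁻¹ = (g * x * g⁻¹ * x⁻¹) * x := by group
        rw [e1]
        exact G1.mul_mem h1 hx
      have hml := Cfsg.Agent.Lib.H19.S3776MLAct.ml_act φ hR.hyp.odd hR.hyp.pG V G1 hR.fr.mem
        hR.fr.cen hVG1 hG1n hInv hsq hR.fr.trans hR.fr.fix
      intro x hx
      apply hJ.KJ
      rw [hR.kd.mem]
      refine ⟨hsq x hx, fun g => ?_⟩
      have h2 := V.inv_mem (hml g x hx)
      have e2 : (g * x * g⁻¹ * x⁻¹)⁻¹ = x * g * x⁻¹ * g⁻¹ := by group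
      rwa [e2] at h2
  exact le_antisymm hle hJG1

example : R1Stmt.{0} := r1

end Cfsg.Agent.Lib.H1.S3776R1
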