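import Mathlib

set_option autoImplicit false

/-! Piece (A) of the S3777 proof: `|G'| ≤ |G : C_G(u)| * |K'|` for `K` normal with `G = K<u>`. -/

namespace Cfsg.Agent.Lib.H1.S3777A

open Subgroup
open scoped commutatorElement

variable {G : Type*} [Group G]

/-- Generators commuting pairwise modulo a normal subgroup `H` give `commutator G ≤ H`. -/
theorem commutator_le_of_gens (H : Subgroup G) [H.Normal] (S : Set G) (hS : closure S = ⊤)
    (h : ∀ s ∈ S, ∀ t ∈ S, ⁅s, t⁆ ∈ H) : commutator G ≤ H := by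
  rw [_root_.commutator_def, Subgroup.commutator_le]
  intro g _ k _
  have hg : g ∈ closure S := hS ▸ mem_top g
  have hk : k ∈ closure S := hS ▸ mem_top k
  have key : Commute (g : G ⧸ H) (k : G ⧸ H) := by
    refine closure_induction₂ (k := S)
      (p := fun x y _ _ => Commute (x : G ⧸ H) (y : G ⧸ H)) ?_ ?_ ?_ ?_ ?_ ?_ ?_ hg hk
    · intro x y hx hy
      apply commutatorElement_eq_one_iff_commute.mp
      have : ((⁅x, y⁆ : G) : G ⧸ H) = 1 := (QuotientGroup.eq_one_iff _).mpr (h x hx y hy)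
      simpa [commutatorElement_def] using this
    · intro x _; exact Commute.one_left _
    · intro x _; exact Commute.one_right _
    · intro x y z _ _ _ h1 h2; exact Commute.mul_left h1 h2
    · intro y z x _ _ _ h1 h2; exact Commute.mul_right h1 h2
    · intro x y _ _ h1; exact Commute.inv_left h1
    · intro x y _ _ h1; exact Commute.inv_right h1
  have h1 : ((⁅g, k⁆ : G) : G ⧸ H) = 1 := by
    have := commutatorElement_eq_one_iff_commute.mpr key
    simpa [commutatorElement_def] using this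
  exact (QuotientGroup.eq_one_iff _).mp h1

theorem comm_mem_of_normal (K : Subgroup G) [hK : K.Normal] {k : G} (hk : k ∈ K) (u : G) :
    ⁅k, u⁆ ∈ K := by
  have : ⁅k, u⁆ = k * (u * k⁻¹ * u⁻¹) := by simp [commutatorElement_def, mul_assoc]
  rw [this]
  exact K.mul_mem hk (hK.conj_mem _ (K.inv_mem hk) u)

/-- The subgroup `{⁅k, u⁆ : k ∈ K}` for an abelian normal subgroup `K`. -/
def commSub (K : Subgroup G) [K.Normal] (hab : ∀ a ∈ K, ∀ b ∈ K, a * b = b * a) (u : G) :
    Subgroup G where
  carrier := {x | ∃ k ∈ K, x = ⁅k, u⁆}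
  one_mem' := ⟨1, K.one_mem, by simp⟩
  mul_mem' := by
    rintro x y ⟨k, hk, rfl⟩ ⟨k', hk', rfl⟩
    refine ⟨k' * k, K.mul_mem hk' hk, ?_⟩
    have hc : ⁅k, u⁆ ∈ K := comm_mem_of_normal K hk u
    have hcomm := hab _ hc k' hk'
    simp only [commutatorElement_def] at hcomm ⊢
    calc k * u * k⁻¹ * u⁻¹ * (k' * u * k'⁻¹ * u⁻¹)
        = (k * u * k⁻¹ * u⁻¹ * k') * (u * k'⁻¹ * u⁻¹) := by group
      _ = (k' * (k * u * k⁻¹ * u⁻¹)) * (u * k'⁻¹ * u⁻¹) := by rw [hcomm]
      _ = k' * k * u * (k' * k)⁻¹ * u⁻¹ := by group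
  inv_mem' := by
    rintro x ⟨k, hk, rfl⟩
    refine ⟨k⁻¹, K.inv_mem hk, ?_⟩
    have hc : u * k * u⁻¹ ∈ K := ‹K.Normal›.conj_mem _ hk u
    have hcomm := hab _ hc k⁻¹ (K.inv_mem hk)
    simp only [commutatorElement_def]
    calc (k * u * k⁻¹ * u⁻¹)⁻¹ = (u * k * u⁻¹) * k⁻¹ := by group
      _ = k⁻¹ * (u * k * u⁻¹) := hcomm
      _ = k⁻¹ * u * k⁻¹⁻¹ * u⁻¹ := by group

theorem mem_commSub {K : Subgroup G} [K.Normal] {hab : ∀ a ∈ K, ∀ b ∈ K, a * b = b * a} {u x : G} :
    x ∈ commSub K hab u ↔ ∃ k ∈ K, x = ⁅k, u⁆ := Iff.rfl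

theorem commSub_le (K : Subgroup G) [K.Normal] (hab : ∀ a ∈ K, ∀ b ∈ K, a * b = b * a) (u : G) :
    commSub K hab u ≤ K := by
  rintro x ⟨k, hk, rfl⟩
  exact comm_mem_of_normal K hk u

theorem commSub_normal (K : Subgroup G) [hK : K.Normal] (hab : ∀ a ∈ K, ∀ b ∈ K, a * b = b * a)
    (u : G) (hKu : K ⊔ zpowers u = ⊤) : (commSub K hab u).Normal := by
  rw [← normalizer_eq_top_iff, eq_top_iff, ← hKu, sup_le_iff]
  constructor
  · intro g hg
    rw [mem_normalizer_iff]
    intro h
    constructor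
    · intro hh
      have : g * h * g⁻¹ = h := by
        have := hab g hg h (commSub_le K hab u hh)
        rw [this]; group
      rwa [this]
    · intro hh
      have h1 : g * h * g⁻¹ ∈ K := commSub_le K hab u hh
      have h2 : g⁻¹ * (g * h * g⁻¹) = (g * h * g⁻¹) * g⁻¹ := hab _ (K.inv_mem hg) _ h1
      have : g * h * g⁻¹ = h := by
        have h3 : h * g⁻¹ = g * h * g⁻¹ * g⁻¹ := by rw [← h2]; group
        have h4 : h = g * h * g⁻¹ := by
          have := congrArg (· * g) h3
          simpa using this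
        exact h4.symm
      rwa [this] at hh
  · rw [zpowers_le, mem_normalizer_iff]
    intro h
    constructor
    · rintro ⟨k, hk, rfl⟩
      exact ⟨u * k * u⁻¹, hK.conj_mem _ hk u, by simp only [commutatorElement_def]; group⟩
    · rintro ⟨k, hk, hk2⟩
      refine ⟨u⁻¹ * k * u, by simpa using hK.conj_mem _ hk u⁻¹, ?_⟩
      have : h = u⁻¹ * (u * h * u⁻¹) * u := by group
      rw [this, hk2]
      simp only [commutatorElement_def]; group

/-- (A0): with an abelian normal `K` and `G = K<u>`, every element of `G'` is `⁅k, u⁆`. -/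
theorem exists_of_mem_commutator (K : Subgroup G) [K.Normal]
    (hab : ∀ a ∈ K, ∀ b ∈ K, a * b = b * a) (u : G) (hKu : K ⊔ zpowers u = ⊤) {x : G}
    (hx : x ∈ commutator G) : ∃ k ∈ K, x = ⁅k, u⁆ := by
  have := commSub_normal K hab u hKu
  have hle : commutator G ≤ commSub K hab u := by
    apply commutator_le_of_gens _ ((K : Set G) ∪ {u})
    · rw [Subgroup.closure_union, Subgroup.closure_eq, ← zpowers_eq_closure, hKu]
    · rintro s (hs | hs) t (ht | ht)
      · have : ⁅s, t⁆ = 1 := commutatorElement_eq_one_iff_commute.mpr (hab s hs t ht)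
        rw [this]; exact one_mem _
      · rw [Set.mem_singleton_iff] at ht; subst ht
        exact ⟨s, hs, rfl⟩
      · rw [Set.mem_singleton_iff] at hs; subst hs
        rw [← commutatorElement_inv]
        exact inv_mem ⟨t, ht, rfl⟩
      · rw [Set.mem_singleton_iff] at hs ht; subst hs; subst ht
        rw [commutatorElement_self]; exact one_mem _
  exact hle hx

/-- The set of commutators `⁅g, u⁆` has at most `|G : C_G(u)|` elements. -/
theorem card_commSet_le [Finite G] (u : G) :
    Nat.card {x : G // ∃ g : G, x = ⁅g, u⁆} ≤ (centralizer ({u} : Set G)).index := by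
  classical
  rw [Subgroup.index]
  refine Nat.card_le_card_of_injective
    (fun s => (QuotientGroup.mk (Classical.choose s.2) : G ⧸ centralizer ({u} : Set G))) ?_
  intro s s' h
  have hs := Classical.choose_spec s.2
  have hs' := Classical.choose_spec s'.2
  set g := Classical.choose s.2
  set g' := Classical.choose s'.2
  have h1 : g⁻¹ * g' ∈ centralizer ({u} : Set G) := QuotientGroup.eq.mp h
  rw [mem_centralizer_iff] at h1
  have h2 : u * (g⁻¹ * g') = g⁻¹ * g' * u := h1 u rfl
  apply Subtype.ext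
  rw [hs, hs']
  simp only [commutatorElement_def]
  have h3 : g * u * g⁻¹ = g' * u * g'⁻¹ := by
    have : g' * u * g'⁻¹ = g * (g⁻¹ * g' * u) * (g⁻¹ * g')⁻¹ * g⁻¹ := by group
    rw [this, ← h2]; group
  rw [h3]

/-- (A), subgroup form: `K` normal, `G = K<u>` gives `|G'| ≤ |G : C_G(u)| * |⁅K, K⁆|`. -/
theorem card_commutator_le [Finite G] (K : Subgroup G) [hK : K.Normal] (u : G)
    (hKu : K ⊔ zpowers u = ⊤) :
    Nat.card (commutator G) ≤
      (centralizer ({u} : Set G)).index * Nat.card (⁅K, K⁆ : Subgroup G) := by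
  classical
  set N : Subgroup G := ⁅K, K⁆ with hN
  have hNn : N.Normal := Subgroup.commutator_normal K K
  let π := QuotientGroup.mk' N
  have hπ : Function.Surjective π := QuotientGroup.mk'_surjective N
  let Kb : Subgroup (G ⧸ N) := K.map π
  have : Kb.Normal := hK.map π hπ
  have hab : ∀ a ∈ Kb, ∀ b ∈ Kb, a * b = b * a := by
    rintro a ⟨k, hk, rfl⟩ b ⟨k', hk', rfl⟩
    apply commutatorElement_eq_one_iff_mul_comm.mp
    rw [← map_commutatorElement]
    exact (QuotientGroup.eq_one_iff _).mpr (Subgroup.commutator_mem_commutator hk hk')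
  have hKbu : Kb ⊔ zpowers (π u) = ⊤ := by
    rw [← MonoidHom.map_zpowers, ← Subgroup.map_sup, hKu, ← MonoidHom.range_eq_map,
      MonoidHom.range_eq_top]
    exact hπ
  -- every element of `G'` is `n * ⁅k, u⁆`
  have key : ∀ x ∈ commutator G, ∃ c : G, (∃ g : G, c = ⁅g, u⁆) ∧ x * c⁻¹ ∈ N := by
    intro x hx
    have hx' : π x ∈ commutator (G ⧸ N) := by
      have h1 : π x ∈ (commutator G).map π := mem_map_of_mem π hx
      rw [_root_.commutator_def, Subgroup.map_commutator] at h1
      rw [_root_.commutator_def]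
      exact Subgroup.commutator_mono le_top le_top h1
    obtain ⟨kb, ⟨k, hk, rfl⟩, hkx⟩ := exists_of_mem_commutator Kb hab (π u) hKbu hx'
    refine ⟨⁅k, u⁆, ⟨k, rfl⟩, ?_⟩
    rw [← map_commutatorElement] at hkx
    have : π (x * ⁅k, u⁆⁻¹) = 1 := by rw [map_mul, map_inv, hkx, mul_inv_cancel]
    exact (QuotientGroup.eq_one_iff _).mp this
  let f : commutator G → N × {x : G // ∃ g : G, x = ⁅g, u⁆} := fun x =>
    (⟨x.1 * (Classical.choose (key x.1 x.2))⁻¹, (Classical.choose_spec (key x.1 x.2)).2⟩,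
      ⟨Classical.choose (key x.1 x.2), (Classical.choose_spec (key x.1 x.2)).1⟩)
  have hf : Function.Injective f := by
    intro x y hxy
    have h1 : x.1 * (Classical.choose (key x.1 x.2))⁻¹ = y.1 * (Classical.choose (key y.1 y.2))⁻¹ :=
      congrArg (fun t => (t.1 : G)) hxy
    have h2 : Classical.choose (key x.1 x.2) = Classical.choose (key y.1 y.2) :=
      congrArg (fun t => (t.2 : G)) hxy
    rw [h2] at h1
    exact Subtype.ext (mul_right_cancel h1)
  calc Nat.card (commutator G) ≤ Nat.card (N × {x : G // ∃ g : G, x = ⁅g, u⁆}) :=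
        Nat.card_le_card_of_injective f hf
    _ = Nat.card N * Nat.card {x : G // ∃ g : G, x = ⁅g, u⁆} := Nat.card_prod _ _
    _ ≤ Nat.card N * (centralizer ({u} : Set G)).index :=
        Nat.mul_le_mul_left _ (card_commSet_le u)
    _ = _ := Nat.mul_comm _ _

/-- (A), subtype form. -/
theorem card_commutator_le' [Finite G] (K : Subgroup G) [K.Normal] (u : G)
    (hKu : K ⊔ zpowers u = ⊤) :
    Nat.card (commutator G) ≤
      (centralizer ({u} : Set G)).index * Nat.card (commutator K) := by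
  have h := card_commutator_le K u hKu
  rw [← Subgroup.map_subtype_commutator K,
    Subgroup.card_map_of_injective K.subtype_injective] at h
  exact h

/-- `K` of prime index and `u ∉ K` give `K ⊔ zpowers u = ⊤`. -/
theorem sup_zpowers_eq_top_of_prime_index (K : Subgroup G) {p : ℕ} [hp : Fact p.Prime]
    (hidx : K.index = p) {u : G} (hu : u ∉ K) : K ⊔ zpowers u = ⊤ := by
  have h1 : K ≤ K ⊔ zpowers u := le_sup_left
  have h2 : (K ⊔ zpowers u).index ∣ K.index := Subgroup.index_dvd_of_le h1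
  rw [hidx] at h2
  rcases (Nat.dvd_prime hp.out).mp h2 with h3 | h3
  · exact Subgroup.index_eq_one.mp h3
  · exfalso
    have h4 : K.relIndex (K ⊔ zpowers u) * (K ⊔ zpowers u).index = K.index :=
      Subgroup.relIndex_mul_index h1
    rw [h3, hidx] at h4
    have h5 : K.relIndex (K ⊔ zpowers u) = 1 := by
      have hp0 : 0 < p := hp.out.pos
      exact Nat.eq_of_mul_eq_mul_right hp0 (by rw [h4, one_mul])
    have h6 : K ⊔ zpowers u ≤ K := Subgroup.relIndex_eq_one.mp h5
    exact hu (h6 (mem_sup_right (mem_zpowers u)))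

end Cfsg.Agent.Lib.H1.S3777A
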