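import Cfsg.Agent.Lib.H1.S3777A
import Cfsg.Agent.Lib.H25.S3777P2Defs

set_option autoImplicit false

/-! Piece (A) of the S3777 `P2` step in helper25's exact shape `AStmt`. -/

namespace Cfsg.Agent.Lib.H1.S3777A2

universe u

theorem a : Cfsg.Agent.Lib.H25.S3777P2.AStmt.{u} := by
  intro p _ G _ _ K hK hidx u hu
  have := hK
  exact Cfsg.Agent.Lib.H1.S3777A.card_commutator_le K u
    (Cfsg.Agent.Lib.H1.S3777A.sup_zpowers_eq_top_of_prime_index K hidx hu)

end Cfsg.Agent.Lib.H1.S3777A2
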