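import Cfsg.Agent.Lib.H25.S3777P2Defs

set_option autoImplicit false

/-! Piece (ALG) of the S3777 `P2` step in helper25's exact shape `AlgStmt`. -/

namespace Cfsg.Agent.Lib.H1.S3777Alg

open Subgroup
open scoped commutatorElement

universe u

variable {G : Type u} [Group G]

/-- Generators commuting pairwise modulo a normal subgroup `H` give `⁅closure S, closure S⁆ ≤ H`. -/
theorem commutator_closure_le (H : Subgroup G) [H.Normal] (S : Set G)
    (h : ∀ s ∈ S, ∀ t ∈ S, ⁅s, t⁆ ∈ H) : ⁅closure S, closure S⁆ ≤ H := by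
  rw [Subgroup.commutator_le]
  intro g hg k hk
  have key : Commute (g : G ⧸ H) (k : G ⧸ H) := by
    refine closure_induction₂ (k := S)
      (p := fun x y _ _ => Commute (x : G ⧸ H) (y : G ⧸ H)) ?_ ?_ ?_ ?_ ?_ ?_ ?_ hg hk
    · intro x y hx hy
      apply commutatorElement_eq_one_iff_commute.mp
      have : ((⁅x, y⁆ : G) : G ⧸ H) = 1 := (QuotientGroup.eq_one_iff _).mpr (h x hx y hy)
      simpa [commutatorElement_def] using this
    · intro x _; exact Commute.one_left _
    · intro x _; exact Commute.one_right _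
    · intro x y z _ _ _ h1 h2; exact Commute.mul_left h1 h2
    · intro y z x _ _ _ h1 h2; exact Commute.mul_right h1 h2
    · intro x y _ _ h1; exact Commute.inv_left h1
    · intro x y _ _ h1; exact Commute.inv_right h1
  have h1 : ((⁅g, k⁆ : G) : G ⧸ H) = 1 := by
    have := commutatorElement_eq_one_iff_commute.mpr key
    simpa [commutatorElement_def] using this
  exact (QuotientGroup.eq_one_iff _).mp h1

/-- the elements acting trivially on `M0` modulo the normal subgroup `N` form a subgroup -/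
theorem comm_mem_of_sup (M0 N K0 K1 : Subgroup G) [N.Normal]
    (h0 : ∀ a ∈ M0, ∀ g ∈ K0, ⁅a, g⁆ ∈ N) (h1 : ∀ a ∈ M0, ∀ g ∈ K1, ⁅a, g⁆ ∈ N)
    {g : G} (hg : g ∈ K0 ⊔ K1) : ∀ a ∈ M0, ⁅a, g⁆ ∈ N := by
  rw [← closure_eq K0, ← closure_eq K1, ← Subgroup.closure_union] at hg
  induction hg using closure_induction with
  | mem x hx =>
    intro a ha
    rcases hx with hx | hx
    · exact h0 a ha x hx
    · exact h1 a ha x hx
  | one => intro a _; rw [commutatorElement_one_right]; exact N.one_mem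
  | mul x y _ _ ihx ihy =>
    intro a ha
    rw [commutatorElement_mul_right_eq_mul_conj]
    have h2 : ⁅a, x⁆ * x * ⁅a, y⁆ * x⁻¹ = ⁅a, x⁆ * (x * ⁅a, y⁆ * x⁻¹) := by group
    rw [h2]
    exact N.mul_mem (ihx a ha) (‹N.Normal›.conj_mem _ (ihy a ha) x)
  | inv x _ ihx =>
    intro a ha
    rw [commutatorElement_inv_right, ← commutatorElement_inv]
    have := ‹N.Normal›.conj_mem _ (N.inv_mem (ihx a ha)) x⁻¹
    simpa using this

theorem alg : Cfsg.Agent.Lib.H25.S3777P2.AlgStmt.{u} := by
  intro G _ K0 K1 M0 M hM0 hsup hM0K0 hM0K1 hK0 hK1 m hM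
  have hN : (⁅M0, M0⁆ : Subgroup G).Normal := Subgroup.commutator_normal M0 M0
  have hall : ∀ g : G, ∀ a ∈ M0, ⁅a, g⁆ ∈ (⁅M0, M0⁆ : Subgroup G) := by
    intro g
    have hg : g ∈ K0 ⊔ K1 := hsup ▸ mem_top g
    refine comm_mem_of_sup M0 ⁅M0, M0⁆ K0 K1 ?_ ?_ hg
    · intro a ha k hk
      exact hK0 (Subgroup.commutator_mem_commutator (hM0K0 ha) hk)
    · intro a ha k hk
      exact hK1 (Subgroup.commutator_mem_commutator (hM0K1 ha) hk)
  have hMcl : M = closure ((M0 : Set G) ∪ {m}) := by
    rw [hM, Subgroup.closure_union, Subgroup.closure_eq, ← zpowers_eq_closure]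
  rw [hMcl]
  apply commutator_closure_le
  rintro s (hs | hs) t (ht | ht)
  · exact Subgroup.commutator_mem_commutator hs ht
  · rw [Set.mem_singleton_iff] at ht; subst ht
    exact hall t s hs
  · rw [Set.mem_singleton_iff] at hs; subst hs
    rw [← commutatorElement_inv]
    exact inv_mem (hall s t ht)
  · rw [Set.mem_singleton_iff] at hs ht; subst hs; subst ht
    rw [commutatorElement_self]; exact one_mem _

end Cfsg.Agent.Lib.H1.S3777Alg
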