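import Mathlib
import Cfsg.Agent.Lib.H5.S3797MLDefs
import Cfsg.Agent.Lib.H25.S3797MLDefs

/-!
# S3797, main lemma, piece (M0A) (helper1): `AMLStmt → GCoreStmt`, the quotient bridge

`U := Additive (↥K ⧸ V.subgroupOf K)`, `V' := Additive ↥V`, `κ (kV) = k²`, `β` the polar form of `κ`
(equal to the commutator `a⁻¹ b a b⁻¹` on representatives), `φ g` the automorphism of `K/V` induced by
conjugation with `g`, `W := {φ t | t ∈ T}`, `I := ↥E`.
-/

set_option autoImplicit false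

namespace Cfsg.Agent.Lib.H1.S3797M0A

universe u

section G
variable {G : Type u} [Group G] {V K : Subgroup G}

/-- the standing hypotheses on `V ≤ K` -/
structure KV (V K : Subgroup G) : Prop where
  Vmem : ∀ x : G, x ∈ V ↔ x ^ 2 = 1
  Vcen : ∀ v ∈ V, ∀ k ∈ K, k * v = v * k
  Ksq : ∀ k ∈ K, k ^ 2 ∈ V
  VK : V ≤ K

namespace KV
variable (h : KV V K)
include h

theorem sq_coset {a v : G} (ha : a ∈ K) (hv : v ∈ V) : (a * v) ^ 2 = a ^ 2 := by
  have hc : Commute a v := h.Vcen v hv a ha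
  rw [hc.mul_pow, (h.Vmem v).mp hv, mul_one]

theorem gam_mem {a b : G} (ha : a ∈ K) (hb : b ∈ K) : a⁻¹ * b * a * b⁻¹ ∈ V := by
  have e : a⁻¹ * b * a * b⁻¹ = (a ^ 2)⁻¹ * (a * b) ^ 2 * (b ^ 2)⁻¹ := by
    simp only [sq]
    group
  rw [e]
  exact V.mul_mem (V.mul_mem (V.inv_mem (h.Ksq a ha)) (h.Ksq _ (K.mul_mem ha hb)))
    (V.inv_mem (h.Ksq b hb))

theorem pow_four {a : G} (ha : a ∈ K) : a ^ 2 * a ^ 2 = 1 := by
  have h1 := (h.Vmem (a ^ 2)).mp (h.Ksq a ha)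
  rw [sq (a ^ 2)] at h1
  exact h1

theorem sq_mul {a b : G} (ha : a ∈ K) (hb : b ∈ K) :
    (a * b) ^ 2 * a ^ 2 * b ^ 2 = a⁻¹ * b * a * b⁻¹ := by
  have hg := h.gam_mem ha hb
  have ha2 := h.Ksq a ha
  have hb2 := h.Ksq b hb
  have e1 : (a * b) ^ 2 * a ^ 2 * b ^ 2 =
      a ^ 2 * (a⁻¹ * b * a * b⁻¹) * (b ^ 2 * a ^ 2) * b ^ 2 := by
    simp only [sq]
    group
  have c1 : a ^ 2 * (a⁻¹ * b * a * b⁻¹) = (a⁻¹ * b * a * b⁻¹) * a ^ 2 :=
    h.Vcen _ hg _ (h.VK ha2)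
  have c2 : b ^ 2 * a ^ 2 = a ^ 2 * b ^ 2 := h.Vcen _ ha2 _ (h.VK hb2)
  rw [e1, c1, c2]
  calc a⁻¹ * b * a * b⁻¹ * a ^ 2 * (a ^ 2 * b ^ 2) * b ^ 2
      = a⁻¹ * b * a * b⁻¹ * (a ^ 2 * a ^ 2) * (b ^ 2 * b ^ 2) := by
        simp only [sq]
        group
    _ = a⁻¹ * b * a * b⁻¹ := by rw [h.pow_four ha, h.pow_four hb, mul_one, mul_one]

theorem gam_mul {a c b : G} (ha : a ∈ K) (hc : c ∈ K) (hb : b ∈ K) :
    (a * c)⁻¹ * b * (a * c) * b⁻¹ = (a⁻¹ * b * a * b⁻¹) * (c⁻¹ * b * c * b⁻¹) := by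
  have hg := h.gam_mem ha hb
  have c1 : c * (a⁻¹ * b * a * b⁻¹) = (a⁻¹ * b * a * b⁻¹) * c := h.Vcen _ hg c hc
  have e1 : (a * c)⁻¹ * b * (a * c) * b⁻¹ =
      c⁻¹ * ((a⁻¹ * b * a * b⁻¹) * c) * (c⁻¹ * b * c * b⁻¹) := by group
  rw [e1, ← c1]
  group

end KV

variable [hVn : V.Normal] [hKn : K.Normal]

/-- the quotient `K/V` -/
abbrev Qt (V K : Subgroup G) [V.Normal] : Type u := ↥K ⧸ V.subgroupOf K

theorem Qt_sq (h : KV V K) (q : Qt V K) : q * q = 1 := by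
  obtain ⟨k, rfl⟩ := QuotientGroup.mk_surjective q
  rw [← QuotientGroup.mk_mul, QuotientGroup.eq_one_iff, Subgroup.mem_subgroupOf, Subgroup.coe_mul,
    ← sq]
  exact h.Ksq _ k.2

theorem Qt_comm (h : KV V K) (p q : Qt V K) : p * q = q * p := by
  have ip : p⁻¹ = p := inv_eq_of_mul_eq_one_left (Qt_sq h p)
  have iq : q⁻¹ = q := inv_eq_of_mul_eq_one_left (Qt_sq h q)
  have ipq : (p * q)⁻¹ = p * q := inv_eq_of_mul_eq_one_left (Qt_sq h (p * q))
  rw [← ipq, mul_inv_rev, ip, iq]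

theorem V_sq (h : KV V K) (v : ↥V) : v * v = 1 := by
  apply Subtype.ext
  rw [Subgroup.coe_mul, ← sq]
  exact (h.Vmem v.1).mp v.2

theorem V_comm (h : KV V K) (v w : ↥V) : v * w = w * v := by
  apply Subtype.ext
  rw [Subgroup.coe_mul, Subgroup.coe_mul]
  exact h.Vcen w.1 w.2 v.1 (h.VK v.2)

/-- the squaring map `K/V → V` -/
def kapQ (h : KV V K) : Qt V K → ↥V := fun q =>
  Quotient.liftOn' q (fun k : ↥K => (⟨(k : G) ^ 2, h.Ksq k.1 k.2⟩ : ↥V)) (by
    intro a b hab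
    rw [QuotientGroup.leftRel_apply, Subgroup.mem_subgroupOf] at hab
    apply Subtype.ext
    show (a : G) ^ 2 = (b : G) ^ 2
    have hab' : (a : G)⁻¹ * (b : G) ∈ V := by simpa using hab
    have e : (b : G) = (a : G) * ((a : G)⁻¹ * (b : G)) := by group
    rw [e, h.sq_coset a.2 hab'])

@[simp] theorem kapQ_mk (h : KV V K) (k : ↥K) :
    ((kapQ h (QuotientGroup.mk k) : ↥V) : G) = (k : G) ^ 2 := rfl

theorem kap_add_left (h : KV V K) (x y z : Qt V K) :
    kapQ h (x * y * z) * kapQ h (x * y) * kapQ h z =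
      (kapQ h (x * z) * kapQ h x * kapQ h z) * (kapQ h (y * z) * kapQ h y * kapQ h z) := by
  obtain ⟨a, rfl⟩ := QuotientGroup.mk_surjective x
  obtain ⟨c, rfl⟩ := QuotientGroup.mk_surjective y
  obtain ⟨b, rfl⟩ := QuotientGroup.mk_surjective z
  apply Subtype.ext
  simp only [← QuotientGroup.mk_mul, Subgroup.coe_mul, kapQ_mk]
  rw [h.sq_mul (K.mul_mem a.2 c.2) b.2, h.sq_mul a.2 b.2, h.sq_mul c.2 b.2]
  exact h.gam_mul a.2 c.2 b.2

theorem kap_anis (h : KV V K) (x : Qt V K) (hx : kapQ h x = 1) : x = 1 := by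
  obtain ⟨k, rfl⟩ := QuotientGroup.mk_surjective x
  rw [QuotientGroup.eq_one_iff, Subgroup.mem_subgroupOf, h.Vmem]
  have := congrArg (fun v : ↥V => (v : G)) hx
  simpa using this

/-- the automorphism of `K/V` induced by conjugation with `g` -/
def phi (V K : Subgroup G) [hVn : V.Normal] [hKn : K.Normal] (g : G) : Qt V K →* Qt V K :=
  QuotientGroup.map _ _ (MulAut.conjNormal g : MulAut ↥K).toMonoidHom (by
    intro k hk
    rw [Subgroup.mem_subgroupOf] at hk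
    rw [Subgroup.mem_comap, Subgroup.mem_subgroupOf]
    show ((MulAut.conjNormal g k : ↥K) : G) ∈ V
    rw [MulAut.conjNormal_apply]
    exact hVn.conj_mem _ hk g)

theorem phi_mk (g : G) (k : ↥K) :
    phi V K g (QuotientGroup.mk k) = QuotientGroup.mk (MulAut.conjNormal g k) := rfl

theorem phi_mul (g g' : G) (q : Qt V K) : phi V K (g * g') q = phi V K g (phi V K g' q) := by
  obtain ⟨k, rfl⟩ := QuotientGroup.mk_surjective q
  rw [phi_mk, phi_mk, phi_mk, map_mul, MulAut.mul_apply]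

theorem phi_one (q : Qt V K) : phi V K 1 q = q := by
  obtain ⟨k, rfl⟩ := QuotientGroup.mk_surjective q
  rw [phi_mk, map_one, MulAut.one_apply]

theorem trivOn_iff (x : G) :
    Cfsg.Agent.Lib.H25.S3797ML.TrivOn V K x ↔ ∀ q : Qt V K, phi V K x q = q := by
  constructor
  · intro hx q
    obtain ⟨k, rfl⟩ := QuotientGroup.mk_surjective q
    rw [phi_mk, QuotientGroup.eq, Subgroup.mem_subgroupOf]
    have h1 := hx (k⁻¹ : ↥K).1 (k⁻¹ : ↥K).2
    have e : (((MulAut.conjNormal x k)⁻¹ * k : ↥K) : G) =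
        x * ((k⁻¹ : ↥K) : G) * x⁻¹ * (((k⁻¹ : ↥K) : G))⁻¹ := by
      simp only [Subgroup.coe_mul, Subgroup.coe_inv, MulAut.conjNormal_apply]
      group
    rw [e]
    exact h1
  · intro hx k hk
    have h1 := hx (QuotientGroup.mk ((⟨k, hk⟩ : ↥K)⁻¹))
    rw [phi_mk, QuotientGroup.eq, Subgroup.mem_subgroupOf] at h1
    have e : (((MulAut.conjNormal x ((⟨k, hk⟩ : ↥K)⁻¹))⁻¹ * ((⟨k, hk⟩ : ↥K)⁻¹) : ↥K) : G) =
        x * k * x⁻¹ * k⁻¹ := by
      simp only [Subgroup.coe_mul, Subgroup.coe_inv, MulAut.conjNormal_apply]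
      group
    rwa [e] at h1

theorem kap_phi (h : KV V K) (s : G) (hs : ∀ v ∈ V, s * v = v * s) (x : Qt V K) :
    kapQ h (phi V K s x) = kapQ h x := by
  obtain ⟨k, rfl⟩ := QuotientGroup.mk_surjective x
  apply Subtype.ext
  rw [phi_mk, kapQ_mk, kapQ_mk, MulAut.conjNormal_apply, conj_pow, hs _ (h.Ksq k.1 k.2)]
  group

theorem kap_equiv (h : KV V K) (e : G) (x : Qt V K) :
    kapQ h (phi V K e x) = MulAut.conjNormal e (kapQ h x) := by
  obtain ⟨k, rfl⟩ := QuotientGroup.mk_surjective x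
  apply Subtype.ext
  rw [phi_mk, kapQ_mk, MulAut.conjNormal_apply, MulAut.conjNormal_apply, conj_pow, kapQ_mk]

theorem phi_invol (s : G) (hs : Cfsg.Agent.Lib.H25.S3797ML.TrivOn V K (s ^ 2)) (q : Qt V K) :
    phi V K s (phi V K s q) = q := by
  rw [← phi_mul]
  rw [sq] at hs
  exact (trivOn_iff (s * s)).mp hs q

theorem phi_comm (s s' : G)
    (hs : Cfsg.Agent.Lib.H25.S3797ML.TrivOn V K (s * s' * s⁻¹ * s'⁻¹)) (q : Qt V K) :
    phi V K s (phi V K s' q) = phi V K s' (phi V K s q) := by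
  rw [← phi_mul, ← phi_mul]
  have e : s * s' = (s * s' * s⁻¹ * s'⁻¹) * (s' * s) := by group
  rw [e, phi_mul]
  exact (trivOn_iff _).mp hs _

theorem phi_inj (e : G) : Function.Injective (phi V K e) := by
  apply Function.LeftInverse.injective (g := fun x => phi V K e⁻¹ x)
  intro x
  show phi V K e⁻¹ (phi V K e x) = x
  rw [← phi_mul, inv_mul_cancel, phi_one]

theorem phi_winv (e s : G) (q : Qt V K) :
    phi V K e (phi V K s q) = phi V K (e * s * e⁻¹) (phi V K e q) := by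
  rw [← phi_mul, ← phi_mul]
  have e1 : e * s * e⁻¹ * e = e * s := by group
  rw [e1]

theorem phi_ne (s : G) (hs : ¬ Cfsg.Agent.Lib.H25.S3797ML.TrivOn V K s) :
    ∃ q : Qt V K, phi V K s q ≠ q := by
  by_contra hcon
  push_neg at hcon
  exact hs ((trivOn_iff s).mpr hcon)

theorem phi_final (t t' : G) (hq : ∀ q : Qt V K, phi V K t q = phi V K t' q) :
    Cfsg.Agent.Lib.H25.S3797ML.TrivOn V K (t⁻¹ * t') := by
  rw [trivOn_iff]
  intro q
  rw [phi_mul, ← hq q, ← phi_mul, inv_mul_cancel, phi_one]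

end G

theorem polar_aux {A : Type u} [AddCommGroup A] (h2 : ∀ a : A, a + a = 0) (p x y : A) :
    p = x + y + (p + x + y) := by
  have e : x + y + (p + x + y) = p + (x + x) + (y + y) := by abel
  rw [e, h2 x, h2 y, add_zero, add_zero]

open Cfsg.Agent.Lib.H25.S3797ML in
theorem m0a : Cfsg.Agent.Lib.H5.S3797ML.AMLStmt.{u} → GCoreStmt.{u} := by
  intro haml G _ _ V K E T hVn hKn hVK hVmem hVcen hKsq hTV hET htrans hTsq hTcomm t ht t' ht'
    hnt hnt'
  haveI := hVn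
  haveI := hKn
  have h : KV V K := ⟨hVmem, hVcen, hKsq, hVK⟩
  letI instQ : CommGroup (Qt V K) :=
    { (inferInstance : Group (Qt V K)) with mul_comm := Qt_comm h }
  letI instV : CommGroup ↥V := { (inferInstance : Group ↥V) with mul_comm := V_comm h }
  let κ : Additive (Qt V K) → Additive ↥V := kapQ h
  let β : Additive (Qt V K) → Additive (Qt V K) → Additive ↥V := fun x y => κ (x + y) + κ x + κ y
  let W : Set (Additive (Qt V K) → Additive (Qt V K)) :=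
    {f | ∃ s ∈ T, f = fun x => phi V K s x}
  let a : ↥E → Additive (Qt V K) → Additive (Qt V K) := fun e x => phi V K e.1 x
  let b : ↥E → Additive ↥V → Additive ↥V := fun e v => MulAut.conjNormal (H := V) e.1 v
  have hV2 : ∀ v : Additive ↥V, v + v = 0 := fun v => V_sq h v
  have hquad : Cfsg.Agent.Lib.H5.S3797ML.Quad κ β := by
    refine ⟨fun x => Qt_sq h x, hV2, fun x y => polar_aux hV2 _ _ _, fun x y z => kap_add_left h x y z,
      fun x hx => kap_anis h x hx⟩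
  have hinvs : Cfsg.Agent.Lib.H5.S3797ML.Invs κ W := by
    refine ⟨?_, ?_, ?_, ?_⟩
    · rintro g ⟨s, hs, rfl⟩ x y
      exact map_mul (phi V K s) (Additive.toMul x) (Additive.toMul y)
    · rintro g ⟨s, hs, rfl⟩ x
      exact phi_invol s (hTsq s hs) x
    · rintro g ⟨s, hs, rfl⟩ x
      exact kap_phi h s (hTV s hs) x
    · rintro g ⟨s, hs, rfl⟩ g' ⟨s', hs', rfl⟩ x
      exact phi_comm s s' (hTcomm s hs s' hs') x
  have hact : Cfsg.Agent.Lib.H5.S3797ML.Act κ W a b := by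
    refine ⟨?_, ?_, ?_, ?_, ?_, ?_⟩
    · intro e x y
      exact map_mul (phi V K e.1) (Additive.toMul x) (Additive.toMul y)
    · intro e
      exact phi_inj e.1
    · intro e v w
      exact map_mul (MulAut.conjNormal (H := V) e.1) (Additive.toMul v) (Additive.toMul w)
    · intro e x
      exact kap_equiv h e.1 x
    · intro v w hv hw
      obtain ⟨e, he, hew⟩ := htrans v.1 w.1 v.2 w.2 (fun h1 => hv (Subtype.ext h1))
        (fun h1 => hw (Subtype.ext h1))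
      refine ⟨⟨e, he⟩, ?_⟩
      apply Subtype.ext
      show ((MulAut.conjNormal (H := V) e (Additive.toMul v) : ↥V) : G) = w.1
      rw [MulAut.conjNormal_apply]
      exact hew
    · rintro e g ⟨s, hs, rfl⟩
      refine ⟨fun x => phi V K (e.1 * s * (e.1)⁻¹) x, ⟨_, hET e.1 e.2 s hs, rfl⟩, ?_⟩
      intro x
      exact phi_winv e.1 s x
  have hmain := haml (Additive (Qt V K)) (Additive ↥V) κ β W ↥E a b hquad hinvs hact
    (fun x => phi V K t x) ⟨t, ht, rfl⟩ (fun x => phi V K t' x) ⟨t', ht', rfl⟩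
    (phi_ne t hnt) (phi_ne t' hnt')
  exact phi_final t t' hmain

example : Cfsg.Agent.Lib.H5.S3797ML.AMLStmt.{0} → Cfsg.Agent.Lib.H25.S3797ML.GCoreStmt.{0} := m0a

end Cfsg.Agent.Lib.H1.S3797M0A
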