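import Mathlib
import Cfsg.Agent.Lib.H5.S3797MLDefs

/-!
# S3797, main lemma, piece (M4) of helper5's sub-cut (helper1)

Two non-identity elements `g`, `h` of `W` coincide.  Proof: `Θ_g x := x + g x` satisfies
`β (Θ_g x) x = κ (Θ_g x)`; `Fix g = M = ker Θ_g`; by counting `Θ_g` maps `U` onto `M`; the identity and the
kernel hypothesis then determine `Θ_g` independently of `g`.
-/

set_option autoImplicit false

namespace Cfsg.Agent.Lib.H1.S3797M4

open Cfsg.Agent.Lib.H5.S3797ML

universe u

section
variable {U V : Type u} [AddCommGroup U] [AddCommGroup V] {κ : U → V} {β : U → U → V}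

theorem negU (q : Quad κ β) (x : U) : -x = x := neg_eq_of_add_eq_zero_left (q.two_U x)

theorem beta_zero_left (q : Quad κ β) (z : U) : β 0 z = 0 := by
  have h := q.add_left 0 0 z
  rw [add_zero] at h
  simpa using h

theorem kap_zero (q : Quad κ β) : κ 0 = 0 := by
  have h := q.polar 0 0
  rw [add_zero, beta_zero_left q, add_zero] at h
  simpa using h

theorem beta_symm (q : Quad κ β) (x y : U) : β x y = β y x := by
  have h1 := q.polar x y
  have h2 := q.polar y x
  rw [add_comm y x, h1] at h2
  have h3 : κ x + κ y + β x y = κ x + κ y + β y x := by rw [h2]; abel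
  exact add_left_cancel h3

theorem beta_self (q : Quad κ β) (x : U) : β x x = 0 := by
  have h := q.polar x x
  rw [q.two_U x, kap_zero q, q.two_V (κ x), zero_add] at h
  exact h.symm

theorem beta_add_right (q : Quad κ β) (x y z : U) : β x (y + z) = β x y + β x z := by
  rw [beta_symm q x (y + z), q.add_left, beta_symm q y x, beta_symm q z x]

theorem beta_pres (q : Quad κ β) (g : U → U) (ga : ∀ x y : U, g (x + y) = g x + g y)
    (gp : ∀ x : U, κ (g x) = κ x) (x y : U) : β (g x) (g y) = β x y := by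
  have h1 := q.polar (g x) (g y)
  rw [← ga, gp (x + y), gp x, gp y, q.polar x y] at h1
  exact (add_left_cancel h1).symm

theorem ident (q : Quad κ β) (g : U → U) (gp : ∀ x : U, κ (g x) = κ x) (x : U) :
    β (x + g x) x = κ (x + g x) := by
  rw [q.polar x (g x), gp x, q.two_V (κ x), zero_add, q.add_left x (g x) x, beta_self q x, zero_add,
    beta_symm q (g x) x]

theorem eq_of_add_zero (q : Quad κ β) {x y : U} (h : x + y = 0) : y = x := by
  have := eq_neg_of_add_eq_zero_right h
  rw [this, negU q]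

/-- the additive map `x ↦ x + g x` -/
def Th (g : U → U) (ga : ∀ x y : U, g (x + y) = g x + g y) : U →+ U :=
  AddMonoidHom.mk' (fun x => x + g x) (by intro x y; rw [ga]; abel)

theorem Th_apply (g : U → U) (ga : ∀ x y : U, g (x + y) = g x + g y) (x : U) : Th g ga x = x + g x := rfl

theorem fix_mem (q : Quad κ β) (M : AddSubgroup U) (g : U → U)
    (ga : ∀ x y : U, g (x + y) = g x + g y) (gp : ∀ x : U, κ (g x) = κ x)
    (hM : ∀ x : U, x + g x ∈ M)
    (hker : ∀ c ∈ M, c ≠ 0 → ∀ x : U, β c x = 0 → x ∈ M)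
    (hne : ∃ y : U, g y ≠ y) (x : U) (hx : g x = x) : x ∈ M := by
  obtain ⟨y, hy⟩ := hne
  have hm0 : y + g y ≠ 0 := fun h0 => hy (eq_of_add_zero q h0)
  apply hker (y + g y) (hM y) hm0
  have e : β (g y) x = β y x := by
    have := beta_pres q g ga gp y x
    rwa [hx] at this
  rw [q.add_left, e, q.two_V]

theorem surj [Finite U] (q : Quad κ β) (M : AddSubgroup U) (g : U → U)
    (ga : ∀ x y : U, g (x + y) = g x + g y) (gp : ∀ x : U, κ (g x) = κ x)
    (hM : ∀ x : U, x + g x ∈ M) (hfix : ∀ m ∈ M, g m = m)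
    (hker : ∀ c ∈ M, c ≠ 0 → ∀ x : U, β c x = 0 → x ∈ M)
    (hcard : Nat.card U = Nat.card M * Nat.card M)
    (hne : ∃ y : U, g y ≠ y) : ∀ m ∈ M, ∃ x : U, x + g x = m := by
  have hkerEq : (Th g ga).ker = M := by
    ext x
    rw [AddMonoidHom.mem_ker, Th_apply]
    constructor
    · intro h0
      exact fix_mem q M g ga gp hM hker hne x (eq_of_add_zero q h0)
    · intro hx
      rw [hfix x hx]; exact q.two_U x
  have hrange : (Th g ga).range ≤ M := by
    rintro _ ⟨x, rfl⟩
    exact hM x
  have hc : Nat.card U = Nat.card (Th g ga).range * Nat.card (Th g ga).ker := by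
    rw [AddSubgroup.card_eq_card_quotient_mul_card_addSubgroup (Th g ga).ker]
    congr 1
    exact Nat.card_congr (QuotientAddGroup.quotientKerEquivRange (Th g ga)).toEquiv
  rw [hkerEq] at hc
  have hMpos : 0 < Nat.card M := Nat.card_pos
  have hcr : Nat.card (Th g ga).range = Nat.card M :=
    Nat.eq_of_mul_eq_mul_right hMpos (hc.symm.trans hcard)
  have hEq : (Th g ga).range = M := AddSubgroup.eq_of_le_of_card_ge hrange hcr.ge
  intro m hm
  rw [← hEq] at hm
  obtain ⟨x, hx⟩ := hm
  exact ⟨x, hx⟩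

end

theorem m4 : M4Stmt.{u} := by
  intro U V _ _ _ _ κ β W I a b q inv _act hfix _hiso hU hMc _hsurj hker g hg h hh hgne hhne x
  have hcard : Nat.card U = Nat.card (Mof W) * Nat.card (Mof W) := by rw [hU, hMc, sq]
  have hMg : ∀ y : U, y + g y ∈ Mof W := fun y => AddSubgroup.subset_closure ⟨g, hg, y, rfl⟩
  have hMh : ∀ y : U, y + h y ∈ Mof W := fun y => AddSubgroup.subset_closure ⟨h, hh, y, rfl⟩
  have ga := inv.add g hg
  have gp := inv.pres g hg
  have ha := inv.add h hh
  have hp := inv.pres h hh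
  by_cases hm : x + g x = 0
  · have hgx : g x = x := eq_of_add_zero q hm
    have hxM := fix_mem q (Mof W) g ga gp hMg hker hgne x hgx
    rw [hgx, hfix x hxM h hh]
  · obtain ⟨x', hx'⟩ := surj q (Mof W) h ha hp hMh (fun m hm => hfix m hm h hh) hker hcard hhne
      (x + g x) (hMg x)
    have e1 : β (x + g x) x = κ (x + g x) := ident q g gp x
    have e2 : β (x + g x) x' = κ (x + g x) := by rw [← hx']; exact ident q h hp x'
    have e3 : β (x + g x) (x + x') = 0 := by rw [beta_add_right q, e1, e2, q.two_V]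
    have hxx : x + x' ∈ Mof W := hker (x + g x) (hMg x) hm (x + x') e3
    have e4 : h (x + x') = x + x' := hfix _ hxx h hh
    rw [ha] at e4
    have s1 : g x = x' + h x' - x := by rw [hx']; abel
    have s2 : h x = x + x' - h x' := by rw [← e4]; abel
    rw [s1, s2, sub_eq_add_neg, sub_eq_add_neg, negU q, negU q]; abel

example : M4Stmt.{0} := m4

end Cfsg.Agent.Lib.H1.S3797M4
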