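import Cfsg.Agent.Lib.H8.S3814MPDefs
import Cfsg.Agent.Lib.H6.FrobActG
import Cfsg.Agent.Lib.H24.S3814F2E

/-!
# S3814, block (MP), piece (K3d) (helper1)

`A = ⟨a,b⟩ = C_r × C_r` normalised by `T = ⟨c,d⟩ = C_s × C_s`; an element `t₁ ∈ T` that does not
centralise `A` gives a contradiction.  Route without norms: `L := [A, t₁]` is a `T`-invariant
subgroup of `A` on which `t₁` is fixed-point-free; `L = A` or `L = ⟨x⟩` of order `r`; in both cases
`L` acts nontrivially on `V` and on `W` ((NCF), resp. (K2)); the Frobenius-action lemma T1 then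
makes `t₁` both `V`- and `W`-coloured, against (h1).
-/

set_option autoImplicit false

namespace Cfsg.Agent.Lib.H1.S3814MPK3d

open Cfsg.Agent.H7.S3814Defs Cfsg.Agent.Lib.H8.S3814MP

universe u

section generic

variable {G : Type u} [Group G]

theorem closure_comm {x y : G} (hc : x * y = y * x) :
    ∀ g ∈ Subgroup.closure ({x, y} : Set G), ∀ h ∈ Subgroup.closure ({x, y} : Set G),
      g * h = h * g := by
  have hcomm : ∀ u ∈ ({x, y} : Set G), ∀ v ∈ ({x, y} : Set G), u * v = v * u := by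
    intro u hu v hv
    rcases hu with rfl | rfl <;> rcases hv with rfl | rfl
    · rfl
    · exact hc
    · exact hc.symm
    · rfl
  have hinst : IsMulCommutative (Subgroup.closure ({x, y} : Set G)) :=
    Subgroup.isMulCommutative_closure hcomm
  intro g hg h hh
  have := hinst.is_comm.comm (⟨g, hg⟩ : Subgroup.closure ({x, y} : Set G)) ⟨h, hh⟩
  exact congrArg Subtype.val this

theorem closure_exp {x y : G} {t : ℕ} (hx : x ^ t = 1) (hy : y ^ t = 1) (hc : x * y = y * x) :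
    ∀ g ∈ Subgroup.closure ({x, y} : Set G), g ^ t = 1 := by
  have hT := closure_comm hc
  intro g hg
  induction hg using Subgroup.closure_induction with
  | mem z hz =>
    rcases hz with rfl | rfl
    · exact hx
    · exact hy
  | one => exact one_pow t
  | mul u v hu hv ihu ihv =>
    have huv : Commute u v := hT u hu v hv
    rw [huv.mul_pow, ihu, ihv, one_mul]
  | inv u hu ihu => rw [inv_pow, ihu, inv_one]

theorem conj_closure_mem {a b g : G} (ha : g * a * g⁻¹ ∈ Subgroup.closure ({a, b} : Set G))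
    (hb : g * b * g⁻¹ ∈ Subgroup.closure ({a, b} : Set G)) :
    ∀ e ∈ Subgroup.closure ({a, b} : Set G), g * e * g⁻¹ ∈ Subgroup.closure ({a, b} : Set G) := by
  intro e he
  induction he using Subgroup.closure_induction with
  | mem z hz =>
    rcases hz with rfl | rfl
    · exact ha
    · exact hb
  | one => simp
  | mul u v _ _ ihu ihv =>
    have : g * (u * v) * g⁻¹ = (g * u * g⁻¹) * (g * v * g⁻¹) := by group
    rw [this]; exact Subgroup.mul_mem _ ihu ihv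
  | inv u _ ihu =>
    have : g * u⁻¹ * g⁻¹ = (g * u * g⁻¹)⁻¹ := by group
    rw [this]; exact Subgroup.inv_mem _ ihu

theorem mem_nrm_of_pow {A : Subgroup G} {g : G} {n : ℕ} (hn : 0 < n) (hg : g ^ n = 1)
    (hA : ∀ e ∈ A, g * e * g⁻¹ ∈ A) : g ∈ Cfsg.Agent.Lib.H6.FrobActG.nrm A := by
  intro e he
  refine ⟨hA e he, ?_⟩
  have hinv : g⁻¹ = g ^ (n - 1) := by
    apply inv_eq_of_mul_eq_one_right
    rw [← pow_succ', Nat.sub_add_cancel hn, hg]
  have := Cfsg.Agent.Lib.H6.FrobActG.pow_conj_mem A g hA (n - 1) e he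
  rw [← hinv, inv_inv] at this
  exact this

/-- the commutator subgroup `[A, t]` for `t` normalising the commutative `A` -/
def commSub (A : Subgroup G) (t : G) (hA : ∀ e ∈ A, ∀ f ∈ A, e * f = f * e)
    (hn : ∀ e ∈ A, t * e * t⁻¹ ∈ A) : Subgroup G where
  carrier := {k | ∃ e ∈ A, k = t * e * t⁻¹ * e⁻¹}
  one_mem' := ⟨1, A.one_mem, by simp⟩
  mul_mem' := by
    rintro _ _ ⟨e, he, rfl⟩ ⟨f, hf, rfl⟩
    refine ⟨e * f, A.mul_mem he hf, ?_⟩
    have hf' := hn f hf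
    have h1 : e⁻¹ * (t * f * t⁻¹) = (t * f * t⁻¹) * e⁻¹ := hA _ (A.inv_mem he) _ hf'
    have h2 : e⁻¹ * f⁻¹ = f⁻¹ * e⁻¹ := hA _ (A.inv_mem he) _ (A.inv_mem hf)
    calc t * e * t⁻¹ * e⁻¹ * (t * f * t⁻¹ * f⁻¹)
        = t * e * t⁻¹ * (e⁻¹ * (t * f * t⁻¹)) * f⁻¹ := by group
      _ = t * e * t⁻¹ * ((t * f * t⁻¹) * e⁻¹) * f⁻¹ := by rw [h1]
      _ = t * (e * f) * t⁻¹ * (e⁻¹ * f⁻¹) := by group
      _ = t * (e * f) * t⁻¹ * (e * f)⁻¹ := by rw [h2, mul_inv_rev]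
  inv_mem' := by
    rintro _ ⟨e, he, rfl⟩
    refine ⟨e⁻¹, A.inv_mem he, ?_⟩
    have he' := hn e he
    have h1 : e * (t * e * t⁻¹)⁻¹ = (t * e * t⁻¹)⁻¹ * e := hA _ he _ (A.inv_mem he')
    calc (t * e * t⁻¹ * e⁻¹)⁻¹ = e * (t * e * t⁻¹)⁻¹ := by group
      _ = (t * e * t⁻¹)⁻¹ * e := h1
      _ = t * e⁻¹ * t⁻¹ * e⁻¹⁻¹ := by group

end generic

/-- the core: `t₁` is `V`-coloured (stated for one orientation; apply to `h.swapVW` for `W`). -/
theorem col_t1 (ncf : NcfProp.{u}) (k2 : K2Prop.{u}) {G : Type u} [Group G] [Finite G]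
    {r s : ℕ} {V W X : Subgroup G} (h : Hyp r s V W X) {a b c d : G}
    (ctx : K3Ctx r s X a b c d) (t₁ : G) (ht₁ : t₁ ∈ Subgroup.closure ({c, d} : Set G))
    (hnc : ¬ ∀ e ∈ Subgroup.closure ({a, b} : Set G), t₁ * e = e * t₁) : Col t₁ V := by
  classical
  obtain ⟨hao, hbo, hab, hba⟩ := ctx.pab
  obtain ⟨hco, hdo, hcd, hdc⟩ := ctx.pcd
  have hr := h.hr
  have hs := h.hs
  haveI : Fact r.Prime := ⟨hr⟩
  haveI : Fact s.Prime := ⟨hs⟩
  set A : Subgroup G := Subgroup.closure ({a, b} : Set G) with hAdef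
  set T : Subgroup G := Subgroup.closure ({c, d} : Set G) with hTdef
  have haA : a ∈ A := Subgroup.subset_closure (by simp)
  have hbA : b ∈ A := Subgroup.subset_closure (by simp)
  have hcT : c ∈ T := Subgroup.subset_closure (by simp)
  have hdT : d ∈ T := Subgroup.subset_closure (by simp)
  have har : a ^ r = 1 := by rw [← hao]; exact pow_orderOf_eq_one a
  have hbr : b ^ r = 1 := by rw [← hbo]; exact pow_orderOf_eq_one b
  have hcs : c ^ s = 1 := by rw [← hco]; exact pow_orderOf_eq_one c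
  have hds : d ^ s = 1 := by rw [← hdo]; exact pow_orderOf_eq_one d
  have hAc : ∀ e ∈ A, ∀ f ∈ A, e * f = f * e := closure_comm hab
  have hTc : ∀ e ∈ T, ∀ f ∈ T, e * f = f * e := closure_comm hcd
  have hAexp : ∀ e ∈ A, e ^ r = 1 := closure_exp har hbr hab
  have hTexp : ∀ e ∈ T, e ^ s = 1 := closure_exp hcs hds hcd
  have hAX : A ≤ X := (Subgroup.closure_le X).2 (by
    rintro z (rfl | rfl)
    · exact ctx.ha
    · exact ctx.hb)
  have hTX : T ≤ X := (Subgroup.closure_le X).2 (by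
    rintro z (rfl | rfl)
    · exact ctx.hc
    · exact ctx.hd)
  -- `T` normalises `A`
  have hcA : ∀ e ∈ A, c * e * c⁻¹ ∈ A := conj_closure_mem ctx.nca ctx.ncb
  have hdA : ∀ e ∈ A, d * e * d⁻¹ ∈ A := conj_closure_mem ctx.nda ctx.ndb
  have hTA : ∀ y ∈ T, ∀ e ∈ A, y * e * y⁻¹ ∈ A := by
    have hcN : c ∈ Cfsg.Agent.Lib.H6.FrobActG.nrm A := mem_nrm_of_pow hs.pos hcs hcA
    have hdN : d ∈ Cfsg.Agent.Lib.H6.FrobActG.nrm A := mem_nrm_of_pow hs.pos hds hdA
    have hle : T ≤ Cfsg.Agent.Lib.H6.FrobActG.nrm A := (Subgroup.closure_le _).2 (by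
      rintro z (rfl | rfl)
      · exact hcN
      · exact hdN)
    intro y hy e he
    exact (hle hy e he).1
  have ht₁X : t₁ ∈ X := hTX ht₁
  have ht₁A : ∀ e ∈ A, t₁ * e * t₁⁻¹ ∈ A := hTA t₁ ht₁
  push_neg at hnc
  obtain ⟨e0, he0, hne0⟩ := hnc
  have ht₁1 : t₁ ≠ 1 := by
    rintro rfl
    exact hne0 (by simp)
  have ht₁o : orderOf t₁ = s := orderOf_eq_prime (hTexp t₁ ht₁) ht₁1
  set L : Subgroup G := commSub A t₁ hAc ht₁A with hLdef
  have hLA : L ≤ A := by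
    rintro _ ⟨e, he, rfl⟩
    exact A.mul_mem (ht₁A e he) (A.inv_mem he)
  set x : G := t₁ * e0 * t₁⁻¹ * e0⁻¹ with hxdef
  have hxL : x ∈ L := ⟨e0, he0, rfl⟩
  have hx1 : x ≠ 1 := by
    intro hx
    apply hne0
    have h2 : t₁ * e0 * t₁⁻¹ = e0 := mul_inv_eq_one.mp hx
    calc t₁ * e0 = t₁ * e0 * t₁⁻¹ * t₁ := by group
      _ = e0 * t₁ := by rw [h2]
  -- `L` is `T`-invariant
  have hLT : ∀ y ∈ T, ∀ k ∈ L, y * k * y⁻¹ ∈ L := by
    rintro y hy _ ⟨e, he, rfl⟩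
    refine ⟨y * e * y⁻¹, hTA y hy e he, ?_⟩
    have hyt : y * t₁ = t₁ * y := hTc y hy t₁ ht₁
    have hyt' : y * t₁⁻¹ = t₁⁻¹ * y := (Commute.inv_right (show Commute y t₁ from hyt)).eq
    calc y * (t₁ * e * t₁⁻¹ * e⁻¹) * y⁻¹ = (y * t₁) * e * t₁⁻¹ * e⁻¹ * y⁻¹ := by group
      _ = (t₁ * y) * e * t₁⁻¹ * e⁻¹ * y⁻¹ := by rw [hyt]
      _ = t₁ * (y * e * y⁻¹) * (y * t₁⁻¹) * e⁻¹ * y⁻¹ := by group
      _ = t₁ * (y * e * y⁻¹) * (t₁⁻¹ * y) * e⁻¹ * y⁻¹ := by rw [hyt']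
      _ = t₁ * (y * e * y⁻¹) * t₁⁻¹ * (y * e * y⁻¹)⁻¹ := by group
  -- `t₁` is fixed-point-free on `L`
  have hcoprs : Nat.Coprime r s := (Nat.coprime_primes hr hs).2 h.hrs
  have hfpf : ∀ k ∈ L, t₁ * k * t₁⁻¹ = k → k = 1 := by
    intro k hkL hfix
    obtain ⟨e, he, hk⟩ := hkL
    have hke : t₁ * e * t₁⁻¹ = k * e := by rw [hk]; group
    have hpow : ∀ n : ℕ, t₁ ^ n * e * (t₁ ^ n)⁻¹ = k ^ n * e := by
      intro n
      induction n with
      | zero => simp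
      | succ n ih =>
        have hkn : t₁ * k ^ n * t₁⁻¹ = k ^ n := by
          have h3 : t₁ * k ^ n * t₁⁻¹ = (t₁ * k * t₁⁻¹) ^ n := (conj_pow).symm
          rw [h3, hfix]
        calc t₁ ^ (n + 1) * e * (t₁ ^ (n + 1))⁻¹
            = t₁ * (t₁ ^ n * e * (t₁ ^ n)⁻¹) * t₁⁻¹ := by rw [pow_succ']; group
          _ = t₁ * (k ^ n * e) * t₁⁻¹ := by rw [ih]
          _ = (t₁ * k ^ n * t₁⁻¹) * (t₁ * e * t₁⁻¹) := by group
          _ = k ^ n * (k * e) := by rw [hkn, hke]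
          _ = k ^ (n + 1) * e := by rw [pow_succ]; group
    have hs1 := hpow s
    rw [hTexp t₁ ht₁] at hs1
    have hks : k ^ s = 1 := by
      have h4 : k ^ s * e = 1 * e := by
        rw [one_mul, ← hs1]; simp
      exact mul_right_cancel h4
    have hkr : k ^ r = 1 := hAexp k (hLA ⟨e, he, hk⟩)
    have h1 : orderOf k ∣ s := orderOf_dvd_of_pow_eq_one hks
    have h2 : orderOf k ∣ r := orderOf_dvd_of_pow_eq_one hkr
    have h5 := Nat.dvd_gcd h2 h1
    rw [hcoprs.gcd_eq_one] at h5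
    exact orderOf_eq_one_iff.mp (Nat.dvd_one.mp h5)
  -- `|A| = r ^ 2`
  have hcardA : Nat.card A = r ^ 2 := by
    obtain ⟨E, -, hEcard, -, hbE, haE, hEel⟩ :=
      Cfsg.Agent.Lib.H24.S3814F2E.exists_subgroup hr b a hbo hao
        (show Commute b a from hab.symm) hba
    have hAE : A ≤ E := (Subgroup.closure_le E).2 (by
      rintro z (rfl | rfl)
      · exact haE
      · exact hbE)
    have hEA : E ≤ A := by
      intro e he
      obtain ⟨i, j, rfl⟩ := hEel e he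
      exact A.mul_mem (A.pow_mem hbA i) (A.pow_mem haA j)
    rw [le_antisymm hAE hEA, hEcard]
  -- `L = A` or `L = ⟨x⟩`
  have hLdich : L = A ∨ ∀ k ∈ L, k ∈ Subgroup.zpowers x := by
    have hdvd : Nat.card L ∣ r ^ 2 := by rw [← hcardA]; exact Subgroup.card_dvd_of_le hLA
    obtain ⟨m, hm, hcardL⟩ := (Nat.dvd_prime_pow hr).1 hdvd
    interval_cases m
    · exfalso
      have hbot : L = ⊥ := Subgroup.card_eq_one.mp (by simpa using hcardL)
      rw [hbot] at hxL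
      exact hx1 (Subgroup.mem_bot.mp hxL)
    · right
      intro k hk
      have hcard' : Nat.card L = r := by simpa using hcardL
      have hmem := mem_zpowers_of_prime_card (G := L) hcard' (g := ⟨x, hxL⟩) (g' := ⟨k, hk⟩)
        (by intro h0; exact hx1 (congrArg Subtype.val h0))
      obtain ⟨n, hn⟩ := Subgroup.mem_zpowers_iff.mp hmem
      exact Subgroup.mem_zpowers_iff.mpr ⟨n, by simpa using congrArg Subtype.val hn⟩
    · left
      exact Subgroup.eq_of_le_of_card_ge hLA (by rw [hcardA, hcardL])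
  -- `L` acts nontrivially on `V`
  have hnt : ∃ k ∈ L, ∃ v ∈ V, k * v * k⁻¹ ≠ v := by
    by_contra hcon
    push_neg at hcon
    obtain ⟨v, hvV, hv1⟩ : ∃ v ∈ V, v ≠ 1 := by
      by_contra hno
      push_neg at hno
      exact h.neV ((Subgroup.eq_bot_iff_forall V).2 hno)
    have hcomm : ∀ k ∈ L, k * v = v * k := fun k hk => by
      have h6 := hcon k hk v hvV
      calc k * v = k * v * k⁻¹ * k := by group
        _ = v * k := by rw [h6]
    rcases hLdich with hLA' | hcyc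
    · have ha' : a * v = v * a := hcomm a (hLA'.ge haA)
      have hb' : b * v = v * b := hcomm b (hLA'.ge hbA)
      exact hv1 (ncf h hr ctx.ha ctx.hb ctx.pab v hvV ha' hb')
    · have hxo : orderOf x = r := orderOf_eq_prime (hAexp x (hLA hxL)) hx1
      have hcol : Col x V := ⟨v, hvV, hv1, hcomm x hxL⟩
      exact k2 h (hAX (hLA hxL)) hxo hcol ctx.hc ctx.hd ctx.pcd
        (hcyc _ (hLT c hcT x hxL)) (hcyc _ (hLT d hdT x hxL))
  -- T1
  have hXV : ∀ g ∈ X, ∀ v ∈ V, g * v * g⁻¹ ∈ V := by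
    intro g hg v hv
    exact ((Subgroup.mem_normalizer_iff).1 (h.normV hg) v).1 hv
  have hcop : ∀ v ∈ V, v ^ Nat.card L = 1 → v = 1 := by
    intro v hv hvL
    have h1 : orderOf v ∣ Nat.card L := orderOf_dvd_of_pow_eq_one hvL
    have h2 : orderOf v ∣ Nat.card V := by
      have h7 := orderOf_dvd_natCard (⟨v, hv⟩ : V)
      rwa [Subgroup.orderOf_mk] at h7
    have h3 : Nat.card L ∣ Nat.card X := Subgroup.card_dvd_of_le (hLA.trans hAX)
    have h8 := Nat.dvd_gcd h2 (h1.trans h3)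
    rw [h.copV.gcd_eq_one] at h8
    exact orderOf_eq_one_iff.mp (Nat.dvd_one.mp h8)
  obtain ⟨v, hv, hv1, hfix⟩ := Cfsg.Agent.Lib.H6.FrobActG.t1_group_fix L V t₁ hs ht₁o
    (hLT t₁ ht₁) (hXV t₁ ht₁X) (fun k hk => hXV k (hAX (hLA hk))) h.commV hfpf hcop hnt
  refine ⟨v, hv, hv1, ?_⟩
  calc t₁ * v = t₁ * v * t₁⁻¹ * t₁ := by group
    _ = v * t₁ := by rw [hfix]

/-- PIECE (K3d) of the (MP) block. -/
theorem k3d : K3dStmt.{u} := by
  intro _ ncf k2 G _ _ r s V W X h a b c d ctx y₀ _ _ _ t₁ ht₁ hnc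
  have hV : Col t₁ V := col_t1 ncf k2 h ctx t₁ ht₁ hnc
  have hW : Col t₁ W := col_t1 ncf k2 h.swapVW ctx t₁ ht₁ hnc
  have ht1 : t₁ ≠ 1 := by
    rintro rfl
    exact hnc (fun e _ => by simp)
  have hTX : t₁ ∈ X := (Subgroup.closure_le X).2 (by
    rintro z (rfl | rfl)
    · exact ctx.hc
    · exact ctx.hd) ht₁
  exact h.h1 t₁ hTX ht1 hV hW

example : K3dStmt.{0} := k3d

end Cfsg.Agent.Lib.H1.S3814MPK3d
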