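import Cfsg.Agent.Lib.H27.S3814C1Defs
import Cfsg.Agent.Lib.H6.FrobActG
import Cfsg.Agent.Lib.H1.S3814MPK3d

/-!
# S3814, Case 1, piece (A13) (helper1)

`e₁` centralises every `e₁`-invariant abelian `t`-subgroup `L` of `X`: `N := [L, e₁]` is
`e₁`-invariant with `C_N(e₁) = 1`; T1 on `M` (where `e₁` is fixed-point-free) makes `N` centralise
`M`; a nontrivial `N` then contains an element of order `t` of `A0`, which generates `⟨u0⟩`
(A3c); but `e₁` centralises `u0`.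
-/

set_option autoImplicit false

namespace Cfsg.Agent.Lib.H1.S3814C1A13

open Cfsg.Agent.H7.S3814Defs Cfsg.Agent.H27.S3814C1 Cfsg.Agent.Lib.H1.S3814MPK3d

universe u

section generic

variable {G : Type u} [Group G]

theorem commSub_le {A : Subgroup G} {g : G} (hA : ∀ e ∈ A, ∀ f ∈ A, e * f = f * e)
    (hn : ∀ e ∈ A, g * e * g⁻¹ ∈ A) : commSub A g hA hn ≤ A := by
  rintro _ ⟨e, he, rfl⟩
  exact A.mul_mem (hn e he) (A.inv_mem he)

theorem commSub_fpf {A : Subgroup G} {g : G} (hA : ∀ e ∈ A, ∀ f ∈ A, e * f = f * e)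
    (hn : ∀ e ∈ A, g * e * g⁻¹ ∈ A) {s : ℕ} (hgs : g ^ s = 1)
    (hcop : ∀ e ∈ A, e ^ s = 1 → e = 1) :
    ∀ k ∈ commSub A g hA hn, g * k * g⁻¹ = k → k = 1 := by
  intro k hkL hfix
  have hkA : k ∈ A := commSub_le hA hn hkL
  obtain ⟨e, he, hk⟩ := hkL
  have hke : g * e * g⁻¹ = k * e := by rw [hk]; group
  have hpow : ∀ n : ℕ, g ^ n * e * (g ^ n)⁻¹ = k ^ n * e := by
    intro n
    induction n with
    | zero => simp
    | succ n ih =>
      have hkn : g * k ^ n * g⁻¹ = k ^ n := by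
        have h3 : g * k ^ n * g⁻¹ = (g * k * g⁻¹) ^ n := (conj_pow).symm
        rw [h3, hfix]
      calc g ^ (n + 1) * e * (g ^ (n + 1))⁻¹
          = g * (g ^ n * e * (g ^ n)⁻¹) * g⁻¹ := by rw [pow_succ']; group
        _ = g * (k ^ n * e) * g⁻¹ := by rw [ih]
        _ = (g * k ^ n * g⁻¹) * (g * e * g⁻¹) := by group
        _ = k ^ n * (k * e) := by rw [hkn, hke]
        _ = k ^ (n + 1) * e := by rw [pow_succ]; group
  have hs1 := hpow s
  rw [hgs] at hs1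
  have hks : k ^ s = 1 := by
    have h4 : k ^ s * e = 1 * e := by
      rw [one_mul, ← hs1]; simp
    exact mul_right_cancel h4
  exact hcop k hkA hks

theorem commSub_conj {A : Subgroup G} {g : G} (hA : ∀ e ∈ A, ∀ f ∈ A, e * f = f * e)
    (hn : ∀ e ∈ A, g * e * g⁻¹ ∈ A) {y : G} (hyt : y * g = g * y)
    (hyA : ∀ e ∈ A, y * e * y⁻¹ ∈ A) :
    ∀ k ∈ commSub A g hA hn, y * k * y⁻¹ ∈ commSub A g hA hn := by
  rintro _ ⟨e, he, rfl⟩
  refine ⟨y * e * y⁻¹, hyA e he, ?_⟩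
  have hyt' : y * g⁻¹ = g⁻¹ * y := (Commute.inv_right (show Commute y g from hyt)).eq
  calc y * (g * e * g⁻¹ * e⁻¹) * y⁻¹ = (y * g) * e * g⁻¹ * e⁻¹ * y⁻¹ := by group
    _ = (g * y) * e * g⁻¹ * e⁻¹ * y⁻¹ := by rw [hyt]
    _ = g * (y * e * y⁻¹) * (y * g⁻¹) * e⁻¹ * y⁻¹ := by group
    _ = g * (y * e * y⁻¹) * (g⁻¹ * y) * e⁻¹ * y⁻¹ := by rw [hyt']
    _ = g * (y * e * y⁻¹) * g⁻¹ * (y * e * y⁻¹)⁻¹ := by group

theorem exists_pow_orderOf_eq_prime {x : G} {t : ℕ} (ht : t.Prime) {k : ℕ}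
    (hx : x ^ (t ^ k) = 1) (hx1 : x ≠ 1) : ∃ n : ℕ, orderOf (x ^ n) = t := by
  have hdvd : orderOf x ∣ t ^ k := orderOf_dvd_of_pow_eq_one hx
  obtain ⟨j, _, hoj⟩ := (Nat.dvd_prime_pow ht).1 hdvd
  have hj0 : j ≠ 0 := by
    rintro rfl
    rw [pow_zero] at hoj
    exact hx1 (orderOf_eq_one_iff.mp hoj)
  obtain ⟨i, rfl⟩ := Nat.exists_eq_succ_of_ne_zero hj0
  refine ⟨t ^ i, ?_⟩
  rw [orderOf_pow_of_dvd (pow_ne_zero i ht.ne_zero)
    (by rw [hoj]; exact pow_dvd_pow t (Nat.le_succ i)), hoj, pow_succ]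
  exact Nat.mul_div_cancel_left t (pow_pos ht.pos i)

end generic

/-- PIECE (A13) of Case 1. -/
theorem a13 : A13Stmt.{u} := by
  intro G _ σ p V K c M X t t' u0 e₁ h hE L hLX hLt hLc hLe a haL
  by_contra hne
  have hfin : Finite G := h.c1.c0.cex.fin
  obtain ⟨he1X, oe1, ce1, hfpfM⟩ := hE
  have ht : t.Prime := h.c1.c0.cex.prime t h.c1.oth.ht
  have ht' : t'.Prime := h.c1.c0.cex.prime t' h.c1.oth.ht'
  have hc : c.Prime := h.c1.c0.hc
  haveI : Fact t.Prime := ⟨ht⟩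
  have he1t' : e₁ ^ t' = 1 := by rw [← oe1]; exact pow_orderOf_eq_one e₁
  have hcoptt' : Nat.Coprime t' t := (Nat.coprime_primes ht' ht).2 h.c1.oth.tt'.symm
  -- elements of `L` killed by `t'` are trivial
  have hLcop : ∀ e ∈ L, e ^ t' = 1 → e = 1 := by
    intro e he het'
    obtain ⟨k, hk⟩ := hLt ⟨e, he⟩
    have hk' : e ^ (t ^ k) = 1 := by
      have := congrArg Subtype.val hk
      simpa using this
    have h1 : orderOf e ∣ t' := orderOf_dvd_of_pow_eq_one het'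
    have h2 : orderOf e ∣ t ^ k := orderOf_dvd_of_pow_eq_one hk'
    have h3 := Nat.dvd_gcd h1 h2
    rw [(Nat.Coprime.pow_right k hcoptt').gcd_eq_one] at h3
    exact orderOf_eq_one_iff.mp (Nat.dvd_one.mp h3)
  set N : Subgroup G := commSub L e₁ hLc hLe with hNdef
  have hNL : N ≤ L := commSub_le hLc hLe
  have hfpfN : ∀ k ∈ N, e₁ * k * e₁⁻¹ = k → k = 1 := commSub_fpf hLc hLe he1t' hLcop
  have hNinv : ∀ k ∈ N, e₁ * k * e₁⁻¹ ∈ N := commSub_conj hLc hLe rfl hLe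
  set x : G := e₁ * a * e₁⁻¹ * a⁻¹ with hxdef
  have hxN : x ∈ N := ⟨a, haL, rfl⟩
  have hx1 : x ≠ 1 := by
    intro hx
    apply hne
    have h2 : e₁ * a * e₁⁻¹ = a := mul_inv_eq_one.mp hx
    calc e₁ * a = e₁ * a * e₁⁻¹ * e₁ := by group
      _ = a * e₁ := by rw [h2]
  -- `X` normalises `M`
  have hXM : ∀ g ∈ X, ∀ v ∈ M, g * v * g⁻¹ ∈ M := fun g hg v hv =>
    ((Subgroup.mem_normalizer_iff).1 (h.c1.c0.hMn (h.c1.compl.le hg)) v).1 hv
  have hcop : ∀ v ∈ M, v ^ Nat.card N = 1 → v = 1 := by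
    intro v hv hvN
    have hNt : IsPGroup t N := hLt.to_le hNL
    obtain ⟨k, hk⟩ := IsPGroup.iff_card.mp hNt
    have h1 : orderOf v ∣ t ^ k := by rw [← hk]; exact orderOf_dvd_of_pow_eq_one hvN
    have h2 : orderOf v ∣ c := orderOf_dvd_of_pow_eq_one (h.c1.c0.hMe.2 v hv)
    have hcop' : Nat.Coprime c (t ^ k) :=
      Nat.Coprime.pow_right k ((Nat.coprime_primes hc ht).2 h.c1.oth.tc.symm)
    have h3 := Nat.dvd_gcd h2 h1
    rw [hcop'.gcd_eq_one] at h3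
    exact orderOf_eq_one_iff.mp (Nat.dvd_one.mp h3)
  have hcent := Cfsg.Agent.Lib.H6.FrobActG.t1_group N M e₁ ht' oe1 hNinv (hXM e₁ he1X)
    (fun k hk => hXM k (hLX (hNL hk))) h.c1.c0.hMe.1 hfpfN hcop
    (fun v hv hfix => hfpfM v hv (by
      calc e₁ * v = e₁ * v * e₁⁻¹ * e₁ := by group
        _ = v * e₁ := by rw [hfix]))
  have hCentN : ∀ k ∈ N, Cent k M := fun k hk v hv => by
    have h5 := hcent k hk v hv
    calc k * v = k * v * k⁻¹ * k := by group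
      _ = v * k := by rw [h5]
  -- an element of order `t` in `N`
  obtain ⟨kx, hkx⟩ := hLt ⟨x, hNL hxN⟩
  have hkx' : x ^ (t ^ kx) = 1 := by
    have := congrArg Subtype.val hkx
    simpa using this
  obtain ⟨n, hn⟩ := exists_pow_orderOf_eq_prime ht hkx' hx1
  have hyN : x ^ n ∈ N := N.pow_mem hxN n
  have hu0z : u0 ∈ Subgroup.zpowers (x ^ n) :=
    h.a0uniq (x ^ n) (hLX (hNL hyN)) u0 h.hu0 (hCentN _ hyN) h.cu0 (by rw [hn]; exact ht)
      (by rw [h.ou0, hn])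
  have hu0N : u0 ∈ N := (Subgroup.zpowers_le.2 hyN) hu0z
  have hu01 : u0 = 1 := hfpfN u0 hu0N (by rw [ce1]; group)
  have := h.ou0
  rw [hu01, orderOf_one] at this
  exact ht.one_lt.ne this

example : A13Stmt.{0} := a13

end Cfsg.Agent.Lib.H1.S3814C1A13
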