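import Cfsg.Agent.Lib.H10.S4415Defs

/-!
# S4415, FRONT piece F5: `R⟨b⟩` is faithful and irreducible on `W` (helper1)

In the frame of helper10's cut (`LinCtx` / `QData`), with hypotheses-as-inputs:
`faithful_of` and `irred_of` deliver the fields `faithful` and `irred` of `LinCtx`.
-/

set_option autoImplicit false

namespace Cfsg.Agent.Lib.H1.S4415F5

open Cfsg.Agent.Lib.H10.S4415

variable {S E : Type*} [Group S] [AddCommGroup E] [Module (ZMod 3) E]
variable {ρ : Representation (ZMod 3) S E} {R : Subgroup S} {b : S} {W C : Submodule (ZMod 3) E}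
variable {x₁ x₂ x₃ : S} {e₁ e₂ e₃ : E}

theorem R_le_RB (R : Subgroup S) (b : S) : R ≤ RB R b := le_sup_left

theorem b_mem_RB (R : Subgroup S) (b : S) : b ∈ RB R b :=
  (le_sup_right : Subgroup.zpowers b ≤ RB R b) (Subgroup.mem_zpowers b)

/-- `b` normalises `R` (both directions) -/
theorem b_mem_normalizer (hb : orderOf b = 3) (hbR : ∀ r ∈ R, b * r * b⁻¹ ∈ R) :
    b ∈ Subgroup.normalizer (R : Set S) := by
  have hb3 : b ^ 3 = 1 := by rw [← hb, pow_orderOf_eq_one]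
  have hinv : b⁻¹ = b ^ 2 := by
    rw [eq_comm, ← mul_eq_one_iff_eq_inv, ← pow_succ, hb3]
  have hbR' : ∀ r ∈ R, b⁻¹ * r * b⁻¹⁻¹ ∈ R := by
    intro r hr
    have h1 := hbR _ (hbR r hr)
    have e : b⁻¹ * r * b⁻¹⁻¹ = b * (b * r * b⁻¹) * b⁻¹ := by
      rw [inv_inv]
      have e2 : b * (b * r * b⁻¹) * b⁻¹ = b ^ 2 * r * (b ^ 2)⁻¹ := by
        rw [pow_two]
        group
      rw [e2, ← hinv, inv_inv]
    rw [e]
    exact h1
  rw [Subgroup.mem_normalizer_iff]
  intro h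
  constructor
  · exact hbR h
  · intro hh
    have := hbR' _ hh
    have e : b⁻¹ * (b * h * b⁻¹) * b⁻¹⁻¹ = h := by group
    rwa [e] at this

/-- elements of `R⟨b⟩` are `r`, `r b` or `r b²` -/
theorem rb_cases (hb : orderOf b = 3) (hbR : ∀ r ∈ R, b * r * b⁻¹ ∈ R) {g : S} (hg : g ∈ RB R b) :
    ∃ r ∈ R, g = r ∨ g = r * b ∨ g = r * b ^ 2 := by
  have hLE : Subgroup.zpowers b ≤ Subgroup.normalizer (R : Set S) :=
    Subgroup.zpowers_le.mpr (b_mem_normalizer hb hbR)
  have hset := Subgroup.coe_mul_of_right_le_normalizer_left R (Subgroup.zpowers b) hLE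
  have hg' : g ∈ ((R ⊔ Subgroup.zpowers b : Subgroup S) : Set S) := hg
  rw [hset] at hg'
  obtain ⟨r, hr, c, hc, rfl⟩ := hg'
  obtain ⟨z, rfl⟩ := Subgroup.mem_zpowers_iff.mp hc
  refine ⟨r, hr, ?_⟩
  have hmod : b ^ z = b ^ (z % 3) := by
    have := zpow_mod_orderOf b z
    rw [hb] at this
    exact this.symm
  have h3 : (0 : ℤ) ≤ z % 3 := Int.emod_nonneg z (by norm_num)
  have h4 : z % 3 < 3 := Int.emod_lt_of_pos z (by norm_num)
  show r * b ^ z = r ∨ r * b ^ z = r * b ∨ r * b ^ z = r * b ^ 2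
  rw [hmod]
  have h5 : z % 3 = 0 ∨ z % 3 = 1 ∨ z % 3 = 2 := by omega
  rcases h5 with h | h | h
  · left
    rw [h, zpow_zero, mul_one]
  · right; left
    rw [h, zpow_one]
  · right; right
    rw [h, show (2 : ℤ) = ((2 : ℕ) : ℤ) from rfl, zpow_natCast]

/-- an element of `R` trivial on `W` is trivial -/
theorem eq_one_of_R (hinj : Function.Injective ρ) (hWC : W ⊔ C = ⊤)
    (hCfix : ∀ r ∈ R, ∀ v ∈ C, ρ r v = v) {r : S} (hr : r ∈ R) (hW : ∀ w ∈ W, ρ r w = w) : r = 1 := by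
  apply hinj
  rw [map_one]
  apply LinearMap.ext
  intro v
  have hv : v ∈ W ⊔ C := by rw [hWC]; trivial
  obtain ⟨w, hw, c, hc, rfl⟩ := Submodule.mem_sup.mp hv
  rw [map_add, hW w hw, hCfix r hr c hc]
  rfl

/-- `b` is not trivial on `W` -/
theorem b_nontrivial (hQ : QData ρ R b W x₁ x₂ x₃ e₁ e₂ e₃) : ¬ ∀ w ∈ W, ρ b w = w := by
  intro h
  have h1 : e₂ = e₁ := by rw [← hQ.be₁, h e₁ hQ.e₁W]
  have h2 : ρ x₁ e₂ = -e₂ := hQ.x₁e₂
  rw [h1, hQ.x₁e₁] at h2
  have h3 : (2 : ZMod 3) • e₁ = 0 := by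
    rw [two_smul]
    nth_rewrite 1 [h2]
    exact neg_add_cancel e₁
  have h4 : e₁ = 0 := by
    have : (2 : ZMod 3) • ((2 : ZMod 3) • e₁) = e₁ := by
      rw [smul_smul]
      have : (2 : ZMod 3) * 2 = 1 := by decide
      rw [this, one_smul]
    rw [← this, h3, smul_zero]
  exact hQ.e₁ne h4

/-- **FAITHFUL** -/
theorem faithful_of [Finite R] (hinj : Function.Injective ρ) (hb : orderOf b = 3)
    (hbR : ∀ r ∈ R, b * r * b⁻¹ ∈ R) (hRcop : (Nat.card R).Coprime 3)
    (hWinv : InvBy ρ (RB R b) W) (hWC : W ⊔ C = ⊤) (hCfix : ∀ r ∈ R, ∀ v ∈ C, ρ r v = v)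
    (hQ : QData ρ R b W x₁ x₂ x₃ e₁ e₂ e₃) :
    ∀ g ∈ RB R b, (∀ w ∈ W, ρ g w = w) → g = 1 := by
  intro g hg htriv
  have hb3 : b ^ 3 = 1 := by rw [← hb, pow_orderOf_eq_one]
  -- the key claim: if `r * c` is trivial on `W` with `c ^ 3 = 1`, `c ∈ R⟨b⟩`, then `c` is trivial on `W`
  have key : ∀ r ∈ R, ∀ c ∈ RB R b, c ^ 3 = 1 → (∀ w ∈ W, ρ (r * c) w = w) → ∀ w ∈ W, ρ c w = w := by
    intro r hr c hc hc3 hrc
    have hri : r⁻¹ ∈ RB R b := R_le_RB R b (R.inv_mem hr)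
    have h1 : ∀ w ∈ W, ρ c w = ρ r⁻¹ w := by
      intro w hw
      have := hrc w hw
      rw [map_mul] at this
      have h2 : ρ r⁻¹ (ρ r (ρ c w)) = ρ r⁻¹ w := by
        show ρ r⁻¹ ((ρ r * ρ c) w) = _
        rw [this]
      rw [← h2]
      show ρ c w = (ρ r⁻¹ * ρ r) (ρ c w)
      rw [← map_mul, inv_mul_cancel, map_one]
      rfl
    have h2 : ∀ j : ℕ, ∀ w ∈ W, ρ (c ^ j) w = ρ (r⁻¹ ^ j) w := by
      intro j
      induction j with
      | zero => intro w _; simp
      | succ j ih =>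
        intro w hw
        rw [pow_succ, pow_succ, map_mul, map_mul]
        show ρ (c ^ j) (ρ c w) = ρ (r⁻¹ ^ j) (ρ r⁻¹ w)
        rw [h1 w hw]
        exact ih _ (hWinv _ hri w hw)
    have hrn : r⁻¹ ^ Nat.card R = 1 := by
      have h0 : (⟨r⁻¹, R.inv_mem hr⟩ : R) ^ Nat.card R = 1 := pow_card_eq_one'
      have h0' := congrArg Subtype.val h0
      rw [Subgroup.coe_pow, Subgroup.coe_one] at h0'
      exact h0'
    have h3 : ∀ w ∈ W, ρ (c ^ Nat.card R) w = w := by
      intro w hw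
      rw [h2 _ w hw, hrn, map_one]
      rfl
    have hmod : c ^ Nat.card R = c ^ (Nat.card R % 3) := by
      conv_lhs => rw [← Nat.div_add_mod (Nat.card R) 3]
      rw [pow_add, pow_mul, hc3, one_pow, one_mul]
    have hne : Nat.card R % 3 ≠ 0 := by
      intro h0
      have : 3 ∣ Nat.card R := Nat.dvd_of_mod_eq_zero h0
      have h4 := Nat.Coprime.eq_one_of_dvd hRcop.symm this
      omega
    have hlt : Nat.card R % 3 < 3 := Nat.mod_lt _ (by norm_num)
    have h5 : Nat.card R % 3 = 1 ∨ Nat.card R % 3 = 2 := by omega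
    intro w hw
    rcases h5 with h | h
    · have := h3 w hw
      rwa [hmod, h, pow_one] at this
    · have h6 : ρ (c ^ 2) w = w := by
        have := h3 w hw
        rwa [hmod, h] at this
      have h7 : ρ c (ρ (c ^ 2) w) = ρ c w := by rw [h6]
      rw [← h7]
      show (ρ c * ρ (c ^ 2)) w = w
      rw [← map_mul, ← pow_succ', hc3, map_one]
      rfl
  obtain ⟨r, hr, h | h | h⟩ := rb_cases hb hbR hg
  · rw [h]
    rw [h] at htriv
    exact eq_one_of_R hinj hWC hCfix hr htriv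
  · exfalso
    rw [h] at htriv
    exact b_nontrivial hQ (key r hr b (b_mem_RB R b) hb3 htriv)
  · exfalso
    rw [h] at htriv
    have hc3 : (b ^ 2) ^ 3 = 1 := by rw [← pow_mul, show 2 * 3 = 3 * 2 by norm_num, pow_mul, hb3, one_pow]
    have h2 := key r hr (b ^ 2) (Subgroup.pow_mem _ (b_mem_RB R b) 2) hc3 htriv
    apply b_nontrivial hQ
    intro w hw
    have h3 : ρ (b ^ 2) (ρ (b ^ 2) w) = w := by rw [h2 w hw, h2 w hw]
    have h4 : ρ (b ^ 2) (ρ (b ^ 2) w) = ρ b w := by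
      show (ρ (b ^ 2) * ρ (b ^ 2)) w = _
      rw [← map_mul, ← pow_add, show 2 + 2 = 3 + 1 by norm_num, pow_add, hb3, one_mul, pow_one]
    rw [← h4, h3]

/-- a property of elements of `S` that holds for every `R⟨b⟩`-conjugate of `b` and is closed under
products and inverses holds on all of `R⟨b⟩` -/
theorem forall_RB_of_conj (hgen : ∀ g ∈ RB R b, g ∈ Subgroup.closure {x | ∃ y ∈ RB R b, x = y * b * y⁻¹})
    (T : Subgroup S) (hT : ∀ y ∈ RB R b, y * b * y⁻¹ ∈ T) : RB R b ≤ T := by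
  intro g hg
  have h1 : Subgroup.closure {x | ∃ y ∈ RB R b, x = y * b * y⁻¹} ≤ T := by
    rw [Subgroup.closure_le]
    rintro x ⟨y, hy, rfl⟩
    exact hT y hy
  exact h1 (hgen g hg)

/-- **IRREDUCIBLE** -/
theorem irred_of (hWinv : InvBy ρ (RB R b) W)
    (hgen : ∀ g ∈ RB R b, g ∈ Subgroup.closure {x | ∃ y ∈ RB R b, x = y * b * y⁻¹})
    (hWspan : W ≤ Submodule.span (ZMod 3) {x | ∃ r ∈ R, ∃ v : E, x = ρ r v - v})
    (hWC : W ⊔ C = ⊤) (hCfix : ∀ r ∈ R, ∀ v ∈ C, ρ r v = v)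
    (hfixW : ∀ w ∈ W, (∀ r ∈ R, ρ r w = w) → w = 0)
    (hQ : QData ρ R b W x₁ x₂ x₃ e₁ e₂ e₃) :
    ∀ N : Submodule (ZMod 3) E, N ≤ W → InvBy ρ (RB R b) N → N = ⊥ ∨ N = W := by
  intro N hNW hNinv
  have hbRB : b ∈ RB R b := b_mem_RB R b
  have hx₁ : x₁ ∈ RB R b := R_le_RB R b hQ.x₁R
  have hx₂ : x₂ ∈ RB R b := R_le_RB R b hQ.x₂R
  have hx₃ : x₃ ∈ RB R b := R_le_RB R b hQ.x₃R
  by_cases he : e₁ ∈ N
  · -- all the `e_i` lie in `N`
    right
    have he₂ : e₂ ∈ N := by rw [← hQ.be₁]; exact hNinv b hbRB e₁ he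
    have he₃ : e₃ ∈ N := by rw [← hQ.be₂]; exact hNinv b hbRB e₂ he₂
    -- the subgroup of elements acting trivially on `W / N`
    let T : Subgroup S :=
      { carrier := {g | g ∈ RB R b ∧ ∀ w ∈ W, ρ g w - w ∈ N}
        one_mem' := by
          refine ⟨(RB R b).one_mem, fun w _ => ?_⟩
          rw [map_one]
          show w - w ∈ N
          rw [sub_self]
          exact N.zero_mem
        mul_mem' := by
          rintro g h ⟨hg, hg'⟩ ⟨hh, hh'⟩
          refine ⟨(RB R b).mul_mem hg hh, fun w hw => ?_⟩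
          have e : ρ (g * h) w - w = ρ g (ρ h w - w) + (ρ g w - w) := by
            rw [map_mul, map_sub]
            show ρ g (ρ h w) - w = _
            abel
          rw [e]
          exact N.add_mem (hNinv g hg _ (hh' w hw)) (hg' w hw)
        inv_mem' := by
          rintro g ⟨hg, hg'⟩
          have hgi : g⁻¹ ∈ RB R b := (RB R b).inv_mem hg
          refine ⟨hgi, fun w hw => ?_⟩
          have e : ρ g⁻¹ w - w = -(ρ g⁻¹ (ρ g w - w)) := by
            rw [map_sub]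
            have : ρ g⁻¹ (ρ g w) = w := by
              show (ρ g⁻¹ * ρ g) w = w
              rw [← map_mul, inv_mul_cancel, map_one]
              rfl
            rw [this]
            abel
          rw [e]
          exact N.neg_mem (hNinv g⁻¹ hgi _ (hg' w hw)) }
    have hbT : ∀ w ∈ W, ρ b w - w ∈ N := by
      intro w hw
      obtain ⟨w₀, _, c₁, c₂, c₃, rfl, _, _, _, hb0⟩ := hQ.decomp w hw
      have e : ρ b (w₀ + c₁ • e₁ + c₂ • e₂ + c₃ • e₃) - (w₀ + c₁ • e₁ + c₂ • e₂ + c₃ • e₃) =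
          (c₃ - c₁) • e₁ + (c₁ - c₂) • e₂ + (c₂ - c₃) • e₃ := by
        rw [map_add, map_add, map_add, map_smul, map_smul, map_smul, hb0, hQ.be₁, hQ.be₂, hQ.be₃]
        module
      rw [e]
      exact N.add_mem (N.add_mem (N.smul_mem _ he) (N.smul_mem _ he₂)) (N.smul_mem _ he₃)
    have hconjT : ∀ y ∈ RB R b, y * b * y⁻¹ ∈ T := by
      intro y hy
      have hyi : y⁻¹ ∈ RB R b := (RB R b).inv_mem hy
      refine ⟨(RB R b).mul_mem ((RB R b).mul_mem hy hbRB) hyi, fun w hw => ?_⟩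
      have hw' : ρ y⁻¹ w ∈ W := hWinv _ hyi w hw
      have e : ρ (y * b * y⁻¹) w - w = ρ y (ρ b (ρ y⁻¹ w) - ρ y⁻¹ w) := by
        rw [map_mul, map_mul, map_sub]
        have : ρ y (ρ y⁻¹ w) = w := by
          show (ρ y * ρ y⁻¹) w = w
          rw [← map_mul, mul_inv_cancel, map_one]
          rfl
        rw [this]
        rfl
      rw [e]
      exact hNinv y hy _ (hbT _ hw')
    have hRBT : RB R b ≤ T := forall_RB_of_conj hgen T hconjT
    apply le_antisymm hNW
    refine le_trans hWspan ?_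
    rw [Submodule.span_le]
    rintro x ⟨r, hr, v, rfl⟩
    have hv : v ∈ W ⊔ C := by rw [hWC]; trivial
    obtain ⟨w, hw, c, hc, rfl⟩ := Submodule.mem_sup.mp hv
    have e : ρ r (w + c) - (w + c) = ρ r w - w := by
      rw [map_add, hCfix r hr c hc]
      abel
    show ρ r (w + c) - (w + c) ∈ N
    rw [e]
    exact (hRBT (R_le_RB R b hr)).2 w hw
  · -- none of the `e_i` lies in `N`
    left
    have he₃ : e₃ ∉ N := by
      intro h
      apply he
      rw [← hQ.be₃]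
      exact hNinv b hbRB e₃ h
    have he₂ : e₂ ∉ N := by
      intro h
      apply he₃
      rw [← hQ.be₂]
      exact hNinv b hbRB e₂ h
    have h4 : (4 : ZMod 3) = 1 := by decide
    have hcoef : ∀ (c : ZMod 3) (e : E), e ∉ N → (4 : ZMod 3) • (c • e) ∈ N → c = 0 := by
      intro c e hne hmem
      by_contra hc
      apply hne
      rw [h4, one_smul] at hmem
      have := N.smul_mem c⁻¹ hmem
      rwa [smul_smul, inv_mul_cancel₀ hc, one_smul] at this
    -- every vector of `N` is fixed by `b`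
    have hbfix : ∀ w ∈ N, ρ b w = w := by
      intro w hw
      have hwW := hNW hw
      obtain ⟨w₀, _, c₁, c₂, c₃, hdec, h10, h20, h30, hb0⟩ := hQ.decomp w hwW
      have h1 := hNinv x₁ hx₁ w hw
      have h2 := hNinv x₂ hx₂ w hw
      have h3 := hNinv x₃ hx₃ w hw
      have hX₁ : ρ x₁ w = w₀ + c₁ • e₁ - c₂ • e₂ - c₃ • e₃ := by
        rw [hdec, map_add, map_add, map_add, map_smul, map_smul, map_smul, hQ.x₁e₁, hQ.x₁e₂, hQ.x₁e₃]
        rw [h10]
        module
      have hX₂ : ρ x₂ w = w₀ - c₁ • e₁ + c₂ • e₂ - c₃ • e₃ := by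
        rw [hdec, map_add, map_add, map_add, map_smul, map_smul, map_smul, hQ.x₂e₁, hQ.x₂e₂, hQ.x₂e₃]
        rw [h20]
        module
      have hX₃ : ρ x₃ w = w₀ - c₁ • e₁ - c₂ • e₂ + c₃ • e₃ := by
        rw [hdec, map_add, map_add, map_add, map_smul, map_smul, map_smul, hQ.x₃e₁, hQ.x₃e₂, hQ.x₃e₃]
        rw [h30]
        module
      have hc₁ : c₁ = 0 := by
        apply hcoef c₁ e₁ he
        have : (4 : ZMod 3) • (c₁ • e₁) = w + ρ x₁ w - ρ x₂ w - ρ x₃ w := by
          rw [hX₁, hX₂, hX₃, hdec]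
          module
        rw [this]
        exact N.sub_mem (N.sub_mem (N.add_mem hw h1) h2) h3
      have hc₂ : c₂ = 0 := by
        apply hcoef c₂ e₂ he₂
        have : (4 : ZMod 3) • (c₂ • e₂) = w - ρ x₁ w + ρ x₂ w - ρ x₃ w := by
          rw [hX₁, hX₂, hX₃, hdec]
          module
        rw [this]
        exact N.sub_mem (N.add_mem (N.sub_mem hw h1) h2) h3
      have hc₃ : c₃ = 0 := by
        apply hcoef c₃ e₃ he₃
        have : (4 : ZMod 3) • (c₃ • e₃) = w - ρ x₁ w - ρ x₂ w + ρ x₃ w := by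
          rw [hX₁, hX₂, hX₃, hdec]
          module
        rw [this]
        exact N.add_mem (N.sub_mem (N.sub_mem hw h1) h2) h3
      rw [hdec, hc₁, hc₂, hc₃]
      simp only [zero_smul, add_zero]
      exact hb0
    -- the pointwise stabiliser of `N`
    let T : Subgroup S :=
      { carrier := {g | g ∈ RB R b ∧ ∀ w ∈ N, ρ g w = w}
        one_mem' := ⟨(RB R b).one_mem, fun w _ => by rw [map_one]; rfl⟩
        mul_mem' := by
          rintro g h ⟨hg, hg'⟩ ⟨hh, hh'⟩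
          refine ⟨(RB R b).mul_mem hg hh, fun w hw => ?_⟩
          rw [map_mul]
          show ρ g (ρ h w) = w
          rw [hh' w hw, hg' w hw]
        inv_mem' := by
          rintro g ⟨hg, hg'⟩
          refine ⟨(RB R b).inv_mem hg, fun w hw => ?_⟩
          have : ρ g⁻¹ (ρ g w) = w := by
            show (ρ g⁻¹ * ρ g) w = w
            rw [← map_mul, inv_mul_cancel, map_one]
            rfl
          rw [hg' w hw] at this
          exact this }
    have hconjT : ∀ y ∈ RB R b, y * b * y⁻¹ ∈ T := by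
      intro y hy
      have hyi : y⁻¹ ∈ RB R b := (RB R b).inv_mem hy
      refine ⟨(RB R b).mul_mem ((RB R b).mul_mem hy hbRB) hyi, fun w hw => ?_⟩
      have hw' : ρ y⁻¹ w ∈ N := hNinv _ hyi w hw
      rw [map_mul, map_mul]
      show ρ y (ρ b (ρ y⁻¹ w)) = w
      rw [hbfix _ hw']
      show (ρ y * ρ y⁻¹) w = w
      rw [← map_mul, mul_inv_cancel, map_one]
      rfl
    have hRBT : RB R b ≤ T := forall_RB_of_conj hgen T hconjT
    rw [eq_bot_iff]
    intro w hw
    rw [Submodule.mem_bot]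
    apply hfixW w (hNW hw)
    intro r hr
    exact (hRBT (R_le_RB R b hr)).2 w hw

end Cfsg.Agent.Lib.H1.S4415F5
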