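import Cfsg.Agent.Lib.H10.S4415BadDefs
import Cfsg.Agent.Lib.H1.S4415F5

/-!
# S4415, BAD piece (B0): an element `z ∈ R` acting as `-1` on `W` (helper1)

By strong induction on the order of an `R⟨b⟩`-normal subgroup `M ≠ ⊥` of `R`: if `⁅M, M⁆ ≠ ⊥` pass to it
(`R` is solvable); otherwise `M` is abelian, and for a prime `r ∣ |M|` the subgroup `{m ∈ M | m ^ r = 1}` is
`R⟨b⟩`-normal and nontrivial; `r` odd is excluded by `OddTriv`, and for `r = 2` it is elementary abelian, so
by `Bad` its elements act as `±1` on `W`, and `+1` is excluded by faithfulness.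
-/

set_option autoImplicit false

namespace Cfsg.Agent.Lib.H1.S4415B0

open Cfsg.Agent.Lib.H10.S4415

variable {S : Type*} [Group S]

/-- conjugation by `g` preserves `⁅M, M⁆` when it preserves `M` -/
theorem conj_mem_comm (M : Subgroup S) (g : S) (hM : ∀ m ∈ M, g * m * g⁻¹ ∈ M) {d : S} (hd : d ∈ ⁅M, M⁆) :
    g * d * g⁻¹ ∈ ⁅M, M⁆ := by
  have h1 : (⁅M, M⁆).map (MulAut.conj g).toMonoidHom ≤ ⁅M, M⁆ := by
    rw [Subgroup.map_commutator]
    refine Subgroup.commutator_mono ?_ ?_
    · rintro _ ⟨y, hy, rfl⟩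
      simpa using hM y hy
    · rintro _ ⟨y, hy, rfl⟩
      simpa using hM y hy
  have h2 : (MulAut.conj g).toMonoidHom d ∈ (⁅M, M⁆).map (MulAut.conj g).toMonoidHom :=
    Subgroup.mem_map_of_mem _ hd
  simpa using h1 h2

/-- `R` is normalised by `R⟨b⟩` -/
theorem normBy_RB_R {R : Subgroup S} {b : S} (hb : orderOf b = 3) (hbR : ∀ r ∈ R, b * r * b⁻¹ ∈ R) :
    NormBy (RB R b) R := by
  have hle : RB R b ≤ Subgroup.normalizer (R : Set S) :=
    sup_le Subgroup.le_normalizer
      (Subgroup.zpowers_le.mpr (Cfsg.Agent.Lib.H1.S4415F5.b_mem_normalizer hb hbR))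
  intro g hg a ha
  exact (Subgroup.mem_normalizer_iff.mp (hle hg) a).mp ha

/-- the subgroup `{m ∈ M | m ^ r = 1}` of an abelian `M` -/
def omegaSub (M : Subgroup S) (hab : ∀ a ∈ M, ∀ c ∈ M, a * c = c * a) (r : ℕ) : Subgroup S where
  carrier := {m | m ∈ M ∧ m ^ r = 1}
  one_mem' := ⟨M.one_mem, one_pow r⟩
  mul_mem' := by
    rintro a c ⟨ha, ha'⟩ ⟨hc, hc'⟩
    refine ⟨M.mul_mem ha hc, ?_⟩
    have hcomm : Commute a c := hab a ha c hc
    rw [hcomm.mul_pow, ha', hc', one_mul]
  inv_mem' := by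
    rintro a ⟨ha, ha'⟩
    exact ⟨M.inv_mem ha, by rw [inv_pow, ha', inv_one]⟩

theorem mem_omegaSub {M : Subgroup S} {hab : ∀ a ∈ M, ∀ c ∈ M, a * c = c * a} {r : ℕ} {m : S} :
    m ∈ omegaSub M hab r ↔ m ∈ M ∧ m ^ r = 1 := Iff.rfl

/-- the induction: every `R⟨b⟩`-normal subgroup `M ≠ ⊥` of `R` leads to `z` -/
theorem exists_neg_of_normal {E : Type*} [Finite S] [AddCommGroup E] [Module (ZMod 3) E]
    {ρ : Representation (ZMod 3) S E} {R : Subgroup S} {b : S} {W : Submodule (ZMod 3) E}
    (hL : LinCtx ρ R b W) (hbad : Bad ρ R b W) (hodd : OddTriv R b) :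
    ∀ (n : ℕ) (M : Subgroup S), Nat.card M = n → M ≤ R → NormBy (RB R b) M → M ≠ ⊥ →
      ∃ z ∈ R, IsNeg ρ W z := by
  intro n
  induction n using Nat.strong_induction_on with
  | _ n ih =>
    intro M hMn hMR hMnorm hMne
    by_cases hc : ⁅M, M⁆ = ⊥
    · -- `M` is abelian
      have hab : ∀ a ∈ M, ∀ c ∈ M, a * c = c * a := by
        intro a ha c hc'
        have h1 := (Subgroup.commutator_eq_bot_iff_le_centralizer).mp hc
        exact ((Subgroup.mem_centralizer_iff.mp (h1 ha)) c hc').symm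
      have hcard1 : Nat.card M ≠ 1 := fun h => hMne (Subgroup.card_eq_one.mp h)
      obtain ⟨r, hr, hrd⟩ := Nat.exists_prime_and_dvd hcard1
      have : Fact r.Prime := ⟨hr⟩
      obtain ⟨y, hy⟩ := exists_prime_orderOf_dvd_card' (G := M) r hrd
      have hyS : orderOf (y : S) = r := by rw [Subgroup.orderOf_coe, hy]
      have hy1 : (y : S) ≠ 1 := by
        intro h
        rw [h, orderOf_one] at hyS
        exact hr.one_lt.ne hyS
      have hyΩ : (y : S) ∈ omegaSub M hab r :=
        ⟨y.2, by rw [← hyS, pow_orderOf_eq_one]⟩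
      have hΩR : omegaSub M hab r ≤ R := fun m hm => hMR hm.1
      have hΩn : NormBy (RB R b) (omegaSub M hab r) := by
        intro g hg a ha
        refine ⟨hMnorm g hg a ha.1, ?_⟩
        rw [conj_pow, ha.2, mul_one, mul_inv_cancel]
      by_cases h2 : r = 2
      · -- the elementary abelian case
        subst h2
        have hEA : Cfsg.IsElementaryAbelian 2 (omegaSub M hab 2) := by
          refine ⟨⟨⟨fun a c => Subtype.ext (hab a a.2.1 c c.2.1)⟩⟩, fun a ha => ha.2⟩
        rcases hbad (omegaSub M hab 2) hΩR hΩn hEA (y : S) hyΩ with h | h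
        · exfalso
          exact hy1 (hL.faithful (y : S) ((le_sup_left : R ≤ RB R b) (hMR y.2)) h)
        · exact ⟨(y : S), hMR y.2, h⟩
      · -- odd `r`: excluded by `OddTriv`
        exfalso
        have hpg : IsPGroup r (omegaSub M hab r) := by
          intro g
          refine ⟨1, ?_⟩
          apply Subtype.ext
          rw [pow_one, Subgroup.coe_pow, Subgroup.coe_one]
          exact g.2.2
        obtain ⟨k, hk⟩ := hpg.exists_card_eq
        have hoddc : Odd (Nat.card (omegaSub M hab r)) := by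
          rw [hk]
          exact (hr.odd_of_ne_two h2).pow
        have hbot := hodd (omegaSub M hab r) hΩR hΩn hoddc
        rw [hbot, Subgroup.mem_bot] at hyΩ
        exact hy1 hyΩ
    · -- pass to the commutator subgroup
      have hsolvR : Group.IsSolvable R := hL.R_solv
      have hsolvM : Group.IsSolvable M :=
        Group.isSolvable_of_isSolvable_injective (f := Subgroup.inclusion hMR)
          (Subgroup.inclusion_injective hMR)
      have : Nontrivial M := (Subgroup.nontrivial_iff_ne_bot M).mpr hMne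
      have hlt : commutator M < ⊤ := Group.IsSolvable.commutator_lt_top_of_nontrivial M
      have hmap : (commutator M).map M.subtype = ⁅M, M⁆ := Subgroup.map_subtype_commutator M
      have hle : ⁅M, M⁆ ≤ M := by
        rw [← hmap]
        intro x hx
        obtain ⟨m, _, rfl⟩ := hx
        exact m.2
      have hne : ⁅M, M⁆ ≠ M := by
        intro heq
        apply hlt.ne
        rw [eq_top_iff]
        intro m _
        have hm : (m : S) ∈ ⁅M, M⁆ := by rw [heq]; exact m.2
        rw [← hmap] at hm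
        obtain ⟨m', hm', hmm'⟩ := hm
        have : m' = m := Subtype.ext hmm'
        rwa [this] at hm'
      have hcardlt : Nat.card ↥⁅M, M⁆ < n := by
        rw [← hMn]
        by_contra hge
        exact hne (Subgroup.eq_of_le_of_card_ge hle (not_lt.mp hge))
      exact ih _ hcardlt ⁅M, M⁆ rfl (le_trans hle hMR)
        (fun g hg a ha => conj_mem_comm M g (hMnorm g hg) ha) hc

/-- **(B0)** in the exact shape of the sub-cut -/
theorem b0 : B0Stmt := by
  intro S _ _ E _ _ _ ρ R b W x₁ x₂ x₃ e₁ e₂ e₃ hL hQ hbad hodd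
  have hRne : R ≠ ⊥ := by
    intro h
    have h1 : x₁ ∈ R := hQ.x₁R
    rw [h, Subgroup.mem_bot] at h1
    have h2 : ρ x₁ e₂ = -e₂ := hQ.x₁e₂
    rw [h1, map_one] at h2
    have h3 : e₂ = -e₂ := h2
    have h4 : (2 : ZMod 3) • e₂ = 0 := by
      rw [two_smul]
      nth_rewrite 1 [h3]
      exact neg_add_cancel e₂
    have h5 : e₂ = 0 := by
      have h6 : (2 : ZMod 3) • ((2 : ZMod 3) • e₂) = e₂ := by
        rw [smul_smul]
        have : (2 : ZMod 3) * 2 = 1 := by decide
        rw [this, one_smul]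
      rw [← h6, h4, smul_zero]
    have h7 : e₁ = 0 := by
      rw [← hQ.be₃, ← hQ.be₂, h5, map_zero, map_zero]
    exact hQ.e₁ne h7
  exact exists_neg_of_normal hL hbad hodd _ R rfl le_rfl (normBy_RB_R hL.b_ord hL.b_norm) hRne

end Cfsg.Agent.Lib.H1.S4415B0
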