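import Mathlib

/-!
# S4415, pure piece behind (B5): simultaneous eigenvectors of conjugations are independent (helper1)

`A i : V →ₗ[K] V` with `P g ∘ A i ∘ Pinv g = ε g i • A i` for all `g`, the eigenvalue systems `ε · i` pairwise
distinct, all `A i ≠ 0`.  Then the `A i` are linearly independent; hence there are at most `(dim V)²` of them,
and exactly `(dim V)²` of them span `End V`.
-/

set_option autoImplicit false

namespace Cfsg.Agent.Lib.H1.S4415LI

open Module

variable {K V ι γ : Type*} [Field K] [AddCommGroup V] [Module K V]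

/-- the finset form of the shortest-relation argument -/
theorem coeff_eq_zero_of_sum_eq_zero [DecidableEq ι] (A : ι → V →ₗ[K] V) (P Pinv : γ → V →ₗ[K] V)
    (ε : γ → ι → K) (hconj : ∀ g i, P g ∘ₗ A i ∘ₗ Pinv g = ε g i • A i)
    (hsep : ∀ i j, i ≠ j → ∃ g, ε g i ≠ ε g j) (hne : ∀ i, A i ≠ 0) :
    ∀ (n : ℕ) (s : Finset ι), s.card = n → ∀ c : ι → K, ∑ i ∈ s, c i • A i = 0 → ∀ i ∈ s, c i = 0 := by
  intro n
  induction n with
  | zero =>
    intro s hs c _ i hi
    rw [Finset.card_eq_zero] at hs
    rw [hs] at hi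
    exact absurd hi (Finset.notMem_empty i)
  | succ n ih =>
    intro s hs c hsum
    obtain ⟨i₀, hi₀⟩ : s.Nonempty := by
      rw [← Finset.card_pos, hs]
      exact Nat.succ_pos n
    have hcard : (s.erase i₀).card = n := by
      rw [Finset.card_erase_of_mem hi₀, hs]
      rfl
    -- every other coefficient vanishes
    have hother : ∀ j ∈ s.erase i₀, c j = 0 := by
      intro j hj
      have hj' := Finset.mem_erase.mp hj
      obtain ⟨g, hg⟩ := hsep i₀ j (Ne.symm hj'.1)
      -- conjugate the relation by `g`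
      have h1 : ∑ i ∈ s, (c i * ε g i) • A i = 0 := by
        apply LinearMap.ext
        intro v
        have h2 : (∑ i ∈ s, c i • A i) (Pinv g v) = 0 := by rw [hsum, LinearMap.zero_apply]
        have h2' : P g ((∑ i ∈ s, c i • A i) (Pinv g v)) = 0 := by rw [h2, map_zero]
        rw [LinearMap.sum_apply, map_sum] at h2'
        rw [LinearMap.sum_apply, LinearMap.zero_apply, ← h2']
        refine Finset.sum_congr rfl (fun i _ => ?_)
        have h9 : P g (A i (Pinv g v)) = ε g i • A i v := by
          have := LinearMap.congr_fun (hconj g i) v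
          simpa using this
        rw [LinearMap.smul_apply, LinearMap.smul_apply, map_smul, h9, smul_smul]
      -- subtract `ε g i₀` times the relation
      have h3 : ∑ i ∈ s, (c i * (ε g i - ε g i₀)) • A i = 0 := by
        have h4 : ∑ i ∈ s, (c i * (ε g i - ε g i₀)) • A i =
            ∑ i ∈ s, (c i * ε g i) • A i - ε g i₀ • ∑ i ∈ s, c i • A i := by
          rw [Finset.smul_sum, ← Finset.sum_sub_distrib]
          refine Finset.sum_congr rfl (fun i _ => ?_)
          rw [smul_smul, ← sub_smul]
          congr 1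
          ring
        rw [h4, h1, hsum, smul_zero, sub_zero]
      have h5 : ∑ i ∈ s.erase i₀, (c i * (ε g i - ε g i₀)) • A i = 0 := by
        rw [← Finset.add_sum_erase s _ hi₀] at h3
        rwa [sub_self, mul_zero, zero_smul, zero_add] at h3
      have h6 := ih (s.erase i₀) hcard (fun i => c i * (ε g i - ε g i₀)) h5 j hj
      have h7 : ε g j - ε g i₀ ≠ 0 := sub_ne_zero.mpr (Ne.symm hg)
      exact (mul_eq_zero.mp h6).resolve_right h7
    intro i hi
    by_cases hii : i = i₀
    · subst hii
      rw [← Finset.add_sum_erase s _ hi] at hsum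
      have h8 : ∑ j ∈ s.erase i, c j • A j = 0 :=
        Finset.sum_eq_zero (fun j hj => by rw [hother j hj, zero_smul])
      rw [h8, add_zero] at hsum
      exact (smul_eq_zero.mp hsum).resolve_right (hne i)
    · exact hother i (Finset.mem_erase.mpr ⟨hii, hi⟩)

/-- simultaneous eigenvectors (for conjugation) with pairwise distinct eigenvalue systems are independent -/
theorem linearIndependent_of_conj_eigen (A : ι → V →ₗ[K] V) (P Pinv : γ → V →ₗ[K] V)
    (ε : γ → ι → K) (hconj : ∀ g i, P g ∘ₗ A i ∘ₗ Pinv g = ε g i • A i)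
    (hsep : ∀ i j, i ≠ j → ∃ g, ε g i ≠ ε g j) (hne : ∀ i, A i ≠ 0) : LinearIndependent K A := by
  classical
  rw [linearIndependent_iff']
  intro s c hsum i hi
  exact coeff_eq_zero_of_sum_eq_zero A P Pinv ε hconj hsep hne s.card s rfl c hsum i hi

/-- hence there are at most `(dim V)²` of them -/
theorem card_le_finrank_sq [FiniteDimensional K V] [Fintype ι] (A : ι → V →ₗ[K] V)
    (P Pinv : γ → V →ₗ[K] V) (ε : γ → ι → K) (hconj : ∀ g i, P g ∘ₗ A i ∘ₗ Pinv g = ε g i • A i)
    (hsep : ∀ i j, i ≠ j → ∃ g, ε g i ≠ ε g j) (hne : ∀ i, A i ≠ 0) :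
    Fintype.card ι ≤ (finrank K V) ^ 2 := by
  have h := (linearIndependent_of_conj_eigen A P Pinv ε hconj hsep hne).fintype_card_le_finrank
  rwa [Module.finrank_linearMap, ← sq] at h

/-- and `(dim V)²` of them span `End V` -/
theorem span_eq_top_of_card_eq [FiniteDimensional K V] [Fintype ι] (A : ι → V →ₗ[K] V)
    (P Pinv : γ → V →ₗ[K] V) (ε : γ → ι → K) (hconj : ∀ g i, P g ∘ₗ A i ∘ₗ Pinv g = ε g i • A i)
    (hsep : ∀ i j, i ≠ j → ∃ g, ε g i ≠ ε g j) (hne : ∀ i, A i ≠ 0)
    (hcard : Fintype.card ι = (finrank K V) ^ 2) : Submodule.span K (Set.range A) = ⊤ := by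
  have hli := linearIndependent_of_conj_eigen A P Pinv ε hconj hsep hne
  apply hli.span_eq_top_of_card_eq_finrank'
  rw [hcard, Module.finrank_linearMap, sq]

end Cfsg.Agent.Lib.H1.S4415LI
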