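import Cfsg.Agent.Lib.H10.S4415BadDefs
import Cfsg.Agent.Lib.H1.S4415LI

/-!
# S4415, BAD piece (B5): `|X| ≤ 32` (helper1)

The operators `ρ x|_W`, `x` running over a transversal of `X/{1,z}`, are simultaneous eigenvectors of the
conjugations by the elements of `X` with pairwise distinct sign systems, hence linearly independent in
`End W`, `dim W ≤ 4`.
-/

set_option autoImplicit false

namespace Cfsg.Agent.Lib.H1.S4415B5W

open Cfsg.Agent.Lib.H10.S4415 Module

variable {S E : Type*} [Group S] [AddCommGroup E] [Module (ZMod 3) E]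

/-- `dim W ≤ 4` from `Dim4.span` -/
theorem finrank_le_four [Finite E] {ρ : Representation (ZMod 3) S E} {b : S} {W : Submodule (ZMod 3) E}
    {x₁ x₂ x₃ : S} {e₀ e₁ e₂ e₃ : E} (hD : Dim4 ρ b W x₁ x₂ x₃ e₀ e₁ e₂ e₃) :
    finrank (ZMod 3) ↥W ≤ 4 := by
  have hle : W ≤ Submodule.span (ZMod 3) (Set.range ![e₀, e₁, e₂, e₃]) := by
    intro w hw
    obtain ⟨c₀, c₁, c₂, c₃, rfl⟩ := hD.span w hw
    have m0 : e₀ ∈ Submodule.span (ZMod 3) (Set.range ![e₀, e₁, e₂, e₃]) :=
      Submodule.subset_span ⟨0, rfl⟩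
    have m1 : e₁ ∈ Submodule.span (ZMod 3) (Set.range ![e₀, e₁, e₂, e₃]) :=
      Submodule.subset_span ⟨1, rfl⟩
    have m2 : e₂ ∈ Submodule.span (ZMod 3) (Set.range ![e₀, e₁, e₂, e₃]) :=
      Submodule.subset_span ⟨2, rfl⟩
    have m3 : e₃ ∈ Submodule.span (ZMod 3) (Set.range ![e₀, e₁, e₂, e₃]) :=
      Submodule.subset_span ⟨3, rfl⟩
    exact Submodule.add_mem _ (Submodule.add_mem _ (Submodule.add_mem _
      (Submodule.smul_mem _ _ m0) (Submodule.smul_mem _ _ m1)) (Submodule.smul_mem _ _ m2))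
      (Submodule.smul_mem _ _ m3)
  calc finrank (ZMod 3) ↥W ≤ finrank (ZMod 3) ↥(Submodule.span (ZMod 3) (Set.range ![e₀, e₁, e₂, e₃])) :=
        Submodule.finrank_mono hle
    _ ≤ Fintype.card (Fin 4) := finrank_range_le_card _
    _ = 4 := by simp

/-- the operator of `x ∈ X` on `W` -/
noncomputable def Aop (ρ : Representation (ZMod 3) S E) (W : Submodule (ZMod 3) E) (X : Subgroup S)
    (hinv : ∀ x ∈ X, ∀ w ∈ W, ρ x w ∈ W) (x : ↥X) : ↥W →ₗ[ZMod 3] ↥W :=
  (ρ (x : S)).restrict (hinv x x.2)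

theorem Aop_apply (ρ : Representation (ZMod 3) S E) (W : Submodule (ZMod 3) E) (X : Subgroup S)
    (hinv : ∀ x ∈ X, ∀ w ∈ W, ρ x w ∈ W) (x : ↥X) (w : ↥W) :
    ((Aop ρ W X hinv x w : ↥W) : E) = ρ (x : S) (w : E) := rfl

/-- **(B5)** in the exact shape of the sub-cut -/
theorem b5 : B5Stmt := by
  intro S _ _ E _ _ _ ρ R b W x₁ x₂ x₃ e₀ e₁ e₂ e₃ z X hL hD hz hXR hXS
  classical
  have hRRB : R ≤ RB R b := le_sup_left
  have hinv : ∀ x ∈ X, ∀ w ∈ W, ρ x w ∈ W := fun x hx w hw => hL.W_inv x (hRRB (hXR hx)) w hw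
  have h1ne : (1 : ZMod 3) ≠ -1 := by decide
  -- the subgroup `{1, z}` of `X`
  have hzc : ∀ y : ↥X, y * (⟨z, hXS.zX⟩ : ↥X) = ⟨z, hXS.zX⟩ * y := by
    intro y
    apply Subtype.ext
    exact hXS.z_central y y.2
  have hZn : (Subgroup.zpowers (⟨z, hXS.zX⟩ : ↥X)).Normal := by
    constructor
    intro n hn g
    obtain ⟨k, rfl⟩ := Subgroup.mem_zpowers_iff.mp hn
    have hc : Commute g (⟨z, hXS.zX⟩ : ↥X) := hzc g
    have hck : Commute g ((⟨z, hXS.zX⟩ : ↥X) ^ k) := hc.zpow_right k
    rw [hck.eq, mul_inv_cancel_right]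
    exact Subgroup.zpow_mem_zpowers _ k
  have hzord : orderOf (⟨z, hXS.zX⟩ : ↥X) = 2 := by
    apply orderOf_eq_prime
    · apply Subtype.ext
      show z ^ 2 = 1
      rw [pow_two]
      exact hXS.z_sq
    · intro h
      exact hXS.z_ne (congrArg Subtype.val h)
  have hZ2 : Nat.card (Subgroup.zpowers (⟨z, hXS.zX⟩ : ↥X)) = 2 := by
    rw [Nat.card_zpowers, hzord]
  -- the quotient and a section
  have hout : ∀ q : ↥X ⧸ Subgroup.zpowers (⟨z, hXS.zX⟩ : ↥X),
      (QuotientGroup.mk (Quotient.out q) : ↥X ⧸ Subgroup.zpowers (⟨z, hXS.zX⟩ : ↥X)) = q :=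
    fun q => Quotient.out_eq q
  -- the general conjugation formula
  have hconjS : ∀ g x : ↥X, ∀ w : ↥W,
      ((g : S) * x * (g : S)⁻¹ = x → ρ (g : S) (ρ (x : S) (ρ ((g : S)⁻¹) (w : E))) = ρ (x : S) (w : E)) ∧
      ((g : S) * x * (g : S)⁻¹ ≠ x → ρ (g : S) (ρ (x : S) (ρ ((g : S)⁻¹) (w : E))) = -ρ (x : S) (w : E)) := by
    intro g x w
    have e : ρ (g : S) (ρ (x : S) (ρ ((g : S)⁻¹) (w : E))) = ρ ((g : S) * x * (g : S)⁻¹) (w : E) := by
      rw [map_mul, map_mul]
      rfl
    constructor
    · intro h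
      rw [e, h]
    · intro h
      rcases hXS.comm g g.2 x x.2 with h1 | h1
      · exfalso
        apply h
        have := mul_inv_eq_one.mp h1
        exact this
      · have h2 : (g : S) * x * (g : S)⁻¹ = z * x := mul_inv_eq_iff_eq_mul.mp h1
        rw [e, h2, map_mul]
        exact hz _ (hinv x x.2 _ w.2)
  haveI : Fintype (↥X ⧸ Subgroup.zpowers (⟨z, hXS.zX⟩ : ↥X)) := Fintype.ofFinite _
  -- apply the engine
  have hcard := Cfsg.Agent.Lib.H1.S4415LI.card_le_finrank_sq
    (K := ZMod 3) (V := ↥W) (ι := ↥X ⧸ Subgroup.zpowers (⟨z, hXS.zX⟩ : ↥X)) (γ := ↥X)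
    (fun q => Aop ρ W X hinv (Quotient.out q))
    (fun g => Aop ρ W X hinv g) (fun g => Aop ρ W X hinv g⁻¹)
    (fun g q => if (g : S) * (Quotient.out q : ↥X) * (g : S)⁻¹ = (Quotient.out q : ↥X) then 1 else -1)
    (by
      intro g q
      apply LinearMap.ext
      intro w
      apply Subtype.ext
      have h := hconjS g (Quotient.out q) w
      by_cases hc : (g : S) * (Quotient.out q : ↥X) * (g : S)⁻¹ = (Quotient.out q : ↥X)
      · rw [if_pos hc, one_smul]
        exact h.1 hc
      · rw [if_neg hc, neg_smul, one_smul]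
        exact h.2 hc)
    (by
      intro q q' hqq'
      by_contra hall
      push Not at hall
      apply hqq'
      -- `y = x x'⁻¹` is central in `X`
      have hcen : ∀ g ∈ X, ((Quotient.out q : ↥X) : S) * ((Quotient.out q' : ↥X) : S)⁻¹ * g =
          g * (((Quotient.out q : ↥X) : S) * ((Quotient.out q' : ↥X) : S)⁻¹) := by
        intro g hg
        have hg' := hall ⟨g, hg⟩
        by_cases hc : g * (Quotient.out q : ↥X) * g⁻¹ = (Quotient.out q : ↥X)
        · have hc' : g * (Quotient.out q' : ↥X) * g⁻¹ = (Quotient.out q' : ↥X) := by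
            by_contra hc'
            simp only [] at hg'
            rw [if_pos hc, if_neg hc'] at hg'
            exact h1ne hg'
          have e1 : g * ((Quotient.out q : ↥X) : S) = (Quotient.out q : ↥X) * g := by
            have := hc
            rw [mul_inv_eq_iff_eq_mul] at this
            exact this
          have e2 : g * ((Quotient.out q' : ↥X) : S) = (Quotient.out q' : ↥X) * g := by
            have := hc'
            rw [mul_inv_eq_iff_eq_mul] at this
            exact this
          have c1 : Commute g ((Quotient.out q : ↥X) : S) := e1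
          have c2 : Commute g ((Quotient.out q' : ↥X) : S) := e2
          exact ((c1.mul_right c2.inv_right).eq).symm
        · have hc' : g * (Quotient.out q' : ↥X) * g⁻¹ ≠ (Quotient.out q' : ↥X) := by
            intro hc'
            simp only [] at hg'
            rw [if_neg hc, if_pos hc'] at hg'
            exact h1ne hg'.symm
          have f1 : g * ((Quotient.out q : ↥X) : S) * g⁻¹ = z * (Quotient.out q : ↥X) := by
            rcases hXS.comm g hg _ (Quotient.out q).2 with h1 | h1
            · exact absurd (mul_inv_eq_one.mp h1) hc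
            · exact mul_inv_eq_iff_eq_mul.mp h1
          have f2 : g * ((Quotient.out q' : ↥X) : S) * g⁻¹ = z * (Quotient.out q' : ↥X) := by
            rcases hXS.comm g hg _ (Quotient.out q').2 with h1 | h1
            · exact absurd (mul_inv_eq_one.mp h1) hc'
            · exact mul_inv_eq_iff_eq_mul.mp h1
          have hzx : ((Quotient.out q : ↥X) : S) * z = z * (Quotient.out q : ↥X) :=
            hXS.z_central _ (Quotient.out q).2
          have f3 : g * (((Quotient.out q : ↥X) : S) * ((Quotient.out q' : ↥X) : S)⁻¹) * g⁻¹ =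
              ((Quotient.out q : ↥X) : S) * ((Quotient.out q' : ↥X) : S)⁻¹ := by
            have : g * (((Quotient.out q : ↥X) : S) * ((Quotient.out q' : ↥X) : S)⁻¹) * g⁻¹ =
                (g * ((Quotient.out q : ↥X) : S) * g⁻¹) * (g * ((Quotient.out q' : ↥X) : S) * g⁻¹)⁻¹ := by
              group
            rw [this, f1, f2]
            have hzx' : ((Quotient.out q' : ↥X) : S) * z = z * (Quotient.out q' : ↥X) :=
              hXS.z_central _ (Quotient.out q').2
            have c1 : Commute z ((Quotient.out q : ↥X) : S) := hzx.symm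
            have c2 : Commute z ((Quotient.out q' : ↥X) : S) := hzx'.symm
            have c3 : Commute z (((Quotient.out q : ↥X) : S) * ((Quotient.out q' : ↥X) : S)⁻¹) :=
              c1.mul_right c2.inv_right
            have e5 : z * ((Quotient.out q : ↥X) : S) * (z * ((Quotient.out q' : ↥X) : S))⁻¹ =
                z * (((Quotient.out q : ↥X) : S) * ((Quotient.out q' : ↥X) : S)⁻¹) * z⁻¹ := by group
            rw [e5, c3.eq, mul_assoc, mul_inv_cancel, mul_one]
          rw [mul_inv_eq_iff_eq_mul] at f3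
          exact f3.symm
      have hy := hXS.center _ (X.mul_mem (Quotient.out q).2 (X.inv_mem (Quotient.out q').2)) hcen
      rw [← hout q, ← hout q']
      rw [QuotientGroup.eq]
      rcases hy with hy | hy
      · have : (Quotient.out q : ↥X) = Quotient.out q' := by
          apply Subtype.ext
          exact mul_inv_eq_one.mp hy
        rw [this, inv_mul_cancel]
        exact Subgroup.one_mem _
      · have hzx' : ((Quotient.out q' : ↥X) : S) * z = z * (Quotient.out q' : ↥X) :=
          hXS.z_central _ (Quotient.out q').2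
        have e6 : (Quotient.out q : ↥X)⁻¹ * Quotient.out q' = (⟨z, hXS.zX⟩ : ↥X)⁻¹ := by
          apply Subtype.ext
          show ((Quotient.out q : ↥X) : S)⁻¹ * ((Quotient.out q' : ↥X) : S) = z⁻¹
          have e7 : ((Quotient.out q : ↥X) : S) = z * (Quotient.out q' : ↥X) :=
            mul_inv_eq_iff_eq_mul.mp hy
          rw [e7, mul_inv_rev, mul_assoc]
          have c2 : Commute z ((Quotient.out q' : ↥X) : S) := hzx'.symm
          rw [c2.inv_left.eq, ← mul_assoc, inv_mul_cancel, one_mul]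
        rw [e6]
        exact Subgroup.inv_mem _ (Subgroup.mem_zpowers _))
    (by
      intro q h0
      have h1 := LinearMap.congr_fun h0 ⟨e₀, hD.e₀W⟩
      have h2 : ρ ((Quotient.out q : ↥X) : S) e₀ = 0 := congrArg Subtype.val h1
      have h3 : ρ (((Quotient.out q : ↥X) : S)⁻¹) (ρ ((Quotient.out q : ↥X) : S) e₀) = e₀ := by
        show (ρ (((Quotient.out q : ↥X) : S)⁻¹) * ρ ((Quotient.out q : ↥X) : S)) e₀ = e₀
        rw [← map_mul, inv_mul_cancel, map_one]
        rfl
      rw [h2, map_zero] at h3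
      exact hD.e₀ne h3.symm)
  have h4 := finrank_le_four hD
  have h16 : Fintype.card (↥X ⧸ Subgroup.zpowers (⟨z, hXS.zX⟩ : ↥X)) ≤ 16 := by
    refine le_trans hcard ?_
    calc finrank (ZMod 3) ↥W ^ 2 ≤ 4 ^ 2 := Nat.pow_le_pow_left h4 2
      _ = 16 := by norm_num
  have hmul := Subgroup.card_eq_card_quotient_mul_card_subgroup
    (Subgroup.zpowers (⟨z, hXS.zX⟩ : ↥X))
  rw [hmul, hZ2, Nat.card_eq_fintype_card]
  omega

end Cfsg.Agent.Lib.H1.S4415B5W
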