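import Cfsg.Agent.Lib.H24.S4415W2
import Cfsg.Agent.Lib.H10.S4415Defs

/-!
helper1: piece (T) of helper24's FrameStmt producer for S4415 (GOOD block):
`R<b>` permutes the occurring sign-weights of an `R<b>`-normal commutative subgroup `A`
transitively, because `W` is irreducible.
-/

set_option autoImplicit false

namespace Cfsg.Agent.Lib.H1.S4415WT

open Cfsg.Agent.Lib.H10.S4415 Cfsg.Agent.Lib.H24.S4415W

variable {S E : Type*} [Group S] [AddCommGroup E] [Module (ZMod 3) E]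
variable {ρ : Representation (ZMod 3) S E} {R : Subgroup S} {b : S} {W : Submodule (ZMod 3) E}

/-- The sum of the weight spaces in the orbit of `χ₀`. -/
def orbSum (ρ : Representation (ZMod 3) S E) (A Γ : Subgroup S)
    (hAn : ∀ g ∈ Γ, ∀ a ∈ A, g * a * g⁻¹ ∈ A) (W : Submodule (ZMod 3) E)
    (χ₀ : ↥A → ZMod 3) : Submodule (ZMod 3) E :=
  ⨆ g : ↥Γ, Vw ρ A W (act A Γ hAn g χ₀)

theorem orbSum_le_W (A Γ : Subgroup S) (hAn : ∀ g ∈ Γ, ∀ a ∈ A, g * a * g⁻¹ ∈ A)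
    (χ₀ : ↥A → ZMod 3) : orbSum ρ A Γ hAn W χ₀ ≤ W :=
  iSup_le fun _ => Vw_le_W ρ A W _

theorem Vw_le_orbSum (A Γ : Subgroup S) (hAn : ∀ g ∈ Γ, ∀ a ∈ A, g * a * g⁻¹ ∈ A)
    (χ₀ : ↥A → ZMod 3) : Vw ρ A W χ₀ ≤ orbSum ρ A Γ hAn W χ₀ := by
  have h := le_iSup (fun g : ↥Γ => Vw ρ A W (act A Γ hAn g χ₀)) 1
  simp only [act_one] at h
  exact h

theorem orbSum_inv (A Γ : Subgroup S) (hAn : ∀ g ∈ Γ, ∀ a ∈ A, g * a * g⁻¹ ∈ A)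
    (hW : ∀ g ∈ Γ, ∀ w ∈ W, ρ g w ∈ W)
    (χ₀ : ↥A → ZMod 3) : ∀ g ∈ Γ, ∀ w ∈ orbSum ρ A Γ hAn W χ₀,
      ρ g w ∈ orbSum ρ A Γ hAn W χ₀ := by
  intro g hg w hw
  have hmap : Submodule.map (ρ g) (orbSum ρ A Γ hAn W χ₀) ≤ orbSum ρ A Γ hAn W χ₀ := by
    unfold orbSum
    rw [Submodule.map_iSup]
    apply iSup_le
    intro h
    rintro _ ⟨v, hv, rfl⟩
    have h1 := map_Vw hAn ρ W hW ⟨g, hg⟩ (act A Γ hAn h χ₀) hv
    rw [← act_mul] at h1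
    exact (le_iSup (fun k : ↥Γ => Vw ρ A W (act A Γ hAn k χ₀)) (⟨g, hg⟩ * h)) h1
  exact hmap ⟨w, hw, rfl⟩

/-- (T): transitivity of `R<b>` on the occurring weights. -/
theorem weights_transitive [Finite S] [Finite E] (hL : LinCtx ρ R b W) (A : Subgroup S)
    (hAn : ∀ g ∈ RB R b, ∀ a ∈ A, g * a * g⁻¹ ∈ A)
    (hAc : ∀ a ∈ A, ∀ a' ∈ A, a * a' = a' * a) (χ₀ χ : ↥A → ZMod 3)
    (h₀ : Vw ρ A W χ₀ ≠ ⊥) (h : Vw ρ A W χ ≠ ⊥) :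
    ∃ g : ↥(RB R b), act A (RB R b) hAn g χ₀ = χ := by
  by_contra hno'
  have hno : ∀ g : ↥(RB R b), act A (RB R b) hAn g χ₀ ≠ χ := fun g hg => hno' ⟨g, hg⟩
  have hW : ∀ g ∈ RB R b, ∀ w ∈ W, ρ g w ∈ W := hL.W_inv
  have hNW : orbSum ρ A (RB R b) hAn W χ₀ = W := by
    rcases hL.irred _ (orbSum_le_W A (RB R b) hAn χ₀)
      (orbSum_inv A (RB R b) hAn hW χ₀) with h1 | h1
    · exfalso
      apply h₀
      have := Vw_le_orbSum (ρ := ρ) (W := W) A (RB R b) hAn χ₀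
      rw [h1] at this
      exact le_bot_iff.mp this
    · exact h1
  have hle : orbSum ρ A (RB R b) hAn W χ₀ ≤
      ⨆ (ψ : ↥A → ZMod 3) (_ : ψ ≠ χ), Vw ρ A W ψ :=
    iSup_le fun g => Vw_le_biSup ρ A W (hno g)
  obtain ⟨w, hw, hw0⟩ := Submodule.exists_mem_ne_zero_of_ne_bot h
  have hwN : w ∈ orbSum ρ A (RB R b) hAn W χ₀ := by
    rw [hNW]; exact hw.1
  have hd := (Vw_indep ρ A W hAc) χ
  exact hw0 ((Submodule.disjoint_def.mp hd) w hw (hle hwN))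

end Cfsg.Agent.Lib.H1.S4415WT
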