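import Cfsg.Agent.Lib.H24.S4415W3
import Cfsg.Agent.Lib.H1.S4415WT
import Cfsg.Agent.Lib.H21.S4415LUF
import Cfsg.Agent.Lib.H2.S4415SN

/-!
helper1: final assembly of the monomial frame (`FrameStmt`) of S4415 (GOOD block) from the
farm-out pieces (S), (N), (T), (L), (U), (M).
-/

set_option autoImplicit false

namespace Cfsg.Agent.Lib.H1.S4415FR

open Cfsg.Agent.Lib.H10.S4415 Cfsg.Agent.Lib.H24.S4415W Cfsg.Agent.Lib.H24.S4415G

/-- (P3): a permutation of order three moving only one triple is a `3`-cycle. -/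
theorem perm_three {I : Type*} [Fintype I] [DecidableEq I] (σ : Equiv.Perm I) (i : I)
    (hi : σ i ≠ i) (h3 : ∀ j, σ (σ (σ j)) = j)
    (hu : ∀ j, σ j ≠ j → j = i ∨ j = σ i ∨ j = σ (σ i)) : σ.IsThreeCycle := by
  rw [← card_support_eq_three_iff, Finset.card_eq_three]
  have h12 : σ i ≠ σ (σ i) := fun h => hi (σ.injective h).symm
  have h13 : i ≠ σ (σ i) := by
    intro h
    apply hi
    have := h3 i
    rw [← h] at this
    exact this
  refine ⟨i, σ i, σ (σ i), fun h => hi h.symm, h13, h12, ?_⟩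
  ext j
  simp only [Equiv.Perm.mem_support, Finset.mem_insert, Finset.mem_singleton]
  constructor
  · exact hu j
  · rintro (rfl | rfl | rfl)
    · exact hi
    · exact fun h => h12 h.symm
    · rw [h3]; exact h13

variable {S E : Type*} [Group S] [AddCommGroup E] [Module (ZMod 3) E]
variable {ρ : Representation (ZMod 3) S E} {R : Subgroup S} {b : S} {W : Submodule (ZMod 3) E}
  {x₁ x₂ x₃ : S} {e₁ e₂ e₃ : E}

theorem pm_of_ne_zero : ∀ c : ZMod 3, c ≠ 0 → c = 1 ∨ c = -1 := by decide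

theorem pm_of_sq : ∀ c : ZMod 3, c * c = 1 → c = 1 ∨ c = -1 := by decide

theorem bRB_cube (hL : LinCtx ρ R b W) : bRB R b * bRB R b * bRB R b = 1 := by
  apply Subtype.ext
  show b * b * b = 1
  have := pow_orderOf_eq_one b
  rw [hL.b_ord, pow_succ, pow_two] at this
  exact this

/-- every occurring weight space is a line, once one moved occurring weight exists. -/
theorem all_lines [Finite S] [Finite E] (hL : LinCtx ρ R b W)
    (hQ : QData ρ R b W x₁ x₂ x₃ e₁ e₂ e₃) (A : Subgroup S)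
    (hAn : ∀ g ∈ RB R b, ∀ a ∈ A, g * a * g⁻¹ ∈ A)
    (hAc : ∀ a ∈ A, ∀ a' ∈ A, a * a' = a' * a)
    (hβ3 : ∀ χ : ↥A → ZMod 3, act A (RB R b) hAn (bRB R b)
      (act A (RB R b) hAn (bRB R b) (act A (RB R b) hAn (bRB R b) χ)) = χ)
    (χ₁ : ↥A → ZMod 3) (hχ₁ : Vw ρ A W χ₁ ≠ ⊥)
    (hmv : act A (RB R b) hAn (bRB R b) χ₁ ≠ χ₁) :
    ∀ χ : ↥A → ZMod 3, Vw ρ A W χ ≠ ⊥ →
      ∃ v ∈ Vw ρ A W χ, v ≠ 0 ∧ ∀ w ∈ Vw ρ A W χ, ∃ c : ZMod 3, w = c • v := by
  have hW : ∀ g ∈ RB R b, ∀ w ∈ W, ρ g w ∈ W := hL.W_inv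
  obtain ⟨v₁, hv₁, hv₁0⟩ := Submodule.exists_mem_ne_zero_of_ne_bot hχ₁
  have hline₁ := Cfsg.Agent.Lib.H21.S4415LUF.line_of_moved (Vw ρ A W) (Vw_indep ρ A W hAc)
    (Vw_le_W ρ A W) (act A (RB R b) hAn (bRB R b))
    (fun χ v hv => map_Vw hAn ρ W hW (bRB R b) χ hv) hβ3 hQ χ₁ hmv v₁ hv₁ hv₁0
  intro χ hχ
  obtain ⟨g, hg⟩ := Cfsg.Agent.Lib.H1.S4415WT.weights_transitive hL A hAn hAc χ₁ χ hχ₁ hχ
  refine ⟨ρ (g : S) v₁, ?_, ?_, ?_⟩
  · have := map_Vw hAn ρ W hW g χ₁ hv₁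
    rwa [hg] at this
  · intro h0
    apply hv₁0
    have h2 := rho_inv_rho ρ (g : S) v₁
    rw [h0, map_zero] at h2
    exact h2.symm
  · intro w hw
    have h1 : ρ ((g⁻¹ : ↥(RB R b)) : S) w ∈ Vw ρ A W χ₁ := by
      have := map_Vw hAn ρ W hW g⁻¹ χ hw
      rwa [← hg, act_inv_act] at this
    obtain ⟨c, hc⟩ := hline₁ _ h1
    refine ⟨c, ?_⟩
    have h2 : ρ (g : S) (ρ ((g⁻¹ : ↥(RB R b)) : S) w) = w := by
      rw [Subgroup.coe_inv]; exact rho_rho_inv ρ (g : S) w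
    rw [← h2, hc, map_smul]

/-- The assembly of the monomial frame from the weight-space facts. -/
theorem frame_core [Finite S] [Finite E] (hL : LinCtx ρ R b W)
    (hQ : QData ρ R b W x₁ x₂ x₃ e₁ e₂ e₃) (A : Subgroup S) (hAR : A ≤ R)
    (hAn : ∀ g ∈ RB R b, ∀ a ∈ A, g * a * g⁻¹ ∈ A)
    (hAc : ∀ a ∈ A, ∀ a' ∈ A, a * a' = a' * a) (hA2 : ∀ a ∈ A, a * a = 1)
    (hS : W ≤ ⨆ χ : ↥A → ZMod 3, Vw ρ A W χ)
    (htwo : ∃ χ ψ : ↥A → ZMod 3, Vw ρ A W χ ≠ ⊥ ∧ Vw ρ A W ψ ≠ ⊥ ∧ χ ≠ ψ)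
    (a₀ : ↥A) (h1 : ¬ ∀ w ∈ W, ρ (a₀ : S) w = w) (h2 : ¬ ∀ w ∈ W, ρ (a₀ : S) w = -w) :
    ∃ (n : ℕ) (f : Fin n → E) (φ : ↥(RB R b) → Equiv.Perm (Fin n)),
      MonoFrame ρ R b W f φ := by
  classical
  have hW : ∀ g ∈ RB R b, ∀ w ∈ W, ρ g w ∈ W := hL.W_inv
  have hT : ∀ χ₀ χ : ↥A → ZMod 3, Vw ρ A W χ₀ ≠ ⊥ → Vw ρ A W χ ≠ ⊥ →
      ∃ g : ↥(RB R b), act A (RB R b) hAn g χ₀ = χ :=
    fun χ₀ χ h₀ h => Cfsg.Agent.Lib.H1.S4415WT.weights_transitive hL A hAn hAc χ₀ χ h₀ h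
  obtain ⟨χ₁, hχ₁, hmv⟩ := exists_moved hL A hAn hT htwo
  have hβ : ∀ χ : ↥A → ZMod 3, ∀ v ∈ Vw ρ A W χ,
      ρ b v ∈ Vw ρ A W (act A (RB R b) hAn (bRB R b) χ) :=
    fun χ v hv => map_Vw hAn ρ W hW (bRB R b) χ hv
  have hβ3 : ∀ χ : ↥A → ZMod 3, act A (RB R b) hAn (bRB R b)
      (act A (RB R b) hAn (bRB R b) (act A (RB R b) hAn (bRB R b) χ)) = χ := by
    intro χ
    rw [← act_mul, ← act_mul, bRB_cube hL, act_one]
  have hlines := all_lines hL hQ A hAn hAc hβ3 χ₁ hχ₁ hmv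
  -- the index type of occurring weights
  let I₀ : Type _ := {χ : ↥A → ZMod 3 // Vw ρ A W χ ≠ ⊥}
  have : Finite I₀ := Subtype.finite
  let e : Fin (Nat.card I₀) ≃ I₀ := (Finite.equivFin I₀).symm
  -- the chosen vectors
  let fv : I₀ → E := fun i => Classical.choose (hlines i.1 i.2)
  have hfv : ∀ i : I₀, fv i ∈ Vw ρ A W i.1 ∧ fv i ≠ 0 ∧
      ∀ w ∈ Vw ρ A W i.1, ∃ c : ZMod 3, w = c • fv i := fun i =>
    Classical.choose_spec (hlines i.1 i.2)
  -- the permutation action on I₀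
  let pI : ↥(RB R b) → I₀ → I₀ := fun g i =>
    ⟨act A (RB R b) hAn g i.1, Vw_ne_bot_act hAn ρ W hW g i.1 i.2⟩
  let permI : ↥(RB R b) → Equiv.Perm I₀ := fun g =>
    { toFun := pI g
      invFun := pI g⁻¹
      left_inv := fun i => Subtype.ext (act_inv_act hAn g i.1)
      right_inv := fun i => Subtype.ext (act_act_inv hAn g i.1) }
  let φ : ↥(RB R b) → Equiv.Perm (Fin (Nat.card I₀)) := fun g =>
    (e.trans (permI g)).trans e.symm
  have hφ : ∀ g k, (e (φ g k)).1 = act A (RB R b) hAn g (e k).1 := by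
    intro g k
    show (e (e.symm (pI g (e k)))).1 = _
    rw [Equiv.apply_symm_apply]
  let f : Fin (Nat.card I₀) → E := fun k => fv (e k)
  have hfmem : ∀ k, f k ∈ Vw ρ A W (e k).1 := fun k => (hfv (e k)).1
  have hf0 : ∀ k, f k ≠ 0 := fun k => (hfv (e k)).2.1
  have hfline : ∀ k, ∀ w ∈ Vw ρ A W (e k).1, ∃ c : ZMod 3, w = c • f k := fun k => (hfv (e k)).2.2
  have hspan : ∀ w ∈ W, w ∈ Submodule.span (ZMod 3) (Set.range f) := by
    intro w hw
    have hle : (⨆ χ : ↥A → ZMod 3, Vw ρ A W χ) ≤ Submodule.span (ZMod 3) (Set.range f) := by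
      apply iSup_le
      intro χ v hv
      by_cases hχ : Vw ρ A W χ = ⊥
      · rw [hχ, Submodule.mem_bot] at hv
        rw [hv]; exact Submodule.zero_mem _
      · have hek : (e (e.symm ⟨χ, hχ⟩)).1 = χ := by rw [Equiv.apply_symm_apply]
        have hv' : v ∈ Vw ρ A W (e (e.symm ⟨χ, hχ⟩)).1 := by rw [hek]; exact hv
        obtain ⟨c, hc⟩ := hfline _ v hv'
        rw [hc]
        exact Submodule.smul_mem _ _ (Submodule.subset_span ⟨_, rfl⟩)
    exact hle (hS hw)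
  refine ⟨Nat.card I₀, f, φ, ?_⟩
  refine
    { fW := fun k => (hfmem k).1
      indep := ?_
      span := hspan
      mono := ?_
      trans := ?_
      three := ?_
      nonscalar := ?_ }
  · -- independence
    have hind : iSupIndep (fun k : Fin (Nat.card I₀) => Vw ρ A W (e k).1) := by
      have := (Vw_indep ρ A W hAc).comp (f := fun k : Fin (Nat.card I₀) => (e k).1)
        (fun k l hkl => e.injective (Subtype.ext hkl))
      exact this
    exact hind.linearIndependent _ hfmem hf0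
  · -- monomial
    intro g k
    have h1 : ρ (g : S) (f k) ∈ Vw ρ A W (e (φ g k)).1 := by
      rw [hφ]
      exact map_Vw hAn ρ W hW g _ (hfmem k)
    obtain ⟨c, hc⟩ := hfline _ _ h1
    have hc0 : c ≠ 0 := by
      intro h0
      rw [h0, zero_smul] at hc
      apply hf0 k
      have h2 := rho_inv_rho ρ (g : S) (f k)
      rw [hc, map_zero] at h2
      exact h2.symm
    rcases pm_of_ne_zero c hc0 with rfl | rfl
    · left; rw [hc, one_smul]
    · right; rw [hc, neg_smul, one_smul]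
  · -- transitive
    intro i j
    obtain ⟨g, hg⟩ := hT (e i).1 (e j).1 (e i).2 (e j).2
    refine ⟨g, ?_⟩
    apply e.injective
    apply Subtype.ext
    rw [hφ, hg]
  · -- three-cycle
    apply perm_three (φ (bRB R b)) (e.symm ⟨χ₁, hχ₁⟩)
    · intro h
      apply hmv
      have := hφ (bRB R b) (e.symm ⟨χ₁, hχ₁⟩)
      rw [h, Equiv.apply_symm_apply] at this
      exact this.symm
    · intro j
      apply e.injective
      apply Subtype.ext
      rw [hφ, hφ, hφ, hβ3]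
    · intro j hj
      have hjm : act A (RB R b) hAn (bRB R b) (e j).1 ≠ (e j).1 := by
        intro h
        apply hj
        apply e.injective
        apply Subtype.ext
        rw [hφ, h]
      have hu := Cfsg.Agent.Lib.H21.S4415LUF.moved_unique (Vw ρ A W) (Vw_indep ρ A W hAc)
        (Vw_le_W ρ A W) (act A (RB R b) hAn (bRB R b)) hβ hβ3 hQ χ₁ (e j).1 hmv hjm
        (Submodule.exists_mem_ne_zero_of_ne_bot hχ₁) ⟨f j, hfmem j, hf0 j⟩
      have hχe : (e (e.symm ⟨χ₁, hχ₁⟩)).1 = χ₁ := by rw [Equiv.apply_symm_apply]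
      rcases hu with hu | hu | hu
      · left
        apply e.injective
        apply Subtype.ext
        rw [hu, hχe]
      · right; left
        apply e.injective
        apply Subtype.ext
        rw [hu, hφ, hχe]
      · right; right
        apply e.injective
        apply Subtype.ext
        rw [hu, hφ, hφ, hχe]
  · -- non-scalar element
    have ha₀Γ : (a₀ : S) ∈ RB R b := R_le_RB R b (hAR a₀.2)
    have hval : ∀ k, ρ (a₀ : S) (f k) = f k ∨ ρ (a₀ : S) (f k) = -f k := by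
      intro k
      have h3 := (hfmem k).2 a₀
      have h4 : ρ (a₀ : S) (ρ (a₀ : S) (f k)) = f k := by
        have : ρ (a₀ : S) (ρ (a₀ : S) (f k)) = ρ ((a₀ : S) * (a₀ : S)) (f k) := by
          rw [map_mul]; rfl
        rw [this, hA2 _ a₀.2, map_one]; rfl
      have h5 : ((e k).1 a₀ * (e k).1 a₀ - 1) • f k = 0 := by
        rw [sub_smul, one_smul, mul_smul, ← h3, ← map_smul, ← h3, h4, sub_self]
      have h6 : (e k).1 a₀ * (e k).1 a₀ = 1 :=
        sub_eq_zero.mp ((smul_eq_zero.mp h5).resolve_right (hf0 k))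
      rcases pm_of_sq _ h6 with h7 | h7
      · left; rw [h3, h7, one_smul]
      · right; rw [h3, h7, neg_smul, one_smul]
    refine ⟨⟨(a₀ : S), ha₀Γ⟩, hAR a₀.2, ?_, ?_⟩
    · ext k
      have : φ ⟨(a₀ : S), ha₀Γ⟩ k = k := by
        apply e.injective
        apply Subtype.ext
        rw [hφ, act_of_mem hAn hAc ⟨(a₀ : S), ha₀Γ⟩ a₀.2]
      rw [this]; rfl
    · have hex1 : ∃ i, ρ (a₀ : S) (f i) = f i := by
        by_contra hno
        apply h2
        intro w hw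
        have hEq : Set.EqOn (⇑(ρ (a₀ : S) : E →ₗ[ZMod 3] E))
            (⇑(-(LinearMap.id : E →ₗ[ZMod 3] E))) (Set.range f) := by
          rintro _ ⟨k, rfl⟩
          rcases hval k with h | h
          · exact absurd ⟨k, h⟩ hno
          · simpa using h
        have := LinearMap.eqOn_span hEq (hspan w hw)
        simpa using this
      have hex2 : ∃ j, ρ (a₀ : S) (f j) = -f j := by
        by_contra hno
        apply h1
        intro w hw
        have hEq : Set.EqOn (⇑(ρ (a₀ : S) : E →ₗ[ZMod 3] E))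
            (⇑(LinearMap.id : E →ₗ[ZMod 3] E)) (Set.range f) := by
          rintro _ ⟨k, rfl⟩
          rcases hval k with h | h
          · simpa using h
          · exact absurd ⟨k, h⟩ hno
        have := LinearMap.eqOn_span hEq (hspan w hw)
        simpa using this
      obtain ⟨i, hi⟩ := hex1
      obtain ⟨j, hj⟩ := hex2
      exact ⟨i, j, hi, hj⟩

universe u v

/-- The producer piece of the GOOD block: the monomial frame. -/
theorem frame : FrameStmt.{u, v} := by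
  intro S _ _ E _ _ _ ρ R b W x₁ x₂ x₃ e₁ e₂ e₃ hL hQ hbad
  have hex : ∃ A : Subgroup S, A ≤ R ∧ NormBy (RB R b) A ∧ Cfsg.IsElementaryAbelian 2 A ∧
      ∃ a ∈ A, (¬ ∀ w ∈ W, ρ a w = w) ∧ (¬ ∀ w ∈ W, ρ a w = -w) := by
    by_contra hno
    apply hbad
    intro A hAR hAn hEA a ha
    by_contra hcon
    rw [not_or] at hcon
    exact hno ⟨A, hAR, hAn, hEA, a, ha, hcon.1, hcon.2⟩
  obtain ⟨A, hAR, hAn, hEA, a, haA, h1, h2⟩ := hex
  have hAc : ∀ a ∈ A, ∀ a' ∈ A, a * a' = a' * a := by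
    intro a ha a' ha'
    have := hEA.1.is_comm.comm (⟨a, ha⟩ : ↥A) ⟨a', ha'⟩
    exact congrArg Subtype.val this
  have hA2 : ∀ a ∈ A, a * a = 1 := by
    intro a ha
    have := hEA.2 a ha
    rwa [pow_two] at this
  have hWA : ∀ a ∈ A, ∀ w ∈ W, ρ a w ∈ W := fun a ha w hw =>
    hL.W_inv a (R_le_RB R b (hAR ha)) w hw
  have hS := Cfsg.Agent.Lib.H2.S4415SN.W_le_iSup_Vw ρ A hAc hA2 W hWA
  have hN := Cfsg.Agent.Lib.H2.S4415SN.two_weights ρ A hAc hA2 W hWA ⟨a, haA⟩ h1 h2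
  exact frame_core hL hQ A hAR hAn hAc hA2 hS hN ⟨a, haA⟩ h1 h2

end Cfsg.Agent.Lib.H1.S4415FR
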