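/-
S4625 (architect helper6), piece EXC (helper1): `SylEA (D.group F)` for the Chevalley groups of type
`G₂, F₄, E₆, E₇, E₈` over a finite field of characteristic 2.  `U = posUnipotent` is a Sylow `2`-subgroup
(`Lib/H12/ChevStC.exists_sylow`) and is generated by the root elements `x_r(t)`, `r > 0`, which are involutions:
`x_r(t)² = x_r(2t) = x_r(0) = 1`.
-/
import Mathlib
import Cfsg.Prelude.Def_LieTypeChar
import Cfsg.Agent.Lib.H6.SEADefs
import Cfsg.Agent.Lib.H29.ChevCert12
import Cfsg.Agent.Lib.H12.ChevStC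

set_option autoImplicit false
set_option linter.unusedSectionVars false
set_option linter.unusedVariables false

namespace Cfsg.Agent.Lib.H1.SEA

open Cfsg Cfsg.Agent.Lib.H6.SEA

/-- generation passes to `subgroupOf` when the generators lie in the subgroup (local copy, light imports) -/
theorem subgroupOf_le_closure_coe {G : Type*} [Group G] (K U : Subgroup G) (S : Set G)
    (hSK : S ⊆ (K : Set G)) (hgen : U ≤ Subgroup.closure S) :
    U.subgroupOf K ≤ Subgroup.closure {x : ↥K | (x : G) ∈ S} := by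
  have hmap : (Subgroup.closure {x : ↥K | (x : G) ∈ S}).map K.subtype = Subgroup.closure S := by
    rw [MonoidHom.map_closure]
    congr 1
    ext g
    constructor
    · rintro ⟨x, hx, rfl⟩
      exact hx
    · intro hg
      exact ⟨⟨g, hSK hg⟩, hg, rfl⟩
  intro x hx
  have hx' : (x : G) ∈ Subgroup.closure S := hgen (Subgroup.mem_subgroupOf.mp hx)
  rw [← hmap] at hx'
  obtain ⟨y, hy, hyx⟩ := hx'
  have : y = x := Subtype.ext hyx
  rw [← this]
  exact hy

/-- `SylEA` for a Chevalley group with a `Cert12` certificate, in characteristic 2 -/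
theorem sylEA_of_cert12 {F : Type*} [Field F] [Fintype F] [CharP F 2] {D : Lie.ChevalleyDatum}
    {fd : Cfsg.Agent.Lib.H29.Chev.FD} {fx : Cfsg.Agent.Lib.H29.Chev.FX}
    {fc : Cfsg.Agent.Lib.H29.Chev.FC} {fz : Cfsg.Agent.Lib.H29.Chev.FZ}
    (C : Cfsg.Agent.Lib.H29.Chev.Cert12 D fd fx fc fz) : SylEA ↥(D.group F) := by
  classical
  haveI : Fact (Nat.Prime 2) := ⟨Nat.prime_two⟩
  obtain ⟨P, hP⟩ := Cfsg.Agent.Lib.H12.ChevSt.exists_sylow (F := F) C 2
  apply sylEA_of_sylow P
  rw [hP]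
  set S0 : Set (GL D.Idx F) :=
    {g | ∃ (r : ℕ) (t : F), D.IsPosRoot r ∧ (g : Matrix D.Idx D.Idx F) = D.x F r t} with hS0
  have hUS : D.posUnipotent F = Subgroup.closure S0 := rfl
  have hSU0 : S0 ⊆ ((D.posUnipotent F : Subgroup (GL D.Idx F)) : Set (GL D.Idx F)) := by
    rw [hUS]
    exact Subgroup.subset_closure
  have hSK : S0 ⊆ ((D.group F : Subgroup (GL D.Idx F)) : Set (GL D.Idx F)) :=
    fun g hg => Cfsg.Agent.Lib.H12.ChevSt.pos_le_group C (hSU0 hg)
  apply EA.of_gen ((D.posUnipotent F).subgroupOf (D.group F)) {x : ↥(D.group F) | (x : GL D.Idx F) ∈ S0}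
  · intro x hx
    exact Subgroup.mem_subgroupOf.mpr (hSU0 hx)
  · exact subgroupOf_le_closure_coe (D.group F) (D.posUnipotent F) S0 hSK (le_of_eq hUS)
  · intro s hs
    obtain ⟨r, t, -, hval⟩ := hs
    have hs' : (s : GL D.Idx F) = C.c6.c2.xA r t := by
      apply Units.ext
      rw [hval, C.c6.c2.xA_val]
    have h1 : s ^ 2 = 1 := by
      apply Subtype.ext
      rw [Subgroup.coe_pow, Subgroup.coe_one, hs', pow_two, C.c6.c2.xA_mul, CharTwo.add_self_eq_zero,
        C.c6.c2.xA_zero]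
    rw [h1]
    exact Subgroup.one_mem _

/-- EXC : `U = posUnipotent` is a Sylow subgroup (S2326) generated by the involutions `x_r(t)`. -/
theorem sylEA_chev (F : Type*) [Field F] [Fintype F] [CharP F 2] (D : Lie.ChevalleyDatum)
    (hD : D ∈ [Lie.chevG2, Lie.chevF4, Lie.chevE6, Lie.chevE7, Lie.chevE8]) : SylEA ↥(D.group F) := by
  have hD' : D ∈ [Lie.chevG2, Lie.chevB2, Lie.chevD4, Lie.chevF4, Lie.chevE6, Lie.chevE7, Lie.chevE8] := by
    simp only [List.mem_cons, List.not_mem_nil, or_false] at hD ⊢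
    tauto
  obtain ⟨fd, fx, fc, fz, C⟩ := Cfsg.Agent.Lib.H29.Chev.cert12_of_mem D hD'
  exact sylEA_of_cert12 C

end Cfsg.Agent.Lib.H1.SEA
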