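/-
S4625 (architect helper6), piece OMINUS (helper1): `SylEA (Ω⁻_{2m+2}(F))`, `F` of characteristic 2, `m ≥ 3`.
The unipotent subgroup `U = UsM` of the (B,N)-pair of `O⁻_{2m+2}(F)` (S2549, helper8) lies in `Ω`, is a `2`-group of odd
index in `Ω` (root data restricted to `Ω`), and is generated by the root elements `xSG k l c`, `xWG k w₀ w₁`, which are
involutions in characteristic 2.
-/
import Mathlib
import Cfsg.Agent.Lib.H8.MBNOmega
import Cfsg.Agent.Lib.H6.SEARoot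

set_option autoImplicit false
set_option linter.unusedSectionVars false
set_option linter.unusedVariables false

namespace Cfsg.Agent.Lib.H1.SEA

open Cfsg Cfsg.Agent.Lib.H6.SEA
open Matrix Cfsg.Agent.Lib.H12.DCos Cfsg.Agent.Lib.H8.FBN Cfsg.Agent.Lib.H8.BNRoot Cfsg.Agent.Lib.H8.BNRes
  Cfsg.Agent.Lib.H8.BNSteinberg Cfsg.Agent.Lib.H8.MBN
open Cfsg.Agent.Lib.H8.MBNP
open Cfsg.Agent.Lib.H13.OddSt (commutatorCongr)
open scoped Pointwise

/-- generation passes to `subgroupOf` when the generators lie in the subgroup -/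
theorem subgroupOf_le_closure_preimage {G : Type*} [Group G] (K U : Subgroup G) (S : Set G)
    (hSK : S ⊆ (K : Set G)) (hgen : U ≤ Subgroup.closure S) :
    U.subgroupOf K ≤ Subgroup.closure {x : ↥K | (x : G) ∈ S} := by
  have hmap : (Subgroup.closure {x : ↥K | (x : G) ∈ S}).map K.subtype = Subgroup.closure S := by
    rw [MonoidHom.map_closure]
    congr 1
    ext g
    constructor
    · rintro ⟨x, hx, rfl⟩
      exact hx
    · intro hg
      exact ⟨⟨g, hSK hg⟩, hg, rfl⟩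
  intro x hx
  have hx' : (x : G) ∈ Subgroup.closure S := hgen (Subgroup.mem_subgroupOf.mp hx)
  rw [← hmap] at hx'
  obtain ⟨y, hy, hyx⟩ := hx'
  have : y = x := Subtype.ext hyx
  rw [← this]
  exact hy

variable {F : Type*} [Field F] [Fintype F] {m : ℕ} (a b : F)

/-- the Siegel root elements are involutions in characteristic 2 -/
theorem xSG_sq [CharP F 2] (k l : Fin (2 * m + 2)) (hk : ¬ IsMid k) (hl : ¬ IsMid l) (hkl : k ≠ l) (c : F) :
    xSG (m := m) a b k l c ^ 2 = 1 := by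
  rw [pow_two, xSG_mul a b k l hk hl hkl, CharTwo.add_self_eq_zero, xSG_zero]

/-- the Eichler root elements are involutions in characteristic 2 -/
theorem xWG_sq [CharP F 2] (k : Fin (2 * m + 2)) (hk : ¬ IsMid k) (w₀ w₁ : F) :
    xWG (m := m) a b k w₀ w₁ ^ 2 = 1 := by
  rw [pow_two, xWG_mul a b k hk, CharTwo.add_self_eq_zero, CharTwo.add_self_eq_zero, xWG_zero]

/-- `SylEA` for `Ω = [GM, GM]` in the flag coordinates -/
theorem sylEA_commutator_GM [CharP F 2]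
    (hab : ∀ z₁ z₂ : F, z₁ ^ 2 + a * z₁ * z₂ + b * z₂ ^ 2 = 0 → z₁ = 0 ∧ z₂ = 0)
    (h12 : Fintype.card F ≠ 2 ∨ m ≠ 1) :
    SylEA ↥(commutator ↥(GM (m := m) a b)) := by
  classical
  have : Fact (Nat.Prime 2) := ⟨Nat.prime_two⟩
  let P := minusBN (m := m) a b hab
  let D := minusRootData (m := m) a b hab
  let G' : Subgroup ↥(GM (m := m) a b) := commutator ↥(GM (m := m) a b)
  have covers' : ∀ h : ↥(GM (m := m) a b), ∃ t ∈ HsM (m := m) a b, h * t ∈ G' := covers_GM a b hab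
  have hcov : Covers P G' := by
    intro h
    obtain ⟨t, ht, h'⟩ := covers' h
    exact ⟨t, ⟨HsM_le_BsM ht, HsM_le_NsM ht⟩, h'⟩
  choose τ hτ1 hτ2 using covers'
  have hτ : ∀ s ∈ P.S, τ s ∈ P.B ⊓ P.N := fun s _ => ⟨HsM_le_BsM (hτ1 s), HsM_le_NsM (hτ1 s)⟩
  have hτG : ∀ s ∈ P.S, s * τ s ∈ G' := fun s _ => hτ2 s
  have hτT : ∀ i, τ (D.e i) ∈ D.T := fun i => hτ1 _
  have hUG : D.U ≤ G' := UsM_le_commutator a b hab
  have hXG : ∀ i, D.X i ⊆ ((G' : Subgroup ↥(GM (m := m) a b)) : Set ↥(GM (m := m) a b)) :=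
    fun i x hx => hUG (XM_subset_UsM i hx)
  have hYG : ∀ i, D.Y i ⊆ ((G' : Subgroup ↥(GM (m := m) a b)) : Set ↥(GM (m := m) a b)) :=
    fun i y hy => YM_subset_commutator a b hab i y hy
  let D' := D.restrict G' hcov τ hτ hτG hτT hXG hYG hUG
  have hU' : IsPGroup 2 ↥D'.U := by
    have h1 : IsPGroup 2 ↥(UsM (m := m) a b) := UsM_isPGroup a b 2
    exact h1.of_injective (Subgroup.subgroupOfEquivOfLe hUG).toMonoidHom
      (Subgroup.subgroupOfEquivOfLe hUG).injective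
  have hT' : (Nat.card ↥D'.T).Coprime 2 := by
    have hpp : (2 : ℕ).Prime := Nat.prime_two
    rw [Nat.coprime_comm, Nat.Prime.coprime_iff_not_dvd hpp]
    intro hdvd
    have hT : D'.T = (HsM (m := m) a b).subgroupOf G' := rfl
    rw [hT] at hdvd
    have : Finite ↥((HsM (m := m) a b).subgroupOf G') := inferInstance
    obtain ⟨x, hx⟩ := exists_prime_orderOf_dvd_card' 2 hdvd
    have hx1 : x ^ 2 = 1 := by
      have h0 := pow_orderOf_eq_one x
      rwa [hx] at h0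
    have hxH : ((x : ↥G') : ↥(GM (m := m) a b)) ∈ HsM a b := Subgroup.mem_subgroupOf.mp x.2
    have hxΩ : ((x : ↥G') : ↥(GM (m := m) a b)) ∈ commutator ↥(GM (m := m) a b) := (x : ↥G').2
    have hxp : ((x : ↥G') : ↥(GM (m := m) a b)) ^ 2 = 1 := by
      have := congrArg (fun z : ↥((HsM (m := m) a b).subgroupOf G') => ((z : ↥G') : ↥(GM (m := m) a b))) hx1
      simpa using this
    have h1 := eq_one_of_pow_p a b 2 hab h12 _ hxH hxΩ hxp
    have hx' : x = 1 := by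
      apply Subtype.ext
      apply Subtype.ext
      exact h1
    rw [hx', orderOf_one] at hx
    exact hpp.one_lt.ne hx
  -- the generators
  let S₀ : Set ↥(GM (m := m) a b) :=
    {x | ∃ (k l : Fin (2 * m + 2)) (c : F), ¬ IsMid k ∧ ¬ IsMid l ∧ k < l ∧ k ≠ l.rev ∧ x = xSG a b k l c} ∪
      {x | ∃ (k : Fin (2 * m + 2)) (w₀ w₁ : F), (k : ℕ) < m ∧ x = xWG a b k w₀ w₁}
  have hS₀G : S₀ ⊆ ((G' : Subgroup ↥(GM (m := m) a b)) : Set ↥(GM (m := m) a b)) := by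
    rintro x (⟨k, l, c, hk, hl, hkl, hkl', rfl⟩ | ⟨k, w₀, w₁, hk, rfl⟩)
    · exact xSG_mem_commutator a b hab k l hk hl (ne_of_lt hkl) hkl' c
    · exact xWG_mem_commutator a b hab k (not_isMid_of_lt hk) w₀ w₁
  have hS₀U : S₀ ⊆ ((UsM (m := m) a b : Subgroup ↥(GM (m := m) a b)) : Set ↥(GM (m := m) a b)) := by
    rintro x (⟨k, l, c, hk, hl, hkl, hkl', rfl⟩ | ⟨k, w₀, w₁, hk, rfl⟩)
    · exact Cfsg.Agent.Lib.H25.MBN.xSG_mem_UsM a b k l hk hl hkl hkl' c
    · exact Cfsg.Agent.Lib.H25.MBN.xWG_mem_UsM a b k hk w₀ w₁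
  have hsq₀ : ∀ x ∈ S₀, x ^ 2 = 1 := by
    rintro x (⟨k, l, c, hk, hl, hkl, hkl', rfl⟩ | ⟨k, w₀, w₁, hk, rfl⟩)
    · exact xSG_sq a b k l hk hl (ne_of_lt hkl) c
    · exact xWG_sq a b k (not_isMid_of_lt hk) w₀ w₁
  let S : Set ↥G' := {x | (x : ↥(GM (m := m) a b)) ∈ S₀}
  have hgen : D'.U ≤ Subgroup.closure S :=
    subgroupOf_le_closure_preimage G' (UsM (m := m) a b) S₀ hS₀G (UsM_le_closure a b)
  have hSU : S ⊆ ((D'.U : Subgroup ↥G') : Set ↥G') := by
    intro x hx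
    exact Subgroup.mem_subgroupOf.mpr (hS₀U hx)
  refine sylEA_of_rootData D' hU' hT' S hSU hgen ?_
  intro s hs
  have h1 : (s : ↥(GM (m := m) a b)) ^ 2 = 1 := hsq₀ _ hs
  have h2 : s ^ 2 = 1 := by
    apply Subtype.ext
    simpa using h1
  rw [h2]
  exact Subgroup.one_mem _

/-- OMINUS : `Ω⁻_{2m+2}(F)`, `m ≥ 3`, characteristic 2. -/
theorem sylEA_OmegaMinus (F : Type*) [Field F] [Fintype F] [CharP F 2] (m : ℕ) (hm : 3 ≤ m) (a b : F)
    (hab : ∀ z₁ z₂ : F, z₁ ^ 2 + a * z₁ * z₂ + b * z₂ ^ 2 = 0 → z₁ = 0 ∧ z₂ = 0) :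
    SylEA (Omega F (quadFormMinus m F a b)) :=
  SylEA.of_equiv (commutatorCongr (isoM a b)).symm
    (sylEA_commutator_GM a b hab (Or.inr (by omega)))

end Cfsg.Agent.Lib.H1.SEA
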