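import Mathlib
import Cfsg.Agent.Lib.L0.SFDefs
import Cfsg.Agent.Lib.H4.SFB3

set_option autoImplicit false

/-!
S4130-B4 (lead's farm-out): the upper bound `(p+1)·c + 1 ≤ |P|` for a perfect group with an abelian Sylow
`p`-subgroup for the smallest prime `p`.
-/

namespace Cfsg.Agent.Lib.H1.SF

/-- index of the centraliser of an element = size of its conjugacy class. -/
theorem index_centralizer_eq_card_carrier {H : Type*} [Group H] (g : H) :
    (Subgroup.centralizer ({g} : Set H)).index = Nat.card (ConjClasses.mk g).carrier := by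
  have h1 := MulAction.index_stabilizer (ConjAct H) g
  rw [ConjAct.orbit_eq_carrier_conjClasses, ← Nat.card_coe_set_eq] at h1
  rw [← h1, ConjAct.stabilizer_eq_centralizer]
  rfl

/-- every `N_G(P)`-orbit on `P \ 1` has at least `p + 1` elements, all of them `G`-conjugate. -/
theorem succ_le_card_fiber {G : Type*} [Group G] [Finite G] {p : ℕ} [Fact p.Prime]
    (hmin : ∀ q : ℕ, q.Prime → q ∣ Nat.card G → p ≤ q) (P : Sylow p G)
    (hab : ∀ a ∈ P, ∀ b ∈ P, a * b = b * a) (hperf : commutator G = ⊤) (u : G)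
    (hu : u ∈ (P : Subgroup G)) (hu1 : u ≠ 1) :
    p + 1 ≤ Nat.card {x : G // x ∈ (P : Subgroup G) ∧ x ≠ 1 ∧ ConjClasses.mk x = ConjClasses.mk u} := by
  classical
  have hPN : (P : Subgroup G) ≤ Subgroup.normalizer ((P : Subgroup G) : Set G) := Subgroup.le_normalizer
  let u' : ↥(Subgroup.normalizer ((P : Subgroup G) : Set G)) := ⟨u, hPN hu⟩
  -- step 1: the centraliser of `u` in `N` is proper
  have h1 : (Subgroup.centralizer ({u'} : Set ↥(Subgroup.normalizer ((P : Subgroup G) : Set G)))).index ≠ 1 := by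
    intro h
    rw [Subgroup.index_eq_one] at h
    apply hu1
    apply Cfsg.Agent.Lib.H4.SF.eq_one_of_mem_commutator_of_central_normalizer P hab u hu _ (by rw [hperf]; trivial)
    intro n hn
    have h3 : (⟨n, hn⟩ : ↥(Subgroup.normalizer ((P : Subgroup G) : Set G))) ∈
        Subgroup.centralizer ({u'} : Set ↥(Subgroup.normalizer ((P : Subgroup G) : Set G))) := by
      rw [h]; trivial
    rw [Subgroup.mem_centralizer_iff] at h3
    have h4 := h3 u' rfl
    exact (congrArg Subtype.val h4).symm
  -- step 2: its index divides `|G : P|`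
  have h2 : (Subgroup.centralizer ({u'} : Set ↥(Subgroup.normalizer ((P : Subgroup G) : Set G)))).index ∣
      (P : Subgroup G).index := by
    have hle : (P : Subgroup G).subgroupOf (Subgroup.normalizer ((P : Subgroup G) : Set G)) ≤
        Subgroup.centralizer ({u'} : Set ↥(Subgroup.normalizer ((P : Subgroup G) : Set G))) := by
      intro x hx
      rw [Subgroup.mem_centralizer_iff]
      intro y hy
      rw [Set.mem_singleton_iff] at hy
      rw [hy]
      apply Subtype.ext
      simp only [Subgroup.coe_mul]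
      exact hab u hu x hx
    exact (Subgroup.index_dvd_of_le hle).trans (Dvd.intro _ (Subgroup.relIndex_mul_index hPN))
  -- step 3: so the index is at least `p + 1`
  have h3 : p + 1 ≤
      (Subgroup.centralizer ({u'} : Set ↥(Subgroup.normalizer ((P : Subgroup G) : Set G)))).index := by
    obtain ⟨q, hq, hqd⟩ := Nat.exists_prime_and_dvd h1
    have hqP : q ∣ (P : Subgroup G).index := hqd.trans h2
    have hpq : p ≤ q := hmin q hq (hqP.trans (Subgroup.index_dvd_card _))
    have hne : q ≠ p := by
      intro h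
      rw [h] at hqP
      exact P.not_dvd_index hqP
    have hqle : q ≤
        (Subgroup.centralizer ({u'} : Set ↥(Subgroup.normalizer ((P : Subgroup G) : Set G)))).index :=
      Nat.le_of_dvd (Nat.pos_of_ne_zero Subgroup.index_ne_zero_of_finite) hqd
    omega
  -- step 4: the `N`-class of `u` injects into the fibre
  rw [index_centralizer_eq_card_carrier] at h3
  refine h3.trans ?_
  have key : ∀ x : ↥(Subgroup.normalizer ((P : Subgroup G) : Set G)), x ∈ (ConjClasses.mk u').carrier →
      ((x : G) ∈ (P : Subgroup G) ∧ (x : G) ≠ 1 ∧ ConjClasses.mk (x : G) = ConjClasses.mk u) := by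
    intro x hx
    have hc : IsConj x u' := ConjClasses.mk_eq_mk_iff_isConj.mp (ConjClasses.mem_carrier_iff_mk_eq.mp hx)
    obtain ⟨c, hc⟩ := isConj_iff.mp hc
    have hcG : (c : G) * (x : G) * (c : G)⁻¹ = u := by
      have := congrArg Subtype.val hc
      simpa using this
    have hx_eq : (x : G) = (c : G)⁻¹ * u * (c : G) := by
      rw [← hcG]; group
    refine ⟨?_, ?_, ?_⟩
    · have hcn : (c : G)⁻¹ ∈ Subgroup.normalizer ((P : Subgroup G) : Set G) := inv_mem c.2
      have := (Subgroup.mem_normalizer_iff.mp hcn u).mp hu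
      rw [hx_eq]
      simpa using this
    · intro h
      apply hu1
      rw [← hcG, h]; group
    · rw [ConjClasses.mk_eq_mk_iff_isConj, isConj_iff]
      exact ⟨c, hcG⟩
  refine Nat.card_le_card_of_injective
    (fun x : (ConjClasses.mk u').carrier => (⟨((x : ↥(Subgroup.normalizer ((P : Subgroup G) : Set G))) : G),
      key x.1 x.2⟩ : {x : G // x ∈ (P : Subgroup G) ∧ x ≠ 1 ∧ ConjClasses.mk x = ConjClasses.mk u})) ?_
  intro x y hxy
  have := congrArg Subtype.val hxy
  exact Subtype.ext (Subtype.ext this)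

/-- **S4130-B4** (counting, upper bound; uses B3). -/
theorem card_classes_sylow_le {G : Type*} [Group G] [Finite G] {p : ℕ} [Fact p.Prime]
    (hmin : ∀ q : ℕ, q.Prime → q ∣ Nat.card G → p ≤ q) (P : Sylow p G)
    (hab : ∀ a ∈ P, ∀ b ∈ P, a * b = b * a) (hperf : commutator G = ⊤) :
    (p + 1) * Nat.card {C : ConjClasses G // ∃ u ∈ (P : Subgroup G), u ≠ 1 ∧ ConjClasses.mk u = C} + 1 ≤
      Nat.card P := by
  classical
  have : Fintype {C : ConjClasses G // ∃ u ∈ (P : Subgroup G), u ≠ 1 ∧ ConjClasses.mk u = C} :=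
    Fintype.ofFinite _
  -- the set `X = P \ 1` and the map to classes
  let φ : {x : G // x ∈ (P : Subgroup G) ∧ x ≠ 1} →
      {C : ConjClasses G // ∃ u ∈ (P : Subgroup G), u ≠ 1 ∧ ConjClasses.mk u = C} :=
    fun x => ⟨ConjClasses.mk x.1, x.1, x.2.1, x.2.2, rfl⟩
  have hX : Nat.card {x : G // x ∈ (P : Subgroup G) ∧ x ≠ 1} =
      ∑ C, Nat.card {x : {x : G // x ∈ (P : Subgroup G) ∧ x ≠ 1} // φ x = C} := by
    rw [← Nat.card_sigma]
    exact Nat.card_congr (Equiv.sigmaFiberEquiv φ).symm
  have hfib : ∀ C, p + 1 ≤ Nat.card {x : {x : G // x ∈ (P : Subgroup G) ∧ x ≠ 1} // φ x = C} := by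
    rintro ⟨C, u, hu, hu1, rfl⟩
    refine (succ_le_card_fiber hmin P hab hperf u hu hu1).trans ?_
    refine Nat.card_le_card_of_injective
      (fun x : {x : G // x ∈ (P : Subgroup G) ∧ x ≠ 1 ∧ ConjClasses.mk x = ConjClasses.mk u} =>
        (⟨⟨x.1, x.2.1, x.2.2.1⟩, Subtype.ext x.2.2.2⟩ :
          {x : {x : G // x ∈ (P : Subgroup G) ∧ x ≠ 1} // φ x = ⟨ConjClasses.mk u, u, hu, hu1, rfl⟩})) ?_
    intro x y hxy
    have := congrArg (fun z => (z.1.1 : G)) hxy
    exact Subtype.ext this
  have hsum : (p + 1) * Nat.card {C : ConjClasses G // ∃ u ∈ (P : Subgroup G), u ≠ 1 ∧ ConjClasses.mk u = C} ≤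
      Nat.card {x : G // x ∈ (P : Subgroup G) ∧ x ≠ 1} := by
    rw [hX, Nat.card_eq_fintype_card, ← Finset.card_univ, mul_comm, ← smul_eq_mul]
    exact Finset.card_nsmul_le_sum _ _ _ (fun C _ => hfib C)
  -- `|X| + 1 ≤ |P|`
  have hXP : Nat.card {x : G // x ∈ (P : Subgroup G) ∧ x ≠ 1} + 1 ≤ Nat.card P := by
    rw [← Finite.card_option]
    refine Nat.card_le_card_of_injective
      (fun o : Option {x : G // x ∈ (P : Subgroup G) ∧ x ≠ 1} =>
        (Option.elim o (1 : ↥(P : Subgroup G)) (fun x => ⟨x.1, x.2.1⟩) : ↥(P : Subgroup G))) ?_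
    intro a b hab'
    cases a with
    | none =>
      cases b with
      | none => rfl
      | some y =>
        exfalso
        have := congrArg Subtype.val hab'
        exact y.2.2 this.symm
    | some x =>
      cases b with
      | none =>
        exfalso
        have := congrArg Subtype.val hab'
        exact x.2.2 this
      | some y =>
        have := congrArg Subtype.val hab'
        exact congrArg some (Subtype.ext this)
  omega

end Cfsg.Agent.Lib.H1.SF
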