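import Mathlib
import Cfsg.Agent.Lib.L0.SFDefs
import Cfsg.Agent.Lib.H26.SFA
import Cfsg.Agent.Lib.H5.SFB1
import Cfsg.Agent.Lib.H5.SFB2
import Cfsg.Agent.Lib.H1.SFB4

set_option autoImplicit false

/-!
S4130-B5 + B6 (lead's farm-out): a simple group with squarefree class sizes is abelian; a group with squarefree
class sizes is solvable (no Feit-Thompson).
-/

namespace Cfsg.Agent.Lib.H1.SF

open Cfsg.Agent.Lib.L0.SF
open scoped commutatorElement

/-- **S4130-B5** (uses B1, B2, B4).  A simple group with `SFClass` is abelian. -/
theorem SFClass.comm_of_isSimpleGroup {G : Type*} [Group G] [Finite G] (h : SFClass G) [IsSimpleGroup G]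
    (a b : G) : a * b = b * a := by
  classical
  by_contra hne
  -- the centre is trivial
  have hZ : Subgroup.center G = ⊥ := by
    rcases (Subgroup.center G).normal_of_characteristic.eq_bot_or_eq_top with h0 | h0
    · exact h0
    · exfalso
      apply hne
      have hb : b ∈ Subgroup.center G := by rw [h0]; trivial
      exact Subgroup.mem_center_iff.mp hb a
  -- the group is perfect
  have hperf : commutator G = ⊤ := by
    have hn : (commutator G).Normal := by
      unfold commutator; infer_instance
    rcases hn.eq_bot_or_eq_top with h0 | h0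
    · exfalso
      apply hne
      have hm : ⁅a, b⁆ ∈ commutator G := Subgroup.commutator_mem_commutator (Subgroup.mem_top a) (Subgroup.mem_top b)
      rw [h0, Subgroup.mem_bot, commutatorElement_def] at hm
      calc a * b = (a * b * a⁻¹ * b⁻¹) * (b * a) := by group
        _ = b * a := by rw [hm, one_mul]
    · exact h0
  -- the smallest prime divisor
  have hcard : Nat.card G ≠ 1 := by
    intro h1
    have : Subsingleton G := (Nat.card_eq_one_iff_unique.mp h1).1
    exact hne (Subsingleton.elim _ _)
  have : Fact (Nat.card G).minFac.Prime := ⟨Nat.minFac_prime hcard⟩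
  have hmin : ∀ q : ℕ, q.Prime → q ∣ Nat.card G → (Nat.card G).minFac ≤ q :=
    fun q hq hqd => Nat.minFac_le_of_dvd hq.two_le hqd
  obtain ⟨P⟩ : Nonempty (Sylow (Nat.card G).minFac G) := inferInstance
  have hPne : (P : Subgroup G) ≠ ⊥ := P.ne_bot_of_dvd_card (Nat.minFac_dvd _)
  have hab : ∀ a ∈ P, ∀ b ∈ P, a * b = b * a := by
    intro x hx y hy
    have hm := Cfsg.Agent.Lib.H5.SF.SFClass.sylow_commutator_mem_center h P x y hx hy
    rw [hZ, Subgroup.mem_bot] at hm
    calc x * y = (x * y * x⁻¹ * y⁻¹) * (y * x) := by group
      _ = y * x := by rw [hm, one_mul]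
  have h1 := Cfsg.Agent.Lib.H5.SF.SFClass.card_sylow_le h P hPne
  have h2 := card_classes_sylow_le hmin P hab hperf
  nlinarith [h1, h2]

/-- auxiliary form of B6 for the induction on the order. -/
theorem SFClass.isSolvable_aux.{u} (n : ℕ) : ∀ (G : Type u) [Group G] [Finite G], Nat.card G = n → SFClass G →
    Group.IsSolvable G := by
  induction n using Nat.strong_induction_on with
  | _ n ih =>
    intro G _ _ hn h
    by_cases htriv : Subsingleton G
    · exact Group.isSolvable_of_comm (fun a b => Subsingleton.elim _ _)
    · rw [not_subsingleton_iff_nontrivial] at htriv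
      by_cases hs : ∀ N : Subgroup G, N.Normal → N = ⊥ ∨ N = ⊤
      · have : IsSimpleGroup G := ⟨hs⟩
        exact Group.isSolvable_of_comm (SFClass.comm_of_isSimpleGroup h)
      · push Not at hs
        obtain ⟨N, hN, hNb, hNt⟩ := hs
        have := hN
        have hNcard : Nat.card N < n := by
          rw [← hn]
          refine lt_of_le_of_ne (Subgroup.card_le_card_group N) ?_
          intro he
          exact hNt ((Subgroup.card_eq_iff_eq_top N).mp he)
        have hQcard : Nat.card (G ⧸ N) < n := by
          rw [← hn, ← Subgroup.index_eq_card, ← Subgroup.card_mul_index N]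
          have h1 : 1 < Nat.card N := by
            rw [Finite.one_lt_card_iff_nontrivial]
            exact (Subgroup.nontrivial_iff_ne_bot N).mpr hNb
          have h2 : 0 < N.index := Nat.pos_of_ne_zero Subgroup.index_ne_zero_of_finite
          nlinarith
        have : Group.IsSolvable N := ih _ hNcard N rfl (Cfsg.Agent.Lib.H26.SF.SFClass.of_normal h N)
        have : Group.IsSolvable (G ⧸ N) := ih _ hQcard (G ⧸ N) rfl (Cfsg.Agent.Lib.H26.SF.SFClass.quotient h N)
        exact Group.isSolvable_of_ker_le_range N.subtype (QuotientGroup.mk' N) (by simp)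

/-- **S4130-B6** (uses A2, A3, B5; strong induction on the order). -/
theorem SFClass.isSolvable {G : Type*} [Group G] [Finite G] (h : SFClass G) : Group.IsSolvable G :=
  SFClass.isSolvable_aux (Nat.card G) G rfl h

end Cfsg.Agent.Lib.H1.SF
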