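import Mathlib
import Cfsg.Agent.Lib.H12.SLMinDefs

/-!
# S2332 piece FIX (helper1, architect helper12): the vectors fixed by `uG (s e₀)`

`uG (s e₀) = [[1, s e₀], [0, 1]]` fixes `v` iff `v 1 = 0`; hence the non-zero fixed vectors, together
with `0`, are as many as the vectors of `Fin (j + 1) → F`.
-/

set_option autoImplicit false

namespace Cfsg.Agent.Lib.H1.SLMin

open Matrix Cfsg.Agent.Lib.H12.SLMin

/-- `uG (s e₀)` fixes `v` iff the coordinate `v 1` vanishes -/
theorem uG_single_mulVec_eq_iff {F : Type*} [Field F] [DecidableEq F] {j : ℕ} {s : F} (hs : s ≠ 0)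
    (v : Fin (j + 2) → F) :
    ((uG (Pi.single (0 : Fin (j + 1)) s) : GL (Fin (j + 2)) F) :
      Matrix (Fin (j + 2)) (Fin (j + 2)) F) *ᵥ v = v ↔ v 1 = 0 := by
  have hv : v = Fin.cons (v 0) (Fin.tail v) := (Fin.cons_self_tail v).symm
  have h1 : v 1 = Fin.tail v 0 := rfl
  rw [h1, uG_coe]
  conv_lhs => rw [hv, bm_mulVec]
  rw [Fin.cons_inj]
  simp only [one_mul, smul_zero, zero_add, one_mulVec, and_true, single_dotProduct]
  constructor
  · intro h
    have h2 : s * Fin.tail v 0 = 0 := by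
      have := h
      rwa [add_eq_left] at this
    exact (mul_eq_zero.1 h2).resolve_left hs
  · intro h
    rw [h, mul_zero, add_zero]

/-- removing the coordinate `1` is a bijection from the non-zero fixed vectors to the non-zero vectors -/
noncomputable def fixedEquiv {F : Type*} [Field F] [DecidableEq F] {j : ℕ} {s : F} (hs : s ≠ 0) :
    {v : Fin (j + 2) → F // v ≠ 0 ∧
      ((uG (Pi.single (0 : Fin (j + 1)) s) : GL (Fin (j + 2)) F) :
        Matrix (Fin (j + 2)) (Fin (j + 2)) F) *ᵥ v = v} ≃ {u : Fin (j + 1) → F // u ≠ 0} where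
  toFun v := ⟨Fin.removeNth 1 v.1, by
    intro h0
    apply v.2.1
    have h1 : v.1 1 = 0 := (uG_single_mulVec_eq_iff hs v.1).1 v.2.2
    rw [← Fin.insertNth_self_removeNth 1 v.1, h1, h0]
    funext i
    refine Fin.succAboveCases 1 ?_ (fun i' => ?_) i
    · simp
    · simp⟩
  invFun u := ⟨Fin.insertNth 1 0 u.1, by
    refine ⟨?_, ?_⟩
    · intro h0
      apply u.2
      funext i
      have := congrFun h0 (Fin.succAbove 1 i)
      simpa using this
    · rw [uG_single_mulVec_eq_iff hs]
      simp⟩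
  left_inv v := by
    apply Subtype.ext
    have h1 : v.1 1 = 0 := (uG_single_mulVec_eq_iff hs v.1).1 v.2.2
    show Fin.insertNth 1 0 (Fin.removeNth 1 v.1) = v.1
    rw [← h1, Fin.insertNth_self_removeNth]
  right_inv u := by
    apply Subtype.ext
    show Fin.removeNth 1 (Fin.insertNth (α := fun _ => F) 1 0 u.1) = u.1
    simp

theorem card_fixed_vec {F : Type*} [Field F] [Fintype F] [DecidableEq F] {j : ℕ} {s : F} (hs : s ≠ 0) :
    Fintype.card {v : Fin (j + 2) → F // v ≠ 0 ∧
      ((uG (Pi.single (0 : Fin (j + 1)) s) : GL (Fin (j + 2)) F) : Matrix (Fin (j + 2)) (Fin (j + 2)) F) *ᵥ v = v} + 1 =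
      Fintype.card (Fin (j + 1) → F) := by
  rw [Fintype.card_congr (fixedEquiv hs)]
  have h := Fintype.card_subtype_compl (fun u : Fin (j + 1) → F => u = 0)
  have h2 : Fintype.card {u : Fin (j + 1) → F // u = 0} = 1 := Fintype.card_subtype_eq 0
  have hpos : 0 < Fintype.card (Fin (j + 1) → F) := Fintype.card_pos
  have h3 : Fintype.card {u : Fin (j + 1) → F // u ≠ 0} = Fintype.card (Fin (j + 1) → F) - 1 := by
    rw [h2] at h
    exact h
  omega

end Cfsg.Agent.Lib.H1.SLMin
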