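import Cfsg.Agent.Lib.H1.SecRank
import Cfsg.Agent.S4400

/-!
helper1 library: a version of S4400 relative to a subgroup `T`, with elementwise hypotheses.
-/

set_option autoImplicit false

namespace Cfsg.Agent.Lib.H1.SR4

open Cfsg Cfsg.Agent.Lib.H1.SecRank

variable {S : Type*} [Group S]

/-- The sectional rank bound passes to subgroups. -/
theorem sectional_subgroup [Finite S] {p k : ℕ} (hr : SectionalPRankLE p k S) (T : Subgroup S) :
    SectionalPRankLE p k ↥T := by
  apply sectional_of_card_le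
  intro K L hLK hn hpow hcomm
  have := card_le_of_sectional hr (K.map T.subtype) (L.map T.subtype) (Subgroup.map_mono hLK)
    ?_ ?_ ?_
  · rwa [Subgroup.card_map_of_injective T.subtype_injective,
      Subgroup.card_map_of_injective T.subtype_injective] at this
  · rintro g ⟨g', hg', rfl⟩ l ⟨l', hl', rfl⟩
    exact ⟨g' * l' * g'⁻¹, hn g' hg' l' hl', by simp⟩
  · rintro a ⟨a', ha', rfl⟩
    exact ⟨a' ^ p, hpow a' ha', by simp⟩
  · rintro a ⟨a', ha', rfl⟩ b ⟨b', hb', rfl⟩
    exact ⟨a' * b' * a'⁻¹ * b'⁻¹, hcomm a' ha' b' hb', by simp⟩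

/-- A nonabelian subgroup with centre `{1, z}` of order two. -/
structure ZData (P : Subgroup S) (z : S) : Prop where
  zP : z ∈ P
  z1 : z ≠ 1
  zc : ∀ a ∈ P, a * z = z * a
  cen : ∀ c ∈ P, (∀ a ∈ P, a * c = c * a) → c = 1 ∨ c = z
  nc : ∃ a ∈ P, ∃ b ∈ P, a * b ≠ b * a

namespace ZData

variable {P : Subgroup S} {z : S}

theorem not_comm (h : ZData P z) : ¬ IsMulCommutative ↥P := by
  intro hc
  obtain ⟨a, ha, b, hb, hab⟩ := h.nc
  apply hab
  have := hc.is_comm.comm (⟨a, ha⟩ : P) ⟨b, hb⟩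
  exact congrArg Subtype.val this

theorem mem_center_iff (h : ZData P z) (c : ↥P) :
    c ∈ Subgroup.center ↥P ↔ (c : S) = 1 ∨ (c : S) = z := by
  rw [Subgroup.mem_center_iff]
  constructor
  · intro hc
    apply h.cen c c.2
    intro a ha
    exact congrArg Subtype.val (hc ⟨a, ha⟩)
  · rintro (hc | hc) g
    · apply Subtype.ext
      simp [hc]
    · apply Subtype.ext
      simp only [Subgroup.coe_mul, hc]
      exact h.zc g g.2

theorem card_center (h : ZData P z) : Nat.card ↥(Subgroup.center ↥P) = 2 := by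
  rw [Nat.card_eq_two_iff]
  have h1 : (1 : ↥P) ∈ Subgroup.center ↥P := one_mem _
  have hz : (⟨z, h.zP⟩ : ↥P) ∈ Subgroup.center ↥P := (h.mem_center_iff _).mpr (Or.inr rfl)
  refine ⟨⟨1, h1⟩, ⟨⟨z, h.zP⟩, hz⟩, ?_, ?_⟩
  · intro he
    have := congrArg (fun x : Subgroup.center ↥P => ((x : ↥P) : S)) he
    exact h.z1 this.symm
  · ext ⟨c, hc⟩
    simp only [Set.mem_insert_iff, Set.mem_singleton_iff, Set.mem_univ, iff_true]
    rcases (h.mem_center_iff c).mp hc with h' | h'
    · left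
      apply Subtype.ext; apply Subtype.ext; exact h'
    · right
      apply Subtype.ext; apply Subtype.ext; exact h'

theorem mem_center_map (h : ZData P z) (c : S) :
    c ∈ (Subgroup.center ↥P).map P.subtype ↔ c = 1 ∨ c = z := by
  constructor
  · rintro ⟨c', hc', rfl⟩
    exact (h.mem_center_iff c').mp hc'
  · rintro (rfl | rfl)
    · exact one_mem _
    · exact ⟨⟨_, h.zP⟩, (h.mem_center_iff _).mpr (Or.inr rfl), rfl⟩

/-- Data from the hypotheses in the statement form. -/
theorem of_card (hP : ¬ IsMulCommutative ↥P) (hZP : Nat.card ↥(Subgroup.center ↥P) = 2) :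
    ∃ z, ZData P z := by
  obtain ⟨⟨⟨z, hzP⟩, hzc⟩, hz1, hzu⟩ := (Nat.card_eq_two_iff' (1 : Subgroup.center ↥P)).mp hZP
  have hcen : ∀ x ∈ Subgroup.center ↥P, x = 1 ∨ x = ⟨z, hzP⟩ := by
    intro x hx
    by_cases hx1 : (⟨x, hx⟩ : Subgroup.center ↥P) = 1
    · left; exact congrArg Subtype.val hx1
    · right; exact congrArg Subtype.val (hzu _ hx1)
  refine ⟨z, hzP, ?_, ?_, ?_, ?_⟩
  · intro h
    apply hz1
    apply Subtype.ext; apply Subtype.ext; exact h
  · intro a ha
    have := Subgroup.mem_center_iff.mp hzc ⟨a, ha⟩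
    exact congrArg Subtype.val this
  · intro c hc hcc
    have hmem : (⟨c, hc⟩ : ↥P) ∈ Subgroup.center ↥P := by
      rw [Subgroup.mem_center_iff]
      intro g
      apply Subtype.ext
      exact hcc g g.2
    rcases hcen _ hmem with h | h
    · left; exact congrArg Subtype.val h
    · right; exact congrArg Subtype.val h
  · by_contra hcon
    push_neg at hcon
    apply hP
    refine ⟨⟨?_⟩⟩
    rintro ⟨a, ha⟩ ⟨b, hb⟩
    apply Subtype.ext
    exact hcon a ha b hb

theorem subgroupOf (h : ZData P z) (T : Subgroup S) (hPT : P ≤ T) :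
    ZData (P.subgroupOf T) (⟨z, hPT h.zP⟩ : ↥T) := by
  refine ⟨?_, ?_, ?_, ?_, ?_⟩
  · rw [Subgroup.mem_subgroupOf]; exact h.zP
  · intro he; exact h.z1 (congrArg Subtype.val he)
  · intro a ha
    rw [Subgroup.mem_subgroupOf] at ha
    apply Subtype.ext
    exact h.zc a ha
  · intro c hc hcc
    rw [Subgroup.mem_subgroupOf] at hc
    have := h.cen c hc (fun a ha => by
      have := hcc ⟨a, hPT ha⟩ (by rw [Subgroup.mem_subgroupOf]; exact ha)
      exact congrArg Subtype.val this)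
    rcases this with h' | h'
    · left; exact Subtype.ext h'
    · right; exact Subtype.ext h'
  · obtain ⟨a, ha, b, hb, hab⟩ := h.nc
    refine ⟨⟨a, hPT ha⟩, by rw [Subgroup.mem_subgroupOf]; exact ha, ⟨b, hPT hb⟩,
      by rw [Subgroup.mem_subgroupOf]; exact hb, ?_⟩
    intro he
    exact hab (congrArg Subtype.val he)

end ZData

open scoped commutatorElement in
/-- S4400 relative to a subgroup `T`. -/
theorem rel4400 [Finite S] (h2 : IsPGroup 2 S) (hr : SectionalPRankLE 2 4 S) (T P Q : Subgroup S)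
    (hPT : P ≤ T) (hQT : Q ≤ T)
    (hPn : ∀ t ∈ T, ∀ a ∈ P, t * a * t⁻¹ ∈ P) (hQn : ∀ t ∈ T, ∀ a ∈ Q, t * a * t⁻¹ ∈ Q)
    {z z' : S} (hP : ZData P z) (hQ : ZData Q z') (hne : z ≠ z') :
    (∀ a ∈ P, ∀ b ∈ Q, a * b = b * a) ∧ (∀ a ∈ P, a ∈ Q → a = 1) ∧
      ∀ c ∈ T, (∀ a ∈ P, c * a = a * c) → (∀ b ∈ Q, c * b = b * c) → c ∈ P ⊔ Q := by
  have hP' := hP.subgroupOf T hPT
  have hQ' := hQ.subgroupOf T hQT
  have nP : (P.subgroupOf T).Normal := by
    refine ⟨fun a ha t => ?_⟩
    rw [Subgroup.mem_subgroupOf] at ha ⊢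
    simpa using hPn t t.2 a ha
  have nQ : (Q.subgroupOf T).Normal := by
    refine ⟨fun a ha t => ?_⟩
    rw [Subgroup.mem_subgroupOf] at ha ⊢
    simpa using hQn t t.2 a ha
  have hne' : (Subgroup.center ↥(P.subgroupOf T)).map (P.subgroupOf T).subtype ≠
      (Subgroup.center ↥(Q.subgroupOf T)).map (Q.subgroupOf T).subtype := by
    intro he
    have h1 : (⟨z, hPT hP.zP⟩ : ↥T) ∈
        (Subgroup.center ↥(P.subgroupOf T)).map (P.subgroupOf T).subtype :=
      (hP'.mem_center_map _).mpr (Or.inr rfl)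
    rw [he, hQ'.mem_center_map] at h1
    rcases h1 with h1 | h1
    · exact hP.z1 (congrArg Subtype.val h1)
    · exact hne (congrArg Subtype.val h1)
  obtain ⟨hc, hi, hcz⟩ := Cfsg.Agent.S4400.result (h2.to_subgroup T) (sectional_subgroup hr T)
    (P.subgroupOf T) (Q.subgroupOf T) hP'.not_comm hQ'.not_comm hP'.card_center hQ'.card_center
    hne'
  refine ⟨?_, ?_, ?_⟩
  · intro a ha b hb
    have h3 : ⁅(⟨a, hPT ha⟩ : ↥T), ⟨b, hQT hb⟩⁆ ∈ ⁅P.subgroupOf T, Q.subgroupOf T⁆ :=
      Subgroup.commutator_mem_commutator (by rw [Subgroup.mem_subgroupOf]; exact ha)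
        (by rw [Subgroup.mem_subgroupOf]; exact hb)
    rw [hc, Subgroup.mem_bot] at h3
    have h4 := commutatorElement_eq_one_iff_mul_comm.mp h3
    exact congrArg Subtype.val h4
  · intro a ha haQ
    have h3 : (⟨a, hPT ha⟩ : ↥T) ∈ P.subgroupOf T ⊓ Q.subgroupOf T := by
      rw [Subgroup.mem_inf, Subgroup.mem_subgroupOf, Subgroup.mem_subgroupOf]
      exact ⟨ha, haQ⟩
    rw [hi, Subgroup.mem_bot] at h3
    exact congrArg Subtype.val h3
  · intro c hcT hcP hcQ
    have h3 : P.subgroupOf T ⊔ Q.subgroupOf T ≤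
        Subgroup.centralizer ({(⟨c, hcT⟩ : ↥T)} : Set ↥T) := by
      apply sup_le
      · intro a ha
        rw [Subgroup.mem_subgroupOf] at ha
        rw [Subgroup.mem_centralizer_singleton_iff]
        apply Subtype.ext
        exact (hcP a ha).symm
      · intro a ha
        rw [Subgroup.mem_subgroupOf] at ha
        rw [Subgroup.mem_centralizer_singleton_iff]
        apply Subtype.ext
        exact (hcQ a ha).symm
    have h4 : (⟨c, hcT⟩ : ↥T) ∈ Subgroup.centralizer
        ((P.subgroupOf T ⊔ Q.subgroupOf T : Subgroup ↥T) : Set ↥T) := by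
      rw [Subgroup.mem_centralizer_iff]
      intro h hh
      exact Subgroup.mem_centralizer_singleton_iff.mp (h3 hh)
    have h5 := hcz h4
    have h6 : (P.subgroupOf T ⊔ Q.subgroupOf T).map T.subtype ≤ P ⊔ Q := by
      rw [Subgroup.map_sup]
      apply sup_le_sup <;> (rw [Subgroup.subgroupOf_map_subtype]; exact inf_le_left)
    exact h6 ⟨_, h5, rfl⟩

end Cfsg.Agent.Lib.H1.SR4
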