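import Cfsg.Agent.Lib.H1.SR4A

/-!
helper1 library: sectional rank of a direct square, transport of `ZData` along automorphisms,
products of commuting subgroups.
-/

set_option autoImplicit false

namespace Cfsg.Agent.Lib.H1.SR4

open Cfsg Cfsg.Agent.Lib.H1.SecRank

/-- The sectional rank bound passes along injective homomorphisms. -/
theorem sectional_of_injective {S G : Type*} [Group S] [Group G] [Finite S] [Finite G] {p k : ℕ}
    (f : G →* S) (hf : Function.Injective f) (hr : SectionalPRankLE p k S) :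
    SectionalPRankLE p k G := by
  apply sectional_of_card_le
  intro K L hLK hn hpow hcomm
  have := card_le_of_sectional hr (K.map f) (L.map f) (Subgroup.map_mono hLK) ?_ ?_ ?_
  · rwa [Subgroup.card_map_of_injective hf, Subgroup.card_map_of_injective hf] at this
  · rintro g ⟨g', hg', rfl⟩ l ⟨l', hl', rfl⟩
    exact ⟨g' * l' * g'⁻¹, hn g' hg' l' hl', by simp⟩
  · rintro a ⟨a', ha', rfl⟩
    exact ⟨a' ^ p, hpow a' ha', by simp⟩
  · rintro a ⟨a', ha', rfl⟩ b ⟨b', hb', rfl⟩
    exact ⟨a' * b' * a'⁻¹ * b'⁻¹, hcomm a' ha' b' hb', by simp⟩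

/-- If `P × P` has sectional `2`-rank at most `4` then `P` has sectional `2`-rank at most `2`. -/
theorem sectional_of_prod_self {P : Type*} [Group P] [Finite P]
    (hr : SectionalPRankLE 2 4 (P × P)) : SectionalPRankLE 2 2 P := by
  apply sectional_of_card_le
  intro K L hLK hn hpow hcomm
  have := card_le_of_sectional hr (K.prod K) (L.prod L) (Subgroup.prod_mono hLK hLK) ?_ ?_ ?_
  · have h1 : Nat.card (K.prod K) = Nat.card K * Nat.card K := by
      rw [Nat.card_congr (Subgroup.prodEquiv K K).toEquiv, Nat.card_prod]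
    have h2 : Nat.card (L.prod L) = Nat.card L * Nat.card L := by
      rw [Nat.card_congr (Subgroup.prodEquiv L L).toEquiv, Nat.card_prod]
    rw [h1, h2] at this
    by_contra hcon
    push_neg at hcon
    have h3 : 2 ^ 2 * Nat.card L + 1 ≤ Nat.card K := hcon
    have h4 : (2 ^ 2 * Nat.card L + 1) * (2 ^ 2 * Nat.card L + 1) ≤ Nat.card K * Nat.card K :=
      Nat.mul_le_mul h3 h3
    nlinarith
  · rintro ⟨g1, g2⟩ hg ⟨l1, l2⟩ hl
    rw [Subgroup.mem_prod] at hg hl ⊢
    exact ⟨hn g1 hg.1 l1 hl.1, hn g2 hg.2 l2 hl.2⟩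
  · rintro ⟨a1, a2⟩ ha
    rw [Subgroup.mem_prod] at ha ⊢
    exact ⟨hpow a1 ha.1, hpow a2 ha.2⟩
  · rintro ⟨a1, a2⟩ ha ⟨b1, b2⟩ hb
    rw [Subgroup.mem_prod] at ha hb ⊢
    exact ⟨hcomm a1 ha.1 b1 hb.1, hcomm a2 ha.2 b2 hb.2⟩

variable {S : Type*} [Group S]

/-- A subgroup `P` commuting elementwise with, and meeting trivially, its image under an
automorphism of the ambient group of sectional `2`-rank at most `4` has sectional rank at most
`2`. -/
theorem sectional_two_of_commuting_image [Finite S] (hr : SectionalPRankLE 2 4 S)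
    (P : Subgroup S) (φ : S ≃* S)
    (hcomm : ∀ a ∈ P, ∀ b ∈ P, a * φ b = φ b * a)
    (hint : ∀ a ∈ P, ∀ b ∈ P, a = φ b → a = 1) : SectionalPRankLE 2 2 ↥P := by
  apply sectional_of_prod_self
  let f : ↥P × ↥P →* S :=
    MonoidHom.noncommCoprod P.subtype (φ.toMonoidHom.comp P.subtype)
      (fun a b => hcomm a a.2 b b.2)
  have hf : Function.Injective f := by
    rw [injective_iff_map_eq_one]
    rintro ⟨a, b⟩ hab
    have h1 : (a : S) * φ (b : S) = 1 := hab
    have h2 : (a : S)⁻¹ = φ (b : S) := inv_eq_of_mul_eq_one_right h1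
    have h3 := hint (a⁻¹ : ↥P) (a⁻¹ : ↥P).2 b b.2 (by simpa using h2)
    have ha : a = 1 := by
      have : (a : S)⁻¹ = 1 := by simpa using h3
      exact Subtype.ext (inv_eq_one.mp this)
    have hb : b = 1 := by
      have : φ (b : S) = 1 := by rw [← h2, ha]; simp
      have : (b : S) = 1 := by
        have h4 := φ.injective (this.trans (map_one φ).symm)
        exact h4
      exact Subtype.ext this
    rw [ha, hb]; rfl
  exact sectional_of_injective f hf hr

/-- Transport of centre data along an automorphism of the ambient group. -/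
theorem ZData.map {P : Subgroup S} {z : S} (h : ZData P z) (φ : S ≃* S) :
    ZData (P.map φ.toMonoidHom) (φ z) := by
  refine ⟨⟨z, h.zP, rfl⟩, ?_, ?_, ?_, ?_⟩
  · intro he
    exact h.z1 (φ.injective (he.trans (map_one φ).symm))
  · rintro a ⟨a', ha', rfl⟩
    show φ a' * φ z = φ z * φ a'
    rw [← map_mul, ← map_mul, h.zc a' ha']
  · rintro c ⟨c', hc', rfl⟩ hcc
    have := h.cen c' hc' (fun a ha => by
      have h1 := hcc (φ a) ⟨a, ha, rfl⟩
      have h2 : φ (a * c') = φ (c' * a) := by
        rw [map_mul, map_mul]; exact h1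
      exact φ.injective h2)
    rcases this with h' | h'
    · left; show φ c' = 1; rw [h', map_one]
    · right; show φ c' = φ z; rw [h']
  · obtain ⟨a, ha, b, hb, hab⟩ := h.nc
    refine ⟨φ a, ⟨a, ha, rfl⟩, φ b, ⟨b, hb, rfl⟩, ?_⟩
    intro he
    apply hab
    apply φ.injective
    rw [map_mul, map_mul]; exact he

/-- Elements of the join of two elementwise commuting subgroups are products. -/
theorem exists_mul_of_mem_sup {A B : Subgroup S} (hAB : ∀ a ∈ A, ∀ b ∈ B, a * b = b * a) {x : S}
    (hx : x ∈ A ⊔ B) : ∃ a ∈ A, ∃ b ∈ B, x = a * b := by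
  have hr := MonoidHom.noncommCoprod_range A.subtype B.subtype (fun a b => hAB a a.2 b b.2)
  rw [Subgroup.range_subtype, Subgroup.range_subtype] at hr
  rw [← hr] at hx
  obtain ⟨⟨a, b⟩, rfl⟩ := hx
  exact ⟨a, a.2, b, b.2, rfl⟩

/-- An element commuting with two subgroups commutes with their join. -/
theorem comm_sup {A B : Subgroup S} {c : S} (hA : ∀ a ∈ A, c * a = a * c)
    (hB : ∀ b ∈ B, c * b = b * c) : ∀ x ∈ A ⊔ B, c * x = x * c := by
  have : A ⊔ B ≤ Subgroup.centralizer ({c} : Set S) := by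
    apply sup_le
    · intro a ha
      rw [Subgroup.mem_centralizer_singleton_iff]; exact (hA a ha).symm
    · intro b hb
      rw [Subgroup.mem_centralizer_singleton_iff]; exact (hB b hb).symm
  intro x hx
  exact (Subgroup.mem_centralizer_singleton_iff.mp (this hx)).symm

end Cfsg.Agent.Lib.H1.SR4
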