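import Cfsg.Agent.Lib.H1.SR4B

/-!
helper1 library: the main analysis for S4401. `P` nonabelian with centre `{1, z}`, normal in
`S₀ = C_S(z)`, inside a `2`-group of sectional rank at most `4`.
-/

set_option autoImplicit false
set_option linter.unusedSectionVars false

namespace Cfsg.Agent.Lib.H1.SR4

open Cfsg

variable {S : Type*} [Group S]

/-- The context. -/
structure Ctx [Finite S] (P : Subgroup S) (z : S) (S₀ : Subgroup S) : Prop where
  h2 : IsPGroup 2 S
  hr : SectionalPRankLE 2 4 S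
  hD : ZData P z
  hS₀ : ∀ g, g ∈ S₀ ↔ g * z = z * g
  hPn : ∀ s ∈ S₀, ∀ a ∈ P, s * a * s⁻¹ ∈ P

/-- The conjugate of a subgroup. -/
def cj (g : S) (P : Subgroup S) : Subgroup S := P.map (MulAut.conj g).toMonoidHom

theorem mem_cj {g : S} {P : Subgroup S} {y : S} : y ∈ cj g P ↔ ∃ a ∈ P, g * a * g⁻¹ = y :=
  Iff.rfl

theorem conj_mem_cj {g : S} {P : Subgroup S} {a : S} (ha : a ∈ P) : g * a * g⁻¹ ∈ cj g P :=
  ⟨a, ha, rfl⟩

namespace Ctx

variable [Finite S] {P : Subgroup S} {z : S} {S₀ : Subgroup S} (C : Ctx P z S₀)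
include C

theorem zz : z * z = 1 := by
  have h1 : ∀ a ∈ P, a * (z * z) = z * z * a := by
    intro a ha
    rw [← mul_assoc, C.hD.zc a ha, mul_assoc, C.hD.zc a ha, mul_assoc]
  rcases C.hD.cen (z * z) (mul_mem C.hD.zP C.hD.zP) h1 with h | h
  · exact h
  · exfalso
    apply C.hD.z1
    exact mul_left_cancel (h.trans (mul_one z).symm)

theorem z_inv : z⁻¹ = z := inv_eq_of_mul_eq_one_right C.zz

theorem P_le : P ≤ S₀ := fun a ha => (C.hS₀ a).mpr (C.hD.zc a ha)

theorem z_mem : z ∈ S₀ := C.P_le C.hD.zP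

theorem hPn' : ∀ s ∈ S₀, ∀ a ∈ P, s⁻¹ * a * s ∈ P := by
  intro s hs a ha
  have := C.hPn s⁻¹ (inv_mem hs) a ha
  simpa using this

theorem memN {x : S} : x ∈ Subgroup.normalizer (S₀ : Set S) ↔ ∀ t, t ∈ S₀ ↔ x * t * x⁻¹ ∈ S₀ :=
  Subgroup.mem_normalizer_iff

theorem conj_mem {x : S} (hx : x ∈ Subgroup.normalizer (S₀ : Set S)) {t : S} (ht : t ∈ S₀) :
    x * t * x⁻¹ ∈ S₀ := (C.memN.mp hx t).mp ht

theorem conj_inv_mem {x : S} (hx : x ∈ Subgroup.normalizer (S₀ : Set S)) {t : S} (ht : t ∈ S₀) :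
    x⁻¹ * t * x ∈ S₀ := by
  have := C.conj_mem (inv_mem hx) ht
  simpa using this

/-- The conjugate centre element. -/
theorem conj_ne {x : S} (hx : x ∉ S₀) : x * z * x⁻¹ ≠ z := by
  intro h
  apply hx
  rw [C.hS₀]
  calc x * z = x * z * x⁻¹ * x := by group
    _ = z * x := by rw [h]

theorem cj_le {x : S} (hx : x ∈ Subgroup.normalizer (S₀ : Set S)) : cj x P ≤ S₀ := by
  rintro y ⟨a, ha, rfl⟩
  exact C.conj_mem hx (C.P_le ha)

theorem cj_norm {x : S} (hx : x ∈ Subgroup.normalizer (S₀ : Set S)) :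
    ∀ t ∈ S₀, ∀ b ∈ cj x P, t * b * t⁻¹ ∈ cj x P := by
  rintro t ht b ⟨a, ha, rfl⟩
  have h1 : x⁻¹ * t * x ∈ S₀ := C.conj_inv_mem hx ht
  have h2 := C.hPn _ h1 a ha
  refine ⟨_, h2, ?_⟩
  show x * (x⁻¹ * t * x * a * (x⁻¹ * t * x)⁻¹) * x⁻¹ = t * (x * a * x⁻¹) * t⁻¹
  group

theorem cj_data (x : S) : ZData (cj x P) (x * z * x⁻¹) := C.hD.map (MulAut.conj x)

/-- The three conclusions of S4400 for `P` and a conjugate `cj x P`, `x ∈ N_S(S₀) \ S₀`. -/
theorem pair {x : S} (hx : x ∈ Subgroup.normalizer (S₀ : Set S)) (hx0 : x ∉ S₀) :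
    (∀ a ∈ P, ∀ b ∈ cj x P, a * b = b * a) ∧ (∀ a ∈ P, a ∈ cj x P → a = 1) ∧
      ∀ c ∈ S₀, (∀ a ∈ P, c * a = a * c) → (∀ b ∈ cj x P, c * b = b * c) → c ∈ P ⊔ cj x P :=
  rel4400 C.h2 C.hr S₀ P (cj x P) C.P_le (C.cj_le hx) C.hPn (C.cj_norm hx) C.hD (C.cj_data x)
    (C.conj_ne hx0).symm

/-- Step C: the sectional rank of `P` is at most two. -/
theorem rank_two {x : S} (hx : x ∈ Subgroup.normalizer (S₀ : Set S)) (hx0 : x ∉ S₀) :
    SectionalPRankLE 2 2 ↥P := by
  obtain ⟨h1, h2, -⟩ := C.pair hx hx0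
  apply sectional_two_of_commuting_image C.hr P (MulAut.conj x)
  · intro a ha b hb
    exact h1 a ha _ ⟨b, hb, rfl⟩
  · intro a ha b hb hab
    exact h2 a ha ⟨b, hb, hab.symm⟩

/-- Step D1: all elements of `N_S(S₀) \ S₀` conjugate `z` to the same element. -/
theorem conj_eq {x y : S} (hx : x ∈ Subgroup.normalizer (S₀ : Set S)) (hx0 : x ∉ S₀)
    (hy : y ∈ Subgroup.normalizer (S₀ : Set S)) (hy0 : y ∉ S₀) :
    y * z * y⁻¹ = x * z * x⁻¹ := by
  by_contra hne
  obtain ⟨hx1, -, hx3⟩ := C.pair hx hx0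
  obtain ⟨hy1, -, -⟩ := C.pair hy hy0
  obtain ⟨hxy1, -, -⟩ := rel4400 C.h2 C.hr S₀ (cj x P) (cj y P) (C.cj_le hx) (C.cj_le hy)
    (C.cj_norm hx) (C.cj_norm hy) (C.cj_data x) (C.cj_data y) (Ne.symm hne)
  -- `cj y P` is commutative
  obtain ⟨c, hc, d, hd, hcd⟩ := (C.cj_data y).nc
  apply hcd
  have hcS : c ∈ S₀ := C.cj_le hy hc
  have hdS : d ∈ S₀ := C.cj_le hy hd
  have hd' : d ∈ P ⊔ cj x P :=
    hx3 d hdS (fun a ha => (hy1 a ha d hd).symm) (fun b hb => (hxy1 b hb d hd).symm)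
  exact comm_sup (fun a ha => (hy1 a ha c hc).symm) (fun b hb => (hxy1 b hb c hc).symm) d hd'

/-- Step D2: `N_S(S₀) = S₀ ∪ x S₀`. -/
theorem mem_or {x n : S} (hx : x ∈ Subgroup.normalizer (S₀ : Set S)) (hx0 : x ∉ S₀)
    (hn : n ∈ Subgroup.normalizer (S₀ : Set S)) : n ∈ S₀ ∨ x⁻¹ * n ∈ S₀ := by
  by_cases hn0 : n ∈ S₀
  · exact Or.inl hn0
  · right
    have h := C.conj_eq hx hx0 hn hn0
    rw [C.hS₀]
    calc x⁻¹ * n * z = x⁻¹ * (n * z * n⁻¹) * n := by group
      _ = x⁻¹ * (x * z * x⁻¹) * n := by rw [h]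
      _ = z * (x⁻¹ * n) := by group

theorem sq_mem {x : S} (hx : x ∈ Subgroup.normalizer (S₀ : Set S)) (hx0 : x ∉ S₀) :
    x * x ∈ S₀ := by
  rcases C.mem_or hx hx0 (mul_mem hx hx) with h | h
  · exact h
  · exfalso
    apply hx0
    have : x⁻¹ * (x * x) = x := by group
    rwa [this] at h

/-- `x` swaps `z` and `z' = x z x⁻¹`. -/
theorem conj_conj {x : S} (hx : x ∈ Subgroup.normalizer (S₀ : Set S)) (hx0 : x ∉ S₀) :
    x * (x * z * x⁻¹) * x⁻¹ = z := by
  have h := (C.hS₀ _).mp (C.sq_mem hx hx0)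
  calc x * (x * z * x⁻¹) * x⁻¹ = (x * x * z) * (x * x)⁻¹ := by group
    _ = z * (x * x) * (x * x)⁻¹ := by rw [h]
    _ = z := by group

/-- `S₀` centralizes `z'`. -/
theorem comm_conj {x : S} (hx : x ∈ Subgroup.normalizer (S₀ : Set S)) {t : S} (ht : t ∈ S₀) :
    t * (x * z * x⁻¹) = x * z * x⁻¹ * t := by
  have h := (C.hS₀ _).mp (C.conj_inv_mem hx ht)
  calc t * (x * z * x⁻¹) = x * (x⁻¹ * t * x * z) * x⁻¹ := by group
    _ = x * (z * (x⁻¹ * t * x)) * x⁻¹ := by rw [h]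
    _ = x * z * x⁻¹ * t := by group

/-- The product `z z'` is central in `N_S(S₀)`. -/
theorem prod_central {x n : S} (hx : x ∈ Subgroup.normalizer (S₀ : Set S)) (hx0 : x ∉ S₀)
    (hn : n ∈ Subgroup.normalizer (S₀ : Set S)) :
    n * (z * (x * z * x⁻¹)) * n⁻¹ = z * (x * z * x⁻¹) := by
  have hzz' : z * (x * z * x⁻¹) = x * z * x⁻¹ * z := C.comm_conj hx C.z_mem
  by_cases hn0 : n ∈ S₀
  · have h1 := (C.hS₀ n).mp hn0
    have h2 := C.comm_conj hx hn0
    calc n * (z * (x * z * x⁻¹)) * n⁻¹ = (n * z) * (x * z * x⁻¹) * n⁻¹ := by group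
      _ = z * (n * (x * z * x⁻¹)) * n⁻¹ := by rw [h1]; group
      _ = z * (x * z * x⁻¹ * n) * n⁻¹ := by rw [h2]
      _ = z * (x * z * x⁻¹) := by group
  · have h1 := C.conj_eq hx hx0 hn hn0
    have h2 : n * (x * z * x⁻¹) * n⁻¹ = z := by
      have h3 := C.conj_conj hn hn0
      rw [h1] at h3
      exact h3
    calc n * (z * (x * z * x⁻¹)) * n⁻¹ = (n * z * n⁻¹) * (n * (x * z * x⁻¹) * n⁻¹) := by group
      _ = (x * z * x⁻¹) * z := by rw [h1, h2]
      _ = z * (x * z * x⁻¹) := hzz'.symm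

/-- Step D3: `N_S(S₀)` is the whole group. -/
theorem normalizer_eq_top {x : S} (hx : x ∈ Subgroup.normalizer (S₀ : Set S)) (hx0 : x ∉ S₀) :
    Subgroup.normalizer (S₀ : Set S) = ⊤ := by
  by_contra hN
  have : Fact (Nat.Prime 2) := ⟨Nat.prime_two⟩
  have : Group.IsNilpotent S := C.h2.isNilpotent
  have hnc : NormalizerCondition S := Group.normalizerCondition_of_isNilpotent
  obtain ⟨N, hNdef⟩ : ∃ N : Subgroup S, N = Subgroup.normalizer (S₀ : Set S) := ⟨_, rfl⟩
  rw [← hNdef] at hN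
  have hlt : N < Subgroup.normalizer (N : Set S) := hnc N (lt_top_iff_ne_top.mpr hN)
  obtain ⟨y, hyN, hy0⟩ := SetLike.exists_of_lt hlt
  have hyN' : ∀ n, n ∈ N ↔ y * n * y⁻¹ ∈ N := Subgroup.mem_normalizer_iff.mp hyN
  have hS₀N : S₀ ≤ N := hNdef ▸ Subgroup.le_normalizer
  have hxN : x ∈ N := hNdef ▸ hx
  have hNn : ∀ n ∈ N, n ∈ Subgroup.normalizer (S₀ : Set S) := fun n hn => hNdef ▸ hn
  have hyinv : ∀ n ∈ N, y⁻¹ * n * y ∈ N := by
    intro n hn
    rw [hyN']
    have : y * (y⁻¹ * n * y) * y⁻¹ = n := by group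
    rwa [this]
  -- the elements
  obtain ⟨z', hz'⟩ : ∃ z', z' = x * z * x⁻¹ := ⟨_, rfl⟩
  obtain ⟨z₃, hz₃⟩ : ∃ z₃, z₃ = y * z * y⁻¹ := ⟨_, rfl⟩
  obtain ⟨c, hc⟩ : ∃ c, c = y * (z * z') * y⁻¹ := ⟨_, rfl⟩
  have hzz := C.zz
  have hz'z : z' ≠ z := hz' ▸ C.conj_ne hx0
  have hzz' : z * z' = z' * z := hz' ▸ C.comm_conj hx C.z_mem
  have hz'z' : z' * z' = 1 := by
    rw [hz']
    calc x * z * x⁻¹ * (x * z * x⁻¹) = x * (z * z) * x⁻¹ := by group
      _ = 1 := by rw [hzz]; group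
  have hz₃N : z₃ ∈ N := hz₃ ▸ (hyN' z).mp (hS₀N C.z_mem)
  have hz₃z₃ : z₃ * z₃ = 1 := by
    rw [hz₃]
    calc y * z * y⁻¹ * (y * z * y⁻¹) = y * (z * z) * y⁻¹ := by group
      _ = 1 := by rw [hzz]; group
  have hz₃inv : z₃⁻¹ = z₃ := inv_eq_of_mul_eq_one_right hz₃z₃
  have hcc : c * c = 1 := by
    rw [hc]
    calc y * (z * z') * y⁻¹ * (y * (z * z') * y⁻¹) = y * (z * (z' * z) * z') * y⁻¹ := by group
      _ = y * (z * (z * z') * z') * y⁻¹ := by rw [hzz']
      _ = y * ((z * z) * (z' * z')) * y⁻¹ := by group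
      _ = 1 := by rw [hzz, hz'z']; group
  have hc1 : c ≠ 1 := by
    intro h
    rw [hc] at h
    have h1 : z * z' = 1 := by
      have : z * z' = y⁻¹ * (y * (z * z') * y⁻¹) * y := by group
      rw [this, h]; group
    apply hz'z
    have h2 : z * z' = z * z := by rw [h1, hzz]
    exact mul_left_cancel h2
  -- `c` is central in `N`
  have hcN : ∀ n ∈ N, n * c * n⁻¹ = c := by
    intro n hn
    have h1 := C.prod_central hx hx0 (hNn _ (hyinv n hn))
    rw [← hz'] at h1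
    calc n * c * n⁻¹ = y * ((y⁻¹ * n * y) * (z * z') * (y⁻¹ * n * y)⁻¹) * y⁻¹ := by
          rw [hc]; group
      _ = c := by rw [h1, hc]
  have hcN' : ∀ n ∈ N, n * c = c * n := by
    intro n hn
    calc n * c = n * c * n⁻¹ * n := by group
      _ = c * n := by rw [hcN n hn]
  -- the `N`-conjugates of `z₃`
  have hF2 : ∀ n ∈ N, n * z₃ * n⁻¹ = z₃ ∨ n * z₃ * n⁻¹ = z₃ * c := by
    intro n hn
    have hm := hyinv n hn
    have e1 : n * z₃ * n⁻¹ = y * ((y⁻¹ * n * y) * z * (y⁻¹ * n * y)⁻¹) * y⁻¹ := by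
      rw [hz₃]; group
    by_cases hm0 : y⁻¹ * n * y ∈ S₀
    · left
      have := (C.hS₀ _).mp hm0
      rw [e1, this, hz₃]; group
    · right
      have := C.conj_eq hx hx0 (hNn _ hm) hm0
      rw [e1, this, ← hz', hz₃, hc]
      calc y * z' * y⁻¹ = y * ((z * z) * z') * y⁻¹ := by rw [hzz, one_mul]
        _ = y * z * y⁻¹ * (y * (z * z') * y⁻¹) := by group
  -- `z` and `z'` are not central in `N`
  have hznc : ¬ ∀ n ∈ N, n * z * n⁻¹ = z := fun h => C.conj_ne hx0 (h x hxN)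
  have hz'nc : ¬ ∀ n ∈ N, n * z' * n⁻¹ = z' := by
    intro h
    have h1 := h x hxN
    have h2 := C.conj_conj hx hx0
    rw [← hz'] at h2
    rw [h2] at h1
    exact hz'z h1.symm
  have hcP : c ∉ P := by
    intro hcP
    have h1 : ∀ a ∈ P, a * c = c * a := fun a ha => hcN' a (hS₀N (C.P_le ha))
    rcases C.hD.cen c hcP h1 with h | h
    · exact hc1 h
    · exact hznc (fun n hn => by rw [← h]; exact hcN n hn)
  have hcQ : c ∉ cj x P := by
    intro hcQ
    have h1 : ∀ b ∈ cj x P, b * c = c * b := fun b hb => hcN' b (hS₀N (C.cj_le hx hb))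
    rcases (C.cj_data x).cen c hcQ h1 with h | h
    · exact hc1 h
    · rw [← hz'] at h
      exact hz'nc (fun n hn => by rw [← h]; exact hcN n hn)
  have hz₃z : z₃ ≠ z := by
    intro h
    apply hy0
    apply hS₀N
    rw [C.hS₀]
    calc y * z = (y * z * y⁻¹) * y := by group
      _ = z * y := by rw [← hz₃, h]
  have hz₃z' : z₃ ≠ z' := by
    intro h
    apply hy0
    have h1 : x⁻¹ * y ∈ S₀ := by
      rw [C.hS₀]
      calc x⁻¹ * y * z = x⁻¹ * (y * z * y⁻¹) * y := by group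
        _ = x⁻¹ * (x * z * x⁻¹) * y := by rw [← hz₃, h, hz']
        _ = z * (x⁻¹ * y) := by group
    have : y = x * (x⁻¹ * y) := by group
    rw [this]
    exact mul_mem hxN (hS₀N h1)
  obtain ⟨hp1, -, hp3⟩ := C.pair hx hx0
  by_cases hcase : z₃ * z = z * z₃
  · -- Case 1: `z₃ ∈ S₀`
    have hz₃S : z₃ ∈ S₀ := (C.hS₀ _).mpr hcase
    have hP3 : ∀ a ∈ P, z₃ * a = a * z₃ := by
      intro a ha
      rcases hF2 a (hS₀N (C.P_le ha)) with h | h
      · calc z₃ * a = (a * z₃ * a⁻¹)* a := by rw [h]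
          _ = a * z₃ := by group
      · exfalso
        apply hcP
        have h1 : c = (z₃⁻¹ * a * z₃) * a⁻¹ := by
          calc c = z₃⁻¹ * (z₃ * c) := by group
            _ = z₃⁻¹ * (a * z₃ * a⁻¹) := by rw [h]
            _ = (z₃⁻¹ * a * z₃) * a⁻¹ := by group
        rw [h1]
        exact mul_mem (C.hPn' z₃ hz₃S a ha) (inv_mem ha)
    have hQ3 : ∀ b ∈ cj x P, z₃ * b = b * z₃ := by
      intro b hb
      rcases hF2 b (hS₀N (C.cj_le hx hb)) with h | h
      · calc z₃ * b = (b * z₃ * b⁻¹)* b := by rw [h]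
          _ = b * z₃ := by group
      · exfalso
        apply hcQ
        have h1 : c = (z₃⁻¹ * b * z₃) * b⁻¹ := by
          calc c = z₃⁻¹ * (z₃ * c) := by group
            _ = z₃⁻¹ * (b * z₃ * b⁻¹) := by rw [h]
            _ = (z₃⁻¹ * b * z₃) * b⁻¹ := by group
        rw [h1]
        have h2 := C.cj_norm hx z₃⁻¹ (inv_mem hz₃S) b hb
        rw [inv_inv] at h2
        exact mul_mem h2 (inv_mem hb)
    have hmem := hp3 z₃ hz₃S hP3 hQ3
    obtain ⟨a, ha, b, hb, hab⟩ := exists_mul_of_mem_sup hp1 hmem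
    have ha' : a = 1 ∨ a = z := by
      apply C.hD.cen a ha
      intro a' ha'
      have h1 := hP3 a' ha'
      rw [hab] at h1
      have h2 : b * a' = a' * b := (hp1 a' ha' b hb).symm
      have h3 : a * a' * b = a' * a * b := by
        calc a * a' * b = a * (a' * b) := by group
          _ = a * (b * a') := by rw [h2]
          _ = a * b * a' := by group
          _ = a' * (a * b) := h1
          _ = a' * a * b := by group
      exact (mul_right_cancel h3).symm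
    have hb' : b = 1 ∨ b = z' := by
      rw [hz']
      apply (C.cj_data x).cen b hb
      intro b' hb'
      have h1 := hQ3 b' hb'
      rw [hab] at h1
      have h2 : a * b' = b' * a := hp1 a ha b' hb'
      have h3 : a * (b * b') = a * (b' * b) := by
        calc a * (b * b') = a * b * b' := by group
          _ = b' * (a * b) := h1
          _ = (b' * a) * b := by group
          _ = (a * b') * b := by rw [h2]
          _ = a * (b' * b) := by group
      exact (mul_left_cancel h3).symm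
    have hz₃1 : z₃ ≠ 1 := by
      intro h
      rw [hz₃] at h
      apply C.hD.z1
      have : z = y⁻¹ * (y * z * y⁻¹) * y := by group
      rw [this, h]; group
    rcases ha' with rfl | rfl <;> rcases hb' with rfl | rfl
    · exact hz₃1 (by rw [hab, one_mul])
    · exact hz₃z' (by rw [hab, one_mul])
    · exact hz₃z (by rw [hab, mul_one])
    · -- `z₃ = z z'` is central in `N`, hence so is `z`
      apply hznc
      intro n hn
      have h1 : y * n * y⁻¹ ∈ N := (hyN' n).mp hn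
      have h2 := C.prod_central hx hx0 (hNn _ h1)
      rw [← hz', ← hab, hz₃] at h2
      calc n * a * n⁻¹ = y⁻¹ * (y * n * y⁻¹ * (y * a * y⁻¹) * (y * n * y⁻¹)⁻¹) * y := by group
        _ = y⁻¹ * (y * a * y⁻¹) * y := by rw [h2]
        _ = a := by group
  · -- Case 2: `z₃ ∉ S₀`
    have h1 : z * z₃ * z⁻¹ = z₃ * c := by
      rcases hF2 z (hS₀N C.z_mem) with h | h
      · exfalso
        apply hcase
        calc z₃ * z = (z * z₃ * z⁻¹) * z := by rw [h]
          _ = z * z₃ := by group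
      · exact h
    have hsplit : ∀ a ∈ P, a * z₃ = z₃ * a ∨ (a * z) * z₃ = z₃ * (a * z) := by
      intro a ha
      have haN : a ∈ N := hS₀N (C.P_le ha)
      rcases hF2 a haN with h | h
      · left
        calc a * z₃ = (a * z₃ * a⁻¹) * a := by group
          _ = z₃ * a := by rw [h]
      · right
        have h2 : a * z * z₃ * (a * z)⁻¹ = z₃ := by
          calc a * z * z₃ * (a * z)⁻¹ = a * (z * z₃ * z⁻¹) * a⁻¹ := by group
            _ = a * (z₃ * c) * a⁻¹ := by rw [h1]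
            _ = (a * z₃ * a⁻¹) * (a * c * a⁻¹) := by group
            _ = z₃ * c * c := by rw [h, hcN a haN]
            _ = z₃ := by rw [mul_assoc, hcc, mul_one]
        calc a * z * z₃ = (a * z * z₃ * (a * z)⁻¹) * (a * z) := by group
          _ = z₃ * (a * z) := by rw [h2]
    -- the subgroup `P⁰`
    obtain ⟨P0, hP0⟩ : ∃ P0 : Subgroup S, P0 = P ⊓ Subgroup.centralizer ({z₃} : Set S) := ⟨_, rfl⟩
    have hP0mem : ∀ a, a ∈ P0 ↔ a ∈ P ∧ a * z₃ = z₃ * a := by
      intro a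
      rw [hP0, Subgroup.mem_inf, Subgroup.mem_centralizer_singleton_iff]
    have hP0nt : Nontrivial ↥P0 := by
      by_contra hnt
      rw [not_nontrivial_iff_subsingleton] at hnt
      have hnt : P0 = ⊥ := Subgroup.eq_bot_of_subsingleton P0
      have hall : ∀ a ∈ P, a = 1 ∨ a = z := by
        intro a ha
        rcases hsplit a ha with h | h
        · left
          have : a ∈ P0 := (hP0mem a).mpr ⟨ha, h⟩
          rw [hnt, Subgroup.mem_bot] at this
          exact this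
        · right
          have : a * z ∈ P0 := (hP0mem _).mpr ⟨mul_mem ha C.hD.zP, h⟩
          rw [hnt, Subgroup.mem_bot] at this
          have h3 : a * z = z * z := by rw [this, hzz]
          exact mul_right_cancel h3
      obtain ⟨a, ha, b, hb, hab⟩ := C.hD.nc
      apply hab
      rcases hall a ha with rfl | rfl <;> rcases hall b hb with rfl | rfl <;> simp
    have hP0p : IsPGroup 2 ↥P0 := C.h2.to_subgroup P0
    have hcnt : Nontrivial ↥(Subgroup.center ↥P0) := hP0p.center_nontrivial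
    obtain ⟨⟨⟨w, hwP0⟩, hwc⟩, hw1⟩ := exists_ne (1 : Subgroup.center ↥P0)
    have hw1' : w ≠ 1 := by
      intro h
      apply hw1
      apply Subtype.ext; apply Subtype.ext; exact h
    obtain ⟨hwP, hwz₃⟩ := (hP0mem w).mp hwP0
    have hwc' : ∀ a ∈ P0, a * w = w * a := by
      intro a ha
      have := Subgroup.mem_center_iff.mp hwc ⟨a, ha⟩
      exact congrArg Subtype.val this
    have hwall : ∀ a ∈ P, a * w = w * a := by
      intro a ha
      rcases hsplit a ha with h | h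
      · exact hwc' a ((hP0mem a).mpr ⟨ha, h⟩)
      · have h2 := hwc' (a * z) ((hP0mem _).mpr ⟨mul_mem ha C.hD.zP, h⟩)
        have h3 : w * z = z * w := C.hD.zc w hwP
        have h4 : a * w * z = w * a * z := by
          calc a * w * z = a * (w * z) := by group
            _ = a * (z * w) := by rw [h3]
            _ = a * z * w := by group
            _ = w * (a * z) := h2
            _ = w * a * z := by group
        exact mul_right_cancel h4
    rcases C.hD.cen w hwP hwall with h | h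
    · exact hw1' h
    · apply hcase
      rw [h] at hwz₃
      exact hwz₃.symm

end Ctx

end Cfsg.Agent.Lib.H1.SR4
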