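/-
S4613 (architect helper19), piece OMINUS (helper1): `SylRigid p (PΩ⁻_{2m+2}(F))`, `F` of characteristic `p`, `m ≥ 3`.
Criterion (GEN) `sylRigid_center_quot_of_gen` on `Ω = [GM, GM]` in the flag coordinates of S2549 (helper8):
`R = UsM ∩ Ω`, `Q1` the point radical, `Q2` the line radical (Lib/H1/SROMINUSa); both contain the family
`E(e₀, w)`, `w ⊥ e₀, e₁`, whose centralizer is `{±1} · UsM`; `N(Q1)` contains `B ∩ Ω` and the reflections `s_j t`, `j ≥ 1`,
`N(Q2)` contains `s_0 t`; generation from the restricted (B,N)-pair.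
-/
import Mathlib
import Cfsg.Agent.Lib.H8.MBNOmega
import Cfsg.Agent.Lib.H19.SRDefs
import Cfsg.Agent.Lib.H1.SROMINUSa

set_option autoImplicit false
set_option linter.unusedSectionVars false
set_option linter.unusedVariables false

namespace Cfsg.Agent.Lib.H1.SR

open Cfsg Cfsg.Agent.Lib.H19.SR
open Matrix Cfsg.Agent.Lib.H12.DCos Cfsg.Agent.Lib.H8.BNRoot Cfsg.Agent.Lib.H8.BNRes
  Cfsg.Agent.Lib.H8.BNSteinberg Cfsg.Agent.Lib.H8.MBN
open Cfsg.Agent.Lib.H8.MBNP
open Cfsg.Agent.Lib.H13.OddSt (commutatorCongr)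
open scoped Pointwise

variable {F : Type*} [Field F] [Fintype F] {m : ℕ} (a b : F)

/-- `SylRigid` for `Ω / Z(Ω)`, `Ω = [GM, GM]` in the flag coordinates -/
theorem sylRigid_commutator_GM (p : ℕ) [Fact p.Prime] [CharP F p] (hm : 3 ≤ m)
    (hab : ∀ z₁ z₂ : F, z₁ ^ 2 + a * z₁ * z₂ + b * z₂ ^ 2 = 0 → z₁ = 0 ∧ z₂ = 0) :
    SylRigid p (↥(commutator ↥(GM (m := m) a b)) ⧸
      Subgroup.center ↥(commutator ↥(GM (m := m) a b))) := by
  classical
  have h12 : Fintype.card F ≠ 2 ∨ m ≠ 1 := Or.inr (by omega)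
  let P := minusBN (m := m) a b hab
  let D := minusRootData (m := m) a b hab
  let G' : Subgroup ↥(GM (m := m) a b) := commutator ↥(GM (m := m) a b)
  have covers' : ∀ h : ↥(GM (m := m) a b), ∃ t ∈ HsM (m := m) a b, h * t ∈ G' := covers_GM a b hab
  have hcov : Covers P G' := by
    intro h
    obtain ⟨t, ht, h'⟩ := covers' h
    exact ⟨t, ⟨HsM_le_BsM ht, HsM_le_NsM ht⟩, h'⟩
  choose τ hτ1 hτ2 using covers'
  have hτ : ∀ s ∈ P.S, τ s ∈ P.B ⊓ P.N := fun s _ => ⟨HsM_le_BsM (hτ1 s), HsM_le_NsM (hτ1 s)⟩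
  have hτG : ∀ s ∈ P.S, s * τ s ∈ G' := fun s _ => hτ2 s
  have hτT : ∀ i, τ (D.e i) ∈ D.T := fun i => hτ1 _
  have hUG : UsM (m := m) a b ≤ G' := UsM_le_commutator a b hab
  have hXG : ∀ i, D.X i ⊆ ((G' : Subgroup ↥(GM (m := m) a b)) : Set ↥(GM (m := m) a b)) :=
    fun i x hx => hUG (XM_subset_UsM i hx)
  have hYG : ∀ i, D.Y i ⊆ ((G' : Subgroup ↥(GM (m := m) a b)) : Set ↥(GM (m := m) a b)) :=
    fun i y hy => YM_subset_commutator a b hab i y hy
  let D' := D.restrict G' hcov τ hτ hτG hτT hXG hYG hUG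
  let P' := Cfsg.Agent.Lib.H8.BNRes.restrict P G' hcov τ hτ hτG
  -- the centre has no element of order `p`
  have hZ : ∀ z ∈ Subgroup.center ↥G', z ^ p = 1 → z = 1 := by
    intro z hz hzp
    have hzT : z ∈ D'.T := D'.center_le_T hz
    have hzH : (z : ↥(GM (m := m) a b)) ∈ HsM a b := Subgroup.mem_subgroupOf.mp hzT
    have hzp' : (z : ↥(GM (m := m) a b)) ^ p = 1 := by
      have := congrArg (fun x : ↥G' => (x : ↥(GM (m := m) a b))) hzp
      simpa using this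
    have h1 := eq_one_of_pow_p a b p hab h12 _ hzH z.2 hzp'
    exact Subtype.ext h1
  -- the `p`-subgroup `R`
  let R : Subgroup ↥G' := (UsM (m := m) a b).subgroupOf G'
  have hR : IsPGroup p ↥R := by
    have h1 : IsPGroup p ↥(UsM (m := m) a b) := UsM_isPGroup a b p
    exact h1.of_injective (Subgroup.subgroupOfEquivOfLe hUG).toMonoidHom
      (Subgroup.subgroupOfEquivOfLe hUG).injective
  -- the centralizers
  have hcent : ∀ Q : Subgroup ↥(GM (m := m) a b), Q ≤ UsM (m := m) a b →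
      (∀ w : Fin (2 * m + 2) → F, w (ix 0 (by omega) : Fin (2 * m + 2)).rev = 0 →
        w (ix 1 (by omega) : Fin (2 * m + 2)).rev = 0 →
        eichG a b (Pi.single (ix 0 (by omega)) 1) w ∈ Q) →
      Subgroup.centralizer ((Q.subgroupOf G' : Subgroup ↥G') : Set ↥G') ≤ Subgroup.center ↥G' ⊔ R := by
    intro Q hQU hfam g hg
    have hcomm : ∀ w : Fin (2 * m + 2) → F, w (ix 0 (by omega) : Fin (2 * m + 2)).rev = 0 →
        w (ix 1 (by omega) : Fin (2 * m + 2)).rev = 0 →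
        (g : ↥(GM (m := m) a b)) * eichG a b (Pi.single (ix 0 (by omega)) 1) w =
          eichG a b (Pi.single (ix 0 (by omega)) 1) w * (g : ↥(GM (m := m) a b)) := by
      intro w h0 h1
      have hx : eichG a b (Pi.single (ix 0 (by omega)) 1) w ∈ Q := hfam w h0 h1
      have hxG : eichG a b (Pi.single (ix 0 (by omega)) 1) w ∈ G' := hUG (hQU hx)
      have h2 := Subgroup.mem_centralizer_iff.mp hg ⟨_, hxG⟩ (Subgroup.mem_subgroupOf.mpr hx)
      have h3 := congrArg (fun x : ↥G' => (x : ↥(GM (m := m) a b))) h2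
      exact h3.symm
    obtain ⟨z, hzc, hzg⟩ := cent_family a b hm (g : ↥(GM (m := m) a b)) hcomm
    have huG : z * (g : ↥(GM (m := m) a b)) ∈ G' := hUG hzg
    have hzG : z ∈ G' := by
      have e : z = (z * (g : ↥(GM (m := m) a b))) * (g : ↥(GM (m := m) a b))⁻¹ := by group
      rw [e]
      exact G'.mul_mem huG (G'.inv_mem g.2)
    have e : g = (⟨z, hzG⟩ : ↥G')⁻¹ * ⟨z * (g : ↥(GM (m := m) a b)), huG⟩ := by
      apply Subtype.ext
      show (g : ↥(GM (m := m) a b)) = z⁻¹ * (z * (g : ↥(GM (m := m) a b)))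
      group
    rw [e]
    apply Subgroup.mul_mem _ (Subgroup.mem_sup_left ?_) (Subgroup.mem_sup_right ?_)
    · apply Subgroup.inv_mem
      rw [Subgroup.mem_center_iff]
      intro h
      apply Subtype.ext
      exact (hzc (h : ↥(GM (m := m) a b))).symm
    · exact Subgroup.mem_subgroupOf.mpr hzg
  let 𝒬 : Set (Subgroup ↥G') := {(Q1 a b hm).subgroupOf G', (Q2 a b hm).subgroupOf G'}
  have h𝒬 : ∀ Q ∈ 𝒬, Q ≤ R ∧ Subgroup.centralizer (Q : Set ↥G') ≤ Subgroup.center ↥G' ⊔ R := by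
    intro Q hQ
    rcases hQ with rfl | hQ
    · exact ⟨fun x hx => Subgroup.mem_subgroupOf.mpr (Q1_le_UsM a b hm (Subgroup.mem_subgroupOf.mp hx)),
        hcent (Q1 a b hm) (Q1_le_UsM a b hm) (fun w h0 _ => fam_mem_Q1 a b hm w h0)⟩
    · rw [Set.mem_singleton_iff] at hQ
      rw [hQ]
      exact ⟨fun x hx => Subgroup.mem_subgroupOf.mpr (Q2_le_UsM a b hm (Subgroup.mem_subgroupOf.mp hx)),
        hcent (Q2 a b hm) (Q2_le_UsM a b hm) (fun w h0 h1 => fam_mem_Q2 a b hm w h0 h1)⟩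
  -- generation
  have hgen : Subgroup.closure (⋃ Q ∈ 𝒬, (Subgroup.normalizer (Q : Set ↥G') : Set ↥G')) = ⊤ := by
    rw [eq_top_iff]
    have hN1 : ∀ g : ↥G', (g : ↥(GM (m := m) a b)) ∈ Subgroup.normalizer
        ((Q1 a b hm : Subgroup ↥(GM (m := m) a b)) : Set ↥(GM (m := m) a b)) →
        g ∈ Subgroup.closure (⋃ Q ∈ 𝒬, (Subgroup.normalizer (Q : Set ↥G') : Set ↥G')) := by
      intro g hg
      apply Subgroup.subset_closure
      rw [Set.mem_iUnion₂]
      exact ⟨(Q1 a b hm).subgroupOf G', Set.mem_insert _ _, mem_normalizer_subgroupOf G' _ g hg⟩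
    have hN2 : ∀ g : ↥G', (g : ↥(GM (m := m) a b)) ∈ Subgroup.normalizer
        ((Q2 a b hm : Subgroup ↥(GM (m := m) a b)) : Set ↥(GM (m := m) a b)) →
        g ∈ Subgroup.closure (⋃ Q ∈ 𝒬, (Subgroup.normalizer (Q : Set ↥G') : Set ↥G')) := by
      intro g hg
      apply Subgroup.subset_closure
      rw [Set.mem_iUnion₂]
      exact ⟨(Q2 a b hm).subgroupOf G', Set.mem_insert_of_mem _ (Set.mem_singleton _),
        mem_normalizer_subgroupOf G' _ g hg⟩
    have hB : P'.B ≤ Subgroup.closure (⋃ Q ∈ 𝒬, (Subgroup.normalizer (Q : Set ↥G') : Set ↥G')) := by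
      intro g hg
      have hgB : (g : ↥(GM (m := m) a b)) ∈ BsM a b := (mem_restrict_B G' hcov τ hτ hτG g).mp hg
      exact hN1 g (mem_normalizer_Q1 a b hm _ _ (BsM_mulVec_single_zero a b hm _ hgB))
    have hS : P'.S ⊆ ((Subgroup.closure (⋃ Q ∈ 𝒬, (Subgroup.normalizer (Q : Set ↥G') : Set ↥G')) :
        Subgroup ↥G') : Set ↥G') := by
      intro g hg
      obtain ⟨s, hs, hsg⟩ := hg
      obtain ⟨j, rfl⟩ := hs
      have hsg' : sRefM a b j * τ (sRefM a b j) = (g : ↥(GM (m := m) a b)) := hsg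
      by_cases hj : (j : ℕ) = 0
      · apply hN2
        rw [← hsg']
        exact Subgroup.mul_mem _ (sRefM_zero_mem_normalizer_Q2 a b hm j hj)
          (HsM_le_normalizer_Q2 a b hm _ (hτ1 _))
      · apply hN1
        rw [← hsg']
        apply mem_normalizer_Q1 a b hm _
          (((τ (sRefM a b j)).1 : Matrix (Fin (2 * m + 2)) (Fin (2 * m + 2)) F) (ix 0 (by omega)) (ix 0 (by omega)))
        rw [val_mul, ← Matrix.mulVec_mulVec, HsM_mulVec_single a b _ (hτ1 _) _ (not_isMid_ix 0 (by omega)),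
          Matrix.mulVec_smul, sRefM_mulVec_single_zero a b hm j hj]
    calc (⊤ : Subgroup ↥G') = P'.B ⊔ P'.N := P'.sup_eq_top.symm
      _ ≤ Subgroup.closure (⋃ Q ∈ 𝒬, (Subgroup.normalizer (Q : Set ↥G') : Set ↥G')) := by
        apply sup_le hB
        rw [← P'.closure_sup]
        exact sup_le ((Subgroup.closure_le _).mpr hS) (inf_le_left.trans hB)
  exact sylRigid_center_quot_of_gen p hZ R hR 𝒬 h𝒬 hgen

/-- **OMINUS** (`m ≥ 3`: the form has dimension `2m + 2 ≥ 8`) -/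
theorem sylRigid_POmegaMinus (F : Type*) [Field F] [Fintype F] (p : ℕ) [Fact p.Prime] [CharP F p] (m : ℕ) (hm : 3 ≤ m)
    (a b : F) (hab : ∀ z₁ z₂ : F, z₁ ^ 2 + a * z₁ * z₂ + b * z₂ ^ 2 = 0 → z₁ = 0 ∧ z₂ = 0)
    (hs : IsSimpleGroup (POmega F (quadFormMinus m F a b))) : SylRigid p (POmega F (quadFormMinus m F a b)) :=
  SylRigid.of_equiv (centerQuotientCongr (commutatorCongr (isoM a b))).symm
    (sylRigid_commutator_GM a b p hm hab)

end Cfsg.Agent.Lib.H1.SR
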