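import Mathlib
import Cfsg.Prelude.Def_Local
import Cfsg.Prelude.Def_CaseTheorems
import Cfsg.Agent.Lib.H9.CoprimeGeneration

/-!
S3153 (helper15 blueprint), piece FOUR (helper1 twin): a normal subgroup `W` of odd order acted on by the four-group
`⟨t, t'⟩` lies in any subgroup containing `C_W(t)`, `C_W(t')` and `C_W(t t')`.
-/

set_option autoImplicit false
open Cfsg

namespace Cfsg.Agent.Lib.H1.STD

/-- the cyclic group of an element of square one is a `2`-group -/
theorem std_isPGroup_zpowers_of_sq {X : Type*} [Group X] (t : X) (ht : t ^ 2 = 1) :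
    IsPGroup 2 ↥(Subgroup.zpowers t) := by
  have hord : orderOf t ∣ 2 ^ 1 := by
    rw [pow_one]
    exact orderOf_dvd_of_pow_eq_one ht
  obtain ⟨i, -, hi⟩ := (Nat.dvd_prime_pow Nat.prime_two).1 hord
  apply IsPGroup.of_card (n := i)
  rw [Nat.card_zpowers, hi]

/-- FOUR: a normal subgroup `W` of odd order acted on by the four-group `⟨t, t'⟩` lies in any
subgroup containing `C_W(t)`, `C_W(t')` and `C_W(t t')`. -/
theorem le_of_four_group {X : Type*} [Group X] [Finite X] (W D : Subgroup X) [W.Normal]
    (hW : (Nat.card W).Coprime 2) (t t' : X) (ht : t ^ 2 = 1) (ht' : t' ^ 2 = 1)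
    (hc : t * t' = t' * t)
    (h1 : W ⊓ Subgroup.centralizer {t} ≤ D) (h2 : W ⊓ Subgroup.centralizer {t'} ≤ D)
    (h3 : W ⊓ Subgroup.centralizer {t * t'} ≤ D) : W ≤ D := by
  haveI : Fact (Nat.Prime 2) := ⟨Nat.prime_two⟩
  set A : Subgroup X := Subgroup.zpowers t ⊔ Subgroup.zpowers t' with hA
  have hnorm : Subgroup.zpowers t ≤ Subgroup.normalizer ((Subgroup.zpowers t' : Subgroup X) : Set X) := by
    rw [Subgroup.zpowers_le, Subgroup.mem_normalizer_iff]
    intro x
    have hcx : ∀ y ∈ Subgroup.zpowers t', t * y * t⁻¹ = y := by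
      intro y hy
      obtain ⟨n, rfl⟩ := Subgroup.mem_zpowers_iff.1 hy
      have : Commute t (t' ^ n) := (show Commute t t' from hc).zpow_right n
      rw [this.eq, mul_inv_cancel_right]
    constructor
    · intro hx
      rw [hcx x hx]
      exact hx
    · intro hx
      have := hcx _ hx
      have h4 : t * x * t⁻¹ = x := by
        have h5 : t * (t * x * t⁻¹) * t⁻¹ = t * x * t⁻¹ := this
        have h6 := congrArg (fun y => t⁻¹ * y * t) h5
        simpa [mul_assoc] using h6
      rw [← h4]
      exact hx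
  have hAp : IsPGroup 2 ↥A :=
    IsPGroup.to_sup_of_normal_right' (std_isPGroup_zpowers_of_sq t ht)
      (std_isPGroup_zpowers_of_sq t' ht') hnorm
  have hAW : Cfsg.Agent.Lib.H1.CoprimeAction A W := by
    refine ⟨?_, ?_, ?_⟩
    · intro a _
      rw [Subgroup.mem_normalizer_iff]
      intro x
      constructor
      · intro hx
        exact Subgroup.Normal.conj_mem inferInstance x hx a
      · intro hx
        have := Subgroup.Normal.conj_mem (inferInstance : W.Normal) _ hx a⁻¹
        simpa [mul_assoc] using this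
    · obtain ⟨k, hk⟩ := IsPGroup.iff_card.1 hAp
      rw [hk]
      exact Nat.Coprime.pow_left k hW.symm
    · left
      haveI : Group.IsNilpotent ↥A := IsPGroup.isNilpotent hAp
      exact IsNilpotent.to_isSolvable
  have htA : t ∈ A := Subgroup.mem_sup_left (Subgroup.mem_zpowers t)
  have ht'A : t' ∈ A := Subgroup.mem_sup_right (Subgroup.mem_zpowers t')
  apply Cfsg.Agent.Lib.H9.le_of_centralizers_le (p := 2) hAW hW htA ht'A hc ht ht' h1
  intro i
  rcases Nat.even_or_odd i with ⟨j, hj⟩ | ⟨j, hj⟩
  · have : t ^ i = 1 := by rw [hj, ← two_mul, pow_mul, ht, one_pow]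
    rw [this, one_mul]
    exact h2
  · have : t ^ i = t := by rw [hj, pow_succ, pow_mul, ht, one_pow, one_mul]
    rw [this]
    exact h3

end Cfsg.Agent.Lib.H1.STD
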