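import Mathlib
import Cfsg.Prelude.Def_Local
import Cfsg.Prelude.Def_CaseTheorems

/-!
S3153 (helper15 blueprint), piece SYL (helper1 twin): an element of `N` normalizing a Sylow `2`-subgroup `S` of `N` whose
square lies in `S` lies in `S`.
-/

set_option autoImplicit false
open Cfsg

namespace Cfsg.Agent.Lib.H1.STD

/-- an element normalizing a Sylow `p`-subgroup and having a `p`-power power in it lies in it (inside one group) -/
theorem std_mem_sylow_of_pow_mem {N : Type*} [Group N] [Finite N] {p : ℕ} [Fact p.Prime] (S : Sylow p N)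
    (g : N) (hg : g ∈ Subgroup.normalizer ((S : Subgroup N) : Set N)) (k : ℕ)
    (hgk : g ^ (p ^ k) ∈ (S : Subgroup N)) : g ∈ (S : Subgroup N) := by
  -- `⟨g⟩` is a `p`-group
  have hZ : IsPGroup p ↥(Subgroup.zpowers g) := by
    obtain ⟨j, hj⟩ := S.2 ⟨g ^ (p ^ k), hgk⟩
    have hj' : (g ^ (p ^ k)) ^ (p ^ j) = 1 := by
      have := congrArg Subtype.val hj
      simpa using this
    rw [← pow_mul, ← pow_add] at hj'
    have hord : orderOf g ∣ p ^ (k + j) := orderOf_dvd_of_pow_eq_one hj'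
    obtain ⟨i, -, hi⟩ := (Nat.dvd_prime_pow (Fact.out : p.Prime)).1 hord
    apply IsPGroup.of_card (n := i)
    rw [Nat.card_zpowers, hi]
  have hle : Subgroup.zpowers g ≤ Subgroup.normalizer ((S : Subgroup N) : Set N) := by
    rw [Subgroup.zpowers_le]
    exact hg
  have hT : IsPGroup p ↥(Subgroup.zpowers g ⊔ (S : Subgroup N)) :=
    IsPGroup.to_sup_of_normal_right' hZ S.2 hle
  have hEq : Subgroup.zpowers g ⊔ (S : Subgroup N) = (S : Subgroup N) :=
    S.is_maximal' hT le_sup_right
  rw [← hEq]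
  exact Subgroup.mem_sup_left (Subgroup.mem_zpowers g)

/-- in a finite group, `g S g⁻¹ ⊆ S` implies `g ∈ N(S)` -/
theorem std_mem_normalizer_of_conj_le {N : Type*} [Group N] [Finite N] (S : Subgroup N) (g : N)
    (h : ∀ s ∈ S, g * s * g⁻¹ ∈ S) : g ∈ Subgroup.normalizer (S : Set N) := by
  have hle : S.map (MulAut.conj g).toMonoidHom ≤ S := by
    rintro _ ⟨s, hs, rfl⟩
    exact h s hs
  have hcard : Nat.card ↥(S.map (MulAut.conj g).toMonoidHom) = Nat.card ↥S :=
    Subgroup.card_map_of_injective (MulAut.conj g).injective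
  have heq : S.map (MulAut.conj g).toMonoidHom = S :=
    Subgroup.eq_of_le_of_card_ge hle (le_of_eq hcard.symm)
  rw [Subgroup.mem_normalizer_iff]
  intro x
  constructor
  · exact h x
  · intro hx
    rw [← heq] at hx
    obtain ⟨s, hs, hsx⟩ := hx
    have : s = x := by
      have h1 : g * s * g⁻¹ = g * x * g⁻¹ := hsx
      have h2 := congrArg (fun y => g⁻¹ * y * g) h1
      simpa [mul_assoc] using h2
    rw [← this]
    exact hs

/-- SYL: an element of `N` normalizing (the image in `X` of) a Sylow 2-subgroup `S` of `N` whose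
square lies in `S` lies in `S`. -/
theorem mem_sylow_of_sq_mem {X : Type*} [Group X] [Finite X] (N : Subgroup X) (S : Sylow 2 ↥N)
    (g : X) (hgN' : g ∈ N)
    (hgN : ∀ s ∈ (S : Subgroup ↥N).map N.subtype, g * s * g⁻¹ ∈ (S : Subgroup ↥N).map N.subtype)
    (hg2 : g ^ 2 ∈ (S : Subgroup ↥N).map N.subtype) : g ∈ (S : Subgroup ↥N).map N.subtype := by
  haveI : Fact (Nat.Prime 2) := ⟨Nat.prime_two⟩
  set g' : ↥N := ⟨g, hgN'⟩ with hg'
  have hnorm : g' ∈ Subgroup.normalizer ((S : Subgroup ↥N) : Set ↥N) := by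
    apply std_mem_normalizer_of_conj_le
    intro s hs
    obtain ⟨s', hs', hss'⟩ := hgN (s : X) ⟨s, hs, rfl⟩
    have : s' = g' * s * g'⁻¹ := by
      apply Subtype.ext
      rw [← Subgroup.subtype_apply, hss']
      rfl
    rw [← this]
    exact hs'
  have hsq : g' ^ (2 ^ 1) ∈ (S : Subgroup ↥N) := by
    obtain ⟨s', hs', hss'⟩ := hg2
    have : s' = g' ^ (2 ^ 1) := by
      apply Subtype.ext
      rw [← Subgroup.subtype_apply, hss']
      rfl
    rw [← this]
    exact hs'
  have hmem := std_mem_sylow_of_pow_mem S g' hnorm 1 hsq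
  exact ⟨g', hmem, rfl⟩

end Cfsg.Agent.Lib.H1.STD
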