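import Mathlib
import Cfsg.Agent.Lib.H1.Frobenius
import Cfsg.Agent.Lib.H1.QuotientBasic
import Cfsg.Agent.Lib.H1.SchurZassenhaus
import Cfsg.Agent.Lib.H1.CoprimeSylow

set_option autoImplicit false
open Pointwise

namespace Cfsg.Agent.Lib.H1

universe u

section General

variable {G : Type*} [Group G]

/-- The preimage of a maximal subgroup of `G ⧸ N` is maximal. -/
theorem isCoatom_comap_mk' {N : Subgroup G} [N.Normal] {X : Subgroup (G ⧸ N)} (hX : IsCoatom X) :
    IsCoatom (X.comap (QuotientGroup.mk' N)) := by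
  constructor
  · intro htop
    apply hX.1
    rw [← map_comap_mk' N X, htop, ← MonoidHom.range_eq_map,
      MonoidHom.range_eq_top.mpr (QuotientGroup.mk'_surjective N)]
  · intro Y hY
    have hNY : N ≤ Y := (le_comap_mk' N X).trans hY.le
    have h1 : X ≤ Y.map (QuotientGroup.mk' N) := by
      rw [← map_comap_mk' N X]
      exact Subgroup.map_mono hY.le
    have h2 : X ≠ Y.map (QuotientGroup.mk' N) := by
      intro heq
      apply hY.ne
      rw [heq, comap_map_mk'_of_le hNY]
    have h3 := hX.2 _ (lt_of_le_of_ne h1 h2)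
    rw [← comap_map_mk'_of_le hNY, h3, Subgroup.comap_top]

/-- Normalizers grow in nilpotent subgroups. -/
theorem exists_mem_normalizer_not_mem {M D : Subgroup G} (hM : Group.IsNilpotent M)
    (hDM : D < M) : ∃ x ∈ M, x ∈ Subgroup.normalizer (D : Set G) ∧ x ∉ D := by
  have hD' : D.subgroupOf M < ⊤ := by
    rw [lt_top_iff_ne_top]
    intro htop
    rw [Subgroup.subgroupOf_eq_top] at htop
    exact hDM.not_ge htop
  have hnc := Group.normalizerCondition_of_isNilpotent (G := M) _ hD'
  obtain ⟨x, hxn, hxD⟩ := SetLike.exists_of_lt hnc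
  rw [← Subgroup.subgroupOf_normalizer_eq hDM.le] at hxn
  exact ⟨x, x.2, Subgroup.mem_subgroupOf.mp hxn, fun h => hxD (Subgroup.mem_subgroupOf.mpr h)⟩

/-- Conjugation as an order automorphism of the subgroup lattice. -/
def conjOrderIso (g : G) : Subgroup G ≃o Subgroup G where
  toFun H := MulAut.conj g • H
  invFun H := MulAut.conj g⁻¹ • H
  left_inv H := by
    change MulAut.conj g⁻¹ • MulAut.conj g • H = H
    rw [conj_smul_conj_smul, inv_mul_cancel, map_one, one_smul]
  right_inv H := by
    change MulAut.conj g • MulAut.conj g⁻¹ • H = H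
    rw [conj_smul_conj_smul, mul_inv_cancel, map_one, one_smul]
  map_rel_iff' := Subgroup.pointwise_smul_le_pointwise_smul_iff

/-- Conjugates of maximal subgroups are maximal. -/
theorem isCoatom_conj_smul {M : Subgroup G} (hM : IsCoatom M) (g : G) :
    IsCoatom (MulAut.conj g • M) :=
  ((conjOrderIso g).isCoatom_iff M).mpr hM

end General

/-- All maximal subgroups are nilpotent. -/
def MaxNilpotent (G : Type*) [Group G] : Prop :=
  ∀ M : Subgroup G, IsCoatom M → Group.IsNilpotent M

theorem MaxNilpotent.quotient {G : Type*} [Group G] (h : MaxNilpotent G) (N : Subgroup G)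
    [N.Normal] : MaxNilpotent (G ⧸ N) := by
  intro X hX
  have hM := h _ (isCoatom_comap_mk' hX)
  exact Group.nilpotent_of_surjective ((QuotientGroup.mk' N).subgroupComap X)
    ((QuotientGroup.mk' N).subgroupComap_surjective_of_surjective X
      (QuotientGroup.mk'_surjective N))

/-- The simple case of Schmidt's theorem. -/
theorem schmidt_simple {G : Type*} [Group G] [Finite G] (h : MaxNilpotent G)
    (hsimp : ∀ N : Subgroup G, N.Normal → N = ⊥ ∨ N = ⊤) (hcyc : ¬ IsCyclic G) : False := by
  have hne1 : ∃ g : G, g ≠ 1 := by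
    by_contra hcon
    push Not at hcon
    have : Subsingleton G := ⟨fun a b => by rw [hcon a, hcon b]⟩
    exact hcyc inferInstance
  have hz : ∀ g : G, Subgroup.zpowers g ≠ ⊤ := fun g htop =>
    hcyc (isCyclic_iff_exists_zpowers_eq_top.mpr ⟨g, htop⟩)
  have hcoat : ∀ g : G, ∃ M : Subgroup G, IsCoatom M ∧ g ∈ M := by
    intro g
    obtain ⟨M, hM, hle⟩ := (eq_top_or_exists_le_coatom (Subgroup.zpowers g)).resolve_left (hz g)
    exact ⟨M, hM, hle (Subgroup.mem_zpowers g)⟩
  have hbot : ∀ M : Subgroup G, IsCoatom M → M ≠ ⊥ := by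
    rintro M hM rfl
    obtain ⟨g, hg⟩ := hne1
    have : (⊥ : Subgroup G) < Subgroup.zpowers g := by
      rw [bot_lt_iff_ne_bot]
      intro hb
      apply hg
      have := Subgroup.mem_zpowers g
      rwa [hb, Subgroup.mem_bot] at this
    exact hz g (hM.2 _ this)
  have hselfnorm : ∀ M : Subgroup G, IsCoatom M → Subgroup.normalizer (M : Set G) = M := by
    intro M hM
    by_contra hne
    have hlt : M < Subgroup.normalizer (M : Set G) :=
      lt_of_le_of_ne Subgroup.le_normalizer (fun h => hne h.symm)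
    have htop := hM.2 _ hlt
    have hMn : M.Normal := Subgroup.normalizer_eq_top_iff.mp htop
    rcases hsimp M hMn with h1 | h1
    · exact hbot M hM h1
    · exact hM.1 h1
  have hconj_ne : ∀ M : Subgroup G, IsCoatom M → ∀ g : G, g ∉ M → MulAut.conj g • M ≠ M := by
    intro M hM g hg heq
    apply hg
    have := conj_smul_eq_self_iff_mem_normalizer.mp heq
    rwa [hselfnorm M hM] at this
  by_cases hA : ∃ M₁ M₂ : Subgroup G, IsCoatom M₁ ∧ IsCoatom M₂ ∧ M₁ ≠ M₂ ∧ M₁ ⊓ M₂ ≠ ⊥
  · -- Case A
    let s : Set (Subgroup G × Subgroup G) :=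
      {p | IsCoatom p.1 ∧ IsCoatom p.2 ∧ p.1 ≠ p.2 ∧ p.1 ⊓ p.2 ≠ ⊥}
    have hsne : s.Nonempty := by
      obtain ⟨M₁, M₂, h1, h2, h3, h4⟩ := hA
      exact ⟨(M₁, M₂), h1, h2, h3, h4⟩
    obtain ⟨⟨M₁, M₂⟩, hmem, hmax⟩ := Set.Finite.exists_maximalFor
      (fun p : Subgroup G × Subgroup G => Nat.card (p.1 ⊓ p.2 : Subgroup G)) s (Set.toFinite s) hsne
    obtain ⟨hM₁, hM₂, hne, hDne⟩ := hmem
    simp only at hM₁ hM₂ hne hDne
    set D := M₁ ⊓ M₂ with hD
    have hDn : Subgroup.normalizer (D : Set G) ≠ ⊤ := by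
      intro htop
      have hDnorm : D.Normal := Subgroup.normalizer_eq_top_iff.mp htop
      rcases hsimp D hDnorm with h1 | h1
      · exact hDne h1
      · apply hM₁.1
        rw [eq_top_iff, ← h1]
        exact inf_le_left
    obtain ⟨M₃, hM₃, hNM₃⟩ := (eq_top_or_exists_le_coatom _).resolve_left hDn
    have key : ∀ M : Subgroup G, IsCoatom M → D < M → M = M₃ := by
      intro M hM hDM
      by_contra hMM₃
      obtain ⟨x, hxM, hxN, hxD⟩ := exists_mem_normalizer_not_mem (h M hM) hDM
      have hDle : D ≤ M ⊓ M₃ := le_inf hDM.le (Subgroup.le_normalizer.trans hNM₃)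
      have hmem' : (M, M₃) ∈ s := by
        refine ⟨hM, hM₃, hMM₃, ?_⟩
        intro hb
        apply hDne
        rw [eq_bot_iff, ← hb]
        exact hDle
      have h1 := hmax hmem' (Subgroup.card_le_of_le hDle)
      have h2 := Subgroup.eq_of_le_of_card_ge hDle h1
      apply hxD
      rw [h2]
      exact ⟨hxM, hNM₃ hxN⟩
    have hlt : ∀ M M' : Subgroup G, IsCoatom M → IsCoatom M' → M ≠ M' → M ⊓ M' < M := by
      intro M M' hM hM' hne'
      apply lt_of_le_of_ne inf_le_left
      intro heq
      have hle : M ≤ M' := by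
        rw [← heq]
        exact inf_le_right
      rcases eq_or_lt_of_le hle with h1 | h1
      · exact hne' h1
      · exact hM'.1 (hM.2 _ h1)
    have e1 := key M₁ hM₁ (hlt M₁ M₂ hM₁ hM₂ hne)
    have e2 := key M₂ hM₂ (by
      have := hlt M₂ M₁ hM₂ hM₁ hne.symm
      rwa [inf_comm] at this)
    exact hne (e1.trans e2.symm)
  · -- Case B
    have hB : ∀ M₁ M₂ : Subgroup G, IsCoatom M₁ → IsCoatom M₂ → M₁ ≠ M₂ → M₁ ⊓ M₂ = ⊥ := by
      intro M₁ M₂ h1 h2 h3
      by_contra h4
      exact hA ⟨M₁, M₂, h1, h2, h3, h4⟩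
    have hfrob : ∀ M : Subgroup G, IsCoatom M → Cfsg.IsFrobeniusComplement M := by
      intro M hM
      refine ⟨hbot M hM, hM.1, fun g hg => ?_⟩
      exact hB M _ hM (isCoatom_conj_smul hM g) (hconj_ne M hM g hg).symm
    obtain ⟨g₀, hg₀⟩ := hne1
    obtain ⟨M, hM, -⟩ := hcoat g₀
    have hcardK := frob_card_kernel (hfrob M hM)
    have hMidx : 2 ≤ M.index := by
      have h0 : M.index ≠ 0 := Subgroup.index_ne_zero_of_finite
      have h1 : M.index ≠ 1 := fun h1 => hM.1 (Subgroup.index_eq_one.mp h1)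
      omega
    have hnt : Nontrivial (Cfsg.frobeniusKernel M) := by
      rw [← Finite.one_lt_card_iff_nontrivial, hcardK]
      exact hMidx
    obtain ⟨g, hgK, hg1⟩ : ∃ g ∈ Cfsg.frobeniusKernel M, g ≠ 1 := by
      obtain ⟨a, b, hab⟩ := hnt
      by_cases ha : (a : G) = 1
      · refine ⟨b, b.2, ?_⟩
        intro hb
        apply hab
        apply Subtype.ext
        rw [ha, hb]
      · exact ⟨a, a.2, ha⟩
    obtain ⟨K, hK, hgKm⟩ := hcoat g
    have hgnot : ∀ d : G, g ∉ MulAut.conj d • M := by
      rcases hgK with h1 | h1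
      · exact absurd h1 hg1
      · exact h1
    have hinj : ∀ x : G, x ∉ Cfsg.frobeniusKernel K → x ∈ Cfsg.frobeniusKernel M ∧ x ≠ 1 := by
      intro x hx
      rw [not_mem_frobeniusKernel_iff] at hx
      obtain ⟨hx1, c, hc⟩ := hx
      refine ⟨?_, hx1⟩
      by_contra hxM
      rw [not_mem_frobeniusKernel_iff] at hxM
      obtain ⟨-, d, hd⟩ := hxM
      have heq : MulAut.conj c • K = MulAut.conj d • M := by
        by_contra hne'
        have := hB _ _ (isCoatom_conj_smul hK c) (isCoatom_conj_smul hM d) hne'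
        have hx' : x ∈ MulAut.conj c • K ⊓ MulAut.conj d • M := ⟨hc, hd⟩
        rw [this, Subgroup.mem_bot] at hx'
        exact hx1 hx'
      have hK' : K = MulAut.conj (c⁻¹ * d) • M := by
        rw [← conj_smul_conj_smul, ← heq, conj_smul_conj_smul, inv_mul_cancel, map_one, one_smul]
      apply hgnot (c⁻¹ * d)
      rw [← hK']
      exact hgKm
    -- counting
    let f : {x : G // x ∉ Cfsg.frobeniusKernel K} →
        {y : Cfsg.frobeniusKernel M // y ≠ ⟨1, one_mem_frobeniusKernel M⟩} := fun x =>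
      ⟨⟨x, (hinj x x.2).1⟩, fun h => (hinj x x.2).2 (congrArg Subtype.val h)⟩
    have hf : Function.Injective f := by
      intro x y hxy
      apply Subtype.ext
      have h1 : (((f x).1 : Cfsg.frobeniusKernel M) : G) = (((f y).1 : Cfsg.frobeniusKernel M) : G) := by
        rw [hxy]
      exact h1
    have hle := Nat.card_le_card_of_injective f hf
    rw [frob_card_compl (hfrob K hK)] at hle
    have h1 := card_subtype_ne_add_one (⟨1, one_mem_frobeniusKernel M⟩ : Cfsg.frobeniusKernel M)
    rw [hcardK] at h1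
    have h2 := card_ne_one_add_one K
    have h3 := K.card_mul_index
    have h4 := M.card_mul_index
    have hKcard : 2 ≤ Nat.card K := by
      have h0 : Nat.card K ≠ 0 := Nat.card_pos.ne'
      have h1' : Nat.card K ≠ 1 := fun h => hbot K hK (Subgroup.card_eq_one.mp h)
      omega
    have hMcard : 2 ≤ Nat.card M := by
      have h0 : Nat.card M ≠ 0 := Nat.card_pos.ne'
      have h1' : Nat.card M ≠ 1 := fun h => hbot M hM (Subgroup.card_eq_one.mp h)
      omega
    set a := K.index
    set c := Nat.card {h : K // h ≠ 1}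
    set m := M.index
    set t := Nat.card {y : Cfsg.frobeniusKernel M // y ≠ ⟨1, one_mem_frobeniusKernel M⟩}
    have e1 : Nat.card G = a * c + a := by
      rw [← h3, ← h2]
      ring
    have e2 : 2 * a ≤ Nat.card G := by
      rw [← h3]
      nlinarith
    have e3 : 2 * m ≤ Nat.card G := by
      rw [← h4]
      nlinarith
    omega

/-- **Schmidt's theorem**: a finite group all of whose maximal subgroups are nilpotent is
solvable. -/
theorem isSolvable_of_maxNilpotent_aux : ∀ (n : ℕ) (G : Type u) [Group G] [Finite G],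
    Nat.card G = n → MaxNilpotent G → Group.IsSolvable G := by
  intro n
  induction n using Nat.strong_induction_on with
  | _ n ih =>
  intro G _ _ hn h
  by_cases hsimple : ∃ N : Subgroup G, N.Normal ∧ N ≠ ⊥ ∧ N ≠ ⊤
  · obtain ⟨N, hNn, hNb, hNt⟩ := hsimple
    obtain ⟨M, hM, hNM⟩ := (eq_top_or_exists_le_coatom N).resolve_left hNt
    have hMnil := h M hM
    have h1 : Group.IsSolvable N := by
      have : Group.IsNilpotent (N.subgroupOf M) := inferInstance
      have hs : Group.IsSolvable (N.subgroupOf M) := inferInstance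
      exact Group.isSolvable_of_surjective
        (f := (Subgroup.subgroupOfEquivOfLe hNM).toMonoidHom)
        (Subgroup.subgroupOfEquivOfLe hNM).surjective
    have h2 : Group.IsSolvable (G ⧸ N) :=
      ih _ (hn ▸ card_quotient_lt hNb) (G ⧸ N) rfl (h.quotient N)
    apply Group.isSolvable_of_ker_le_range N.subtype (QuotientGroup.mk' N)
    rw [QuotientGroup.ker_mk', Subgroup.range_subtype]
  · have hsimp : ∀ N : Subgroup G, N.Normal → N = ⊥ ∨ N = ⊤ := by
      intro N hNn
      by_contra hcon
      rw [not_or] at hcon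
      exact hsimple ⟨N, hNn, hcon.1, hcon.2⟩
    by_cases hcyc : IsCyclic G
    · have : CommGroup G := IsCyclic.commGroup
      infer_instance
    · exact (schmidt_simple h hsimp hcyc).elim

theorem isSolvable_of_maxNilpotent {G : Type u} [Group G] [Finite G] (h : MaxNilpotent G) :
    Group.IsSolvable G :=
  isSolvable_of_maxNilpotent_aux _ G rfl h

end Cfsg.Agent.Lib.H1
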