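import Mathlib
import Cfsg.Prelude.Def_CaseTheorems

/-!
helper1 library: elementwise forms of the sectional `p`-rank bound.
-/

set_option autoImplicit false

namespace Cfsg.Agent.Lib.H1.SecRank

open Cfsg

/-- If `K / L` is an elementary abelian section of `S` then `|K| ≤ p ^ k * |L|`. -/
theorem card_le_of_sectional {S : Type*} [Group S] [Finite S] {p k : ℕ}
    (hr : SectionalPRankLE p k S) (K L : Subgroup S) (hLK : L ≤ K)
    (hn : ∀ g ∈ K, ∀ l ∈ L, g * l * g⁻¹ ∈ L) (hpow : ∀ a ∈ K, a ^ p ∈ L)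
    (hcomm : ∀ a ∈ K, ∀ b ∈ K, a * b * a⁻¹ * b⁻¹ ∈ L) :
    Nat.card K ≤ p ^ k * Nat.card L := by
  have hN : (L.subgroupOf K).Normal := by
    refine ⟨fun l hl g => ?_⟩
    rw [Subgroup.mem_subgroupOf] at hl ⊢
    simpa using hn g g.2 l hl
  have h1 := hr K (L.subgroupOf K) ⊤ ?_ ?_
  · have h2 : Nat.card (⊤ : Subgroup (↥K ⧸ L.subgroupOf K)) = (L.subgroupOf K).index := by
      rw [Subgroup.card_top]; rfl
    have h3 := Subgroup.card_mul_index (L.subgroupOf K)
    have h4 : Nat.card (L.subgroupOf K) = Nat.card L :=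
      Nat.card_congr (Subgroup.subgroupOfEquivOfLe hLK).toEquiv
    rw [h2] at h1
    rw [h4] at h3
    calc Nat.card K = Nat.card L * (L.subgroupOf K).index := h3.symm
      _ ≤ Nat.card L * p ^ k := Nat.mul_le_mul_left _ h1
      _ = p ^ k * Nat.card L := mul_comm _ _
  · refine ⟨⟨?_⟩⟩
    rintro ⟨a, -⟩ ⟨b, -⟩
    apply Subtype.ext
    show a * b = b * a
    induction a using QuotientGroup.induction_on with | H a => ?_
    induction b using QuotientGroup.induction_on with | H b => ?_
    rw [← QuotientGroup.mk_mul, ← QuotientGroup.mk_mul, QuotientGroup.eq, Subgroup.mem_subgroupOf]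
    have := hcomm _ (inv_mem b.2) _ (inv_mem a.2)
    simpa [mul_assoc] using this
  · rintro a -
    induction a using QuotientGroup.induction_on with | H a => ?_
    rw [← QuotientGroup.mk_pow, QuotientGroup.eq_one_iff, Subgroup.mem_subgroupOf]
    simpa using hpow a a.2

/-- Criterion for a sectional rank bound in terms of elementary abelian sections `K / L`. -/
theorem sectional_of_card_le {P : Type*} [Group P] [Finite P] {p k : ℕ}
    (h : ∀ K L : Subgroup P, L ≤ K → (∀ g ∈ K, ∀ l ∈ L, g * l * g⁻¹ ∈ L) →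
      (∀ a ∈ K, a ^ p ∈ L) → (∀ a ∈ K, ∀ b ∈ K, a * b * a⁻¹ * b⁻¹ ∈ L) →
      Nat.card K ≤ p ^ k * Nat.card L) : SectionalPRankLE p k P := by
  intro H N _ A hAc hAe
  set B : Subgroup ↥H := A.comap (QuotientGroup.mk' N) with hB
  have hNB : N ≤ B := by
    intro n hn
    rw [hB, Subgroup.mem_comap]
    have : (QuotientGroup.mk' N) n = 1 := by
      rw [QuotientGroup.mk'_apply, QuotientGroup.eq_one_iff]; exact hn
    rw [this]; exact one_mem _
  have key := h (B.map H.subtype) (N.map H.subtype) (Subgroup.map_mono hNB) ?_ ?_ ?_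
  · rw [Subgroup.card_map_of_injective H.subtype_injective,
      Subgroup.card_map_of_injective H.subtype_injective] at key
    have h1 : B.index = A.index :=
      Subgroup.index_comap_of_surjective A (QuotientGroup.mk'_surjective N)
    have h2 := Subgroup.card_mul_index B
    have h3 := Subgroup.card_mul_index A
    have h4 := Subgroup.card_mul_index N
    have h5 : Nat.card (↥H ⧸ N) = N.index := rfl
    have hNpos : 0 < Nat.card N := Nat.card_pos
    have hidx : 0 < A.index := Nat.pos_of_ne_zero Subgroup.index_ne_zero_of_finite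
    -- |B| * idx = |H| = |N| * |H/N| = |N| * |A| * idx
    have h6 : Nat.card B * A.index = Nat.card N * Nat.card A * A.index := by
      calc Nat.card B * A.index = Nat.card B * B.index := by rw [h1]
        _ = Nat.card N * N.index := by rw [h2, h4]
        _ = Nat.card N * (Nat.card A * A.index) := by rw [← h5, h3]
        _ = Nat.card N * Nat.card A * A.index := by ring
    have h7 : Nat.card B = Nat.card N * Nat.card A := Nat.eq_of_mul_eq_mul_right hidx h6
    rw [h7] at key
    have : Nat.card N * Nat.card A ≤ Nat.card N * p ^ k := by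
      calc _ ≤ p ^ k * Nat.card N := key
        _ = _ := mul_comm _ _
    exact Nat.le_of_mul_le_mul_left this hNpos
  · rintro g ⟨g', -, rfl⟩ l ⟨l', hl', rfl⟩
    refine ⟨g' * l' * g'⁻¹, ?_, by simp⟩
    exact (inferInstance : N.Normal).conj_mem l' hl' g'
  · rintro a ⟨a', ha', rfl⟩
    refine ⟨a' ^ p, ?_, by simp⟩
    have ha' : (QuotientGroup.mk' N) a' ∈ A := ha'
    have := hAe _ ha'
    rw [← map_pow, QuotientGroup.mk'_apply, QuotientGroup.eq_one_iff] at this
    exact this
  · rintro a ⟨a', ha', rfl⟩ b ⟨b', hb', rfl⟩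
    refine ⟨a' * b' * a'⁻¹ * b'⁻¹, ?_, by simp⟩
    have ha' : (QuotientGroup.mk' N) a' ∈ A := ha'
    have hb' : (QuotientGroup.mk' N) b' ∈ A := hb'
    have hc : (⟨_, ha'⟩ : A) * ⟨_, hb'⟩ = ⟨_, hb'⟩ * ⟨_, ha'⟩ := hAc.is_comm.comm _ _
    have hc' : (QuotientGroup.mk' N) a' * (QuotientGroup.mk' N) b' =
        (QuotientGroup.mk' N) b' * (QuotientGroup.mk' N) a' := congrArg Subtype.val hc
    have : (QuotientGroup.mk' N) (a' * b' * a'⁻¹ * b'⁻¹) = 1 := by
      rw [map_mul, map_mul, map_mul, map_inv, map_inv, hc']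
      group
    rw [QuotientGroup.mk'_apply, QuotientGroup.eq_one_iff] at this
    exact this

end Cfsg.Agent.Lib.H1.SecRank
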