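import Cfsg.Agent.Lib.H1.ShIWrap
import Cfsg.Agent.Lib.H24.ShICore
import Cfsg.Agent.Lib.H18.SH16FIN
import Cfsg.Agent.Lib.H19.SHODDKEY

/-!
# S3016, conclusion (I): the whole chain closed (helper1)

`lemma_I_all` : `C_{[Y,H]}(H) = 1` for every `H`-invariant `p'`-subgroup `Y` with `EC H Y`
(helper18's counting finish, helper24's `inv_ker`, helper19's `key_conj`).
`concl_I` : conclusion (I) of S3016 from conclusion (II), with no further hypothesis.
-/

set_option autoImplicit false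

universe u

namespace Cfsg.Agent.Lib.H1.ShIAll

open Cfsg.Agent.Lib.H24.ShI
open scoped commutatorElement

variable {G : Type u} [Group G]

/-- `C_{[Y,H]}(H) = 1` for an abelian `p`-group `H` (odd `p`) acting on a `p'`-group `Y` with `EC H Y` -/
theorem lemma_I_all [Finite G] {p : ℕ} [Fact p.Prime] (hp2 : p ≠ 2) (H : Subgroup G)
    (hHp : IsPGroup p H) (hHab : ∀ a ∈ H, ∀ b ∈ H, a * b = b * a) (Y : Subgroup G)
    (hYp : ¬ p ∣ Nat.card Y) (hnorm : ∀ h ∈ H, ∀ y ∈ Y, h * y * h⁻¹ ∈ Y) (hEC : EC H Y) :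
    ⁅Y, H⁆ ⊓ Subgroup.centralizer (H : Set G) = ⊥ := by
  classical
  have : Fintype G := Fintype.ofFinite G
  have hp : p.Prime := Fact.out
  have hcop : (Nat.card Y).Coprime (Nat.card H) := by
    obtain ⟨k, hk⟩ := hHp.exists_card_eq
    rw [hk]
    exact Nat.Coprime.pow_right k (Nat.Coprime.symm ((Nat.Prime.coprime_iff_not_dvd hp).2 hYp))
  have hsolv : Group.IsSolvable H :=
    Group.isSolvable_of_comm (fun a b => Subtype.ext (hHab a a.2 b b.2))
  refine Cfsg.Agent.Lib.H18.SH16.finish Y H hnorm hcop hsolv ?_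
  intro θ hθ z hz
  have h := inv_ker hp hp2 H hHp hHab
    (fun Y' hY'p hn' hEC' => Cfsg.Agent.Lib.H19.ShI.key_conj hp2 H Y' hHp hHab hY'p hn' hEC')
    (Nat.card Y) Y rfl hYp hnorm hEC θ hθ (z : G) hz z.2
  exact h

/-- **conclusion (I) of S3016 from conclusion (II)** -/
theorem concl_I [Finite G] {p : ℕ} [Fact p.Prime] (hp2 : p ≠ 2) (H : Subgroup G)
    (hHp : IsPGroup p H) (hHab : IsMulCommutative H) (hcl : Cfsg.IsExtremelyClosed H)
    (hII : Subgroup.normalizer (H : Set G) ⊔ Cfsg.pPrimeCore p G = ⊤) :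
    Subgroup.normalClosure (H : Set G) ⊓ Subgroup.normalizer (H : Set G) = H := by
  have hab : ∀ a ∈ H, ∀ b ∈ H, a * b = b * a := by
    intro a ha b hb
    have := hHab.is_comm.comm (⟨a, ha⟩ : H) ⟨b, hb⟩
    exact congrArg Subtype.val this
  exact Cfsg.Agent.Lib.H1.ShIWrap.concl_I_of_II hp2 H hHp hHab hcl
    (fun Y hYp hn hEC => lemma_I_all hp2 H hHp hab Y hYp hn hEC) hII

/-- both conclusions of S3016 from conclusion (II) alone (the shape of the statement) -/
theorem both_of_II [Finite G] {p : ℕ} [Fact p.Prime] (hp2 : p ≠ 2) (H : Subgroup G)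
    (hHp : IsPGroup p H) (hHab : IsMulCommutative H) (hcl : Cfsg.IsExtremelyClosed H)
    (hII : Subgroup.normalizer (H : Set G) ⊔ Cfsg.pPrimeCore p G = ⊤) :
    Subgroup.normalClosure (H : Set G) ⊓ Subgroup.normalizer (H : Set G) = H ∧
      Subgroup.normalizer (H : Set G) ⊔ Cfsg.pPrimeCore p G = ⊤ :=
  ⟨concl_I hp2 H hHp hHab hcl hII, hII⟩

end Cfsg.Agent.Lib.H1.ShIAll
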