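import Mathlib
import Cfsg.Prelude.Def_Solvable
import Cfsg.Prelude.Def_SubgroupEmbedding
import Cfsg.Agent.Lib.H22.PPrimeCore
import Cfsg.Agent.Lib.H24.ShIDefs

/-!
# S3016, conclusion (I) from conclusion (II): the wrapper (helper1; exact sig of helper24's cut)

Given `N_G(H) ⊔ O_{p'}(G) = ⊤` and the lemma `C_{[Y,H]}(H) = 1` for every `H`-invariant `p'`-subgroup `Y`
satisfying the pair version `EC H Y` of extreme closure, the normal closure of `H` meets `N_G(H)` in `H`.
-/

set_option autoImplicit false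

universe u

namespace Cfsg.Agent.Lib.H1.ShIWrap

open Cfsg.Agent.Lib.H24.ShI
open scoped commutatorElement

variable {G : Type u} [Group G]

/-- conjugation by `g` preserves `⁅Y, H⁆` when it maps `Y` into `Y` and `H` into `H` -/
theorem conj_mem_commutator (Y H : Subgroup G) (g : G) (hY : ∀ y ∈ Y, g * y * g⁻¹ ∈ Y)
    (hH : ∀ h ∈ H, g * h * g⁻¹ ∈ H) {d : G} (hd : d ∈ ⁅Y, H⁆) : g * d * g⁻¹ ∈ ⁅Y, H⁆ := by
  have h1 : (⁅Y, H⁆).map (MulAut.conj g).toMonoidHom ≤ ⁅Y, H⁆ := by
    rw [Subgroup.map_commutator]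
    refine Subgroup.commutator_mono ?_ ?_
    · rintro _ ⟨y, hy, rfl⟩
      simpa using hY y hy
    · rintro _ ⟨h, hh, rfl⟩
      simpa using hH h hh
  have h2 : (MulAut.conj g).toMonoidHom d ∈ (⁅Y, H⁆).map (MulAut.conj g).toMonoidHom :=
    Subgroup.mem_map_of_mem _ hd
  simpa using h1 h2

/-- a `p`-subgroup meets a subgroup of order prime to `p` trivially -/
theorem eq_one_of_mem_of_mem {p : ℕ} [Fact p.Prime] [Finite G] (H Y : Subgroup G) (hHp : IsPGroup p H)
    (hYp : ¬ p ∣ Nat.card Y) {z : G} (hzH : z ∈ H) (hzY : z ∈ Y) : z = 1 := by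
  obtain ⟨k, hk⟩ := hHp ⟨z, hzH⟩
  have hk' : z ^ p ^ k = 1 := by
    have := congrArg Subtype.val hk
    simpa using this
  have h1 : orderOf z ∣ p ^ k := orderOf_dvd_of_pow_eq_one hk'
  have h2 : orderOf z ∣ Nat.card Y := Subgroup.orderOf_dvd_natCard Y hzY
  have hcop : Nat.Coprime (p ^ k) (Nat.card Y) :=
    Nat.Coprime.pow_left k ((Nat.Prime.coprime_iff_not_dvd (Fact.out : p.Prime)).2 hYp)
  have h3 : orderOf z ∣ 1 := by
    have := Nat.dvd_gcd h1 h2
    rwa [hcop.gcd_eq_one] at this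
  exact orderOf_eq_one_iff.1 (Nat.dvd_one.1 h3)

/-- **I-WRAP**: conclusion (I) of S3016 from conclusion (II) and the lemma `C_{[Y,H]}(H) = 1`. -/
theorem concl_I_of_II [Finite G] {p : ℕ} [Fact p.Prime] (hp2 : p ≠ 2) (H : Subgroup G)
    (hHp : IsPGroup p H) (hHab : IsMulCommutative H) (hcl : Cfsg.IsExtremelyClosed H)
    (hlem : ∀ Y : Subgroup G, ¬ p ∣ Nat.card Y → (∀ h ∈ H, ∀ y ∈ Y, h * y * h⁻¹ ∈ Y) → EC H Y →
      ⁅Y, H⁆ ⊓ Subgroup.centralizer (H : Set G) = ⊥)
    (hII : Subgroup.normalizer (H : Set G) ⊔ Cfsg.pPrimeCore p G = ⊤) :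
    Subgroup.normalClosure (H : Set G) ⊓ Subgroup.normalizer (H : Set G) = H := by
  have hp : p.Prime := Fact.out
  set Y : Subgroup G := Cfsg.pPrimeCore p G with hYdef
  haveI hYn : Y.Normal := Cfsg.Agent.Lib.H22.pPrimeCore_normal p
  have hYc : (Nat.card Y).Coprime p := Cfsg.Agent.Lib.H22.card_pPrimeCore_coprime p
  have hYp : ¬ p ∣ Nat.card Y := by
    intro h
    have h1 : p ∣ Nat.gcd (Nat.card Y) p := Nat.dvd_gcd h dvd_rfl
    rw [hYc.gcd_eq_one] at h1
    exact hp.one_lt.ne' (Nat.dvd_one.1 h1)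
  have hnorm : ∀ h ∈ H, ∀ y ∈ Y, h * y * h⁻¹ ∈ Y := fun h _ y hy => hYn.conj_mem y hy h
  have hHY : ∀ z, z ∈ H → z ∈ Y → z = 1 := fun z hzH hzY =>
    eq_one_of_mem_of_mem H Y hHp hYp hzH hzY
  -- the pair version of extreme closure
  have hEC : EC H Y := by
    intro y _ z hz hzY hcomm
    have hzN : z ∈ Subgroup.normalizer (H : Set G) := by
      apply Subgroup.centralizer_le_normalizer (H : Set G)
      rw [Subgroup.mem_centralizer_iff]
      intro h hh
      exact hcomm h hh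
    have hzH : z ∈ H := by
      have h1 : z ∈ (H ⊔ H.map (MulAut.conj y).toMonoidHom) ⊓ Subgroup.normalizer (H : Set G) :=
        ⟨hz, hzN⟩
      rw [hcl y] at h1
      exact h1
    exact hHY z hzH hzY
  have hD := hlem Y hYp hnorm hEC
  set D : Subgroup G := ⁅Y, H⁆ with hDdef
  have hDY : D ≤ Y := Subgroup.commutator_le_left Y H
  -- `H` normalises `D`
  have hHD : H ≤ Subgroup.normalizer (D : Set G) := by
    intro h hh
    rw [Subgroup.mem_normalizer_iff]
    intro d
    constructor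
    · intro hd
      exact conj_mem_commutator Y H h (fun y hy => hYn.conj_mem y hy h)
        (fun k hk => H.mul_mem (H.mul_mem hh hk) (H.inv_mem hh)) hd
    · intro hd
      have h1 := conj_mem_commutator Y H h⁻¹ (fun y hy => hYn.conj_mem y hy h⁻¹)
        (fun k hk => H.mul_mem (H.mul_mem (H.inv_mem hh) hk) (H.inv_mem (H.inv_mem hh))) hd
      have h2 : h⁻¹ * (h * d * h⁻¹) * h⁻¹⁻¹ = d := by group
      rwa [h2] at h1
  -- every conjugate of an element of `H` lies in `H ⊔ D`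
  have hconj : ∀ g : G, ∀ h ∈ H, g * h * g⁻¹ ∈ H ⊔ D := by
    intro g h hh
    have hg : g ∈ Subgroup.normalizer (H : Set G) ⊔ Y := by
      rw [hII]
      exact Subgroup.mem_top g
    have hg' : g ∈ ((Subgroup.normalizer (H : Set G) ⊔ Y : Subgroup G) : Set G) := hg
    rw [Subgroup.mul_normal] at hg'
    obtain ⟨n, hn, y, hy, rfl⟩ := hg'
    have hn' : n ∈ Subgroup.normalizer (H : Set G) := hn
    have hy' : y ∈ Y := hy
    have hnH : ∀ k ∈ H, n * k * n⁻¹ ∈ H := fun k hk =>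
      ((Subgroup.mem_normalizer_iff.1 hn') k).1 hk
    have h1 : (n * y) * h * (n * y)⁻¹ = (n * ⁅y, h⁆ * n⁻¹) * (n * h * n⁻¹) := by
      rw [commutatorElement_def]
      group
    rw [h1]
    refine Subgroup.mul_mem _ (Subgroup.mem_sup_right ?_) (Subgroup.mem_sup_left (hnH h hh))
    exact conj_mem_commutator Y H n (fun z hz => hYn.conj_mem z hz n) hnH
      (Subgroup.commutator_mem_commutator hy' hh)
  have hncl : Subgroup.normalClosure (H : Set G) ≤ H ⊔ D := by
    rw [Subgroup.normalClosure]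
    rw [Subgroup.closure_le]
    intro a ha
    obtain ⟨h, hh, hconj'⟩ := Group.mem_conjugatesOfSet_iff.1 ha
    obtain ⟨g, rfl⟩ := isConj_iff.1 hconj'
    exact hconj g h hh
  apply le_antisymm
  · intro z hz
    obtain ⟨hz1, hz2⟩ := hz
    have hz3 : z ∈ ((H ⊔ D : Subgroup G) : Set G) := hncl hz1
    rw [Subgroup.coe_mul_of_left_le_normalizer_right H D hHD] at hz3
    obtain ⟨h, hh, d, hd, rfl⟩ := hz3
    have hh' : h ∈ H := hh
    have hd' : d ∈ D := hd
    have hdN : d ∈ Subgroup.normalizer (H : Set G) := by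
      have h1 : d = h⁻¹ * (h * d) := by group
      rw [h1]
      exact Subgroup.mul_mem _ (Subgroup.inv_mem _ (Subgroup.le_normalizer hh')) hz2
    have hdC : d ∈ Subgroup.centralizer (H : Set G) := by
      rw [Subgroup.mem_centralizer_iff]
      intro k hk
      have hk' : k ∈ H := hk
      have h1 : d * k * d⁻¹ ∈ H := ((Subgroup.mem_normalizer_iff.1 hdN) k).1 hk'
      have h2 : ⁅d, k⁆ ∈ H := by
        rw [commutatorElement_def]
        exact H.mul_mem h1 (H.inv_mem hk')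
      have h3 : ⁅d, k⁆ ∈ Y := by
        rw [commutatorElement_def]
        have h4 : d * k * d⁻¹ * k⁻¹ = d * (k * d⁻¹ * k⁻¹) := by group
        rw [h4]
        exact Y.mul_mem (hDY hd') (hYn.conj_mem _ (Y.inv_mem (hDY hd')) k)
      have h5 := hHY _ h2 h3
      rw [commutatorElement_eq_one_iff_mul_comm] at h5
      exact h5.symm
    have hd1 : d = 1 := by
      have h1 : d ∈ D ⊓ Subgroup.centralizer (H : Set G) := ⟨hd', hdC⟩
      rw [hD] at h1
      exact Subgroup.mem_bot.1 h1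
    rw [hd1]
    show h * 1 ∈ H
    rw [mul_one]
    exact hh'
  · exact le_inf Subgroup.le_normalClosure Subgroup.le_normalizer

end Cfsg.Agent.Lib.H1.ShIWrap
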