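import Mathlib
import Cfsg.Agent.Lib.H20.SigCDefs

/-!
# S1299 piece AT (helper1): the abstract `k`-balanced functor is balanced

Parametric core: `at_balance_of` takes "closed ⟹ complete" (`closed_complete`) and the complement
lemma (`exists_complement_containing`) as hypotheses for the fixed group `G`.
-/

set_option autoImplicit false

namespace Cfsg.Agent.Lib.H1.SigCAT

open Cfsg Cfsg.Agent.Lib.H20.SigC

universe u

variable {G : Type u} [Group G]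

/-! ### basic facts on `dlt` and `thk` -/

theorem dlt_le_of_mem (Kf : G → Subgroup G) {E : Subgroup G} {e : G} (he : e ∈ E) (he1 : e ≠ 1) :
    dlt Kf E ≤ Kf e :=
  iInf_le (fun e : {e : G // e ∈ E ∧ e ≠ 1} => Kf (e : G)) ⟨e, he, he1⟩

theorem dlt_anti (Kf : G → Subgroup G) {D E : Subgroup G} (h : D ≤ E) : dlt Kf E ≤ dlt Kf D :=
  le_iInf (fun e => dlt_le_of_mem Kf (h e.2.1) e.2.2)

theorem le_dlt (Kf : G → Subgroup G) {E X : Subgroup G} (h : ∀ e ∈ E, e ≠ 1 → X ≤ Kf e) :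
    X ≤ dlt Kf E :=
  le_iInf (fun e => h e e.2.1 e.2.2)

theorem le_thk (p k : ℕ) (A : Subgroup G) (Kf : G → Subgroup G) {a : G} {E : Subgroup G}
    (hEA : E ≤ A) (haE : a ∈ E) (hc : p ^ k ≤ Nat.card ↥E) : dlt Kf E ≤ thk p k A Kf a :=
  le_iSup (fun E : {E : Subgroup G // E ≤ A ∧ a ∈ E ∧ p ^ k ≤ Nat.card ↥E} =>
    dlt Kf (E : Subgroup G)) ⟨E, hEA, haE, hc⟩

theorem thk_le (p k : ℕ) (A : Subgroup G) (Kf : G → Subgroup G) {a : G} {X : Subgroup G}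
    (h : ∀ E : Subgroup G, E ≤ A → a ∈ E → p ^ k ≤ Nat.card ↥E → dlt Kf E ≤ X) :
    thk p k A Kf a ≤ X :=
  iSup_le (fun E => h E E.2.1 E.2.2.1 E.2.2.2)

theorem mem_centralizer_singleton_comm {x f : G} :
    x ∈ Subgroup.centralizer ({f} : Set G) ↔ f ∈ Subgroup.centralizer ({x} : Set G) := by
  rw [Subgroup.mem_centralizer_singleton_iff, Subgroup.mem_centralizer_singleton_iff]
  exact eq_comm

/-! ### elementary abelian facts -/

theorem ea_comm {p : ℕ} {A : Subgroup G} (hA : Cfsg.IsElementaryAbelian p A) {x y : G}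
    (hx : x ∈ A) (hy : y ∈ A) : x * y = y * x :=
  congrArg Subtype.val (hA.1.is_comm.comm ⟨x, hx⟩ ⟨y, hy⟩)

theorem ea_of_le {p : ℕ} {A B : Subgroup G} (hA : Cfsg.IsElementaryAbelian p A) (h : B ≤ A) :
    Cfsg.IsElementaryAbelian p B :=
  ⟨⟨⟨fun x y => Subtype.ext (ea_comm hA (h x.2) (h y.2))⟩⟩, fun a ha => hA.2 a (h ha)⟩

theorem ea_orderOf {p : ℕ} [Fact p.Prime] {A : Subgroup G} (hA : Cfsg.IsElementaryAbelian p A)
    {a : G} (ha : a ∈ A) (ha1 : a ≠ 1) : orderOf a = p :=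
  orderOf_eq_prime (hA.2 a ha) ha1

theorem ea_card_zpowers {p : ℕ} [Fact p.Prime] {A : Subgroup G}
    (hA : Cfsg.IsElementaryAbelian p A) {a : G} (ha : a ∈ A) (ha1 : a ≠ 1) :
    Nat.card ↥(Subgroup.zpowers a) = p := by
  rw [Nat.card_zpowers, ea_orderOf hA ha ha1]

theorem ea_isPGroup {p : ℕ} {A : Subgroup G} (hA : Cfsg.IsElementaryAbelian p A) :
    IsPGroup p ↥A := by
  intro g
  refine ⟨1, ?_⟩
  rw [pow_one]
  exact Subtype.ext (by simpa using hA.2 g g.2)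

theorem card_lt_of_lt [Finite G] {D E : Subgroup G} (hDE : D < E) :
    Nat.card ↥D < Nat.card ↥E := by
  by_contra h
  rw [not_lt] at h
  exact hDE.ne (Subgroup.eq_of_le_of_card_ge hDE.le h)

theorem card_mul_le_of_lt [Finite G] {p : ℕ} [Fact p.Prime] {A D E : Subgroup G}
    (hA : Cfsg.IsElementaryAbelian p A) (hEA : E ≤ A) (hDE : D < E) :
    Nat.card ↥D * p ≤ Nat.card ↥E := by
  have hp : p.Prime := Fact.out
  obtain ⟨j, hj⟩ := (ea_isPGroup (ea_of_le hA hEA)).exists_card_eq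
  obtain ⟨i, hi⟩ := (ea_isPGroup (ea_of_le hA (hDE.le.trans hEA))).exists_card_eq
  have hlt : Nat.card ↥D < Nat.card ↥E := card_lt_of_lt hDE
  rw [hi, hj] at hlt
  rw [hi, hj]
  have hij : i < j := (Nat.pow_lt_pow_iff_right hp.one_lt).1 hlt
  calc p ^ i * p = p ^ (i + 1) := (pow_succ p i).symm
    _ ≤ p ^ j := Nat.pow_le_pow_right hp.pos hij

theorem zpowers_eq_of_mem [Finite G] {p : ℕ} [Fact p.Prime] {A : Subgroup G}
    (hA : Cfsg.IsElementaryAbelian p A) {a b : G} (ha : a ∈ A) (ha1 : a ≠ 1)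
    (hb : b ∈ Subgroup.zpowers a) (hb1 : b ≠ 1) : Subgroup.zpowers b = Subgroup.zpowers a := by
  have hbA : b ∈ A := (Subgroup.zpowers_le.2 ha) hb
  apply Subgroup.eq_of_le_of_card_ge (Subgroup.zpowers_le.2 hb)
  rw [ea_card_zpowers hA ha ha1, ea_card_zpowers hA hbA hb1]

theorem mem_sup_of_comm {H K : Subgroup G} (hc : ∀ h ∈ H, ∀ k ∈ K, h * k = k * h) {x : G}
    (hx : x ∈ H ⊔ K) : ∃ h ∈ H, ∃ k ∈ K, x = h * k := by
  rw [Subgroup.sup_eq_closure] at hx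
  induction hx using Subgroup.closure_induction with
  | mem y hy =>
    rcases hy with hy | hy
    · exact ⟨y, hy, 1, K.one_mem, (mul_one y).symm⟩
    · exact ⟨1, H.one_mem, y, hy, (one_mul y).symm⟩
  | one => exact ⟨1, H.one_mem, 1, K.one_mem, (mul_one 1).symm⟩
  | mul y z _ _ ihy ihz =>
    obtain ⟨h1, hh1, k1, hk1, rfl⟩ := ihy
    obtain ⟨h2, hh2, k2, hk2, rfl⟩ := ihz
    refine ⟨h1 * h2, H.mul_mem hh1 hh2, k1 * k2, K.mul_mem hk1 hk2, ?_⟩
    rw [mul_assoc h1 k1, ← mul_assoc k1 h2, ← hc h2 hh2 k1 hk1, mul_assoc h2 k1,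
      ← mul_assoc h1 h2]
  | inv y _ ihy =>
    obtain ⟨h1, hh1, k1, hk1, rfl⟩ := ihy
    refine ⟨h1⁻¹, H.inv_mem hh1, k1⁻¹, K.inv_mem hk1, ?_⟩
    rw [mul_inv_rev]
    exact (hc h1⁻¹ (H.inv_mem hh1) k1⁻¹ (K.inv_mem hk1)).symm

/-! ### facts from admissibility -/

theorem dlt_le_centralizer_of_mem {p : ℕ} {A : Subgroup G} {Kf : G → Subgroup G}
    (hK : Adm p A Kf) {E : Subgroup G} (hEA : E ≤ A) {e : G} (he : e ∈ E) :
    dlt Kf E ≤ Subgroup.centralizer ({e} : Set G) := by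
  by_cases he1 : e = 1
  · subst he1
    intro x _
    rw [Subgroup.mem_centralizer_singleton_iff]
    simp
  · exact (dlt_le_of_mem Kf he he1).trans (hK.le_cent e (hEA he) he1)

theorem dlt_conj_mem {p : ℕ} {A : Subgroup G} {Kf : G → Subgroup G}
    (hK : Adm p A Kf) {E : Subgroup G} (hEA : E ≤ A) {b : G} (hb : b ∈ A) {x : G}
    (hx : x ∈ dlt Kf E) : b * x * b⁻¹ ∈ dlt Kf E := by
  unfold dlt at hx ⊢
  rw [Subgroup.mem_iInf] at hx ⊢
  intro e
  exact hK.inv e (hEA e.2.1) e.2.2 b hb x (hx e)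

theorem centralizer_le_of_mem_zpowers {b e : G} (he : e ∈ Subgroup.zpowers b) :
    Subgroup.centralizer ({b} : Set G) ≤ Subgroup.centralizer ({e} : Set G) := by
  intro x hx
  rw [mem_centralizer_singleton_comm] at hx ⊢
  exact (Subgroup.zpowers_le.2 hx) he

/-! ### the base case `k = 1` -/

theorem at_base [Finite G] (p : ℕ) [Fact p.Prime] (A : Subgroup G) (Kf : G → Subgroup G)
    (hA : Cfsg.IsElementaryAbelian p A) (hKB : KBal p 1 A Kf)
    (a : G) (ha : a ∈ A) (ha1 : a ≠ 1) (b : G) (hb : b ∈ A) (hb1 : b ≠ 1) :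
    thk p 1 A Kf a ⊓ Subgroup.centralizer ({b} : Set G) ≤ thk p 1 A Kf b := by
  have hza : Subgroup.zpowers a ≤ A := Subgroup.zpowers_le.2 ha
  have hzb : Subgroup.zpowers b ≤ A := Subgroup.zpowers_le.2 hb
  have h1 : thk p 1 A Kf a ≤ dlt Kf (Subgroup.zpowers a) :=
    thk_le p 1 A Kf (fun E _ haE _ => dlt_anti Kf (Subgroup.zpowers_le.2 haE))
  have h2 : dlt Kf (Subgroup.zpowers a) ⊓ Subgroup.centralizer ({b} : Set G)
      ≤ dlt Kf (Subgroup.zpowers b) := by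
    apply le_dlt
    intro e he he1
    refine le_trans (inf_le_inf_left _ (centralizer_le_of_mem_zpowers he)) ?_
    exact hKB (Subgroup.zpowers a) hza (by rw [ea_card_zpowers hA ha ha1, pow_one]) e (hzb he) he1
  have h3 : dlt Kf (Subgroup.zpowers b) ≤ thk p 1 A Kf b :=
    le_thk p 1 A Kf hzb (Subgroup.mem_zpowers b) (by rw [ea_card_zpowers hA hb hb1, pow_one])
  exact (inf_le_inf_right _ h1).trans (h2.trans h3)

/-! ### the inductive step -/

theorem card_mul_relIndex_of_le {H K : Subgroup G} (h : H ≤ K) :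
    Nat.card ↥H * H.relIndex K = Nat.card ↥K := by
  have := Subgroup.relIndex_mul_relIndex (⊥ : Subgroup G) H K bot_le h
  rwa [Subgroup.relIndex_bot_left, Subgroup.relIndex_bot_left] at this

/-- For `E ≤ A` and `A₁ ≤ A` of index `p`: `|E| ≤ |E ⊓ A₁| * p`. -/
theorem card_le_card_inf_mul [Finite G] {p : ℕ} {A A₁ E : Subgroup G} (hp : 0 < p)
    (hA₁A : A₁ ≤ A) (hEA : E ≤ A) (hcard : Nat.card ↥A₁ * p = Nat.card ↥A) :
    Nat.card ↥E ≤ Nat.card ↥(E ⊓ A₁) * p := by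
  have h1 : A₁.relIndex A = p := by
    have h := card_mul_relIndex_of_le hA₁A
    rw [← hcard] at h
    exact Nat.eq_of_mul_eq_mul_left Nat.card_pos h
  have h2 : A₁.relIndex E ≤ A₁.relIndex A :=
    Subgroup.relIndex_le_of_le_right hEA (by rw [h1]; exact hp.ne')
  have h3 : (E ⊓ A₁).relIndex E = A₁.relIndex E := Subgroup.inf_relIndex_left E A₁
  have h4 := card_mul_relIndex_of_le (inf_le_left : E ⊓ A₁ ≤ E)
  rw [h3] at h4
  rw [← h4]
  exact Nat.mul_le_mul_left _ (h2.trans h1.le)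

theorem at_step [Finite G] (p : ℕ) [Fact p.Prime] (k : ℕ) (hk : 1 ≤ k)
    (hcc : ∀ (A : Subgroup G), Cfsg.IsElementaryAbelian p A → p ^ 3 ≤ Nat.card ↥A →
      ∀ θ : G → Subgroup G, Cfsg.IsSolvableSignalizerFunctor p A θ →
      Group.IsSolvable ↥(Cfsg.signalizerClosure A θ) →
      ¬ p ∣ Nat.card ↥(Cfsg.signalizerClosure A θ) →
      ∀ a ∈ A, a ≠ 1 → Cfsg.signalizerClosure A θ ⊓ Subgroup.centralizer {a} ≤ θ a)
    (hcompl : ∀ (A : Subgroup G), Cfsg.IsElementaryAbelian p A → ∀ a b : G, a ∈ A → b ∈ A →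
      a ≠ 1 → b ∉ Subgroup.zpowers a →
      ∃ A₁ : Subgroup G, A₁ ≤ A ∧ b ∈ A₁ ∧ a ∉ A₁ ∧ A₁ ⊔ Subgroup.zpowers a = A ∧
        Nat.card ↥A₁ * p = Nat.card ↥A)
    (ih : ∀ (A : Subgroup G) (Kf : G → Subgroup G), Cfsg.IsElementaryAbelian p A →
      p ^ (k + 2) ≤ Nat.card ↥A → Adm p A Kf → KBal p k A Kf →
      ∀ a ∈ A, a ≠ 1 → ∀ b ∈ A, b ≠ 1 →
        thk p k A Kf a ⊓ Subgroup.centralizer {b} ≤ thk p k A Kf b)
    (A : Subgroup G) (Kf : G → Subgroup G) (hA : Cfsg.IsElementaryAbelian p A)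
    (hAc : p ^ (k + 1 + 2) ≤ Nat.card ↥A) (hAdm : Adm p A Kf) (hKB : KBal p (k + 1) A Kf)
    (a : G) (ha : a ∈ A) (ha1 : a ≠ 1) (b : G) (hb : b ∈ A) (hb1 : b ≠ 1) :
    thk p (k + 1) A Kf a ⊓ Subgroup.centralizer ({b} : Set G) ≤ thk p (k + 1) A Kf b := by
  have hp : p.Prime := Fact.out
  have hza : Subgroup.zpowers a ≤ A := Subgroup.zpowers_le.2 ha
  by_cases hba : b ∈ Subgroup.zpowers a
  · -- `⟨a⟩ = ⟨b⟩`, so the two index sets agree
    have hz : Subgroup.zpowers b = Subgroup.zpowers a := zpowers_eq_of_mem hA ha ha1 hba hb1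
    refine inf_le_left.trans (thk_le p (k + 1) A Kf (fun E hEA haE hc => ?_))
    have hbE : b ∈ E := (Subgroup.zpowers_le.2 haE) hba
    exact le_thk p (k + 1) A Kf hEA hbE hc
  obtain ⟨A₁, hA₁A, hbA₁, haA₁, hsup, hcard⟩ := hcompl A hA a b ha hb ha1 hba
  have hA₁ : Cfsg.IsElementaryAbelian p A₁ := ea_of_le hA hA₁A
  have hA₁c : p ^ (k + 2) ≤ Nat.card ↥A₁ := by
    have h : p ^ (k + 2) * p ≤ Nat.card ↥A₁ * p := by
      rw [hcard, ← pow_succ]; exact hAc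
    exact Nat.le_of_mul_le_mul_right h hp.pos
  have hpk : p ≤ p ^ k := by
    calc p = p ^ 1 := (pow_one p).symm
      _ ≤ p ^ k := Nat.pow_le_pow_right hp.pos hk
  -- the new family
  set Kf' : G → Subgroup G := fun d => dlt Kf (Subgroup.zpowers a ⊔ Subgroup.zpowers d) with hKf'
  have hcomm : ∀ E₁ : Subgroup G, E₁ ≤ A₁ →
      ∀ h ∈ Subgroup.zpowers a, ∀ d ∈ E₁, h * d = d * h :=
    fun E₁ hE₁ h hh d hd => ea_comm hA (hza hh) (hA₁A (hE₁ hd))
  have key1 : ∀ E₁ : Subgroup G, E₁ ≤ A₁ → E₁ ≠ ⊥ →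
      dlt Kf' E₁ = dlt Kf (Subgroup.zpowers a ⊔ E₁) := by
    intro E₁ hE₁ hne
    apply le_antisymm
    · apply le_dlt
      intro e he he1
      obtain ⟨h, hh, d, hd, rfl⟩ := mem_sup_of_comm (hcomm E₁ hE₁) he
      by_cases hd1 : d = 1
      · obtain ⟨d', hd'1⟩ := (Subgroup.ne_bot_iff_exists_ne_one).1 hne
        have hd'' : (d' : G) ≠ 1 := fun h => hd'1 (Subtype.ext h)
        refine (dlt_le_of_mem Kf' d'.2 hd'').trans ?_
        refine dlt_le_of_mem Kf (Subgroup.mem_sup_left ?_) he1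
        rw [hd1, mul_one]; exact hh
      · refine (dlt_le_of_mem Kf' hd hd1).trans ?_
        exact dlt_le_of_mem Kf (Subgroup.mul_mem _ (Subgroup.mem_sup_left hh)
          (Subgroup.mem_sup_right (Subgroup.mem_zpowers d))) he1
    · apply le_dlt
      intro d hd _
      exact dlt_anti Kf (sup_le_sup_left (Subgroup.zpowers_le.2 hd) _)
  have hKf'le : ∀ d : G, d ≠ 1 → Kf' d ≤ Kf d := fun d hd1 =>
    dlt_le_of_mem Kf (Subgroup.mem_sup_right (Subgroup.mem_zpowers d)) hd1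
  have hKf'a : ∀ d : G, Kf' d ≤ Kf a := fun d =>
    dlt_le_of_mem Kf (Subgroup.mem_sup_left (Subgroup.mem_zpowers a)) ha1
  have hzad : ∀ d ∈ A₁, Subgroup.zpowers a ⊔ Subgroup.zpowers d ≤ A := fun d hd =>
    sup_le hza (Subgroup.zpowers_le.2 (hA₁A hd))
  have hAdm' : Adm p A₁ Kf' := by
    refine ⟨?_, ?_, ?_, ?_⟩
    · intro d hd hd1
      exact (hKf'le d hd1).trans (hAdm.le_cent d (hA₁A hd) hd1)
    · intro d hd hd1 h
      exact hAdm.pprime d (hA₁A hd) hd1 (h.trans (Subgroup.card_dvd_of_le (hKf'le d hd1)))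
    · intro d hd hd1
      have := hAdm.solv d (hA₁A hd) hd1
      exact Group.isSolvable_of_isSolvable_injective (f := Subgroup.inclusion (hKf'le d hd1))
        (Subgroup.inclusion_injective _)
    · intro d hd _ c hc x hx
      exact dlt_conj_mem hAdm (hzad d hd) (hA₁A hc) hx
  have hsuplt : ∀ E₁ : Subgroup G, E₁ ≤ A₁ → E₁ < Subgroup.zpowers a ⊔ E₁ := by
    intro E₁ hE₁
    refine lt_of_le_of_ne le_sup_right (fun h => haA₁ (hE₁ ?_))
    rw [h]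
    exact Subgroup.mem_sup_left (Subgroup.mem_zpowers a)
  have hsupc : ∀ E₁ : Subgroup G, E₁ ≤ A₁ → p ^ k ≤ Nat.card ↥E₁ →
      p ^ (k + 1) ≤ Nat.card ↥(Subgroup.zpowers a ⊔ E₁ : Subgroup G) := by
    intro E₁ hE₁ hc
    have h := card_mul_le_of_lt hA (sup_le hza (hE₁.trans hA₁A)) (hsuplt E₁ hE₁)
    calc p ^ (k + 1) = p ^ k * p := pow_succ p k
      _ ≤ Nat.card ↥E₁ * p := Nat.mul_le_mul_right _ hc
      _ ≤ _ := h
  have hnebot : ∀ E₁ : Subgroup G, p ^ k ≤ Nat.card ↥E₁ → E₁ ≠ ⊥ := by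
    intro E₁ hc
    rw [← Subgroup.one_lt_card_iff_ne_bot]
    exact lt_of_lt_of_le hp.one_lt (hpk.trans hc)
  have hKB' : KBal p k A₁ Kf' := by
    intro D₁ hD₁ hD₁c e he he1
    rw [key1 D₁ hD₁ (hnebot D₁ hD₁c)]
    apply le_dlt
    intro f hf hf1
    have hD : Subgroup.zpowers a ⊔ D₁ ≤ A := sup_le hza (hD₁.trans hA₁A)
    have hfA : f ∈ A := hzad e he hf
    refine le_trans ?_ (hKB (Subgroup.zpowers a ⊔ D₁) hD (hsupc D₁ hD₁ hD₁c) f hfA hf1)
    refine le_inf inf_le_left ?_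
    intro x hx
    have hxa : x ∈ Subgroup.centralizer ({a} : Set G) :=
      dlt_le_centralizer_of_mem hAdm hD (Subgroup.mem_sup_left (Subgroup.mem_zpowers a)) hx.1
    have hxe : x ∈ Subgroup.centralizer ({e} : Set G) := hx.2
    rw [mem_centralizer_singleton_comm]
    have hle : Subgroup.zpowers a ⊔ Subgroup.zpowers e ≤ Subgroup.centralizer ({x} : Set G) :=
      sup_le (Subgroup.zpowers_le.2 (mem_centralizer_singleton_comm.1 hxa))
        (Subgroup.zpowers_le.2 (mem_centralizer_singleton_comm.1 hxe))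
    exact hle hf
  have hbal' := ih A₁ Kf' hA₁ hA₁c hAdm' hKB'
  -- `θ'` is a solvable `A₁`-signalizer functor
  have hθ'le : ∀ c : G, c ≠ 1 → thk p k A₁ Kf' c ≤ Kf' c := fun c hc1 =>
    thk_le p k A₁ Kf' (fun E₁ _ hcE₁ _ => dlt_le_of_mem Kf' hcE₁ hc1)
  have hθ' : Cfsg.IsSolvableSignalizerFunctor p A₁ (thk p k A₁ Kf') := by
    refine ⟨⟨?_, ?_, ?_, ?_⟩, ?_⟩
    · intro c hc hc1
      exact (hθ'le c hc1).trans (hAdm'.le_cent c hc hc1)
    · intro c hc hc1 h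
      exact hAdm'.pprime c hc hc1 (h.trans (Subgroup.card_dvd_of_le (hθ'le c hc1)))
    · intro c _ _ d hd x hx
      have hmap : (thk p k A₁ Kf' c).map (MulAut.conj d).toMonoidHom ≤ thk p k A₁ Kf' c := by
        unfold thk
        rw [Subgroup.map_iSup]
        apply iSup_le
        intro E₁
        refine le_trans ?_ (le_iSup (fun E : {E : Subgroup G // E ≤ A₁ ∧ c ∈ E ∧
          p ^ k ≤ Nat.card ↥E} => dlt Kf' (E : Subgroup G)) E₁)
        rintro _ ⟨y, hy, rfl⟩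
        exact dlt_conj_mem hAdm' E₁.2.1 hd hy
      exact hmap ⟨x, hx, rfl⟩
    · exact hbal'
    · intro c hc hc1
      have := hAdm'.solv c hc hc1
      exact Group.isSolvable_of_isSolvable_injective (f := Subgroup.inclusion (hθ'le c hc1))
        (Subgroup.inclusion_injective _)
  -- its closure
  have hK'le : Cfsg.signalizerClosure A₁ (thk p k A₁ Kf') ≤ Kf a := by
    unfold Cfsg.signalizerClosure
    exact iSup_le (fun c => (hθ'le c c.2.2).trans (hKf'a c))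
  have hsol : Group.IsSolvable ↥(Cfsg.signalizerClosure A₁ (thk p k A₁ Kf')) := by
    have := hAdm.solv a ha ha1
    exact Group.isSolvable_of_isSolvable_injective (f := Subgroup.inclusion hK'le)
      (Subgroup.inclusion_injective _)
  have hp' : ¬ p ∣ Nat.card ↥(Cfsg.signalizerClosure A₁ (thk p k A₁ Kf')) := fun h =>
    hAdm.pprime a ha ha1 (h.trans (Subgroup.card_dvd_of_le hK'le))
  have hA₁3 : p ^ 3 ≤ Nat.card ↥A₁ :=
    le_trans (Nat.pow_le_pow_right hp.pos (by omega)) hA₁c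
  have hres := hcc A₁ hA₁ hA₁3 (thk p k A₁ Kf') hθ' hsol hp' b hbA₁ hb1
  -- `θ_{k+1}(a) ≤ closure`
  have h1 : thk p (k + 1) A Kf a ≤ Cfsg.signalizerClosure A₁ (thk p k A₁ Kf') := by
    apply thk_le
    intro E hEA haE hEc
    have hE₁A₁ : E ⊓ A₁ ≤ A₁ := inf_le_right
    have hE₁c : p ^ k ≤ Nat.card ↥(E ⊓ A₁ : Subgroup G) := by
      have h := card_le_card_inf_mul hp.pos hA₁A hEA hcard
      have h' : p ^ k * p ≤ Nat.card ↥(E ⊓ A₁ : Subgroup G) * p := by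
        rw [← pow_succ]; exact hEc.trans h
      exact Nat.le_of_mul_le_mul_right h' hp.pos
    have hne : E ⊓ A₁ ≠ ⊥ := hnebot _ hE₁c
    obtain ⟨c, hc1⟩ := (Subgroup.ne_bot_iff_exists_ne_one).1 hne
    have hc1' : (c : G) ≠ 1 := fun h => hc1 (Subtype.ext h)
    have hle : Subgroup.zpowers a ⊔ (E ⊓ A₁) ≤ E := sup_le (Subgroup.zpowers_le.2 haE) inf_le_left
    refine (dlt_anti Kf hle).trans ?_
    rw [← key1 (E ⊓ A₁) hE₁A₁ hne]
    refine (le_thk p k A₁ Kf' hE₁A₁ c.2 hE₁c).trans ?_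
    unfold Cfsg.signalizerClosure
    exact le_iSup (fun c : {c : G // c ∈ A₁ ∧ c ≠ 1} => thk p k A₁ Kf' (c : G))
      ⟨(c : G), c.2.2, hc1'⟩
  -- `θ'(b) ≤ θ_{k+1}(b)`
  have h2 : thk p k A₁ Kf' b ≤ thk p (k + 1) A Kf b := by
    apply thk_le
    intro E₁ hE₁ hbE₁ hE₁c
    have hne : E₁ ≠ ⊥ := hnebot _ hE₁c
    rw [key1 E₁ hE₁ hne]
    exact le_thk p (k + 1) A Kf (sup_le hza (hE₁.trans hA₁A)) (Subgroup.mem_sup_right hbE₁)
      (hsupc E₁ hE₁ hE₁c)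
  exact (inf_le_inf_right _ h1).trans (hres.trans h2)

/-- **AT, parametric form.** -/
theorem at_balance_of [Finite G] (p : ℕ) [Fact p.Prime]
    (hcc : ∀ (A : Subgroup G), Cfsg.IsElementaryAbelian p A → p ^ 3 ≤ Nat.card ↥A →
      ∀ θ : G → Subgroup G, Cfsg.IsSolvableSignalizerFunctor p A θ →
      Group.IsSolvable ↥(Cfsg.signalizerClosure A θ) →
      ¬ p ∣ Nat.card ↥(Cfsg.signalizerClosure A θ) →
      ∀ a ∈ A, a ≠ 1 → Cfsg.signalizerClosure A θ ⊓ Subgroup.centralizer {a} ≤ θ a)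
    (hcompl : ∀ (A : Subgroup G), Cfsg.IsElementaryAbelian p A → ∀ a b : G, a ∈ A → b ∈ A →
      a ≠ 1 → b ∉ Subgroup.zpowers a →
      ∃ A₁ : Subgroup G, A₁ ≤ A ∧ b ∈ A₁ ∧ a ∉ A₁ ∧ A₁ ⊔ Subgroup.zpowers a = A ∧
        Nat.card ↥A₁ * p = Nat.card ↥A)
    (k : ℕ) (hk : 1 ≤ k) :
    ∀ (A : Subgroup G) (Kf : G → Subgroup G), Cfsg.IsElementaryAbelian p A →
      p ^ (k + 2) ≤ Nat.card ↥A → Adm p A Kf → KBal p k A Kf →
      ∀ a ∈ A, a ≠ 1 → ∀ b ∈ A, b ≠ 1 →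
        thk p k A Kf a ⊓ Subgroup.centralizer {b} ≤ thk p k A Kf b := by
  induction k, hk using Nat.le_induction with
  | base =>
    intro A Kf hA _ _ hKB a ha ha1 b hb hb1
    exact at_base p A Kf hA hKB a ha ha1 b hb hb1
  | succ k hk ih =>
    intro A Kf hA hAc hAdm hKB a ha ha1 b hb hb1
    exact at_step p k hk hcc hcompl ih A Kf hA hAc hAdm hKB a ha ha1 b hb hb1

end Cfsg.Agent.Lib.H1.SigCAT
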