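import Mathlib
import Cfsg.Agent.Lib.H20.SigCDefs

/-!
# S1299 piece RES (helper1): restriction to the subgroup `closure ⊔ A`
-/

set_option autoImplicit false

namespace Cfsg.Agent.Lib.H20.SigC

open Cfsg

universe u

/-- If "closed ⟹ complete" (bound `n`) holds whenever `G = closure ⊔ A`, it holds always. -/
theorem closedCompleteUpTo_of_top (n : ℕ)
    (htop : ∀ (G : Type u) [Group G] [Finite G] (p : ℕ) [Fact p.Prime] (A : Subgroup G),
      Cfsg.IsElementaryAbelian p A → p ^ 3 ≤ Nat.card ↥A →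
      ∀ θ : G → Subgroup G, Cfsg.IsSolvableSignalizerFunctor p A θ →
        Cfsg.signalizerClosure A θ ⊔ A = ⊤ →
        Nat.card ↥(Cfsg.signalizerClosure A θ) ≤ n →
        Group.IsSolvable ↥(Cfsg.signalizerClosure A θ) →
        ¬ p ∣ Nat.card ↥(Cfsg.signalizerClosure A θ) →
        ∀ a ∈ A, a ≠ 1 → Cfsg.signalizerClosure A θ ⊓ Subgroup.centralizer {a} ≤ θ a) :
    ClosedCompleteUpTo.{u} n := by
  intro G _ _ p _ A hA hA3 θ hθ hcard hsol hp' a ha ha1
  obtain ⟨⟨h1, h2, h3, h4⟩, h5⟩ := hθ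
  set K : Subgroup G := Cfsg.signalizerClosure A θ with hK
  set H₀ : Subgroup G := K ⊔ A with hH₀
  have hKH : K ≤ H₀ := le_sup_left
  have hAH : A ≤ H₀ := le_sup_right
  have hθK : ∀ c ∈ A, c ≠ 1 → θ c ≤ K := fun c hc hc1 =>
    le_iSup (fun a : {a : G // a ∈ A ∧ a ≠ 1} => θ (a : G)) ⟨c, hc, hc1⟩
  set A' : Subgroup ↥H₀ := A.subgroupOf H₀ with hA'def
  set θ' : ↥H₀ → Subgroup ↥H₀ := fun x => (θ (x : G)).subgroupOf H₀ with hθ'def
  have hne : ∀ x : ↥H₀, x ≠ 1 → (x : G) ≠ 1 := fun x hx h => hx (Subtype.ext h)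
  have hmemA : ∀ x : ↥H₀, x ∈ A' → (x : G) ∈ A := fun x hx => Subgroup.mem_subgroupOf.1 hx
  have hA' : Cfsg.IsElementaryAbelian p A' := by
    refine ⟨⟨⟨fun x y => ?_⟩⟩, fun x hx => ?_⟩
    · apply Subtype.ext
      apply Subtype.ext
      show ((x : ↥H₀) : G) * ((y : ↥H₀) : G) = ((y : ↥H₀) : G) * ((x : ↥H₀) : G)
      exact congrArg Subtype.val
        (hA.1.is_comm.comm ⟨((x : ↥H₀) : G), hmemA _ x.2⟩ ⟨((y : ↥H₀) : G), hmemA _ y.2⟩)
    · apply Subtype.ext
      simpa using hA.2 (x : G) (hmemA x hx)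
  have hcardA : Nat.card ↥A' = Nat.card ↥A :=
    Nat.card_congr (Subgroup.subgroupOfEquivOfLe hAH).toEquiv
  have hθ' : Cfsg.IsSolvableSignalizerFunctor p A' θ' := by
    refine ⟨⟨?_, ?_, ?_, ?_⟩, ?_⟩
    · intro x hx hx1 y hy
      have hy' : (y : G) ∈ θ (x : G) := Subgroup.mem_subgroupOf.1 hy
      have := h1 (x : G) (hmemA x hx) (hne x hx1) hy'
      rw [Subgroup.mem_centralizer_singleton_iff] at this ⊢
      exact Subtype.ext this
    · intro x hx hx1
      have hle : θ (x : G) ≤ H₀ := (hθK _ (hmemA x hx) (hne x hx1)).trans hKH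
      have hc : Nat.card ↥(θ' x) = Nat.card ↥(θ (x : G)) :=
        Nat.card_congr (Subgroup.subgroupOfEquivOfLe hle).toEquiv
      rw [hc]
      exact h2 (x : G) (hmemA x hx) (hne x hx1)
    · intro x hx hx1 b hb y hy
      have hy' : (y : G) ∈ θ (x : G) := Subgroup.mem_subgroupOf.1 hy
      exact Subgroup.mem_subgroupOf.2
        (h3 (x : G) (hmemA x hx) (hne x hx1) (b : G) (hmemA b hb) (y : G) hy')
    · intro x hx hx1 y hy hy1 z hz
      have hz1 : (z : G) ∈ θ (x : G) := Subgroup.mem_subgroupOf.1 hz.1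
      have hz2 : (z : G) ∈ Subgroup.centralizer ({(y : G)} : Set G) := by
        have : z ∈ Subgroup.centralizer ({y} : Set ↥H₀) := hz.2
        rw [Subgroup.mem_centralizer_singleton_iff] at this ⊢
        exact congrArg Subtype.val this
      exact Subgroup.mem_subgroupOf.2
        (h4 (x : G) (hmemA x hx) (hne x hx1) (y : G) (hmemA y hy) (hne y hy1) ⟨hz1, hz2⟩)
    · intro x hx hx1
      have hle : θ (x : G) ≤ H₀ := (hθK _ (hmemA x hx) (hne x hx1)).trans hKH
      have := h5 (x : G) (hmemA x hx) (hne x hx1)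
      exact Group.isSolvable_of_isSolvable_injective
        (f := (Subgroup.subgroupOfEquivOfLe hle).toMonoidHom)
        (Subgroup.subgroupOfEquivOfLe hle).injective
  -- the closure of the restricted functor
  have hcl : Cfsg.signalizerClosure A' θ' = K.subgroupOf H₀ := by
    apply le_antisymm
    · unfold Cfsg.signalizerClosure
      apply iSup_le
      intro x
      exact Subgroup.comap_mono (hθK _ (hmemA _ x.2.1) (hne _ x.2.2))
    · rw [← Subgroup.map_le_map_iff_of_injective (Subgroup.subtype_injective H₀),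
        Subgroup.map_subgroupOf_eq_of_le hKH]
      unfold Cfsg.signalizerClosure
      rw [Subgroup.map_iSup]
      rw [hK]
      unfold Cfsg.signalizerClosure
      apply iSup_le
      intro c
      have hcH : (c : G) ∈ H₀ := hAH c.2.1
      have hc1 : (⟨(c : G), hcH⟩ : ↥H₀) ≠ 1 := fun h => c.2.2 (congrArg Subtype.val h)
      have hcA' : (⟨(c : G), hcH⟩ : ↥H₀) ∈ A' := Subgroup.mem_subgroupOf.2 c.2.1
      refine le_trans ?_ (le_iSup (fun x : {x : ↥H₀ // x ∈ A' ∧ x ≠ 1} =>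
        (θ' (x : ↥H₀)).map H₀.subtype) ⟨⟨(c : G), hcH⟩, hcA', hc1⟩)
      have hle : θ (c : G) ≤ H₀ := (hθK _ c.2.1 c.2.2).trans hKH
      exact (Subgroup.map_subgroupOf_eq_of_le hle).ge
  have hcardK : Nat.card ↥(K.subgroupOf H₀) = Nat.card ↥K :=
    Nat.card_congr (Subgroup.subgroupOfEquivOfLe hKH).toEquiv
  have htop' : Cfsg.signalizerClosure A' θ' ⊔ A' = ⊤ := by
    rw [hcl, hA'def, ← Subgroup.subgroupOf_sup hKH hAH]
    exact Subgroup.subgroupOf_self H₀
  have hcard' : Nat.card ↥(Cfsg.signalizerClosure A' θ') ≤ n := by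
    rw [hcl, hcardK]; exact hcard
  have hsol' : Group.IsSolvable ↥(Cfsg.signalizerClosure A' θ') := by
    rw [hcl]
    exact Group.isSolvable_of_isSolvable_injective
      (f := (Subgroup.subgroupOfEquivOfLe hKH).toMonoidHom)
      (Subgroup.subgroupOfEquivOfLe hKH).injective
  have hp'' : ¬ p ∣ Nat.card ↥(Cfsg.signalizerClosure A' θ') := by
    rw [hcl, hcardK]; exact hp'
  have hres := htop ↥H₀ p A' hA' (by rw [hcardA]; exact hA3) θ' hθ' htop' hcard' hsol' hp''
    ⟨a, hAH ha⟩ (Subgroup.mem_subgroupOf.2 ha) (fun h => ha1 (congrArg Subtype.val h))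
  intro x hx
  have hxH : x ∈ H₀ := hKH hx.1
  have hmem : (⟨x, hxH⟩ : ↥H₀) ∈ Cfsg.signalizerClosure A' θ' ⊓
      Subgroup.centralizer ({(⟨a, hAH ha⟩ : ↥H₀)} : Set ↥H₀) := by
    refine ⟨?_, ?_⟩
    · rw [hcl]; exact Subgroup.mem_subgroupOf.2 hx.1
    · have : x ∈ Subgroup.centralizer ({a} : Set G) := hx.2
      show (⟨x, hxH⟩ : ↥H₀) ∈ Subgroup.centralizer ({(⟨a, hAH ha⟩ : ↥H₀)} : Set ↥H₀)
      rw [Subgroup.mem_centralizer_singleton_iff] at this ⊢
      exact Subtype.ext this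
  exact Subgroup.mem_subgroupOf.1 (hres hmem)

end Cfsg.Agent.Lib.H20.SigC
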