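import Cfsg.Agent.Lib.H5.Sims.Defs

/-!
# Sims' theorem, piece (L3B): the case `l = 3` is impossible (section (9d) of `tools/blueprints/S3685.md`)

A mirror-symmetric chain structure `Chain P y`, the half lemma `(y 0 * y 5) ^ 4 = y 2`, its mirror image
`(y 5 * y 0) ^ 4 = y 3`, and the adapter from `Setup` / `Y3`.
-/

set_option autoImplicit false

namespace Cfsg.Agent.Lib.H1.Sims

open scoped Pointwise
open Cfsg.Agent.Lib.H5.Sims

variable {G : Type*} [Group G]

/-- in a type with three elements, three distinct elements exhaust everything -/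
theorem three_cases {α : Type*} [Finite α] (h : Nat.card α = 3) {a b c : α} (hab : a ≠ b)
    (hac : a ≠ c) (hbc : b ≠ c) (q : α) : q = a ∨ q = b ∨ q = c := by
  classical
  by_contra hq
  rw [not_or, not_or] at hq
  obtain ⟨hqa, hqb, hqc⟩ := hq
  have := Fintype.ofFinite α
  have h1 : ({a, b, c, q} : Finset α).card ≤ Fintype.card α := Finset.card_le_univ _
  rw [← Nat.card_eq_fintype_card, h] at h1
  have h4 : ({a, b, c, q} : Finset α).card = 4 := by
    rw [Finset.card_insert_of_notMem, Finset.card_insert_of_notMem, Finset.card_insert_of_notMem,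
      Finset.card_singleton]
    · simp [Ne.symm hqc]
    · simp [hbc, Ne.symm hqb]
    · simp [hab, hac, Ne.symm hqa]
  omega

theorem conj_smul_smul (a b : G) (X : Subgroup G) :
    MulAut.conj a • (MulAut.conj b • X) = MulAut.conj (a * b) • X := by
  rw [smul_smul, ← map_mul]

theorem conj_smul_eq_iff (a : G) (X Y : Subgroup G) :
    MulAut.conj a • X = Y ↔ X = MulAut.conj a⁻¹ • Y := by
  constructor
  · rintro rfl
    rw [conj_smul_smul, inv_mul_cancel, map_one, one_smul]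
  · rintro rfl
    rw [conj_smul_smul, mul_inv_cancel, map_one, one_smul]

theorem conj_smul_of_mem {a : G} {X : Subgroup G} (ha : a ∈ X) : MulAut.conj a • X = X :=
  Subgroup.conj_smul_eq_self_of_mem ha

/-- neighbours: if `|A| = 3 |A ∩ B|`, three distinct `A`-conjugates of `B` are all of them -/
theorem nb [Finite G] {A B : Subgroup G} (hcard : Nat.card A = 3 * Nat.card ↥(A ⊓ B))
    {x₁ x₂ : G} (h₁ : x₁ ∈ A) (h₂ : x₂ ∈ A)
    (hd1 : MulAut.conj x₁ • B ≠ B) (hd2 : MulAut.conj x₂ • B ≠ B)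
    (hd12 : MulAut.conj x₁ • B ≠ MulAut.conj x₂ • B) {x : G} (hx : x ∈ A) :
    MulAut.conj x • B = B ∨ MulAut.conj x • B = MulAut.conj x₁ • B ∨
      MulAut.conj x • B = MulAut.conj x₂ • B := by
  classical
  -- the quotient `A / (A ∩ B)` has three elements
  have hq : Nat.card (↥A ⧸ B.subgroupOf A) = 3 := by
    have e1 := Subgroup.card_eq_card_quotient_mul_card_subgroup (B.subgroupOf A)
    have e2 : Nat.card ↥(B.subgroupOf A) = Nat.card ↥(A ⊓ B) := by
      rw [inf_comm, ← Subgroup.inf_subgroupOf_right B A]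
      exact Nat.card_congr (Subgroup.subgroupOfEquivOfLe inf_le_right).toEquiv
    rw [e2, hcard] at e1
    have hpos : 0 < Nat.card ↥(A ⊓ B) := Nat.card_pos
    exact (Nat.eq_of_mul_eq_mul_right hpos e1).symm
  -- key: equal cosets give equal conjugates
  have key : ∀ a b : G, ∀ (ha : a ∈ A) (hb : b ∈ A),
      ((⟨a, ha⟩ : ↥A) : ↥A ⧸ B.subgroupOf A) = ((⟨b, hb⟩ : ↥A) : ↥A ⧸ B.subgroupOf A) →
      MulAut.conj b • B = MulAut.conj a • B := by
    intro a b ha hb hab
    rw [QuotientGroup.eq] at hab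
    have hm : a⁻¹ * b ∈ B := by
      have := hab
      rw [Subgroup.mem_subgroupOf] at this
      simpa using this
    have : MulAut.conj (a⁻¹ * b) • B = B := conj_smul_of_mem hm
    calc MulAut.conj b • B = MulAut.conj (a * (a⁻¹ * b)) • B := by rw [mul_inv_cancel_left]
      _ = MulAut.conj a • (MulAut.conj (a⁻¹ * b) • B) := by rw [conj_smul_smul]
      _ = MulAut.conj a • B := by rw [this]
  have h1A : (1 : G) ∈ A := A.one_mem
  have hab : ((⟨1, h1A⟩ : ↥A) : ↥A ⧸ B.subgroupOf A) ≠ ((⟨x₁, h₁⟩ : ↥A) : ↥A ⧸ B.subgroupOf A) := by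
    intro h
    apply hd1
    have := key 1 x₁ h1A h₁ h
    rw [this, map_one, one_smul]
  have hac : ((⟨1, h1A⟩ : ↥A) : ↥A ⧸ B.subgroupOf A) ≠ ((⟨x₂, h₂⟩ : ↥A) : ↥A ⧸ B.subgroupOf A) := by
    intro h
    apply hd2
    have := key 1 x₂ h1A h₂ h
    rw [this, map_one, one_smul]
  have hbc : ((⟨x₁, h₁⟩ : ↥A) : ↥A ⧸ B.subgroupOf A) ≠ ((⟨x₂, h₂⟩ : ↥A) : ↥A ⧸ B.subgroupOf A) := by
    intro h
    apply hd12
    exact (key x₁ x₂ h₁ h₂ h).symm
  rcases three_cases hq hab hac hbc ((⟨x, hx⟩ : ↥A) : ↥A ⧸ B.subgroupOf A) with h | h | h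
  · left
    have := key 1 x h1A hx h.symm
    rw [this, map_one, one_smul]
  · right; left
    exact key x₁ x h₁ hx h.symm
  · right; right
    exact key x₂ x h₂ hx h.symm


/-- a fixed-point-free injective self-map of a three-element set is a 3-cycle -/
theorem perm3 {α : Type*} (f : α → α) (hf : Function.Injective f) {a b c : α}
    (ha : f a = a ∨ f a = b ∨ f a = c) (hb : f b = a ∨ f b = b ∨ f b = c)
    (hc : f c = a ∨ f c = b ∨ f c = c) (na : f a ≠ a) (nb : f b ≠ b) (nc : f c ≠ c)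
    (hab : a ≠ b) (hac : a ≠ c) (hbc : b ≠ c) :
    (f b = a ∧ f a = c ∧ f c = b) ∨ (f b = c ∧ f c = a ∧ f a = b) := by
  rcases ha with h | h | h
  · exact absurd h na
  · -- f a = b
    rcases hb with h' | h' | h'
    · rcases hc with h'' | h'' | h''
      · exact absurd (hf (h'.trans h''.symm)) hbc
      · exact absurd (hf (h.trans h''.symm)) hac
      · exact absurd h'' nc
    · exact absurd h' nb
    · rcases hc with h'' | h'' | h''
      · exact Or.inr ⟨h', h'', h⟩
      · exact absurd (hf (h.trans h''.symm)) hac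
      · exact absurd h'' nc
  · -- f a = c
    rcases hb with h' | h' | h'
    · rcases hc with h'' | h'' | h''
      · exact absurd (hf (h'.trans h''.symm)) hbc
      · exact Or.inl ⟨h', h, h''⟩
      · exact absurd h'' nc
    · exact absurd h' nb
    · exact absurd (hf (h.trans h'.symm)) hab

theorem comm_sq {a b c : G} (hca : c * a = a * c) (hcb : c * b = b * c) (hcc : c * c = 1) :
    (a * c) * b * (a * c) * b = a * b * a * b := by
  calc (a * c) * b * (a * c) * b = a * (c * b) * a * (c * b) := by simp only [mul_assoc]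
    _ = a * (b * c) * a * (b * c) := by rw [hcb]
    _ = a * b * (c * a) * b * c := by simp only [mul_assoc]
    _ = a * b * (a * c) * b * c := by rw [hca]
    _ = a * b * a * (c * b) * c := by simp only [mul_assoc]
    _ = a * b * a * (b * c) * c := by rw [hcb]
    _ = a * b * a * b * (c * c) := by simp only [mul_assoc]
    _ = a * b * a * b := by rw [hcc, mul_one]

theorem comm_sq' {a b c : G} (hca : c * a = a * c) (hcb : c * b = b * c) (hcc : c * c = 1) :
    b * (a * c) * b * (a * c) = b * a * b * a := by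
  calc b * (a * c) * b * (a * c) = b * a * (c * b) * a * c := by simp only [mul_assoc]
    _ = b * a * (b * c) * a * c := by rw [hcb]
    _ = b * a * b * (c * a) * c := by simp only [mul_assoc]
    _ = b * a * b * (a * c) * c := by rw [hca]
    _ = b * a * b * a * (c * c) := by simp only [mul_assoc]
    _ = b * a * b * a := by rw [hcc, mul_one]

theorem orderOf_conj_eq (a t : G) : orderOf (a * t * a⁻¹) = orderOf t := by
  simpa using (MulAut.conj a).orderOf_eq t

theorem inv_of_sq {a : G} (h : a * a = 1) : a⁻¹ = a := inv_eq_of_mul_eq_one_right h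

/-- mirror-symmetric data for section (9d) of the blueprint -/
structure Chain (P : ℤ → Subgroup G) (y : ℤ → G) : Prop where
  selfnorm : ∀ (j : ℤ) (x : G), MulAut.conj x • P j = P j → x ∈ P j
  canon : ∀ (i j : ℤ) (x : G), MulAut.conj x • P i = P j → x * y i * x⁻¹ = y j
  ysq : ∀ j : ℤ, y j * y j = 1
  ycen : ∀ j : ℤ, ∀ x ∈ P j, x * y j = y j * x
  ymem : ∀ i j : ℤ, |i - j| ≤ 3 → y j ∈ P i
  ynot : ∀ i j : ℤ, |i - j| = 4 → y j ∉ P i
  yrel : ∀ i j k : ℤ, i + k = 2 * j → |i - k| = 4 → y i * y k * y i * y k = y j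
  ycomm : ∀ i j : ℤ, |i - j| ≤ 3 → y i * y j = y j * y i
  yne : ∀ i j : ℤ, |i - j| = 1 → y i ≠ y j
  card : ∀ i j : ℤ, |i - j| = 1 → Nat.card (P i) = 3 * Nat.card ↥(P i ⊓ P j)
  sp : ∀ j : ℤ, ∃ g ∈ P j, MulAut.conj g • P (j + 1) = P (j - 1)
  pne2 : ∀ i j : ℤ, |i - j| = 2 → P i ≠ P j
  t3 : ∀ j : ℤ, ∃ t ∈ P j, orderOf t = 3
  no3 : ∀ i j : ℤ, |i - j| = 1 → ∀ t ∈ P i ⊓ P j, orderOf t ≠ 3
  shift : ∀ n : ℤ, ∃ c : G, ∀ k : ℤ, MulAut.conj c • P k = P (k + n)

namespace Chain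

variable [Finite G] {P : ℤ → Subgroup G} {y : ℤ → G}

/-- an element of `P 2` inducing the 3-cycle `P 1 → P 3 → P 1' → P 1` on the neighbours of `P 2` -/
theorem exists_t (C : Chain P y) : ∃ t ∈ P 2, MulAut.conj t • P 1 = P 3 ∧
    MulAut.conj t • P 3 = MulAut.conj (y 5) • P 1 ∧
    MulAut.conj t • (MulAut.conj (y 5) • P 1) = P 1 := by
  obtain ⟨g2, hg2, hg2e⟩ : ∃ g ∈ P 2, MulAut.conj g • P 3 = P 1 := by
    have := C.sp 2; norm_num at this; exact this
  have hy52 : y 5 ∈ P 2 := C.ymem 2 5 (by norm_num)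
  have hy53 : y 5 ∈ P 3 := C.ymem 3 5 (by norm_num)
  have hy51 : y 5 ∉ P 1 := C.ynot 1 5 (by norm_num)
  have hcard : Nat.card (P 2) = 3 * Nat.card ↥(P 2 ⊓ P 3) := C.card 2 3 (by norm_num)
  have h13 : P 1 ≠ P 3 := C.pne2 1 3 (by norm_num)
  have e2 : MulAut.conj (y 5 * g2) • P 3 = MulAut.conj (y 5) • P 1 := by
    rw [← conj_smul_smul, hg2e]
  have hd1 : MulAut.conj g2 • P 3 ≠ P 3 := by rw [hg2e]; exact h13
  have hd2 : MulAut.conj (y 5 * g2) • P 3 ≠ P 3 := by
    rw [e2]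
    intro h
    have h3 : MulAut.conj (y 5) • P 3 = P 3 := conj_smul_of_mem hy53
    rw [← h3] at h
    exact h13 (smul_left_cancel _ h)
  have hd12 : MulAut.conj g2 • P 3 ≠ MulAut.conj (y 5 * g2) • P 3 := by
    rw [e2, hg2e]
    intro h
    exact hy51 (C.selfnorm 1 _ h.symm)
  have NB : ∀ x ∈ P 2, MulAut.conj x • P 3 = P 3 ∨ MulAut.conj x • P 3 = P 1 ∨
      MulAut.conj x • P 3 = MulAut.conj (y 5) • P 1 := by
    intro x hx
    have := nb hcard hg2 ((P 2).mul_mem hy52 hg2) hd1 hd2 hd12 hx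
    rwa [e2, hg2e] at this
  obtain ⟨t0, ht0, ho⟩ := C.t3 2
  -- `t0` fixes no neighbour
  have nofix : ∀ x ∈ P 2, MulAut.conj t0 • (MulAut.conj x • P 3) ≠ MulAut.conj x • P 3 := by
    intro x hx h
    have h' : MulAut.conj (x⁻¹ * (t0 * x)) • P 3 = P 3 := by
      rw [← conj_smul_smul, ← conj_smul_smul, h, conj_smul_smul, inv_mul_cancel, map_one, one_smul]
    have hm : x⁻¹ * (t0 * x) ∈ P 3 := C.selfnorm 3 _ h'
    have hm2 : x⁻¹ * (t0 * x) ∈ P 2 := (P 2).mul_mem ((P 2).inv_mem hx) ((P 2).mul_mem ht0 hx)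
    have ho' : orderOf (x⁻¹ * (t0 * x)) = 3 := by
      have := orderOf_conj_eq x⁻¹ t0
      rw [inv_inv] at this
      rw [← ho, ← this, mul_assoc]
    exact C.no3 2 3 (by norm_num) _ ⟨hm2, hm⟩ ho'
  have f3 : MulAut.conj t0 • P 3 ≠ P 3 := by
    have := nofix 1 (P 2).one_mem
    rwa [map_one, one_smul] at this
  have f1 : MulAut.conj t0 • P 1 ≠ P 1 := by
    have := nofix g2 hg2
    rwa [hg2e] at this
  have f1' : MulAut.conj t0 • (MulAut.conj (y 5) • P 1) ≠ MulAut.conj (y 5) • P 1 := by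
    have := nofix (y 5 * g2) ((P 2).mul_mem hy52 hg2)
    rwa [e2] at this
  have i3 := NB t0 ht0
  have i1 : MulAut.conj t0 • P 1 = P 3 ∨ MulAut.conj t0 • P 1 = P 1 ∨
      MulAut.conj t0 • P 1 = MulAut.conj (y 5) • P 1 := by
    have := NB (t0 * g2) ((P 2).mul_mem ht0 hg2)
    rwa [← conj_smul_smul, hg2e] at this
  have i1' : MulAut.conj t0 • (MulAut.conj (y 5) • P 1) = P 3 ∨
      MulAut.conj t0 • (MulAut.conj (y 5) • P 1) = P 1 ∨
      MulAut.conj t0 • (MulAut.conj (y 5) • P 1) = MulAut.conj (y 5) • P 1 := by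
    have := NB (t0 * (y 5 * g2)) ((P 2).mul_mem ht0 ((P 2).mul_mem hy52 hg2))
    rwa [← conj_smul_smul, e2] at this
  have h1' : P 1 ≠ MulAut.conj (y 5) • P 1 := fun h => hy51 (C.selfnorm 1 _ h.symm)
  have h31' : P 3 ≠ MulAut.conj (y 5) • P 1 := by
    intro h
    have h3 : MulAut.conj (y 5) • P 3 = P 3 := conj_smul_of_mem hy53
    rw [← h3] at h
    exact h13 (smul_left_cancel _ h).symm
  rcases perm3 (fun X => MulAut.conj t0 • X) (fun X Y h => smul_left_cancel _ h)
      (a := P 3) (b := P 1) (c := MulAut.conj (y 5) • P 1) i3 i1 i1' f3 f1 f1'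
      h13.symm h31' h1' with ⟨hb, ha, hc⟩ | ⟨hb, hc, ha⟩
  · exact ⟨t0, ht0, hb, ha, hc⟩
  · refine ⟨t0⁻¹, (P 2).inv_mem ht0, ?_, ?_, ?_⟩
    · rw [conj_smul_eq_iff, inv_inv]; exact ha.symm
    · rw [conj_smul_eq_iff, inv_inv]; exact hc.symm
    · rw [conj_smul_eq_iff, inv_inv]; exact hb.symm

/-- the half lemma: `(y 0 * y 5) ^ 4 = y 2` -/
theorem half (C : Chain P y) :
    y 0 * y 5 * y 0 * y 5 * y 0 * y 5 * y 0 * y 5 = y 2 := by
  obtain ⟨t, ht, E1, E2, E3⟩ := C.exists_t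
  have hy52 : y 5 ∈ P 2 := C.ymem 2 5 (by norm_num)
  have hy02 : y 0 ∈ P 2 := C.ymem 2 0 (by norm_num)
  have hy03 : y 0 ∈ P 3 := C.ymem 3 0 (by norm_num)
  have hy04 : y 0 ∉ P 4 := C.ynot 4 0 (by norm_num)
  have hy41 : y 4 ∈ P 1 := C.ymem 1 4 (by norm_num)
  have hy42 : y 4 ∈ P 2 := C.ymem 2 4 (by norm_num)
  have hy40 : y 4 ∉ P 0 := C.ynot 0 4 (by norm_num)
  have p02 : P 0 ≠ P 2 := C.pne2 0 2 (by norm_num)
  have p24 : P 2 ≠ P 4 := C.pne2 2 4 (by norm_num)
  have tP2 : MulAut.conj t • P 2 = P 2 := conj_smul_of_mem ht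
  have s0 := C.ysq 0
  have s2 := C.ysq 2
  have s4 := C.ysq 4
  have s5 := C.ysq 5
  have r04 : y 0 * y 4 * y 0 * y 4 = y 2 := C.yrel 0 2 4 (by norm_num) (by norm_num)
  have r40 : y 4 * y 0 * y 4 * y 0 = y 2 := C.yrel 4 2 0 (by norm_num) (by norm_num)
  have c20 : y 2 * y 0 = y 0 * y 2 := C.ycomm 2 0 (by norm_num)
  have c24 : y 2 * y 4 = y 4 * y 2 := C.ycomm 2 4 (by norm_num)
  have ct2 : t * y 2 = y 2 * t := C.ycen 2 t ht
  -- an element `c` with `c • (P 3, P 4) = (P 1, P 0)`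
  obtain ⟨g1, hg1, hg1e⟩ : ∃ g ∈ P 1, MulAut.conj g • P 2 = P 0 := by
    have := C.sp 1; norm_num at this; exact this
  obtain ⟨c, hc3, hc4⟩ : ∃ c : G, MulAut.conj c • P 3 = P 1 ∧ MulAut.conj c • P 4 = P 0 := by
    obtain ⟨s, hs⟩ := C.shift (-2)
    refine ⟨g1 * s, ?_, ?_⟩
    · have := hs 3; norm_num at this
      rw [← conj_smul_smul, this, conj_smul_of_mem hg1]
    · have := hs 4; norm_num at this
      rw [← conj_smul_smul, this, hg1e]
  have hc3' : MulAut.conj c⁻¹ • P 1 = P 3 := by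
    rw [← hc3, conj_smul_smul, inv_mul_cancel, map_one, one_smul]
  have hc4' : MulAut.conj c⁻¹ • P 0 = P 4 := by
    rw [← hc4, conj_smul_smul, inv_mul_cancel, map_one, one_smul]
  -- the neighbours of `P 3`
  obtain ⟨g3, hg3, hg3e⟩ : ∃ g ∈ P 3, MulAut.conj g • P 4 = P 2 := by
    have := C.sp 3; norm_num at this; exact this
  have NB34 : ∀ x ∈ P 3, MulAut.conj x • P 4 = P 4 ∨ MulAut.conj x • P 4 = P 2 ∨
      MulAut.conj x • P 4 = MulAut.conj (y 0) • P 4 := by
    intro x hx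
    have hd1 : MulAut.conj g3 • P 4 ≠ P 4 := by rw [hg3e]; exact p24
    have hd2 : MulAut.conj (y 0) • P 4 ≠ P 4 := fun h => hy04 (C.selfnorm 4 _ h)
    have hd12 : MulAut.conj g3 • P 4 ≠ MulAut.conj (y 0) • P 4 := by
      rw [hg3e]; intro h
      have h2 : MulAut.conj (y 0) • P 2 = P 2 := conj_smul_of_mem hy02
      rw [← h2] at h
      exact p24 (smul_left_cancel _ h)
    have := nb (C.card 3 4 (by norm_num)) hg3 hy03 hd1 hd2 hd12 hx
    rwa [hg3e] at this
  -- the neighbours of `P 1`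
  have hg1e' : MulAut.conj g1⁻¹ • P 0 = P 2 := by
    rw [← hg1e, conj_smul_smul, inv_mul_cancel, map_one, one_smul]
  have NB10 : ∀ x ∈ P 1, MulAut.conj x • P 0 = P 0 ∨ MulAut.conj x • P 0 = P 2 ∨
      MulAut.conj x • P 0 = MulAut.conj (y 4) • P 0 := by
    intro x hx
    have hd1 : MulAut.conj g1⁻¹ • P 0 ≠ P 0 := by rw [hg1e']; exact p02.symm
    have hd2 : MulAut.conj (y 4) • P 0 ≠ P 0 := fun h => hy40 (C.selfnorm 0 _ h)
    have hd12 : MulAut.conj g1⁻¹ • P 0 ≠ MulAut.conj (y 4) • P 0 := by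
      rw [hg1e']; intro h
      have h2 : MulAut.conj (y 4) • P 2 = P 2 := conj_smul_of_mem hy42
      rw [← h2] at h
      exact p02 (smul_left_cancel _ h).symm
    have := nb (C.card 1 0 (by norm_num)) ((P 1).inv_mem hg1) hy41 hd1 hd2 hd12 hx
    rwa [hg1e'] at this
  -- step 2: `t • P 0` is `P 4` or `y 0 • P 4`
  have hu : t * y 0 * t⁻¹ = y 4 ∨ t * y 0 * t⁻¹ = y 0 * y 4 * (y 0)⁻¹ := by
    have hx : t * c ∈ P 3 := by
      apply C.selfnorm 3
      rw [← conj_smul_smul, hc3, E1]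
    have := NB34 (t * c) hx
    rw [← conj_smul_smul, hc4] at this
    rcases this with h | h | h
    · left; exact C.canon 0 4 t h
    · exfalso
      rw [← tP2] at h
      exact p02 (smul_left_cancel _ h)
    · right
      have h' : MulAut.conj ((y 0)⁻¹ * t) • P 0 = P 4 := by
        rw [← conj_smul_smul, h, conj_smul_smul, inv_mul_cancel, map_one, one_smul]
      have := C.canon 0 4 _ h'
      calc t * y 0 * t⁻¹ = y 0 * ((y 0)⁻¹ * t * y 0 * ((y 0)⁻¹ * t)⁻¹) * (y 0)⁻¹ := by group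
        _ = y 0 * y 4 * (y 0)⁻¹ := by rw [this]
  obtain ⟨z, hz⟩ : ∃ z, z = t * y 4 * t⁻¹ := ⟨_, rfl⟩
  obtain ⟨u, hudef⟩ : ∃ u, u = t * y 0 * t⁻¹ := ⟨_, rfl⟩
  rw [← hudef] at hu
  have uzuz : u * z * u * z = y 2 := by
    calc u * z * u * z = t * (y 0 * y 4 * y 0 * y 4) * t⁻¹ := by rw [hudef, hz]; group
      _ = y 2 := by rw [r04, ct2, mul_inv_cancel_right]
  have zz : z * z = 1 := by
    calc z * z = t * (y 4 * y 4) * t⁻¹ := by rw [hz]; group
      _ = 1 := by rw [s4, mul_one, mul_inv_cancel]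
  have uu : u * u = 1 := by
    calc u * u = t * (y 0 * y 0) * t⁻¹ := by rw [hudef]; group
      _ = 1 := by rw [s0, mul_one, mul_inv_cancel]
  have ct2' : t⁻¹ * y 2 = y 2 * t⁻¹ := by
    calc t⁻¹ * y 2 = t⁻¹ * (y 2 * t) * t⁻¹ := by group
      _ = t⁻¹ * (t * y 2) * t⁻¹ := by rw [ct2]
      _ = y 2 * t⁻¹ := by group
  have c2z : y 2 * z = z * y 2 := by
    calc y 2 * z = (y 2 * t) * y 4 * t⁻¹ := by rw [hz]; group
      _ = (t * y 2) * y 4 * t⁻¹ := by rw [ct2]
      _ = t * (y 2 * y 4) * t⁻¹ := by group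
      _ = t * (y 4 * y 2) * t⁻¹ := by rw [c24]
      _ = t * y 4 * (y 2 * t⁻¹) := by group
      _ = t * y 4 * (t⁻¹ * y 2) := by rw [ct2']
      _ = z * y 2 := by rw [hz]; group
  -- (R1)
  have R1 : y 4 * z * y 4 * z = y 2 := by
    rcases hu with h | h
    · rw [h] at uzuz; exact uzuz
    · have e : y 0 * y 4 * (y 0)⁻¹ = y 4 * y 2 := by
        rw [inv_of_sq s0, ← r40]
        simp only [← mul_assoc, s4, one_mul]
      rw [h, e, comm_sq c24 c2z s2] at uzuz
      exact uzuz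
  -- step 3': `t • t • P 4` is `P 0` or `y 4 • P 0`
  have hz' : t * z * t⁻¹ = y 0 ∨ t * z * t⁻¹ = y 4 * y 0 * (y 4)⁻¹ := by
    have hx : t * t * c⁻¹ ∈ P 1 := by
      apply C.selfnorm 1
      rw [← conj_smul_smul, ← conj_smul_smul, hc3', E2, E3]
    have := NB10 (t * t * c⁻¹) hx
    rw [← conj_smul_smul, hc4'] at this
    have e : t * z * t⁻¹ = (t * t) * y 4 * (t * t)⁻¹ := by rw [hz]; group
    rcases this with h | h | h
    · left; rw [e]; exact C.canon 4 0 _ h
    · exfalso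
      have h2 : MulAut.conj (t * t) • P 2 = P 2 := conj_smul_of_mem ((P 2).mul_mem ht ht)
      rw [← h2] at h
      exact p24 (smul_left_cancel _ h).symm
    · right
      have h' : MulAut.conj ((y 4)⁻¹ * (t * t)) • P 4 = P 0 := by
        rw [← conj_smul_smul, h, conj_smul_smul, inv_mul_cancel, map_one, one_smul]
      have := C.canon 4 0 _ h'
      rw [e]
      calc (t * t) * y 4 * (t * t)⁻¹
          = y 4 * ((y 4)⁻¹ * (t * t) * y 4 * ((y 4)⁻¹ * (t * t))⁻¹) * (y 4)⁻¹ := by group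
        _ = y 4 * y 0 * (y 4)⁻¹ := by rw [this]
  -- (R2)
  have R2 : z * y 0 * z * y 0 = y 2 := by
    obtain ⟨z', hz'def⟩ : ∃ z', z' = t * z * t⁻¹ := ⟨_, rfl⟩
    rw [← hz'def] at hz'
    have zz'zz' : z * z' * z * z' = y 2 := by
      calc z * z' * z * z' = (t * y 4 * t⁻¹) * (t * z * t⁻¹) * (t * y 4 * t⁻¹) * (t * z * t⁻¹) := by
            rw [← hz, ← hz'def]
        _ = t * (y 4 * z * y 4 * z) * t⁻¹ := by group
        _ = y 2 := by rw [R1, ct2, mul_inv_cancel_right]
    rcases hz' with h | h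
    · rw [h] at zz'zz'; exact zz'zz'
    · have e : y 4 * y 0 * (y 4)⁻¹ = y 0 * y 2 := by
        rw [inv_of_sq s4, ← r04]
        simp only [← mul_assoc, s0, one_mul]
      rw [h, e, comm_sq' c20 c2z s2] at zz'zz'
      exact zz'zz'
  -- step 5: `y 5 • P 0` is a neighbour of `P 1'`
  have hv : y 5 * y 0 * (y 5)⁻¹ = z ∨ y 5 * y 0 * (y 5)⁻¹ = z * y 2 := by
    have hx : t⁻¹ * y 5 * c ∈ P 3 := by
      apply C.selfnorm 3
      rw [← conj_smul_smul, ← conj_smul_smul, hc3, ← E2, conj_smul_smul, inv_mul_cancel, map_one,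
        one_smul]
    have := NB34 _ hx
    rw [← conj_smul_smul, hc4] at this
    rcases this with h | h | h
    · left
      have := C.canon 0 4 _ h
      calc y 5 * y 0 * (y 5)⁻¹ = t * (t⁻¹ * y 5 * y 0 * (t⁻¹ * y 5)⁻¹) * t⁻¹ := by group
        _ = z := by rw [this, hz]
    · exfalso
      have h2 : MulAut.conj (t⁻¹ * y 5) • P 2 = P 2 :=
        conj_smul_of_mem ((P 2).mul_mem ((P 2).inv_mem ht) hy52)
      rw [← h2] at h
      exact p02 (smul_left_cancel _ h)
    · right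
      have h' : MulAut.conj ((y 0)⁻¹ * (t⁻¹ * y 5)) • P 0 = P 4 := by
        rw [← conj_smul_smul, h, conj_smul_smul, inv_mul_cancel, map_one, one_smul]
      have := C.canon 0 4 _ h'
      have e1 : y 5 * y 0 * (y 5)⁻¹ = t * y 0 * ((y 0)⁻¹ * (t⁻¹ * y 5) * y 0 *
          ((y 0)⁻¹ * (t⁻¹ * y 5))⁻¹) * (y 0)⁻¹ * t⁻¹ := by group
      rw [this] at e1
      have e2 : t * y 0 * y 4 * (y 0)⁻¹ * t⁻¹ = u * z * u⁻¹ := by rw [hudef, hz]; group
      have e3 : u * z * u⁻¹ = z * y 2 := by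
        rw [inv_of_sq uu]
        calc u * z * u = (u * z * u * z) * z := by rw [mul_assoc (u * z * u), zz, mul_one]
          _ = y 2 * z := by rw [uzuz]
          _ = z * y 2 := c2z
      rw [e1, e2, e3]
  -- the end
  have base : y 0 * z * y 0 * z = y 2 := by
    calc y 0 * z * y 0 * z = y 0 * (z * y 0 * z * y 0) * y 0 := by
          simp only [mul_assoc, s0, mul_one]
      _ = y 0 * y 2 * y 0 := by rw [R2]
      _ = y 2 := by rw [← c20, mul_assoc, s0, mul_one]
  have F : y 0 * (y 5 * y 0 * (y 5)⁻¹) * y 0 * (y 5 * y 0 * (y 5)⁻¹) = y 2 := by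
    rcases hv with h | h
    · rw [h]; exact base
    · rw [h, comm_sq' c2z c20 s2]; exact base
  rw [inv_of_sq s5] at F
  simpa only [mul_assoc] using F

omit [Finite G] in
/-- the mirror image `j ↦ 5 - j` of a chain is a chain -/
theorem mirror (C : Chain P y) : Chain (fun j => P (5 - j)) (fun j => y (5 - j)) where
  selfnorm j x h := C.selfnorm _ x h
  canon i j x h := C.canon _ _ x h
  ysq j := C.ysq _
  ycen j x hx := C.ycen _ x hx
  ymem i j h := C.ymem _ _ (by rwa [show (5 - i) - (5 - j) = -(i - j) by ring, abs_neg])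
  ynot i j h := C.ynot _ _ (by rwa [show (5 - i) - (5 - j) = -(i - j) by ring, abs_neg])
  yrel i j k h1 h2 := C.yrel _ _ _ (by linarith)
    (by rwa [show (5 - i) - (5 - k) = -(i - k) by ring, abs_neg])
  ycomm i j h := C.ycomm _ _ (by rwa [show (5 - i) - (5 - j) = -(i - j) by ring, abs_neg])
  yne i j h := C.yne _ _ (by rwa [show (5 - i) - (5 - j) = -(i - j) by ring, abs_neg])
  card i j h := C.card _ _ (by rwa [show (5 - i) - (5 - j) = -(i - j) by ring, abs_neg])
  sp j := by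
    obtain ⟨g, hg, hge⟩ := C.sp (5 - j)
    refine ⟨g⁻¹, (P _).inv_mem hg, ?_⟩
    show MulAut.conj g⁻¹ • P (5 - (j + 1)) = P (5 - (j - 1))
    rw [show (5 : ℤ) - (j + 1) = 5 - j - 1 by ring, show (5 : ℤ) - (j - 1) = 5 - j + 1 by ring,
      ← hge, conj_smul_smul, inv_mul_cancel, map_one, one_smul]
  pne2 i j h := C.pne2 _ _ (by rwa [show (5 - i) - (5 - j) = -(i - j) by ring, abs_neg])
  t3 j := C.t3 _
  no3 i j h t ht := C.no3 _ _ (by rwa [show (5 - i) - (5 - j) = -(i - j) by ring, abs_neg]) t ht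
  shift n := by
    obtain ⟨c, hc⟩ := C.shift (-n)
    refine ⟨c, fun k => ?_⟩
    show MulAut.conj c • P (5 - k) = P (5 - (k + n))
    rw [hc, show (5 : ℤ) - k + -n = 5 - (k + n) by ring]

/-- section (9d): a chain does not exist -/
theorem false (C : Chain P y) : False := by
  have h1 := C.half
  have h2 : y 5 * y 0 * y 5 * y 0 * y 5 * y 0 * y 5 * y 0 = y 3 := by
    have := C.mirror.half
    norm_num at this
    exact this
  have e : y 5 * y 0 * y 5 * y 0 * y 5 * y 0 * y 5 * y 0 =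
      y 5 * (y 0 * y 5 * y 0 * y 5 * y 0 * y 5 * y 0 * y 5) * (y 5)⁻¹ := by group
  have c52 : y 5 * y 2 = y 2 * y 5 := C.ycomm 5 2 (by norm_num)
  rw [e, h1, c52, mul_inv_cancel_right] at h2
  exact C.yne 2 3 (by norm_num) h2

end Chain

/-! ## The adapter from `Setup` / `Y3` -/

theorem mem_zpowers_of_sq {a b : G} (hb : b ^ 2 = 1) (ha : a ∈ Subgroup.zpowers b) : a = 1 ∨ a = b := by
  obtain ⟨k, rfl⟩ := Subgroup.mem_zpowers_iff.1 ha
  have h2 : b ^ (2 : ℤ) = 1 := by
    have : b ^ ((2 : ℕ) : ℤ) = 1 := by rw [zpow_natCast]; exact hb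
    simpa using this
  rw [zpow_eq_zpow_emod k h2]
  rcases Int.emod_two_eq_zero_or_one k with h | h
  · left; rw [h, zpow_zero]
  · right; rw [h, zpow_one]

theorem mem_normalizer_of_conj_smul {g : G} {X : Subgroup G} (h : MulAut.conj g • X = X) :
    g ∈ Subgroup.normalizer (X : Set G) := by
  rw [Subgroup.mem_normalizer_iff]
  intro p
  constructor
  · intro hp
    have := conj_mem_conj_smul (g := g) hp
    rwa [h] at this
  · intro hp
    rw [← h, mem_conj_smul] at hp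
    simpa [mul_assoc] using hp

section adapter

variable [Finite G] (S : Setup G)

theorem setup_selfnorm (j : ℤ) (x : G) (h : MulAut.conj x • S.Pj j = S.Pj j) : x ∈ S.Pj j := by
  have hP : S.P ≠ ⊥ := by
    intro h0
    have hc := S.idx
    have h1 : Nat.card S.P = 1 := by rw [h0]; exact Subgroup.card_bot
    have hpos : 0 < Nat.card ↥(S.P ⊓ MulAut.conj S.h • S.P) := Nat.card_pos
    omega
  have hn : Subgroup.normalizer (S.P : Set G) ≤ S.P :=
    S.prim S.P le_rfl hP Subgroup.le_normalizer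
  have h' : MulAut.conj ((S.h ^ j)⁻¹ * x * S.h ^ j) • S.P = S.P := by
    have e : MulAut.conj (x * S.h ^ j) • S.P = MulAut.conj (S.h ^ j) • S.P := by
      rw [← conj_smul_smul]; exact h
    rw [mul_assoc, ← conj_smul_smul, e, conj_smul_smul, inv_mul_cancel, map_one, one_smul]
  have hm := hn (mem_normalizer_of_conj_smul h')
  show x ∈ MulAut.conj (S.h ^ j) • S.P
  rw [mem_conj_smul]
  exact hm

omit [Finite G] in
theorem setup_no3 (hb : S.Bent) (k : ℤ) (t : G) (ht : t ∈ S.Tj k) : orderOf t ≠ 3 := by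
  intro ho
  have hk := S.conj_Tj k 0
  rw [add_zero] at hk
  rw [← hk, mem_conj_smul] at ht
  obtain ⟨n, hn⟩ := hb.two ⟨_, ht⟩
  have hn' : ((S.h ^ k)⁻¹ * t * S.h ^ k) ^ (2 ^ n) = 1 := by
    have := congrArg Subtype.val hn
    simpa using this
  have hd := orderOf_dvd_of_pow_eq_one hn'
  have ho' : orderOf ((S.h ^ k)⁻¹ * t * S.h ^ k) = 3 := by
    have := orderOf_conj_eq (S.h ^ k)⁻¹ t
    rw [inv_inv] at this
    rw [this, ho]
  rw [ho'] at hd
  have := Nat.Prime.dvd_of_dvd_pow Nat.prime_three hd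
  omega

theorem chain_of_Y3 (hb : S.Bent) (hL : S.Loc) (hC : S.Con) (y : ℤ → G) (h : S.Y3 y) :
    Chain S.Pj y where
  selfnorm := setup_selfnorm S
  canon i j x hx := by
    have e : S.Yj j = MulAut.conj x • S.Yj i := by
      show zOf (S.Pj j) = MulAut.conj x • zOf (S.Pj i)
      rw [← zOf_conj_smul, hx]
    have hyi : y i ∈ S.Yj i := by rw [h.Y_eq i]; exact Subgroup.mem_zpowers _
    have hm : x * y i * x⁻¹ ∈ S.Yj j := by rw [e]; exact conj_mem_conj_smul hyi
    rw [h.Y_eq j] at hm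
    rcases mem_zpowers_of_sq (h.sq j) hm with h1 | h1
    · exfalso
      apply h.ne_one i
      have : y i = x⁻¹ * (x * y i * x⁻¹) * x := by group
      rw [this, h1]; group
    · exact h1
  ysq j := by rw [← pow_two]; exact h.sq j
  ycen j x hx := by
    have hyj : y j ∈ S.Yj j := by rw [h.Y_eq j]; exact Subgroup.mem_zpowers _
    exact (mem_zOf.1 hyj).2.2 x hx
  ymem := h.mem
  ynot i j hij := by
    rcases (abs_eq (by norm_num : (0 : ℤ) ≤ 4)).1 hij with h1 | h1
    · have : i = j + 4 := by omega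
      rw [this]; exact h.not_mem_right j
    · have : i = j - 4 := by omega
      rw [this]; exact h.not_mem_left j
  yrel i j k h1 h2 := by
    rcases (abs_eq (by norm_num : (0 : ℤ) ≤ 4)).1 h2 with h3 | h3
    · have ei : i = k + 4 := by omega
      have ej : j = k + 2 := by omega
      rw [ei, ej]
      have r := h.rel k
      have sk : (y k)⁻¹ = y k := inv_of_sq (by rw [← pow_two]; exact h.sq k)
      have sk4 : (y (k + 4))⁻¹ = y (k + 4) := inv_of_sq (by rw [← pow_two]; exact h.sq _)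
      have sk2 : (y (k + 2))⁻¹ = y (k + 2) := inv_of_sq (by rw [← pow_two]; exact h.sq _)
      have := congrArg (fun g => g⁻¹) r
      simp only [mul_inv_rev, sk, sk4, sk2] at this
      simpa only [mul_assoc] using this
    · have ek : k = i + 4 := by omega
      have ej : j = i + 2 := by omega
      rw [ek, ej]; exact h.rel i
  ycomm := h.comm
  yne i j hij := by
    intro he
    have hP : S.Pj i ≠ S.Pj j := by
      rcases (abs_eq (by norm_num : (0 : ℤ) ≤ 1)).1 hij with h1 | h1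
      · have : i = j + 1 := by omega
        rw [this]; exact (hL.P_ne j).symm
      · have : j = i + 1 := by omega
        rw [this]; exact hL.P_ne i
    have hinf := hC.Y_inf i j hP
    have hyi : y i ∈ S.Yj i := by rw [h.Y_eq i]; exact Subgroup.mem_zpowers _
    have hyj : y i ∈ S.Yj j := by rw [he, h.Y_eq j]; exact Subgroup.mem_zpowers _
    have : y i ∈ S.Yj i ⊓ S.Yj j := ⟨hyi, hyj⟩
    rw [hinf, Subgroup.mem_bot] at this
    exact h.ne_one i this
  card i j hij := by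
    rcases (abs_eq (by norm_num : (0 : ℤ) ≤ 1)).1 hij with h1 | h1
    · have : i = j + 1 := by omega
      rw [this, inf_comm]
      show Nat.card (S.Pj (j + 1)) = 3 * Nat.card (S.Tj j)
      rw [S.card_Pj_eq, S.card_Tj j]
    · have : j = i + 1 := by omega
      rw [this]
      show Nat.card (S.Pj i) = 3 * Nat.card (S.Tj i)
      rw [S.card_Pj_eq, S.card_Tj i]
  sp := h.sp
  pne2 i j hij := by
    rcases (abs_eq (by norm_num : (0 : ℤ) ≤ 2)).1 hij with h1 | h1
    · have e1 : i = (j + 1) + 1 := by omega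
      have e2 : j = (j + 1) - 1 := by omega
      have := hL.P_ne2 (j + 1)
      rw [← e2] at this
      rw [e1]; exact this.symm
    · have e1 : j = (i + 1) + 1 := by omega
      have e2 : i = (i + 1) - 1 := by omega
      have := hL.P_ne2 (i + 1)
      rw [← e2] at this
      rw [e1]; exact this
  t3 := hL.exists_three
  no3 i j hij t ht := by
    rcases (abs_eq (by norm_num : (0 : ℤ) ≤ 1)).1 hij with h1 | h1
    · have : i = j + 1 := by omega
      rw [this, inf_comm] at ht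
      exact setup_no3 S hb j t ht
    · have : j = i + 1 := by omega
      rw [this] at ht
      exact setup_no3 S hb i t ht
  shift n := ⟨S.h ^ n, fun k => by rw [S.conj_Pj, add_comm]⟩

/-- (L3B) section (9d): the case `l = 3` is impossible -/
theorem l3b (hb : S.Bent) (hL : S.Loc) (hC : S.Con) (y : ℤ → G) (h : S.Y3 y) : False :=
  (chain_of_Y3 S hb hL hC y h).false

end adapter

end Cfsg.Agent.Lib.H1.Sims
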