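/-
S2545 (Steinberg character of `PSp_2n(q)`; architect helper8): piece D (helper1, twin), `B = (B ∩ s⁻¹ B s) X_s` for the long
simple reflection `s = sLong = w1`.
-/
import Cfsg.Agent.Lib.H8.SpBNG
import Cfsg.Agent.Lib.H4.SpBNB

set_option autoImplicit false
set_option linter.unusedSectionVars false

namespace Cfsg.Agent.Lib.H1.SpBN

open Matrix Cfsg.Agent.Lib.H12.LS2 Cfsg.Agent.Lib.H5.LS2 Cfsg.Agent.Lib.H11.SpU Cfsg.Agent.Lib.H8.SpBN

variable {F : Type*} [Field F] {m : ℕ}

/-- the permutation of the long reflection: `e_m ↔ f_m` -/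
def sigL (m : ℕ) : Equiv.Perm (Fin (m + 1) ⊕ Fin (m + 1)) :=
  Equiv.swap (Sum.inl (Fin.last m)) (Sum.inr (Fin.last m))

theorem sigL_sigL (k : Fin (m + 1) ⊕ Fin (m + 1)) : sigL m (sigL m k) = k :=
  Equiv.swap_apply_self _ _ _

theorem sigL_inl_last : sigL m (Sum.inl (Fin.last m)) = Sum.inr (Fin.last m) := Equiv.swap_apply_left _ _

theorem sigL_inr_last : sigL m (Sum.inr (Fin.last m)) = Sum.inl (Fin.last m) := Equiv.swap_apply_right _ _

theorem sigL_inl_of_ne {a : Fin (m + 1)} (h : a ≠ Fin.last m) : sigL m (Sum.inl a) = Sum.inl a := by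
  apply Equiv.swap_apply_of_ne_of_ne
  · intro h'; exact h (Sum.inl.inj h')
  · simp

theorem sigL_inr_of_ne {a : Fin (m + 1)} (h : a ≠ Fin.last m) : sigL m (Sum.inr a) = Sum.inr a := by
  apply Equiv.swap_apply_of_ne_of_ne
  · simp
  · intro h'; exact h (Sum.inr.inj h')

theorem sigL_swap (k : Fin (m + 1) ⊕ Fin (m + 1)) : sigL m k.swap = (sigL m k).swap := by
  rcases k with a | a
  · by_cases ha : a = Fin.last m
    · subst ha
      rw [Sum.swap_inl, sigL_inr_last, sigL_inl_last, Sum.swap_inr]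
    · rw [Sum.swap_inl, sigL_inr_of_ne ha, sigL_inl_of_ne ha, Sum.swap_inl]
  · by_cases ha : a = Fin.last m
    · subst ha
      rw [Sum.swap_inr, sigL_inl_last, sigL_inr_last, Sum.swap_inl]
    · rw [Sum.swap_inr, sigL_inl_of_ne ha, sigL_inr_of_ne ha, Sum.swap_inr]

/-- the rank of `sigL k`: the ranks `m` and `m + 1` are exchanged -/
theorem rk_sigL (k : Fin (m + 1) ⊕ Fin (m + 1)) :
    (rk m k = m ∧ rk m (sigL m k) = m + 1) ∨ (rk m k = m + 1 ∧ rk m (sigL m k) = m) ∨
      (rk m k ≠ m ∧ rk m k ≠ m + 1 ∧ rk m (sigL m k) = rk m k) := by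
  rcases k with a | a
  · by_cases ha : a = Fin.last m
    · subst ha
      left
      rw [sigL_inl_last, rk_inl, rk_inr, Fin.val_last]
      exact ⟨rfl, by omega⟩
    · right; right
      rw [sigL_inl_of_ne ha, rk_inl]
      have h1 : (a : ℕ) ≠ m := fun h => ha (Fin.ext (by rw [h, Fin.val_last]))
      have h2 := a.2
      exact ⟨h1, by omega, rfl⟩
  · by_cases ha : a = Fin.last m
    · subst ha
      right; left
      rw [sigL_inr_last, rk_inl, rk_inr, Fin.val_last]
      exact ⟨by omega, rfl⟩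
    · right; right
      rw [sigL_inr_of_ne ha, rk_inr]
      have h1 : (a : ℕ) ≠ m := fun h => ha (Fin.ext (by rw [h, Fin.val_last]))
      have h2 := a.2
      exact ⟨by omega, by omega, rfl⟩

/-- `sLong` is monomial with permutation `sigL` (explicit form of helper8's `sLong_isMono`) -/
theorem sLong_apply_eq_zero (k l : Fin (m + 1) ⊕ Fin (m + 1)) (hkl : k ≠ sigL m l) :
    (sLong m F : Sp (m + 1) F).1 k l = 0 := by
  unfold sLong
  rw [w1_val]
  rcases k with a | a <;> rcases l with b | b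
  · rw [Matrix.fromBlocks_apply₁₁, Matrix.sub_apply, Matrix.one_apply, Matrix.single_apply]
    by_cases hb : b = Fin.last m
    · subst hb
      by_cases ha : a = Fin.last m
      · subst ha; simp
      · rw [if_neg ha, if_neg (fun h => ha h.1.symm), sub_zero]
    · rw [sigL_inl_of_ne hb] at hkl
      have hab : a ≠ b := fun h => hkl (by rw [h])
      rw [if_neg hab, if_neg (fun h => hb h.2.symm), sub_zero]
  · rw [Matrix.fromBlocks_apply₁₂, Matrix.single_apply, if_neg]
    rintro ⟨h1, h2⟩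
    apply hkl
    rw [← h1, ← h2, sigL_inr_last]
  · rw [Matrix.fromBlocks_apply₂₁, Matrix.neg_apply, Matrix.single_apply, if_neg, neg_zero]
    rintro ⟨h1, h2⟩
    apply hkl
    rw [← h1, ← h2, sigL_inl_last]
  · rw [Matrix.fromBlocks_apply₂₂, Matrix.sub_apply, Matrix.one_apply, Matrix.single_apply]
    by_cases hb : b = Fin.last m
    · subst hb
      by_cases ha : a = Fin.last m
      · subst ha; simp
      · rw [if_neg ha, if_neg (fun h => ha h.1.symm), sub_zero]
    · rw [sigL_inr_of_ne hb] at hkl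
      have hab : a ≠ b := fun h => hkl (by rw [h])
      rw [if_neg hab, if_neg (fun h => hb h.2.symm), sub_zero]

theorem sLong_inv_apply_eq_zero (k l : Fin (m + 1) ⊕ Fin (m + 1)) (hkl : k ≠ sigL m l) :
    ((sLong m F : Sp (m + 1) F)⁻¹).1 k l = 0 := by
  rw [inv_val_apply, sLong_apply_eq_zero, mul_zero]
  intro h
  apply hkl
  have h1 := congrArg Sum.swap h
  rw [Sum.swap_swap, sigL_swap, Sum.swap_swap] at h1
  rw [h1, sigL_sigL]

/-- **conjugation by the long reflection, entrywise** -/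
theorem sLong_conj_apply (g : Sp (m + 1) F) (k l : Fin (m + 1) ⊕ Fin (m + 1)) :
    (sLong m F * g * (sLong m F)⁻¹ : Sp (m + 1) F).1 k l =
      (sLong m F : Sp (m + 1) F).1 k (sigL m k) * g.1 (sigL m k) (sigL m l) *
        ((sLong m F : Sp (m + 1) F)⁻¹).1 (sigL m l) l := by
  rw [Submonoid.coe_mul, Matrix.mul_apply, Finset.sum_eq_single (sigL m l)]
  · congr 1
    rw [Submonoid.coe_mul, Matrix.mul_apply, Finset.sum_eq_single (sigL m k)]
    · intro a _ ha
      rw [sLong_apply_eq_zero k a (fun h => ha (by rw [h, sigL_sigL])), zero_mul]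
    · intro h; exact absurd (Finset.mem_univ _) h
  · intro a _ ha
    rw [sLong_inv_apply_eq_zero a l ha, mul_zero]
  · intro h; exact absurd (Finset.mem_univ _) h

/-- an upper triangular symplectic matrix with vanishing `(e_m, f_m)` entry stays upper triangular under
conjugation by the long reflection -/
theorem sLong_conj_mem_Bsp {g : Sp (m + 1) F} (hg : g ∈ Bsp m F)
    (h0 : g.1 (Sum.inl (Fin.last m)) (Sum.inr (Fin.last m)) = 0) :
    sLong m F * g * (sLong m F)⁻¹ ∈ Bsp m F := by
  rw [mem_Bsp_iff] at hg ⊢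
  rw [isUp_iff] at hg ⊢
  intro k l hkl
  rw [sLong_conj_apply]
  by_cases h1 : rk m (sigL m l) < rk m (sigL m k)
  · rw [hg _ _ h1, mul_zero, zero_mul]
  · -- then `k = f_m`, `l = e_m`
    have hk : rk m k = m + 1 := by
      rcases rk_sigL k with h2 | h2 | h2 <;> rcases rk_sigL l with h3 | h3 | h3 <;> omega
    have hl : rk m l = m := by
      rcases rk_sigL k with h2 | h2 | h2 <;> rcases rk_sigL l with h3 | h3 | h3 <;> omega
    have hk' : k = Sum.inr (Fin.last m) := by
      apply rk_injective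
      rw [hk, rk_inr, Fin.val_last]
      omega
    have hl' : l = Sum.inl (Fin.last m) := by
      apply rk_injective
      rw [hl, rk_inl, Fin.val_last]
    rw [hk', hl', sigL_inr_last, sigL_inl_last, h0, mul_zero, zero_mul]

theorem root_factor_long (b : Sp (m + 1) F) (hb : b ∈ Bsp m F) :
    ∃ b' ∈ Bsp m F, ∃ c : F, b = b' * xLong m c ∧ sLong m F * b' * (sLong m F)⁻¹ ∈ Bsp m F := by
  obtain ⟨u, X, hu, rfl⟩ := Cfsg.Agent.Lib.H4.SpBN.exists_lEl_tEl_of_mem_Bsp hb
  set c : F := (X : Matrix (Fin (m + 1)) (Fin (m + 1)) F) (Fin.last m) (Fin.last m) with hc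
  set X' : Symm (m + 1) F := X + symE (Fin.last m) (-c) with hX'
  have hX : X = X' + symE (Fin.last m) c := by
    rw [hX', add_assoc, ← symE_add, neg_add_cancel]
    have : symE (Fin.last m) (0 : F) = 0 := by
      apply Subtype.ext
      simp
    rw [this, add_zero]
  have hb' : lEl u * tEl X' ∈ Bsp m F := Cfsg.Agent.Lib.H4.SpBN.lEl_mul_tEl_mem_Bsp u X' hu
  refine ⟨lEl u * tEl X', hb', c, ?_, ?_⟩
  · unfold xLong
    rw [mul_assoc, ← tEl_add, ← hX]
  · apply sLong_conj_mem_Bsp hb'
    rw [Submonoid.coe_mul, lEl_val, tEl_val, Matrix.fromBlocks_multiply, Matrix.fromBlocks_apply₁₂]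
    simp only [Matrix.mul_one, add_zero]
    rw [Matrix.mul_apply, Finset.sum_eq_single (Fin.last m)]
    · have : (X' : Matrix (Fin (m + 1)) (Fin (m + 1)) F) (Fin.last m) (Fin.last m) = 0 := by
        rw [hX']
        show ((X : Matrix (Fin (m + 1)) (Fin (m + 1)) F) + Matrix.single (Fin.last m) (Fin.last m) (-c))
          (Fin.last m) (Fin.last m) = 0
        rw [Matrix.add_apply, Matrix.single_apply_same, ← hc, add_neg_cancel]
      rw [this, mul_zero]
    · intro j _ hj
      have hu0 : (u : Matrix (Fin (m + 1)) (Fin (m + 1)) F).BlockTriangular id := hu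
      have hlt : j < Fin.last m := lt_of_le_of_ne (Fin.le_last j) hj
      have h0 := hu0 (i := Fin.last m) (j := j) hlt
      rw [h0, zero_mul]
    · intro h; exact absurd (Finset.mem_univ _) h

end Cfsg.Agent.Lib.H1.SpBN
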