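/-
S2545 (Steinberg character of `PSp_2n(q)`; architect helper8): piece H (helper1), small facts on the simple
reflections `sRef j` and the simple root elements `xRoot j c`, `yRoot j c`.
-/
import Cfsg.Agent.Lib.H8.SpBNG

set_option autoImplicit false
set_option linter.unusedSectionVars false

namespace Cfsg.Agent.Lib.H1.SpBN

open Matrix Cfsg.Agent.Lib.H12.LS2 Cfsg.Agent.Lib.H5.LS2 Cfsg.Agent.Lib.H11.SpU Cfsg.Agent.Lib.H8.SpBN

variable {F : Type*} [Field F] {m : ℕ}

/-! ### entries of `glE` -/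

theorem glE_apply (i j : Fin (m + 1)) (h : i ≠ j) (c : F) (a b : Fin (m + 1)) :
    ((glE i j h c : GL (Fin (m + 1)) F) : Matrix (Fin (m + 1)) (Fin (m + 1)) F) a b =
      (if a = b then 1 else 0) + (if i = a ∧ j = b then c else 0) := by
  rw [glE_val, Matrix.add_apply, Matrix.one_apply, Matrix.single_apply]

theorem glE_mem_upper (i j : Fin (m + 1)) (h : i < j) (c : F) :
    glE i j h.ne c ∈ Cfsg.upperTriangularGL (m + 1) F := by
  show ((glE i j h.ne c : GL (Fin (m + 1)) F) : Matrix (Fin (m + 1)) (Fin (m + 1)) F).BlockTriangular id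
  intro a b hab
  have hab' : b < a := hab
  rw [glE_apply, if_neg hab'.ne', if_neg, add_zero]
  rintro ⟨h1, h2⟩
  subst h1; subst h2
  exact lt_asymm h hab'

/-! ### `xRoot j c ∈ Bsp`, `yRoot j c ∉ Bsp` -/

theorem xRoot_mem_Bsp (j : Fin (m + 1)) (c : F) : (xRoot j c : Sp (m + 1) F) ∈ Bsp m F := by
  refine Fin.lastCases ?_ (fun j' => ?_) j
  · rw [xRoot_last]
    exact tEl_mem_Bsp _
  · rw [xRoot_castSucc]
    exact lEl_mem_Bsp (glE_mem_upper _ _ Fin.castSucc_lt_succ c)

theorem yRoot_not_mem_Bsp (j : Fin (m + 1)) (c : F) (hc : c ≠ 0) : (yRoot j c : Sp (m + 1) F) ∉ Bsp m F := by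
  refine Fin.lastCases ?_ (fun j' => ?_) j
  · rw [yRoot_last, mem_Bsp_iff]
    intro h
    have h1 := h (i := Sum.inr (Fin.last m)) (j := Sum.inl (Fin.last m)) (by
      show rk m (Sum.inl (Fin.last m)) < rk m (Sum.inr (Fin.last m))
      simp only [rk_inl, rk_inr, Fin.val_last]
      omega)
    unfold yLong at h1
    rw [tmEl_val, Matrix.fromBlocks_apply₂₁, symE_val, Matrix.single_apply_same] at h1
    exact hc h1
  · rw [yRoot_castSucc, mem_Bsp_iff]
    intro h
    have h1 := h (i := Sum.inl j'.succ) (j := Sum.inl j'.castSucc) (by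
      show rk m (Sum.inl j'.castSucc) < rk m (Sum.inl j'.succ)
      simp only [rk_inl, Fin.val_castSucc, Fin.val_succ]
      omega)
    unfold yShort at h1
    rw [lEl_val, Matrix.fromBlocks_apply₁₁, glE_apply, if_neg (Fin.castSucc_lt_succ).ne',
      if_pos ⟨rfl, rfl⟩, zero_add] at h1
    exact hc h1

/-! ### `sRef j * sRef j ∈ Tsp` -/

theorem lEl_mul (g h : GL (Fin (m + 1)) F) : (lEl g : Sp (m + 1) F) * lEl h = lEl (g * h) := by
  rw [← lHom_apply, ← lHom_apply, ← lHom_apply, map_mul]

theorem lEl_one : (lEl (1 : GL (Fin (m + 1)) F) : Sp (m + 1) F) = 1 := by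
  rw [← lHom_apply, map_one]

theorem lEl_inv (g : GL (Fin (m + 1)) F) : (lEl g : Sp (m + 1) F)⁻¹ = lEl g⁻¹ := by
  rw [← lHom_apply, ← lHom_apply, map_inv]

theorem sShort_mul_self (j : Fin m) : (sShort j : Sp (m + 1) F) * sShort j = 1 := by
  unfold sShort
  rw [lEl_mul, glSwap_mul_self, lEl_one]

theorem single_last_sq :
    Matrix.single (Fin.last m) (Fin.last m) (1 : F) * Matrix.single (Fin.last m) (Fin.last m) (1 : F) =
      Matrix.single (Fin.last m) (Fin.last m) 1 := by
  rw [Matrix.single_mul_single_same, mul_one]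

theorem sLong_mul_self_val :
    ((sLong m F * sLong m F : Sp (m + 1) F) : Matrix (Fin (m + 1) ⊕ Fin (m + 1)) (Fin (m + 1) ⊕ Fin (m + 1)) F) =
      fromBlocks (1 - Matrix.single (Fin.last m) (Fin.last m) (1 : F) - Matrix.single (Fin.last m) (Fin.last m) (1 : F)) 0 0
        (1 - Matrix.single (Fin.last m) (Fin.last m) (1 : F) - Matrix.single (Fin.last m) (Fin.last m) (1 : F)) := by
  unfold sLong
  rw [Submonoid.coe_mul, w1_val, Matrix.fromBlocks_multiply]
  simp only [Matrix.sub_mul, Matrix.mul_sub, Matrix.one_mul, Matrix.mul_one, Matrix.neg_mul,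
    Matrix.mul_neg, single_last_sq]
  congr 1 <;> abel

theorem sRef_sq_mem (j : Fin (m + 1)) : (sRef j : Sp (m + 1) F) * sRef j ∈ Tsp m F := by
  refine Fin.lastCases ?_ (fun j' => ?_) j
  · rw [sRef_last, mem_Tsp_iff, sLong_mul_self_val, isDg_fromBlocks_iff]
    refine ⟨fun a b hab => ?_, rfl, rfl, fun a b hab => ?_⟩
    · rw [Matrix.sub_apply, Matrix.sub_apply, Matrix.one_apply_ne hab, Matrix.single_apply,
        if_neg (fun h => hab (h.1.symm.trans h.2)), sub_zero, sub_zero]
    · rw [Matrix.sub_apply, Matrix.sub_apply, Matrix.one_apply_ne hab, Matrix.single_apply,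
        if_neg (fun h => hab (h.1.symm.trans h.2)), sub_zero, sub_zero]
  · rw [sRef_castSucc, sShort_mul_self]
    exact (Tsp m F).one_mem

/-! ### `sRef` is injective modulo `Bsp` -/

/-- if `s' = s * t` with `t` diagonal, then the support of `s'` is inside the support of `s` -/
theorem entry_eq_zero_of_mul_diag {s s' t : Sp (m + 1) F} (ht : t ∈ Tsp m F) (h : s' = s * t)
    (k l : Fin (m + 1) ⊕ Fin (m + 1)) (hs : s.1 k l = 0) : s'.1 k l = 0 := by
  rw [h, Submonoid.coe_mul, Matrix.mul_apply]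
  apply Finset.sum_eq_zero
  intro x _
  by_cases hx : x = l
  · subst hx
    rw [hs, zero_mul]
  · rw [ht.1 x l hx, mul_zero]

theorem sShort_apply_inl_inl (j : Fin m) (a b : Fin (m + 1)) :
    (sShort j : Sp (m + 1) F).1 (Sum.inl a) (Sum.inl b) =
      if Equiv.swap j.castSucc j.succ a = b then 1 else 0 := by
  unfold sShort
  rw [lEl_val, Matrix.fromBlocks_apply₁₁, glSwap_apply]

theorem sShort_apply_inl_inr (j : Fin m) (a b : Fin (m + 1)) :
    (sShort j : Sp (m + 1) F).1 (Sum.inl a) (Sum.inr b) = 0 := by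
  unfold sShort
  rw [lEl_val, Matrix.fromBlocks_apply₁₂, Matrix.zero_apply]

theorem sLong_apply_inl_inl (a b : Fin (m + 1)) (hab : a ≠ b) :
    (sLong m F : Sp (m + 1) F).1 (Sum.inl a) (Sum.inl b) = 0 := by
  unfold sLong
  rw [w1_val, Matrix.fromBlocks_apply₁₁, Matrix.sub_apply, Matrix.one_apply_ne hab, Matrix.single_apply,
    if_neg (fun h => hab (h.1.symm.trans h.2)), sub_zero]

theorem sLong_apply_inl_inr_last :
    (sLong m F : Sp (m + 1) F).1 (Sum.inl (Fin.last m)) (Sum.inr (Fin.last m)) = 1 := by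
  unfold sLong
  rw [w1_val, Matrix.fromBlocks_apply₁₂, Matrix.single_apply_same]

theorem sRef_inj (i j : Fin (m + 1)) (h : (sRef i : Sp (m + 1) F)⁻¹ * sRef j ∈ Bsp m F) : i = j := by
  have hM : (sRef i : Sp (m + 1) F)⁻¹ * sRef j ∈ Msp m F :=
    (Msp m F).mul_mem ((Msp m F).inv_mem (sRef_mem_Msp i)) (sRef_mem_Msp j)
  have hT : (sRef i : Sp (m + 1) F)⁻¹ * sRef j ∈ Tsp m F := Bsp_inf_Msp_le ⟨h, hM⟩
  have heq : (sRef j : Sp (m + 1) F) = sRef i * ((sRef i)⁻¹ * sRef j) := by
    rw [mul_inv_cancel_left]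
  have key := entry_eq_zero_of_mul_diag hT heq
  revert key
  refine Fin.lastCases ?_ (fun j' => ?_) j
  · -- `j = last`
    refine Fin.lastCases ?_ (fun i' => ?_) i
    · intro _; rfl
    · intro key
      exfalso
      have := key (Sum.inl (Fin.last m)) (Sum.inr (Fin.last m)) (by
        rw [sRef_castSucc, sShort_apply_inl_inr])
      rw [sRef_last, sLong_apply_inl_inr_last] at this
      exact one_ne_zero this
  · -- `j = castSucc j'`
    intro key
    by_contra hij
    have h1 : (sRef j'.castSucc : Sp (m + 1) F).1 (Sum.inl j'.castSucc) (Sum.inl j'.succ) = 1 := by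
      rw [sRef_castSucc, sShort_apply_inl_inl, Equiv.swap_apply_left, if_pos rfl]
    have h2 : (sRef i : Sp (m + 1) F).1 (Sum.inl j'.castSucc) (Sum.inl j'.succ) = 0 := by
      revert hij
      refine Fin.lastCases ?_ (fun i' => ?_) i
      · intro _
        rw [sRef_last]
        exact sLong_apply_inl_inl _ _ (Fin.castSucc_lt_succ).ne
      · intro hij
        have hne : i' ≠ j' := fun h' => hij (by rw [h'])
        rw [sRef_castSucc, sShort_apply_inl_inl, if_neg]
        intro h3
        by_cases ha : j'.castSucc = i'.castSucc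
        · exact hne (Fin.castSucc_injective _ ha).symm
        · by_cases hb : j'.castSucc = i'.succ
          · rw [hb, Equiv.swap_apply_right] at h3
            have e1 := congrArg Fin.val hb
            have e2 := congrArg Fin.val h3
            simp only [Fin.val_castSucc, Fin.val_succ] at e1 e2
            omega
          · rw [Equiv.swap_apply_of_ne_of_ne ha hb] at h3
            exact (Fin.castSucc_lt_succ).ne h3
    have := key _ _ h2
    rw [h1] at this
    exact one_ne_zero this

/-! ### `sRef j * xRoot j 1 * (sRef j)⁻¹ = yRoot j d` -/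

theorem glSwap_conj_glE (a b : Fin (m + 1)) (hab : a ≠ b) (c : F) :
    (glSwap a b : GL (Fin (m + 1)) F) * glE a b hab c * (glSwap a b)⁻¹ = glE b a hab.symm c := by
  rw [mul_inv_eq_iff_eq_mul]
  apply Units.ext
  rw [Units.val_mul, Units.val_mul, glSwap_val, glE_val, glE_val, PEquiv.toMatrix_toPEquiv_mul,
    PEquiv.mul_toMatrix_toPEquiv]
  ext x y
  simp only [Matrix.submatrix_apply, id, Matrix.add_apply, Matrix.one_apply, Matrix.single_apply,
    Equiv.symm_swap]
  have e1 : (Equiv.swap a b x = y) ↔ (x = Equiv.swap a b y) := by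
    constructor
    · intro h; rw [← h, Equiv.swap_apply_self]
    · intro h; rw [h, Equiv.swap_apply_self]
  have e2 : (a = Equiv.swap a b x ∧ b = y) ↔ (b = x ∧ a = Equiv.swap a b y) := by
    constructor
    · rintro ⟨h1, h2⟩
      refine ⟨?_, ?_⟩
      · have := congrArg (Equiv.swap a b) h1
        rw [Equiv.swap_apply_left, Equiv.swap_apply_self] at this
        exact this
      · rw [← h2, Equiv.swap_apply_right]
    · rintro ⟨h1, h2⟩
      refine ⟨?_, ?_⟩
      · rw [← h1, Equiv.swap_apply_right]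
      · have := congrArg (Equiv.swap a b) h2
        rw [Equiv.swap_apply_left, Equiv.swap_apply_self] at this
        exact this
  rw [if_congr e1 rfl rfl, if_congr e2 rfl rfl]

theorem sShort_conj_xShort (j : Fin m) (c : F) :
    (sShort j : Sp (m + 1) F) * xShort j c * (sShort j)⁻¹ = yShort j c := by
  unfold sShort xShort yShort
  rw [lEl_inv, lEl_mul, lEl_mul, glSwap_conj_glE]

theorem sLong_conj_xLong (c : F) :
    (sLong m F : Sp (m + 1) F) * xLong m c * (sLong m F)⁻¹ = yLong m (-c) := by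
  rw [mul_inv_eq_iff_eq_mul]
  apply Subtype.ext
  unfold sLong xLong yLong
  rw [Submonoid.coe_mul, Submonoid.coe_mul, w1_val, tEl_val, tmEl_val, symE_val, symE_val,
    Matrix.fromBlocks_multiply, Matrix.fromBlocks_multiply]
  have hE : ∀ x y : F, Matrix.single (Fin.last m) (Fin.last m) x * Matrix.single (Fin.last m) (Fin.last m) y =
      Matrix.single (Fin.last m) (Fin.last m) (x * y) := fun x y => Matrix.single_mul_single_same _ _ _ _ _
  simp only [Matrix.sub_mul, Matrix.mul_sub, Matrix.neg_mul,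
    Matrix.mul_neg, Matrix.zero_mul, Matrix.mul_zero, hE, add_zero, one_mul, mul_one]
  congr 1
  · simp
  · simp
  · rw [sub_self, zero_add]
  · rw [Matrix.single_neg]

theorem sRef_conj_xRoot (j : Fin (m + 1)) :
    ∃ d : F, d ≠ 0 ∧ (sRef j : Sp (m + 1) F) * xRoot j 1 * (sRef j)⁻¹ = yRoot j d := by
  refine Fin.lastCases ?_ (fun j' => ?_) j
  · refine ⟨-1, neg_ne_zero.2 one_ne_zero, ?_⟩
    rw [sRef_last, xRoot_last, yRoot_last, sLong_conj_xLong]
  · refine ⟨1, one_ne_zero, ?_⟩
    rw [sRef_castSucc, xRoot_castSucc, yRoot_castSucc, sShort_conj_xShort]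

end Cfsg.Agent.Lib.H1.SpBN
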