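/-
S2142-A1 (helper1, for helper7's S2142): a rank lower bound for matrices `x + y C + z J` in the
Bose-Mesner algebra of a strongly-regular-like matrix `C` (`C² = s² + t' J`, `C J = J C = κ J`).
-/
import Mathlib

set_option autoImplicit false

namespace Cfsg.Agent.Lib.H1.SpMin

open Matrix

/-- the rank of an idempotent rational matrix is its trace -/
theorem rank_eq_trace_of_idem {X : Type*} [Fintype X] [DecidableEq X] (P : Matrix X X ℚ)
    (hP : P * P = P) : (P.rank : ℚ) = P.trace := by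
  have hidem : IsIdempotentElem (Matrix.toLin' P) := by
    unfold IsIdempotentElem
    rw [Module.End.mul_eq_comp, ← Matrix.toLin'_mul, hP]
  have h := (LinearMap.IsIdempotentElem.isProj_range _ hidem).trace
  rw [Matrix.trace_toLin'_eq] at h
  rw [h]
  rfl

theorem allOnes_mul_allOnes {X : Type*} [Fintype X] :
    (Matrix.of (fun _ _ => (1 : ℚ)) : Matrix X X ℚ) * Matrix.of (fun _ _ => (1 : ℚ)) =
      (Fintype.card X : ℚ) • Matrix.of (fun _ _ => (1 : ℚ)) := by
  ext i j
  simp [Matrix.mul_apply]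

theorem trace_allOnes {X : Type*} [Fintype X] :
    (Matrix.of (fun _ _ => (1 : ℚ)) : Matrix X X ℚ).trace = (Fintype.card X : ℚ) := by
  simp [Matrix.trace]

theorem rank_ge_of_span {X : Type*} [Fintype X] [DecidableEq X] (C : Matrix X X ℚ)
    (s κ t' N : ℚ) (hs : 0 < s) (hN : (Fintype.card X : ℚ) = N) (hN0 : 0 < N)
    (hCJ : C * Matrix.of (fun _ _ => (1 : ℚ)) = κ • Matrix.of (fun _ _ => (1 : ℚ)))
    (hJC : Matrix.of (fun _ _ => (1 : ℚ)) * C = κ • Matrix.of (fun _ _ => (1 : ℚ)))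
    (hC2 : C * C = (s ^ 2) • (1 : Matrix X X ℚ) + t' • Matrix.of (fun _ _ => (1 : ℚ)))
    (htr : C.trace = N) (hκN : κ ≤ N)
    (x y z : ℚ) (hxy : x ≠ 0 ∨ y ≠ 0) (hrow : x + y * κ + z * N ≠ 0)
    (g : ℕ) (hg : 2 * s * (g : ℚ) = s * (N - 1) - (N - κ)) :
    g + 1 ≤ (x • (1 : Matrix X X ℚ) + y • C + z • Matrix.of (fun _ _ => (1 : ℚ))).rank := by
  set J : Matrix X X ℚ := Matrix.of (fun _ _ => (1 : ℚ)) with hJdef
  have hJJ : J * J = N • J := by
    rw [← hN]; exact allOnes_mul_allOnes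
  have htrJ : J.trace = N := by
    rw [← hN]; exact trace_allOnes
  have hNne : N ≠ 0 := ne_of_gt hN0
  have hsne : s ≠ 0 := ne_of_gt hs
  have h2s : (2 * s) ≠ 0 := by positivity
  -- the idempotents
  set E0 : Matrix X X ℚ := N⁻¹ • J with hE0
  have hJE0 : J * E0 = J := by
    rw [hE0, Matrix.mul_smul, hJJ, smul_smul, inv_mul_cancel₀ hNne, one_smul]
  have hE0J : E0 * J = J := by
    rw [hE0, Matrix.smul_mul, hJJ, smul_smul, inv_mul_cancel₀ hNne, one_smul]
  have hE0E0 : E0 * E0 = E0 := by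
    conv_lhs => rw [hE0]
    rw [Matrix.smul_mul, hJE0]
  set P1 : Matrix X X ℚ := 1 - E0 with hP1
  have hJP1 : J * P1 = 0 := by
    rw [hP1, Matrix.mul_sub, Matrix.mul_one, hJE0, sub_self]
  have hE0P1 : E0 * P1 = 0 := by
    rw [hP1, Matrix.mul_sub, Matrix.mul_one, hE0E0, sub_self]
  have hP1E0 : P1 * E0 = 0 := by
    rw [hP1, Matrix.sub_mul, Matrix.one_mul, hE0E0, sub_self]
  have hP1P1 : P1 * P1 = P1 := by
    conv_lhs => rw [hP1]
    rw [Matrix.sub_mul, Matrix.one_mul, hE0P1, sub_zero]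
  have hCE0 : C * E0 = κ • E0 := by
    rw [hE0, Matrix.mul_smul, hCJ, smul_comm]
  have hE0C : E0 * C = κ • E0 := by
    rw [hE0, Matrix.smul_mul, hJC, smul_comm]
  have hCP1 : C * P1 = P1 * C := by
    rw [hP1, Matrix.mul_sub, Matrix.sub_mul, Matrix.mul_one, Matrix.one_mul, hCE0, hE0C]
  set D : Matrix X X ℚ := C * P1 with hD
  have hP1C : P1 * C = D := hCP1.symm
  have hCD : C * D = (s ^ 2) • P1 := by
    rw [hD, ← Matrix.mul_assoc, hC2, Matrix.add_mul, Matrix.smul_mul, Matrix.smul_mul,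
      Matrix.one_mul, hJP1, smul_zero, add_zero]
  have hJD : J * D = 0 := by
    rw [hD, ← Matrix.mul_assoc, hJC, Matrix.smul_mul, hJP1, smul_zero]
  have hE0D : E0 * D = 0 := by
    rw [hE0, Matrix.smul_mul, hJD, smul_zero]
  have hDE0 : D * E0 = 0 := by
    rw [hD, Matrix.mul_assoc, hP1E0, Matrix.mul_zero]
  have hP1D : P1 * D = D := by
    rw [← hP1C, ← Matrix.mul_assoc, hP1P1]
  have hDP1 : D * P1 = D := by
    rw [hD, Matrix.mul_assoc, hP1P1]
  have hDD : D * D = (s ^ 2) • P1 := by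
    conv_lhs => rw [hD]
    rw [Matrix.mul_assoc, hP1D, hCD]
  have htrE0 : E0.trace = 1 := by
    rw [hE0, Matrix.trace_smul, htrJ, smul_eq_mul, inv_mul_cancel₀ hNne]
  have htrP1 : P1.trace = N - 1 := by
    rw [hP1, Matrix.trace_sub, Matrix.trace_one, htrE0, hN]
  have htrD : D.trace = N - κ := by
    rw [hD, hP1, Matrix.mul_sub, Matrix.mul_one, Matrix.trace_sub, htr, hCE0, Matrix.trace_smul,
      htrE0, smul_eq_mul, mul_one]
  -- sign ε
  have key : ∀ ε : ℚ, ε * ε = 1 → x + ε * y * s ≠ 0 →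
      (g : ℚ) ≤ (2 * s)⁻¹ * (s * (N - 1) + ε * (N - κ)) →
      g + 1 ≤ (x • (1 : Matrix X X ℚ) + y • C + z • J).rank := by
    intro ε hε ha hge
    set a : ℚ := x + ε * y * s with hadef
    set θ : ℚ := x + y * κ + z * N with hθ
    set E' : Matrix X X ℚ := s • P1 + ε • D with hE'
    have hCE' : C * E' = (ε * s) • E' := by
      rw [hE', Matrix.mul_add, Matrix.mul_smul, Matrix.mul_smul, hCD]
      rcases mul_self_eq_one_iff.1 hε with rfl | rfl <;> module
    have hJE' : J * E' = 0 := by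
      rw [hE', Matrix.mul_add, Matrix.mul_smul, Matrix.mul_smul, hJP1, hJD, smul_zero, smul_zero,
        add_zero]
    have hE0E' : E0 * E' = 0 := by
      rw [hE', Matrix.mul_add, Matrix.mul_smul, Matrix.mul_smul, hE0P1, hE0D, smul_zero, smul_zero,
        add_zero]
    have hE'E0 : E' * E0 = 0 := by
      rw [hE', Matrix.add_mul, Matrix.smul_mul, Matrix.smul_mul, hP1E0, hDE0, smul_zero, smul_zero,
        add_zero]
    have hE'E' : E' * E' = (2 * s) • E' := by
      rw [hE', Matrix.add_mul, Matrix.mul_add, Matrix.mul_add]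
      simp only [Matrix.smul_mul, Matrix.mul_smul, hP1P1, hP1D, hDP1, hDD]
      rcases mul_self_eq_one_iff.1 hε with rfl | rfl <;> module
    set E : Matrix X X ℚ := (2 * s)⁻¹ • E' with hE
    have hEE : E * E = E := by
      rw [hE, Matrix.smul_mul, Matrix.mul_smul, hE'E', smul_smul, smul_smul]
      congr 1
      field_simp
    have hE0E : E0 * E = 0 := by rw [hE, Matrix.mul_smul, hE0E', smul_zero]
    have hEE0 : E * E0 = 0 := by rw [hE, Matrix.smul_mul, hE'E0, smul_zero]
    set T : Matrix X X ℚ := x • (1 : Matrix X X ℚ) + y • C + z • J with hT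
    have hzJ : z • J = (z * N) • E0 := by
      rw [hE0, smul_smul, mul_assoc, mul_inv_cancel₀ hNne, mul_one]
    have hTE0 : T * E0 = θ • E0 := by
      rw [hT, Matrix.add_mul, Matrix.add_mul, Matrix.smul_mul, Matrix.smul_mul, Matrix.smul_mul,
        Matrix.one_mul, hCE0, hJE0, hzJ, smul_smul y κ E0, ← add_smul, ← add_smul]
    have hTE : T * E = a • E := by
      rw [hE, Matrix.mul_smul, hT, Matrix.add_mul, Matrix.add_mul, Matrix.smul_mul,
        Matrix.smul_mul, Matrix.smul_mul, Matrix.one_mul, hCE', hJE', smul_zero, add_zero,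
        smul_smul, ← add_smul, smul_smul, smul_smul]
      congr 1
      rw [hadef]; ring
    set Pp : Matrix X X ℚ := E0 + E with hPp
    have hPpPp : Pp * Pp = Pp := by
      rw [hPp, Matrix.add_mul, Matrix.mul_add, Matrix.mul_add, hE0E0, hEE, hE0E, hEE0, add_zero,
        zero_add]
    have hTS : T * (θ⁻¹ • E0 + a⁻¹ • E) = Pp := by
      rw [Matrix.mul_add, Matrix.mul_smul T θ⁻¹ E0, Matrix.mul_smul T a⁻¹ E, hTE0, hTE,
        smul_smul θ⁻¹ θ E0, smul_smul a⁻¹ a E,
        inv_mul_cancel₀ hrow, inv_mul_cancel₀ ha, one_smul, one_smul]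
    have hrk : Pp.rank ≤ T.rank := by
      rw [← hTS]; exact Matrix.rank_mul_le_left _ _
    have htrE : E.trace = (2 * s)⁻¹ * (s * (N - 1) + ε * (N - κ)) := by
      rw [hE, Matrix.trace_smul, hE', Matrix.trace_add, Matrix.trace_smul, Matrix.trace_smul,
        htrP1, htrD]
      simp [smul_eq_mul]
    have hrkPp : (Pp.rank : ℚ) = 1 + E.trace := by
      rw [rank_eq_trace_of_idem Pp hPpPp, hPp, Matrix.trace_add, htrE0]
    have : ((g + 1 : ℕ) : ℚ) ≤ (Pp.rank : ℚ) := by
      rw [hrkPp, htrE]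
      push_cast
      linarith
    have h2 : g + 1 ≤ Pp.rank := by exact_mod_cast this
    exact le_trans h2 hrk
  have hg' : (g : ℚ) = (2 * s)⁻¹ * (s * (N - 1) - (N - κ)) := by
    field_simp
    linarith
  by_cases hminus : x - y * s = 0
  · -- use ε = 1
    have hplus : x + y * s ≠ 0 := by
      intro h
      have hx : x = 0 := by linarith
      have hy : y * s = 0 := by linarith
      have hy0 : y = 0 := by
        rcases mul_eq_zero.1 hy with h | h
        · exact h
        · exact absurd h hsne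
      rcases hxy with h | h
      · exact h hx
      · exact h hy0
    apply key 1 (by norm_num) (by simpa using hplus)
    rw [hg']
    apply mul_le_mul_of_nonneg_left _ (by positivity)
    linarith
  · apply key (-1) (by norm_num) (by
      intro h; apply hminus; linarith)
    rw [hg']
    apply le_of_eq
    ring

end Cfsg.Agent.Lib.H1.SpMin
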