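/-
S2142-A2 (helper1, for helper7's S2142): the rank-3 Fisher inequality.  Template: helper21's `fisher_core`.
-/
import Mathlib
import Cfsg.Agent.Lib.H1.SpMinA1

set_option autoImplicit false

namespace Cfsg.Agent.Lib.H1.SpMin

open Matrix MulAction

theorem fisher_rank3 {G X : Type*} [Group G] [Finite G] [MulAction G X] [Fintype X] [DecidableEq X]
    (R : X → X → Prop) [DecidableRel R]
    (hRrefl : ∀ x, R x x) (hRsymm : ∀ x y, R x y → R y x)
    (hRinv : ∀ (g : G) x y, R x y → R (g • x) (g • y))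
    (htrans : ∀ x y : X, ∃ g : G, g • x = y)
    (htrans1 : ∀ x y x' y' : X, x ≠ y → x' ≠ y' → R x y → R x' y' → ∃ g : G, g • x = x' ∧ g • y = y')
    (htrans2 : ∀ x y x' y' : X, ¬ R x y → ¬ R x' y' → ∃ g : G, g • x = x' ∧ g • y = y')
    (s κ t' N : ℕ) (hs : 0 < s) (hN : Fintype.card X = N)
    (hrow : ∀ x, (Finset.univ.filter fun z => R x z).card = κ)
    (hcommon : ∀ x y, x ≠ y → (Finset.univ.filter fun z => R x z ∧ R z y).card = t')
    (hst : κ = s ^ 2 + t') (hκN : κ ≤ N)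
    (g : ℕ) (hg : 2 * s * g + (N - κ) = s * (N - 1))
    (H : Subgroup G) (Y : Set X) (hY : ∀ h ∈ H, ∀ y ∈ Y, h • y ∈ Y) (y₀ y₁ : X) (hy₀ : y₀ ∈ Y) (hy₁ : y₁ ∉ Y) :
    g + 1 ≤ H.index := by
  let _ : Fintype (G ⧸ H) := Fintype.ofFinite _
  -- incidence
  let I : G → X → Prop := fun g x => g⁻¹ • x ∈ Y
  have hIH : ∀ (g h : G), h ∈ H → ∀ x, I (g * h) x ↔ I g x := by
    intro g h hh x
    show (g * h)⁻¹ • x ∈ Y ↔ g⁻¹ • x ∈ Y
    rw [_root_.mul_inv_rev, mul_smul]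
    constructor
    · intro hx
      have := hY h hh _ hx
      rwa [smul_inv_smul] at this
    · intro hx
      exact hY h⁻¹ (H.inv_mem hh) _ hx
  have hIG : ∀ (g' g : G) x, I (g' * g) (g' • x) ↔ I g x := by
    intro g' g x
    show (g' * g)⁻¹ • g' • x ∈ Y ↔ g⁻¹ • x ∈ Y
    rw [_root_.mul_inv_rev, mul_smul, inv_smul_smul]
  classical
  let A : X → G ⧸ H → ℚ := fun x ω => if I ω.out x then 1 else 0
  have hAmk : ∀ (g : G) x, A x (QuotientGroup.mk g) = if I g x then 1 else 0 := by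
    intro g x
    obtain ⟨h, hh⟩ := QuotientGroup.mk_out_eq_mul H g
    show (if I (QuotientGroup.mk g : G ⧸ H).out x then (1 : ℚ) else 0) = _
    rw [hh]
    exact if_congr (hIH g h h.2 x) rfl rfl
  have hAinv : ∀ (g : G) x ω, A (g • x) (g • ω) = A x ω := by
    intro g x ω
    obtain ⟨g₀, rfl⟩ := QuotientGroup.mk_surjective ω
    rw [MulAction.Quotient.smul_mk, hAmk, hAmk]
    exact if_congr (hIG g g₀ x) rfl rfl
  have hA01 : ∀ x ω, A x ω = 0 ∨ A x ω = 1 := by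
    intro x ω
    show (if I ω.out x then (1 : ℚ) else 0) = 0 ∨ (if I ω.out x then (1 : ℚ) else 0) = 1
    split_ifs <;> simp
  have hA0 : ∀ x ω, 0 ≤ A x ω := by
    intro x ω
    rcases hA01 x ω with h | h <;> rw [h] <;> norm_num
  let M : X → X → ℚ := fun x y => ∑ ω, A x ω * A y ω
  have hMinv : ∀ (g : G) x y, M (g • x) (g • y) = M x y := by
    intro g x y
    show ∑ ω, A (g • x) ω * A (g • y) ω = ∑ ω, A x ω * A y ω
    rw [← Equiv.sum_comp (MulAction.toPerm g : Equiv.Perm (G ⧸ H))]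
    refine Finset.sum_congr rfl fun ω _ => ?_
    rw [MulAction.toPerm_apply, hAinv, hAinv]
  have hM0 : ∀ x y, 0 ≤ M x y := fun x y =>
    Finset.sum_nonneg fun ω _ => mul_nonneg (hA0 _ _) (hA0 _ _)
  have hy01 : y₀ ≠ y₁ := fun h => hy₁ (h ▸ hy₀)
  have hgap : M y₀ y₁ < M y₀ y₀ := by
    have h1 : (1 : ℚ) ≤ M y₀ y₀ - M y₀ y₁ := by
      show 1 ≤ ∑ ω, A y₀ ω * A y₀ ω - ∑ ω, A y₀ ω * A y₁ ω
      rw [← Finset.sum_sub_distrib]
      have hterm : ∀ ω, 0 ≤ A y₀ ω * A y₀ ω - A y₀ ω * A y₁ ω := by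
        intro ω
        rcases hA01 y₀ ω with h | h <;> rcases hA01 y₁ ω with h' | h' <;> rw [h, h'] <;> norm_num
      have hIx : I 1 y₀ := by
        show (1 : G)⁻¹ • y₀ ∈ Y
        rw [inv_one, one_smul]; exact hy₀
      have hIy : ¬ I 1 y₁ := by
        show ¬ (1 : G)⁻¹ • y₁ ∈ Y
        rw [inv_one, one_smul]; exact hy₁
      calc (1 : ℚ) = A y₀ (QuotientGroup.mk (1 : G)) * A y₀ (QuotientGroup.mk (1 : G)) -
            A y₀ (QuotientGroup.mk (1 : G)) * A y₁ (QuotientGroup.mk (1 : G)) := by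
              rw [hAmk, hAmk, if_pos hIx, if_neg hIy]; norm_num
        _ ≤ ∑ ω, (A y₀ ω * A y₀ ω - A y₀ ω * A y₁ ω) :=
            Finset.single_le_sum (f := fun ω => A y₀ ω * A y₀ ω - A y₀ ω * A y₁ ω)
              (fun ω _ => hterm ω) (Finset.mem_univ _)
    linarith
  set r : ℚ := M y₀ y₀ with hr
  have hr0 : 0 < r := lt_of_le_of_lt (hM0 y₀ y₁) hgap
  have hdiag : ∀ x, M x x = r := by
    intro x
    obtain ⟨g, hg⟩ := htrans y₀ x
    rw [← hg, hMinv]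
  obtain ⟨l1, hl1, hl1'⟩ : ∃ l1 : ℚ, 0 ≤ l1 ∧ ∀ x y, x ≠ y → R x y → M x y = l1 := by
    by_cases h : ∃ x y : X, x ≠ y ∧ R x y
    · obtain ⟨x0, y0, hne, hR⟩ := h
      refine ⟨M x0 y0, hM0 _ _, fun x y hxy hRxy => ?_⟩
      obtain ⟨g, hg1, hg2⟩ := htrans1 x0 y0 x y hne hxy hR hRxy
      rw [← hg1, ← hg2, hMinv]
    · exact ⟨0, le_refl _, fun x y hxy hRxy => absurd ⟨x, y, hxy, hRxy⟩ h⟩
  obtain ⟨l2, hl2, hl2'⟩ : ∃ l2 : ℚ, 0 ≤ l2 ∧ ∀ x y, ¬ R x y → M x y = l2 := by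
    by_cases h : ∃ x y : X, ¬ R x y
    · obtain ⟨x0, y0, hR⟩ := h
      refine ⟨M x0 y0, hM0 _ _, fun x y hRxy => ?_⟩
      obtain ⟨g, hg1, hg2⟩ := htrans2 x0 y0 x y hR hRxy
      rw [← hg1, ← hg2, hMinv]
    · exact ⟨0, le_refl _, fun x y hRxy => absurd ⟨x, y, hRxy⟩ h⟩
  -- matrices
  let Am : Matrix X (G ⧸ H) ℚ := Matrix.of A
  let C : Matrix X X ℚ := Matrix.of fun x y => if R x y then (1 : ℚ) else 0
  have hMmat : Am * Amᵀ = (r - l1) • (1 : Matrix X X ℚ) + (l1 - l2) • C +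
      l2 • Matrix.of (fun _ _ => (1 : ℚ)) := by
    ext x y
    have hL : (Am * Amᵀ) x y = M x y := by
      simp only [Matrix.mul_apply, Matrix.transpose_apply]
      rfl
    rw [hL]
    simp only [Matrix.add_apply, Matrix.smul_apply, Matrix.of_apply, smul_eq_mul, Matrix.one_apply, C]
    by_cases hxy : x = y
    · subst hxy
      rw [if_pos rfl, if_pos (hRrefl x), hdiag]; ring
    · rw [if_neg hxy]
      by_cases hR : R x y
      · rw [if_pos hR, hl1' x y hxy hR]; ring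
      · rw [if_neg hR, hl2' x y hR]; ring
  have hCJ : C * Matrix.of (fun _ _ => (1 : ℚ)) = (κ : ℚ) • Matrix.of (fun _ _ => (1 : ℚ)) := by
    ext x y
    simp only [Matrix.mul_apply, Matrix.of_apply, mul_one, Matrix.smul_apply, smul_eq_mul, C]
    rw [Finset.sum_boole, hrow x]
  have hJC : Matrix.of (fun _ _ => (1 : ℚ)) * C = (κ : ℚ) • Matrix.of (fun _ _ => (1 : ℚ)) := by
    ext x y
    simp only [Matrix.mul_apply, Matrix.of_apply, mul_one, one_mul, Matrix.smul_apply, smul_eq_mul, C]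
    rw [Finset.sum_boole, ← hrow y]
    congr 2
    apply Finset.filter_congr
    intro z _
    exact ⟨hRsymm _ _, hRsymm _ _⟩
  have hC2 : C * C = ((s : ℚ) ^ 2) • (1 : Matrix X X ℚ) + (t' : ℚ) • Matrix.of (fun _ _ => (1 : ℚ)) := by
    ext x y
    simp only [Matrix.mul_apply, Matrix.of_apply, Matrix.add_apply, Matrix.smul_apply, smul_eq_mul,
      Matrix.one_apply, mul_one, C]
    have hz : ∀ z, (if R x z then (1 : ℚ) else 0) * (if R z y then 1 else 0) =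
        if (R x z ∧ R z y) then 1 else 0 := by
      intro z
      by_cases h1 : R x z <;> by_cases h2 : R z y <;> simp [h1, h2]
    rw [Finset.sum_congr rfl (fun z _ => hz z), Finset.sum_boole]
    by_cases hxy : x = y
    · subst hxy
      rw [if_pos rfl]
      have : (Finset.univ.filter fun z => R x z ∧ R z x) = Finset.univ.filter fun z => R x z := by
        apply Finset.filter_congr
        intro z _
        exact ⟨fun h => h.1, fun h => ⟨h, hRsymm _ _ h⟩⟩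
      rw [this, hrow x, hst]
      push_cast
      ring
    · rw [if_neg hxy, hcommon x y hxy]
      ring
  have htr : C.trace = (N : ℚ) := by
    simp only [Matrix.trace, Matrix.diag_apply, Matrix.of_apply, C]
    rw [Finset.sum_congr rfl (fun x _ => if_pos (hRrefl x))]
    simp [hN]
  have hN1 : 1 ≤ N := by
    rw [← hN]; exact Fintype.card_pos_iff.2 ⟨y₀⟩
  have hκ1 : 1 ≤ κ := by
    rw [← hrow y₀]
    exact Finset.card_pos.2 ⟨y₀, by simp [hRrefl]⟩
  have hκ1' : (1 : ℚ) ≤ κ := by exact_mod_cast hκ1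
  have hκN' : (κ : ℚ) ≤ N := by exact_mod_cast hκN
  have hxy' : r - l1 ≠ 0 ∨ l1 - l2 ≠ 0 := by
    by_contra hcon
    push Not at hcon
    obtain ⟨h1, h2⟩ := hcon
    by_cases hR : R y₀ y₁
    · have := hl1' y₀ y₁ hy01 hR
      linarith
    · have := hl2' y₀ y₁ hR
      linarith
  have hrow' : (r - l1) + (l1 - l2) * (κ : ℚ) + l2 * (N : ℚ) ≠ 0 := by
    have e : (r - l1) + (l1 - l2) * (κ : ℚ) + l2 * (N : ℚ) =
        r + l1 * ((κ : ℚ) - 1) + l2 * ((N : ℚ) - κ) := by ring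
    have h1 := mul_nonneg hl1 (sub_nonneg.2 hκ1')
    have h2 := mul_nonneg hl2 (sub_nonneg.2 hκN')
    rw [e]
    linarith
  have hg' : 2 * (s : ℚ) * (g : ℚ) = (s : ℚ) * ((N : ℚ) - 1) - ((N : ℚ) - κ) := by
    have : ((2 * s * g + (N - κ) : ℕ) : ℚ) = ((s * (N - 1) : ℕ) : ℚ) := by rw [hg]
    push_cast [Nat.cast_sub hκN, Nat.cast_sub hN1] at this
    linarith
  have hA1 := rank_ge_of_span C (s : ℚ) (κ : ℚ) (t' : ℚ) (N : ℚ) (by exact_mod_cast hs)
    (by rw [hN]) (by exact_mod_cast hN1) hCJ hJC hC2 htr hκN' (r - l1) (l1 - l2) l2 hxy' hrow' g hg'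
  rw [← hMmat] at hA1
  have h1 : (Am * Amᵀ).rank ≤ Am.rank := Matrix.rank_mul_le_left _ _
  have h2 : Am.rank ≤ Fintype.card (G ⧸ H) := Matrix.rank_le_card_width _
  have h3 : H.index = Fintype.card (G ⧸ H) := by
    rw [Subgroup.index_eq_card, Nat.card_eq_fintype_card]
  omega

end Cfsg.Agent.Lib.H1.SpMin
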