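import Cfsg.Agent.Lib.H1.FpfBasic

/-!
# Splitting automorphisms (helper1)

`Split p φ` : `x · φ x · φ² x ⋯ φ^(p-1) x = 1` for all `x`.
Basic inheritance, fixed points, and the conjugated automorphisms `conj g ∘ φ`.
-/

set_option autoImplicit false

namespace Cfsg.Agent.Lib.H1

variable {G : Type*} [Group G]

/-- `φ` is a splitting automorphism (for the exponent `p`). -/
def Split (p : ℕ) (φ : G ≃* G) : Prop :=
  ∀ x : G, ((List.range p).map (fun i : ℕ => (φ ^ i) x)).prod = 1

/-- the partial products `x · φ x ⋯ φ^(i-1) x`. -/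
def splitProd (φ : G ≃* G) (x : G) : ℕ → G
  | 0 => 1
  | i + 1 => splitProd φ x i * (φ ^ i) x

@[simp] theorem splitProd_zero (φ : G ≃* G) (x : G) : splitProd φ x 0 = 1 := rfl

theorem splitProd_succ (φ : G ≃* G) (x : G) (i : ℕ) :
    splitProd φ x (i + 1) = splitProd φ x i * (φ ^ i) x := rfl

theorem splitProd_eq_list (φ : G ≃* G) (x : G) (n : ℕ) :
    splitProd φ x n = ((List.range n).map (fun i : ℕ => (φ ^ i) x)).prod := by
  induction n with
  | zero => simp
  | succ n ih =>
    rw [splitProd_succ, ih, List.range_succ, List.map_append, List.prod_append]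
    simp

theorem split_iff {p : ℕ} {φ : G ≃* G} : Split p φ ↔ ∀ x, splitProd φ x p = 1 := by
  unfold Split
  simp only [splitProd_eq_list]

/-- the other recursion: `M_{i+1}(x) = x · φ(M_i(x))`. -/
theorem splitProd_succ' (φ : G ≃* G) (x : G) (i : ℕ) :
    splitProd φ x (i + 1) = x * φ (splitProd φ x i) := by
  induction i with
  | zero => simp [splitProd_succ]
  | succ i ih =>
    calc splitProd φ x (i + 1 + 1) = splitProd φ x (i + 1) * (φ ^ (i + 1)) x := rfl
      _ = x * φ (splitProd φ x i) * (φ ^ (i + 1)) x := by rw [ih]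
      _ = x * φ (splitProd φ x i * (φ ^ i) x) := by
          rw [map_mul, mul_assoc, pow_succ', MulAut.mul_apply]
      _ = x * φ (splitProd φ x (i + 1)) := rfl

theorem splitProd_of_fixed {φ : G ≃* G} {x : G} (hx : φ x = x) (n : ℕ) :
    splitProd φ x n = x ^ n := by
  have hpow : ∀ i : ℕ, (φ ^ i) x = x := by
    intro i
    induction i with
    | zero => simp
    | succ i ih => rw [pow_succ, MulAut.mul_apply, hx, ih]
  induction n with
  | zero => simp
  | succ n ih => rw [splitProd_succ, ih, hpow, pow_succ]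

theorem Split.pow_eq_one_of_fixed {p : ℕ} {φ : G ≃* G} (h : Split p φ) {x : G} (hx : φ x = x) :
    x ^ p = 1 := by
  rw [← splitProd_of_fixed hx]
  exact split_iff.mp h x

theorem Split.restrict {p : ℕ} {φ : G ≃* G} (h : Split p φ) (M : Subgroup G) (hM : InvSub φ M) :
    Split p (restrictAut φ M hM) := by
  intro x
  apply Subtype.ext
  rw [Subgroup.val_list_prod, List.map_map]
  have : (List.map (Subtype.val ∘ fun i : ℕ => ((restrictAut φ M hM) ^ i) x) (List.range p)) =
      List.map (fun i : ℕ => (φ ^ i) (x : G)) (List.range p) := by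
    apply List.map_congr_left
    intro i _
    exact restrictAut_pow_apply φ M hM i x
  rw [this, h (x : G)]
  rfl

theorem Split.quot {p : ℕ} {φ : G ≃* G} (h : Split p φ) (N : Subgroup G) [N.Normal]
    (hN : InvSub φ N) : Split p (quotAut φ N hN) := by
  intro q
  obtain ⟨x, rfl⟩ := QuotientGroup.mk_surjective q
  have : (List.map (fun i : ℕ => ((quotAut φ N hN) ^ i) (QuotientGroup.mk x)) (List.range p)) =
      List.map (QuotientGroup.mk' N) (List.map (fun i : ℕ => (φ ^ i) x) (List.range p)) := by
    rw [List.map_map]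
    apply List.map_congr_left
    intro i _
    exact quotAut_pow_mk φ N hN i x
  rw [this, ← map_list_prod, h x, map_one]

/-- a splitting automorphism of a group of order prime to `p` is fixed-point-free. -/
theorem Split.fpf_of_coprime [Finite G] {p : ℕ} {φ : G ≃* G} (h : Split p φ)
    (hcop : (Nat.card G).Coprime p) : Fpf φ := by
  intro x hx
  have h1 := h.pow_eq_one_of_fixed hx
  have h2 : x ^ Nat.card G = 1 := pow_card_eq_one'
  have h3 := pow_gcd_eq_one.mpr ⟨h2, h1⟩
  rwa [Nat.Coprime.gcd_eq_one hcop, pow_one] at h3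

/-- the automorphism `x ↦ g (φ x) g⁻¹`. -/
def conjAut (g : G) (φ : G ≃* G) : G ≃* G := MulAut.conj g * φ

@[simp] theorem conjAut_apply (g : G) (φ : G ≃* G) (x : G) : conjAut g φ x = g * φ x * g⁻¹ := by
  unfold conjAut
  rw [MulAut.mul_apply, MulAut.conj_apply]

theorem conjAut_pow_apply (g : G) (φ : G ≃* G) (i : ℕ) (x : G) :
    ((conjAut g φ) ^ i) x = splitProd φ g i * (φ ^ i) x * (splitProd φ g i)⁻¹ := by
  induction i with
  | zero => simp
  | succ i ih =>
    rw [pow_succ', MulAut.mul_apply, ih, conjAut_apply, splitProd_succ', map_mul, map_mul, map_inv,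
      pow_succ', MulAut.mul_apply]
    group

theorem splitProd_conjAut (g : G) (φ : G ≃* G) (x : G) (i : ℕ) :
    splitProd (conjAut g φ) x i = splitProd φ (x * g) i * (splitProd φ g i)⁻¹ := by
  induction i with
  | zero => simp
  | succ i ih =>
    rw [splitProd_succ, ih, conjAut_pow_apply, splitProd_succ, splitProd_succ, map_mul]
    group

theorem Split.conj {p : ℕ} {φ : G ≃* G} (h : Split p φ) (g : G) :
    Split p (Cfsg.Agent.Lib.H1.conjAut g φ) := by
  rw [split_iff] at h ⊢
  intro x
  rw [splitProd_conjAut, h, h, inv_one, mul_one]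

theorem Split.conj_pow_eq_one {p : ℕ} {φ : G ≃* G} (h : Split p φ) (hφ : φ ^ p = 1) (g : G) :
    (Cfsg.Agent.Lib.H1.conjAut g φ) ^ p = 1 := by
  ext x
  rw [conjAut_pow_apply, split_iff.mp h g, hφ]
  simp

/-- `p = 2`: a splitting automorphism inverts every element, so the group is commutative. -/
theorem Split.commute_of_two {φ : G ≃* G} (h : Split 2 φ) (x y : G) : x * y = y * x := by
  have hinv : ∀ z : G, φ z = z⁻¹ := by
    intro z
    have := split_iff.mp h z
    rw [splitProd_succ, splitProd_succ, splitProd_zero, one_mul, pow_zero, pow_one] at this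
    have h2 : z * φ z = 1 := this
    exact eq_inv_of_mul_eq_one_right h2
  have h1 := hinv (x * y)
  rw [map_mul, hinv, hinv, mul_inv_rev] at h1
  have h2 : (x⁻¹ * y⁻¹)⁻¹ = (y⁻¹ * x⁻¹)⁻¹ := by rw [h1]
  simpa using h2.symm

end Cfsg.Agent.Lib.H1
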