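import Cfsg.Agent.Lib.H1.SplitAut
import Cfsg.Agent.Lib.H1.FpfTrace

/-!
# Trace arguments for splitting automorphisms (helper1)

* `split_trace` : `φ` splitting of prime order `p`, `N` abelian normal `φ`-invariant, `S` a
  `φ`-invariant subgroup of order prime to `p` with `C_N(S) = 1`; then `v ^ |S| = 1` on `N`.
* `split_fixed_centralizes` : a fixed point `y` of `φ` centralizes every abelian normal
  `φ`-invariant subgroup of order prime to `p`.
-/

set_option autoImplicit false
open scoped IsMulCommutative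

namespace Cfsg.Agent.Lib.H1

variable {G : Type*} [Group G]

/-- a fixed point of a power `φ^k`, `0 < k < p`, is a fixed point of `φ` (when `φ^p = 1`). -/
theorem fixed_of_pow_fixed {φ : G ≃* G} {p : ℕ} (hp : p.Prime) (hφp : φ ^ p = 1) {k : ℕ}
    (hk0 : 0 < k) (hkp : k < p) {g : G} (hg : (φ ^ k) g = g) : φ g = g := by
  have hcop : Nat.Coprime k p :=
    (Nat.coprime_comm.mp ((Nat.Prime.coprime_iff_not_dvd hp).mpr
      (Nat.not_dvd_of_pos_of_lt hk0 hkp)))
  obtain ⟨m, -, hm⟩ := Nat.exists_mul_mod_eq_one_of_coprime hcop hp.one_lt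
  have h1 : ∀ j : ℕ, ((φ ^ k) ^ j) g = g := by
    intro j
    induction j with
    | zero => simp
    | succ j ih => rw [pow_succ, MulAut.mul_apply, hg, ih]
  have h2 := h1 m
  rw [← pow_mul] at h2
  have h3 : φ ^ (k * m) = φ := by
    conv_lhs => rw [← Nat.div_add_mod (k * m) p, hm, pow_add, pow_mul, hφp, one_pow, one_mul, pow_one]
  rwa [h3] at h2

theorem invSub_pow {φ : G ≃* G} {N : Subgroup G} [Finite G] (hN : InvSub φ N) (k : ℕ) :
    InvSub (φ ^ k) N := by
  apply invSub_of_forall_mem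
  intro x hx
  induction k with
  | zero => simpa using hx
  | succ k ih => rw [pow_succ', MulAut.mul_apply]; exact hN.apply_mem ih

/-- **Trace argument** for a splitting automorphism. -/
theorem split_trace [Finite G] {φ : G ≃* G} {p : ℕ} (hp : p.Prime) (hφp : φ ^ p = 1)
    (hsplit : Split p φ)
    {N S : Subgroup G} (hSN : S ≤ Subgroup.normalizer (N : Set G))
    (hNc : ∀ a ∈ N, ∀ b ∈ N, a * b = b * a)
    (hN : InvSub φ N) (hS : InvSub φ S) (hSp : (Nat.card S).Coprime p)
    (hD : N ⊓ Subgroup.centralizer (S : Set G) = ⊥) : ∀ v ∈ N, v ^ Nat.card S = 1 := by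
  haveI : IsMulCommutative N := ⟨⟨fun a b => Subtype.ext (hNc a a.2 b b.2)⟩⟩
  let _ := Fintype.ofFinite S
  have hNpow : ∀ k : ℕ, InvSub (φ ^ k) N := invSub_pow hN
  have hSpow : ∀ k : ℕ, InvSub (φ ^ k) S := invSub_pow hS
  intro v hv
  -- the terms
  have hterm : ∀ (y : S) (k : ℕ),
      ((y : G)⁻¹ * (φ ^ k) (y : G)) * (φ ^ k) v * ((y : G)⁻¹ * (φ ^ k) (y : G))⁻¹ ∈ N := by
    intro y k
    have hmem : (y : G)⁻¹ * (φ ^ k) (y : G) ∈ S :=
      S.mul_mem (S.inv_mem y.2) ((hSpow k).apply_mem y.2)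
    exact (Subgroup.mem_normalizer_iff.mp (hSN hmem) _).mp ((hNpow k).apply_mem hv)
  obtain ⟨τ, hτ⟩ : ∃ τ : S → ℕ → N, ∀ y k, τ y k = ⟨_, hterm y k⟩ :=
    ⟨fun y k => ⟨_, hterm y k⟩, fun _ _ => rfl⟩
  -- for each y the product over k is 1
  have h1 : ∀ y : S, ∏ k ∈ Finset.range p, τ y k = 1 := by
    intro y
    have h0 := hsplit ((y : G) * v * (y : G)⁻¹)
    have hterm' : ∀ k : ℕ, ((τ y k : N) : G) =
        MulAut.conj (y : G)⁻¹ ((φ ^ k) ((y : G) * v * (y : G)⁻¹)) := by
      intro k
      rw [hτ, MulAut.conj_apply, map_mul, map_mul, map_inv]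
      group
    apply Subtype.ext
    rw [← list_prod_range_eq_finset_prod, Subgroup.val_list_prod, List.map_map]
    have h2 : (List.map (Subtype.val ∘ fun k => τ y k) (List.range p)) =
        List.map (MulAut.conj (y : G)⁻¹)
          (List.map (fun k : ℕ => (φ ^ k) ((y : G) * v * (y : G)⁻¹)) (List.range p)) := by
      rw [List.map_map]
      apply List.map_congr_left
      intro k _
      exact hterm' k
    rw [h2, ← map_list_prod, h0, map_one]
    rfl
  -- product over all y, exchange the order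
  have h2 : ∏ k ∈ Finset.range p, ∏ y : S, τ y k = 1 := by
    rw [Finset.prod_comm]
    exact Finset.prod_eq_one (fun y _ => h1 y)
  obtain ⟨n, rfl⟩ : ∃ n, p = n + 1 := ⟨p - 1, by have := hp.pos; omega⟩
  rw [Finset.prod_range_succ'] at h2
  -- the terms with k ≥ 1 are traces
  have h3 : ∀ k ∈ Finset.range n, ∏ y : S, τ y (k + 1) = 1 := by
    intro k hk
    rw [Finset.mem_range] at hk
    have hfpS : Fpf (restrictAut (φ ^ (k + 1)) S (hSpow (k + 1))) := by
      intro y hy
      have hy' : (φ ^ (k + 1)) (y : G) = y := congrArg Subtype.val hy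
      have hfix := fixed_of_pow_fixed hp hφp (Nat.succ_pos k) (by omega) hy'
      have h1 := hsplit.pow_eq_one_of_fixed hfix
      have h2 : (y : G) ^ Nat.card S = 1 := by
        have : y ^ Nat.card S = 1 := pow_card_eq_one'
        have h3 : ((y ^ Nat.card S : S) : G) = ((1 : S) : G) := congrArg Subtype.val this
        rwa [Subgroup.coe_pow, Subgroup.coe_one] at h3
      have h3 := pow_gcd_eq_one.mpr ⟨h2, h1⟩
      rw [Nat.Coprime.gcd_eq_one hSp, pow_one] at h3
      exact Subtype.ext h3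
    have hbij : Function.Bijective
        (fun y : S => y⁻¹ * (restrictAut (φ ^ (k + 1)) S (hSpow (k + 1))) y) := by
      have hinj := MonoidHom.FixedPointFree.commutatorMap_injective
        (φ := restrictAut (φ ^ (k + 1)) S (hSpow (k + 1))) hfpS
      have : Function.Injective
          (fun y : S => y⁻¹ * (restrictAut (φ ^ (k + 1)) S (hSpow (k + 1))) y) := by
        intro a b hab
        have : a⁻¹ = b⁻¹ := by
          apply hinj
          simp only [MonoidHom.commutatorMap_apply, map_inv, div_inv_eq_mul]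
          exact hab
        exact inv_injective this
      exact ⟨this, Finite.surjective_of_injective this⟩
    have hw : (φ ^ (k + 1)) v ∈ N := (hNpow (k + 1)).apply_mem hv
    have h4 : ∀ y : S, τ y (k + 1) = conjHomOfNormalizer hSN
        (y⁻¹ * (restrictAut (φ ^ (k + 1)) S (hSpow (k + 1))) y) ⟨_, hw⟩ := by
      intro y
      apply Subtype.ext
      rw [hτ, conjHomOfNormalizer_apply]
      simp
    have h5 : ∏ y : S, τ y (k + 1) = traceMap hSN ⟨_, hw⟩ := by
      rw [traceMap_apply]
      simp only [h4]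
      exact Fintype.prod_bijective _ hbij _ _ (fun y => rfl)
    rw [h5]
    have h6 := traceMap_mem_centralizer hSN (⟨_, hw⟩ : N)
    have h7 : ((traceMap hSN (⟨_, hw⟩ : N) : N) : G) ∈ N ⊓ Subgroup.centralizer (S : Set G) :=
      ⟨(traceMap hSN (⟨_, hw⟩ : N)).2, h6⟩
    rw [hD, Subgroup.mem_bot] at h7
    exact Subtype.ext h7
  rw [Finset.prod_eq_one h3, one_mul] at h2
  have h8 : ∀ y : S, τ y 0 = ⟨v, hv⟩ := by
    intro y
    apply Subtype.ext
    rw [hτ]
    simp
  simp only [h8, Finset.prod_const, Finset.card_univ] at h2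
  have h9 := congrArg Subtype.val h2
  rw [Nat.card_eq_fintype_card]
  simpa using h9

theorem prod_range_mul_mod {M : Type*} [CommMonoid M] {p i : ℕ} (hp : 0 < p)
    (hcop : Nat.Coprime i p) (f : ℕ → M) :
    ∏ j ∈ Finset.range p, f ((j * i) % p) = ∏ m ∈ Finset.range p, f m := by
  have hinj : Set.InjOn (fun j => (j * i) % p) (Finset.range p : Set ℕ) := by
    intro a ha b hb hab
    simp only [Finset.coe_range, Set.mem_Iio] at ha hb
    have h1 : a * i ≡ b * i [MOD p] := hab
    have h2 : a ≡ b [MOD p] :=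
      Nat.ModEq.cancel_right_of_coprime (by rwa [Nat.coprime_comm] at hcop) h1
    exact Nat.ModEq.eq_of_lt_of_lt h2 ha hb
  have himg : (Finset.range p).image (fun j => (j * i) % p) = Finset.range p := by
    apply Finset.eq_of_subset_of_card_le
    · intro m hm
      obtain ⟨j, -, rfl⟩ := Finset.mem_image.mp hm
      exact Finset.mem_range.mpr (Nat.mod_lt _ hp)
    · rw [Finset.card_image_of_injOn hinj]
  conv_rhs => rw [← himg]
  rw [Finset.prod_image hinj]

/-- A fixed point of a splitting automorphism of prime order `p` centralizes every abelian normal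
invariant subgroup of order prime to `p`. -/
theorem split_fixed_centralizes [Finite G] {φ : G ≃* G} {p : ℕ} (hp : p.Prime) (hφp : φ ^ p = 1)
    (hsplit : Split p φ) {W : Subgroup G} [hWn : W.Normal]
    (hWc : ∀ a ∈ W, ∀ b ∈ W, a * b = b * a) (hW : InvSub φ W) (hWp : (Nat.card W).Coprime p)
    {y : G} (hy : φ y = y) : ∀ w ∈ W, y * w * y⁻¹ = w := by
  haveI : IsMulCommutative W := ⟨⟨fun a b => Subtype.ext (hWc a a.2 b b.2)⟩⟩
  have hyp : y ^ p = 1 := hsplit.pow_eq_one_of_fixed hy
  have hcW : InvSub (MulAut.conj y) W :=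
    invSub_of_forall_mem (fun x hx => by simpa using hWn.conj_mem x hx y)
  obtain ⟨c, hc⟩ : ∃ c : W ≃* W, c = restrictAut (MulAut.conj y) W hcW := ⟨_, rfl⟩
  obtain ⟨f, hf⟩ : ∃ f : W ≃* W, f = restrictAut φ W hW := ⟨_, rfl⟩
  have hcpow : ∀ (k : ℕ) (w : W), (((c ^ k) w : W) : G) = y ^ k * w * (y ^ k)⁻¹ := by
    intro k w
    rw [hc, restrictAut_pow_apply, ← map_pow, MulAut.conj_apply]
  have hfpow : ∀ (k : ℕ) (w : W), (((f ^ k) w : W) : G) = (φ ^ k) w := by
    intro k w
    rw [hf, restrictAut_pow_apply]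
  have hcp : c ^ p = 1 := by
    ext w
    rw [hcpow, hyp]
    simp
  have hcf : Commute c f := by
    ext w
    rw [MulAut.mul_apply, MulAut.mul_apply, hc, hf]
    simp [hy]
  have hcmod : ∀ k : ℕ, c ^ (k % p) = c ^ k := by
    intro k
    conv_rhs => rw [← Nat.div_add_mod k p, pow_add, pow_mul, hcp, one_pow, one_mul]
  -- the trace of `c`
  obtain ⟨T, hT⟩ : ∃ T : W → W, ∀ u, T u = ∏ m ∈ Finset.range p, (c ^ m) u :=
    ⟨fun u => ∏ m ∈ Finset.range p, (c ^ m) u, fun _ => rfl⟩
  -- step 1: splitting for the conjugated automorphisms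
  have h1 : ∀ (j : ℕ) (w : W), ∏ i ∈ Finset.range p, (c ^ (j * i)) ((f ^ i) w) = 1 := by
    intro j w
    have hfix : φ (y ^ j) = y ^ j := by rw [map_pow, hy]
    have h0 := (hsplit.conj (y ^ j)) (w : G)
    apply Subtype.ext
    rw [← list_prod_range_eq_finset_prod, Subgroup.val_list_prod, List.map_map]
    have h2 : (List.map (Subtype.val ∘ fun i : ℕ => (c ^ (j * i)) ((f ^ i) w)) (List.range p)) =
        List.map (fun i : ℕ => ((conjAut (y ^ j) φ) ^ i) (w : G)) (List.range p) := by
      apply List.map_congr_left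
      intro i _
      rw [Function.comp_apply, hcpow, hfpow, conjAut_pow_apply, splitProd_of_fixed hfix, ← pow_mul]
    rw [h2, h0]
    rfl
  -- step 2: `w ^ p = T w`
  have h2 : ∀ w : W, w ^ p = T w := by
    intro w
    have hdouble : ∏ i ∈ Finset.range p, ∏ j ∈ Finset.range p, (c ^ (j * i)) ((f ^ i) w) = 1 := by
      rw [Finset.prod_comm]
      exact Finset.prod_eq_one (fun j _ => h1 j w)
    have hTf : ∀ i : ℕ, T ((f ^ i) w) = (f ^ i) (T w) := by
      intro i
      rw [hT, hT, map_prod]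
      apply Finset.prod_congr rfl
      intro m _
      have := (hcf.pow_pow m i).eq
      have h3 := congrArg (fun g : W ≃* W => g w) this
      simpa [MulAut.mul_apply] using h3
    have hinner : ∀ i ∈ Finset.range p, 0 < i →
        ∏ j ∈ Finset.range p, (c ^ (j * i)) ((f ^ i) w) = (f ^ i) (T w) := by
      intro i hi hi0
      rw [Finset.mem_range] at hi
      rw [← hTf, hT]
      have hcop : Nat.Coprime i p :=
        (Nat.coprime_comm.mp ((Nat.Prime.coprime_iff_not_dvd hp).mpr
          (Nat.not_dvd_of_pos_of_lt hi0 hi)))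
      rw [← prod_range_mul_mod hp.pos hcop (fun m => (c ^ m) ((f ^ i) w))]
      apply Finset.prod_congr rfl
      intro j _
      rw [hcmod]
    have hsplitT := split_iff.mp (hsplit.restrict W hW) (T w)
    rw [splitProd_eq_list, list_prod_range_eq_finset_prod, ← hf] at hsplitT
    obtain ⟨n, rfl⟩ : ∃ n, p = n + 1 := ⟨p - 1, by have := hp.pos; omega⟩
    rw [Finset.prod_range_succ'] at hdouble hsplitT
    have h4 : ∏ i ∈ Finset.range n, ∏ j ∈ Finset.range (n + 1),
        (c ^ (j * (i + 1))) ((f ^ (i + 1)) w) = ∏ i ∈ Finset.range n, (f ^ (i + 1)) (T w) := by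
      apply Finset.prod_congr rfl
      intro i hi
      rw [Finset.mem_range] at hi
      exact hinner (i + 1) (Finset.mem_range.mpr (by omega)) (Nat.succ_pos i)
    rw [h4] at hdouble
    have h5 : ∏ j ∈ Finset.range (n + 1), (c ^ (j * 0)) ((f ^ 0) w) = w ^ (n + 1) := by
      simp
    rw [h5] at hdouble
    have h6 : (f ^ 0) (T w) = T w := by simp
    rw [h6] at hsplitT
    -- hdouble : A * w^p = 1, hsplitT : A * T w = 1
    have := hdouble.trans hsplitT.symm
    exact mul_left_cancel this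
  -- step 3: conclude
  have hTc : ∀ u : W, T (c u) = T u := by
    intro u
    rw [hT, hT]
    have e1 : ∀ m : ℕ, (c ^ m) (c u) = (c ^ (m + 1)) u := by
      intro m
      rw [pow_succ, MulAut.mul_apply]
    simp only [e1]
    have h3 := Finset.prod_range_succ' (fun m => (c ^ m) u) p
    have h4 := Finset.prod_range_succ (fun m => (c ^ m) u) p
    rw [h3] at h4
    have h5 : (c ^ p) u = (c ^ 0) u := by rw [hcp, pow_zero]
    rw [h5] at h4
    exact mul_right_cancel h4
  have hTmul : ∀ u v : W, T (u * v) = T u * T v := by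
    intro u v
    rw [hT, hT, hT, ← Finset.prod_mul_distrib]
    apply Finset.prod_congr rfl
    intro m _
    rw [map_mul]
  have hTinv : ∀ u : W, T u⁻¹ = (T u)⁻¹ := by
    intro u
    rw [hT, hT, ← Finset.prod_inv_distrib]
    apply Finset.prod_congr rfl
    intro m _
    rw [map_inv]
  intro w hw
  obtain ⟨w', hw'⟩ : ∃ w' : W, w' = (⟨w, hw⟩ : W)⁻¹ * c ⟨w, hw⟩ := ⟨_, rfl⟩
  have h3 : w' ^ p = 1 := by
    rw [h2, hw', hTmul, hTinv, hTc, inv_mul_cancel]
  have h4 : w' ^ Nat.card W = 1 := pow_card_eq_one'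
  have h5 := pow_gcd_eq_one.mpr ⟨h4, h3⟩
  rw [Nat.Coprime.gcd_eq_one hWp, pow_one] at h5
  rw [h5] at hw'
  have h6 : c ⟨w, hw⟩ = ⟨w, hw⟩ := by
    have := congrArg (fun t => (⟨w, hw⟩ : W) * t) hw'
    simpa using this.symm
  have h7 := congrArg Subtype.val h6
  have h8 := hcpow 1 ⟨w, hw⟩
  rw [pow_one, pow_one] at h8
  rw [← h8]
  exact h7

end Cfsg.Agent.Lib.H1
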