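/-
Small cases of the Steinberg character statements S2548 / S2549: generic lemmas
(`HasSteinberg` for groups of order prime to `p`, for trivial groups, and for direct products).
-/
import Cfsg.Agent.Lib.H8.SteinbergTransport
import Cfsg.Agent.Lib.H24.CharProd

set_option autoImplicit false

namespace Cfsg.Agent.Lib.H1.StSmall

open Cfsg.Agent.Lib.H8.BNSteinberg

variable {G : Type*} [Group G]

/-- if `p` does not divide the order of `G`, the trivial character has the Steinberg property -/
theorem hasSteinberg_of_not_dvd [Finite G] (p : ℕ) [Fact p.Prime] (h : ¬ p ∣ Nat.card G) :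
    HasSteinberg p G := by
  refine ⟨1, Cfsg.Agent.Lib.L0.isIrrCharacter_one, fun Q => ?_⟩
  have hQ : Nat.card Q = 1 := by
    rw [Sylow.card_eq_multiplicity, Nat.factorization_eq_zero_of_not_dvd h, pow_zero]
  constructor
  · rw [hQ]
    simp
  · intro x hx hx1
    exfalso
    apply hx1
    have : Subsingleton (Q : Subgroup G) := (Nat.card_eq_one_iff_unique.mp hQ).1
    have h1 := Subsingleton.elim (⟨x, hx⟩ : (Q : Subgroup G)) 1
    exact congrArg Subtype.val h1

/-- a trivial group has the Steinberg property -/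
theorem hasSteinberg_of_subsingleton [Subsingleton G] (p : ℕ) [Fact p.Prime] : HasSteinberg p G := by
  have : Finite G := Finite.of_subsingleton
  apply hasSteinberg_of_not_dvd p
  rw [Nat.card_of_subsingleton (1 : G)]
  intro h
  exact (Fact.out : p.Prime).one_lt.ne' (Nat.dvd_one.mp h)

/-- the Steinberg property of a direct product -/
theorem hasSteinberg_prod {A B : Type*} [Group A] [Group B] [Finite A] [Finite B] (p : ℕ) [Fact p.Prime]
    (hA : HasSteinberg p A) (hB : HasSteinberg p B) : HasSteinberg p (A × B) := by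
  obtain ⟨χA, hχA, hQA⟩ := hA
  obtain ⟨χB, hχB, hQB⟩ := hB
  refine ⟨Cfsg.Agent.Lib.H24.prodChar χA χB, Cfsg.Agent.Lib.H24.isIrrCharacter_prodChar hχA hχB, fun Q => ?_⟩
  constructor
  · obtain ⟨QA⟩ : Nonempty (Sylow p A) := inferInstance
    obtain ⟨QB⟩ : Nonempty (Sylow p B) := inferInstance
    rw [Cfsg.Agent.Lib.H24.prodChar_apply]
    show χA 1 * χB 1 = _
    rw [(hQA QA).1, (hQB QB).1, Sylow.card_eq_multiplicity, Sylow.card_eq_multiplicity,
      Sylow.card_eq_multiplicity, Nat.card_prod, Nat.factorization_mul Nat.card_pos.ne' Nat.card_pos.ne',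
      Finsupp.add_apply, pow_add]
    push_cast
    rfl
  · rintro ⟨a, b⟩ hx hx1
    rw [Cfsg.Agent.Lib.H24.prodChar_apply]
    show χA a * χB b = 0
    by_cases ha : a = 1
    · have hb : b ≠ 1 := by
        intro hb
        apply hx1
        rw [ha, hb]
        rfl
      -- `b` lies in a Sylow subgroup of `B`
      have hPB : IsPGroup p ((Q : Subgroup (A × B)).map (MonoidHom.snd A B)) := Q.2.map _
      obtain ⟨QB, hQB'⟩ := hPB.exists_le_sylow
      have hbQ : b ∈ QB := hQB' ⟨(a, b), hx, rfl⟩
      rw [(hQB QB).2 b hbQ hb, mul_zero]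
    · have hPA : IsPGroup p ((Q : Subgroup (A × B)).map (MonoidHom.fst A B)) := Q.2.map _
      obtain ⟨QA, hQA'⟩ := hPA.exists_le_sylow
      have haQ : a ∈ QA := hQA' ⟨(a, b), hx, rfl⟩
      rw [(hQA QA).2 a haQ ha, zero_mul]

end Cfsg.Agent.Lib.H1.StSmall
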