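/-
Small cases of the Steinberg character statements S2548 / S2549: groups isomorphic to a dihedral group have an
abelian commutator subgroup, so that `Ω / Z(Ω)` is trivial.
-/
import Cfsg.Agent.Lib.H1.StSmallA

set_option autoImplicit false

namespace Cfsg.Agent.Lib.H1.StSmall

open Cfsg.Agent.Lib.H8.BNSteinberg
open scoped commutatorElement

/-- the rotation subgroup of a dihedral group -/
def dihRot (n : ℕ) : Subgroup (DihedralGroup n) where
  carrier := {x | ∃ i, x = DihedralGroup.r i}
  one_mem' := ⟨0, rfl⟩
  mul_mem' := by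
    rintro _ _ ⟨i, rfl⟩ ⟨j, rfl⟩
    exact ⟨i + j, rfl⟩
  inv_mem' := by
    rintro _ ⟨i, rfl⟩
    exact ⟨-i, rfl⟩

theorem dih_commutator_mem (n : ℕ) (x y : DihedralGroup n) : ⁅x, y⁆ ∈ dihRot n := by
  rw [commutatorElement_def]
  cases x <;> cases y <;> exact ⟨_, rfl⟩

theorem dih_commutator_le (n : ℕ) : commutator (DihedralGroup n) ≤ dihRot n := by
  rw [commutator_def, Subgroup.commutator_le]
  intro x _ y _
  exact dih_commutator_mem n x y

variable {G : Type*} [Group G]

/-- in a group isomorphic to a dihedral group the elements of the commutator subgroup commute -/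
theorem commute_of_dihedral {n : ℕ} (e : G ≃* DihedralGroup n) (x y : G) (hx : x ∈ commutator G)
    (hy : y ∈ commutator G) : x * y = y * x := by
  have hmap : ∀ z ∈ commutator G, e z ∈ dihRot n := by
    intro z hz
    apply dih_commutator_le n
    have h1 : e z ∈ (commutator G).map (e : G →* DihedralGroup n) := ⟨z, hz, rfl⟩
    rw [commutator_def, Subgroup.map_commutator] at h1
    rw [commutator_def]
    exact Subgroup.commutator_mono le_top le_top h1
  obtain ⟨i, hi⟩ := hmap x hx
  obtain ⟨j, hj⟩ := hmap y hy
  apply e.injective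
  rw [map_mul, map_mul, hi, hj]
  show DihedralGroup.r (i + j) = DihedralGroup.r (j + i)
  rw [add_comm]

/-- `Ω / Z(Ω)` is trivial when the elements of `Ω` commute -/
theorem subsingleton_quot_center (H : Subgroup G) (hH : ∀ x ∈ H, ∀ y ∈ H, x * y = y * x) :
    Subsingleton (↥H ⧸ Subgroup.center ↥H) := by
  have htop : Subgroup.center ↥H = ⊤ := by
    rw [eq_top_iff]
    intro x _
    rw [Subgroup.mem_center_iff]
    intro g
    exact Subtype.ext (hH g.1 g.2 x.1 x.2)
  rw [htop]
  exact QuotientGroup.subsingleton_quotient_top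

theorem hasSteinberg_of_dihedral {n : ℕ} (e : G ≃* DihedralGroup n) (p : ℕ) [Fact p.Prime] :
    HasSteinberg p (↥(commutator G) ⧸ Subgroup.center ↥(commutator G)) := by
  have := subsingleton_quot_center (commutator G) (fun x hx y hy => commute_of_dihedral e x y hx hy)
  exact hasSteinberg_of_subsingleton p

end Cfsg.Agent.Lib.H1.StSmall
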