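/-
Small cases `m = 0, 1, 2` of S2549: the Steinberg character of `PΩ⁻_{2m+2}(q)`.
-/
import Cfsg.Agent.Lib.H1.StSmallB
import Cfsg.Agent.S0306
import Cfsg.Agent.S0300
import Cfsg.Agent.S0303
import Cfsg.Agent.S2544
import Cfsg.Agent.S2546

set_option autoImplicit false

namespace Cfsg.Agent.Lib.H1.StSmall

open Cfsg.Agent.Lib.H8.BNSteinberg

variable {F : Type*} [Field F] [Fintype F]

/-- `m = 0`: `PΩ⁻_2(q)` is trivial -/
theorem hasSteinberg_minus_zero (p : ℕ) [Fact p.Prime] (a b : F)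
    (hab : ∀ z₁ z₂ : F, z₁ ^ 2 + a * z₁ * z₂ + b * z₂ ^ 2 = 0 → z₁ = 0 ∧ z₂ = 0) :
    HasSteinberg p (Cfsg.POmega F (Cfsg.quadFormMinus 0 F a b)) := by
  obtain ⟨e⟩ := Cfsg.Agent.S0306.result (F := F) rfl a b hab
  exact hasSteinberg_of_dihedral e p

/-- a field with `q²` elements, `q = |F|`, of the same characteristic -/
theorem exists_quadratic_ext (p : ℕ) [Fact p.Prime] [CharP F p] :
    ∃ (K : Type) (_ : Field K) (_ : Fintype K) (_ : CharP K p), Fintype.card K = Fintype.card F ^ 2 := by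
  obtain ⟨n, hn⟩ := FiniteField.card F p
  have : Fintype (GaloisField p (2 * n)) := Fintype.ofFinite _
  refine ⟨GaloisField p (2 * n), inferInstance, this, inferInstance, ?_⟩
  rw [hn.2, ← Nat.card_eq_fintype_card, GaloisField.card p (2 * n) (by positivity), ← pow_mul, mul_comm]

/-- `m = 1`: `PΩ⁻_4(q) ≅ PSL_2(q²)` -/
theorem hasSteinberg_minus_one (p : ℕ) [Fact p.Prime] [CharP F p] (a b : F)
    (hab : ∀ z₁ z₂ : F, z₁ ^ 2 + a * z₁ * z₂ + b * z₂ ^ 2 = 0 → z₁ = 0 ∧ z₂ = 0) :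
    HasSteinberg p (Cfsg.POmega F (Cfsg.quadFormMinus 1 F a b)) := by
  obtain ⟨K, _, _, _, hK⟩ := exists_quadratic_ext (F := F) p
  obtain ⟨e⟩ := Cfsg.Agent.S0300.result (F := F) (K := K) rfl hK a b hab
  exact HasSteinberg.of_mulEquiv e.symm p (Cfsg.Agent.S2544.result p 2 le_rfl)

/-- `m = 2`: `PΩ⁻_6(q) ≅ PSU_4(q)` -/
theorem hasSteinberg_minus_two (p : ℕ) [Fact p.Prime] [CharP F p] (a b : F)
    (hab : ∀ z₁ z₂ : F, z₁ ^ 2 + a * z₁ * z₂ + b * z₂ ^ 2 = 0 → z₁ = 0 ∧ z₂ = 0) :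
    HasSteinberg p (Cfsg.POmega F (Cfsg.quadFormMinus 2 F a b)) := by
  obtain ⟨K, _, _, _, hK⟩ := exists_quadratic_ext (F := F) p
  obtain ⟨e⟩ := Cfsg.Agent.S0303.result (F := F) (K := K) rfl hK a b hab
  exact HasSteinberg.of_mulEquiv e.symm p (Cfsg.Agent.S2546.result p 4 (Fintype.card F) (by norm_num) hK)

end Cfsg.Agent.Lib.H1.StSmall
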