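/-
Small cases `m = 1, 2 (q ≥ 3), 3` of S2548: the Steinberg character of `PΩ⁺_{2m}(q)`.
-/
import Cfsg.Agent.Lib.H1.StSmallB
import Cfsg.Agent.S0305
import Cfsg.Agent.S0299
import Cfsg.Agent.S0302
import Cfsg.Agent.S2544

set_option autoImplicit false

namespace Cfsg.Agent.Lib.H1.StSmall

open Cfsg.Agent.Lib.H8.BNSteinberg

variable {F : Type*} [Field F] [Fintype F]

theorem hasSteinberg_PSL (p : ℕ) [Fact p.Prime] [CharP F p] (n : ℕ) (hn : 2 ≤ n) :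
    HasSteinberg p (Matrix.ProjectiveSpecialLinearGroup (Fin n) F) :=
  Cfsg.Agent.S2544.result p n hn

/-- `m = 1`: `PΩ⁺_2(q)` is trivial -/
theorem hasSteinberg_plus_one (p : ℕ) [Fact p.Prime] :
    HasSteinberg p (Cfsg.POmega F (Cfsg.quadFormPlus 1 F)) := by
  obtain ⟨e⟩ := Cfsg.Agent.S0305.result (F := F) rfl
  exact hasSteinberg_of_dihedral e p

/-- `m = 2`, `q ≥ 3`: `PΩ⁺_4(q) ≅ PSL_2(q) × PSL_2(q)` -/
theorem hasSteinberg_plus_two (p : ℕ) [Fact p.Prime] [CharP F p] (hF : 3 ≤ Fintype.card F) :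
    HasSteinberg p (Cfsg.POmega F (Cfsg.quadFormPlus 2 F)) := by
  obtain ⟨e⟩ := Cfsg.Agent.S0299.result (F := F) hF
  exact HasSteinberg.of_mulEquiv e.symm p
    (hasSteinberg_prod p (hasSteinberg_PSL p 2 le_rfl) (hasSteinberg_PSL p 2 le_rfl))

/-- `m = 3`: `PΩ⁺_6(q) ≅ PSL_4(q)` -/
theorem hasSteinberg_plus_three (p : ℕ) [Fact p.Prime] [CharP F p] :
    HasSteinberg p (Cfsg.POmega F (Cfsg.quadFormPlus 3 F)) := by
  obtain ⟨e⟩ := Cfsg.Agent.S0302.result (F := F)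
  exact HasSteinberg.of_mulEquiv e.symm p (hasSteinberg_PSL p 4 (by norm_num))

end Cfsg.Agent.Lib.H1.StSmall
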