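/-
The degenerate case `m = 2`, `q = 2` of S2548: `Ω = O⁺_4(2)'` has order 18 (it is `3^2 : 2`), and it has an irreducible
character of degree 2 vanishing on the involutions.  We use `ρ : SL_2(2) × SL_2(2) → O⁺_4(2)` of `S0299` (injective, of
index 2), the coordinate swap `τ` (transposition of the 2 × 2 matrix), which interchanges the two factors, and the sign
`SL_2(2) → C_2`: `Ω ≤ ρ {(a,b) | sgn a = sgn b}` (of order 18), and `⁅τ, ρ(g,1)⁆ = ρ(g⁻¹, φ g)` shows that the first
projection `Ω → SL_2(2)` is onto; we inflate the Steinberg character of `PSL_2(2)` (S2544).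
-/
import Cfsg.Agent.Lib.H1.StSmallPlus
import Cfsg.Agent.Lib.H29.IsoTransport
import Cfsg.Agent.S0243

set_option autoImplicit false

namespace Cfsg.Agent.Lib.H1.StSmall

open Cfsg.Agent.Lib.H8.BNSteinberg Cfsg.Agent.S0299 Matrix
open scoped commutatorElement

/-! ### inflation along a surjection with kernel of order prime to `p` -/

theorem hasSteinberg_of_surjective {G H : Type*} [Group G] [Group H] [Finite G] (p : ℕ) [Fact p.Prime]
    (π : G →* H) (hπ : Function.Surjective π) (hk : ¬ p ∣ Nat.card π.ker) (hH : HasSteinberg p H) :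
    HasSteinberg p G := by
  classical
  have : Finite H := Finite.of_surjective π hπ
  have hpp : p.Prime := Fact.out
  obtain ⟨χ, hχ, hQ⟩ := hH
  refine ⟨χ ∘ π, Cfsg.Agent.Lib.L0.isIrrCharacter_comp_of_surjective π hπ hχ, fun Q => ?_⟩
  have hcard : Nat.card G = Nat.card π.ker * Nat.card H := by
    have h1 := Subgroup.card_mul_index π.ker
    rw [Subgroup.index_ker, MonoidHom.range_eq_top.2 hπ, Subgroup.card_top] at h1
    exact h1.symm
  have hfac : (Nat.card G).factorization p = (Nat.card H).factorization p := by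
    rw [hcard, Nat.factorization_mul Nat.card_pos.ne' Nat.card_pos.ne', Finsupp.add_apply,
      Nat.factorization_eq_zero_of_not_dvd hk, zero_add]
  constructor
  · obtain ⟨Q', -⟩ : ∃ Q' : Sylow p H, True := ⟨default, trivial⟩
    show χ (π 1) = _
    rw [map_one, (hQ Q').1, Sylow.card_eq_multiplicity, Sylow.card_eq_multiplicity, hfac]
  · intro x hx hx1
    show χ (π x) = 0
    obtain ⟨Q', hQ'⟩ := IsPGroup.exists_le_sylow (IsPGroup.map Q.2 π)
    apply (hQ Q').2 (π x) (hQ' (Subgroup.mem_map_of_mem π hx))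
    intro h1
    apply hx1
    obtain ⟨k, hk'⟩ := (IsPGroup.iff_orderOf.mp Q.2) ⟨x, hx⟩
    rw [Subgroup.orderOf_mk] at hk'
    rcases Nat.eq_zero_or_pos k with rfl | hk0
    · rw [pow_zero, orderOf_eq_one_iff] at hk'
      exact hk'
    · exfalso
      apply hk
      have h2 : orderOf (⟨x, MonoidHom.mem_ker.2 h1⟩ : π.ker) ∣ Nat.card π.ker := orderOf_dvd_natCard _
      rw [Subgroup.orderOf_mk, hk'] at h2
      exact (dvd_pow_self p hk0.ne').trans h2

/-! ### the field with two elements -/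

abbrev K2 : Type := ZMod 2

abbrev Sg : Type := Matrix.SpecialLinearGroup (Fin 2) K2

abbrev Og : Type := ↥(Cfsg.isometryGroup K2 (Cfsg.quadFormPlus 2 K2))

/-- the sign of `SL_2(2) ≅ S_3`, additively -/
def fK (g : Matrix (Fin 2) (Fin 2) K2) : K2 := g 0 0 + g 0 1 + g 1 0 + g 1 1 + g 0 1 * g 1 0

/-- inverse transpose (in characteristic two) -/
def phiM (g : Matrix (Fin 2) (Fin 2) K2) : Matrix (Fin 2) (Fin 2) K2 := !![g 1 1, g 1 0; g 0 1, g 0 0]

/-- the swap of the coordinates `x₂`, `y₂`: transposition of `[[x₁, x₂], [y₂, y₁]]` -/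
def tauM : Matrix κ κ K2 := Matrix.of fun k l => if k = Equiv.swap (Sum.inl 1) (Sum.inr 1) l then 1 else 0

theorem fK_mul_aux : ∀ a b c d a' b' c' d' : K2, a * d + b * c = 1 → a' * d' + b' * c' = 1 →
    fK (!![a, b; c, d] * !![a', b'; c', d']) = fK !![a, b; c, d] + fK !![a', b'; c', d'] := by decide

theorem tau_Lm_aux : ∀ a b c d : K2, tauM * Lm !![a, b; c, d] = Rm (phiM !![a, b; c, d]) * tauM := by decide

theorem tau_Rm_aux : ∀ a b c d : K2, tauM * Rm !![a, b; c, d] = Lm (phiM !![a, b; c, d]) * tauM := by decide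

theorem tau_sq : tauM * tauM = 1 := by decide

theorem tau_Q : ∀ v : κ → K2, Cfsg.quadFormPlus 2 K2 (tauM *ᵥ v) = Cfsg.quadFormPlus 2 K2 v := by decide

theorem fK_phiM_aux : ∀ a b c d : K2, fK (phiM !![a, b; c, d]) = fK !![a, b; c, d] := by decide

theorem det_aux (g : Sg) : g.1 0 0 * g.1 1 1 + g.1 0 1 * g.1 1 0 = 1 := by
  have h := g.2
  rw [Matrix.det_fin_two, CharTwo.sub_eq_add] at h
  exact h

theorem eta2 (g : Matrix (Fin 2) (Fin 2) K2) : !![g 0 0, g 0 1; g 1 0, g 1 1] = g :=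
  (Matrix.eta_fin_two g).symm

def sgnS : Sg →* Multiplicative K2 where
  toFun g := Multiplicative.ofAdd (fK g.1)
  map_one' := by decide
  map_mul' g h := by
    rw [Matrix.SpecialLinearGroup.coe_mul, ← ofAdd_add]
    congr 1
    have := fK_mul_aux _ _ _ _ _ _ _ _ (det_aux g) (det_aux h)
    rwa [eta2, eta2] at this

def phiS (g : Sg) : Sg := ⟨phiM g.1, by
  have h := det_aux g
  rw [Matrix.det_fin_two, CharTwo.sub_eq_add]
  simp only [phiM, Matrix.of_apply, Matrix.cons_val', Matrix.cons_val_zero, Matrix.cons_val_one,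
    Matrix.cons_val_fin_one]
  linear_combination h⟩

theorem sgnS_phiS (g : Sg) : sgnS (phiS g) = sgnS g := by
  show Multiplicative.ofAdd (fK (phiM g.1)) = Multiplicative.ofAdd (fK g.1)
  congr 1
  have := fK_phiM_aux (g.1 0 0) (g.1 0 1) (g.1 1 0) (g.1 1 1)
  rwa [eta2] at this

def tauG : GL κ K2 := ⟨tauM, tauM, tau_sq, tau_sq⟩

def tau : Og := ⟨tauG, by
  intro u _
  exact tau_Q u⟩

theorem tau_mul_tau : tau * tau = 1 := Subtype.ext (Units.ext tau_sq)

theorem tau_inv : tau⁻¹ = tau := inv_eq_of_mul_eq_one_right tau_mul_tau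

theorem tau_rhoL (g : Sg) : tau * rhoL g = rhoR (phiS g) * tau := by
  apply Subtype.ext
  apply Units.ext
  show tauM * Lm g.1 = Rm (phiM g.1) * tauM
  have := tau_Lm_aux (g.1 0 0) (g.1 0 1) (g.1 1 0) (g.1 1 1)
  rwa [eta2] at this

theorem tau_rhoR (g : Sg) : tau * rhoR g = rhoL (phiS g) * tau := by
  apply Subtype.ext
  apply Units.ext
  show tauM * Rm g.1 = Lm (phiM g.1) * tauM
  have := tau_Rm_aux (g.1 0 0) (g.1 0 1) (g.1 1 0) (g.1 1 1)
  rwa [eta2] at this

theorem rho_apply (a b : Sg) : rho (a, b) = rhoL a * rhoR b := rfl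

theorem tau_rho (a b : Sg) : tau * rho (a, b) = rho (phiS b, phiS a) * tau := by
  rw [rho_apply, rho_apply, ← mul_assoc, tau_rhoL, mul_assoc, tau_rhoR, ← mul_assoc,
    (rho_comm (phiS b) (phiS a)).eq]

theorem tau_rho_tau (a b : Sg) : tau * rho (a, b) * tau⁻¹ = rho (phiS b, phiS a) := by
  rw [tau_rho, mul_assoc, mul_inv_cancel, mul_one]

theorem rho_injective : Function.Injective (rho (F := K2)) := by
  rw [← MonoidHom.ker_eq_bot_iff]
  exact ker_rho_eq_bot (by decide)

/-! ### orders -/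

theorem card_K2 : Fintype.card K2 = 2 := ZMod.card 2

theorem card_Sg : Nat.card Sg = 6 := by
  have h := Cfsg.Agent.S0242.result (F := K2) (q := 2) card_K2 2 (by norm_num)
  simpa [Fin.prod_univ_two] using h

theorem card_Og : Nat.card Og = 72 := by
  have h := Cfsg.Agent.S0287.result (F := K2) (q := 2) card_K2 2 (by norm_num)
  rw [h]
  simp

theorem card_PSL : Nat.card (Matrix.ProjectiveSpecialLinearGroup (Fin 2) K2) = 6 := by
  have h := Cfsg.Agent.S0243.result (F := K2) (q := 2) card_K2 2 le_rfl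
  simpa [Fin.prod_univ_two] using h

theorem index_range : (rho (F := K2)).range.index = 2 := by
  have h1 := Subgroup.card_mul_index (rho (F := K2)).range
  have h2 : Nat.card ↥(rho (F := K2)).range = 36 := by
    rw [← Nat.card_congr (MonoidHom.ofInjective rho_injective).toEquiv, Nat.card_prod, card_Sg]
  rw [h2, card_Og] at h1
  omega

/-- a non-trivial element of `SL_2(2)` -/
def uS : Sg := ⟨!![1, 1; 0, 1], by decide⟩

theorem sgnS_uS : sgnS uS = Multiplicative.ofAdd 1 := by decide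

theorem tau_not_mem : tau ∉ (rho (F := K2)).range := by
  rintro ⟨⟨a, b⟩, hab⟩
  have h1 := tau_rho uS 1
  rw [← hab, ← map_mul, ← map_mul] at h1
  have h2 := rho_injective h1
  simp only [Prod.mk_mul_mk, Prod.mk.injEq] at h2
  have h3 : phiS uS = 1 := by
    have := h2.2
    rwa [mul_one, right_eq_mul] at this
  revert h3
  decide

/-! ### the subgroup of order 18 -/

/-- `(a, b) ↦ sgn a * sgn b` -/
def Dl : Sg × Sg →* Multiplicative K2 :=
  (sgnS.comp (MonoidHom.fst Sg Sg)) * (sgnS.comp (MonoidHom.snd Sg Sg))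

theorem Dl_apply (a b : Sg) : Dl (a, b) = sgnS a * sgnS b := rfl

theorem Dl_swap (a b : Sg) : Dl (phiS b, phiS a) = Dl (a, b) := by
  rw [Dl_apply, Dl_apply, sgnS_phiS, sgnS_phiS, mul_comm]

theorem Dl_surjective : Function.Surjective Dl := by
  intro y
  have : y = 1 ∨ y = Multiplicative.ofAdd 1 := by
    revert y
    decide
  rcases this with rfl | rfl
  · exact ⟨1, map_one _⟩
  · exact ⟨(uS, 1), by rw [Dl_apply, map_one, mul_one, sgnS_uS]⟩

/-- the image of `{(a, b) | sgn a = sgn b}` -/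
def Hs : Subgroup Og := (Dl.ker).map rho

theorem card_ker_Dl : Nat.card Dl.ker = 18 := by
  have h1 := Subgroup.card_mul_index Dl.ker
  rw [Subgroup.index_ker, MonoidHom.range_eq_top.2 Dl_surjective, Subgroup.card_top, Nat.card_prod,
    card_Sg] at h1
  have h2 : Nat.card (Multiplicative K2) = 2 := by
    rw [Nat.card_eq_fintype_card]
    rfl
  rw [h2] at h1
  omega

theorem card_Hs : Nat.card Hs = 18 := by
  unfold Hs
  rw [Subgroup.card_map_of_injective rho_injective]
  exact card_ker_Dl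

theorem decomp (x : Og) : x ∈ (rho (F := K2)).range ∨ tau * x ∈ (rho (F := K2)).range := by
  by_cases hx : x ∈ (rho (F := K2)).range
  · exact Or.inl hx
  · right
    rw [Subgroup.mul_mem_iff_of_index_two index_range]
    exact ⟨fun h => absurd h tau_not_mem, fun h => absurd h hx⟩

instance Hs_normal : Hs.Normal := by
  constructor
  rintro n ⟨k, hk, rfl⟩ x
  rcases decomp x with ⟨r, rfl⟩ | ⟨r, hr⟩
  · refine ⟨r * k * r⁻¹, (inferInstance : Dl.ker.Normal).conj_mem k hk r, ?_⟩
    rw [map_mul, map_mul, map_inv]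
  · have hx : x = tau * rho r := by
      rw [hr, ← mul_assoc, tau_mul_tau, one_mul]
    subst hx
    have hyk : r * k * r⁻¹ ∈ Dl.ker := (inferInstance : Dl.ker.Normal).conj_mem k hk r
    refine ⟨(phiS (r * k * r⁻¹).2, phiS (r * k * r⁻¹).1), ?_, ?_⟩
    · show _ ∈ Dl.ker
      rw [MonoidHom.mem_ker, Dl_swap]
      exact hyk
    · rw [← tau_rho_tau (r * k * r⁻¹).1 (r * k * r⁻¹).2]
      show tau * rho (r * k * r⁻¹) * tau⁻¹ = _
      rw [map_mul, map_mul, map_inv]
      group

theorem index_Hs : Hs.index = 4 := by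
  have h1 := Subgroup.card_mul_index Hs
  rw [card_Hs, card_Og] at h1
  omega

theorem Omega_le_Hs : Cfsg.Omega K2 (Cfsg.quadFormPlus 2 K2) ≤ Hs := by
  have hc : Nat.card (Og ⧸ Hs) = 2 ^ 2 := by
    rw [← Subgroup.index_eq_card, index_Hs]
    norm_num
  have hcomm := IsPGroup.isMulCommutative_of_card_eq_prime_sq (p := 2) hc
  show commutator Og ≤ Hs
  rw [commutator_def, Subgroup.commutator_le]
  intro g₁ _ g₂ _
  have h1 : ((⁅g₁, g₂⁆ : Og) : Og ⧸ Hs) = 1 := by
    rw [commutatorElement_def]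
    simp only [QuotientGroup.mk_mul, QuotientGroup.mk_inv]
    have h2 := hcomm.is_comm.comm (g₁ : Og ⧸ Hs) (g₂ : Og ⧸ Hs)
    rw [h2]
    group
  exact (QuotientGroup.eq_one_iff _).1 h1

theorem Omega_le_range : Cfsg.Omega K2 (Cfsg.quadFormPlus 2 K2) ≤ (rho (F := K2)).range :=
  Omega_le_Hs.trans (Subgroup.map_le_range _ _)

/-! ### the projection `Ω → SL_2(2)` -/

/-- first component of `ρ⁻¹` -/
noncomputable def piO : ↥(Cfsg.Omega K2 (Cfsg.quadFormPlus 2 K2)) →* Sg :=
  (MonoidHom.fst Sg Sg).comp ((MonoidHom.ofInjective rho_injective).symm.toMonoidHom.comp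
    (Subgroup.inclusion Omega_le_range))

theorem piO_apply (x : ↥(Cfsg.Omega K2 (Cfsg.quadFormPlus 2 K2))) (y : Sg × Sg) (h : rho y = x.1) :
    piO x = y.1 := by
  have h1 : (MonoidHom.ofInjective rho_injective).symm (Subgroup.inclusion Omega_le_range x) = y := by
    rw [MulEquiv.symm_apply_eq]
    apply Subtype.ext
    rw [MonoidHom.ofInjective_apply]
    exact h.symm
  show ((MonoidHom.ofInjective rho_injective).symm (Subgroup.inclusion Omega_le_range x)).1 = y.1
  rw [h1]

theorem piO_surjective : Function.Surjective piO := by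
  intro g
  have hmem : ⁅tau, rhoL g⁻¹⁆ ∈ Cfsg.Omega K2 (Cfsg.quadFormPlus 2 K2) := by
    show _ ∈ commutator Og
    rw [commutator_def]
    exact Subgroup.commutator_mem_commutator (Subgroup.mem_top _) (Subgroup.mem_top _)
  refine ⟨⟨_, hmem⟩, ?_⟩
  rw [piO_apply _ (g, phiS g⁻¹)]
  show rho (g, phiS g⁻¹) = ⁅tau, rhoL g⁻¹⁆
  rw [commutatorElement_def, tau_rhoL, mul_assoc (rhoR _), mul_inv_cancel, mul_one, ← map_inv, inv_inv,
    rho_apply, (rho_comm _ _).eq]

theorem center_le : Subgroup.center ↥(Cfsg.Omega K2 (Cfsg.quadFormPlus 2 K2)) ≤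
    (Subgroup.center Sg).comap piO := by
  intro z hz
  rw [Subgroup.mem_comap, Subgroup.mem_center_iff]
  intro s
  obtain ⟨w, rfl⟩ := piO_surjective s
  rw [← map_mul, ← map_mul, Subgroup.mem_center_iff.1 hz w]

/-- `PΩ⁺_4(2) → PSL_2(2)` -/
noncomputable def piP : Cfsg.POmega K2 (Cfsg.quadFormPlus 2 K2) →*
    Matrix.ProjectiveSpecialLinearGroup (Fin 2) K2 :=
  QuotientGroup.map _ _ piO center_le

theorem piP_surjective : Function.Surjective piP := by
  intro y
  obtain ⟨s, rfl⟩ := QuotientGroup.mk_surjective y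
  obtain ⟨w, rfl⟩ := piO_surjective s
  exact ⟨(w : Cfsg.POmega K2 (Cfsg.quadFormPlus 2 K2)), rfl⟩

theorem hasSteinberg_K2 : HasSteinberg 2 (Cfsg.POmega K2 (Cfsg.quadFormPlus 2 K2)) := by
  apply hasSteinberg_of_surjective 2 piP piP_surjective ?_ (hasSteinberg_PSL 2 2 le_rfl)
  intro h2
  have h1 := Subgroup.card_mul_index piP.ker
  rw [Subgroup.index_ker, MonoidHom.range_eq_top.2 piP_surjective, Subgroup.card_top, card_PSL] at h1
  have h3 : Nat.card (Cfsg.POmega K2 (Cfsg.quadFormPlus 2 K2)) ∣ 18 := by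
    refine (Subgroup.card_quotient_dvd_card _).trans ?_
    rw [← card_Hs]
    exact Subgroup.card_dvd_of_le Omega_le_Hs
  rw [← h1] at h3
  obtain ⟨c, hc⟩ := h2
  obtain ⟨d, hd⟩ := h3
  rw [hc] at hd
  have : 18 = 4 * (3 * c * d) := by rw [hd]; ring
  omega

/-! ### any field with two elements -/

theorem map_commutator_eq' {G G' : Type*} [Group G] [Group G'] (ψ : G ≃* G') :
    (commutator G).map ψ.toMonoidHom = commutator G' := by
  rw [commutator_def, commutator_def, Subgroup.map_commutator,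
    Subgroup.map_top_of_surjective ψ.toMonoidHom ψ.surjective]

/-- the induced isomorphism of commutator subgroups -/
noncomputable def commCongr {G G' : Type*} [Group G] [Group G'] (ψ : G ≃* G') :
    ↥(commutator G) ≃* ↥(commutator G') :=
  (ψ.subgroupMap (commutator G)).trans (MulEquiv.subgroupCongr (map_commutator_eq' ψ))

/-- **`m = 2`, `q = 2`**: `PΩ⁺_4(2)`, of order 18 -/
theorem hasSteinberg_plus_two_two {F : Type*} [Field F] [Fintype F] (p : ℕ) [Fact p.Prime] [CharP F p]
    (hF : Fintype.card F = 2) : HasSteinberg p (Cfsg.POmega F (Cfsg.quadFormPlus 2 F)) := by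
  have hp : p = 2 := by
    have h0 : ((2 : ℕ) : F) = 0 := by
      rw [← hF]
      exact Nat.cast_card_eq_zero F
    have h1 := (CharP.cast_eq_zero_iff F p 2).1 h0
    exact (Nat.prime_dvd_prime_iff_eq Fact.out Nat.prime_two).1 h1
  subst hp
  let e : F ≃+* K2 := (ZMod.ringEquivOfPrime F Nat.prime_two hF).symm
  have hQ : ∀ v : κ → F, Cfsg.quadFormPlus 2 K2 (⇑e ∘ v) = e (Cfsg.quadFormPlus 2 F v) := by
    intro v
    simp [Cfsg.quadFormPlus, map_mul]
  exact HasSteinberg.center_of_mulEquiv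
    (commCongr (Cfsg.Agent.Lib.H29.IsoTransport.isoEquiv e _ _ hQ).symm) 2 hasSteinberg_K2

end Cfsg.Agent.Lib.H1.StSmall
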