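import Mathlib
import Cfsg.Agent.Lib.H14.ThetaDefs

/-!
# S1632 piece LA-a (helper1): the Schur complement step, first four lemmas
-/

set_option autoImplicit false

namespace Cfsg.Agent.Lib.H1.Theta

open Complex Matrix UpperHalfPlane ModularForm ModularFormClass MatrixGroups EisensteinSeries
open Cfsg.Agent.Lib.H14.Theta

theorem laa_qfR_eq_dot {m : ℕ} (A : Matrix (Fin m) (Fin m) ℝ) (x : Fin m → ℝ) :
    qfR A x = x ⬝ᵥ (A *ᵥ x) := by
  unfold qfR dotProduct mulVec dotProduct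
  refine Finset.sum_congr rfl fun i _ => ?_
  rw [Finset.mul_sum]
  refine Finset.sum_congr rfl fun j _ => ?_
  ring

theorem laa_qfR_cons {n : ℕ} (A : Matrix (Fin (n + 1)) (Fin (n + 1)) ℝ) (x₀ : ℝ) (x' : Fin n → ℝ) :
    qfR A (Fin.cons x₀ x') =
      A 0 0 * x₀ ^ 2 + x₀ * (∑ j, A 0 j.succ * x' j) + x₀ * (∑ i, A i.succ 0 * x' i) +
        ∑ i, ∑ j, A i.succ j.succ * x' i * x' j := by
  unfold qfR
  rw [Fin.sum_univ_succ]
  simp only [Fin.sum_univ_succ, Fin.cons_zero, Fin.cons_succ]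
  rw [Finset.sum_add_distrib, Finset.mul_sum, Finset.mul_sum]
  have h1 : ∑ j, A 0 j.succ * x₀ * x' j = ∑ j, x₀ * (A 0 j.succ * x' j) :=
    Finset.sum_congr rfl fun j _ => by ring
  have h2 : ∑ i, A i.succ 0 * x' i * x₀ = ∑ i, x₀ * (A i.succ 0 * x' i) :=
    Finset.sum_congr rfl fun j _ => by ring
  rw [h1, h2]
  ring

section LA

variable {n : ℕ} (A C : Matrix (Fin (n + 1)) (Fin (n + 1)) ℝ)

/-- **LA1**. -/
theorem schur_pos (hA : IsPD A) : 0 < A 0 0 := by
  have h := hA.2 (Fin.cons 1 0) (by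
    intro h0
    have := congrFun h0 0
    simp at this)
  rw [laa_qfR_cons] at h
  simpa using h

/-- **LA2**. -/
theorem schur_isPD (hA : IsPD A) : IsPD (schurA A) := by
  have ha := schur_pos A hA
  have hsym : ∀ i j, A i j = A j i := fun i j => by
    have := hA.1
    exact (congrFun (congrFun this j) i).symm ▸ rfl
  refine ⟨?_, ?_⟩
  · ext i j
    simp only [Matrix.transpose_apply, schurA]
    rw [hsym j.succ i.succ, hsym j.succ 0, hsym 0 i.succ]
    ring
  · intro x' hx'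
    set β : ℝ := ∑ j, A 0 j.succ * x' j with hβ
    have hβ' : ∑ i, A i.succ 0 * x' i = β := by
      rw [hβ]; exact Finset.sum_congr rfl fun i _ => by rw [hsym i.succ 0]
    have hne : (Fin.cons (-β / A 0 0) x' : Fin (n + 1) → ℝ) ≠ 0 := by
      intro h0
      apply hx'
      funext j
      have := congrFun h0 j.succ
      simpa using this
    have hpos := hA.2 _ hne
    rw [laa_qfR_cons, hβ'] at hpos
    have hS : qfR (schurA A) x' = (∑ i, ∑ j, A i.succ j.succ * x' i * x' j) - β ^ 2 / A 0 0 := by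
      unfold qfR schurA
      have : ∀ i, ∑ j, (A i.succ j.succ - A i.succ 0 * A 0 j.succ / A 0 0) * x' i * x' j
          = (∑ j, A i.succ j.succ * x' i * x' j) - (A i.succ 0 * x' i) * β / A 0 0 := by
        intro i
        rw [hβ, Finset.mul_sum, Finset.sum_div, ← Finset.sum_sub_distrib]
        refine Finset.sum_congr rfl fun j _ => ?_
        field_simp
      rw [Finset.sum_congr rfl fun i _ => this i, Finset.sum_sub_distrib]
      congr 1
      rw [← Finset.sum_div, ← Finset.sum_mul, hβ']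
      ring
    rw [hS]
    have ha' : A 0 0 ≠ 0 := ha.ne'
    have : A 0 0 * (-β / A 0 0) ^ 2 + -β / A 0 0 * β + -β / A 0 0 * β = - (β ^ 2 / A 0 0) := by
      field_simp
      ring
    linarith

/-- **LA3**. -/
theorem schur_inv (hA : IsPD A) (hAC : A * C = 1) : schurA A * lowerC C = 1 := by
  have ha := schur_pos A hA
  have ha' : A 0 0 ≠ 0 := ha.ne'
  ext i j
  have h1 : (A * C) i.succ j.succ = (1 : Matrix (Fin (n + 1)) (Fin (n + 1)) ℝ) i.succ j.succ := by rw [hAC]
  have h2 : (A * C) 0 j.succ = (1 : Matrix (Fin (n + 1)) (Fin (n + 1)) ℝ) 0 j.succ := by rw [hAC]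
  rw [Matrix.mul_apply, Fin.sum_univ_succ] at h1 h2
  have h2' : (1 : Matrix (Fin (n + 1)) (Fin (n + 1)) ℝ) 0 j.succ = 0 :=
    Matrix.one_apply_ne (Fin.succ_ne_zero j).symm
  rw [h2'] at h2
  have h1' : (1 : Matrix (Fin (n + 1)) (Fin (n + 1)) ℝ) i.succ j.succ = (1 : Matrix (Fin n) (Fin n) ℝ) i j := by
    simp [Matrix.one_apply]
  rw [h1'] at h1
  rw [Matrix.mul_apply, ← h1]
  unfold schurA lowerC
  have : ∀ k : Fin n, (A i.succ k.succ - A i.succ 0 * A 0 k.succ / A 0 0) * C k.succ j.succ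
      = A i.succ k.succ * C k.succ j.succ - A i.succ 0 / A 0 0 * (A 0 k.succ * C k.succ j.succ) := by
    intro k; ring
  rw [Finset.sum_congr rfl fun k _ => this k, Finset.sum_sub_distrib, ← Finset.mul_sum]
  have h3 : ∑ k : Fin n, A 0 k.succ * C k.succ j.succ = - (A 0 0 * C 0 j.succ) := by linarith
  rw [h3]
  field_simp
  ring

end LA

/-- **LA4**. -/
theorem isPD_inv {m : ℕ} (A C : Matrix (Fin m) (Fin m) ℝ) (hA : IsPD A) (hAC : A * C = 1) : IsPD C := by
  have hCA : C * A = 1 := _root_.mul_eq_one_comm.mp hAC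
  refine ⟨?_, ?_⟩
  · -- Cᵀ = Cᵀ (A C) = (Cᵀ Aᵀ) C = (A C)ᵀ C = C
    have hAt : Aᵀ = A := hA.1
    have h1 : Cᵀ * A = 1 := by
      have : (A * C)ᵀ = 1 := by rw [hAC, Matrix.transpose_one]
      rwa [Matrix.transpose_mul, hAt] at this
    calc Cᵀ = Cᵀ * (A * C) := by rw [hAC, Matrix.mul_one]
      _ = (Cᵀ * A) * C := by rw [Matrix.mul_assoc]
      _ = C := by rw [h1, Matrix.one_mul]
  · intro y hy
    have hne : C *ᵥ y ≠ 0 := by
      intro h0
      apply hy
      have : A *ᵥ (C *ᵥ y) = y := by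
        rw [Matrix.mulVec_mulVec, hAC, Matrix.one_mulVec]
      rw [← this, h0, Matrix.mulVec_zero]
    have hpos := hA.2 _ hne
    rw [laa_qfR_eq_dot, Matrix.mulVec_mulVec, hAC, Matrix.one_mulVec, dotProduct_comm] at hpos
    rw [laa_qfR_eq_dot]
    exact hpos

end Cfsg.Agent.Lib.H1.Theta
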