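import Mathlib
import Cfsg.Agent.Lib.H14.ThetaDefs

/-!
# S1632 piece TH2 (helper1): a convergent `q`-expansion + the `S`-functional equation give a level one modular form
-/

set_option autoImplicit false

namespace Cfsg.Agent.Lib.H1.Theta

open Complex Matrix UpperHalfPlane ModularForm ModularFormClass MatrixGroups EisensteinSeries
open Cfsg.Agent.Lib.H14.Theta

theorem th2_qParam_add_one (z : ℂ) :
    Function.Periodic.qParam 1 (z + 1) = Function.Periodic.qParam 1 z := by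
  unfold Function.Periodic.qParam
  have h : 2 * (Real.pi : ℂ) * Complex.I * (z + 1) / ((1 : ℝ) : ℂ)
      = 2 * (Real.pi : ℂ) * Complex.I * z / ((1 : ℝ) : ℂ) + 2 * Real.pi * Complex.I := by
    push_cast; ring
  rw [h, Complex.exp_periodic]

/-- the value of a function with a `q`-expansion is invariant under `τ ↦ τ + 1` -/
theorem th2_T_inv (θ : ℍ → ℂ) (c : ℕ → ℂ)
    (hq : ∀ τ : ℍ, HasSum (fun m : ℕ => c m • Function.Periodic.qParam 1 (τ : ℂ) ^ m) (θ τ))
    (τ : ℍ) : θ ((1 : ℝ) +ᵥ τ) = θ τ := by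
  have h1 := hq ((1 : ℝ) +ᵥ τ)
  have h2 := hq τ
  have hper : Function.Periodic.qParam 1 (((1 : ℝ) +ᵥ τ : ℍ) : ℂ) = Function.Periodic.qParam 1 (τ : ℂ) := by
    have : (((1 : ℝ) +ᵥ τ : ℍ) : ℂ) = (τ : ℂ) + 1 := by
      simp [UpperHalfPlane.coe_vadd, add_comm]
    rw [this, th2_qParam_add_one]
  rw [hper] at h1
  exact h1.unique h2

set_option backward.isDefEq.respectTransparency false in
theorem th2_denom_T (z : ℍ) : denom ModularGroup.T z = 1 := by
  simp [ModularGroup.T, ModularGroup.denom_apply]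

theorem th2_slash_T (θ : ℍ → ℂ) (c : ℕ → ℂ)
    (hq : ∀ τ : ℍ, HasSum (fun m : ℕ => c m • Function.Periodic.qParam 1 (τ : ℂ) ^ m) (θ τ)) :
    (θ ∣[(12 : ℤ)] ModularGroup.T) = θ := by
  ext z
  rw [SL_slash_apply, th2_denom_T, modular_T_smul]
  simp [th2_T_inv θ c hq z]

theorem th2_slash_S (θ : ℍ → ℂ)
    (hS : ∀ τ : ℍ, θ (ModularGroup.S • τ) = (τ : ℂ) ^ 12 * θ τ) :
    (θ ∣[(12 : ℤ)] ModularGroup.S) = θ := by
  ext z
  rw [SL_slash_apply, hS z, ModularGroup.denom_S]
  have hz : (z : ℂ) ≠ 0 := z.ne_zero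
  have h12 : (z : ℂ) ^ (-(12 : ℤ)) = ((z : ℂ) ^ 12)⁻¹ := by
    rw [_root_.zpow_neg]; norm_cast
  rw [h12]
  field_simp


/-- the power series `Σ c m q^m` has radius of convergence at least `1` -/
theorem th2_radius (θ : ℍ → ℂ) (c : ℕ → ℂ)
    (hq : ∀ τ : ℍ, HasSum (fun m : ℕ => c m • Function.Periodic.qParam 1 (τ : ℂ) ^ m) (θ τ)) :
    1 ≤ (FormalMultilinearSeries.ofScalars ℂ c).radius := by
  refine le_of_forall_lt_imp_le_of_dense fun r hr ↦ ?_
  rcases eq_or_ne r 0 with rfl | hr'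
  · simp
  · lift r to NNReal using hr.ne_top
    have hr1 : (r : ℝ) < 1 := by exact_mod_cast hr
    have hr0 : (r : ℝ) ≠ 0 := by exact_mod_cast hr'
    have hrpos : 0 < (r : ℝ) := lt_of_le_of_ne r.2 (Ne.symm hr0)
    let : FiniteDimensional ℝ ℂ := Complex.basisOneI.finiteDimensional_of_finite
    apply FormalMultilinearSeries.le_radius_of_summable
    have hqn : ‖((r : ℝ) : ℂ)‖ < 1 := by
      rw [Complex.norm_real, Real.norm_eq_abs, abs_of_pos hrpos]; exact hr1
    have hq0 : ((r : ℝ) : ℂ) ≠ 0 := by exact_mod_cast hr0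
    have h1 := Function.Periodic.im_invQParam_pos_of_norm_lt_one (h := 1) one_pos hqn hq0
    have h2 := hq ⟨Function.Periodic.invQParam 1 ((r : ℝ) : ℂ), h1⟩
    have h3 : Function.Periodic.qParam 1 (((⟨Function.Periodic.invQParam 1 ((r : ℝ) : ℂ), h1⟩ : ℍ)) : ℂ)
        = ((r : ℝ) : ℂ) := Function.Periodic.qParam_right_inv one_ne_zero hq0
    rw [h3] at h2
    have h4 := h2.summable.norm
    refine h4.congr fun n => ?_
    rw [FormalMultilinearSeries.ofScalars_norm, norm_smul, norm_pow, Complex.norm_real,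
      Real.norm_eq_abs, abs_of_pos hrpos]


/-- `θ` is the power series evaluated at the `q`-parameter -/
theorem th2_eq_sum (θ : ℍ → ℂ) (c : ℕ → ℂ)
    (hq : ∀ τ : ℍ, HasSum (fun m : ℕ => c m • Function.Periodic.qParam 1 (τ : ℂ) ^ m) (θ τ)) (τ : ℍ) :
    θ τ = (FormalMultilinearSeries.ofScalars ℂ c).sum (Function.Periodic.qParam 1 (τ : ℂ)) := by
  have h := (hq τ).tsum_eq
  rw [← h]
  exact (FormalMultilinearSeries.ofScalars_sum_eq c _).symm

theorem th2_diffOn (θ : ℍ → ℂ) (c : ℕ → ℂ)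
    (hq : ∀ τ : ℍ, HasSum (fun m : ℕ => c m • Function.Periodic.qParam 1 (τ : ℂ) ^ m) (θ τ)) :
    DifferentiableOn ℂ (θ ∘ UpperHalfPlane.ofComplex) {z : ℂ | 0 < z.im} := by
  have hrad := th2_radius θ c hq
  have hpos : 0 < (FormalMultilinearSeries.ofScalars ℂ c).radius := lt_of_lt_of_le one_pos hrad
  have hfp := (FormalMultilinearSeries.ofScalars ℂ c).hasFPowerSeriesOnBall hpos
  have hd := hfp.differentiableOn
  have hcomp : DifferentiableOn ℂ
      (fun z : ℂ => (FormalMultilinearSeries.ofScalars ℂ c).sum (Function.Periodic.qParam 1 z))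
      {z : ℂ | 0 < z.im} := by
    refine hd.comp (Function.Periodic.differentiable_qParam (h := 1)).differentiableOn ?_
    intro z hz
    have hlt := Function.Periodic.norm_qParam_lt_one (h := 1) one_pos hz
    rw [Metric.mem_eball, edist_zero_right]
    refine lt_of_lt_of_le ?_ hrad
    rw [← ofReal_norm]
    exact_mod_cast (ENNReal.ofReal_lt_one.mpr hlt)
  refine hcomp.congr fun z hz => ?_
  simp only [Function.comp_apply]
  rw [th2_eq_sum θ c hq, UpperHalfPlane.ofComplex_apply_of_im_pos hz]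


/-- **TH2**. -/
theorem exists_modularForm_of_qExpansion (θ : ℍ → ℂ) (c : ℕ → ℂ)
    (hq : ∀ τ : ℍ, HasSum (fun m : ℕ => c m • Function.Periodic.qParam 1 (τ : ℂ) ^ m) (θ τ))
    (hS : ∀ τ : ℍ, θ (ModularGroup.S • τ) = (τ : ℂ) ^ 12 * θ τ) :
    ∃ F : ModularForm 𝒮ℒ 12, ∀ τ : ℍ, F τ = θ τ := by
  have hSs := th2_slash_S θ hS
  have hTs := th2_slash_T θ c hq
  refine ⟨{ toFun := θ
            slash_action_eq' := ?_
            holo' := ?_
            bdd_at_cusps' := ?_ }, fun τ => rfl⟩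
  · intro A hA
    obtain ⟨A, rfl⟩ := hA
    exact SlashInvariantForm.slash_action_generators_SL2Z hSs hTs A
  · rw [UpperHalfPlane.mdifferentiable_iff]
    exact th2_diffOn θ c hq
  · intro cc hc
    rw [Subgroup.IsArithmetic.isCusp_iff_isCusp_SL2Z] at hc
    rw [OnePoint.isBoundedAt_iff_forall_SL2Z hc]
    intro γ _
    rw [SlashInvariantForm.slash_action_generators_SL2Z hSs hTs]
    exact isBoundedAtImInfty_of_hasSum_qExpansion one_pos hq

end Cfsg.Agent.Lib.H1.Theta
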