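import Mathlib

/-!
Linear algebra lemmas over `ZMod 2` used for S4414:
* `Tpq.card_le_finrank_of_semiconj` : eigenvalue orbit count through the minimal polynomial.
* `Tpq.finrank_le_two_mul_ker` : an operator of square zero has a big kernel.
-/

namespace Cfsg.Agent.Lib.H1.Tpq

open Polynomial

theorem aeval_mul_of_semiconj {K V : Type*} [Field K] [AddCommGroup V] [Module K V]
    (X Y g : Module.End K V) (h : X * g = g * Y) (P : K[X]) :
    (aeval X P) * g = g * (aeval Y P) := by
  have hpow : ∀ n : ℕ, X ^ n * g = g * Y ^ n := by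
    intro n
    induction n with
    | zero => simp
    | succ n ih => rw [pow_succ, pow_succ, mul_assoc, h, ← mul_assoc, ih, mul_assoc]
  induction P using Polynomial.induction_on' with
  | add p q hp hq => rw [map_add, map_add, add_mul, mul_add, hp, hq]
  | monomial n a =>
    rw [aeval_monomial, aeval_monomial, mul_assoc, hpow n, ← mul_assoc, ← mul_assoc]
    congr 1
    exact (Algebra.commutes a g)

theorem natDegree_minpoly_le_finrank {K V : Type*} [Field K] [AddCommGroup V] [Module K V]
    [FiniteDimensional K V] (X : Module.End K V) :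
    (minpoly K X).natDegree ≤ Module.finrank K V := by
  have h1 := LinearMap.minpoly_dvd_charpoly X
  have h2 : X.charpoly ≠ 0 := (LinearMap.charpoly_monic X).ne_zero
  have h3 := Polynomial.natDegree_le_of_dvd h1 h2
  rwa [LinearMap.charpoly_natDegree] at h3

theorem card_le_finrank_of_semiconj {V : Type*} [AddCommGroup V] [Module (ZMod 2) V]
    [FiniteDimensional (ZMod 2) V] [Nontrivial V]
    (p : ℕ) (hp : p.Prime) (hp2 : p ≠ 2) (X : Module.End (ZMod 2) V)
    (hΦ : ∑ i ∈ Finset.range p, X ^ i = 0)
    (J : Finset ℕ) (hJ : ∀ u ∈ J, u < p)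
    (hg : ∀ u ∈ J, ∃ g : Module.End (ZMod 2) V, Function.Injective g ∧ X * g = g * X ^ u) :
    J.card ≤ Module.finrank (ZMod 2) V := by
  classical
  have : Fact p.Prime := ⟨hp⟩
  set μ := minpoly (ZMod 2) X with hμ
  have hint : IsIntegral (ZMod 2) X := LinearMap.isIntegral X
  -- `μ ∣ μ.comp (X^u)`
  have hdvd : ∀ u ∈ J, μ ∣ μ.comp (Polynomial.X ^ u) := by
    intro u hu
    obtain ⟨g, hginj, hgX⟩ := hg u hu
    have h1 := aeval_mul_of_semiconj X (X ^ u) g hgX μ
    rw [hμ, minpoly.aeval, zero_mul] at h1
    have h2 : aeval (X ^ u) μ = 0 := by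
      apply LinearMap.ext
      intro v
      apply hginj
      have := congrArg (fun f : Module.End (ZMod 2) V => f v) h1
      simp only [Module.End.mul_apply, LinearMap.zero_apply] at this
      rw [LinearMap.zero_apply, map_zero]
      exact this.symm
    apply minpoly.dvd
    rw [aeval_comp, map_pow, aeval_X]
    exact h2
  -- a root in the algebraic closure
  let L := AlgebraicClosure (ZMod 2)
  obtain ⟨z, hz⟩ := IsAlgClosed.exists_aeval_eq_zero L μ (minpoly.degree_pos hint).ne'
  -- `μ ∣ Φ`
  have hΦdvd : μ ∣ ∑ i ∈ Finset.range p, (Polynomial.X : (ZMod 2)[X]) ^ i := by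
    apply minpoly.dvd
    rw [map_sum]
    simp only [map_pow, aeval_X]
    exact hΦ
  have hzΦ : ∑ i ∈ Finset.range p, z ^ i = 0 := by
    obtain ⟨c, hc⟩ := hΦdvd
    have := congrArg (aeval z) hc
    rw [map_mul, hz, zero_mul, map_sum] at this
    simpa only [map_pow, aeval_X] using this
  have hzp : z ^ p = 1 := by
    have := geom_sum_mul z p
    rw [hzΦ, zero_mul] at this
    exact (sub_eq_zero.1 this.symm)
  have hz1 : z ≠ 1 := by
    intro h1
    rw [h1] at hzΦ
    simp only [one_pow, Finset.sum_const, Finset.card_range, nsmul_eq_mul, mul_one] at hzΦ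
    have hodd : p % 2 = 1 := by
      rcases hp.eq_two_or_odd with h | h
      · exact absurd h hp2
      · exact h
    have hc : (p : L) = 1 := by
      have h2 : (p : ZMod 2) = 1 := by
        have : ((p % 2 : ℕ) : ZMod 2) = (p : ZMod 2) := by
          rw [ZMod.natCast_mod]
        rw [← this, hodd]; simp
      have : (p : L) = algebraMap (ZMod 2) L (p : ZMod 2) := by simp
      rw [this, h2, map_one]
    rw [hc] at hzΦ
    exact one_ne_zero hzΦ
  have hord : orderOf z = p := orderOf_eq_prime hzp hz1
  have hroot : ∀ u ∈ J, aeval (z ^ u) μ = 0 := by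
    intro u hu
    obtain ⟨c, hc⟩ := hdvd u hu
    have := congrArg (aeval z) hc
    rw [map_mul, hz, zero_mul, aeval_comp, map_pow, aeval_X] at this
    exact this
  have hμ0 : μ ≠ 0 := minpoly.ne_zero hint
  have hmap0 : μ.map (algebraMap (ZMod 2) L) ≠ 0 :=
    (Polynomial.map_ne_zero_iff (algebraMap (ZMod 2) L).injective).2 hμ0
  have hsub : J.image (fun u => z ^ u) ⊆ (μ.map (algebraMap (ZMod 2) L)).roots.toFinset := by
    intro w hw
    obtain ⟨u, hu, rfl⟩ := Finset.mem_image.1 hw
    rw [Multiset.mem_toFinset, Polynomial.mem_roots hmap0, IsRoot.def, eval_map_algebraMap]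
    exact hroot u hu
  have hinj : Set.InjOn (fun u => z ^ u) (J : Set ℕ) := by
    intro a ha b hb hab
    apply pow_injOn_Iio_orderOf (x := z)
    · rw [hord]; exact hJ a ha
    · rw [hord]; exact hJ b hb
    · exact hab
  calc J.card = (J.image (fun u => z ^ u)).card := (Finset.card_image_of_injOn hinj).symm
    _ ≤ (μ.map (algebraMap (ZMod 2) L)).roots.toFinset.card := Finset.card_le_card hsub
    _ ≤ Multiset.card (μ.map (algebraMap (ZMod 2) L)).roots := Multiset.toFinset_card_le _
    _ ≤ (μ.map (algebraMap (ZMod 2) L)).natDegree := Polynomial.card_roots' _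
    _ = μ.natDegree := Polynomial.natDegree_map _
    _ ≤ Module.finrank (ZMod 2) V := natDegree_minpoly_le_finrank X

theorem finrank_le_two_mul_ker {K V : Type*} [Field K] [AddCommGroup V] [Module K V]
    [FiniteDimensional K V] (N : V →ₗ[K] V) (h : ∀ v, N (N v) = 0) :
    Module.finrank K V ≤ 2 * Module.finrank K (LinearMap.ker N) := by
  have h1 := LinearMap.finrank_range_add_finrank_ker N
  have h2 : LinearMap.range N ≤ LinearMap.ker N := by
    rintro _ ⟨v, rfl⟩
    exact h v
  have h3 := Submodule.finrank_mono h2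
  omega

end Cfsg.Agent.Lib.H1.Tpq
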