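import Cfsg.Agent.Lib.H1.TpqA

/-!
Fixed points of subgroups in a representation over `ZMod 2`, and the bound
`|P₀| * dim W ≤ |P| * dim (W ∩ fix P)` for a `2`-group `P` acting on `W` with `P₀ ≤ P` trivial.
-/

namespace Cfsg.Agent.Lib.H1.Tpq

variable {S : Type*} [Group S] {E : Type*} [AddCommGroup E] [Module (ZMod 2) E]

/-- Fixed points of the subgroup `H`. -/
def fix (ρ : Representation (ZMod 2) S E) (H : Subgroup S) : Submodule (ZMod 2) E where
  carrier := {v | ∀ h ∈ H, ρ h v = v}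
  add_mem' := by
    intro a b ha hb h hh
    rw [map_add, ha h hh, hb h hh]
  zero_mem' := by
    intro h _
    exact map_zero _
  smul_mem' := by
    intro c v hv h hh
    rw [map_smul, hv h hh]

theorem mem_fix (ρ : Representation (ZMod 2) S E) (H : Subgroup S) (v : E) :
    v ∈ fix ρ H ↔ ∀ h ∈ H, ρ h v = v := Iff.rfl

theorem fix_anti (ρ : Representation (ZMod 2) S E) {H K : Subgroup S} (h : H ≤ K) :
    fix ρ K ≤ fix ρ H := fun _ hv x hx => hv x (h hx)

theorem rho_mul (ρ : Representation (ZMod 2) S E) (g h : S) (v : E) :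
    ρ (g * h) v = ρ g (ρ h v) := by
  rw [map_mul]; rfl

theorem rho_one (ρ : Representation (ZMod 2) S E) (v : E) : ρ 1 v = v := by
  rw [map_one]; rfl

theorem rho_inv_cancel (ρ : Representation (ZMod 2) S E) (g : S) (v : E) :
    ρ g⁻¹ (ρ g v) = v := by
  rw [← rho_mul, inv_mul_cancel, rho_one]

theorem rho_cancel_inv (ρ : Representation (ZMod 2) S E) (g : S) (v : E) :
    ρ g (ρ g⁻¹ v) = v := by
  rw [← rho_mul, mul_inv_cancel, rho_one]

theorem rho_injective (ρ : Representation (ZMod 2) S E) (g : S) : Function.Injective (ρ g) := by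
  intro a b hab
  have := congrArg (ρ g⁻¹) hab
  rwa [rho_inv_cancel, rho_inv_cancel] at this

/-- `ρ g` maps `fix H` into `fix H'` when `g H g⁻¹ ⊇ H'`. -/
theorem map_mem_fix (ρ : Representation (ZMod 2) S E) {H H' : Subgroup S} (g : S)
    (hconj : ∀ h ∈ H', g⁻¹ * h * g ∈ H) {v : E} (hv : v ∈ fix ρ H) : ρ g v ∈ fix ρ H' := by
  intro h hh
  have h1 : h * g = g * (g⁻¹ * h * g) := by group
  rw [← rho_mul, h1, rho_mul, hv _ (hconj h hh)]

section LemmaJ

variable [Finite S] [Finite E]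

theorem exists_index_two (P P₀ : Subgroup S) (hP : IsPGroup 2 P) (hle : P₀ ≤ P) (hne : P₀ ≠ P) :
    ∃ P₁ : Subgroup S, P₀ ≤ P₁ ∧ P₁ ≤ P ∧ Nat.card P = 2 * Nat.card P₁ ∧
      (∀ g ∈ P, ∀ h ∈ P₁, g⁻¹ * h * g ∈ P₁) ∧
      (∃ t ∈ P, t ∉ P₁ ∧ t * t ∈ P₁ ∧ ∀ g ∈ P, g ∈ P₁ ∨ t⁻¹ * g ∈ P₁) := by
  classical
  have : Fact (Nat.Prime 2) := ⟨Nat.prime_two⟩
  obtain ⟨a, ha⟩ := (IsPGroup.iff_card).1 hP
  have hP₀ : IsPGroup 2 (P₀.subgroupOf P) := hP.to_subgroup _
  obtain ⟨n, hn⟩ := (IsPGroup.iff_card).1 hP₀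
  have hlt : n < a := by
    by_contra hcon
    push Not at hcon
    have h1 : Nat.card (P₀.subgroupOf P) ∣ Nat.card P := Subgroup.card_subgroup_dvd_card _
    have h2 : Nat.card P ≤ Nat.card (P₀.subgroupOf P) := by
      rw [ha, hn]; exact Nat.pow_le_pow_right (by norm_num) hcon
    have h3 : Nat.card (P₀.subgroupOf P) = Nat.card P :=
      le_antisymm (Nat.le_of_dvd Nat.card_pos h1) h2
    have h4 : P₀.subgroupOf P = ⊤ := Subgroup.eq_top_of_card_eq _ h3
    rw [Subgroup.subgroupOf_eq_top] at h4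
    exact hne (le_antisymm hle h4)
  have ha1 : 1 ≤ a := by omega
  obtain ⟨K', hK'card, hK'le⟩ := Sylow.exists_subgroup_card_pow_prime_le (G := P) 2
    (n := n) (m := a - 1) (by rw [ha]; exact pow_dvd_pow 2 (by omega)) (P₀.subgroupOf P) hn
    (by omega)
  have hidx : K'.index = 2 := by
    have h1 := K'.index_mul_card
    rw [hK'card, ha] at h1
    have h2 : (2 : ℕ) ^ a = 2 * 2 ^ (a - 1) := by
      rw [← pow_succ']; congr 1; omega
    rw [h2] at h1
    exact Nat.eq_of_mul_eq_mul_right (by positivity) h1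
  have hnorm : K'.Normal := Subgroup.normal_of_index_eq_two hidx
  refine ⟨K'.map P.subtype, ?_, Subgroup.map_subtype_le _, ?_, ?_, ?_⟩
  · intro x hx
    refine ⟨⟨x, hle hx⟩, hK'le ?_, rfl⟩
    rw [Subgroup.mem_subgroupOf]; exact hx
  · rw [Nat.card_congr (K'.equivMapOfInjective P.subtype P.subtype_injective).symm.toEquiv,
      hK'card, ha]
    rw [← pow_succ']; congr 1; omega
  · rintro g hg _ ⟨h, hh, rfl⟩
    refine ⟨(⟨g, hg⟩ : P)⁻¹ * h * ⟨g, hg⟩, ?_, rfl⟩
    have := hnorm.conj_mem h hh (⟨g, hg⟩ : P)⁻¹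
    rwa [inv_inv] at this
  · have hne' : K' ≠ ⊤ := by
      intro h
      rw [h, Subgroup.index_top] at hidx
      omega
    obtain ⟨t, ht⟩ : ∃ t : P, t ∉ K' := by
      by_contra hcon
      push Not at hcon
      exact hne' (eq_top_iff.2 fun x _ => hcon x)
    refine ⟨t, t.2, ?_, ?_, ?_⟩
    · rintro ⟨t', ht', hEq⟩
      have : t' = t := Subtype.ext hEq
      rw [this] at ht'
      exact ht ht'
    · exact ⟨t * t, Subgroup.mul_self_mem_of_index_two hidx t, rfl⟩
    · intro g hg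
      by_cases hgK : (⟨g, hg⟩ : P) ∈ K'
      · left; exact ⟨⟨g, hg⟩, hgK, rfl⟩
      · right
        refine ⟨t⁻¹ * ⟨g, hg⟩, ?_, rfl⟩
        show t⁻¹ * ⟨g, hg⟩ ∈ K'
        rw [Subgroup.mul_mem_iff_of_index_two hidx]
        constructor
        · intro h; exact absurd (K'.inv_mem_iff.1 h) ht
        · intro h; exact absurd h hgK

theorem lemmaJ (ρ : Representation (ZMod 2) S E) :
    ∀ (n : ℕ) (P P₀ : Subgroup S), Nat.card P = n → IsPGroup 2 P → P₀ ≤ P →
    ∀ W : Submodule (ZMod 2) E, (∀ g ∈ P, ∀ w ∈ W, ρ g w ∈ W) → W ≤ fix ρ P₀ →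
    Nat.card P₀ * Module.finrank (ZMod 2) W ≤
      Nat.card P * Module.finrank (ZMod 2) ↥(W ⊓ fix ρ P) := by
  intro n
  induction n using Nat.strong_induction_on with
  | _ n ih =>
  intro P P₀ hn hP hle W hW h0
  by_cases hEq : P₀ = P
  · subst hEq
    have : W ⊓ fix ρ P₀ = W := inf_eq_left.2 h0
    rw [this]
  · obtain ⟨P₁, h01, h1P, hcard, hnormal, t, htP, htP₁, htt, hcover⟩ :=
      exists_index_two P P₀ hP hle hEq
    have hP₁ : IsPGroup 2 P₁ := hP.to_le h1P
    have hlt : Nat.card P₁ < n := by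
      rw [← hn, hcard]
      have : 0 < Nat.card P₁ := Nat.card_pos
      omega
    have ih1 := ih (Nat.card P₁) hlt P₁ P₀ rfl hP₁ h01 W
      (fun g hg w hw => hW g (h1P hg) w hw) h0
    set W₁ := W ⊓ fix ρ P₁ with hW₁
    -- `W₁` is `P`-invariant
    have hW₁inv : ∀ g ∈ P, ∀ w ∈ W₁, ρ g w ∈ W₁ := by
      intro g hg w hw
      exact ⟨hW g hg w hw.1, map_mem_fix ρ g (fun h hh => hnormal g hg h hh) hw.2⟩
    let τ : W₁ →ₗ[ZMod 2] W₁ := (ρ t).restrict (fun w hw => hW₁inv t htP w hw)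
    let N : W₁ →ₗ[ZMod 2] W₁ := τ - LinearMap.id
    have hN : ∀ v, N (N v) = 0 := by
      intro v
      apply Subtype.ext
      have h1 : ρ t (ρ t (v : E)) = v := by
        rw [← rho_mul]
        exact v.2.2 _ htt
      simp only [N, τ, LinearMap.sub_apply, LinearMap.id_apply, map_sub,
        LinearMap.coe_restrict_apply, Submodule.coe_sub, Submodule.coe_zero]
      rw [h1]
      have h2 : ∀ x : E, x + x = 0 := by
        intro x
        have : (2 : ZMod 2) • x = 0 := by
          have h20 : (2 : ZMod 2) = 0 := by decide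
          rw [h20, zero_smul]
        rwa [two_smul] at this
      rw [sub_eq_add_neg ((v : E) - ρ t (v : E)), neg_sub]
      exact h2 _
    have hker := finrank_le_two_mul_ker N hN
    -- the kernel of `N` injects into `W ⊓ fix P`
    have hkerle : Module.finrank (ZMod 2) (LinearMap.ker N) ≤
        Module.finrank (ZMod 2) ↥(W ⊓ fix ρ P) := by
      have hmap : (LinearMap.ker N).map W₁.subtype ≤ W ⊓ fix ρ P := by
        rintro _ ⟨v, hv, rfl⟩
        have hv' : ρ t (v : E) = v := by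
          have := LinearMap.mem_ker.1 hv
          have h2 := congrArg Subtype.val this
          simp only [N, τ, LinearMap.sub_apply, LinearMap.id_apply,
            LinearMap.coe_restrict_apply, Submodule.coe_sub, Submodule.coe_zero] at h2
          exact sub_eq_zero.1 h2
        refine ⟨v.2.1, ?_⟩
        intro g hg
        rcases hcover g hg with h | h
        · exact v.2.2 g h
        · have : g = t * (t⁻¹ * g) := by group
          rw [this, rho_mul]
          show ρ t (ρ (t⁻¹ * g) (v : E)) = v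
          rw [v.2.2 _ h, hv']
      have h1 := Submodule.finrank_mono hmap
      have h2 : Module.finrank (ZMod 2) ((LinearMap.ker N).map W₁.subtype) =
          Module.finrank (ZMod 2) (LinearMap.ker N) :=
        (LinearEquiv.finrank_eq (Submodule.equivMapOfInjective W₁.subtype
          W₁.injective_subtype (LinearMap.ker N))).symm
      omega
    calc Nat.card P₀ * Module.finrank (ZMod 2) W
        ≤ Nat.card P₁ * Module.finrank (ZMod 2) W₁ := ih1
      _ ≤ Nat.card P₁ * (2 * Module.finrank (ZMod 2) (LinearMap.ker N)) :=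
          Nat.mul_le_mul_left _ hker
      _ ≤ Nat.card P₁ * (2 * Module.finrank (ZMod 2) ↥(W ⊓ fix ρ P)) :=
          Nat.mul_le_mul_left _ (Nat.mul_le_mul_left _ hkerle)
      _ = Nat.card P * Module.finrank (ZMod 2) ↥(W ⊓ fix ρ P) := by
          rw [hcard]; ring

/-- A `2`-group acting on a nonzero invariant subspace has a nonzero fixed vector in it. -/
theorem exists_fixed_ne_zero (ρ : Representation (ZMod 2) S E) (P : Subgroup S)
    (hP : IsPGroup 2 P) (W : Submodule (ZMod 2) E) (hW : ∀ g ∈ P, ∀ w ∈ W, ρ g w ∈ W)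
    (hne : W ≠ ⊥) : ∃ w ∈ W, w ∈ fix ρ P ∧ w ≠ 0 := by
  have h := lemmaJ ρ _ P ⊥ rfl hP bot_le W hW (by
    intro v _ h hh
    rw [Subgroup.mem_bot] at hh
    rw [hh, rho_one])
  rw [Subgroup.card_bot, one_mul] at h
  have hpos : 0 < Module.finrank (ZMod 2) W := by
    rw [Module.finrank_pos_iff]
    exact (Submodule.nontrivial_iff_ne_bot).2 hne
  have hpos' : 0 < Module.finrank (ZMod 2) ↥(W ⊓ fix ρ P) := by
    by_contra hcon
    have : Module.finrank (ZMod 2) ↥(W ⊓ fix ρ P) = 0 := by omega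
    rw [this, mul_zero] at h
    omega
  rw [Module.finrank_pos_iff] at hpos'
  obtain ⟨⟨w, hw⟩, hw0⟩ := exists_ne (0 : ↥(W ⊓ fix ρ P))
  refine ⟨w, hw.1, hw.2, ?_⟩
  intro h0
  apply hw0
  exact Subtype.ext h0

end LemmaJ

end Cfsg.Agent.Lib.H1.Tpq
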