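import Cfsg.Agent.Lib.H1.TpqB

/-!
The representation-theoretic core for S4414: a Frobenius-type count.
-/

namespace Cfsg.Agent.Lib.H1.Tpq

variable {S : Type*} [Group S] {E : Type*} [AddCommGroup E] [Module (ZMod 2) E]

theorem card_eq_filter_card [Fintype S] [DecidableEq S] (H : Subgroup S) [DecidablePred (· ∈ H)] :
    Nat.card H = (Finset.univ.filter (· ∈ H)).card := by
  rw [Nat.card_eq_fintype_card, Fintype.card_subtype]

/-- commuting with `ρ y` on an invariant subspace passes to powers. -/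
theorem comm_pow (ρ : Representation (ZMod 2) S E) (M : Submodule (ZMod 2) E) (y n : S)
    (hyM : ∀ w ∈ M, ρ y w ∈ M)
    (h : ∀ w ∈ M, ρ n (ρ y w) = ρ y (ρ n w)) (r : ℕ) :
    ∀ w ∈ M, ρ n (((ρ y) ^ r) w) = ((ρ y) ^ r) (ρ n w) := by
  induction r with
  | zero => intro w _; simp
  | succ r ih =>
    intro w hw
    rw [pow_succ, Module.End.mul_apply, Module.End.mul_apply, ih _ (hyM w hw), h w hw]

theorem pow_mem (ρ : Representation (ZMod 2) S E) (M : Submodule (ZMod 2) E) (y : S)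
    (hyM : ∀ w ∈ M, ρ y w ∈ M) (r : ℕ) : ∀ w ∈ M, ((ρ y) ^ r) w ∈ M := by
  induction r with
  | zero => intro w hw; simpa using hw
  | succ r ih =>
    intro w hw
    rw [pow_succ, Module.End.mul_apply]
    exact ih _ (hyM w hw)

section Core

variable [Finite S] [Finite E]

theorem core (ρ : Representation (ZMod 2) S E) (p q : ℕ) (hp : p.Prime) (hq : q.Prime)
    (hp2 : p ≠ 2) (hq2 : q ≠ 2)
    (y : S) (M : Submodule (ZMod 2) E) (hM : M ≠ ⊥)
    (hyM : ∀ w ∈ M, ρ y w ∈ M)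
    (hΦ : ∀ w ∈ M, ∑ i ∈ Finset.range p, ((ρ y) ^ i) w = 0)
    (N N₂ : Subgroup S) (hNM : ∀ c ∈ N, ∀ w ∈ M, ρ c w ∈ M)
    (hexp : ∀ c ∈ N, ∃ r, r < p ∧ ∀ w ∈ M, ρ c (ρ y w) = ((ρ y) ^ r) (ρ c w))
    (hN₂ : N₂ ≤ N) (hN₂P : IsPGroup 2 N₂) (hcard : Nat.card N = q * Nat.card N₂)
    (hq' : ∀ s ∈ N, orderOf s = q → ∃ w ∈ M, ρ s (ρ y w) ≠ ρ y (ρ s w)) :
    q ≤ Module.finrank (ZMod 2) ↥(M ⊓ fix ρ N₂) := by
  classical
  have : Fact q.Prime := ⟨hq⟩
  have : Fact (Nat.Prime 2) := ⟨Nat.prime_two⟩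
  -- helper: from `hexp` for `c`
  have hexp' : ∀ c ∈ N, ∀ r, (∀ w ∈ M, ρ c (ρ y w) = ((ρ y) ^ r) (ρ c w)) →
      ∀ w ∈ M, ρ y (ρ c⁻¹ w) = ρ c⁻¹ (((ρ y) ^ r) w) := by
    intro c hc r hr w hw
    have h1 := hr (ρ c⁻¹ w) (hNM _ (N.inv_mem hc) w hw)
    rw [rho_cancel_inv] at h1
    rw [← h1, rho_inv_cancel]
  -- the subgroup `N⁰`
  let N0 : Subgroup S :=
    { carrier := {n | n ∈ N ∧ ∀ w ∈ M, ρ n (ρ y w) = ρ y (ρ n w)}
      one_mem' := ⟨N.one_mem, fun w _ => by rw [rho_one, rho_one]⟩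
      mul_mem' := by
        rintro a b ⟨haN, ha⟩ ⟨hbN, hb⟩
        refine ⟨N.mul_mem haN hbN, fun w hw => ?_⟩
        rw [rho_mul, rho_mul, hb w hw, ha _ (hNM b hbN w hw)]
      inv_mem' := by
        rintro a ⟨haN, ha⟩
        refine ⟨N.inv_mem haN, fun w hw => ?_⟩
        have h1 := ha (ρ a⁻¹ w) (hNM _ (N.inv_mem haN) w hw)
        rw [rho_cancel_inv] at h1
        rw [← h1, rho_inv_cancel] }
  have hN0N : N0 ≤ N := fun n hn => hn.1
  have hN0mem : ∀ n, n ∈ N0 ↔ n ∈ N ∧ ∀ w ∈ M, ρ n (ρ y w) = ρ y (ρ n w) := fun n => Iff.rfl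
  -- normality in `N`
  have hN0norm : ∀ m ∈ N, ∀ n ∈ N0, m⁻¹ * n * m ∈ N0 := by
    intro m hm n hn
    refine ⟨N.mul_mem (N.mul_mem (N.inv_mem hm) hn.1) hm, fun w hw => ?_⟩
    obtain ⟨r, _, hr⟩ := hexp m hm
    have hr' := hexp' m hm r hr
    rw [rho_mul, rho_mul, rho_mul, rho_mul, hr w hw,
      comm_pow ρ M y n hyM hn.2 r _ (hNM m hm w hw)]
    rw [← hr' _ (hNM n hn.1 _ (hNM m hm w hw))]
  -- `q ∤ |N⁰|`
  have hqN0 : ¬ q ∣ Nat.card N0 := by
    intro hdvd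
    obtain ⟨s, hs⟩ := exists_prime_orderOf_dvd_card' (G := N0) q hdvd
    have hs' : orderOf (s : S) = q := by
      rw [← hs]; exact Subgroup.orderOf_coe s
    obtain ⟨w, hw, hne⟩ := hq' s (hN0N s.2) hs'
    exact hne (s.2.2 w hw)
  have hN0card : Nat.card N0 ∣ Nat.card N₂ := by
    have h1 : Nat.card N0 ∣ Nat.card N := Subgroup.card_dvd_of_le hN0N
    rw [hcard] at h1
    exact (Nat.Coprime.dvd_mul_left
      ((Nat.Coprime.symm ((Nat.Prime.coprime_iff_not_dvd hq).2 hqN0)))).1 h1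
  obtain ⟨b, hb⟩ := (IsPGroup.iff_card).1 hN₂P
  have hN0P : IsPGroup 2 N0 := by
    rw [hb] at hN0card
    obtain ⟨k, _, hk⟩ := (Nat.dvd_prime_pow Nat.prime_two).1 hN0card
    exact IsPGroup.of_card hk
  have hN0N₂ : N0 ≤ N₂ := by
    have hnorm : N₂ ≤ Subgroup.normalizer (N0 : Set S) := by
      intro m hm
      rw [Subgroup.mem_normalizer_iff]
      intro n
      constructor
      · intro hn
        have := hN0norm m⁻¹ (N.inv_mem (hN₂ hm)) n hn
        rwa [inv_inv] at this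
      · intro hn
        have := hN0norm m (hN₂ hm) _ hn
        have h2 : m⁻¹ * (m * n * m⁻¹) * m = n := by group
        rwa [h2] at this
    have hsup : IsPGroup 2 ↥(N₂ ⊔ N0) := IsPGroup.to_sup_of_normal_right' hN₂P hN0P hnorm
    obtain ⟨c, hc⟩ := (IsPGroup.iff_card).1 hsup
    have hle : N₂ ⊔ N0 ≤ N := sup_le hN₂ hN0N
    have h1 : Nat.card ↥(N₂ ⊔ N0) ∣ Nat.card N := Subgroup.card_dvd_of_le hle
    rw [hcard, hc] at h1
    have h2 : (2 : ℕ) ^ c ∣ Nat.card N₂ := by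
      have hcop : Nat.Coprime (2 ^ c) q := by
        apply Nat.Coprime.pow_left
        rw [Nat.coprime_primes Nat.prime_two hq]
        exact fun h => hq2 h.symm
      exact (Nat.Coprime.dvd_mul_left hcop).1 h1
    have h3 : Nat.card ↥(N₂ ⊔ N0) ≤ Nat.card N₂ := by
      rw [hc]; exact Nat.le_of_dvd Nat.card_pos h2
    have h4 : N₂ ⊔ N0 = N₂ := by
      symm
      apply Subgroup.eq_of_le_of_card_ge le_sup_left h3
    rw [← h4]; exact le_sup_right
  -- the subspace `E'`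
  have hMN0 : ∀ g ∈ N0, ∀ w ∈ M, ρ g w ∈ M := fun g hg w hw => hNM g hg.1 w hw
  set E' := M ⊓ fix ρ N0 with hE'
  have hE'ne : E' ≠ ⊥ := by
    obtain ⟨w, hwM, hwf, hw0⟩ := exists_fixed_ne_zero ρ N0 hN0P M hMN0 hM
    intro h
    have : w ∈ E' := ⟨hwM, hwf⟩
    rw [h, Submodule.mem_bot] at this
    exact hw0 this
  have hE'N : ∀ c ∈ N, ∀ w ∈ E', ρ c w ∈ E' := by
    intro c hc w hw
    refine ⟨hNM c hc w hw.1, map_mem_fix ρ c (fun h hh => hN0norm c hc h hh) hw.2⟩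
  have hE'y : ∀ w ∈ E', ρ y w ∈ E' := by
    intro w hw
    refine ⟨hyM w hw.1, fun n hn => ?_⟩
    rw [hn.2 w hw.1, hw.2 n hn]
  have : Nontrivial E' := (Submodule.nontrivial_iff_ne_bot).2 hE'ne
  let X : Module.End (ZMod 2) E' := (ρ y).restrict hE'y
  have hXpow : ∀ (i : ℕ) (w : E'), ((X ^ i) w : E) = ((ρ y) ^ i) (w : E) := by
    intro i w
    induction i generalizing w with
    | zero => simp
    | succ i ih =>
      rw [pow_succ, pow_succ, Module.End.mul_apply, Module.End.mul_apply, ih]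
      rfl
  have hXΦ : ∑ i ∈ Finset.range p, X ^ i = 0 := by
    apply LinearMap.ext
    intro w
    apply Subtype.ext
    rw [LinearMap.sum_apply, Submodule.coe_sum, LinearMap.zero_apply, Submodule.coe_zero]
    rw [← hΦ (w : E) w.2.1]
    exact Finset.sum_congr rfl (fun i _ => hXpow i w)
  -- exponent function
  let ef : S → ℕ := fun c => if h : c ∈ N then Classical.choose (hexp c h) else 0
  have hef : ∀ c (h : c ∈ N), ef c < p ∧
      ∀ w ∈ M, ρ c (ρ y w) = ((ρ y) ^ (ef c)) (ρ c w) := by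
    intro c h
    have := Classical.choose_spec (hexp c h)
    simp only [ef, dif_pos h]
    exact this
  have : Fintype S := Fintype.ofFinite S
  let sN : Finset S := Finset.univ.filter (· ∈ N)
  let J : Finset ℕ := sN.image ef
  have hJlt : ∀ u ∈ J, u < p := by
    intro u hu
    obtain ⟨c, hc, rfl⟩ := Finset.mem_image.1 hu
    exact (hef c (Finset.mem_filter.1 hc).2).1
  have hJg : ∀ u ∈ J, ∃ g : Module.End (ZMod 2) E', Function.Injective g ∧ X * g = g * X ^ u := by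
    intro u hu
    obtain ⟨c, hc, rfl⟩ := Finset.mem_image.1 hu
    have hcN : c ∈ N := (Finset.mem_filter.1 hc).2
    refine ⟨(ρ c⁻¹).restrict (fun w hw => hE'N _ (N.inv_mem hcN) w hw), ?_, ?_⟩
    · intro a b hab
      apply Subtype.ext
      have := congrArg Subtype.val hab
      exact rho_injective ρ c⁻¹ this
    · apply LinearMap.ext
      intro w
      apply Subtype.ext
      rw [Module.End.mul_apply, Module.End.mul_apply]
      show ρ y (ρ c⁻¹ (w : E)) = ρ c⁻¹ (((X ^ (ef c)) w : E'))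
      rw [hXpow]
      exact hexp' c hcN (ef c) (hef c hcN).2 w w.2.1
  have hF := card_le_finrank_of_semiconj p hp hp2 X hXΦ J hJlt hJg
  -- fibers
  have hfiber : sN.card ≤ Nat.card N0 * J.card := by
    apply Finset.card_le_mul_card_image
    intro u hu
    obtain ⟨c₀, hc₀, rfl⟩ := Finset.mem_image.1 hu
    have hc₀N : c₀ ∈ N := (Finset.mem_filter.1 hc₀).2
    rw [card_eq_filter_card N0]
    apply Finset.card_le_card_of_injOn (fun c => c₀⁻¹ * c)
    · intro c hc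
      rw [Finset.mem_coe, Finset.mem_filter] at hc
      have hcN : c ∈ N := (Finset.mem_filter.1 hc.1).2
      rw [Finset.mem_coe, Finset.mem_filter]
      refine ⟨Finset.mem_univ _, N.mul_mem (N.inv_mem hc₀N) hcN, fun w hw => ?_⟩
      rw [rho_mul, rho_mul, (hef c hcN).2 w hw, hc.2,
        hexp' c₀ hc₀N (ef c₀) (hef c₀ hc₀N).2 _ (hNM c hcN w hw)]
    · intro a _ b _ hab
      exact mul_left_cancel hab
  have hJ' := lemmaJ ρ _ N₂ N0 rfl hN₂P hN0N₂ E'
    (fun g hg w hw => hE'N g (hN₂ hg) w hw) inf_le_right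
  have hNcard : Nat.card N = sN.card := card_eq_filter_card N
  have hmono : Module.finrank (ZMod 2) ↥(E' ⊓ fix ρ N₂) ≤
      Module.finrank (ZMod 2) ↥(M ⊓ fix ρ N₂) :=
    Submodule.finrank_mono (inf_le_inf_right _ inf_le_left)
  have h1 : q * Nat.card N₂ ≤ Nat.card N₂ * Module.finrank (ZMod 2) ↥(E' ⊓ fix ρ N₂) := by
    calc q * Nat.card N₂ = sN.card := by rw [← hcard, hNcard]
      _ ≤ Nat.card N0 * J.card := hfiber
      _ ≤ Nat.card N0 * Module.finrank (ZMod 2) E' := Nat.mul_le_mul_left _ hF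
      _ ≤ _ := hJ'
  have hpos : 0 < Nat.card N₂ := Nat.card_pos
  have h2 : q ≤ Module.finrank (ZMod 2) ↥(E' ⊓ fix ρ N₂) := by
    rw [mul_comm] at h1
    exact Nat.le_of_mul_le_mul_left h1 hpos
  exact h2.trans hmono

end Core

end Cfsg.Agent.Lib.H1.Tpq
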