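import Cfsg.Agent.Lib.H1.TpqC

/-!
Averaging operators `eU` over subgroups, conjugate subgroups, and lines of an elementary abelian
group of order `p²` (for S4414).
-/

namespace Cfsg.Agent.Lib.H1.Tpq

variable {S : Type*} [Group S] {E : Type*} [AddCommGroup E] [Module (ZMod 2) E]

/-- conjugate subgroup `g U g⁻¹`. -/
def cj (g : S) (U : Subgroup S) : Subgroup S := U.map (MulAut.conj g).toMonoidHom

theorem mem_cj (g x : S) (U : Subgroup S) : x ∈ cj g U ↔ g⁻¹ * x * g ∈ U := by
  constructor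
  · rintro ⟨u, hu, rfl⟩
    have : g⁻¹ * ((MulAut.conj g).toMonoidHom u) * g = u := by
      simp [MulAut.conj_apply]; group
    rw [this]; exact hu
  · intro h
    refine ⟨g⁻¹ * x * g, h, ?_⟩
    simp [MulAut.conj_apply]; group

theorem cj_one (U : Subgroup S) : cj 1 U = U := by
  ext x; rw [mem_cj]; simp

theorem cj_mul (g h : S) (U : Subgroup S) : cj (g * h) U = cj g (cj h U) := by
  ext x
  rw [mem_cj, mem_cj, mem_cj]
  have : (g * h)⁻¹ * x * (g * h) = h⁻¹ * (g⁻¹ * x * g) * h := by group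
  rw [this]

theorem cj_injective (g : S) : Function.Injective (cj g) := by
  intro U U' h
  have := congrArg (cj g⁻¹) h
  rwa [← cj_mul, ← cj_mul, inv_mul_cancel, cj_one, cj_one] at this

theorem card_cj (g : S) (U : Subgroup S) : Nat.card (cj g U) = Nat.card U :=
  (Nat.card_congr (U.equivMapOfInjective (MulAut.conj g).toMonoidHom
    (MulAut.conj g).injective).toEquiv).symm

theorem cj_eq_self_of_mem_normalizer {g : S} {U : Subgroup S}
    (h : g ∈ Subgroup.normalizer (U : Set S)) : cj g U = U := by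
  ext x
  rw [mem_cj]
  exact ((Subgroup.mem_normalizer_iff'').1 h x).symm

theorem mem_normalizer_of_cj_eq {g : S} {U : Subgroup S} (h : cj g U = U) :
    g ∈ Subgroup.normalizer (U : Set S) := by
  rw [Subgroup.mem_normalizer_iff'']
  intro x
  rw [← mem_cj, h]

theorem fix_cj (ρ : Representation (ZMod 2) S E) (g : S) (U : Subgroup S) {v : E}
    (hv : v ∈ fix ρ U) : ρ g v ∈ fix ρ (cj g U) :=
  map_mem_fix ρ g (fun h hh => (mem_cj g h U).1 hh) hv

/-- the stabilizer of a vector, as a subgroup. -/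
def vstab (ρ : Representation (ZMod 2) S E) (v : E) : Subgroup S where
  carrier := {x | ρ x v = v}
  one_mem' := rho_one ρ v
  mul_mem' := by
    intro a b ha hb
    show ρ (a * b) v = v
    rw [rho_mul, hb, ha]
  inv_mem' := by
    intro a ha
    show ρ a⁻¹ v = v
    have := rho_inv_cancel ρ a v
    rwa [ha] at this

theorem fix_sup (ρ : Representation (ZMod 2) S E) (U U' : Subgroup S) :
    fix ρ U ⊓ fix ρ U' ≤ fix ρ (U ⊔ U') := by
  intro v hv x hx
  have h1 : U ⊔ U' ≤ vstab ρ v := sup_le (fun a ha => hv.1 a ha) (fun a ha => hv.2 a ha)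
  exact h1 hx

section Avg

variable [Finite S]

/-- the sum of `ρ u` over `u ∈ U`. -/
noncomputable def eU (ρ : Representation (ZMod 2) S E) (U : Subgroup S) :
    Module.End (ZMod 2) E :=
  ∑ u ∈ (Set.toFinite (U : Set S)).toFinset, ρ u

theorem eU_apply (ρ : Representation (ZMod 2) S E) (U : Subgroup S) (v : E) :
    eU ρ U v = ∑ u ∈ (Set.toFinite (U : Set S)).toFinset, ρ u v := by
  rw [eU, LinearMap.sum_apply]

theorem mem_fs (U : Subgroup S) (x : S) :
    x ∈ (Set.toFinite (U : Set S)).toFinset ↔ x ∈ U := by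
  rw [Set.Finite.mem_toFinset]; rfl

theorem card_fs (U : Subgroup S) :
    ((Set.toFinite (U : Set S)).toFinset).card = Nat.card U := by
  rw [← Set.ncard_eq_toFinset_card (U : Set S)]
  rfl

/-- `ρ g ∘ eU U = eU (g U g⁻¹) ∘ ρ g`. -/
theorem rho_eU_conj (ρ : Representation (ZMod 2) S E) (g : S) (U : Subgroup S) (v : E) :
    ρ g (eU ρ U v) = eU ρ (cj g U) (ρ g v) := by
  rw [eU_apply, eU_apply, map_sum]
  apply Finset.sum_bij (fun u _ => g * u * g⁻¹)
  · intro u hu
    rw [mem_fs] at hu ⊢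
    rw [mem_cj]
    have : g⁻¹ * (g * u * g⁻¹) * g = u := by group
    rw [this]; exact hu
  · intro a _ b _ hab
    have := mul_right_cancel hab
    exact mul_left_cancel this
  · intro x hx
    rw [mem_fs, mem_cj] at hx
    refine ⟨g⁻¹ * x * g, (mem_fs _ _).2 hx, by group⟩
  · intro u _
    rw [← rho_mul, ← rho_mul]
    congr 2
    group

theorem rho_eU (ρ : Representation (ZMod 2) S E) (U : Subgroup S) {u' : S} (hu' : u' ∈ U)
    (v : E) : ρ u' (eU ρ U v) = eU ρ U v := by
  rw [eU_apply, map_sum]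
  apply Finset.sum_bij (fun u _ => u' * u)
  · intro u hu
    rw [mem_fs] at hu ⊢
    exact U.mul_mem hu' hu
  · intro a _ b _ hab
    exact mul_left_cancel hab
  · intro x hx
    rw [mem_fs] at hx
    exact ⟨u'⁻¹ * x, (mem_fs _ _).2 (U.mul_mem (U.inv_mem hu') hx), by group⟩
  · intro u _
    rw [rho_mul]

theorem eU_mem_fix (ρ : Representation (ZMod 2) S E) (U : Subgroup S) (v : E) :
    eU ρ U v ∈ fix ρ U := fun _ hu => rho_eU ρ U hu v

theorem eU_of_mem_fix (ρ : Representation (ZMod 2) S E) (U : Subgroup S)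
    (hodd : Nat.card U % 2 = 1) {v : E} (hv : v ∈ fix ρ U) : eU ρ U v = v := by
  rw [eU_apply]
  have : ∀ u ∈ (Set.toFinite (U : Set S)).toFinset, ρ u v = v := fun u hu =>
    hv u ((mem_fs U u).1 hu)
  rw [Finset.sum_congr rfl this, Finset.sum_const, card_fs]
  have h2 : (Nat.card U : ZMod 2) = 1 := by
    have : ((Nat.card U % 2 : ℕ) : ZMod 2) = (Nat.card U : ZMod 2) := by
      rw [ZMod.natCast_mod]
    rw [← this, hodd]; simp
  rw [← Nat.cast_smul_eq_nsmul (ZMod 2), h2, one_smul]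

/-- if `g` commutes with the elements of `U`, `ρ g` commutes with `eU U`. -/
theorem rho_comm_eU (ρ : Representation (ZMod 2) S E) (U : Subgroup S) (g : S)
    (hg : ∀ u ∈ U, g * u = u * g) (v : E) : ρ g (eU ρ U v) = eU ρ U (ρ g v) := by
  rw [eU_apply, eU_apply, map_sum]
  apply Finset.sum_congr rfl
  intro u hu
  rw [← rho_mul, ← rho_mul, hg u ((mem_fs U u).1 hu)]

theorem eU_eq_zero_of_fix_eq_bot (ρ : Representation (ZMod 2) S E) (U : Subgroup S)
    (h : fix ρ U = ⊥) (v : E) : eU ρ U v = 0 := by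
  have := eU_mem_fix ρ U v
  rwa [h, Submodule.mem_bot] at this

end Avg

end Cfsg.Agent.Lib.H1.Tpq
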