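import Cfsg.Agent.Lib.H1.TpqD

/-!
Lines (subgroups of order `p`) of an elementary abelian normal subgroup `A` of order `p²`
acting on an `𝔽₂`-module without fixed points (for S4414).
-/

namespace Cfsg.Agent.Lib.H1.Tpq

variable {S : Type*} [Group S] {E : Type*} [AddCommGroup E] [Module (ZMod 2) E]

structure LineCtx (ρ : Representation (ZMod 2) S E) (A : Subgroup S) (p : ℕ) : Prop where
  hp : p.Prime
  hp2 : p ≠ 2
  comm : ∀ a ∈ A, ∀ b ∈ A, a * b = b * a
  exp : ∀ a ∈ A, a ^ p = 1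
  card : Nat.card A = p ^ 2
  fixA : fix ρ A = ⊥
  normal : ∀ g : S, ∀ a ∈ A, g * a * g⁻¹ ∈ A

def IsLine (A : Subgroup S) (p : ℕ) (U : Subgroup S) : Prop := U ≤ A ∧ Nat.card U = p

variable {ρ : Representation (ZMod 2) S E} {A : Subgroup S} {p : ℕ}

theorem LineCtx.odd (h : LineCtx ρ A p) : p % 2 = 1 := by
  rcases h.hp.eq_two_or_odd with h2 | h2
  · exact absurd h2 h.hp2
  · exact h2

theorem IsLine.cj (h : LineCtx ρ A p) (g : S) {U : Subgroup S} (hU : IsLine A p U) :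
    IsLine A p (cj g U) := by
  refine ⟨?_, by rw [card_cj, hU.2]⟩
  intro x hx
  rw [mem_cj] at hx
  have := h.normal g _ (hU.1 hx)
  have h2 : g * (g⁻¹ * x * g) * g⁻¹ = x := by group
  rwa [h2] at this

section Fin

variable [Finite S]

theorem line_sup_eq (h : LineCtx ρ A p) {U U' : Subgroup S} (hU : IsLine A p U)
    (hU' : IsLine A p U') (hne : U ≠ U') : U ⊔ U' = A := by
  have hle : U ⊔ U' ≤ A := sup_le hU.1 hU'.1
  have h1 : Nat.card ↥(U ⊔ U') ∣ p ^ 2 := by
    rw [← h.card]; exact Subgroup.card_dvd_of_le hle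
  obtain ⟨k, hk2, hk⟩ := (Nat.dvd_prime_pow h.hp).1 h1
  have h2 : p ∣ Nat.card ↥(U ⊔ U') := by
    rw [← hU.2]; exact Subgroup.card_dvd_of_le le_sup_left
  have hk0 : k ≠ 0 := by
    rintro rfl
    rw [hk, pow_zero] at h2
    exact h.hp.one_lt.ne' (Nat.dvd_one.1 h2)
  have hk1 : k ≠ 1 := by
    rintro rfl
    rw [pow_one] at hk
    have h3 : U = U ⊔ U' := Subgroup.eq_of_le_of_card_ge le_sup_left (by rw [hk, hU.2])
    have h4 : U' ≤ U := by rw [h3]; exact le_sup_right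
    exact hne (Subgroup.eq_of_le_of_card_ge h4 (by rw [hU.2, hU'.2])).symm
  have hk2' : k = 2 := by omega
  rw [hk2'] at hk
  exact Subgroup.eq_of_le_of_card_ge hle (by rw [hk, h.card])

theorem IsLine.card_odd (h : LineCtx ρ A p) {U : Subgroup S} (hU : IsLine A p U) :
    Nat.card U % 2 = 1 := by rw [hU.2]; exact h.odd

/-- `eU U'` kills `fix U` for distinct lines. -/
theorem eU_kill (h : LineCtx ρ A p) {U U' : Subgroup S} (hU : IsLine A p U)
    (hU' : IsLine A p U') (hne : U ≠ U') {w : E} (hw : w ∈ fix ρ U) : eU ρ U' w = 0 := by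
  have h1 : eU ρ U' w ∈ fix ρ U' := eU_mem_fix ρ U' w
  have h2 : eU ρ U' w ∈ fix ρ U := by
    intro u hu
    rw [rho_comm_eU ρ U' u (fun u' hu' => h.comm u (hU.1 hu) u' (hU'.1 hu')), hw u hu]
  have h3 := fix_sup ρ U U' ⟨h2, h1⟩
  rw [line_sup_eq h hU hU' hne, h.fixA, Submodule.mem_bot] at h3
  exact h3

theorem eU_self (h : LineCtx ρ A p) {U : Subgroup S} (hU : IsLine A p U) {w : E}
    (hw : w ∈ fix ρ U) : eU ρ U w = w := eU_of_mem_fix ρ U (hU.card_odd h) hw

theorem zpowers_isLine (h : LineCtx ρ A p) {a : S} (ha : a ∈ A) (ha1 : a ≠ 1) :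
    IsLine A p (Subgroup.zpowers a) := by
  have : Fact p.Prime := ⟨h.hp⟩
  refine ⟨(Subgroup.zpowers_le).2 ha, ?_⟩
  rw [Nat.card_zpowers]
  exact orderOf_eq_prime (h.exp a ha) ha1

theorem eq_zpowers_of_mem (h : LineCtx ρ A p) {U : Subgroup S} (hU : IsLine A p U) {a : S}
    (ha : a ∈ U) (ha1 : a ≠ 1) : Subgroup.zpowers a = U := by
  apply Subgroup.eq_of_le_of_card_ge ((Subgroup.zpowers_le).2 ha)
  rw [(zpowers_isLine h (hU.1 ha) ha1).2, hU.2]

theorem exists_not_mem (h : LineCtx ρ A p) {U : Subgroup S} (hU : IsLine A p U) :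
    ∃ y ∈ A, y ∉ U := by
  by_contra hcon
  push Not at hcon
  have h1 : A ≤ U := fun a ha => hcon a ha
  have h2 : A = U := le_antisymm h1 hU.1
  have h3 := h.card
  rw [h2, hU.2] at h3
  have hp1 := h.hp.one_lt
  nlinarith [h3]

/-- every element of `A` is `y ^ i * u`. -/
theorem exists_decomp (h : LineCtx ρ A p) {U : Subgroup S} (hU : IsLine A p U) {y : S}
    (hyA : y ∈ A) (hyU : y ∉ U) :
    ∀ a ∈ A, ∃ i, i < p ∧ ∃ u ∈ U, a = y ^ i * u := by
  classical
  have : Fact p.Prime := ⟨h.hp⟩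
  have hy1 : y ≠ 1 := fun h1 => hyU (h1 ▸ U.one_mem)
  have hord : orderOf y = p := orderOf_eq_prime (h.exp y hyA) hy1
  let fU := (Set.toFinite (U : Set S)).toFinset
  let fA := (Set.toFinite (A : Set S)).toFinset
  let P := (Finset.range p ×ˢ fU).image (fun x : ℕ × S => y ^ x.1 * x.2)
  have hinj : Set.InjOn (fun x : ℕ × S => y ^ x.1 * x.2) (Finset.range p ×ˢ fU : Finset (ℕ × S)) := by
    rintro ⟨i, u⟩ hx ⟨j, u'⟩ hx' hEq
    simp only [Finset.coe_product, Set.mem_prod, Finset.mem_coe, Finset.mem_range] at hx hx'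
    have hu : u ∈ U := (mem_fs U u).1 hx.2
    have hu' : u' ∈ U := (mem_fs U u').1 hx'.2
    simp only at hEq
    -- `(y^j)⁻¹ * y^i ∈ U`
    have h1 : (y ^ j)⁻¹ * y ^ i = u' * u⁻¹ := by
      have : y ^ i = y ^ j * u' * u⁻¹ := by rw [← hEq]; group
      rw [this]; group
    have h2 : (y ^ j)⁻¹ * y ^ i ∈ U := by rw [h1]; exact U.mul_mem hu' (U.inv_mem hu)
    have h3 : (y ^ j)⁻¹ * y ^ i = 1 := by
      by_contra hne
      have h4 := eq_zpowers_of_mem h hU h2 hne
      have h5 : (y ^ j)⁻¹ * y ^ i ∈ Subgroup.zpowers y :=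
        (Subgroup.zpowers y).mul_mem ((Subgroup.zpowers y).inv_mem
          (Subgroup.npow_mem_zpowers y j)) (Subgroup.npow_mem_zpowers y i)
      have h6 : Subgroup.zpowers ((y ^ j)⁻¹ * y ^ i) = Subgroup.zpowers y := by
        apply Subgroup.eq_of_le_of_card_ge ((Subgroup.zpowers_le).2 h5)
        rw [(zpowers_isLine h hyA hy1).2, h4, hU.2]
      apply hyU
      rw [← h4, h6]
      exact Subgroup.mem_zpowers y
    have h4 : y ^ i = y ^ j := by
      have : y ^ i = y ^ j * ((y ^ j)⁻¹ * y ^ i) := by group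
      rw [this, h3, mul_one]
    have h5 : i = j := by
      apply pow_injOn_Iio_orderOf (x := y)
      · rw [hord]; exact hx.1
      · rw [hord]; exact hx'.1
      · exact h4
    subst h5
    have h6 : u = u' := mul_left_cancel hEq
    rw [h6]
  have hPcard : P.card = p * p := by
    rw [Finset.card_image_of_injOn hinj, Finset.card_product, Finset.card_range, card_fs, hU.2]
  have hPsub : P ⊆ fA := by
    intro x hx
    obtain ⟨⟨i, u⟩, hiu, rfl⟩ := Finset.mem_image.1 hx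
    simp only [Finset.mem_product, Finset.mem_range] at hiu
    rw [mem_fs]
    exact A.mul_mem (A.pow_mem hyA i) (hU.1 ((mem_fs U u).1 hiu.2))
  have hPeq : P = fA := by
    apply Finset.eq_of_subset_of_card_le hPsub
    rw [hPcard, card_fs, h.card, pow_two]
  intro a ha
  have haP : a ∈ P := by rw [hPeq, mem_fs]; exact ha
  obtain ⟨⟨i, u⟩, hiu, rfl⟩ := Finset.mem_image.1 haP
  simp only [Finset.mem_product, Finset.mem_range] at hiu
  exact ⟨i, hiu.1, u, (mem_fs U u).1 hiu.2, rfl⟩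

end Fin

end Cfsg.Agent.Lib.H1.Tpq
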