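import Cfsg.Agent.Lib.H1.TpqE

/-!
Existence of a line with nonzero fixed points (for S4414).
-/

namespace Cfsg.Agent.Lib.H1.Tpq

variable {S : Type*} [Group S] {E : Type*} [AddCommGroup E] [Module (ZMod 2) E]
variable {ρ : Representation (ZMod 2) S E} {A : Subgroup S} {p : ℕ}

theorem add_self_zmod2 (x : E) : x + x = 0 := by
  have : (2 : ZMod 2) • x = 0 := by
    have h20 : (2 : ZMod 2) = 0 := by decide
    rw [h20, zero_smul]
  rwa [two_smul] at this

theorem eq_of_add_eq_zero_zmod2 {x y : E} (h : x + y = 0) : y = x := by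
  have h1 : y = -x := (neg_eq_of_add_eq_zero_right h).symm
  have h2 : -x = x := neg_eq_of_add_eq_zero_left (add_self_zmod2 x)
  rw [h1, h2]

variable [Finite S]

theorem sum_erase_one [DecidableEq S] (ρ : Representation (ZMod 2) S E) (U : Subgroup S) (v : E)
    (h0 : eU ρ U v = 0) :
    ∑ u ∈ ((Set.toFinite (U : Set S)).toFinset).erase 1, ρ u v = v := by
  have h1 : (1 : S) ∈ (Set.toFinite (U : Set S)).toFinset := (mem_fs U 1).2 U.one_mem
  have h2 := Finset.add_sum_erase _ (fun u => ρ u v) h1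
  rw [← eU_apply, h0, rho_one] at h2
  exact eq_of_add_eq_zero_zmod2 h2

theorem exists_line_fix_ne_bot (h : LineCtx ρ A p) [Nontrivial E] :
    ∃ U, IsLine A p U ∧ fix ρ U ≠ ⊥ := by
  classical
  by_contra hcon
  push Not at hcon
  have : Fact p.Prime := ⟨h.hp⟩
  let L : Finset (Subgroup S) := (Set.toFinite {U : Subgroup S | IsLine A p U}).toFinset
  have hL : ∀ U, U ∈ L ↔ IsLine A p U := by
    intro U
    rw [Set.Finite.mem_toFinset]; rfl
  let fs : Subgroup S → Finset S := fun U => (Set.toFinite (U : Set S)).toFinset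
  have hbi : (fs A).erase 1 = L.biUnion (fun U => (fs U).erase 1) := by
    ext a
    rw [Finset.mem_erase, Finset.mem_biUnion]
    constructor
    · rintro ⟨ha1, haA⟩
      have haA' : a ∈ A := (mem_fs A a).1 haA
      refine ⟨Subgroup.zpowers a, (hL _).2 (zpowers_isLine h haA' ha1), ?_⟩
      rw [Finset.mem_erase]
      exact ⟨ha1, (mem_fs _ a).2 (Subgroup.mem_zpowers a)⟩
    · rintro ⟨U, hU, haU⟩
      rw [Finset.mem_erase] at haU
      exact ⟨haU.1, (mem_fs A a).2 (((hL U).1 hU).1 ((mem_fs U a).1 haU.2))⟩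
  have hdisj : (L : Set (Subgroup S)).PairwiseDisjoint (fun U => (fs U).erase 1) := by
    intro U hU U' hU' hne
    rw [Function.onFun, Finset.disjoint_left]
    intro a ha ha'
    rw [Finset.mem_erase] at ha ha'
    have h1 := eq_zpowers_of_mem h ((hL U).1 hU) ((mem_fs U a).1 ha.2) ha.1
    have h2 := eq_zpowers_of_mem h ((hL U').1 hU') ((mem_fs U' a).1 ha'.2) ha.1
    exact hne (h1.symm.trans h2)
  -- cardinalities
  have hLcard : L.card = p + 1 := by
    have h1 := congrArg Finset.card hbi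
    rw [Finset.card_biUnion hdisj, Finset.card_erase_of_mem ((mem_fs A 1).2 A.one_mem),
      card_fs, h.card] at h1
    have h2 : ∀ U ∈ L, ((fs U).erase 1).card = p - 1 := by
      intro U hU
      rw [Finset.card_erase_of_mem ((mem_fs U 1).2 U.one_mem), card_fs, ((hL U).1 hU).2]
    rw [Finset.sum_congr rfl h2, Finset.sum_const, smul_eq_mul] at h1
    obtain ⟨m, hm⟩ : ∃ m, p = m + 1 := ⟨p - 1, by have := h.hp.one_lt; omega⟩
    subst hm
    have hm0 : 0 < m := by have := h.hp.one_lt; omega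
    have h3 : (m + 1) ^ 2 - 1 = (m + 2) * m := by
      have : (m + 1) ^ 2 = (m + 2) * m + 1 := by ring
      omega
    rw [h3, Nat.add_sub_cancel] at h1
    have := Nat.eq_of_mul_eq_mul_right hm0 h1
    omega
  obtain ⟨v, hv⟩ := exists_ne (0 : E)
  have h1 : ∀ U ∈ L, ∑ u ∈ (fs U).erase 1, ρ u v = v := by
    intro U hU
    exact sum_erase_one ρ U v (eU_eq_zero_of_fix_eq_bot ρ U (hcon U ((hL U).1 hU)) v)
  have h2 : ∑ a ∈ (fs A).erase 1, ρ a v = v :=
    sum_erase_one ρ A v (eU_eq_zero_of_fix_eq_bot ρ A h.fixA v)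
  rw [hbi, Finset.sum_biUnion hdisj, Finset.sum_congr rfl h1, Finset.sum_const, hLcard] at h2
  have h3 : ((p + 1 : ℕ) : ZMod 2) = 0 := by
    have hodd := h.odd
    have : ((p + 1 : ℕ) : ZMod 2) = (((p + 1) % 2 : ℕ) : ZMod 2) := by
      rw [ZMod.natCast_mod]
    rw [this]
    have : (p + 1) % 2 = 0 := by omega
    rw [this]; simp
  rw [← Nat.cast_smul_eq_nsmul (ZMod 2), h3, zero_smul] at h2
  exact hv h2.symm

end Cfsg.Agent.Lib.H1.Tpq
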