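import Cfsg.Agent.Lib.H1.TpqF

/-!
The orbit vector `tau` (induction from the stabilizer of a line), for S4414.
-/

namespace Cfsg.Agent.Lib.H1.Tpq

variable {S : Type*} [Group S] {E : Type*} [AddCommGroup E] [Module (ZMod 2) E]
variable {ρ : Representation (ZMod 2) S E} {A : Subgroup S} {p : ℕ}

/-- a chosen element of `T` carrying `U₀` to `U`. -/
noncomputable def tOf (T U₀ U : Subgroup S) : S := by
  classical
  exact if h : ∃ t ∈ T, cj t U₀ = U then Classical.choose h else 1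

theorem tOf_spec {T U₀ U : Subgroup S} (h : ∃ t ∈ T, cj t U₀ = U) :
    tOf T U₀ U ∈ T ∧ cj (tOf T U₀ U) U₀ = U := by
  classical
  have := Classical.choose_spec h
  simp only [tOf, dif_pos h]
  exact this

variable [Finite S]

/-- the `T`-orbit of the subgroup `U₀`. -/
noncomputable def orb (T U₀ : Subgroup S) : Finset (Subgroup S) :=
  (Set.toFinite {U : Subgroup S | ∃ t ∈ T, cj t U₀ = U}).toFinset

theorem mem_orb (T U₀ U : Subgroup S) : U ∈ orb T U₀ ↔ ∃ t ∈ T, cj t U₀ = U := by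
  rw [orb, Set.Finite.mem_toFinset]; rfl

theorem self_mem_orb (T U₀ : Subgroup S) : U₀ ∈ orb T U₀ :=
  (mem_orb T U₀ U₀).2 ⟨1, T.one_mem, cj_one U₀⟩

theorem cj_mem_orb {T U₀ U : Subgroup S} {t : S} (ht : t ∈ T) (hU : U ∈ orb T U₀) :
    cj t U ∈ orb T U₀ := by
  obtain ⟨s, hs, rfl⟩ := (mem_orb T U₀ U).1 hU
  exact (mem_orb _ _ _).2 ⟨t * s, T.mul_mem ht hs, cj_mul t s U₀⟩

/-- the orbit vector. -/
noncomputable def tau (ρ : Representation (ZMod 2) S E) (T U₀ : Subgroup S) (v : E) : E :=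
  ∑ U ∈ orb T U₀, ρ (tOf T U₀ U) v

/-- two elements of `T` carrying `U₀` to the same subgroup act the same way on `v`. -/
theorem rho_eq_of_cj_eq (ρ : Representation (ZMod 2) S E) {T U₀ : Subgroup S} {v : E}
    (hv : v ∈ fix ρ (T ⊓ Subgroup.normalizer (U₀ : Set S))) {s t : S} (hs : s ∈ T) (ht : t ∈ T)
    (h : cj s U₀ = cj t U₀) : ρ s v = ρ t v := by
  have h1 : cj (t⁻¹ * s) U₀ = U₀ := by
    rw [cj_mul, h, ← cj_mul, inv_mul_cancel, cj_one]
  have h2 : t⁻¹ * s ∈ T ⊓ Subgroup.normalizer (U₀ : Set S) :=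
    ⟨T.mul_mem (T.inv_mem ht) hs, mem_normalizer_of_cj_eq h1⟩
  have h3 := hv _ h2
  have h4 : s = t * (t⁻¹ * s) := by group
  rw [h4, rho_mul, h3]

theorem tau_mem_fix (ρ : Representation (ZMod 2) S E) {T U₀ : Subgroup S} {v : E}
    (hv : v ∈ fix ρ (T ⊓ Subgroup.normalizer (U₀ : Set S))) : tau ρ T U₀ v ∈ fix ρ T := by
  intro t' ht'
  rw [tau, map_sum]
  apply Finset.sum_bij (fun U _ => cj t' U)
  · intro U hU
    exact cj_mem_orb ht' hU
  · intro U _ U' _ h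
    exact cj_injective t' h
  · intro U' hU'
    refine ⟨cj t'⁻¹ U', cj_mem_orb (T.inv_mem ht') hU', ?_⟩
    rw [← cj_mul, mul_inv_cancel, cj_one]
  · intro U hU
    have hspec := tOf_spec ((mem_orb T U₀ U).1 hU)
    have hU' : cj t' U ∈ orb T U₀ := cj_mem_orb ht' hU
    have hspec' := tOf_spec ((mem_orb T U₀ _).1 hU')
    rw [← rho_mul]
    apply rho_eq_of_cj_eq ρ hv (T.mul_mem ht' hspec.1) hspec'.1
    rw [cj_mul, hspec.2, hspec'.2]

theorem orb_isLine (h : LineCtx ρ A p) {T U₀ U : Subgroup S} (hU₀ : IsLine A p U₀)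
    (hU : U ∈ orb T U₀) : IsLine A p U := by
  obtain ⟨t, _, rfl⟩ := (mem_orb T U₀ U).1 hU
  exact hU₀.cj h t

open Classical in
/-- the component of `tau v` at a line `U'`. -/
theorem eU_tau (h : LineCtx ρ A p) {T U₀ : Subgroup S} (hU₀ : IsLine A p U₀) {v : E}
    (hv : v ∈ fix ρ U₀) {U' : Subgroup S} (hU' : IsLine A p U') :
    eU ρ U' (tau ρ T U₀ v) = if U' ∈ orb T U₀ then ρ (tOf T U₀ U') v else 0 := by
  classical
  rw [tau, map_sum]
  have hterm : ∀ U ∈ orb T U₀, ρ (tOf T U₀ U) v ∈ fix ρ U := by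
    intro U hU
    have hspec := tOf_spec ((mem_orb T U₀ U).1 hU)
    have := fix_cj ρ (tOf T U₀ U) U₀ hv
    rwa [hspec.2] at this
  split_ifs with hmem
  · rw [Finset.sum_eq_single_of_mem U' hmem]
    · exact eU_self h hU' (hterm U' hmem)
    · intro U hU hne
      exact eU_kill h (orb_isLine h hU₀ hU) hU' hne (hterm U hU)
  · apply Finset.sum_eq_zero
    intro U hU
    have hne : U ≠ U' := fun hEq => hmem (hEq ▸ hU)
    exact eU_kill h (orb_isLine h hU₀ hU) hU' hne (hterm U hU)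

theorem eU_tau_cj (h : LineCtx ρ A p) {T U₀ : Subgroup S} (hU₀ : IsLine A p U₀) {v : E}
    (hv : v ∈ fix ρ U₀) (hv' : v ∈ fix ρ (T ⊓ Subgroup.normalizer (U₀ : Set S))) {t : S}
    (ht : t ∈ T) : eU ρ (cj t U₀) (tau ρ T U₀ v) = ρ t v := by
  have hmem : cj t U₀ ∈ orb T U₀ := (mem_orb _ _ _).2 ⟨t, ht, rfl⟩
  rw [eU_tau h hU₀ hv (hU₀.cj h t), if_pos hmem]
  have hspec := tOf_spec ((mem_orb T U₀ _).1 hmem)
  exact rho_eq_of_cj_eq ρ hv' hspec.1 ht hspec.2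

theorem eU_tau_self (h : LineCtx ρ A p) {T U₀ : Subgroup S} (hU₀ : IsLine A p U₀) {v : E}
    (hv : v ∈ fix ρ U₀) (hv' : v ∈ fix ρ (T ⊓ Subgroup.normalizer (U₀ : Set S))) :
    eU ρ U₀ (tau ρ T U₀ v) = v := by
  have := eU_tau_cj h hU₀ hv hv' T.one_mem
  rwa [cj_one, rho_one] at this

theorem eU_tau_not_mem (h : LineCtx ρ A p) {T U₀ : Subgroup S} (hU₀ : IsLine A p U₀) {v : E}
    (hv : v ∈ fix ρ U₀) {U' : Subgroup S} (hU' : IsLine A p U') (hmem : U' ∉ orb T U₀) :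
    eU ρ U' (tau ρ T U₀ v) = 0 := by
  rw [eU_tau h hU₀ hv hU', if_neg hmem]

end Cfsg.Agent.Lib.H1.Tpq
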