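import Cfsg.Agent.Lib.H1.TpqG

/-!
Orbit counting and the "one orbit" case for S4414.
-/

namespace Cfsg.Agent.Lib.H1.Tpq

variable {S : Type*} [Group S] {E : Type*} [AddCommGroup E] [Module (ZMod 2) E]
variable {ρ : Representation (ZMod 2) S E} {A : Subgroup S} {p : ℕ}

/-- the geometric sum of the powers of `ρ y` lands in the fixed points of `y`. -/
theorem sum_pow_mem_fix (ρ : Representation (ZMod 2) S E) (y : S) (n : ℕ) (hy : y ^ n = 1)
    (w : E) : ∑ i ∈ Finset.range n, ((ρ y) ^ i) w ∈ fix ρ (Subgroup.zpowers y) := by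
  set v := ∑ i ∈ Finset.range n, ((ρ y) ^ i) w with hv
  have h1 : ρ y v = v := by
    have e1 : ρ y v = ∑ i ∈ Finset.range n, ((ρ y) ^ (i + 1)) w := by
      rw [hv, map_sum]
      apply Finset.sum_congr rfl
      intro i _
      rw [pow_succ', Module.End.mul_apply]
    have e2 := Finset.sum_range_succ (fun i => ((ρ y) ^ i) w) n
    have e3 := Finset.sum_range_succ' (fun i => ((ρ y) ^ i) w) n
    have e4 : ((ρ y) ^ n) w = w := by
      rw [← map_pow, hy, map_one]; rfl
    have e5 : ((ρ y) ^ 0) w = w := by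
      rw [pow_zero]; rfl
    rw [e1]
    have e6 : ∑ i ∈ Finset.range n, ((ρ y) ^ (i + 1)) w + w = v + w := by
      have := e3.symm.trans e2
      simpa only [e4, e5] using this
    exact add_right_cancel e6
  have h2 : Subgroup.zpowers y ≤ vstab ρ v := by
    rw [Subgroup.zpowers_le]
    exact h1
  intro x hx
  exact h2 hx

theorem rho_pow (ρ : Representation (ZMod 2) S E) (y : S) (r : ℕ) (w : E) :
    ((ρ y) ^ r) w = ρ (y ^ r) w := by
  rw [map_pow]

variable [Finite S]

/-- orbit-stabilizer for the conjugation action on subgroups. -/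
theorem card_eq_orb_mul (H U₀ : Subgroup S) :
    Nat.card H = (orb H U₀).card * Nat.card ↥(H ⊓ Subgroup.normalizer (U₀ : Set S)) := by
  classical
  rw [← card_fs H, ← card_fs (H ⊓ Subgroup.normalizer (U₀ : Set S))]
  rw [Finset.card_eq_sum_card_fiberwise (f := fun k => cj k U₀) (t := orb H U₀)]
  · rw [Finset.sum_const_nat]
    intro U hU
    obtain ⟨ht, htU⟩ := tOf_spec ((mem_orb H U₀ U).1 hU)
    set t := tOf H U₀ U
    symm
    apply Finset.card_bij (fun n _ => t * n)
    · intro n hn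
      rw [mem_fs] at hn
      rw [Finset.mem_filter, mem_fs]
      refine ⟨H.mul_mem ht hn.1, ?_⟩
      rw [cj_mul, cj_eq_self_of_mem_normalizer hn.2, htU]
    · intro a _ b _ hab
      exact mul_left_cancel hab
    · intro k hk
      rw [Finset.mem_filter, mem_fs] at hk
      refine ⟨t⁻¹ * k, ?_, by group⟩
      rw [mem_fs]
      refine ⟨H.mul_mem (H.inv_mem ht) hk.1, mem_normalizer_of_cj_eq ?_⟩
      rw [cj_mul, hk.2, ← htU, ← cj_mul, inv_mul_cancel, cj_one]
  · intro k hk
    exact (mem_orb _ _ _).2 ⟨k, (mem_fs H k).1 hk, rfl⟩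

theorem fix_cj_ne_bot (ρ : Representation (ZMod 2) S E) (g : S) (U : Subgroup S)
    (hne : fix ρ U ≠ ⊥) : fix ρ (cj g U) ≠ ⊥ := by
  obtain ⟨v, hv, hv0⟩ := (Submodule.ne_bot_iff _).1 hne
  rw [Submodule.ne_bot_iff]
  refine ⟨ρ g v, fix_cj ρ g U hv, ?_⟩
  intro h0
  apply hv0
  apply rho_injective ρ g
  rw [h0, map_zero]

/-- the fixed points of a line are stable under `A`. -/
theorem rho_mem_fix_line (h : LineCtx ρ A p) {U : Subgroup S} (hU : IsLine A p U) {y : S}
    (hy : y ∈ A) {w : E} (hw : w ∈ fix ρ U) : ρ y w ∈ fix ρ U := by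
  intro u hu
  rw [← rho_mul, h.comm u (hU.1 hu) y hy, rho_mul, hw u hu]

/-- the fixed points of a line are stable under its normalizer. -/
theorem rho_mem_fix_of_normalizer (ρ : Representation (ZMod 2) S E) {U : Subgroup S} {c : S}
    (hc : c ∈ Subgroup.normalizer (U : Set S)) {w : E} (hw : w ∈ fix ρ U) :
    ρ c w ∈ fix ρ U := by
  have := fix_cj ρ c U hw
  rwa [cj_eq_self_of_mem_normalizer hc] at this

/-- a vector fixed by a line and by an element outside it is zero. -/
theorem eq_zero_of_fix_line_of_fix (h : LineCtx ρ A p) {U : Subgroup S} (hU : IsLine A p U)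
    {z : S} (hzA : z ∈ A) (hzU : z ∉ U) {w : E} (hw : w ∈ fix ρ U) (hz : ρ z w = w) :
    w = 0 := by
  have hz1 : z ≠ 1 := fun h1 => hzU (h1 ▸ U.one_mem)
  have hl := zpowers_isLine h hzA hz1
  have hne : U ≠ Subgroup.zpowers z := by
    intro hEq
    apply hzU
    rw [hEq]
    exact Subgroup.mem_zpowers z
  have h2 : Subgroup.zpowers z ≤ vstab ρ w := by
    rw [Subgroup.zpowers_le]; exact hz
  have h3 : w ∈ fix ρ (Subgroup.zpowers z) := fun x hx => h2 hx
  have h4 := fix_sup ρ U (Subgroup.zpowers z) ⟨hw, h3⟩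
  rw [line_sup_eq h hU hl hne, h.fixA, Submodule.mem_bot] at h4
  exact h4

end Cfsg.Agent.Lib.H1.Tpq
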