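import Cfsg.Agent.Lib.H1.TpqH

/-!
The "one orbit" case for S4414.
-/

namespace Cfsg.Agent.Lib.H1.Tpq

variable {S : Type*} [Group S] {E : Type*} [AddCommGroup E] [Module (ZMod 2) E]
variable {ρ : Representation (ZMod 2) S E} {A : Subgroup S} {p : ℕ}
variable [Finite S] [Finite E]

theorem eight_le_card_of_finrank {W : Submodule (ZMod 2) E} {q : ℕ} (hq : 3 ≤ q)
    (h : q ≤ Module.finrank (ZMod 2) W) : 8 ≤ Nat.card W := by
  rw [Module.natCard_eq_pow_finrank (K := ZMod 2), Nat.card_zmod]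
  calc 8 = 2 ^ 3 := by norm_num
    _ ≤ 2 ^ q := Nat.pow_le_pow_right (by norm_num) hq
    _ ≤ _ := Nat.pow_le_pow_right (by norm_num) h

theorem three_le_of_prime {q : ℕ} (hq : q.Prime) (hq2 : q ≠ 2) : 3 ≤ q := by
  have := hq.two_le
  omega

/-- if `s` normalizes the line `U`, and moves some `y ∈ A` outside `U` only within `U`, then
it moves all of `A` within `U`. -/
theorem comm_mem_of_comm_mem (h : LineCtx ρ A p) {U : Subgroup S} (hU : IsLine A p U)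
    {s : S} (hsU : s ∈ Subgroup.normalizer (U : Set S)) {y : S} (hyA : y ∈ A) (hyU : y ∉ U)
    (hz : s * y * s⁻¹ * y⁻¹ ∈ U) : ∀ a ∈ A, s * a * s⁻¹ * a⁻¹ ∈ U := by
  -- the subgroup of `a ∈ A` moved within `U`
  let D : Subgroup S :=
    { carrier := {a | a ∈ A ∧ s * a * s⁻¹ * a⁻¹ ∈ U}
      one_mem' := ⟨A.one_mem, by simp [U.one_mem]⟩
      mul_mem' := by
        rintro a b ⟨haA, ha⟩ ⟨hbA, hb⟩
        refine ⟨A.mul_mem haA hbA, ?_⟩
        have hb' : s * b * s⁻¹ * b⁻¹ ∈ A := hU.1 hb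
        have e : s * (a * b) * s⁻¹ * (a * b)⁻¹ =
            (s * a * s⁻¹ * a⁻¹) * (a * (s * b * s⁻¹ * b⁻¹) * a⁻¹) := by group
        have e2 : a * (s * b * s⁻¹ * b⁻¹) * a⁻¹ = s * b * s⁻¹ * b⁻¹ := by
          rw [h.comm a haA _ hb', mul_assoc, mul_inv_cancel, mul_one]
        rw [e, e2]
        exact U.mul_mem ha hb
      inv_mem' := by
        rintro a ⟨haA, ha⟩
        refine ⟨A.inv_mem haA, ?_⟩
        have ha' : s * a * s⁻¹ * a⁻¹ ∈ A := hU.1 ha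
        have e : s * a⁻¹ * s⁻¹ * a⁻¹⁻¹ = a⁻¹ * (s * a * s⁻¹ * a⁻¹)⁻¹ * a := by group
        have e2 : a⁻¹ * (s * a * s⁻¹ * a⁻¹)⁻¹ * a = (s * a * s⁻¹ * a⁻¹)⁻¹ := by
          rw [h.comm a⁻¹ (A.inv_mem haA) _ (A.inv_mem ha'), mul_assoc, inv_mul_cancel, mul_one]
        rw [e, e2]
        exact U.inv_mem ha }
  have hUD : U ≤ D := by
    intro u hu
    refine ⟨hU.1 hu, ?_⟩
    have h1 : s * u * s⁻¹ ∈ U := by
      have := (Subgroup.mem_normalizer_iff.1 hsU u).1 hu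
      exact this
    exact U.mul_mem h1 (U.inv_mem hu)
  have hyD : y ∈ D := ⟨hyA, hz⟩
  have hy1 : y ≠ 1 := fun h1 => hyU (h1 ▸ U.one_mem)
  have hl := zpowers_isLine h hyA hy1
  have hne : U ≠ Subgroup.zpowers y := by
    intro hEq
    apply hyU
    rw [hEq]
    exact Subgroup.mem_zpowers y
  have hAD : A ≤ D := by
    rw [← line_sup_eq h hU hl hne]
    exact sup_le hUD ((Subgroup.zpowers_le).2 hyD)
  intro a ha
  exact (hAD ha).2

/-- The case where the lines with nonzero fixed points form one `T`-orbit. -/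
theorem caseBeta (h : LineCtx ρ A p) (q : ℕ) (hq : q.Prime) (hq2 : q ≠ 2)
    (T K : Subgroup S) (hTK : T ≤ K) (hT : IsPGroup 2 T) (hK : Nat.card K = q * Nat.card T)
    (U₀ : Subgroup S) (hU₀ : IsLine A p U₀) (hne : fix ρ U₀ ≠ ⊥)
    (hβ : ∀ U, IsLine A p U → fix ρ U ≠ ⊥ → ∃ t ∈ T, cj t U₀ = U)
    (hs : ∀ s ∈ K, orderOf s = q → ∀ U, IsLine A p U → s ∈ Subgroup.normalizer (U : Set S) →
      ∃ a ∈ A, s * a * s⁻¹ * a⁻¹ ∉ U) :
    8 ≤ Nat.card ↥(fix ρ T) := by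
  classical
  -- the orbits agree
  have horb : orb K U₀ = orb T U₀ := by
    ext U
    rw [mem_orb, mem_orb]
    constructor
    · rintro ⟨k, _, rfl⟩
      exact hβ _ (hU₀.cj h k) (fix_cj_ne_bot ρ k U₀ hne)
    · rintro ⟨t, ht, rfl⟩
      exact ⟨t, hTK ht, rfl⟩
  set N := K ⊓ Subgroup.normalizer (U₀ : Set S) with hN
  set N₂ := T ⊓ Subgroup.normalizer (U₀ : Set S) with hN₂
  have hcard : Nat.card N = q * Nat.card N₂ := by
    have h1 := card_eq_orb_mul K U₀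
    have h2 := card_eq_orb_mul T U₀
    rw [horb] at h1
    have hpos : 0 < (orb T U₀).card := Finset.card_pos.2 ⟨U₀, self_mem_orb T U₀⟩
    rw [hK, h2] at h1
    have h3 : (orb T U₀).card * (q * Nat.card N₂) = (orb T U₀).card * Nat.card N := by
      rw [← h1]; ring
    exact (Nat.eq_of_mul_eq_mul_left hpos h3).symm
  obtain ⟨y, hyA, hyU⟩ := exists_not_mem h hU₀
  have hyp : y ^ p = 1 := h.exp y hyA
  have hyM : ∀ w ∈ fix ρ U₀, ρ y w ∈ fix ρ U₀ := fun w hw => rho_mem_fix_line h hU₀ hyA hw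
  have hNM : ∀ c ∈ N, ∀ w ∈ fix ρ U₀, ρ c w ∈ fix ρ U₀ := fun c hc w hw =>
    rho_mem_fix_of_normalizer ρ hc.2 hw
  have hfin := core ρ p q h.hp hq h.hp2 hq2 y (fix ρ U₀) hne hyM ?_ N N₂ hNM ?_
    (inf_le_inf_right _ hTK) (hT.to_le inf_le_left) hcard ?_
  · -- conclude through `tau`
    have h8 : 8 ≤ Nat.card ↥(fix ρ U₀ ⊓ fix ρ N₂) :=
      eight_le_card_of_finrank (three_le_of_prime hq hq2) hfin
    refine h8.trans ?_
    let f : ↥(fix ρ U₀ ⊓ fix ρ N₂) → ↥(fix ρ T) := fun v =>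
      ⟨tau ρ T U₀ v.1, tau_mem_fix ρ v.2.2⟩
    apply Nat.card_le_card_of_injective f
    intro v v' hvv
    have h1 : tau ρ T U₀ v.1 = tau ρ T U₀ v'.1 := congrArg Subtype.val hvv
    have h2 := congrArg (eU ρ U₀) h1
    rw [eU_tau_self h hU₀ v.2.1 v.2.2, eU_tau_self h hU₀ v'.2.1 v'.2.2] at h2
    exact Subtype.ext h2
  · -- hΦ
    intro w hw
    have h1 := sum_pow_mem_fix ρ y p hyp w
    have h2 : ∑ i ∈ Finset.range p, ((ρ y) ^ i) w ∈ fix ρ U₀ :=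
      Submodule.sum_mem _ (fun i _ => pow_mem ρ _ y hyM i w hw)
    have h3 : ρ y (∑ i ∈ Finset.range p, ((ρ y) ^ i) w) = ∑ i ∈ Finset.range p, ((ρ y) ^ i) w :=
      h1 y (Subgroup.mem_zpowers y)
    exact eq_zero_of_fix_line_of_fix h hU₀ hyA hyU h2 h3
  · -- hexp
    intro c hc
    have hcA : c * y * c⁻¹ ∈ A := h.normal c y hyA
    obtain ⟨r, hr, u, hu, hdec⟩ := exists_decomp h hU₀ hyA hyU _ hcA
    refine ⟨r, hr, ?_⟩
    intro w hw
    have hcw : ρ c w ∈ fix ρ U₀ := hNM c hc w hw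
    have e : c * y = y ^ r * u * c := by
      rw [← hdec]; group
    calc ρ c (ρ y w) = ρ (c * y) w := (rho_mul ρ c y w).symm
      _ = ρ (y ^ r * u * c) w := by rw [e]
      _ = ρ (y ^ r) (ρ u (ρ c w)) := by rw [rho_mul, rho_mul]
      _ = ρ (y ^ r) (ρ c w) := by rw [hcw u hu]
      _ = ((ρ y) ^ r) (ρ c w) := (rho_pow ρ y r _).symm
  · -- hq'
    intro s hsN hsq
    by_contra hcon
    push Not at hcon
    have hsinvN : s⁻¹ ∈ N := N.inv_mem hsN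
    -- `z` acts trivially on `fix U₀`
    have hz : ∀ w ∈ fix ρ U₀, ρ (s * y * s⁻¹ * y⁻¹) w = w := by
      intro w hw
      have hy' : ρ y⁻¹ w ∈ fix ρ U₀ := rho_mem_fix_line h hU₀ (A.inv_mem hyA) hw
      have hw' : ρ s⁻¹ (ρ y⁻¹ w) ∈ fix ρ U₀ := hNM _ hsinvN _ hy'
      rw [rho_mul, rho_mul, rho_mul, hcon _ hw', rho_cancel_inv, rho_cancel_inv]
    have hzA : s * y * s⁻¹ * y⁻¹ ∈ A := A.mul_mem (h.normal s y hyA) (A.inv_mem hyA)
    have hzU : s * y * s⁻¹ * y⁻¹ ∈ U₀ := by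
      by_contra hzU
      apply hne
      rw [Submodule.eq_bot_iff]
      intro w hw
      exact eq_zero_of_fix_line_of_fix h hU₀ hzA hzU hw (hz w hw)
    obtain ⟨a, haA, ha⟩ := hs s hsN.1 hsq U₀ hU₀ hsN.2
    exact ha (comm_mem_of_comm_mem h hU₀ hsN.2 hyA hyU hzU a haA)

end Cfsg.Agent.Lib.H1.Tpq
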