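import Cfsg.Agent.Lib.H1.TpqI

/-!
The "two orbits" case for S4414.
-/

namespace Cfsg.Agent.Lib.H1.Tpq

variable {S : Type*} [Group S] {E : Type*} [AddCommGroup E] [Module (ZMod 2) E]
variable {ρ : Representation (ZMod 2) S E} {A : Subgroup S} {p : ℕ}
variable [Finite S]

/-- the lines on which `v` has a nonzero component. -/
noncomputable def supp (ρ : Representation (ZMod 2) S E) (A : Subgroup S) (p : ℕ) (v : E) :
    Finset (Subgroup S) :=
  (Set.toFinite {U : Subgroup S | IsLine A p U ∧ eU ρ U v ≠ 0}).toFinset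

theorem mem_supp (ρ : Representation (ZMod 2) S E) (A : Subgroup S) (p : ℕ) (v : E)
    (U : Subgroup S) : U ∈ supp ρ A p v ↔ IsLine A p U ∧ eU ρ U v ≠ 0 := by
  rw [supp, Set.Finite.mem_toFinset]; rfl

theorem card_supp_rho (h : LineCtx ρ A p) (g : S) (v : E) :
    (supp ρ A p (ρ g v)).card = (supp ρ A p v).card := by
  symm
  apply Finset.card_bij (fun U _ => cj g U)
  · intro U hU
    rw [mem_supp] at hU ⊢
    refine ⟨hU.1.cj h g, ?_⟩
    rw [← rho_eU_conj]
    intro h0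
    apply hU.2
    apply rho_injective ρ g
    rw [h0, map_zero]
  · intro U _ U' _ hEq
    exact cj_injective g hEq
  · intro U' hU'
    rw [mem_supp] at hU'
    have hcc : cj g (cj g⁻¹ U') = U' := by
      rw [← cj_mul, mul_inv_cancel, cj_one]
    refine ⟨cj g⁻¹ U', ?_, hcc⟩
    rw [mem_supp]
    refine ⟨hU'.1.cj h g⁻¹, ?_⟩
    intro h0
    apply hU'.2
    have := rho_eU_conj ρ g (cj g⁻¹ U') v
    rw [hcc, h0, map_zero] at this
    exact this.symm

theorem rho_pow_two_mul (ρ : Representation (ZMod 2) S E) (x : S) (w₀ w₁ : E)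
    (h01 : ρ x w₀ = w₁) (h10 : ρ x w₁ = w₀) (k : ℕ) : ρ (x ^ (2 * k)) w₀ = w₀ := by
  induction k with
  | zero => simp
  | succ k ih =>
    have e : x ^ (2 * (k + 1)) = x ^ (2 * k) * x * x := by
      rw [mul_add, mul_one, pow_add, pow_two, mul_assoc]
    rw [e, rho_mul, rho_mul, h01, h10, ih]

variable [Finite E]

theorem caseAlpha_aux (h : LineCtx ρ A p) (q : ℕ) (hqodd : q % 2 = 1)
    (T Q : Subgroup S) (hQ : ∀ x ∈ Q, x ^ q = 1)
    (hirr : ∀ N : Submodule (ZMod 2) E, (∀ s : S, ∀ m ∈ N, ρ s m ∈ N) → N = ⊥ ∨ N = ⊤)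
    (hgen : ∀ g : S, ∃ a ∈ A, ∃ k ∈ T ⊔ Q, g = a * k)
    (U₀ U₁ : Subgroup S) (hU₀ : IsLine A p U₀) (hU₁ : IsLine A p U₁)
    (w₀ w₁ : E) (hw₀ : w₀ ∈ fix ρ T) (hw₁ : w₁ ∈ fix ρ T)
    (h00 : eU ρ U₀ w₀ ≠ 0) (h11 : eU ρ U₁ w₁ ≠ 0) (h10 : eU ρ U₁ w₀ = 0)
    (h01 : eU ρ U₀ w₁ = 0)
    (hdisj : ∀ U, IsLine A p U → eU ρ U w₀ = 0 ∨ eU ρ U w₁ = 0) :
    8 ≤ Nat.card ↥(fix ρ T) ∨
      (Nat.card ↥(fix ρ T) = 4 ∧ ∃ x ∈ Q, ∃ v ∈ fix ρ T, ρ x v ∉ fix ρ T) := by
  classical
  have hw₀0 : w₀ ≠ 0 := by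
    rintro rfl; exact h00 (map_zero _)
  have hw₁0 : w₁ ≠ 0 := by
    rintro rfl; exact h11 (map_zero _)
  have hne01 : w₀ ≠ w₁ := by
    intro hEq; rw [hEq] at h10; exact h11 h10
  have hs0 : w₀ + w₁ ≠ 0 := by
    intro h0; exact hne01 (eq_of_add_eq_zero_zmod2 h0).symm
  have hsw₀ : w₀ + w₁ ≠ w₀ := by
    intro h0; exact hw₁0 (by simpa using h0)
  have hsw₁ : w₀ + w₁ ≠ w₁ := by
    intro h0; exact hw₀0 (by simpa using h0)
  by_cases h8 : 8 ≤ Nat.card ↥(fix ρ T)
  · exact Or.inl h8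
  right
  letI : Fintype ↥(fix ρ T) := Fintype.ofFinite _
  let w₀' : ↥(fix ρ T) := ⟨w₀, hw₀⟩
  let w₁' : ↥(fix ρ T) := ⟨w₁, hw₁⟩
  let F : Finset ↥(fix ρ T) := {0, w₀', w₁', w₀' + w₁'}
  have hF : F.card = 4 := by
    have e1 : w₁' ≠ w₀' + w₁' := fun hEq => hsw₁ (congrArg Subtype.val hEq).symm
    have e2 : w₀' ≠ w₁' := fun hEq => hne01 (congrArg Subtype.val hEq)
    have e3 : w₀' ≠ w₀' + w₁' := fun hEq => hsw₀ (congrArg Subtype.val hEq).symm
    have e4 : (0 : ↥(fix ρ T)) ≠ w₀' := fun hEq => hw₀0 (congrArg Subtype.val hEq).symm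
    have e5 : (0 : ↥(fix ρ T)) ≠ w₁' := fun hEq => hw₁0 (congrArg Subtype.val hEq).symm
    have e6 : (0 : ↥(fix ρ T)) ≠ w₀' + w₁' := fun hEq => hs0 (congrArg Subtype.val hEq).symm
    rw [Finset.card_insert_of_notMem, Finset.card_insert_of_notMem,
      Finset.card_insert_of_notMem, Finset.card_singleton]
    · simp only [Finset.mem_singleton]; exact e1
    · simp only [Finset.mem_insert, Finset.mem_singleton, not_or]; exact ⟨e2, e3⟩
    · simp only [Finset.mem_insert, Finset.mem_singleton, not_or]; exact ⟨e4, e5, e6⟩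
  have hcard4 : Nat.card ↥(fix ρ T) = 4 := by
    have hle : 4 ≤ Nat.card ↥(fix ρ T) := by
      rw [Nat.card_eq_fintype_card, ← hF]
      exact Finset.card_le_univ F
    have hpow : Nat.card ↥(fix ρ T) = 2 ^ Module.finrank (ZMod 2) ↥(fix ρ T) := by
      rw [Module.natCard_eq_pow_finrank (K := ZMod 2), Nat.card_zmod]
    set d := Module.finrank (ZMod 2) ↥(fix ρ T)
    have hd3 : d < 3 := by
      by_contra hcon
      push Not at hcon
      apply h8
      rw [hpow]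
      calc 8 = 2 ^ 3 := by norm_num
        _ ≤ 2 ^ d := Nat.pow_le_pow_right (by norm_num) hcon
    have hd2 : 2 ≤ d := by
      by_contra hcon
      push Not at hcon
      have : 2 ^ d ≤ 2 ^ 1 := Nat.pow_le_pow_right (by norm_num) (by omega)
      omega
    have : d = 2 := by omega
    rw [hpow, this]
    norm_num
  refine ⟨hcard4, ?_⟩
  have hFuniv : F = Finset.univ := by
    apply Finset.eq_univ_of_card
    rw [hF, ← hcard4, Nat.card_eq_fintype_card]
  have hall : ∀ v ∈ fix ρ T, v = 0 ∨ v = w₀ ∨ v = w₁ ∨ v = w₀ + w₁ := by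
    intro v hv
    have hmem : (⟨v, hv⟩ : ↥(fix ρ T)) ∈ F := by
      rw [hFuniv]; exact Finset.mem_univ _
    simp only [F, Finset.mem_insert, Finset.mem_singleton] at hmem
    rcases hmem with hm | hm | hm | hm
    · exact Or.inl (congrArg Subtype.val hm)
    · exact Or.inr (Or.inl (congrArg Subtype.val hm))
    · exact Or.inr (Or.inr (Or.inl (congrArg Subtype.val hm)))
    · exact Or.inr (Or.inr (Or.inr (congrArg Subtype.val hm)))
  by_contra hcon
  push Not at hcon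
  -- supports
  have hsub₀ : supp ρ A p w₀ ⊂ supp ρ A p (w₀ + w₁) := by
    rw [Finset.ssubset_iff_of_subset]
    · refine ⟨U₁, ?_, ?_⟩
      · rw [mem_supp]
        refine ⟨hU₁, ?_⟩
        rw [map_add, h10, zero_add]; exact h11
      · rw [mem_supp]
        intro hh; exact hh.2 h10
    · intro U hU
      rw [mem_supp] at hU ⊢
      refine ⟨hU.1, ?_⟩
      rcases hdisj U hU.1 with hz | hz
      · exact absurd hz hU.2
      · rw [map_add, hz, add_zero]; exact hU.2
  have hsub₁ : supp ρ A p w₁ ⊂ supp ρ A p (w₀ + w₁) := by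
    rw [Finset.ssubset_iff_of_subset]
    · refine ⟨U₀, ?_, ?_⟩
      · rw [mem_supp]
        refine ⟨hU₀, ?_⟩
        rw [map_add, h01, add_zero]; exact h00
      · rw [mem_supp]
        intro hh; exact hh.2 h01
    · intro U hU
      rw [mem_supp] at hU ⊢
      refine ⟨hU.1, ?_⟩
      rcases hdisj U hU.1 with hz | hz
      · rw [map_add, hz, zero_add]; exact hU.2
      · exact absurd hz hU.2
  have hc₀ := Finset.card_lt_card hsub₀
  have hc₁ := Finset.card_lt_card hsub₁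
  -- the action of `Q` on `w₀`, `w₁`
  have hQ01 : ∀ x ∈ Q, (ρ x w₀ = w₀ ∨ ρ x w₀ = w₁) ∧ (ρ x w₁ = w₀ ∨ ρ x w₁ = w₁) := by
    intro x hx
    constructor
    · rcases hall _ (hcon x hx w₀ hw₀) with hz | hz | hz | hz
      · exfalso; apply hw₀0; apply rho_injective ρ x; rw [hz, map_zero]
      · exact Or.inl hz
      · exact Or.inr hz
      · exfalso
        have := card_supp_rho h x w₀
        rw [hz] at this
        omega
    · rcases hall _ (hcon x hx w₁ hw₁) with hz | hz | hz | hz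
      · exfalso; apply hw₁0; apply rho_injective ρ x; rw [hz, map_zero]
      · exact Or.inl hz
      · exact Or.inr hz
      · exfalso
        have := card_supp_rho h x w₁
        rw [hz] at this
        omega
  have hQfix : ∀ x ∈ Q, ρ x w₀ = w₀ := by
    intro x hx
    obtain ⟨ha, hb⟩ := hQ01 x hx
    rcases ha with ha | ha
    · exact ha
    exfalso
    have hb' : ρ x w₁ = w₀ := by
      rcases hb with hb | hb
      · exact hb
      · exfalso
        apply hne01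
        apply rho_injective ρ x
        rw [ha, hb]
    have hk := rho_pow_two_mul ρ x w₀ w₁ ha hb' (q / 2)
    have hq' : q = 2 * (q / 2) + 1 := by omega
    have hxq := hQ x hx
    rw [hq', pow_succ] at hxq
    have : ρ (x ^ (2 * (q / 2)) * x) w₀ = w₀ := by rw [hxq, rho_one]
    rw [rho_mul, ha] at this
    -- `ρ (x^(2k)) w₁ = w₀`, but also `ρ (x^(2k)) w₀ = w₀`
    apply hne01
    apply rho_injective ρ (x ^ (2 * (q / 2)))
    rw [hk, this]
  have hK : T ⊔ Q ≤ vstab ρ w₀ := sup_le (fun t ht => hw₀ t ht) (fun x hx => hQfix x hx)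
  -- the submodule generated by the `A`-translates of `w₀`
  let W' : Submodule (ZMod 2) E := Submodule.span (ZMod 2) (Set.range (fun a : A => ρ a.1 w₀))
  have hW'inv : ∀ s : S, ∀ m ∈ W', ρ s m ∈ W' := by
    intro s
    have : W'.map (ρ s) ≤ W' := by
      rw [Submodule.map_span_le]
      rintro m ⟨⟨b, hb⟩, rfl⟩
      obtain ⟨a, ha, k, hk, rfl⟩ := hgen s
      have hkw : ρ k w₀ = w₀ := hK hk
      apply Submodule.subset_span
      refine ⟨⟨a * (k * b * k⁻¹), A.mul_mem ha (h.normal k b hb)⟩, ?_⟩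
      show ρ (a * (k * b * k⁻¹)) w₀ = ρ (a * k) (ρ b w₀)
      have e : a * k * b = a * (k * b * k⁻¹) * k := by group
      calc ρ (a * (k * b * k⁻¹)) w₀ = ρ (a * (k * b * k⁻¹)) (ρ k w₀) := by rw [hkw]
        _ = ρ (a * (k * b * k⁻¹) * k) w₀ := (rho_mul ρ _ k w₀).symm
        _ = ρ (a * k * b) w₀ := by rw [e]
        _ = ρ (a * k) (ρ b w₀) := rho_mul ρ _ b w₀
    intro m hm
    exact this ⟨m, hm, rfl⟩
  have hw₀W' : w₀ ∈ W' := by
    apply Submodule.subset_span
    exact ⟨⟨1, A.one_mem⟩, rho_one ρ w₀⟩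
  have hW'top : W' = ⊤ := by
    rcases hirr W' hW'inv with hb | ht
    · exfalso
      rw [hb, Submodule.mem_bot] at hw₀W'
      exact hw₀0 hw₀W'
    · exact ht
  have hker : W' ≤ LinearMap.ker (eU ρ U₁) := by
    rw [Submodule.span_le]
    rintro m ⟨⟨a, ha⟩, rfl⟩
    rw [SetLike.mem_coe, LinearMap.mem_ker]
    show eU ρ U₁ (ρ a w₀) = 0
    rw [← rho_comm_eU ρ U₁ a (fun u hu => h.comm a ha u (hU₁.1 hu)), h10, map_zero]
  apply h11
  have : w₁ ∈ W' := by rw [hW'top]; exact Submodule.mem_top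
  exact LinearMap.mem_ker.1 (hker this)

end Cfsg.Agent.Lib.H1.Tpq
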