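import Cfsg.Agent.Lib.H1.TpqJ

/-!
The "two orbits" case assembled, and the group-theoretic lemmas for S4414.
-/

namespace Cfsg.Agent.Lib.H1.Tpq

section Rep

variable {S : Type*} [Group S] {E : Type*} [AddCommGroup E] [Module (ZMod 2) E]
variable {ρ : Representation (ZMod 2) S E} {A : Subgroup S} {p : ℕ}
variable [Finite S] [Finite E]

theorem caseAlpha (h : LineCtx ρ A p) (q : ℕ) (hqodd : q % 2 = 1)
    (T Q : Subgroup S) (hT : IsPGroup 2 T) (hQ : ∀ x ∈ Q, x ^ q = 1)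
    (hirr : ∀ N : Submodule (ZMod 2) E, (∀ s : S, ∀ m ∈ N, ρ s m ∈ N) → N = ⊥ ∨ N = ⊤)
    (hgen : ∀ g : S, ∃ a ∈ A, ∃ k ∈ T ⊔ Q, g = a * k)
    (U₀ U₁ : Subgroup S) (hU₀ : IsLine A p U₀) (hU₁ : IsLine A p U₁)
    (hne₀ : fix ρ U₀ ≠ ⊥) (hne₁ : fix ρ U₁ ≠ ⊥)
    (hα : ¬ ∃ t ∈ T, cj t U₀ = U₁) :
    8 ≤ Nat.card ↥(fix ρ T) ∨
      (Nat.card ↥(fix ρ T) = 4 ∧ ∃ x ∈ Q, ∃ v ∈ fix ρ T, ρ x v ∉ fix ρ T) := by
  obtain ⟨v₀, hv₀U, hv₀N, hv₀0⟩ := exists_fixed_ne_zero ρ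
    (T ⊓ Subgroup.normalizer (U₀ : Set S)) (hT.to_le inf_le_left) (fix ρ U₀)
    (fun g hg w hw => rho_mem_fix_of_normalizer ρ hg.2 hw) hne₀
  obtain ⟨v₁, hv₁U, hv₁N, hv₁0⟩ := exists_fixed_ne_zero ρ
    (T ⊓ Subgroup.normalizer (U₁ : Set S)) (hT.to_le inf_le_left) (fix ρ U₁)
    (fun g hg w hw => rho_mem_fix_of_normalizer ρ hg.2 hw) hne₁
  have hα' : ¬ ∃ t ∈ T, cj t U₁ = U₀ := by
    rintro ⟨t, ht, hEq⟩
    apply hα
    refine ⟨t⁻¹, T.inv_mem ht, ?_⟩
    rw [← hEq, ← cj_mul, inv_mul_cancel, cj_one]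
  have hn10 : U₁ ∉ orb T U₀ := fun hm => hα ((mem_orb _ _ _).1 hm)
  have hn01 : U₀ ∉ orb T U₁ := fun hm => hα' ((mem_orb _ _ _).1 hm)
  apply caseAlpha_aux h q hqodd T Q hQ hirr hgen U₀ U₁ hU₀ hU₁ (tau ρ T U₀ v₀) (tau ρ T U₁ v₁)
    (tau_mem_fix ρ hv₀N) (tau_mem_fix ρ hv₁N)
  · rw [eU_tau_self h hU₀ hv₀U hv₀N]; exact hv₀0
  · rw [eU_tau_self h hU₁ hv₁U hv₁N]; exact hv₁0
  · exact eU_tau_not_mem h hU₀ hv₀U hU₁ hn10
  · exact eU_tau_not_mem h hU₁ hv₁U hU₀ hn01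
  · intro U hU
    by_cases hm : U ∈ orb T U₀
    · right
      apply eU_tau_not_mem h hU₁ hv₁U hU
      intro hm1
      obtain ⟨t, ht, rfl⟩ := (mem_orb _ _ _).1 hm
      obtain ⟨t', ht', hEq⟩ := (mem_orb _ _ _).1 hm1
      apply hα
      refine ⟨t'⁻¹ * t, T.mul_mem (T.inv_mem ht') ht, ?_⟩
      apply cj_injective t'
      have e : t' * (t'⁻¹ * t) = t := by group
      rw [← cj_mul, e]
      exact hEq.symm
    · left
      exact eU_tau_not_mem h hU₀ hv₀U hU hm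

end Rep

section Grp

variable {S : Type*} [Group S]

/-- an element normalizing `U < A` and centralizing `A / U` cannot generate a conjugate of `Q`
when `⁅A, Q⁆ = A`. -/
theorem no_central_q (A Q : Subgroup S) [Finite S]
    (hAn : ∀ g : S, ∀ a ∈ A, g * a * g⁻¹ ∈ A) (hcomm : ⁅A, Q⁆ = A)
    (g s : S) (hconj : cj g Q = Subgroup.zpowers s) (U : Subgroup S) (hUA : U ≤ A) (hne : U ≠ A)
    (hsU : s ∈ Subgroup.normalizer (U : Set S)) (hall : ∀ a ∈ A, s * a * s⁻¹ * a⁻¹ ∈ U) :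
    False := by
  let C : Subgroup S :=
    { carrier := {h | h ∈ Subgroup.normalizer (U : Set S) ∧ ∀ a ∈ A, h * a * h⁻¹ * a⁻¹ ∈ U}
      one_mem' := ⟨Subgroup.one_mem _, fun a _ => by simp [U.one_mem]⟩
      mul_mem' := by
        rintro h k ⟨hh, hha⟩ ⟨hk, hka⟩
        refine ⟨Subgroup.mul_mem _ hh hk, ?_⟩
        intro a ha
        have e : h * k * a * (h * k)⁻¹ * a⁻¹ =
            (h * (k * a * k⁻¹ * a⁻¹) * h⁻¹) * (h * a * h⁻¹ * a⁻¹) := by group
        rw [e]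
        exact U.mul_mem ((Subgroup.mem_normalizer_iff.1 hh _).1 (hka a ha)) (hha a ha)
      inv_mem' := by
        rintro h ⟨hh, hha⟩
        have hh' : h⁻¹ ∈ Subgroup.normalizer (U : Set S) := Subgroup.inv_mem _ hh
        refine ⟨hh', ?_⟩
        intro a ha
        have e : h⁻¹ * a * h⁻¹⁻¹ * a⁻¹ = h⁻¹ * (h * a * h⁻¹ * a⁻¹)⁻¹ * h⁻¹⁻¹ := by group
        rw [e]
        exact (Subgroup.mem_normalizer_iff.1 hh' _).1 (U.inv_mem (hha a ha)) }
  have hsC : Subgroup.zpowers s ≤ C := by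
    rw [Subgroup.zpowers_le]
    exact ⟨hsU, hall⟩
  have hle : ⁅A, Q⁆ ≤ cj g⁻¹ U := by
    rw [Subgroup.commutator_le]
    intro a ha x hx
    rw [mem_cj, commutatorElement_def]
    have hxC : g * x * g⁻¹ ∈ C := by
      apply hsC
      rw [← hconj, mem_cj]
      have : g⁻¹ * (g * x * g⁻¹) * g = x := by group
      rw [this]; exact hx
    have h1 := hxC.2 (g * a * g⁻¹) (hAn g a ha)
    have e : g⁻¹⁻¹ * (a * x * a⁻¹ * x⁻¹) * g⁻¹ =
        (g * x * g⁻¹ * (g * a * g⁻¹) * (g * x * g⁻¹)⁻¹ * (g * a * g⁻¹)⁻¹)⁻¹ := by group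
    rw [e]
    exact U.inv_mem h1
  rw [hcomm] at hle
  have hc : Nat.card A ≤ Nat.card U := by
    have := Subgroup.card_le_of_le hle
    rwa [card_cj] at this
  exact hne (Subgroup.eq_of_le_of_card_ge hUA hc)

/-- an element of order `q` generates a conjugate of a Sylow `q`-subgroup of order `q`. -/
theorem exists_cj_eq_zpowers [Finite S] (q : ℕ) [Fact q.Prime] (Q : Sylow q S)
    (hQ : Nat.card Q = q) (s : S) (hs : orderOf s = q) :
    ∃ g, cj g (Q : Subgroup S) = Subgroup.zpowers s := by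
  have hmul := Q.card_eq_multiplicity
  have hc : Nat.card (Subgroup.zpowers s) = q ^ (Nat.card S).factorization q := by
    rw [Nat.card_zpowers, hs, ← hmul, hQ]
  obtain ⟨g, hg⟩ := MulAction.exists_smul_eq S Q (Sylow.ofCard (Subgroup.zpowers s) hc)
  refine ⟨g, ?_⟩
  have h1 : ((g • Q : Sylow q S) : Subgroup S) = Subgroup.zpowers s := by
    rw [hg]; rfl
  rw [← h1]
  rfl

/-- a minimal normal subgroup of order `p` or `p ^ 2` is elementary abelian. -/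
theorem elemAb_of_minimal [Finite S] (p : ℕ) (hp : p.Prime) (A : Subgroup S) (hAn : A.Normal)
    (hmin : ∀ N : Subgroup S, N.Normal → N ≤ A → N = ⊥ ∨ N = A)
    (hcard : Nat.card A = p ∨ Nat.card A = p ^ 2) :
    (∀ a ∈ A, ∀ b ∈ A, a * b = b * a) ∧ ∀ a ∈ A, a ^ p = 1 := by
  haveI : Fact p.Prime := ⟨hp⟩
  have hcomm : ∀ a ∈ A, ∀ b ∈ A, a * b = b * a := by
    intro a ha b hb
    rcases hcard with hc | hc
    · haveI : IsCyclic A := isCyclic_of_prime_card hc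
      have := (IsCyclic.isMulCommutative (α := A)).is_comm.comm ⟨a, ha⟩ ⟨b, hb⟩
      exact congrArg Subtype.val this
    · have := (IsPGroup.isMulCommutative_of_card_eq_prime_sq hc).is_comm.comm ⟨a, ha⟩ ⟨b, hb⟩
      exact congrArg Subtype.val this
  refine ⟨hcomm, ?_⟩
  rcases hcard with hc | hc
  · intro a ha
    have := pow_card_eq_one' (G := A) (x := ⟨a, ha⟩)
    rw [hc] at this
    exact congrArg Subtype.val this
  · let Ω : Subgroup S :=
      { carrier := {x | x ∈ A ∧ x ^ p = 1}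
        one_mem' := ⟨A.one_mem, one_pow _⟩
        mul_mem' := by
          rintro x y ⟨hx, hxp⟩ ⟨hy, hyp⟩
          refine ⟨A.mul_mem hx hy, ?_⟩
          have hc' : Commute x y := hcomm x hx y hy
          rw [hc'.mul_pow, hxp, hyp, one_mul]
        inv_mem' := by
          rintro x ⟨hx, hxp⟩
          exact ⟨A.inv_mem hx, by rw [inv_pow, hxp, inv_one]⟩ }
    have hΩn : Ω.Normal := by
      constructor
      rintro x ⟨hx, hxp⟩ g
      refine ⟨hAn.conj_mem x hx g, ?_⟩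
      rw [conj_pow, hxp, mul_one, mul_inv_cancel]
    have hΩA : Ω ≤ A := fun x hx => hx.1
    have hdvd : p ∣ Nat.card A := by rw [hc]; exact dvd_pow_self p (by norm_num)
    obtain ⟨x, hx⟩ := exists_prime_orderOf_dvd_card' p hdvd
    have hxΩ : x.1 ∈ Ω := by
      refine ⟨x.2, ?_⟩
      have := pow_orderOf_eq_one x
      rw [hx] at this
      exact congrArg Subtype.val this
    have hx1 : x.1 ≠ 1 := by
      intro h1
      have : x = 1 := Subtype.ext h1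
      rw [this, orderOf_one] at hx
      exact hp.one_lt.ne hx
    rcases hmin Ω hΩn hΩA with hb | hA
    · exfalso
      rw [hb, Subgroup.mem_bot] at hxΩ
      exact hx1 hxΩ
    · intro a ha
      rw [← hA] at ha
      exact ha.2

/-- three Sylow subgroups for all the primes dividing the order generate the group. -/
theorem sup_eq_top_of_sylows [Finite S] (p q : ℕ) [Fact p.Prime] [Fact q.Prime]
    (hπ : ∀ r : ℕ, r.Prime → r ∣ Nat.card S → r = 2 ∨ r = p ∨ r = q)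
    (S₂ : Sylow 2 S) (Sp : Sylow p S) (Sq : Sylow q S) :
    (Sp : Subgroup S) ⊔ ((S₂ : Subgroup S) ⊔ (Sq : Subgroup S)) = ⊤ := by
  set H := (Sp : Subgroup S) ⊔ ((S₂ : Subgroup S) ⊔ (Sq : Subgroup S)) with hH
  rw [← Subgroup.index_eq_one]
  by_contra hne
  obtain ⟨r, hr, hrd⟩ := Nat.exists_prime_and_dvd hne
  have hrS : r ∣ Nat.card S := hrd.trans (Subgroup.index_dvd_card H)
  rcases hπ r hr hrS with h2 | hp | hq
  · subst h2
    have hle : (S₂ : Subgroup S) ≤ H := le_sup_of_le_right le_sup_left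
    exact S₂.not_dvd_index (hrd.trans (Subgroup.index_dvd_of_le hle))
  · subst hp
    have hle : (Sp : Subgroup S) ≤ H := le_sup_left
    exact Sp.not_dvd_index (hrd.trans (Subgroup.index_dvd_of_le hle))
  · subst hq
    have hle : (Sq : Subgroup S) ≤ H := le_sup_of_le_right le_sup_right
    exact Sq.not_dvd_index (hrd.trans (Subgroup.index_dvd_of_le hle))

end Grp

end Cfsg.Agent.Lib.H1.Tpq
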