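import Mathlib

/-!
# Transvections over the field with two elements (helper1)

`IsTv g v`: the linear automorphism `g` moves every vector by `0` or by the fixed nonzero
vector `v`.  Two such maps with a product of odd order move each other's centres.
-/

set_option autoImplicit false

namespace Cfsg.Agent.Lib.H1.Tv2

variable {V : Type*} [AddCommGroup V] [Module (ZMod 2) V]

/-- `g` is a transvection with centre `v`. -/
def IsTv (g : V ≃ₗ[ZMod 2] V) (v : V) : Prop := v ≠ 0 ∧ ∀ x, g x = x ∨ g x = x + v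

theorem add_self_v (x : V) : x + x = 0 := ZModModule.add_self x

theorem IsTv.apply_center {g : V ≃ₗ[ZMod 2] V} {v : V} (h : IsTv g v) : g v = v := by
  rcases h.2 v with h1 | h1
  · exact h1
  · exfalso
    rw [add_self_v] at h1
    have : g v = g 0 := by rw [h1, map_zero]
    exact h.1 (g.injective this)

theorem IsTv.sq {g : V ≃ₗ[ZMod 2] V} {v : V} (h : IsTv g v) : g * g = 1 := by
  ext x
  rw [LinearEquiv.mul_apply]
  change g (g x) = x
  rcases h.2 x with h1 | h1
  · rw [h1, h1]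
  · rw [h1, map_add, h1, h.apply_center, add_assoc, add_self_v, add_zero]

theorem IsTv.inv_eq {g : V ≃ₗ[ZMod 2] V} {v : V} (h : IsTv g v) : g⁻¹ = g :=
  inv_eq_of_mul_eq_one_right h.sq

theorem IsTv.conj {g : V ≃ₗ[ZMod 2] V} {v : V} (h : IsTv g v) (f : V ≃ₗ[ZMod 2] V) :
    IsTv (f * g * f⁻¹) (f v) := by
  refine ⟨fun h0 => h.1 (f.injective (by rw [h0, map_zero])), fun x => ?_⟩
  have hx : f (f⁻¹ x) = x := by
    have : (f * f⁻¹) x = x := by rw [mul_inv_cancel]; rfl
    exact this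
  rw [LinearEquiv.mul_apply, LinearEquiv.mul_apply]
  rcases h.2 (f⁻¹ x) with h1 | h1
  · left; rw [h1, hx]
  · right; rw [h1, map_add, hx]

/-- the endomorphism `g - 1` -/
noncomputable def dl (g : V ≃ₗ[ZMod 2] V) : Module.End (ZMod 2) V :=
  (g : V →ₗ[ZMod 2] V) - 1

theorem dl_apply (g : V ≃ₗ[ZMod 2] V) (x : V) : dl g x = g x + x := by
  unfold dl
  rw [LinearMap.sub_apply, ZModModule.sub_eq_add]
  rfl

theorem IsTv.dl_cases {g : V ≃ₗ[ZMod 2] V} {v : V} (h : IsTv g v) (x : V) :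
    dl g x = 0 ∨ dl g x = v := by
  rw [dl_apply]
  rcases h.2 x with h1 | h1
  · left; rw [h1, add_self_v]
  · right; rw [h1, add_comm x v, add_assoc, add_self_v, add_zero]

theorem dl_eq_zero_of_fix {g : V ≃ₗ[ZMod 2] V} {w : V} (h : g w = w) : dl g w = 0 := by
  rw [dl_apply, h, add_self_v]

theorem IsTv.dl_mul_eq_zero {a b : V ≃ₗ[ZMod 2] V} {w : V} (hb : IsTv b w)
    (h : a w = w) : dl a * dl b = 0 := by
  ext x
  rw [Module.End.mul_apply, LinearMap.zero_apply]
  rcases hb.dl_cases x with h1 | h1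
  · rw [h1, map_zero]
  · rw [h1, dl_eq_zero_of_fix h]

theorem end_add_self (r : Module.End (ZMod 2) V) : r + r = 0 := by
  ext x
  rw [LinearMap.add_apply, add_self_v, LinearMap.zero_apply]

theorem toEnd_eq (g : V ≃ₗ[ZMod 2] V) : (g : V →ₗ[ZMod 2] V) = 1 + dl g := by
  ext x
  rw [LinearMap.add_apply, dl_apply, Module.End.one_apply, ← add_assoc, add_comm x (g x),
    add_assoc, add_self_v, add_zero]
  rfl

theorem IsTv.pow_four_of_fix {a b : V ≃ₗ[ZMod 2] V} {u w : V} (ha : IsTv a u) (hb : IsTv b w)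
    (h : a w = w) : (a * b) ^ 4 = 1 := by
  have haa : dl a * dl a = 0 := ha.dl_mul_eq_zero ha.apply_center
  have hbb : dl b * dl b = 0 := hb.dl_mul_eq_zero hb.apply_center
  have hab : dl a * dl b = 0 := hb.dl_mul_eq_zero h
  -- compute in the endomorphism ring
  have h1 : ((a * b : V ≃ₗ[ZMod 2] V) : V →ₗ[ZMod 2] V) = 1 + (dl a + dl b) := by
    have : ((a * b : V ≃ₗ[ZMod 2] V) : V →ₗ[ZMod 2] V)
        = (a : V →ₗ[ZMod 2] V) * (b : V →ₗ[ZMod 2] V) := rfl
    rw [this, toEnd_eq a, toEnd_eq b, mul_add, add_mul, add_mul, one_mul, mul_one, one_mul, hab,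
      add_zero, add_assoc]
  have h2 : (1 + (dl a + dl b)) * (1 + (dl a + dl b)) = (1 : Module.End (ZMod 2) V) + dl b * dl a := by
    have e : (1 + (dl a + dl b)) * (1 + (dl a + dl b))
        = (1 : Module.End (ZMod 2) V) + ((dl a + dl b) + (dl a + dl b))
          + (dl a * dl a + dl a * dl b + (dl b * dl a + dl b * dl b)) := by
      noncomm_ring
    rw [e, end_add_self, haa, hbb, hab, add_zero, zero_add, add_zero, zero_add]
  have h3 : ((1 : Module.End (ZMod 2) V) + dl b * dl a) * (1 + dl b * dl a) = 1 := by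
    have e : ((1 : Module.End (ZMod 2) V) + dl b * dl a) * (1 + dl b * dl a)
        = 1 + (dl b * dl a + dl b * dl a) + dl b * (dl a * dl b) * dl a := by
      noncomm_ring
    rw [e, end_add_self, hab, mul_zero, zero_mul, add_zero, add_zero]
  apply LinearEquiv.toLinearMap_injective
  have h4 : (((a * b) ^ 4 : V ≃ₗ[ZMod 2] V) : V →ₗ[ZMod 2] V)
      = ((a * b : V ≃ₗ[ZMod 2] V) : V →ₗ[ZMod 2] V) ^ 4 :=
    map_pow (LinearEquiv.automorphismGroup.toLinearMapMonoidHom (R := ZMod 2) (M := V)) (a * b) 4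
  rw [h4, h1]
  have h5 : (1 + (dl a + dl b)) ^ 4
      = ((1 + (dl a + dl b)) * (1 + (dl a + dl b))) * ((1 + (dl a + dl b)) * (1 + (dl a + dl b))) := by
    noncomm_ring
  rw [h5, h2, h3]
  rfl

theorem IsTv.move {a b : V ≃ₗ[ZMod 2] V} {u w : V} (ha : IsTv a u) (hb : IsTv b w)
    (hodd : Odd (orderOf (a * b))) (hne : a ≠ b) : a w = w + u := by
  rcases ha.2 w with h | h
  · exfalso
    have h4 := ha.pow_four_of_fix hb h
    have hd : orderOf (a * b) ∣ 4 := orderOf_dvd_of_pow_eq_one h4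
    have hc : (orderOf (a * b)).Coprime 4 := by
      have : (orderOf (a * b)).Coprime 2 := hodd.coprime_two_right
      exact Nat.Coprime.pow_right 2 this
    have h1 : orderOf (a * b) = 1 := Nat.Coprime.eq_one_of_dvd hc hd
    rw [orderOf_eq_one_iff] at h1
    apply hne
    have : a = b⁻¹ := eq_inv_of_mul_eq_one_left h1
    rw [this, hb.inv_eq]
  · exact h

end Cfsg.Agent.Lib.H1.Tv2
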