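import Cfsg.Agent.Lib.H1.Tv2A

/-!
# A transvection that is a square centralizes normalized odd-order subgroups (helper1)
-/

set_option autoImplicit false

namespace Cfsg.Agent.Lib.H1.Tv2

variable {V : Type*} [AddCommGroup V] [Module (ZMod 2) V]

theorem IsTv.eq_of_three {a b c : V ≃ₗ[ZMod 2] V} {u w z : V}
    (ha : IsTv a u) (hb : IsTv b w) (hc : IsTv c z)
    (hab : Odd (orderOf (a * b))) (hca : Odd (orderOf (c * a))) (hcb : Odd (orderOf (c * b)))
    (hcaba : Odd (orderOf (c * (a * b * a)))) (hne : a ≠ b) :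
    c = a ∨ c = b ∨ c = a * b * a := by
  by_contra hcon
  push_neg at hcon
  obtain ⟨h1, h2, h3⟩ := hcon
  have haw : a w = w + u := ha.move hb hab hne
  have haba : IsTv (a * b * a) (w + u) := by
    have := hb.conj a
    rw [ha.inv_eq, haw] at this
    exact this
  have e1 : c u = u + z := hc.move ha hca h1
  have e2 : c w = w + z := hc.move hb hcb h2
  have e3 : c (w + u) = w + u + z := hc.move haba hcaba h3
  rw [map_add, e1, e2] at e3
  apply hc.1
  have h4 : (w + z) + (u + z) = (w + u) + (z + z) := by abel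
  rw [h4, add_self_v, add_zero] at e3
  exact left_eq_add.mp e3

theorem eq_one_of_sq_of_odd {G : Type*} [Group G] {x : G} (h2 : x * x = 1)
    (hodd : Odd (orderOf x)) : x = 1 := by
  have hd : orderOf x ∣ 2 := orderOf_dvd_of_pow_eq_one (by rw [pow_two, h2])
  have hc : (orderOf x).Coprime 2 := hodd.coprime_two_right
  have h1 : orderOf x = 1 := Nat.Coprime.eq_one_of_dvd hc hd
  exact orderOf_eq_one_iff.mp h1

theorem centralizes_of_sq {K : Subgroup (V ≃ₗ[ZMod 2] V)} (hK : ∀ x ∈ K, Odd (orderOf x))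
    {P t : V ≃ₗ[ZMod 2] V} (hP : ∀ x ∈ K, P * x * P⁻¹ ∈ K) (ht : t = P * P) {u : V}
    (htv : IsTv t u) : ∀ f ∈ K, f * t = t * f := by
  intro f hf
  by_contra hne
  have htt : t * t = 1 := htv.sq
  have htinv : t⁻¹ = t := htv.inv_eq
  have hPt : P * t = t * P := by rw [ht, mul_assoc]
  have hPt' : P⁻¹ * t = t * P⁻¹ := by rw [ht]; group
  have htK : ∀ x ∈ K, t * x * t ∈ K := by
    intro x hx
    have h1 := hP _ (hP x hx)
    have h2 : P * (P * x * P⁻¹) * P⁻¹ = t * x * t⁻¹ := by rw [ht]; group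
    rw [h2, htinv] at h1
    exact h1
  obtain ⟨b, hb⟩ : ∃ b, b = f * t * f⁻¹ := ⟨_, rfl⟩
  have hbt : t ≠ b := by
    intro h
    apply hne
    rw [hb] at h
    calc f * t = f * t * f⁻¹ * f := by group
      _ = t * f := by rw [← h]
  have hbtv : IsTv b (f u) := by rw [hb]; exact htv.conj f
  have hbinv : b⁻¹ = b := hbtv.inv_eq
  have hbb : b * b = 1 := hbtv.sq
  have htb : t * b ∈ K := by
    have h1 : t * b = (t * f * t) * f⁻¹ := by rw [hb]; group
    rw [h1]
    exact K.mul_mem (htK f hf) (K.inv_mem hf)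
  have hbt' : b * t ∈ K := by
    have h1 : b * t = (t * b)⁻¹ := by rw [mul_inv_rev, hbinv, htinv]
    rw [h1]
    exact K.inv_mem htb
  obtain ⟨c, hc⟩ : ∃ c, c = P * b * P⁻¹ := ⟨_, rfl⟩
  have hctv : IsTv c (P (f u)) := by rw [hc]; exact hbtv.conj P
  have hct : c * t ∈ K := by
    have h1 : c * t = P * (b * t) * P⁻¹ := by
      rw [hc, mul_assoc (P * b), hPt']; group
    rw [h1]
    exact hP _ hbt'
  have hcb : c * b ∈ K := by
    have h1 : c * b = (c * t) * (t * b) := by
      rw [mul_assoc c t, ← mul_assoc t t, htt, one_mul]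
    rw [h1]
    exact K.mul_mem hct htb
  have hcaba : c * (t * b * t) ∈ K := by
    have h1 : c * (t * b * t) = (c * t) * (b * t) := by group
    rw [h1]
    exact K.mul_mem hct hbt'
  have hcne : c ≠ t := by
    intro h
    apply hbt
    have h1 : b = P⁻¹ * c * P := by rw [hc]; group
    rw [h1, h, hPt']; group
  -- conjugating `b` by `t` in terms of `c`
  have hconj : t * b * t = P * c * P⁻¹ := by
    have h1 : P * c * P⁻¹ = t * b * t⁻¹ := by rw [hc, ht]; group
    rw [h1, htinv]
  have hcomm : t * b * t = b := by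
    rcases htv.eq_of_three hbtv hctv (hK _ htb) (hK _ hct) (hK _ hcb) (hK _ hcaba) hbt with
      h | h | h
    · exact absurd h hcne
    · rw [hconj, h, ← hc, h]
    · rw [hconj, h]
      have h2 : P * (t * b * t) * P⁻¹ = t * (P * b * P⁻¹) * t := by
        rw [show P * (t * b * t) * P⁻¹ = (P * t) * b * (t * P⁻¹) by group, hPt, ← hPt']; group
      rw [h2, ← hc, h]
      calc t * (t * b * t) * t = (t * t) * b * (t * t) := by group
        _ = b := by rw [htt, one_mul, mul_one]
  have hsq : (t * b) * (t * b) = 1 := by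
    calc (t * b) * (t * b) = (t * b * t) * b := by group
      _ = 1 := by rw [hcomm, hbb]
  have h1 := eq_one_of_sq_of_odd hsq (hK _ htb)
  apply hbt
  have : t = b⁻¹ := eq_inv_of_mul_eq_one_left h1
  rw [this, hbinv]

end Cfsg.Agent.Lib.H1.Tv2
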