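import Cfsg.Agent.Lib.H1.Tv2B
import Cfsg.Agent.Lib.H7.DihedralLemma2
import Cfsg.Agent.Lib.H19.Cores

/-!
# In a solvable linear group over `F_2` with trivial `O_2`, no transvection is a square (helper1)
-/

set_option autoImplicit false

namespace Cfsg.Agent.Lib.H1.Tv2

open Cfsg

variable {V : Type*} [AddCommGroup V] [Module (ZMod 2) V]

/-- a normal nilpotent subgroup of a group with trivial `O_2` has only elements of odd order
(after helper19's `not_dvd_orderOf_of_nilpotent`) -/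
theorem odd_orderOf_of_nilpotent_normal {H : Type*} [Group H] [Finite H]
    (hcore : Cfsg.pCore 2 H = ⊥) (K : Subgroup H) [hKn : K.Normal] (hK : Group.IsNilpotent ↥K)
    {q : H} (hq : q ∈ K) : Odd (orderOf q) := by
  rw [← Nat.not_even_iff_odd, even_iff_two_dvd]
  intro hdvd
  haveI hp : Fact (Nat.Prime 2) := ⟨Nat.prime_two⟩
  set q' := q ^ (orderOf q / 2) with hq'
  have ho : orderOf q' = 2 := orderOf_pow_orderOf_div (orderOf_pos q).ne' hdvd
  have hq'K : q' ∈ K := K.pow_mem hq _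
  set Q : Subgroup ↥K := Subgroup.zpowers (⟨q', hq'K⟩ : ↥K) with hQ
  have hQp : IsPGroup 2 Q := by
    apply IsPGroup.of_card (n := 1)
    rw [Nat.card_zpowers, pow_one, ← ho]
    exact Subgroup.orderOf_mk q' hq'K
  obtain ⟨P, hQP⟩ := hQp.exists_le_sylow
  have h03 : Group.IsNilpotent ↥K ↔ ∀ (p : ℕ) (_ : Fact p.Prime) (P : Sylow p ↥K),
      (↑P : Subgroup ↥K).Normal := (Group.isNilpotent_of_finite_tfae (G := ↥K)).out 0 3
  have hPn : (P : Subgroup ↥K).Normal := h03.mp hK 2 hp P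
  haveI hPc : (P : Subgroup ↥K).Characteristic := Sylow.characteristic_of_normal P hPn
  have hn : ((P : Subgroup ↥K).map K.subtype).Normal :=
    ConjAct.normal_of_characteristic_of_normal
  have hp' : IsPGroup 2 ((P : Subgroup ↥K).map K.subtype) := P.isPGroup'.map K.subtype
  have hle := Cfsg.Agent.Lib.H19.le_pCore hn hp'
  rw [hcore] at hle
  have hmem : q' ∈ (P : Subgroup ↥K).map K.subtype :=
    ⟨⟨q', hq'K⟩, hQP (Subgroup.mem_zpowers _), rfl⟩
  have h1 := hle hmem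
  rw [Subgroup.mem_bot] at h1
  rw [h1, orderOf_one] at ho
  exact absurd ho (by norm_num)

theorem exists_isTv_of_card_lt [Finite V] {t : V ≃ₗ[ZMod 2] V} (h1 : t ≠ 1)
    (hc : Nat.card ↥(LinearMap.range (dl t)) < 4) : ∃ u, IsTv t u := by
  have hcard := Module.natCard_eq_pow_finrank (K := ZMod 2) (V := ↥(LinearMap.range (dl t)))
  rw [Nat.card_zmod] at hcard
  rw [hcard] at hc
  have hd : Module.finrank (ZMod 2) ↥(LinearMap.range (dl t)) < 2 := by
    have h4 : (4 : ℕ) = 2 ^ 2 := by norm_num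
    rw [h4] at hc
    exact (Nat.pow_lt_pow_iff_right (by norm_num)).mp hc
  have hd1 : Module.finrank (ZMod 2) ↥(LinearMap.range (dl t)) ≤ 1 := by omega
  obtain ⟨v, hv⟩ := finrank_le_one_iff.mp hd1
  have hcases : ∀ x, dl t x = 0 ∨ dl t x = (v : V) := by
    intro x
    obtain ⟨c, hcx⟩ := hv ⟨dl t x, LinearMap.mem_range_self _ x⟩
    have hcx' : c • (v : V) = dl t x := congrArg Subtype.val hcx
    fin_cases c
    · left
      rw [← hcx']
      exact zero_smul _ _
    · right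
      rw [← hcx']
      exact one_smul _ _
  have hx : ∀ x, t x = dl t x + x := by
    intro x
    rw [dl_apply, add_assoc, add_self_v, add_zero]
  refine ⟨(v : V), ?_, ?_⟩
  · intro h0
    apply h1
    ext x
    rw [hx x]
    rcases hcases x with h | h
    · rw [h, zero_add]; rfl
    · rw [h, h0, zero_add]; rfl
  · intro x
    rw [hx x]
    rcases hcases x with h | h
    · left; rw [h, zero_add]
    · right; rw [h, add_comm]

theorem dl_sq (P : V ≃ₗ[ZMod 2] V) : dl P ^ 2 = dl (P * P) := by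
  have h1 : ((P * P : V ≃ₗ[ZMod 2] V) : V →ₗ[ZMod 2] V)
      = (P : V →ₗ[ZMod 2] V) * (P : V →ₗ[ZMod 2] V) := rfl
  have h2 := toEnd_eq (P * P)
  rw [h1, toEnd_eq P] at h2
  have h3 : (1 + dl P) * (1 + dl P) = 1 + (dl P + dl P) + dl P * dl P := by noncomm_ring
  rw [h3, end_add_self, add_zero] at h2
  rw [pow_two]
  exact add_left_cancel h2

/-- the main statement, in terms of `dl` -/
theorem four_le_card_range [Finite V]
    (S : Subgroup (V ≃ₗ[ZMod 2] V)) (hS : Group.IsSolvable ↥S) (hO2 : Cfsg.pCore 2 ↥S = ⊥)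
    (P : V ≃ₗ[ZMod 2] V) (hPS : P ∈ S) (hP4 : orderOf P = 4) :
    4 ≤ Nat.card ↥(LinearMap.range (dl P ^ 2)) := by
  rw [dl_sq]
  by_contra hlt
  rw [not_le] at hlt
  have ht1 : P * P ≠ 1 := by
    intro h
    have : orderOf P ∣ 2 := orderOf_dvd_of_pow_eq_one (by rw [pow_two, h])
    rw [hP4] at this
    omega
  obtain ⟨u, htv⟩ := exists_isTv_of_card_lt ht1 hlt
  haveI : Finite (V ≃ₗ[ZMod 2] V) := DFunLike.finite _
  set K : Subgroup (V ≃ₗ[ZMod 2] V) := (fittingSubgroup ↥S).map S.subtype with hKdef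
  have hKodd : ∀ x ∈ K, Odd (orderOf x) := by
    rintro x ⟨q, hq, rfl⟩
    have := odd_orderOf_of_nilpotent_normal hO2 (fittingSubgroup ↥S)
      Cfsg.Agent.Lib.H7.fittingSubgroup_isNilpotent hq
    rwa [← Subgroup.orderOf_coe] at this
  have hPK : ∀ x ∈ K, P * x * P⁻¹ ∈ K := by
    rintro x ⟨q, hq, rfl⟩
    refine ⟨(⟨P, hPS⟩ : ↥S) * q * (⟨P, hPS⟩ : ↥S)⁻¹, ?_, rfl⟩
    exact (Cfsg.Agent.Lib.H7.fittingSubgroup_normal (G := ↥S)).conj_mem q hq _
  have hcent := centralizes_of_sq hKodd hPK rfl htv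
  have htS : P * P ∈ S := S.mul_mem hPS hPS
  have hmem : P * P ∈ S ⊓ Subgroup.centralizer (K : Set (V ≃ₗ[ZMod 2] V)) := by
    refine Subgroup.mem_inf.2 ⟨htS, ?_⟩
    rw [Subgroup.mem_centralizer_iff]
    intro f hf
    exact hcent f hf
  have htK : P * P ∈ K := Cfsg.Agent.Lib.H7.inf_centralizer_fittingG_le S hS hmem
  exact ht1 (eq_one_of_sq_of_odd htv.sq (hKodd _ htK))

end Cfsg.Agent.Lib.H1.Tv2
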