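import Mathlib

set_option autoImplicit false

/-!
# Normal subgroups with two `G`-class sizes: basic lemmas

`N ⊴ G`, every element of `N` not central in `G` has a centralizer of index `m`.
-/

namespace Cfsg.Agent.Lib.H1.TwoCls

variable {G : Type*} [Group G]

/-- centralizer of a single element -/
abbrev Cn (x : G) : Subgroup G := Subgroup.centralizer ({x} : Set G)

theorem mem_Cn {x g : G} : g ∈ Cn x ↔ g * x = x * g := by
  rw [Cn, Subgroup.mem_centralizer_iff]
  constructor
  · intro h; exact (h x rfl).symm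
  · intro h y hy
    rw [Set.mem_singleton_iff] at hy
    subst hy; exact h.symm

/-- order of `x` modulo the centre of `G` -/
noncomputable def om (x : G) : ℕ := orderOf (QuotientGroup.mk x : G ⧸ Subgroup.center G)

theorem pow_mem_center_iff (x : G) (k : ℕ) : x ^ k ∈ Subgroup.center G ↔ om x ∣ k := by
  rw [om, orderOf_dvd_iff_pow_eq_one, ← QuotientGroup.mk_pow, QuotientGroup.eq_one_iff]

theorem pow_om_mem (x : G) : x ^ om x ∈ Subgroup.center G :=
  (pow_mem_center_iff x _).mpr dvd_rfl

theorem om_eq_one_iff (x : G) : om x = 1 ↔ x ∈ Subgroup.center G := by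
  rw [om, orderOf_eq_one_iff, QuotientGroup.eq_one_iff]

theorem om_pos [Finite G] (x : G) : 0 < om x := orderOf_pos _

structure Hyp (N : Subgroup G) (m : ℕ) : Prop where
  normal : N.Normal
  cls : ∀ x ∈ N, x ∉ Subgroup.center G → (Cn x).index = m

theorem eq_of_le_of_index_eq [Finite G] {H K : Subgroup G} (hle : H ≤ K)
    (h : H.index = K.index) : H = K := by
  have h1 := Subgroup.relIndex_mul_index hle
  have hK : K.index ≠ 0 := Subgroup.index_ne_zero_of_finite
  have h2 : H.relIndex K = 1 := by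
    rw [h] at h1
    have : H.relIndex K * K.index = 1 * K.index := by rw [h1, one_mul]
    exact Nat.eq_of_mul_eq_mul_right (Nat.pos_of_ne_zero hK) this
  exact le_antisymm hle (Subgroup.relIndex_eq_one.mp h2)

variable {N : Subgroup G} {m : ℕ}

theorem Hyp.Cn_pow [Finite G] (h : Hyp N m) {a : G} (ha : a ∈ N) {k : ℕ}
    (hk : a ^ k ∉ Subgroup.center G) : Cn (a ^ k) = Cn a := by
  have ha' : a ∉ Subgroup.center G := fun hc => hk (Subgroup.pow_mem _ hc k)
  symm
  apply eq_of_le_of_index_eq
  · intro g hg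
    rw [mem_Cn] at hg ⊢
    exact (Commute.pow_right (show Commute g a from hg) k).eq
  · rw [h.cls a ha ha', h.cls (a ^ k) (N.pow_mem ha k) hk]

theorem Hyp.Cn_eq_of_commute [Finite G] (h : Hyp N m) {a b : G} (ha : a ∈ N) (hb : b ∈ N)
    (hab : Commute a b) (ha' : a ∉ Subgroup.center G) {k : ℕ}
    (hak : a ^ k ∈ Subgroup.center G) (hbk : b ^ k ∉ Subgroup.center G) :
    Cn a = Cn b := by
  have hb' : b ∉ Subgroup.center G := fun hc => hbk (Subgroup.pow_mem _ hc k)
  have habk : (a * b) ^ k = a ^ k * b ^ k := hab.mul_pow k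
  have h1 : (a * b) ^ k ∉ Subgroup.center G := by
    rw [habk]; intro hc
    apply hbk
    have := Subgroup.mul_mem _ (Subgroup.inv_mem _ hak) hc
    simpa using this
  have h2 : Cn ((a * b) ^ k) = Cn (a * b) := h.Cn_pow (N.mul_mem ha hb) h1
  have h3 : Cn (b ^ k) = Cn b := h.Cn_pow hb hbk
  have hc := Subgroup.mem_center_iff.mp hak
  have h4 : Cn ((a * b) ^ k) = Cn (b ^ k) := by
    ext g
    rw [mem_Cn, mem_Cn, habk]
    constructor
    · intro hg
      have : a ^ k * (g * b ^ k) = a ^ k * (b ^ k * g) := by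
        calc a ^ k * (g * b ^ k) = g * (a ^ k * b ^ k) := by
              rw [← mul_assoc, ← hc g, mul_assoc]
          _ = a ^ k * b ^ k * g := hg
          _ = a ^ k * (b ^ k * g) := mul_assoc _ _ _
      exact mul_left_cancel this
    · intro hg
      calc g * (a ^ k * b ^ k) = a ^ k * (g * b ^ k) := by
            rw [← mul_assoc, hc g, mul_assoc]
        _ = a ^ k * (b ^ k * g) := by rw [hg]
        _ = a ^ k * b ^ k * g := (mul_assoc _ _ _).symm
  have h5 : Cn (a * b) = Cn b := by rw [← h2, h4, h3]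
  symm
  apply eq_of_le_of_index_eq
  · intro g hg
    have hg2 : g ∈ Cn (a * b) := h5 ▸ hg
    rw [mem_Cn] at hg hg2 ⊢
    have : g * a * b = a * g * b := by
      calc g * a * b = g * (a * b) := mul_assoc _ _ _
        _ = a * b * g := hg2
        _ = a * (b * g) := mul_assoc _ _ _
        _ = a * (g * b) := by rw [hg]
        _ = a * g * b := (mul_assoc _ _ _).symm
    exact mul_right_cancel this
  · rw [h.cls b hb hb', h.cls a ha ha']


theorem pow_not_mem_center_of_prime_dvd [Finite G] {x : G} (hx' : x ∉ Subgroup.center G)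
    (hn : ¬ (om x).Prime) {p : ℕ} (hp : p.Prime) : x ^ p ∉ Subgroup.center G := by
  intro hc
  rw [pow_mem_center_iff] at hc
  rcases (Nat.dvd_prime hp).mp hc with h1 | h1
  · exact hx' ((om_eq_one_iff x).mp h1)
  · exact hn (h1 ▸ hp)

/-- If `x` has composite order modulo the centre, then `x` is not conjugate to `x z` for a
nontrivial central `z`. -/
theorem Hyp.central_comm_trivial [Finite G] (h : Hyp N m) {x : G} (hx : x ∈ N)
    (hx' : x ∉ Subgroup.center G) (hn : ¬ (om x).Prime) {g z : G}
    (hz : z ∈ Subgroup.center G) (hg : g * x * g⁻¹ = x * z) : z = 1 := by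
  by_contra hz1
  have hzc : ∀ j : ℕ, ∀ y : G, y * z ^ j = z ^ j * y := fun j =>
    Subgroup.mem_center_iff.mp (Subgroup.pow_mem _ hz j)
  have hpow : ∀ j : ℕ, g ^ j * x * (g ^ j)⁻¹ = x * z ^ j := by
    intro j
    induction j with
    | zero => simp
    | succ j ih =>
      calc g ^ (j + 1) * x * (g ^ (j + 1))⁻¹ = g * (g ^ j * x * (g ^ j)⁻¹) * g⁻¹ := by
            rw [pow_succ']; group
        _ = g * (x * z ^ j) * g⁻¹ := by rw [ih]
        _ = (g * x * g⁻¹) * z ^ j := by
            rw [mul_assoc g x, mul_assoc g (x * z ^ j), mul_assoc x, ← hzc j g⁻¹]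
            group
        _ = x * z ^ (j + 1) := by rw [hg, mul_assoc, ← pow_succ']
  -- conjugating powers
  have hconj : ∀ (g' z' : G) (k : ℕ), z' ∈ Subgroup.center G → g' * x * g'⁻¹ = x * z' →
      g' * x ^ k * g'⁻¹ = x ^ k * z' ^ k := by
    intro g' z' k hz' hg'
    have hcomm : Commute x z' := (Subgroup.mem_center_iff.mp hz' x)
    calc g' * x ^ k * g'⁻¹ = (g' * x * g'⁻¹) ^ k := (conj_pow).symm
      _ = (x * z') ^ k := by rw [hg']
      _ = x ^ k * z' ^ k := hcomm.mul_pow k
  -- z ^ n = 1
  have hzn : z ^ om x = 1 := by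
    have h1 := hconj g z (om x) hz hg
    have h2 := Subgroup.mem_center_iff.mp (pow_om_mem x) g
    have h3 : g * x ^ om x * g⁻¹ = x ^ om x := by rw [h2]; group
    rw [h3] at h1
    exact (mul_eq_left.mp h1.symm)
  have hord : orderOf z ∣ om x := orderOf_dvd_of_pow_eq_one hzn
  have hord1 : orderOf z ≠ 1 := fun h1 => hz1 (orderOf_eq_one_iff.mp h1)
  obtain ⟨p, hp, hpz⟩ := Nat.exists_prime_and_dvd hord1
  have hzpos : orderOf z ≠ 0 := (orderOf_pos z).ne'
  set j := orderOf z / p with hj
  have hz'ord : orderOf (z ^ j) = p := orderOf_pow_orderOf_div hzpos hpz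
  have hg' : g ^ j * x * (g ^ j)⁻¹ = x * z ^ j := hpow j
  have hz' : z ^ j ∈ Subgroup.center G := Subgroup.pow_mem _ hz j
  have h1 := hconj (g ^ j) (z ^ j) p hz' hg'
  have hzp : (z ^ j) ^ p = 1 := by rw [← hz'ord]; exact pow_orderOf_eq_one _
  rw [hzp, mul_one] at h1
  have hxp : x ^ p ∉ Subgroup.center G := pow_not_mem_center_of_prime_dvd hx' hn hp
  have hmem : g ^ j ∈ Cn (x ^ p) := by
    rw [mem_Cn]
    calc g ^ j * x ^ p = (g ^ j * x ^ p * (g ^ j)⁻¹) * g ^ j := by group
      _ = x ^ p * g ^ j := by rw [h1]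
  rw [h.Cn_pow hx hxp, mem_Cn] at hmem
  have : x * z ^ j = x := by
    rw [← hg', hmem]; group
  have hzj : z ^ j = 1 := mul_eq_left.mp this
  rw [hzj, orderOf_one] at hz'ord
  exact hp.one_lt.ne hz'ord

/-- Every element of `C_N(x)` that is not central has the same centralizer as `x`, when `x` has
composite order modulo the centre. -/
theorem Hyp.Cn_eq_of_mem [Finite G] (h : Hyp N m) {x : G} (hx : x ∈ N)
    (hx' : x ∉ Subgroup.center G) (hn : ¬ (om x).Prime) {a : G} (ha : a ∈ N)
    (ha' : a ∉ Subgroup.center G) (hax : Commute a x) : Cn a = Cn x := by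
  have hak : a ^ om a ∈ Subgroup.center G := pow_om_mem a
  by_cases hxk : x ^ om a ∈ Subgroup.center G
  · have hn1 : om x ≠ 1 := fun h1 => hx' ((om_eq_one_iff x).mp h1)
    obtain ⟨p, hp, hpn⟩ := Nat.exists_prime_and_dvd hn1
    have hxp : x ^ p ∉ Subgroup.center G := pow_not_mem_center_of_prime_dvd hx' hn hp
    have h1 : (x ^ p) ^ (om x / p) ∈ Subgroup.center G := by
      rw [← pow_mul, Nat.mul_div_cancel' hpn]; exact pow_om_mem x
    have h2 : a ^ (om x / p) ∉ Subgroup.center G := by
      intro hc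
      rw [pow_mem_center_iff] at hc hxk
      have h3 : om x ∣ om x / p := hxk.trans hc
      have hpos : 0 < om x := om_pos x
      have h4 : om x / p < om x := Nat.div_lt_self hpos hp.one_lt
      have h5 : 0 < om x / p := Nat.div_pos (Nat.le_of_dvd hpos hpn) hp.pos
      exact absurd (Nat.le_of_dvd h5 h3) (not_le.mpr h4)
    have := h.Cn_eq_of_commute (N.pow_mem hx p) ha (hax.symm.pow_left p) hxp h1 h2
    rw [← this, h.Cn_pow hx hxp]
  · exact h.Cn_eq_of_commute ha hx hax ha' hak hxk

/-- If all stabilizers have the same order `z`, then `|α| / z` divides the size of the set. -/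
theorem card_dvd_of_stabilizer_card {α β : Type*} [Group α] [MulAction α β] [Finite α] [Finite β]
    (z : ℕ) (h : ∀ b : β, Nat.card (MulAction.stabilizer α b) = z) :
    Nat.card α / z ∣ Nat.card β := by
  classical
  have e := MulAction.selfEquivSigmaOrbits' α β
  rw [Nat.card_congr e]
  have : Fintype (MulAction.orbitRel.Quotient α β) := Fintype.ofFinite _
  rw [Nat.card_sigma]
  apply Finset.dvd_sum
  intro ω _
  induction ω using Quotient.inductionOn' with
  | h b =>
    have h1 : Nat.card (MulAction.orbitRel.Quotient.orbit (Quotient.mk'' b : MulAction.orbitRel.Quotient α β))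
        = Nat.card (MulAction.orbit α b) := by
      rw [MulAction.orbitRel.Quotient.orbit_mk]
    rw [h1, Nat.card_congr (MulAction.orbitEquivQuotientStabilizer α b)]
    have h2 := Subgroup.card_mul_index (MulAction.stabilizer α b)
    rw [h b] at h2
    have hz : 0 < z := by
      rw [← h b]; exact Nat.card_pos
    have h3 : Nat.card α / z = (MulAction.stabilizer α b).index := by
      rw [← h2, Nat.mul_div_cancel_left _ hz]
    rw [h3, Subgroup.index_eq_card]

end Cfsg.Agent.Lib.H1.TwoCls
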