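import Cfsg.Agent.Lib.H1.TwoClsA

set_option autoImplicit false

/-!
# Two class sizes: every noncentral class of `N` meets `A = C_N(x)`
-/

namespace Cfsg.Agent.Lib.H1.TwoCls

variable {G : Type*} [Group G]

/-- `A = C_N(x)` -/
abbrev CA (N : Subgroup G) (x : G) : Subgroup G := N ⊓ Cn x

/-- the standing configuration: `x ∈ N` of composite order modulo the centre -/
structure Setup (N : Subgroup G) (m : ℕ) (x : G) : Prop extends Hyp N m where
  hx : x ∈ N
  hx' : x ∉ Subgroup.center G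
  hn : ¬ (om x).Prime

variable {N : Subgroup G} {m : ℕ} {x : G}

theorem Setup.x_mem (S : Setup N m x) : x ∈ CA N x :=
  ⟨S.hx, mem_Cn.mpr rfl⟩

theorem Setup.conj_mem (S : Setup N m x) {y : G} (hy : y ∈ N) (g : G) : g * y * g⁻¹ ∈ N :=
  S.normal.conj_mem y hy g

theorem Setup.Cn_eq [Finite G] (S : Setup N m x) {a : G} (ha : a ∈ CA N x)
    (ha' : a ∉ Subgroup.center G) : Cn a = Cn x :=
  S.toHyp.Cn_eq_of_mem S.hx S.hx' S.hn ha.1 ha' (mem_Cn.mp ha.2)

theorem Setup.comm [Finite G] (S : Setup N m x) {a b : G} (ha : a ∈ CA N x) (hb : b ∈ CA N x) :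
    a * b = b * a := by
  by_cases hc : a ∈ Subgroup.center G
  · exact (Subgroup.mem_center_iff.mp hc b).symm
  · have h1 : b ∈ Cn a := by rw [S.Cn_eq ha hc]; exact hb.2
    exact (mem_Cn.mp h1).symm

theorem Setup.central_of_commute [Finite G] (S : Setup N m x) {v a : G} (hv : v ∈ N)
    (hvA : v ∉ CA N x) (ha : a ∈ CA N x) (hav : a * v = v * a) : a ∈ Subgroup.center G := by
  by_contra hc
  apply hvA
  refine Subgroup.mem_inf.mpr ⟨hv, ?_⟩
  rw [← S.Cn_eq ha hc, mem_Cn]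
  exact hav.symm

/-- the central part of `A`, as a subgroup of `A` -/
abbrev ZA (N : Subgroup G) (x : G) : Subgroup ↥(CA N x) := (Subgroup.center G).subgroupOf (CA N x)

theorem mem_stabilizer_iff (A : Subgroup G) (y g : G) (a : ↥A) :
    a ∈ MulAction.stabilizer ↥A ((g : G) : G ⧸ Cn y) ↔
      (a : G) * (g * y * g⁻¹) = (g * y * g⁻¹) * a := by
  have hsm : a • ((g : G) : G ⧸ Cn y) = (((a : G) * g : G) : G ⧸ Cn y) := rfl
  rw [MulAction.mem_stabilizer_iff, hsm, QuotientGroup.eq, mem_Cn]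
  constructor
  · intro h
    have h1 : g * (((a : G) * g)⁻¹ * g * y) * g⁻¹ = g * (y * (((a : G) * g)⁻¹ * g)) * g⁻¹ := by
      rw [h]
    have h2 : (a : G)⁻¹ * (g * y * g⁻¹) = (g * y * g⁻¹) * (a : G)⁻¹ := by
      calc (a : G)⁻¹ * (g * y * g⁻¹) = g * (((a : G) * g)⁻¹ * g * y) * g⁻¹ := by group
        _ = g * (y * (((a : G) * g)⁻¹ * g)) * g⁻¹ := h1
        _ = (g * y * g⁻¹) * (a : G)⁻¹ := by group
    calc (a : G) * (g * y * g⁻¹) = (a : G) * ((g * y * g⁻¹) * (a : G)⁻¹) * a := by group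
      _ = (a : G) * ((a : G)⁻¹ * (g * y * g⁻¹)) * a := by rw [h2]
      _ = (g * y * g⁻¹) * a := by group
  · intro h
    have h2 : (a : G)⁻¹ * (g * y * g⁻¹) = (g * y * g⁻¹) * (a : G)⁻¹ := by
      calc (a : G)⁻¹ * (g * y * g⁻¹) = (a : G)⁻¹ * ((g * y * g⁻¹) * a) * (a : G)⁻¹ := by group
        _ = (a : G)⁻¹ * ((a : G) * (g * y * g⁻¹)) * (a : G)⁻¹ := by rw [h]
        _ = (g * y * g⁻¹) * (a : G)⁻¹ := by group
    calc ((a : G) * g)⁻¹ * g * y = g⁻¹ * ((a : G)⁻¹ * (g * y * g⁻¹)) * g := by group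
      _ = g⁻¹ * ((g * y * g⁻¹) * (a : G)⁻¹) * g := by rw [h2]
      _ = y * (((a : G) * g)⁻¹ * g) := by group

/-- if `g y g⁻¹ ∉ A` then the stabilizer of the coset `g C(y)` in `A` is `Z ∩ A` -/
theorem Setup.stabilizer_eq [Finite G] (S : Setup N m x) {y : G} (hy : y ∈ N) (g : G)
    (hv : g * y * g⁻¹ ∉ CA N x) :
    MulAction.stabilizer ↥(CA N x) ((g : G) : G ⧸ Cn y) = ZA N x := by
  ext a
  rw [mem_stabilizer_iff, Subgroup.mem_subgroupOf]
  constructor
  · intro h
    exact S.central_of_commute (S.conj_mem hy g) hv a.2 h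
  · intro h
    exact (Subgroup.mem_center_iff.mp h _).symm

/-- `a = |A : A ∩ Z(G)|` -/
noncomputable abbrev aInd (N : Subgroup G) (x : G) : ℕ := (ZA N x).index

theorem card_div_eq_aInd [Finite G] (N : Subgroup G) (x : G) :
    Nat.card ↥(CA N x) / Nat.card ↥(ZA N x) = aInd N x := by
  have h := Subgroup.card_mul_index (ZA N x)
  have hpos : 0 < Nat.card ↥(ZA N x) := Nat.card_pos
  rw [← h, Nat.mul_div_cancel_left _ hpos]

/-- If no conjugate of `y` lies in `A`, then `a ∣ m`. -/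
theorem Setup.dvd_of_no_conj [Finite G] (S : Setup N m x) {y : G} (hy : y ∈ N)
    (hy' : y ∉ Subgroup.center G) (hno : ∀ g : G, g * y * g⁻¹ ∉ CA N x) : aInd N x ∣ m := by
  have h1 := card_dvd_of_stabilizer_card (α := ↥(CA N x)) (β := G ⧸ Cn y)
    (Nat.card ↥(ZA N x)) (by
      intro q
      induction q using QuotientGroup.induction_on with
      | H g => rw [S.stabilizer_eq hy g (hno g)])
  rw [card_div_eq_aInd, ← Subgroup.index_eq_card, S.cls y hy hy'] at h1
  exact h1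


/-- the non-fixed points of `A` on `G ⧸ C(x)` -/
def nonfixed (N : Subgroup G) (x : G) : SubMulAction ↥(CA N x) (G ⧸ Cn x) where
  carrier := {q | ¬ ∀ a : ↥(CA N x), a • q = q}
  smul_mem' := by
    intro a q hq hfix
    apply hq
    have h1 : ∀ b : ↥(CA N x), b • q = a • q := by
      intro b
      have := hfix (b * a⁻¹)
      rwa [mul_smul, inv_smul_smul] at this
    intro b
    rw [h1 b, ← h1 1, one_smul]

/-- the fixed points of `A` on `G ⧸ C(x)` -/
def fixedSet (N : Subgroup G) (x : G) : Set (G ⧸ Cn x) := {q | ∀ a : ↥(CA N x), a • q = q}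

theorem card_eq_fixed_add_nonfixed [Finite G] (N : Subgroup G) (x : G) :
    Nat.card (G ⧸ Cn x) = Nat.card ↥(fixedSet N x) + Nat.card ↥(nonfixed N x) := by
  have h := Set.ncard_add_ncard_compl (fixedSet N x)
  rw [← h, Nat.card_coe_set_eq]
  congr 1

theorem Setup.aInd_dvd_nonfixed [Finite G] (S : Setup N m x) :
    aInd N x ∣ Nat.card ↥(nonfixed N x) := by
  have h1 := card_dvd_of_stabilizer_card (α := ↥(CA N x)) (β := ↥(nonfixed N x))
    (Nat.card ↥(ZA N x)) (by
      rintro ⟨q, hq⟩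
      rw [SubMulAction.stabilizer_of_subMul]
      induction q using QuotientGroup.induction_on with
      | H g =>
        have hv : g * x * g⁻¹ ∉ CA N x := by
          intro hv
          apply hq
          intro a
          have : a ∈ MulAction.stabilizer ↥(CA N x) ((g : G) : G ⧸ Cn x) := by
            rw [mem_stabilizer_iff]
            exact S.comm a.2 hv
          exact this
        show Nat.card ↥(MulAction.stabilizer ↥(CA N x) ((g : G) : G ⧸ Cn x)) = _
        rw [S.stabilizer_eq S.hx g hv])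
  rwa [card_div_eq_aInd] at h1

theorem Setup.out_conj_mem [Finite G] (S : Setup N m x) {q : G ⧸ Cn x} (hq : q ∈ fixedSet N x) :
    q.out * x * q.out⁻¹ ∈ CA N x := by
  refine Subgroup.mem_inf.mpr ⟨S.conj_mem S.hx _, ?_⟩
  have h1 := hq ⟨x, S.x_mem⟩
  have h2 : (⟨x, S.x_mem⟩ : ↥(CA N x)) ∈
      MulAction.stabilizer ↥(CA N x) ((q.out : G) : G ⧸ Cn x) := by
    rw [MulAction.mem_stabilizer_iff, QuotientGroup.out_eq']
    exact h1
  rw [mem_stabilizer_iff] at h2
  rw [mem_Cn]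
  exact h2.symm

theorem Setup.card_fixed_lt [Finite G] (S : Setup N m x) :
    Nat.card ↥(fixedSet N x) < aInd N x := by
  classical
  have : Fintype ↥(fixedSet N x) := Fintype.ofFinite _
  have : Fintype (↥(CA N x) ⧸ ZA N x) := Fintype.ofFinite _
  rw [aInd, Subgroup.index_eq_card, Nat.card_eq_fintype_card, Nat.card_eq_fintype_card]
  let ψ : ↥(fixedSet N x) → ↥(CA N x) ⧸ ZA N x := fun q =>
    ((⟨q.1.out * x * q.1.out⁻¹, S.out_conj_mem q.2⟩ : ↥(CA N x)) : ↥(CA N x) ⧸ ZA N x)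
  refine Fintype.card_lt_of_injective_of_notMem ψ ?_ (b := ((1 : ↥(CA N x)) : ↥(CA N x) ⧸ ZA N x)) ?_
  · rintro ⟨q, hq⟩ ⟨q', hq'⟩ h
    simp only [ψ] at h
    rw [QuotientGroup.eq, Subgroup.mem_subgroupOf] at h
    simp only [Subgroup.coe_mul, InvMemClass.coe_inv] at h
    set g := q.out with hg
    set g' := q'.out with hg'
    set z := (g * x * g⁻¹)⁻¹ * (g' * x * g'⁻¹) with hz
    have hzc := Subgroup.mem_center_iff.mp h
    have h2 : (g⁻¹ * g') * x * (g⁻¹ * g')⁻¹ = x * z := by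
      calc (g⁻¹ * g') * x * (g⁻¹ * g')⁻¹ = g⁻¹ * ((g * x * g⁻¹) * z) * g := by
            rw [hz]; group
        _ = g⁻¹ * (g * x * g⁻¹) * (z * g) := by group
        _ = g⁻¹ * (g * x * g⁻¹) * (g * z) := by rw [hzc g]
        _ = x * z := by group
    have hz1 : z = 1 := S.toHyp.central_comm_trivial S.hx S.hx' S.hn h h2
    rw [hz1, mul_one] at h2
    have h3 : g⁻¹ * g' ∈ Cn x := by
      rw [mem_Cn]
      calc g⁻¹ * g' * x = (g⁻¹ * g' * x * (g⁻¹ * g')⁻¹) * (g⁻¹ * g') := by group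
        _ = x * (g⁻¹ * g') := by rw [h2]
    have h4 : ((g : G) : G ⧸ Cn x) = ((g' : G) : G ⧸ Cn x) := QuotientGroup.eq.mpr h3
    rw [hg, hg', QuotientGroup.out_eq', QuotientGroup.out_eq'] at h4
    exact Subtype.ext h4
  · rintro ⟨⟨q, hq⟩, h⟩
    simp only [ψ] at h
    rw [QuotientGroup.eq, Subgroup.mem_subgroupOf] at h
    simp only [InvMemClass.coe_inv, mul_one] at h
    apply S.hx'
    have h1 := Subgroup.inv_mem _ h
    rw [inv_inv] at h1
    have h2 := Subgroup.mem_center_iff.mp h1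
    have : x = q.out * x * q.out⁻¹ := by
      calc x = q.out⁻¹ * (q.out * x * q.out⁻¹) * q.out := by group
        _ = q.out⁻¹ * (q.out * (q.out * x * q.out⁻¹)) := by rw [mul_assoc, h2 q.out]
        _ = q.out * x * q.out⁻¹ := by group
    rw [this]; exact h1

theorem Setup.card_fixed_pos [Finite G] (_S : Setup N m x) : 0 < Nat.card ↥(fixedSet N x) := by
  have : Nonempty ↥(fixedSet N x) := by
    refine ⟨⟨((1 : G) : G ⧸ Cn x), ?_⟩⟩
    intro a
    have : a ∈ MulAction.stabilizer ↥(CA N x) (((1 : G) : G) : G ⧸ Cn x) := by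
      rw [mem_stabilizer_iff]
      have := mem_Cn.mp a.2.2
      simpa using this
    exact this
  exact Nat.card_pos

theorem Setup.not_dvd [Finite G] (S : Setup N m x) : ¬ aInd N x ∣ m := by
  intro hd
  have h1 : m = Nat.card (G ⧸ Cn x) := by
    rw [← Subgroup.index_eq_card, S.cls x S.hx S.hx']
  rw [h1, card_eq_fixed_add_nonfixed] at hd
  have h2 := (Nat.dvd_add_left S.aInd_dvd_nonfixed).mp hd
  exact absurd (Nat.le_of_dvd S.card_fixed_pos h2) (not_le.mpr S.card_fixed_lt)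

/-- **Every noncentral element of `N` is conjugate into `A = C_N(x)`.** -/
theorem Setup.exists_conj_mem [Finite G] (S : Setup N m x) {y : G} (hy : y ∈ N)
    (hy' : y ∉ Subgroup.center G) : ∃ g : G, g * y * g⁻¹ ∈ CA N x := by
  by_contra hno
  push Not at hno
  exact S.not_dvd (S.dvd_of_no_conj hy hy' hno)

end Cfsg.Agent.Lib.H1.TwoCls
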