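import Cfsg.Agent.Lib.H1.TwoClsB

set_option autoImplicit false

/-!
# Two class sizes: composite order modulo the centre forces `N` abelian
-/

namespace Cfsg.Agent.Lib.H1.TwoCls

variable {G : Type*} [Group G] {N : Subgroup G} {m : ℕ} {x : G}

theorem conj_mem_Cn_iff (h u v : G) : h * u * h⁻¹ ∈ Cn (h * v * h⁻¹) ↔ u ∈ Cn v := by
  rw [mem_Cn, mem_Cn]
  constructor
  · intro e
    have : h⁻¹ * (h * u * h⁻¹ * (h * v * h⁻¹)) * h = h⁻¹ * (h * v * h⁻¹ * (h * u * h⁻¹)) * h := by
      rw [e]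
    calc u * v = h⁻¹ * (h * u * h⁻¹ * (h * v * h⁻¹)) * h := by group
      _ = h⁻¹ * (h * v * h⁻¹ * (h * u * h⁻¹)) * h := this
      _ = v * u := by group
  · intro e
    calc h * u * h⁻¹ * (h * v * h⁻¹) = h * (u * v) * h⁻¹ := by group
      _ = h * (v * u) * h⁻¹ := by rw [e]
      _ = h * v * h⁻¹ * (h * u * h⁻¹) := by group

theorem conj_mem_center_iff (h v : G) : h * v * h⁻¹ ∈ Subgroup.center G ↔ v ∈ Subgroup.center G := by
  constructor
  · intro hc
    have := (Subgroup.center G).normal_of_characteristic.conj_mem _ hc h⁻¹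
    simpa [mul_assoc] using this
  · intro hc
    exact (Subgroup.center G).normal_of_characteristic.conj_mem _ hc h

theorem Setup.conj_mem_N_iff (S : Setup N m x) (h v : G) : h * v * h⁻¹ ∈ N ↔ v ∈ N := by
  constructor
  · intro hc
    have := S.normal.conj_mem _ hc h⁻¹
    simpa [mul_assoc] using this
  · intro hc
    exact S.normal.conj_mem _ hc h

/-- If `v₀ ∈ A` is noncentral and `h v₀ h⁻¹ ∈ A`, then `h` normalizes `A`. -/
theorem Setup.mem_normalizer_of_conj [Finite G] (S : Setup N m x) {v₀ h : G} (hv₀ : v₀ ∈ CA N x)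
    (hv₀' : v₀ ∉ Subgroup.center G) (hw : h * v₀ * h⁻¹ ∈ CA N x) :
    h ∈ Subgroup.normalizer (CA N x : Set G) := by
  have hw' : h * v₀ * h⁻¹ ∉ Subgroup.center G := fun hc => hv₀' ((conj_mem_center_iff h v₀).mp hc)
  have e1 : Cn v₀ = Cn x := S.Cn_eq hv₀ hv₀'
  have e2 : Cn (h * v₀ * h⁻¹) = Cn x := S.Cn_eq hw hw'
  rw [Subgroup.mem_normalizer_iff]
  intro u
  rw [Subgroup.mem_inf, Subgroup.mem_inf]
  constructor
  · rintro ⟨h1, h2⟩
    refine ⟨(S.conj_mem_N_iff h u).mpr h1, ?_⟩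
    rw [← e2, conj_mem_Cn_iff, e1]; exact h2
  · rintro ⟨h1, h2⟩
    refine ⟨(S.conj_mem_N_iff h u).mp h1, ?_⟩
    rw [← e2, conj_mem_Cn_iff, e1] at h2; exact h2

theorem Setup.conj_mem_of_mem_normalizer (_S : Setup N m x) {v₀ h : G} (hv₀ : v₀ ∈ CA N x)
    (hh : h ∈ Subgroup.normalizer (CA N x : Set G)) : h * v₀ * h⁻¹ ∈ CA N x :=
  (Subgroup.mem_normalizer_iff.mp hh v₀).mp hv₀

/-- noncentral elements of a subgroup -/
abbrev NC (K : Subgroup G) : Type _ := {u : G // u ∈ K ∧ u ∉ Subgroup.center G}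

theorem card_NC_add [Finite G] (K : Subgroup G) :
    Nat.card (NC K) + Nat.card ↥(K ⊓ Subgroup.center G) = Nat.card ↥K := by
  classical
  have e : ↥K ≃ (NC K) ⊕ ↥(K ⊓ Subgroup.center G) :=
    { toFun := fun u => if hc : (u : G) ∈ Subgroup.center G then Sum.inr ⟨u, Subgroup.mem_inf.mpr ⟨u.2, hc⟩⟩
        else Sum.inl ⟨u, u.2, hc⟩
      invFun := fun s => match s with
        | Sum.inl v => ⟨v.1, v.2.1⟩
        | Sum.inr v => ⟨v.1, (Subgroup.mem_inf.mp v.2).1⟩
      left_inv := by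
        intro u
        by_cases hc : (u : G) ∈ Subgroup.center G
        · simp [hc]
        · simp [hc]
      right_inv := by
        rintro (v | v)
        · have : (v.1 : G) ∉ Subgroup.center G := v.2.2
          simp [this]
        · have : (v.1 : G) ∈ Subgroup.center G := (Subgroup.mem_inf.mp v.2).2
          simp [this] }
  rw [Nat.card_congr e, Nat.card_sum]

/-- The double count: `|G| · #(A ∖ Z) = #(N ∖ Z) · |N_G(A)|`. -/
theorem Setup.double_count [Finite G] (S : Setup N m x) :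
    Nat.card G * Nat.card (NC (CA N x)) =
      Nat.card (NC N) * Nat.card ↥(Subgroup.normalizer (CA N x : Set G)) := by
  classical
  have : Fintype G := Fintype.ofFinite G
  have : Fintype (NC N) := Fintype.ofFinite _
  -- left sigma type
  let L := Σ g : G, {v : G // v ∉ Subgroup.center G ∧ g * v * g⁻¹ ∈ CA N x}
  let R := Σ v : NC N, {g : G // g * v.1 * g⁻¹ ∈ CA N x}
  have eLR : L ≃ R :=
    { toFun := fun p => ⟨⟨p.2.1, (S.conj_mem_N_iff p.1 p.2.1).mp p.2.2.2.1, p.2.2.1⟩, ⟨p.1, p.2.2.2⟩⟩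
      invFun := fun p => ⟨p.2.1, ⟨p.1.1, p.1.2.2, p.2.2⟩⟩
      left_inv := by rintro ⟨g, ⟨v, hv⟩⟩; rfl
      right_inv := by rintro ⟨⟨v, hv⟩, ⟨g, hg⟩⟩; rfl }
  have hL : Nat.card L = Nat.card G * Nat.card (NC (CA N x)) := by
    rw [Nat.card_sigma]
    have : ∀ g : G, Nat.card {v : G // v ∉ Subgroup.center G ∧ g * v * g⁻¹ ∈ CA N x}
        = Nat.card (NC (CA N x)) := by
      intro g
      refine Nat.card_congr
        { toFun := fun v => ⟨g * v.1 * g⁻¹, v.2.2, fun hc => v.2.1 ((conj_mem_center_iff g v.1).mp hc)⟩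
          invFun := fun u => ⟨g⁻¹ * u.1 * g, fun hc => u.2.2 (by
              have := (conj_mem_center_iff g (g⁻¹ * u.1 * g)).mpr hc
              simpa [mul_assoc] using this), by
              have : g * (g⁻¹ * u.1 * g) * g⁻¹ = u.1 := by group
              rw [this]; exact u.2.1⟩
          left_inv := by
            rintro ⟨v, hv⟩
            apply Subtype.ext
            show g⁻¹ * (g * v * g⁻¹) * g = v
            group
          right_inv := by
            rintro ⟨u, hu⟩
            apply Subtype.ext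
            show g * (g⁻¹ * u * g) * g⁻¹ = u
            group }
    rw [Finset.sum_congr rfl (fun g _ => this g), Finset.sum_const, Finset.card_univ,
      smul_eq_mul]
    simp only [Nat.card_eq_fintype_card]
  have hR : Nat.card R = Nat.card (NC N) * Nat.card ↥(Subgroup.normalizer (CA N x : Set G)) := by
    rw [Nat.card_sigma]
    have : ∀ v : NC N, Nat.card {g : G // g * v.1 * g⁻¹ ∈ CA N x}
        = Nat.card ↥(Subgroup.normalizer (CA N x : Set G)) := by
      rintro ⟨v, hvN, hvc⟩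
      obtain ⟨g₀, hg₀⟩ := S.exists_conj_mem hvN hvc
      have hv₀' : g₀ * v * g₀⁻¹ ∉ Subgroup.center G :=
        fun hc => hvc ((conj_mem_center_iff g₀ v).mp hc)
      refine Nat.card_congr
        { toFun := fun g => ⟨g.1 * g₀⁻¹, by
            apply S.mem_normalizer_of_conj hg₀ hv₀'
            have : g.1 * g₀⁻¹ * (g₀ * v * g₀⁻¹) * (g.1 * g₀⁻¹)⁻¹ = g.1 * v * g.1⁻¹ := by group
            rw [this]; exact g.2⟩
          invFun := fun h => ⟨h.1 * g₀, by
            have := S.conj_mem_of_mem_normalizer hg₀ h.2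
            have e : h.1 * g₀ * v * (h.1 * g₀)⁻¹ = h.1 * (g₀ * v * g₀⁻¹) * h.1⁻¹ := by group
            show h.1 * g₀ * v * (h.1 * g₀)⁻¹ ∈ CA N x
            rw [e]; exact this⟩
          left_inv := by
            rintro ⟨g, hg⟩
            apply Subtype.ext
            show g * g₀⁻¹ * g₀ = g
            group
          right_inv := by
            rintro ⟨h, hh⟩
            apply Subtype.ext
            show h * g₀ * g₀⁻¹ = h
            group }
    rw [Finset.sum_congr rfl (fun v _ => this v), Finset.sum_const, Finset.card_univ,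
      smul_eq_mul]
    simp only [Nat.card_eq_fintype_card]
  rw [← hL, ← hR, Nat.card_congr eLR]


theorem card_stabilizer_normal [Finite G] (N H : Subgroup G) (hN : N.Normal) (q : G ⧸ H) :
    Nat.card ↥(MulAction.stabilizer ↥N q) = Nat.card ↥(N ⊓ H) := by
  induction q using QuotientGroup.induction_on with
  | H g =>
    have key : ∀ n : ↥N, n ∈ MulAction.stabilizer ↥N ((g : G) : G ⧸ H) ↔ g⁻¹ * (n : G) * g ∈ H := by
      intro n
      have hsm : n • ((g : G) : G ⧸ H) = (((n : G) * g : G) : G ⧸ H) := rfl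
      rw [MulAction.mem_stabilizer_iff, hsm, QuotientGroup.eq]
      have e : ((n : G) * g)⁻¹ * g = (g⁻¹ * (n : G) * g)⁻¹ := by group
      rw [e, Subgroup.inv_mem_iff]
    refine Nat.card_congr
      { toFun := fun n => ⟨g⁻¹ * (n.1 : G) * g, Subgroup.mem_inf.mpr ⟨by
          have := hN.conj_mem _ n.1.2 g⁻¹
          simpa using this, (key n.1).mp n.2⟩⟩
        invFun := fun u => ⟨⟨g * u.1 * g⁻¹, hN.conj_mem _ (Subgroup.mem_inf.mp u.2).1 g⟩, by
          rw [key]
          have : g⁻¹ * (g * u.1 * g⁻¹) * g = u.1 := by group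
          show g⁻¹ * (g * u.1 * g⁻¹) * g ∈ H
          rw [this]; exact (Subgroup.mem_inf.mp u.2).2⟩
        left_inv := by
          rintro ⟨⟨n, hn⟩, hs⟩
          apply Subtype.ext; apply Subtype.ext
          show g * (g⁻¹ * n * g) * g⁻¹ = n
          group
        right_inv := by
          rintro ⟨u, hu⟩
          apply Subtype.ext
          show g⁻¹ * (g * u * g⁻¹) * g = u
          group }

theorem card_div_dvd_index [Finite G] (N H : Subgroup G) (hN : N.Normal) :
    Nat.card ↥N / Nat.card ↥(N ⊓ H) ∣ H.index := by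
  have h := card_dvd_of_stabilizer_card (α := ↥N) (β := G ⧸ H) (Nat.card ↥(N ⊓ H))
    (fun q => card_stabilizer_normal N H hN q)
  rwa [← Subgroup.index_eq_card] at h

theorem arith_aux (zc a n t d k NA NN : ℕ) (hz : 0 < zc) (h1 : NA + zc = a * zc)
    (h2 : NN + zc = n * zc) (h3 : k * NA = NN) (h4 : d * t = n) (h5 : d ∣ k) : d = 1 := by
  have ha : 1 ≤ a := by
    rcases Nat.eq_zero_or_pos a with h0 | h0
    · rw [h0, zero_mul] at h1; omega
    · exact h0
  have hn : 1 ≤ n := by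
    rcases Nat.eq_zero_or_pos n with h0 | h0
    · rw [h0, zero_mul] at h2; omega
    · exact h0
  obtain ⟨a', rfl⟩ : ∃ a', a = a' + 1 := ⟨a - 1, by omega⟩
  obtain ⟨n', rfl⟩ : ∃ n', n = n' + 1 := ⟨n - 1, by omega⟩
  have hNA : NA = a' * zc := by
    have : NA + zc = a' * zc + zc := by rw [h1]; ring
    omega
  have hNN : NN = n' * zc := by
    have : NN + zc = n' * zc + zc := by rw [h2]; ring
    omega
  rw [hNA, hNN, ← mul_assoc] at h3
  have h6 : k * a' = n' := Nat.eq_of_mul_eq_mul_right hz h3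
  have h7 : d ∣ n' + 1 := ⟨t, h4.symm⟩
  have h8 : d ∣ n' := h6 ▸ (Dvd.dvd.mul_right h5 a')
  have h9 : d ∣ 1 := (Nat.dvd_add_right h8).mp h7
  exact Nat.dvd_one.mp h9

theorem center_le_normalizer (A : Subgroup G) : Subgroup.center G ≤ Subgroup.normalizer (A : Set G) := by
  intro z hz
  rw [Subgroup.mem_normalizer_iff]
  intro u
  have : z * u * z⁻¹ = u := by
    rw [← Subgroup.mem_center_iff.mp hz u]; group
  rw [this]

theorem center_le_Cn (x : G) : Subgroup.center G ≤ Cn x := by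
  intro z hz
  rw [mem_Cn]
  exact (Subgroup.mem_center_iff.mp hz x).symm

theorem CA_inf_center (N : Subgroup G) (x : G) :
    CA N x ⊓ Subgroup.center G = N ⊓ Subgroup.center G := by
  ext u
  simp only [Subgroup.mem_inf]
  constructor
  · rintro ⟨⟨h1, _⟩, h3⟩; exact ⟨h1, h3⟩
  · rintro ⟨h1, h3⟩; exact ⟨⟨h1, center_le_Cn x h3⟩, h3⟩

/-- `N` normalizes `A = C_N(x)`. -/
theorem Setup.le_normalizer [Finite G] (S : Setup N m x) :
    N ≤ Subgroup.normalizer (CA N x : Set G) := by
  set H := Subgroup.normalizer (CA N x : Set G) with hH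
  set zc := Nat.card ↥(N ⊓ Subgroup.center G) with hzc
  have hz : 0 < zc := Nat.card_pos
  have hA := card_NC_add (CA N x)
  rw [CA_inf_center] at hA
  have hNc := card_NC_add N
  have hdc := S.double_count
  have hk := Subgroup.card_mul_index H
  -- zc divides the three orders
  have d1 : zc ∣ Nat.card ↥(CA N x) :=
    Subgroup.card_dvd_of_le (le_inf inf_le_left (inf_le_right.trans (center_le_Cn x)))
  have d2 : zc ∣ Nat.card ↥N := Subgroup.card_dvd_of_le inf_le_left
  have d3 : zc ∣ Nat.card ↥(N ⊓ H) :=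
    Subgroup.card_dvd_of_le (le_inf inf_le_left (inf_le_right.trans (center_le_normalizer _)))
  obtain ⟨a, ha⟩ := d1
  obtain ⟨n, hn⟩ := d2
  obtain ⟨t, ht⟩ := d3
  have d4 : Nat.card ↥(N ⊓ H) ∣ Nat.card ↥N := Subgroup.card_dvd_of_le inf_le_left
  obtain ⟨d, hd⟩ := d4
  have hdd : Nat.card ↥N / Nat.card ↥(N ⊓ H) = d := by
    rw [hd, Nat.mul_div_cancel_left _ Nat.card_pos]
  have hdk : d ∣ H.index := hdd ▸ card_div_dvd_index N H S.normal
  have h3 : H.index * Nat.card (NC (CA N x)) = Nat.card (NC N) := by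
    have hHpos : 0 < Nat.card ↥H := Nat.card_pos
    have : Nat.card ↥H * (H.index * Nat.card (NC (CA N x))) = Nat.card ↥H * Nat.card (NC N) := by
      rw [← mul_assoc, hk, hdc, mul_comm]
    exact Nat.eq_of_mul_eq_mul_left hHpos this
  have h4 : d * t = n := by
    have : zc * (d * t) = zc * n := by
      rw [← hn, hd, ht]; ring
    exact Nat.eq_of_mul_eq_mul_left hz this
  have hd1 : d = 1 := arith_aux zc a n t d H.index (Nat.card (NC (CA N x))) (Nat.card (NC N)) hz
    (by rw [hA, ha, mul_comm]) (by rw [hNc, hn, mul_comm]) h3 h4 hdk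
  rw [hd1, mul_one] at hd
  have : N ⊓ H = N := Subgroup.eq_of_le_of_card_ge inf_le_left hd.le
  exact inf_eq_left.mp this

theorem om_conj [Finite G] (g x : G) : om (g * x * g⁻¹) = om x := by
  apply Nat.dvd_antisymm
  · rw [← pow_mem_center_iff, conj_pow, conj_mem_center_iff]; exact pow_om_mem x
  · rw [← pow_mem_center_iff]
    have := pow_om_mem (g * x * g⁻¹)
    rwa [conj_pow, conj_mem_center_iff] at this

theorem Setup.conj (S : Setup N m x) [Finite G] (g : G) : Setup N m (g * x * g⁻¹) where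
  toHyp := S.toHyp
  hx := S.conj_mem S.hx g
  hx' := fun hc => S.hx' ((conj_mem_center_iff g x).mp hc)
  hn := by rw [om_conj]; exact S.hn

/-- **Main lemma.** If some `x ∈ N` has composite order modulo the centre of `G`, then every
element of `N` commutes with `x`; in fact `N = C_N(x)` is abelian. -/
theorem Setup.le_CA [Finite G] (S : Setup N m x) : N ≤ CA N x := by
  intro y hy
  by_contra hyA
  have hyc : y ∉ Subgroup.center G := fun hc =>
    hyA (Subgroup.mem_inf.mpr ⟨hy, center_le_Cn x hc⟩)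
  obtain ⟨g, hg⟩ := S.exists_conj_mem hy hyc
  -- x₂ = g⁻¹ x g
  have S₂ : Setup N m (g⁻¹ * x * g⁻¹⁻¹) := S.conj g⁻¹
  have hyA₂ : y ∈ CA N (g⁻¹ * x * g⁻¹⁻¹) := by
    refine Subgroup.mem_inf.mpr ⟨hy, ?_⟩
    have h1 := (Subgroup.mem_inf.mp hg).2
    have h2 := (conj_mem_Cn_iff g⁻¹ (g * y * g⁻¹) x).mpr h1
    have e : g⁻¹ * (g * y * g⁻¹) * g⁻¹⁻¹ = y := by group
    rwa [e] at h2
  have hN1 := S.le_normalizer
  have hN2 := S₂.le_normalizer
  set c := y * x * y⁻¹ * x⁻¹ with hc
  have hcA : c ∈ CA N x := by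
    have h1 := (Subgroup.mem_normalizer_iff.mp (hN1 hy) x).mp S.x_mem
    exact Subgroup.mul_mem _ h1 (Subgroup.inv_mem _ S.x_mem)
  have hcA₂ : c ∈ CA N (g⁻¹ * x * g⁻¹⁻¹) := by
    have h1 := (Subgroup.mem_normalizer_iff.mp (hN2 S.hx) y⁻¹).mp (Subgroup.inv_mem _ hyA₂)
    have e : c = y * (x * y⁻¹ * x⁻¹) := by rw [hc]; group
    rw [e]
    exact Subgroup.mul_mem _ hyA₂ h1
  have hcc : c ∈ Subgroup.center G := by
    by_contra hcc
    have e1 := S.Cn_eq hcA hcc
    have e2 := S₂.Cn_eq hcA₂ hcc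
    apply hyA
    refine Subgroup.mem_inf.mpr ⟨hy, ?_⟩
    rw [← e1, e2]
    exact (Subgroup.mem_inf.mp hyA₂).2
  have hconj : y * x * y⁻¹ = x * c := by
    rw [Subgroup.mem_center_iff.mp hcc x, hc]; group
  have hc1 : c = 1 := S.toHyp.central_comm_trivial S.hx S.hx' S.hn hcc hconj
  rw [hc1, mul_one] at hconj
  apply hyA
  refine Subgroup.mem_inf.mpr ⟨hy, ?_⟩
  rw [mem_Cn]
  calc y * x = (y * x * y⁻¹) * y := by group
    _ = x * y := by rw [hconj]

theorem Setup.abelian [Finite G] (S : Setup N m x) {a b : G} (ha : a ∈ N) (hb : b ∈ N) :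
    a * b = b * a :=
  S.comm (S.le_CA ha) (S.le_CA hb)

end Cfsg.Agent.Lib.H1.TwoCls
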