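/-
S2347 piece WEIL-W2 (helper1, for helper20): irreducibility of the Schroedinger representation.
-/
import Cfsg.Agent.Lib.H20.WeilDefs

set_option autoImplicit false

namespace Cfsg.Agent.Lib.H1.Weil

open Matrix Cfsg.Agent.Lib.H12.LS2 Cfsg.Agent.Lib.H20.Weil

variable {F : Type*} [Field F] {n : ℕ}

/-- `hop ψ (0 ⊕ b)` is the multiplication by `x ↦ ψ (b ⬝ᵥ x)` -/
theorem w2_hopB (ψ : AddChar F ℂ) (b : Fin n → F) (f : (Fin n → F) → ℂ) (x : Fin n → F) :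
    hop ψ (Sum.elim 0 b) f x = ψ (b ⬝ᵥ x) * f x := by
  rw [hop_apply]
  have hA : pA (Sum.elim 0 b : Fin n ⊕ Fin n → F) = 0 := rfl
  have hB : pB (Sum.elim 0 b : Fin n ⊕ Fin n → F) = b := rfl
  rw [hA, hB]
  simp

/-- `hop ψ (a ⊕ 0)` is the translation by `a` -/
theorem w2_hopA (ψ : AddChar F ℂ) (a : Fin n → F) (f : (Fin n → F) → ℂ) (x : Fin n → F) :
    hop ψ (Sum.elim a 0) f x = f (x + a) := by
  rw [hop_apply]
  have hA : pA (Sum.elim a 0 : Fin n ⊕ Fin n → F) = a := rfl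
  have hB : pB (Sum.elim a 0 : Fin n ⊕ Fin n → F) = 0 := rfl
  rw [hA, hB]
  simp

theorem w2_hopB_single [DecidableEq F] (ψ : AddChar F ℂ) (b y : Fin n → F) :
    hop ψ (Sum.elim 0 b) (Pi.single y (1 : ℂ)) = ψ (b ⬝ᵥ y) • Pi.single y (1 : ℂ) := by
  funext x
  rw [w2_hopB, Pi.smul_apply, smul_eq_mul]
  by_cases h : x = y
  · rw [h]
  · rw [Pi.single_apply, if_neg h, mul_zero, mul_zero]

theorem w2_hopA_single [DecidableEq F] (ψ : AddChar F ℂ) (a y : Fin n → F) :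
    hop ψ (Sum.elim a 0) (Pi.single y (1 : ℂ)) = Pi.single (y - a) (1 : ℂ) := by
  funext x
  rw [w2_hopA, Pi.single_apply, Pi.single_apply]
  by_cases h : x + a = y
  · rw [if_pos h, if_pos (eq_sub_of_add_eq h)]
  · rw [if_neg h, if_neg (fun h' => h (by rw [h']; simp))]

theorem w2_exists_b (ψ : AddChar F ℂ) (hψ : ψ ≠ 1) (z : Fin n → F) (hz : z ≠ 0) :
    ∃ b : Fin n → F, ψ (b ⬝ᵥ z) ≠ 1 := by
  classical
  obtain ⟨i, hi⟩ : ∃ i, z i ≠ 0 := by
    by_contra hcon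
    push Not at hcon
    exact hz (funext hcon)
  obtain ⟨a, ha⟩ := AddChar.ne_one_iff.1 hψ
  refine ⟨Pi.single i (a / z i), ?_⟩
  rw [single_dotProduct, div_mul_cancel₀ _ hi]
  exact ha

variable [Fintype F]

theorem eq_smul_one_of_commute (ψ : AddChar F ℂ) (hψ : ψ ≠ 1) (T : Module.End ℂ ((Fin n → F) → ℂ))
    (hT : ∀ u : Fin n ⊕ Fin n → F, T * hop ψ u = hop ψ u * T) : ∃ c : ℂ, T = c • 1 := by
  classical
  have hdiag : ∀ y x : Fin n → F, x ≠ y → T (Pi.single y (1 : ℂ)) x = 0 := by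
    intro y x hxy
    obtain ⟨b, hb⟩ := w2_exists_b ψ hψ (x - y) (sub_ne_zero.2 hxy)
    have h1 := congrArg (fun S : Module.End ℂ ((Fin n → F) → ℂ) => S (Pi.single y (1 : ℂ)) x)
      (hT (Sum.elim 0 b))
    simp only [Module.End.mul_apply] at h1
    rw [w2_hopB_single, map_smul, w2_hopB, Pi.smul_apply, smul_eq_mul] at h1
    by_contra hne
    have h2 : ψ (b ⬝ᵥ y) = ψ (b ⬝ᵥ x) := mul_right_cancel₀ hne h1
    apply hb
    have h3 : b ⬝ᵥ x = b ⬝ᵥ (x - y) + b ⬝ᵥ y := by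
      rw [← dotProduct_add, sub_add_cancel]
    rw [h3, AddChar.map_add_eq_mul] at h2
    have h4 : ψ (b ⬝ᵥ y) ≠ 0 := (AddChar.val_isUnit ψ _).ne_zero
    exact (mul_eq_right₀ h4).1 h2.symm
  have hsingle : ∀ y : Fin n → F, T (Pi.single y (1 : ℂ)) =
      (T (Pi.single y (1 : ℂ)) y) • Pi.single y (1 : ℂ) := by
    intro y
    funext x
    rw [Pi.smul_apply, smul_eq_mul]
    by_cases h : x = y
    · rw [h, Pi.single_eq_same, mul_one]
    · rw [hdiag y x h, Pi.single_apply, if_neg h, mul_zero]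
  have hconst : ∀ y : Fin n → F, T (Pi.single y (1 : ℂ)) y = T (Pi.single 0 (1 : ℂ)) 0 := by
    intro y
    have h1 := congrArg (fun S : Module.End ℂ ((Fin n → F) → ℂ) => S (Pi.single y (1 : ℂ)) 0)
      (hT (Sum.elim y 0))
    simp only [Module.End.mul_apply] at h1
    rw [w2_hopA_single, sub_self, w2_hopA, zero_add] at h1
    exact h1.symm
  refine ⟨T (Pi.single 0 (1 : ℂ)) 0, ?_⟩
  apply (Pi.basisFun ℂ (Fin n → F)).ext
  intro y
  rw [Pi.basisFun_apply, hsingle y, hconst y]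
  rfl

theorem w2_sum_char (ψ : AddChar F ℂ) (hψ : ψ ≠ 1) (z : Fin n → F) (hz : z ≠ 0) :
    ∑ b : Fin n → F, ψ (b ⬝ᵥ z) = 0 := by
  classical
  let φ : AddChar (Fin n → F) ℂ :=
    { toFun := fun b => ψ (b ⬝ᵥ z)
      map_zero_eq_one' := by simp
      map_add_eq_mul' := by
        intro x y
        rw [add_dotProduct, AddChar.map_add_eq_mul] }
  have hφ : φ ≠ 1 := by
    obtain ⟨b, hb⟩ := w2_exists_b ψ hψ z hz
    exact AddChar.ne_one_iff.2 ⟨b, hb⟩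
  exact AddChar.sum_eq_zero_of_ne_one hφ

theorem eq_top_of_invariant (ψ : AddChar F ℂ) (hψ : ψ ≠ 1) (U : Submodule ℂ ((Fin n → F) → ℂ))
    (hU : ∀ (u : Fin n ⊕ Fin n → F), ∀ f ∈ U, hop ψ u f ∈ U) (hne : U ≠ ⊥) : U = ⊤ := by
  classical
  obtain ⟨f, hfU, hf0⟩ := (Submodule.ne_bot_iff U).1 hne
  obtain ⟨x₀, hx₀⟩ : ∃ x₀, f x₀ ≠ 0 := by
    by_contra hcon
    push Not at hcon
    exact hf0 (funext hcon)
  -- the projection onto the coordinate `x₀`
  have hproj : ∑ b : Fin n → F, ψ (-(b ⬝ᵥ x₀)) • hop ψ (Sum.elim 0 b) f =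
      ((Fintype.card (Fin n → F) : ℂ) * f x₀) • Pi.single x₀ (1 : ℂ) := by
    funext x
    rw [Finset.sum_apply]
    simp only [Pi.smul_apply, smul_eq_mul, w2_hopB]
    by_cases h : x = x₀
    · subst h
      rw [Pi.single_eq_same, mul_one]
      have : ∀ b : Fin n → F, ψ (-(b ⬝ᵥ x)) * (ψ (b ⬝ᵥ x) * f x) = f x := by
        intro b
        rw [← mul_assoc, ← AddChar.map_add_eq_mul, neg_add_cancel, AddChar.map_zero_eq_one, one_mul]
      rw [Finset.sum_congr rfl (fun b _ => this b), Finset.sum_const, Finset.card_univ,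
        nsmul_eq_mul]
    · rw [Pi.single_apply, if_neg h, mul_zero]
      have : ∀ b : Fin n → F, ψ (-(b ⬝ᵥ x₀)) * (ψ (b ⬝ᵥ x) * f x) = ψ (b ⬝ᵥ (x - x₀)) * f x := by
        intro b
        rw [← mul_assoc, ← AddChar.map_add_eq_mul, dotProduct_sub]
        congr 2
        ring
      rw [Finset.sum_congr rfl (fun b _ => this b), ← Finset.sum_mul,
        w2_sum_char ψ hψ (x - x₀) (sub_ne_zero.2 h), zero_mul]
  have hmem : ((Fintype.card (Fin n → F) : ℂ) * f x₀) • Pi.single x₀ (1 : ℂ) ∈ U := by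
    rw [← hproj]
    exact U.sum_mem fun b _ => U.smul_mem _ (hU _ f hfU)
  have hcard : (Fintype.card (Fin n → F) : ℂ) ≠ 0 := by
    exact_mod_cast Fintype.card_ne_zero
  have hx₀U : Pi.single x₀ (1 : ℂ) ∈ U := by
    have := U.smul_mem ((Fintype.card (Fin n → F) : ℂ) * f x₀)⁻¹ hmem
    rwa [smul_smul, inv_mul_cancel₀ (mul_ne_zero hcard hx₀), one_smul] at this
  have hall : ∀ y : Fin n → F, Pi.single y (1 : ℂ) ∈ U := by
    intro y
    have := hU (Sum.elim (x₀ - y) 0) _ hx₀U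
    rwa [w2_hopA_single, sub_sub_cancel] at this
  rw [eq_top_iff]
  intro g _
  rw [← (Pi.basisFun ℂ (Fin n → F)).sum_repr g]
  refine U.sum_mem fun y _ => U.smul_mem _ ?_
  rw [Pi.basisFun_apply]
  exact hall y

end Cfsg.Agent.Lib.H1.Weil
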