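/-
S2347 piece WEIL-W3 (helper1, for helper20): traces of the Schroedinger operators.
-/
import Cfsg.Agent.Lib.H20.WeilDefs

set_option autoImplicit false

namespace Cfsg.Agent.Lib.H1.Weil

open Matrix Cfsg.Agent.Lib.H12.LS2 Cfsg.Agent.Lib.H20.Weil

variable {F : Type*} [Field F] {n : ℕ}

theorem w3_hop_zero (ψ : AddChar F ℂ) : hop ψ (0 : Fin n ⊕ Fin n → F) = 1 := by
  apply LinearMap.ext
  intro f
  funext x
  rw [hop_apply]
  have hA : pA (0 : Fin n ⊕ Fin n → F) = 0 := rfl
  have hB : pB (0 : Fin n ⊕ Fin n → F) = 0 := rfl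
  rw [hA, hB]
  simp

variable [Fintype F]

theorem trace_hop_zero (ψ : AddChar F ℂ) :
    LinearMap.trace ℂ ((Fin n → F) → ℂ) (hop ψ (0 : Fin n ⊕ Fin n → F)) = (Fintype.card F : ℂ) ^ n := by
  classical
  rw [w3_hop_zero, LinearMap.trace_one, Module.finrank_fintype_fun_eq_card, Fintype.card_fun]
  simp

theorem trace_hop_ne (ψ : AddChar F ℂ) (hψ : ψ ≠ 1) (u : Fin n ⊕ Fin n → F) (hu : u ≠ 0) :
    LinearMap.trace ℂ ((Fin n → F) → ℂ) (hop ψ u) = 0 := by
  classical
  rw [LinearMap.trace_eq_matrix_trace ℂ (Pi.basisFun ℂ (Fin n → F)), Matrix.trace]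
  have hentry : ∀ x, (LinearMap.toMatrix (Pi.basisFun ℂ (Fin n → F)) (Pi.basisFun ℂ (Fin n → F))
      (hop ψ u)).diag x =
        ψ (pB u ⬝ᵥ x + 2⁻¹ * (pA u ⬝ᵥ pB u)) * (if x + pA u = x then 1 else 0) := by
    intro x
    rw [Matrix.diag_apply, LinearMap.toMatrix_apply, Pi.basisFun_repr, Pi.basisFun_apply, hop_apply,
      Pi.single_apply]
  rw [Finset.sum_congr rfl (fun x _ => hentry x)]
  by_cases hA : pA u = 0
  · have hB : pB u ≠ 0 := by
      intro hB
      apply hu
      funext i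
      rcases i with i | i
      · exact congrFun hA i
      · exact congrFun hB i
    obtain ⟨i, hi⟩ : ∃ i, pB u i ≠ 0 := by
      by_contra hcon
      push Not at hcon
      exact hB (funext hcon)
    -- the character x ↦ ψ (pB u ⬝ᵥ x)
    let φ : AddChar (Fin n → F) ℂ :=
      { toFun := fun x => ψ (pB u ⬝ᵥ x)
        map_zero_eq_one' := by simp
        map_add_eq_mul' := by
          intro x y
          rw [dotProduct_add, AddChar.map_add_eq_mul] }
    have hφ : φ ≠ 1 := by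
      obtain ⟨a, ha⟩ := AddChar.ne_one_iff.1 hψ
      apply AddChar.ne_one_iff.2
      refine ⟨Pi.single i (a / pB u i), ?_⟩
      show ψ (pB u ⬝ᵥ Pi.single i (a / pB u i)) ≠ 1
      rw [dotProduct_single, mul_div_cancel₀ _ hi]
      exact ha
    have hsum := AddChar.sum_eq_zero_of_ne_one hφ
    rw [← hsum]
    refine Finset.sum_congr rfl fun x _ => ?_
    rw [hA]
    simp [φ]
  · refine Finset.sum_eq_zero fun x _ => ?_
    rw [if_neg, mul_zero]
    intro h
    exact hA (add_eq_left.1 h)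

end Cfsg.Agent.Lib.H1.Weil
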